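import Mathlib

set_option autoImplicit false

namespace Cfsg.Agent.Helper4

open MulAction

/-- A group in which the trivial subgroup is maximal has prime order. -/
theorem prime_card_of_isCoatom_bot {G : Type*} [Group G] (h : IsCoatom (⊥ : Subgroup G)) :
    (Nat.card G).Prime := by
  have hall : ∀ H : Subgroup G, H = ⊥ ∨ H = ⊤ := by
    intro H
    rcases eq_or_ne H ⊥ with h0 | h0
    · exact Or.inl h0
    · exact Or.inr (h.2 H (bot_lt_iff_ne_bot.mpr h0))
  have hnt : Nontrivial G := by
    rw [← Subgroup.nontrivial_iff]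
    exact ⟨⟨⊥, ⊤, h.1⟩⟩
  obtain ⟨g, hg⟩ := exists_ne (1 : G)
  have hz : Subgroup.zpowers g = ⊤ :=
    (hall _).resolve_left (Subgroup.zpowers_ne_bot.2 hg)
  have hcyc : IsCyclic G := ⟨⟨g, (Subgroup.eq_top_iff' _).1 hz⟩⟩
  letI : CommGroup G := IsCyclic.commGroup
  haveI : IsSimpleGroup G := ⟨fun H _ => hall H⟩
  exact IsSimpleGroup.prime_card

/-- In a regular action the underlying set has the same cardinality as the group. -/
theorem card_eq_of_regular {G α : Type*} [Group G] [MulAction G α] [IsPretransitive G α]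
    (a : α) (h : stabilizer G a = ⊥) : Nat.card α = Nat.card G := by
  rw [← index_stabilizer_of_transitive G a, h, Subgroup.index_bot]

end Cfsg.Agent.Helper4
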