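import Mathlib
import Cfsg.Prelude.Def_OddOrderLocal
import Cfsg.Agent.Lead.BG9g
import Cfsg.Agent.Lead.TT7
import Cfsg.Agent.Helper10.AGClassic
import Cfsg.Agent.Helper26.QuadStable2
import Cfsg.Agent.Helper7.RankGraph

set_option autoImplicit false
set_option linter.unusedSectionVars false
set_option linter.unusedVariables false
set_option linter.style.haveILetI false

/-! # Bender–Glauberman §10, part (a): Sylow subgroups for primes in `σ(M)` -/

namespace Cfsg.Agent.Helper4.BG10

open Subgroup Cfsg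
open Cfsg.Agent.Helper14 (IsSylowIn cj map_cj_le_iff map_cj_mul map_cj_one map_cj_normalizer
  mem_normalizer_iff_map_cj map_cj_eq_self_of_mem le_normalizer_of_map_cj_le mem_map_cj)
open Cfsg.Agent.Lead.BG9 (InUniqueMaximal.mono inUniqueMaximal_of)

universe u
variable {G : Type u} [Group G] [Finite G]

/-- the Uniqueness Theorem (B&G 9.6) as a hypothesis -/
def Uniq (G : Type u) [Group G] : Prop :=
  ∀ K : Subgroup G, K ≠ ⊤ → ¬ Cfsg.RankLE 1 K →
    (¬ Cfsg.RankLE 2 K ∨ ¬ Cfsg.RankLE 2 (Subgroup.centralizer (K : Set G))) →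
      Cfsg.InUniqueMaximal K

variable {p : ℕ} [hp : Fact p.Prime]

/-- for `p ∈ σ(M)`, every Sylow `p`-subgroup of `M` has its normalizer inside `M` -/
theorem sigma_normalizer_le {M : Subgroup G} (hpM : p ∈ Cfsg.sigma M) {P : Subgroup G}
    (hP : IsSylowIn p P M) : normalizer (P : Set G) ≤ M := by
  obtain ⟨-, -, P₀, hP₀⟩ := hpM
  have h0 : IsSylowIn p ((P₀ : Subgroup M).map M.subtype) M :=
    Cfsg.Agent.Helper14.isSylowIn_of_sylow P₀
  obtain ⟨g, hg, rfl⟩ := h0.exists_conj hP
  rw [← map_cj_normalizer]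
  calc (normalizer ((((P₀ : Subgroup M).map M.subtype : Subgroup G)) : Set G)).map (cj g)
      ≤ M.map (cj g) := Subgroup.map_mono hP₀
    _ = M := map_cj_eq_self_of_mem hg

/-- for `p ∈ σ(M)`, every Sylow `p`-subgroup of `M` is a Sylow `p`-subgroup of `G` -/
theorem sigma_isSylowIn_top {M : Subgroup G} (hpM : p ∈ Cfsg.sigma M) {P : Subgroup G}
    (hP : IsSylowIn p P M) : IsSylowIn p P ⊤ :=
  Cfsg.Agent.Lead.BG8.isSylowIn_of_normalizer_le hP le_top
    (inf_le_right.trans (sigma_normalizer_le hpM hP))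

theorem sigma_ne_bot {M : Subgroup G} (hpM : p ∈ Cfsg.sigma M) {P : Subgroup G}
    (hP : IsSylowIn p P M) : P ≠ ⊥ := by
  rintro rfl
  have h1 := Cfsg.Agent.Lead.BG8.IsSylowIn.card_eq hP
  rw [Subgroup.card_bot] at h1
  have h2 : (Nat.card M).factorization p = 0 := by
    by_contra h
    have : 1 < p ^ (Nat.card M).factorization p := Nat.one_lt_pow h hp.out.one_lt
    omega
  have h3 := hpM.2.1
  rcases (Nat.factorization_eq_zero_iff _ _).mp h2 with h | h | h
  · exact h hp.out
  · exact h h3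
  · exact Nat.card_pos.ne' h

end Cfsg.Agent.Helper4.BG10
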