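import Mathlib
import Cfsg.Agent.Helper4.BG10a
import Cfsg.Agent.S1453

set_option autoImplicit false
set_option linter.unusedSectionVars false
set_option linter.unusedVariables false
set_option linter.style.haveILetI false

/-! # Bender–Glauberman Lemma 10.1: the critical subgroups -/

namespace Cfsg.Agent.Helper4.BG10

open Subgroup Cfsg
open Cfsg.Agent.Helper14 (IsSylowIn cj map_cj_le_iff map_cj_mul map_cj_one map_cj_normalizer
  mem_normalizer_iff_map_cj map_cj_eq_self_of_mem le_normalizer_of_map_cj_le mem_map_cj)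
open Cfsg.Agent.Lead.BG9 (InUniqueMaximal.mono inUniqueMaximal_of)
open Cfsg.Agent.Helper10 (agFam agK agFam_le agFam_isExt)

universe u
variable {G : Type u} [Group G] [Finite G] {p : ℕ} [hp : Fact p.Prime]

theorem rankLE_of_elementary {F : Subgroup G} {k : ℕ} (hF : Cfsg.IsElementaryAbelian p F)
    (hcard : p ^ k < Nat.card F) : ¬ Cfsg.RankLE k F := by
  intro h
  exact Cfsg.Agent.Lead.BG9.not_pRankLE_of_elementary le_rfl hF hcard (h p hp.out)

/-- a `p`-group of rank at least `3` has a normal elementary abelian subgroup of order `p ^ 2`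
which is a uniqueness subgroup -/
theorem exists_normal_uniq (hG : Cfsg.IsMinSimpleOddOrder G) (hU : Uniq G) {P : Subgroup G}
    (hPp : IsPGroup p P) (hPtop : P ≠ ⊤) (hr : ¬ Cfsg.PRankLE p 2 ↥P) :
    ∃ E : Subgroup G, E ≤ P ∧ P ≤ normalizer (E : Set G) ∧ Cfsg.IsElementaryAbelian p E ∧
      Nat.card E = p ^ 2 ∧ Cfsg.InUniqueMaximal E ∧
      (∀ e ∈ E, ∀ x ∈ P, ∀ y ∈ P, (e * x * e⁻¹ * x⁻¹) * y = y * (e * x * e⁻¹ * x⁻¹)) := by
  obtain ⟨U, hUn, hUe, hUcard⟩ :=
    Cfsg.Agent.Helper7.exists_normal_elemAb_sq_of_not_pRankLE (P := ↥P) p hPp hr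
  obtain ⟨X, hXP, hXe, hXcard'⟩ := Cfsg.Agent.Lead.TT.exists_elementary_of_not_pRankLE' 2 P hr
  have hXcard : p ^ 3 ≤ Nat.card X := hXcard'
  have hXab : ∀ a ∈ X, ∀ b ∈ X, a * b = b * a := fun a ha b hb =>
    Cfsg.Agent.Helper7.IsElementaryAbelian.commute hXe ha hb
  have hXtop : X ≠ ⊤ := Cfsg.Agent.Lead.BG9.ne_top_of_commute hG hXab
  have hp1 := hp.out.one_lt
  have h12 : p ^ 1 < p ^ 3 := Nat.pow_lt_pow_right hp1 (by norm_num)
  have h23 : p ^ 2 < p ^ 3 := Nat.pow_lt_pow_right hp1 (by norm_num)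
  have hXU : Cfsg.InUniqueMaximal X :=
    hU X hXtop (rankLE_of_elementary hXe (by omega)) (Or.inl (rankLE_of_elementary hXe (by omega)))
  set E : Subgroup G := U.map P.subtype with hE
  have hEP : E ≤ P := Cfsg.Agent.Helper14.map_subtype_le U
  have hEe : Cfsg.IsElementaryAbelian p E := by
    refine ⟨⟨⟨?_⟩⟩, ?_⟩
    · rintro ⟨_, a, ha, rfl⟩ ⟨_, b, hb, rfl⟩
      apply Subtype.ext
      have := Cfsg.Agent.Helper7.IsElementaryAbelian.commute hUe ha hb
      have h2 := congrArg Subtype.val this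
      simpa using h2
    · rintro _ ⟨a, ha, rfl⟩
      have := hUe.2 a ha
      have h2 := congrArg Subtype.val this
      simpa using h2
  have hEcard : Nat.card E = p ^ 2 := by
    rw [hE, Cfsg.Agent.Helper14.card_map_subtype]; exact hUcard
  have hPE : P ≤ normalizer (E : Set G) := by
    apply le_normalizer_of_map_cj_le
    rintro g hg _ ⟨_, ⟨u, hu, rfl⟩, rfl⟩
    refine ⟨⟨g, hg⟩ * u * ⟨g, hg⟩⁻¹, hUn.conj_mem u hu ⟨g, hg⟩, ?_⟩
    simp
  obtain ⟨X₀, hX₀X, hX₀C, hX₀e, hX₀nc⟩ :=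
    Cfsg.Agent.Lead.BG9.exists_noncyclic_centralizing hPp hEP hPE hEcard hXP hXe hXcard
  have hX₀U : Cfsg.InUniqueMaximal X₀ := by
    refine Cfsg.Agent.Lead.BG9.uniq_of_centralizes hG hXU ?_ le_rfl hX₀e hX₀nc
    intro a ha
    rw [mem_centralizer_iff]
    intro b hb
    exact hXab b hb a (hX₀X ha)
  have hEU : Cfsg.InUniqueMaximal E := by
    refine Cfsg.Agent.Lead.BG9.uniq_of_centralizes hG hX₀U ?_ le_rfl hEe
      (Cfsg.Agent.Lead.BG9.not_isCyclic_of_sq_le hEe hEcard.ge)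
    intro a ha
    rw [mem_centralizer_iff]
    intro b hb
    exact (mem_centralizer_iff.mp (hX₀C hb) a ha).symm
  refine ⟨E, hEP, hPE, hEe, hEcard, hEU, ?_⟩
  -- `E ≤ Z₂(P)`
  have hZ2 := Cfsg.Agent.S1453.le_upperCentralSeries_two (G := ↥P) hPp U (hUn := hUn) hUcard
  rintro _ ⟨u, hu, rfl⟩ x hx y hy
  have h1 := hZ2 hu
  rw [show (2 : ℕ) = 1 + 1 from rfl, Subgroup.mem_upperCentralSeries_succ_iff] at h1
  have h2 := h1 ⟨x, hx⟩
  rw [Subgroup.upperCentralSeries_one, mem_center_iff] at h2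
  have h3 := h2 ⟨y, hy⟩
  have h4 := congrArg Subtype.val h3
  simp only [Subgroup.coe_mul, Subgroup.coe_inv] at h4
  exact h4.symm

end Cfsg.Agent.Helper4.BG10
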