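import Mathlib
import Cfsg.Agent.Helper4.BG10b

set_option autoImplicit false
set_option linter.unusedSectionVars false
set_option linter.unusedVariables false
set_option linter.style.haveILetI false

/-! # Bender–Glauberman Lemma 10.1: normalizers of the critical subgroups lie in `M` -/

namespace Cfsg.Agent.Helper4.BG10

open Subgroup Cfsg
open scoped commutatorElement
open Cfsg.Agent.Helper14 (IsSylowIn cj map_cj_le_iff map_cj_mul map_cj_one map_cj_normalizer
  mem_normalizer_iff_map_cj map_cj_eq_self_of_mem le_normalizer_of_map_cj_le mem_map_cj)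
open Cfsg.Agent.Lead.BG9 (InUniqueMaximal.mono inUniqueMaximal_of)
open Cfsg.Agent.Helper10 (agFam agK agFam_le agFam_isExt)

universe u
variable {G : Type u} [Group G] [Finite G] {p : ℕ} [hp : Fact p.Prime]

/-- p-stability: an element `e` of a finite group `N` of odd order acting quadratically on the normal
`p`-subgroup `A` lies in `O_{p',p}(N)` provided `C_N(A) ≤ O_{p',p}(N)` -/
theorem mem_pPrimePCore_of_quadratic {N : Type u} [Group N] [Finite N] (hodd : Odd (Nat.card N))
    (hp2 : p ≠ 2) (A : Subgroup N) [A.Normal] (hAp : IsPGroup p A)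
    (hC : centralizer (A : Set N) ≤ Cfsg.pPrimePCore p N) (a : N)
    (hq : ∀ x ∈ A, ⁅⁅x, a⁆, a⁆ = 1) : a ∈ Cfsg.pPrimePCore p N := by
  obtain ⟨D, hDn, hD1, hD2, hD3⟩ :=
    Cfsg.Agent.Helper26.exists_normal_of_quad_frat' hp2 A hAp
      (Cfsg.Agent.Helper26.ab2_of_odd hodd) a (fun x hx => by rw [hq x hx]; exact one_mem _)
  set π := QuotientGroup.mk' (Cfsg.pPrimeCore p N) with hπ
  have hn : (D.map π).Normal := Subgroup.Normal.map hDn _ (QuotientGroup.mk'_surjective _)
  have hpg : IsPGroup p ↥(D.map π) := by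
    rintro ⟨_, d, hd, rfl⟩
    obtain ⟨k, hk⟩ := hD2 d hd
    obtain ⟨j, hj⟩ :=
      Cfsg.Agent.Helper7.exists_pow_mem_pPrimeCore_of_mem_pPrimePCore (hC hk)
    refine ⟨k + j, ?_⟩
    apply Subtype.ext
    simp only [SubgroupClass.coe_pow, Subgroup.coe_one]
    rw [← map_pow, pow_add, pow_mul, ← MonoidHom.mem_ker, hπ, QuotientGroup.ker_mk']
    exact hj
  have hle : D.map π ≤ Cfsg.pCore p (N ⧸ Cfsg.pPrimeCore p N) :=
    Cfsg.Agent.Helper14.le_pCore p hn hpg
  exact hle ⟨a, hD3, rfl⟩


theorem agFam_ne_bot (P : Sylow p G) (hPne : (P : Subgroup G) ≠ ⊥) {T : Subgroup G}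
    (hT : T ∈ agFam p P (agK p)) : T ≠ ⊥ := by
  rintro rfl
  apply hPne
  rw [eq_bot_iff]
  refine le_trans ?_ (hT.2 true)
  refine le_inf le_rfl ?_
  intro x _
  apply (le_sup_right : centralizer ((⊥ : Subgroup G) : Set G) ≤ agK p true ⊥)
  rw [mem_centralizer_iff]
  intro y hy
  have : y = 1 := by simpa using hy
  subst this
  simp

/-- in the rank at most `2` case the only critical subgroup is `P` itself -/
theorem agFam_eq_of_rank_two (hG : Cfsg.IsMinSimpleOddOrder G) (P : Sylow p G)
    (hPtop : (P : Subgroup G) ≠ ⊤) (hPne : (P : Subgroup G) ≠ ⊥)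
    (hr : Cfsg.PRankLE p 2 ↥(P : Subgroup G)) {T : Subgroup G}
    (hT : T ∈ agFam p P (agK p)) : T = (P : Subgroup G) := by
  have hTP := agFam_le P hT
  have hext := agFam_isExt P hT
  have hTne := agFam_ne_bot P hPne hT
  have hTtop : T ≠ ⊤ := fun h => hPtop (top_le_iff.mp (h ▸ hTP))
  have hNtop : normalizer (T : Set G) ≠ ⊤ :=
    Cfsg.Agent.Lead.TT.normalizer_ne_top_of_simple hG.2.1 hTne hTtop
  have hNsolv : Group.IsSolvable ↥(normalizer (T : Set G)) := hG.2.2.2 _ hNtop
  have hRp : IsPGroup p ↥((P : Subgroup G) ⊓ normalizer (T : Set G)) := P.2.to_le inf_le_left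
  have hR : IsSylowIn p ((P : Subgroup G) ⊓ normalizer (T : Set G)) (normalizer (T : Set G)) :=
    Cfsg.Agent.Helper10.isSylowIn_of_not_dvd_relIndex inf_le_right hRp hext
  have hTR : T ≤ (P : Subgroup G) ⊓ normalizer (T : Set G) := le_inf hTP le_normalizer
  have hRne : (P : Subgroup G) ⊓ normalizer (T : Set G) ≠ ⊥ := by
    intro h
    exact hTne (eq_bot_iff.mpr (h ▸ hTR))
  have hrR : Cfsg.PRankLE p 2 ↥((P : Subgroup G) ⊓ normalizer (T : Set G)) := by
    by_contra h
    exact Cfsg.Agent.Lead.BG9.not_pRankLE_of_le (inf_le_left) h hr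
  have h1 := Cfsg.Agent.Lead.BG9.le_pPrimePCore_of_rank_two hG.1 hNsolv hR hRne hrR
    inf_le_right hRp
  have h2 : (P : Subgroup G) ⊓ normalizer (T : Set G) ≤ T :=
    le_trans (le_inf inf_le_left h1) (hT.2 false)
  by_contra hne
  have hlt : T < (P : Subgroup G) := lt_of_le_of_ne hTP hne
  have := Cfsg.Agent.Helper11.lt_inf_normalizer (P : Subgroup G) T P.2 hlt
  exact absurd (this.trans_le h2) (lt_irrefl _)

/-- **the critical step of B&G Lemma 10.1**: the normalizers of the Alperin–Goldschmidt subgroups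
of a Sylow `p`-subgroup `P ≤ M` with `N_G(P) ≤ M` lie in `M` -/
theorem normalizer_le_of_mem_agFam (hG : Cfsg.IsMinSimpleOddOrder G) (hU : Uniq G)
    {M : Subgroup G} (hM : IsCoatom M) (P : Sylow p G) (hPM : (P : Subgroup G) ≤ M)
    (hNP : normalizer ((P : Subgroup G) : Set G) ≤ M) (hPne : (P : Subgroup G) ≠ ⊥)
    {T : Subgroup G} (hT : T ∈ agFam p P (agK p)) : normalizer (T : Set G) ≤ M := by
  have hPtop : (P : Subgroup G) ≠ ⊤ := fun h => hM.1 (top_le_iff.mp (h ▸ hPM))
  by_cases hr : Cfsg.PRankLE p 2 ↥(P : Subgroup G)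
  · rw [agFam_eq_of_rank_two hG P hPtop hPne hr hT]
    exact hNP
  · obtain ⟨E, hEP, hPE, hEe, hEcard, hEU, hEZ⟩ := exists_normal_uniq hG hU P.2 hPtop hr
    have hTP := agFam_le P hT
    have hTne := agFam_ne_bot P hPne hT
    have hTtop : T ≠ ⊤ := fun h => hPtop (top_le_iff.mp (h ▸ hTP))
    have hNtop : normalizer (T : Set G) ≠ ⊤ :=
      Cfsg.Agent.Lead.TT.normalizer_ne_top_of_simple hG.2.1 hTne hTtop
    have hTp : IsPGroup p ↥T := P.2.to_le hTP
    have hp2 : p ≠ 2 := by
      apply Cfsg.Agent.Lead.BG8.ne_two_of_dvd_card_of_odd hG.1 (F := E)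
      rw [hEcard]
      exact dvd_pow_self p (by norm_num)
    -- central elements of `P` lie in `T`
    have hZT : ∀ z ∈ (P : Subgroup G), (∀ y ∈ (P : Subgroup G), z * y = y * z) → z ∈ T := by
      intro z hz hzc
      apply hT.2 true
      refine ⟨hz, ?_⟩
      apply (le_sup_right : centralizer (T : Set G) ≤ agK p true T)
      rw [mem_centralizer_iff]
      intro y hy
      exact (hzc y (hTP hy)).symm
    -- `E` normalizes `T`
    have hET : E ≤ normalizer (T : Set G) := by
      apply le_normalizer_of_map_cj_le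
      rintro e he _ ⟨t, ht, rfl⟩
      have h1 : e * t * e⁻¹ * t⁻¹ ∈ T :=
        hZT _ (mul_mem (mul_mem (mul_mem (hEP he) (hTP ht)) (inv_mem (hEP he))) (inv_mem (hTP ht)))
          (fun y hy => hEZ e he t (hTP ht) y hy)
      have h2 : cj e t = (e * t * e⁻¹ * t⁻¹) * t := by
        rw [Cfsg.Agent.Helper14.cj_apply]; group
      rw [h2]
      exact mul_mem h1 ht
    -- `E ≤ T` by `p`-stability
    have hEleT : E ≤ T := by
      intro e he
      apply hT.2 false
      refine ⟨hEP he, ?_⟩
      haveI : (T.subgroupOf (normalizer (T : Set G))).Normal := Subgroup.normal_in_normalizer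
      have hoddN : Odd (Nat.card ↥(normalizer (T : Set G))) :=
        Odd.of_dvd_nat hG.1 (card_subgroup_dvd_card _)
      have hC : centralizer ((T.subgroupOf (normalizer (T : Set G)) :
          Subgroup ↥(normalizer (T : Set G))) : Set ↥(normalizer (T : Set G))) ≤
          Cfsg.pPrimePCore p ↥(normalizer (T : Set G)) := by
        intro c hc
        have hcG : (c : G) ∈ centralizer (T : Set G) := by
          rw [mem_centralizer_iff]
          intro t ht
          have := mem_centralizer_iff.mp hc ⟨t, le_normalizer ht⟩ (mem_subgroupOf.mpr ht)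
          exact congrArg Subtype.val this
        obtain ⟨v, hv, hvc⟩ := Cfsg.Agent.Helper10.agFam_centralizer_le P hT hcG
        have : v = c := Subtype.ext hvc
        rwa [this] at hv
      have hmem := mem_pPrimePCore_of_quadratic (N := ↥(normalizer (T : Set G))) hoddN hp2
        (T.subgroupOf (normalizer (T : Set G))) hTp.comap_subtype hC ⟨e, hET he⟩ ?_
      · exact ⟨⟨e, hET he⟩, hmem, rfl⟩
      · intro x hx
        rw [mem_subgroupOf] at hx
        apply Subtype.ext
        have hxP : (x : G) ∈ (P : Subgroup G) := hTP hx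
        -- `[x, e] ∈ E`
        have h1 : (x : G) * e * (x : G)⁻¹ ∈ E := by
          have := (mem_normalizer_iff.mp (hPE hxP) e).mp he
          exact this
        have h2 : (x : G) * e * (x : G)⁻¹ * e⁻¹ ∈ E := mul_mem h1 (inv_mem he)
        have h3 := Cfsg.Agent.Helper7.IsElementaryAbelian.commute hEe h2 he
        simp only [commutatorElement_def, Subgroup.coe_mul, Subgroup.coe_inv, Subgroup.coe_one]
        rw [h3]
        group
    have hTU : Cfsg.InUniqueMaximal T := InUniqueMaximal.mono hEU hEleT hTtop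
    obtain ⟨L, hL, hNL⟩ := (eq_top_or_exists_le_coatom _).resolve_left hNtop
    obtain ⟨M', ⟨hM', hEM'⟩, huniq⟩ := hEU
    have h1 : L = M' := huniq L ⟨hL, hEleT.trans (le_normalizer.trans hNL)⟩
    have h2 : M = M' := huniq M ⟨hM, hEP.trans hPM⟩
    rw [h2, ← h1]
    exact hNL

end Cfsg.Agent.Helper4.BG10
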