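import Mathlib
import Cfsg.Agent.Helper4.BG10c

set_option autoImplicit false
set_option linter.unusedSectionVars false
set_option linter.unusedVariables false
set_option linter.style.haveILetI false

/-! # Bender–Glauberman Lemma 10.1 (a), (b) -/

namespace Cfsg.Agent.Helper4.BG10

open Subgroup Cfsg
open Cfsg.Agent.Helper14 (IsSylowIn cj map_cj_le_iff map_cj_mul map_cj_one map_cj_normalizer
  mem_normalizer_iff_map_cj map_cj_eq_self_of_mem le_normalizer_of_map_cj_le mem_map_cj)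
open Cfsg.Agent.Lead.BG9 (InUniqueMaximal.mono inUniqueMaximal_of)
open Cfsg.Agent.Helper10 (agFam agK agFam_le agFam_isExt)

universe u
variable {G : Type u} [Group G] [Finite G] {p : ℕ} [hp : Fact p.Prime]

/-- a Sylow subgroup of `G` (in the relative sense) as a term of `Sylow p G` -/
def sylowOfTop {P : Subgroup G} (h : IsSylowIn p P ⊤) : Sylow p G :=
  ⟨P, h.2.1, fun {Q} hQ hle => h.2.2 Q le_top hQ hle⟩

theorem coe_sylowOfTop {P : Subgroup G} (h : IsSylowIn p P ⊤) :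
    ((sylowOfTop h : Sylow p G) : Subgroup G) = P := rfl

/-- **B&G Lemma 10.1(a)**, elementwise, for a subgroup of a fixed Sylow subgroup `P` of `M`. -/
theorem sigma_fusion_aux (hG : Cfsg.IsMinSimpleOddOrder G) (hU : Uniq G)
    {M : Subgroup G} (hM : IsCoatom M) (hpM : p ∈ Cfsg.sigma M) {P : Subgroup G}
    (hP : IsSylowIn p P M) {X : Subgroup G} (hXP : X ≤ P) (g : G)
    (hg : X.map (cj g) ≤ P) : ∃ m ∈ M, ∃ c ∈ centralizer (X : Set G), g = m * c := by
  have hPtop := sigma_isSylowIn_top hpM hP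
  have hNP := sigma_normalizer_le hpM hP
  have hPne := sigma_ne_bot hpM hP
  set S : Sylow p G := sylowOfTop hPtop with hS
  have hSP : (S : Subgroup G) = P := rfl
  have hA : (X : Set G) ⊆ ((S : Subgroup G) : Set G) := hXP
  have hAg : Cfsg.Agent.Helper10.rc g⁻¹ (X : Set G) ⊆ ((S : Subgroup G) : Set G) := by
    rintro _ ⟨x, hx, rfl⟩
    apply hg
    refine ⟨x, hx, ?_⟩
    simp [Cfsg.Agent.Helper14.cj_apply]
  obtain ⟨c, hc, l, hl, hgl⟩ := Cfsg.Agent.Helper10.ag_set S (agK p)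
    (fun i T _ => Cfsg.Agent.Helper10.agK_le p i T)
    (fun i T _ => Cfsg.Agent.Helper10.normalizer_le_normalizer_agK p i T)
    (fun i T hT => Cfsg.Agent.Helper10.agK_pow_mem i (S.2.to_le (Cfsg.Agent.Helper10.tameFam_le hT)))
    (X : Set G) g⁻¹ hA hAg
  have hlM : Cfsg.Agent.Helper10.lprod l ∈ M :=
    Cfsg.Agent.Helper10.Dec.lprod_mem
      (fun T hT => normalizer_le_of_mem_agFam hG hU hM S hP.1 hNP hPne hT) hl
  refine ⟨(Cfsg.Agent.Helper10.lprod l)⁻¹, inv_mem hlM, c⁻¹, inv_mem hc, ?_⟩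
  rw [← mul_inv_rev, ← hgl, inv_inv]

/-- **B&G Lemma 10.1(a)**: if `p ∈ σ(M)`, `X ≤ M` is a `p`-subgroup and `gXg⁻¹ ≤ M`, then
`g = m c` with `m ∈ M`, `c ∈ C_G(X)`. -/
theorem sigma_fusion (hG : Cfsg.IsMinSimpleOddOrder G) (hU : Uniq G)
    {M : Subgroup G} (hM : IsCoatom M) (hpM : p ∈ Cfsg.sigma M) {X : Subgroup G}
    (hXp : IsPGroup p X) (hXM : X ≤ M) (g : G) (hg : X.map (cj g) ≤ M) :
    ∃ m ∈ M, ∃ c ∈ centralizer (X : Set G), g = m * c := by
  obtain ⟨P, hP, hXP⟩ := Cfsg.Agent.Helper14.exists_isSylowIn_ge hXM hXp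
  obtain ⟨P₂, hP₂, hXP₂⟩ := Cfsg.Agent.Helper14.exists_isSylowIn_ge hg (hXp.map _)
  haveI : Finite ↥M := inferInstance
  obtain ⟨m₀, hm₀, rfl⟩ := hP.exists_conj hP₂
  have h1 : X.map (cj (m₀⁻¹ * g)) ≤ P := by
    rw [← map_cj_mul, map_cj_le_iff, inv_inv]
    exact hXP₂
  obtain ⟨m, hm, c, hc, hmc⟩ := sigma_fusion_aux hG hU hM hpM hP hXP (m₀⁻¹ * g) h1
  refine ⟨m₀ * m, mul_mem hm₀ hm, c, hc, ?_⟩
  rw [mul_assoc, ← hmc]
  group

/-- **B&G Lemma 10.1(b)**: `N_G(X) = N_M(X) C_G(X)`. -/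
theorem sigma_normalizer_eq (hG : Cfsg.IsMinSimpleOddOrder G) (hU : Uniq G)
    {M : Subgroup G} (hM : IsCoatom M) (hpM : p ∈ Cfsg.sigma M) {X : Subgroup G}
    (hXp : IsPGroup p X) (hXM : X ≤ M) :
    normalizer (X : Set G) = (M ⊓ normalizer (X : Set G)) ⊔ centralizer (X : Set G) := by
  apply le_antisymm
  · intro n hn
    have h1 : X.map (cj n) ≤ M := by
      rw [mem_normalizer_iff_map_cj.mp hn]; exact hXM
    obtain ⟨m, hm, c, hc, rfl⟩ := sigma_fusion hG hU hM hpM hXp hXM n h1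
    have hcN : c ∈ normalizer (X : Set G) := centralizer_le_normalizer _ hc
    have hmN : m ∈ normalizer (X : Set G) := by
      have : m = m * c * c⁻¹ := by group
      rw [this]
      exact mul_mem hn (inv_mem hcN)
    exact mul_mem (le_sup_left (b := centralizer (X : Set G)) ⟨hm, hmN⟩)
      (le_sup_right (a := M ⊓ normalizer (X : Set G)) hc)
  · exact sup_le inf_le_right (centralizer_le_normalizer _)

end Cfsg.Agent.Helper4.BG10
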