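import Mathlib
import Cfsg.Agent.Helper4.BG10d
import Cfsg.Agent.Helper9.NormalElemAb
import Cfsg.Agent.Helper26.Thompson
import Cfsg.Agent.S0065

set_option autoImplicit false
set_option linter.unusedSectionVars false
set_option linter.unusedVariables false
set_option linter.style.haveILetI false

/-! # Bender–Glauberman §10: `α(M) ⊆ σ(M)`, Lemmas 10.5 and 10.6 -/

namespace Cfsg.Agent.Helper4.BG10

open Subgroup Cfsg
open Cfsg.Agent.Helper14 (IsSylowIn cj map_cj_le_iff map_cj_mul map_cj_one map_cj_normalizer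
  mem_normalizer_iff_map_cj map_cj_eq_self_of_mem le_normalizer_of_map_cj_le mem_map_cj)
open Cfsg.Agent.Lead.BG9 (InUniqueMaximal.mono inUniqueMaximal_of)

universe u
variable {G : Type u} [Group G] [Finite G] {p : ℕ} [hp : Fact p.Prime]

theorem isPGroup_of_elementary {F : Subgroup G} (hF : Cfsg.IsElementaryAbelian p F) :
    IsPGroup p F := Cfsg.Agent.Helper14.isPGroup_of_isElementaryAbelian hF

theorem elementary_ne_top (hG : Cfsg.IsMinSimpleOddOrder G) {F : Subgroup G}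
    (hF : Cfsg.IsElementaryAbelian p F) : F ≠ ⊤ :=
  Cfsg.Agent.Lead.BG9.ne_top_of_commute hG
    (fun a ha b hb => Cfsg.Agent.Helper7.IsElementaryAbelian.commute hF ha hb)

/-- an elementary abelian subgroup of order at least `p ^ 3` is a uniqueness subgroup -/
theorem uniq_of_cube (hG : Cfsg.IsMinSimpleOddOrder G) (hU : Uniq G) {F : Subgroup G}
    (hF : Cfsg.IsElementaryAbelian p F) (hcard : p ^ 3 ≤ Nat.card F) :
    Cfsg.InUniqueMaximal F := by
  have hp1 := hp.out.one_lt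
  have h12 : p ^ 1 < p ^ 3 := Nat.pow_lt_pow_right hp1 (by norm_num)
  have h23 : p ^ 2 < p ^ 3 := Nat.pow_lt_pow_right hp1 (by norm_num)
  exact hU F (elementary_ne_top hG hF) (rankLE_of_elementary hF (by omega))
    (Or.inl (rankLE_of_elementary hF (by omega)))

/-- if the unique-maximal subgroup `F` lies in the maximal subgroup `M`, every proper overgroup of
`F` lies in `M` -/
theorem le_of_uniq {M F Y : Subgroup G} (hM : IsCoatom M) (hF : Cfsg.InUniqueMaximal F)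
    (hFM : F ≤ M) (hFY : F ≤ Y) (hY : Y ≠ ⊤) : Y ≤ M := by
  obtain ⟨M', ⟨hM', hFM'⟩, huniq⟩ := hF
  obtain ⟨L, hL, hYL⟩ := (eq_top_or_exists_le_coatom Y).resolve_left hY
  have h1 : L = M' := huniq L ⟨hL, hFY.trans hYL⟩
  have h2 : M = M' := huniq M ⟨hM, hFM⟩
  rw [h2, ← h1]
  exact hYL

/-- `α(M) ⊆ σ(M)` -/
theorem alpha_subset_sigma (hG : Cfsg.IsMinSimpleOddOrder G) (hU : Uniq G) {M : Subgroup G}
    (hM : IsCoatom M) (hpα : p ∈ Cfsg.alpha M) : p ∈ Cfsg.sigma M := by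
  obtain ⟨F, hFM, hFe, hFcard⟩ :=
    Cfsg.Agent.Lead.TT.exists_elementary_of_not_pRankLE' 2 M hpα.2
  have hFcard3 : p ^ 3 ≤ Nat.card F := hFcard
  have hFU := uniq_of_cube hG hU hFe hFcard3
  have hFp := isPGroup_of_elementary hFe
  obtain ⟨P, hP, hFP⟩ := Cfsg.Agent.Helper14.exists_isSylowIn_ge hFM hFp
  have hFne : F ≠ ⊥ := by
    rintro rfl
    exact Cfsg.Agent.Lead.BG9.not_inUniqueMaximal_bot hG hFU
  have hpM : p ∣ Nat.card M := by
    have h1 : p ^ 3 ∣ Nat.card F := by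
      obtain ⟨k, hk⟩ := IsPGroup.iff_card.mp hFp
      rw [hk] at hFcard3 ⊢
      exact pow_dvd_pow p ((Nat.pow_le_pow_iff_right hp.out.one_lt).mp hFcard3)
    exact (dvd_pow_self p (by norm_num)).trans (h1.trans (card_dvd_of_le hFM))
  have hPne : P ≠ ⊥ := fun h => hFne (eq_bot_iff.mpr (h ▸ hFP))
  have hPtop : P ≠ ⊤ := fun h => hM.1 (top_le_iff.mp (h ▸ hP.1))
  have hN : normalizer (P : Set G) ≤ M :=
    le_of_uniq hM hFU hFM (hFP.trans le_normalizer)
      (Cfsg.Agent.Lead.TT.normalizer_ne_top_of_simple hG.2.1 hPne hPtop)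
  refine ⟨hp.out, hpM, hP.toSylow, ?_⟩
  rw [hP.toSylow_map]
  exact hN

theorem card_eq_sq_of_lt {A B : Subgroup G} (hB : Cfsg.IsElementaryAbelian p B)
    (hA : Nat.card A = p ^ 2) (hAB : A < B) : p ^ 3 ≤ Nat.card B := by
  obtain ⟨k, hk⟩ := IsPGroup.iff_card.mp (isPGroup_of_elementary hB)
  have h1 : Nat.card A < Nat.card B := Cfsg.Agent.Helper10.card_lt_of_lt hAB
  rw [hk, hA] at h1
  rw [hk]
  have h2 : 2 < k := (Nat.pow_lt_pow_iff_right hp.out.one_lt).mp h1
  exact Nat.pow_le_pow_right hp.out.pos h2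

/-- **B&G Lemma 10.5 (part)**: for `p ∉ σ(M)`, an elementary abelian subgroup of order `p ^ 2` of `M`
is a maximal elementary abelian subgroup of `G` -/
theorem sigma'_rank2_max (hG : Cfsg.IsMinSimpleOddOrder G) (hU : Uniq G) {M : Subgroup G}
    (hM : IsCoatom M) (hpσ : p ∉ Cfsg.sigma M) {A : Subgroup G} (hAM : A ≤ M)
    (hAe : Cfsg.IsElementaryAbelian p A) (hAcard : Nat.card A = p ^ 2)
    (B : Subgroup G) (hBe : Cfsg.IsElementaryAbelian p B) (hAB : A ≤ B) : B = A := by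
  by_contra hne
  have hlt : A < B := lt_of_le_of_ne hAB (Ne.symm hne)
  have hBcard := card_eq_sq_of_lt hBe hAcard hlt
  have hp1 := hp.out.one_lt
  have h12 : p ^ 1 < p ^ 2 := Nat.pow_lt_pow_right hp1 (by norm_num)
  have h23 : p ^ 2 < p ^ 3 := Nat.pow_lt_pow_right hp1 (by norm_num)
  have hBC : B ≤ centralizer (A : Set G) := by
    intro b hb
    rw [mem_centralizer_iff]
    intro a ha
    exact Cfsg.Agent.Helper7.IsElementaryAbelian.commute hBe (hAB ha) hb
  have hAU : Cfsg.InUniqueMaximal A := by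
    refine hU A (elementary_ne_top hG hAe) (rankLE_of_elementary hAe (by omega)) (Or.inr ?_)
    intro h
    exact Cfsg.Agent.Lead.BG9.not_pRankLE_of_elementary hBC hBe (by omega) (h p hp.out)
  have hBM : B ≤ M := le_of_uniq hM hAU hAM hAB (elementary_ne_top hG hBe)
  apply hpσ
  apply alpha_subset_sigma hG hU hM
  exact ⟨hp.out, Cfsg.Agent.Lead.BG9.not_pRankLE_of_elementary hBM hBe (by omega)⟩

/-- an elementary abelian subgroup of order exactly `p ^ 2` in a subgroup of rank exactly `2` -/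
theorem exists_elementary_sq {M : Subgroup G} (hr2 : Cfsg.PRankLE p 2 M)
    (hr1 : ¬ Cfsg.PRankLE p 1 M) :
    ∃ A : Subgroup G, A ≤ M ∧ Cfsg.IsElementaryAbelian p A ∧ Nat.card A = p ^ 2 := by
  obtain ⟨F, hFM, hFe, hFcard⟩ := Cfsg.Agent.Lead.TT.exists_elementary_of_not_pRankLE' 1 M hr1
  refine ⟨F, hFM, hFe, le_antisymm ?_ hFcard⟩
  by_contra h
  exact Cfsg.Agent.Lead.BG9.not_pRankLE_of_elementary hFM hFe (not_le.mp h) hr2

/-- **B&G Lemma 10.5 (part)**: for `p ∉ σ(M)` with `M` of `p`-rank `2`, `p` is not an ideal prime -/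
theorem sigma'_rank2_not_ideal (hG : Cfsg.IsMinSimpleOddOrder G) (hU : Uniq G) {M : Subgroup G}
    (hM : IsCoatom M) (hpσ : p ∉ Cfsg.sigma M) (hr2 : Cfsg.PRankLE p 2 M)
    (hr1 : ¬ Cfsg.PRankLE p 1 M) : ¬ Cfsg.IsIdealPrime p G := by
  rintro ⟨-, -, h⟩
  obtain ⟨A, hAM, hAe, hAcard⟩ := exists_elementary_sq hr2 hr1
  obtain ⟨P, hAP⟩ := (isPGroup_of_elementary hAe).exists_le_sylow
  obtain ⟨B, -, hBe, hAB⟩ := h P A hAP hAe hAcard
  exact hAB.ne (sigma'_rank2_max hG hU hM hpσ hAM hAe hAcard B hBe hAB.le).symm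

end Cfsg.Agent.Helper4.BG10
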