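import Mathlib
import Cfsg.Agent.Helper4.BG10e
import Cfsg.Agent.Helper20.KulI
import Cfsg.Agent.Helper17.Basic

set_option autoImplicit false
set_option linter.unusedSectionVars false
set_option linter.unusedVariables false
set_option linter.style.haveILetI false

/-! # Bender–Glauberman Lemma 10.6 -/

namespace Cfsg.Agent.Helper4.BG10

open Subgroup Cfsg
open Cfsg.Agent.Helper14 (IsSylowIn cj map_cj_le_iff map_cj_mul map_cj_one map_cj_normalizer
  mem_normalizer_iff_map_cj map_cj_eq_self_of_mem le_normalizer_of_map_cj_le mem_map_cj)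
open Cfsg.Agent.Lead.BG9 (InUniqueMaximal.mono inUniqueMaximal_of)

universe u
variable {G : Type u} [Group G] [Finite G] {p : ℕ} [hp : Fact p.Prime]

/-- in a cyclic `p`-group `P`, a subgroup `X` of order `p` is normalized by `N_G(P)` -/
theorem normalizer_le_normalizer_of_isCyclic {P X : Subgroup G} (hc : IsCyclic ↥P) (hXP : X ≤ P) :
    normalizer (P : Set G) ≤ normalizer (X : Set G) := by
  intro g hg
  rw [mem_normalizer_iff_map_cj]
  have hPg : P.map (cj g) = P := mem_normalizer_iff_map_cj.mp hg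
  have h1 : X.map (cj g) ≤ P := by
    calc X.map (cj g) ≤ P.map (cj g) := Subgroup.map_mono hXP
      _ = P := hPg
  have h2 : Nat.card ↥((X.map (cj g)).subgroupOf P) = Nat.card ↥(X.subgroupOf P) := by
    rw [Nat.card_congr (subgroupOfEquivOfLe h1).toEquiv,
      Nat.card_congr (subgroupOfEquivOfLe hXP).toEquiv]
    exact Cfsg.Agent.Lead.TT.card_map_conj X g
  have h3 := Cfsg.Agent.Helper20.eq_of_card_eq_of_isCyclic _ _ h2
  have h4 := congrArg (Subgroup.map P.subtype) h3
  rwa [Cfsg.Agent.Helper14.map_subtype_subgroupOf h1,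
    Cfsg.Agent.Helper14.map_subtype_subgroupOf hXP] at h4

/-- in a noncyclic `p`-group (`p` odd) every subgroup of order `p` lies in an elementary abelian
subgroup of order `p ^ 2` -/
theorem exists_elementary_sq_ge (hp2 : p ≠ 2) {P X : Subgroup G} (hPp : IsPGroup p P)
    (hPnc : ¬ IsCyclic ↥P) (hXP : X ≤ P) (hX : Nat.card X = p) :
    ∃ A : Subgroup G, A ≤ P ∧ Cfsg.IsElementaryAbelian p A ∧ Nat.card A = p ^ 2 ∧ X ≤ A := by
  obtain ⟨A₀, hA₀n, hA₀e, hA₀card⟩ :=
    Cfsg.Agent.Helper9.exists_normal_elemAb_sq (R := ↥P) hp2 hPp hPnc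
  by_cases hXA : X.subgroupOf P ≤ A₀
  · refine ⟨A₀.map P.subtype, Cfsg.Agent.Helper14.map_subtype_le _, ?_, ?_, ?_⟩
    · exact Cfsg.Agent.Helper26.isElementaryAbelian_map P.subtype hA₀e
    · rw [Cfsg.Agent.Helper14.card_map_subtype]; exact hA₀card
    · intro x hx
      exact ⟨⟨x, hXP hx⟩, hXA (mem_subgroupOf.mpr hx), rfl⟩
  · -- a central element `y` of `P` inside `A₀`
    haveI : Group.IsNilpotent ↥P := hPp.isNilpotent
    have hA₀ne : A₀ ≠ ⊥ := by
      rintro rfl
      rw [Subgroup.card_bot] at hA₀card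
      have : 1 < p ^ 2 := Nat.one_lt_pow (by norm_num) hp.out.one_lt
      omega
    have hz := Cfsg.Agent.S0065.inf_center_ne_bot A₀ hA₀ne
    obtain ⟨y', hy1'⟩ := (Subgroup.ne_bot_iff_exists_ne_one).mp hz
    obtain ⟨y, hyA, hyZ, hy1⟩ : ∃ y : ↥P, y ∈ A₀ ∧ y ∈ center ↥P ∧ y ≠ 1 := by
      refine ⟨y'.1, y'.2.1, y'.2.2, ?_⟩
      intro h
      exact hy1' (Subtype.ext h)
    have hyp : (y : G) ^ p = 1 := by
      have := hA₀e.2 y hyA
      have h2 := congrArg Subtype.val this
      simpa using h2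
    have hXe : Cfsg.IsElementaryAbelian p X := by
      have hXc : IsCyclic ↥X := isCyclic_of_prime_card hX
      refine ⟨⟨⟨fun a b => ?_⟩⟩, ?_⟩
      · obtain ⟨g, hg⟩ := hXc.exists_generator
        obtain ⟨i, rfl⟩ := mem_zpowers_iff.mp (hg a)
        obtain ⟨j, rfl⟩ := mem_zpowers_iff.mp (hg b)
        exact (Commute.zpow_zpow_self g i j).eq
      · intro a ha
        have := pow_card_eq_one' (G := ↥X) (x := ⟨a, ha⟩)
        rw [hX] at this
        have h2 := congrArg Subtype.val this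
        simpa using h2
    have hYe : Cfsg.IsElementaryAbelian p (zpowers (y : G)) :=
      Cfsg.Agent.Helper26.isElementaryAbelian_zpowers_of_orderOf_eq hyp
    have hcomm : ∀ a ∈ X, ∀ b ∈ zpowers (y : G), a * b = b * a := by
      intro a ha b hb
      obtain ⟨i, rfl⟩ := mem_zpowers_iff.mp hb
      have h1 : (y : G) * a = a * (y : G) := by
        have := mem_center_iff.mp hyZ ⟨a, hXP ha⟩
        have h2 := congrArg Subtype.val this
        simpa using h2.symm
      exact ((Commute.zpow_left (show Commute (y : G) a from h1) i).eq).symm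
    have hdisj : X ⊓ zpowers (y : G) = ⊥ := by
      -- `X ⊓ ⟨y⟩` is a subgroup of `X` of prime order; if nontrivial it is `X`, forcing `X ≤ A₀`
      by_contra hne
      have h1 : Nat.card ↥(X ⊓ zpowers (y : G)) ∣ p := hX ▸ card_dvd_of_le inf_le_left
      rcases (Nat.dvd_prime hp.out).mp h1 with h | h
      · exact hne (card_eq_one.mp h)
      · have h2 : X ⊓ zpowers (y : G) = X :=
          eq_of_le_of_card_ge inf_le_left (by rw [h, hX])
        apply hXA
        intro x hx
        rw [mem_subgroupOf] at hx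
        have hxy : (x : G) ∈ zpowers (y : G) := by
          have hle : X ≤ X ⊓ zpowers (y : G) := h2.ge
          exact (hle hx).2
        obtain ⟨i, hi⟩ := mem_zpowers_iff.mp hxy
        have : x = y ^ i := Subtype.ext (by rw [← hi]; simp)
        rw [this]
        exact zpow_mem hyA i
    have hYcard : Nat.card ↥(zpowers (y : G)) = p := by
      rw [Nat.card_zpowers]
      have h1 : orderOf (y : G) ∣ p := orderOf_dvd_of_pow_eq_one hyp
      rcases (Nat.dvd_prime hp.out).mp h1 with h | h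
      · exfalso
        apply hy1
        apply Subtype.ext
        simpa using orderOf_eq_one_iff.mp h
      · exact h
    refine ⟨X ⊔ zpowers (y : G), sup_le hXP ?_,
      Cfsg.Agent.Helper26.isElementaryAbelian_sup hXe hYe hcomm, ?_, le_sup_left⟩
    · rw [zpowers_le]; exact y.2
    · have hn : zpowers (y : G) ≤ normalizer (X : Set G) := by
        refine le_trans ?_ (centralizer_le_normalizer _)
        intro b hb
        rw [mem_centralizer_iff]
        intro a ha
        exact hcomm a ha b hb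
      have h3 := Cfsg.Agent.Helper17.card_sup_mul_card_inf X (zpowers (y : G)) hn
      rw [hdisj, Subgroup.card_bot, mul_one, hX, hYcard] at h3
      rw [h3]; ring


/-- for `p ∉ σ(M)` the `p`-rank of `M` is at most `2` -/
theorem sigma'_pRankLE_two (hG : Cfsg.IsMinSimpleOddOrder G) (hU : Uniq G) {M : Subgroup G}
    (hM : IsCoatom M) (hpσ : p ∉ Cfsg.sigma M) : Cfsg.PRankLE p 2 M := by
  by_contra h
  exact hpσ (alpha_subset_sigma hG hU hM ⟨hp.out, h⟩)

/-- for `p ∉ σ(M)`, a Sylow `p`-subgroup `P` of `M` containing a subgroup `X` of order `p` with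
`N_G(X) ≤ M` is not cyclic -/
theorem sigma'_not_isCyclic {M : Subgroup G} (hpσ : p ∉ Cfsg.sigma M) {P X : Subgroup G}
    (hP : IsSylowIn p P M) (hXP : X ≤ P) (hX : Nat.card X = p)
    (hNX : normalizer (X : Set G) ≤ M) : ¬ IsCyclic ↥P := by
  intro hc
  apply hpσ
  refine ⟨hp.out, ?_, hP.toSylow, ?_⟩
  · rw [← hX]
    exact card_dvd_of_le (hXP.trans hP.1)
  · rw [hP.toSylow_map]
    exact (normalizer_le_normalizer_of_isCyclic hc hXP).trans hNX

/-- **B&G Lemma 10.6** -/
theorem sigma'_norm (hG : Cfsg.IsMinSimpleOddOrder G) (hU : Uniq G) {M : Subgroup G}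
    (hM : IsCoatom M) (hpσ : p ∉ Cfsg.sigma M) {X : Subgroup G} (hX : Nat.card X = p)
    (hNX : normalizer (X : Set G) ≤ M) :
    (Cfsg.PRankLE p 2 M ∧ ¬ Cfsg.PRankLE p 1 M) ∧ ¬ Cfsg.IsIdealPrime p G ∧
      ∃ A : Subgroup G, Cfsg.IsElementaryAbelian p A ∧ Nat.card A = p ^ 2 ∧ X ≤ A := by
  have hr2 := sigma'_pRankLE_two hG hU hM hpσ
  have hXM : X ≤ M := le_normalizer.trans hNX
  have hXp : IsPGroup p X := IsPGroup.of_card (n := 1) (by rw [hX, pow_one])
  obtain ⟨P, hP, hXP⟩ := Cfsg.Agent.Helper14.exists_isSylowIn_ge hXM hXp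
  have hPnc := sigma'_not_isCyclic hpσ hP hXP hX hNX
  have hp2 : p ≠ 2 := by
    apply Cfsg.Agent.Lead.BG8.ne_two_of_dvd_card_of_odd hG.1 (F := X)
    rw [hX]
  obtain ⟨A, hAP, hAe, hAcard, hXA⟩ := exists_elementary_sq_ge hp2 hP.2.1 hPnc hXP hX
  have hr1 : ¬ Cfsg.PRankLE p 1 M := by
    apply Cfsg.Agent.Lead.BG9.not_pRankLE_of_elementary (hAP.trans hP.1) hAe
    rw [hAcard]
    exact Nat.pow_lt_pow_right hp.out.one_lt (by norm_num)
  exact ⟨⟨hr2, hr1⟩, sigma'_rank2_not_ideal hG hU hM hpσ hr2 hr1, A, hAe, hAcard, hXA⟩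

end Cfsg.Agent.Helper4.BG10
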