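import Mathlib
import Cfsg.Agent.Helper4.BG10f
import Cfsg.Agent.Lead.TT8
import Cfsg.Agent.Lead.Bender2

set_option autoImplicit false
set_option linter.unusedSectionVars false
set_option linter.unusedVariables false
set_option linter.style.haveILetI false

/-! # Bender–Glauberman Lemma 10.4(b) -/

namespace Cfsg.Agent.Helper4.BG10

open Subgroup Cfsg
open Cfsg.Agent.Helper14 (IsSylowIn cj map_cj_le_iff map_cj_mul map_cj_one map_cj_normalizer
  mem_normalizer_iff_map_cj map_cj_eq_self_of_mem le_normalizer_of_map_cj_le mem_map_cj)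
open Cfsg.Agent.Lead.BG9 (InUniqueMaximal.mono inUniqueMaximal_of)

universe u
variable {G : Type u} [Group G] [Finite G] {p : ℕ} [hp : Fact p.Prime]

/-- the statement of B&G Lemma 10.3 as a hypothesis -/
def Cent103 (G : Type u) [Group G] : Prop :=
  ∀ M : Subgroup G, IsCoatom M → ∀ X : Subgroup G, X ≤ M →
    (∀ p : ℕ, p.Prime → p ∣ Nat.card X → p ∉ Cfsg.alpha M) →
    ¬ Cfsg.RankLE 1 ↥(Cfsg.alphaCore M ⊓ Subgroup.centralizer (X : Set G)) →
    Cfsg.InUniqueMaximal (M ⊓ Subgroup.centralizer (X : Set G))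

/-- `M` is the unique maximal subgroup containing `Y` -/
def OnlyIn (M Y : Subgroup G) : Prop :=
  Y ≤ M ∧ ∀ L : Subgroup G, IsCoatom L → Y ≤ L → L = M

theorem onlyIn_of_uniq {M F Y : Subgroup G} (hM : IsCoatom M) (hF : Cfsg.InUniqueMaximal F)
    (hFM : F ≤ M) (hFY : F ≤ Y) (hY : Y ≠ ⊤) : OnlyIn M Y := by
  refine ⟨le_of_uniq hM hF hFM hFY hY, ?_⟩
  intro L hL hYL
  obtain ⟨M', ⟨hM', hFM'⟩, huniq⟩ := hF
  rw [huniq L ⟨hL, hFY.trans hYL⟩, huniq M ⟨hM, hFM⟩]

/-- a group of odd order which is not a Z-group has rank at least `2` -/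
theorem not_rankLE_one_of_not_isZGroup {H : Type u} [Group H] [Finite H]
    (hodd : Odd (Nat.card H)) (h : ¬ IsZGroup H) : ¬ Cfsg.RankLE 1 H := by
  rw [isZGroup_iff] at h
  push Not at h
  obtain ⟨q, hq, Q, hQ⟩ := h
  haveI : Fact q.Prime := ⟨hq⟩
  intro hr
  have hQne : (Q : Subgroup H) ≠ ⊥ := by
    intro hb
    apply hQ
    rw [hb]
    infer_instance
  have hq2 : q ≠ 2 := by
    rintro rfl
    have h1 : 2 ∣ Nat.card H := by
      have := Q.card_eq_multiplicity
      have h2 : Nat.card (Q : Subgroup H) ≠ 1 := fun h => hQne (card_eq_one.mp h)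
      have h3 : (Nat.card H).factorization 2 ≠ 0 := by
        intro h0
        rw [h0, pow_zero] at this
        exact h2 this
      exact Nat.dvd_of_factorization_pos h3
    exact (Nat.not_even_iff_odd.mpr hodd) (even_iff_two_dvd.mpr h1)
  obtain ⟨A, -, hAe, hAcard⟩ :=
    Cfsg.Agent.Helper9.exists_normal_elemAb_sq (R := ↥(Q : Subgroup H)) hq2 Q.2 hQ
  have h1 := hr q hq (A.map (Q : Subgroup H).subtype) ?_ ?_
  · rw [Cfsg.Agent.Helper14.card_map_subtype, hAcard] at h1
    have : q ^ 1 < q ^ 2 := Nat.pow_lt_pow_right hq.one_lt (by norm_num)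
    omega
  · exact (Cfsg.Agent.Helper26.isElementaryAbelian_map (Q : Subgroup H).subtype hAe).1
  · exact (Cfsg.Agent.Helper26.isElementaryAbelian_map (Q : Subgroup H).subtype hAe).2

theorem centralizer_zpowers_eq (x : G) :
    centralizer ((zpowers x : Subgroup G) : Set G) = centralizer ({x} : Set G) := by
  rw [zpowers_eq_closure, centralizer_closure]

/-- **B&G Lemma 10.4(b)**, in ambient form -/
theorem cent1_sigma'_zgroup (hG : Cfsg.IsMinSimpleOddOrder G) (hU : Uniq G) (h103 : Cent103 G)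
    {M : Subgroup G} (hM : IsCoatom M) (hpM : p ∣ Nat.card M) (hpσ : p ∉ Cfsg.sigma M)
    {P : Subgroup G} (hP : IsSylowIn p P M) :
    ∃ x : G, x ∈ P ∧ (∀ y ∈ P, x * y = y * x) ∧ orderOf x = p ∧
      IsZGroup ↥(Cfsg.alphaCore M ⊓ centralizer ({x} : Set G)) ∧
      ¬ OnlyIn M (centralizer ({x} : Set G)) := by
  by_contra hcon
  push Not at hcon
  have hPne : P ≠ ⊥ := by
    rintro rfl
    have h1 := Cfsg.Agent.Lead.BG8.IsSylowIn.card_eq hP
    rw [Subgroup.card_bot] at h1
    have h2 : (Nat.card M).factorization p = 0 := by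
      by_contra h
      have : 1 < p ^ (Nat.card M).factorization p := Nat.one_lt_pow h hp.out.one_lt
      omega
    rcases (Nat.factorization_eq_zero_iff _ _).mp h2 with h | h | h
    · exact h hp.out
    · exact h hpM
    · exact Nat.card_pos.ne' h
  have hMne : M ≠ ⊥ := fun h => hPne (eq_bot_iff.mpr (h ▸ hP.1))
  have hNM : normalizer (M : Set G) = M :=
    Cfsg.Agent.Lead.Bender.normalizer_eq_of_coatom hG.2.1 hM hMne le_rfl le_normalizer
  -- every central element of order `p` has its centralizer only in `M`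
  have key : ∀ x ∈ P, (∀ y ∈ P, x * y = y * x) → orderOf x = p →
      OnlyIn M (centralizer ({x} : Set G)) := by
    intro x hxP hxZ hxo
    by_contra hno
    have hnz : ¬ IsZGroup ↥(Cfsg.alphaCore M ⊓ centralizer ({x} : Set G)) :=
      fun hz => hno (hcon x hxP hxZ hxo hz)
    have hodd : Odd (Nat.card ↥(Cfsg.alphaCore M ⊓ centralizer ({x} : Set G))) :=
      Odd.of_dvd_nat hG.1 (card_subgroup_dvd_card _)
    have hr := not_rankLE_one_of_not_isZGroup hodd hnz
    have hx1 : x ≠ 1 := by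
      rintro rfl
      rw [orderOf_one] at hxo
      exact hp.out.one_lt.ne hxo
    have hXM : zpowers x ≤ M := by
      rw [zpowers_le]; exact hP.1 hxP
    have hXα : ∀ q : ℕ, q.Prime → q ∣ Nat.card (zpowers x) → q ∉ Cfsg.alpha M := by
      intro q hq hqd hqα
      rw [Nat.card_zpowers, hxo] at hqd
      have : q = p := (Nat.prime_dvd_prime_iff_eq hq hp.out).mp hqd
      subst this
      exact hpσ (alpha_subset_sigma hG hU hM hqα)
    have h1 := h103 M hM (zpowers x) hXM hXα (by rw [centralizer_zpowers_eq]; exact hr)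
    rw [centralizer_zpowers_eq] at h1
    have hCtop : centralizer ({x} : Set G) ≠ ⊤ :=
      Cfsg.Agent.Lead.TT.centralizer_singleton_ne_top hG.2.1 hM.1 (hP.1 hxP) hx1
    exact hno (onlyIn_of_uniq hM h1 inf_le_left inf_le_right hCtop)
  -- an element of order `p` in the centre of `P`
  haveI : Nontrivial ↥P := (Subgroup.nontrivial_iff_ne_bot P).mpr hPne
  haveI : Finite ↥P := inferInstance
  have hZne : center ↥P ≠ ⊥ := by
    haveI := hP.2.1.center_nontrivial
    exact (Subgroup.nontrivial_iff_ne_bot _).mp inferInstance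
  obtain ⟨z, hz1⟩ := (Subgroup.ne_bot_iff_exists_ne_one).mp hZne
  have hpz : p ∣ Nat.card (center ↥P) := by
    obtain ⟨k, hk⟩ := IsPGroup.iff_card.mp (hP.2.1.to_subgroup (center ↥P))
    have hk0 : k ≠ 0 := by
      rintro rfl
      rw [pow_zero] at hk
      exact hZne (card_eq_one.mp hk)
    rw [hk]; exact dvd_pow_self p hk0
  obtain ⟨x₀, hx₀⟩ := exists_prime_orderOf_dvd_card' (G := ↥(center ↥P)) p hpz
  set x : G := ((x₀ : ↥P) : G) with hx
  have hxP : x ∈ P := (x₀ : ↥P).2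
  have hxZ : ∀ y ∈ P, x * y = y * x := by
    intro y hy
    have := mem_center_iff.mp x₀.2 ⟨y, hy⟩
    have h2 := congrArg Subtype.val this
    simpa using h2.symm
  have hxo : orderOf x = p := by
    rw [hx, Subgroup.orderOf_coe, Subgroup.orderOf_coe]; exact hx₀
  -- hence `N_G(P) ≤ M`
  apply hpσ
  refine ⟨hp.out, hpM, hP.toSylow, ?_⟩
  rw [hP.toSylow_map]
  intro g hg
  have hPg : P.map (cj g) = P := mem_normalizer_iff_map_cj.mp hg
  have hgx : g * x * g⁻¹ ∈ P := by
    rw [← hPg]; exact ⟨x, hxP, rfl⟩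
  have hgxZ : ∀ y ∈ P, (g * x * g⁻¹) * y = y * (g * x * g⁻¹) := by
    intro y hy
    have hy' : g⁻¹ * y * g ∈ P := by
      have : y ∈ P.map (cj g) := by rw [hPg]; exact hy
      exact (mem_map_cj g y).mp this
    have := hxZ _ hy'
    calc g * x * g⁻¹ * y = g * (x * (g⁻¹ * y * g)) * g⁻¹ := by group
      _ = g * ((g⁻¹ * y * g) * x) * g⁻¹ := by rw [this]
      _ = y * (g * x * g⁻¹) := by group
  have hgxo : orderOf (g * x * g⁻¹) = p := by
    rw [← hxo]
    have hsc : SemiconjBy g x (g * x * g⁻¹) := by unfold SemiconjBy; group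
    exact (hsc.orderOf_eq).symm
  have h1 := key x hxP hxZ hxo
  have h2 := key _ hgx hgxZ hgxo
  have h3 : centralizer ({g * x * g⁻¹} : Set G) ≤ M.map (cj g) := by
    intro c hc
    rw [mem_map_cj]
    apply h1.1
    rw [mem_centralizer_singleton_iff] at hc ⊢
    calc g⁻¹ * c * g * x = g⁻¹ * (c * (g * x * g⁻¹)) * g := by group
      _ = g⁻¹ * ((g * x * g⁻¹) * c) * g := by rw [hc]
      _ = x * (g⁻¹ * c * g) := by group
  have h4 := h2.2 _ (Cfsg.Agent.Lead.BG9.isCoatom_map_cj hM g) h3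
  rw [← hNM]
  exact mem_normalizer_iff_map_cj.mpr h4


/-- **B&G Lemma 10.4(b)**, in the form of the statement S1407 -/
theorem cent1_sigma'_zgroup' (hG : Cfsg.IsMinSimpleOddOrder G) (hU : Uniq G) (h103 : Cent103 G)
    {M : Subgroup G} (hM : IsCoatom M) (hpM : p ∣ Nat.card M) (hpσ : p ∉ Cfsg.sigma M)
    (P : Sylow p M) :
    ∃ x : G, x ∈ ((Subgroup.center ↥(P : Subgroup M)).map (P : Subgroup M).subtype).map M.subtype ∧
      orderOf x = p ∧ IsZGroup ↥(Cfsg.alphaCore M ⊓ Subgroup.centralizer ({x} : Set G)) ∧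
      ¬ (Subgroup.centralizer ({x} : Set G) ≤ M ∧ ∀ L : Subgroup G, IsCoatom L →
        Subgroup.centralizer ({x} : Set G) ≤ L → L = M) := by
  obtain ⟨x, hxP, hxZ, hxo, hz, hno⟩ := cent1_sigma'_zgroup hG hU h103 hM hpM hpσ
    (Cfsg.Agent.Helper14.isSylowIn_of_sylow P)
  refine ⟨x, ?_, hxo, hz, hno⟩
  obtain ⟨m, hm, rfl⟩ := hxP
  refine ⟨m, ⟨⟨m, hm⟩, ?_, rfl⟩, rfl⟩
  rw [SetLike.mem_coe, mem_center_iff]
  intro y
  apply Subtype.ext
  apply Subtype.ext
  have := hxZ ((y : M) : G) ⟨(y : M), y.2, rfl⟩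
  simpa using this.symm

end Cfsg.Agent.Helper4.BG10
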