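import Mathlib
import Cfsg.Agent.Helper5.FrobModH
import Cfsg.Agent.Helper14.Conj
import Cfsg.Agent.Helper17.Basic
import Cfsg.Agent.Lead.CoprimeAbelian

/-!
# Tools for the abelian endgame of B&G Theorem 3.6 (L2)
-/

set_option autoImplicit false

namespace Cfsg.Agent.Helper4.BG36L2

open Subgroup Cfsg.Agent.Helper14

variable {X : Type*} [Group X]

/-- in a group of prime order any nontrivial element generates: commuting with it means
centralizing the group -/
theorem mem_centralizer_of_commute_prime [Finite X] (R : Subgroup X) (r : ℕ) (hr : r.Prime)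
    (hR : Nat.card R = r) (e : X) (he : e ∈ R) (he1 : e ≠ 1) (u : X) (hu : e * u = u * e) :
    u ∈ centralizer (R : Set X) := by
  have hz : zpowers e ≤ R := (zpowers_le).2 he
  have hcard : Nat.card (zpowers e) = r := by
    have hdvd : Nat.card (zpowers e) ∣ r := hR ▸ Subgroup.card_dvd_of_le hz
    rcases (Nat.dvd_prime hr).1 hdvd with h1 | h1
    · exfalso
      rw [Nat.card_zpowers, orderOf_eq_one_iff] at h1
      exact he1 h1
    · exact h1
  have heq : zpowers e = R := Subgroup.eq_of_le_of_card_ge hz (by rw [hcard, hR])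
  rw [mem_centralizer_iff]
  intro h hh
  rw [← heq] at hh
  obtain ⟨k, rfl⟩ := mem_zpowers_iff.1 hh
  have hc : Commute e u := hu
  exact (hc.zpow_left k).eq

theorem centralizer_sup_eq (U R : Subgroup X) :
    centralizer ((U ⊔ R : Subgroup X) : Set X) = centralizer (U : Set X) ⊓ centralizer (R : Set X) := by
  apply le_antisymm
  · exact le_inf (centralizer_le (by exact_mod_cast (le_sup_left : U ≤ U ⊔ R)))
      (centralizer_le (by exact_mod_cast (le_sup_right : R ≤ U ⊔ R)))
  · intro x hx
    have h1 : U ≤ centralizer ((zpowers x : Subgroup X) : Set X) := by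
      rw [le_centralizer_iff, zpowers_le]; exact hx.1
    have h2 : R ≤ centralizer ((zpowers x : Subgroup X) : Set X) := by
      rw [le_centralizer_iff, zpowers_le]; exact hx.2
    have h3 : U ⊔ R ≤ centralizer ((zpowers x : Subgroup X) : Set X) := sup_le h1 h2
    rw [le_centralizer_iff, zpowers_le] at h3
    exact h3

theorem conj_mem_of_le_normalizer {A H : Subgroup X} (hA : A ≤ normalizer (H : Set X))
    {a : X} (ha : a ∈ A) {h : X} (hh : h ∈ H) : a * h * a⁻¹ ∈ H :=
  (mem_normalizer_iff.mp (hA ha) h).mp hh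

/-- The Frobenius fixed point formula for a complement `R` of prime order `r`. -/
theorem frob [Finite X] (U R H : Subgroup X) (r : ℕ) (hr : r.Prime) (hR : Nat.card R = r)
    (hRU : R ≤ normalizer (U : Set X)) (hfix : U ⊓ centralizer (R : Set X) = ⊥)
    (hUH : U ≤ normalizer (H : Set X)) (hRH : R ≤ normalizer (H : Set X))
    (hsolv : Group.IsSolvable H) (hcopU : (Nat.card H).Coprime (Nat.card U))
    (hcopR : (Nat.card H).Coprime r) :
    Nat.card ↥(H ⊓ (centralizer (U : Set X) ⊓ centralizer (R : Set X))) ^ r * Nat.card H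
      = Nat.card ↥(H ⊓ centralizer (R : Set X)) ^ r * Nat.card ↥(H ⊓ centralizer (U : Set X)) := by
  have hUn : ∀ e ∈ R, ∀ u ∈ U, e * u * e⁻¹ ∈ U := fun e he u hu =>
    conj_mem_of_le_normalizer hRU he hu
  have hfpf : ∀ e ∈ R, e ≠ 1 → ∀ u ∈ U, e * u = u * e → u = 1 := by
    intro e he he1 u hu hcomm
    have h1 := mem_centralizer_of_commute_prime R r hr hR e he he1 u hcomm
    have h2 : u ∈ U ⊓ centralizer (R : Set X) := ⟨hu, h1⟩
    rw [hfix] at h2
    exact h2
  have hinv : ∀ x ∈ U ⊔ R, ∀ h ∈ H, x * h * x⁻¹ ∈ H := fun x hx h hh =>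
    conj_mem_of_le_normalizer (sup_le hUH hRH) hx hh
  have hcop : Nat.Coprime (Nat.card H) (Nat.card ↥(U ⊔ R)) := by
    have h1 := Cfsg.Agent.Helper17.card_sup_mul_card_inf U R hRU
    have h2 : Nat.card ↥(U ⊔ R) ∣ Nat.card U * Nat.card R := Dvd.intro _ h1
    refine Nat.Coprime.coprime_dvd_right h2 ?_
    rw [hR]
    exact Nat.Coprime.mul_right hcopU hcopR
  have key := Cfsg.Agent.Helper5.FrobMod.frobenius_fixed_point_formula U R hUn hfpf H hinv hsolv hcop
  rw [hR, centralizer_sup_eq] at key
  exact key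

/-- conjugation action of `R` on a subgroup `P` it normalizes -/
def conjAction (R P : Subgroup X) (h : R ≤ normalizer (P : Set X)) : MulAction R P where
  smul g y := ⟨(g : X) * y * (g : X)⁻¹, conj_mem_of_le_normalizer h g.2 y.2⟩
  one_smul y := Subtype.ext (by
    show ((1 : R) : X) * y * ((1 : R) : X)⁻¹ = y
    simp)
  mul_smul a b y := Subtype.ext (by
    show ((a * b : R) : X) * y * ((a * b : R) : X)⁻¹ = (a : X) * ((b : X) * y * (b : X)⁻¹) * (a : X)⁻¹
    simp [mul_assoc])

/-- a group of prime order `r` acting fixed-point-freely on `P`: `|P| ≡ 1 mod r` -/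
theorem card_modEq_one [Finite X] (P R : Subgroup X) (r : ℕ) [Fact r.Prime] (hR : Nat.card R = r)
    (hRP : R ≤ normalizer (P : Set X)) (hfix : P ⊓ centralizer (R : Set X) = ⊥) :
    Nat.card P ≡ 1 [MOD r] := by
  letI := conjAction R P hRP
  have hRp : IsPGroup r R := IsPGroup.of_card (n := 1) (by rw [hR, pow_one])
  have h1 := hRp.card_modEq_card_fixedPoints (α := P)
  have h2 : MulAction.fixedPoints R P = {1} := by
    ext y
    rw [MulAction.mem_fixedPoints, Set.mem_singleton_iff]
    constructor
    · intro hy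
      have hc : (y : X) ∈ centralizer (R : Set X) := by
        rw [mem_centralizer_iff]
        intro g hg
        have := congrArg Subtype.val (hy ⟨g, hg⟩)
        have h3 : g * (y : X) * g⁻¹ = y := this
        have h4 : g * (y : X) = (g * (y : X) * g⁻¹) * g := by group
        rw [h4, h3]
      have hyC : (y : X) ∈ P ⊓ centralizer (R : Set X) := ⟨y.2, hc⟩
      rw [hfix, mem_bot] at hyC
      exact Subtype.ext hyC
    · rintro rfl g
      apply Subtype.ext
      show (g : X) * ((1 : P) : X) * (g : X)⁻¹ = ((1 : P) : X)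
      simp
  rw [h2] at h1
  simpa using h1

/-- a `p`-group normalizing a group of order `p` centralizes it -/
theorem le_centralizer_of_card_prime [Finite X] (P W : Subgroup X) (p : ℕ) [Fact p.Prime]
    (hP : IsPGroup p P) (hW : Nat.card W = p) (hPW : P ≤ normalizer (W : Set X)) :
    P ≤ centralizer (W : Set X) := by
  classical
  letI := conjAction P W hPW
  have h1 := hP.card_modEq_card_fixedPoints (α := W)
  rw [hW] at h1
  have h2 : p ∣ Nat.card (MulAction.fixedPoints P W) :=
    Nat.modEq_zero_iff_dvd.1 (h1.symm.trans (Nat.modEq_zero_iff_dvd.2 dvd_rfl))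
  have hone : (1 : W) ∈ MulAction.fixedPoints P W := by
    rw [MulAction.mem_fixedPoints]
    intro g
    apply Subtype.ext
    show (g : X) * ((1 : W) : X) * (g : X)⁻¹ = ((1 : W) : X)
    simp
  have hpos : 0 < Nat.card (MulAction.fixedPoints P W) := by
    haveI : Nonempty (MulAction.fixedPoints P W) := ⟨⟨1, hone⟩⟩
    exact Nat.card_pos
  intro g hg
  rw [mem_centralizer_iff]
  intro w hw
  by_contra hne
  have hnot : (⟨w, hw⟩ : W) ∉ MulAction.fixedPoints P W := by
    intro hmem
    rw [MulAction.mem_fixedPoints] at hmem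
    have := congrArg Subtype.val (hmem ⟨g, hg⟩)
    have h3 : g * w * g⁻¹ = w := this
    apply hne
    have h4 : g * w = (g * w * g⁻¹) * g := by group
    rw [h4, h3]
  have hlt : Nat.card (MulAction.fixedPoints P W) < Nat.card W := by
    haveI := Fintype.ofFinite W
    rw [Nat.card_eq_fintype_card, Nat.card_eq_fintype_card]
    exact Fintype.card_subtype_lt hnot
  rw [hW] at hlt
  exact absurd (Nat.le_of_dvd hpos h2) (not_le.2 hlt)

end Cfsg.Agent.Helper4.BG36L2
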