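import Mathlib
import Cfsg.Agent.Helper4.BG36L2a
import Cfsg.Agent.Helper29.BG36Cfg

/-!
# Abelian endgame of B&G Theorem 3.6 (L2): first steps
-/

set_option autoImplicit false

namespace Cfsg.Agent.Helper4.BG36L2

open Subgroup Cfsg.Agent.Helper14 Cfsg.Agent.Helper29.BG36

variable {X : Type*} [Group X]

/-- `p`-group fixed point on a finite family of subgroups -/
theorem exists_fixed_subgroup [Finite X] (P : Subgroup X) (p : ℕ) [Fact p.Prime] (hP : IsPGroup p P)
    (T : Finset (Subgroup X)) (hT : ∀ y ∈ P, ∀ B ∈ T, B.map (cj y) ∈ T) (hcard : ¬ p ∣ T.card) :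
    ∃ B ∈ T, ∀ y ∈ P, B.map (cj y) = B := by
  classical
  letI : MulAction P {B // B ∈ T} :=
    { smul := fun y B => ⟨B.1.map (cj (y : X)), hT y y.2 B.1 B.2⟩
      one_smul := fun B => Subtype.ext (map_cj_one B.1)
      mul_smul := fun a b B => Subtype.ext (map_cj_mul B.1 a b).symm }
  have hc : Nat.card {B // B ∈ T} = T.card := by
    rw [Nat.card_eq_fintype_card, Fintype.card_coe]
  obtain ⟨B, hB⟩ := hP.nonempty_fixed_point_of_prime_not_dvd_card {B // B ∈ T}
    (by rw [hc]; exact hcard)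
  refine ⟨B.1, B.2, fun y hy => ?_⟩
  have := congrArg Subtype.val (hB ⟨y, hy⟩)
  exact this

theorem card_inf_centralizer_map_cj (V B : Subgroup X) (g : X) (hg : g ∈ normalizer (V : Set X)) :
    Nat.card ↥(V ⊓ centralizer ((B.map (cj g) : Subgroup X) : Set X))
      = Nat.card ↥(V ⊓ centralizer (B : Set X)) := by
  have h1 : V ⊓ centralizer ((B.map (cj g) : Subgroup X) : Set X)
      = (V ⊓ centralizer (B : Set X)).map (cj g) := by
    rw [map_cj_inf, map_cj_centralizer, mem_normalizer_iff_map_cj.1 hg]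
  rw [h1]
  exact (Nat.card_congr ((V ⊓ centralizer (B : Set X)).equivMapOfInjective _ (cj_injective g)).toEquiv).symm

theorem normalizer_inf_centralizer (V B : Subgroup X) {g : X} (hV : g ∈ normalizer (V : Set X))
    (hB : g ∈ normalizer (B : Set X)) :
    g ∈ normalizer ((V ⊓ centralizer (B : Set X) : Subgroup X) : Set X) := by
  rw [mem_normalizer_iff_map_cj, map_cj_inf, map_cj_centralizer, mem_normalizer_iff_map_cj.1 hV,
    mem_normalizer_iff_map_cj.1 hB]

theorem card_eq_one_or_prime_of_le [Finite X] {K W : Subgroup X} {p : ℕ} (hp : p.Prime) (hW : Nat.card W = p)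
    (hKW : K ≤ W) : Nat.card K = 1 ∨ Nat.card K = p :=
  (Nat.dvd_prime hp).1 (hW ▸ Subgroup.card_dvd_of_le hKW)

theorem le_centralizer_of_card_inf_eq [Finite X] {V : Subgroup X} {B : Subgroup X}
    (h : Nat.card ↥(V ⊓ centralizer (B : Set X)) = Nat.card V) : V ≤ centralizer (B : Set X) := by
  have : V ⊓ centralizer (B : Set X) = V := Subgroup.eq_of_le_of_card_ge inf_le_left h.ge
  rw [← this]; exact inf_le_right

theorem card_dvd_of_isCyclic_of_pow {C : Type*} [Group C] [Finite C] [IsCyclic C] (q : ℕ)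
    (h : ∀ x : C, x ^ q = 1) : Nat.card C ∣ q := by
  obtain ⟨g, hg⟩ := IsCyclic.exists_generator (α := C)
  rw [← orderOf_eq_card_of_forall_mem_zpowers hg]
  exact orderOf_dvd_of_pow_eq_one (h g)

theorem coprime_of_isPGroup [Finite X] {A B : Subgroup X} {p q : ℕ} (hp : p.Prime) (hq : q.Prime) (hpq : p ≠ q)
    (hA : IsPGroup p A) (hB : IsPGroup q B) : (Nat.card A).Coprime (Nat.card B) := by
  haveI : Fact p.Prime := ⟨hp⟩
  haveI : Fact q.Prime := ⟨hq⟩
  exact IsPGroup.coprime_card_of_ne p q hpq A B hA hB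

theorem coprime_prime_of_isPGroup [Finite X] {A : Subgroup X} {p r : ℕ} (hp : p.Prime) (hr : r.Prime) (hpr : p ≠ r)
    (hA : IsPGroup p A) : (Nat.card A).Coprime r := by
  haveI : Fact p.Prime := ⟨hp⟩
  obtain ⟨k, hk⟩ := hA.exists_card_eq
  rw [hk]
  exact Nat.Coprime.pow_left k ((Nat.coprime_primes hp hr).2 hpr)

theorem isSolvable_of_isPGroup [Finite X] {A : Subgroup X} {p : ℕ} (hp : p.Prime) (hA : IsPGroup p A) :
    Group.IsSolvable A := by
  haveI : Fact p.Prime := ⟨hp⟩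
  haveI := hA.isNilpotent
  infer_instance

section cfg

variable [Finite X] {V Q P R₀ : Subgroup X} {p q r : ℕ}

theorem hV_pgroup (h : EndCfg V Q P R₀ p q r) : IsPGroup p V := by
  intro v
  refine ⟨1, ?_⟩
  rw [pow_one]
  apply Subtype.ext
  simpa using h.Vexp v v.2

theorem cQP (h : EndCfg V Q P R₀ p q r) (Qcomm : ∀ a ∈ Q, ∀ b ∈ Q, a * b = b * a) :
    Q ⊓ centralizer (P : Set X) = ⊥ := by
  haveI : IsMulCommutative Q := ⟨⟨fun a b => Subtype.ext (Qcomm a a.2 b b.2)⟩⟩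
  have hcop : (Nat.card P).Coprime (Nat.card Q) := coprime_of_isPGroup h.hp h.hq h.hpq h.hP h.hQ
  have := Cfsg.Agent.Lead.coprime_abelian_inf P Q h.PQ hcop
  rw [h.QP] at this
  rw [← this]; exact (inf_of_le_left inf_le_left).symm

theorem card_cQR (h : EndCfg V Q P R₀ p q r) (Qcomm : ∀ a ∈ Q, ∀ b ∈ Q, a * b = b * a)
    (Qexp : ∀ a ∈ Q, a ^ q = 1) :
    Nat.card ↥(Q ⊓ centralizer (R₀ : Set X)) = q ∧ Nat.card Q = q ^ r := by
  have hfr := frob P R₀ Q r h.hr h.hR₀ h.RP h.CPR h.PQ h.RQ (isSolvable_of_isPGroup h.hq h.hQ)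
    (coprime_of_isPGroup h.hq h.hp h.hpq.symm h.hQ h.hP) (coprime_prime_of_isPGroup h.hq h.hr h.hqr h.hQ)
  have h1 : Q ⊓ (centralizer (P : Set X) ⊓ centralizer (R₀ : Set X)) = ⊥ := by
    rw [← inf_assoc, cQP h Qcomm, bot_inf_eq]
  rw [h1, cQP h Qcomm, Subgroup.card_bot, one_pow, one_mul, mul_one] at hfr
  haveI := h.CQR
  have hdvd : Nat.card ↥(Q ⊓ centralizer (R₀ : Set X)) ∣ q := by
    apply card_dvd_of_isCyclic_of_pow
    intro x
    apply Subtype.ext
    simpa using Qexp x x.2.1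
  rcases (Nat.dvd_prime h.hq).1 hdvd with h2 | h2
  · exfalso
    rw [h2, one_pow] at hfr
    have hQbot : Q = ⊥ := Subgroup.card_eq_one.1 hfr
    have hV : V ⊓ centralizer (Q : Set X) = V := by
      rw [hQbot]
      apply inf_of_le_left
      intro v _
      rw [mem_centralizer_iff]
      intro y hy
      have : y = 1 := hy
      rw [this]; simp
    have hVbot : V = ⊥ := by rw [← hV]; exact h.CVQ
    have := h.CVR
    rw [hVbot, bot_inf_eq, Subgroup.card_bot] at this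
    exact h.hp.one_lt.ne this
  · exact ⟨h2, by rw [hfr, h2]⟩

/-- the hyperplane `Q₁ = [Q, R₀]` -/
theorem exists_Q1 (h : EndCfg V Q P R₀ p q r) (Qcomm : ∀ a ∈ Q, ∀ b ∈ Q, a * b = b * a)
    (Qexp : ∀ a ∈ Q, a ^ q = 1) :
    ∃ Q1 : Subgroup X, Q1 ≤ Q ∧ R₀ ≤ normalizer (Q1 : Set X) ∧ Q1 ⊓ centralizer (R₀ : Set X) = ⊥ ∧
      Nat.card Q1 * q = q ^ r := by
  haveI : IsMulCommutative Q := ⟨⟨fun a b => Subtype.ext (Qcomm a a.2 b b.2)⟩⟩
  have hcop : (Nat.card R₀).Coprime (Nat.card Q) := by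
    rw [h.hR₀]; exact (coprime_prime_of_isPGroup h.hq h.hr h.hqr h.hQ).symm
  obtain ⟨h1, h2⟩ := Cfsg.Agent.Lead.coprime_abelian_decomp R₀ Q h.RQ hcop
  obtain ⟨hc, hQ⟩ := card_cQR h Qcomm Qexp
  have hle : ⁅Q, R₀⁆ ≤ Q := Cfsg.Agent.Lead.commutator_le_of_le_normalizer h.RQ
  refine ⟨⁅Q, R₀⁆, hle, ?_, ?_, ?_⟩
  · apply le_normalizer_of_map_cj_le
    intro g hg
    rw [Subgroup.map_commutator]
    apply Subgroup.commutator_mono
    · rw [mem_normalizer_iff_map_cj.1 (h.RQ hg)]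
    · rw [map_cj_eq_self_of_mem hg]
  · rw [eq_bot_iff, ← h1]
    exact le_inf (le_inf (inf_le_left.trans hle) inf_le_right) inf_le_left
  · have h3 := Cfsg.Agent.Helper17.card_sup_mul_card_inf (Q ⊓ centralizer (R₀ : Set X)) ⁅Q, R₀⁆ (by
      intro x hx
      rw [mem_normalizer_iff]
      intro y
      have hxQ : x ∈ Q := hle hx
      constructor
      · intro hy
        have : x * y * x⁻¹ = y := by
          rw [Qcomm x hxQ y hy.1]; group
        rw [this]; exact hy
      · intro hy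
        have hyQ : y ∈ Q := by
          have := Q.mul_mem (Q.mul_mem (Q.inv_mem hxQ) hy.1) hxQ
          simpa [mul_assoc] using this
        have : x * y * x⁻¹ = y := by
          rw [Qcomm x hxQ y hyQ]; group
        rw [this] at hy; exact hy)
    rw [h1, h2, Subgroup.card_bot, mul_one, hQ, hc] at h3
    rw [mul_comm]; exact h3.symm

end cfg

end Cfsg.Agent.Helper4.BG36L2
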