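import Mathlib
import Cfsg.Agent.Helper4.BG36L2b

/-!
# Abelian endgame of B&G Theorem 3.6 (L2): the hyperplane `Q₁`
-/

set_option autoImplicit false

namespace Cfsg.Agent.Helper4.BG36L2

open Subgroup Cfsg.Agent.Helper14 Cfsg.Agent.Helper29.BG36

variable {X : Type*} [Group X] [Finite X] {V Q P R₀ : Subgroup X} {p q r : ℕ}

theorem le_normalizer_of_comm {B Q : Subgroup X} (hBQ : B ≤ Q)
    (Qcomm : ∀ a ∈ Q, ∀ b ∈ Q, a * b = b * a) : Q ≤ normalizer (B : Set X) := by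
  intro x hxQ
  rw [mem_normalizer_iff]
  intro y
  constructor
  · intro hy
    have : x * y * x⁻¹ = y := by
      rw [Qcomm x hxQ y (hBQ hy)]; group
    rw [this]; exact hy
  · intro hy
    have hyQ : y ∈ Q := by
      have := Q.mul_mem (Q.mul_mem (Q.inv_mem hxQ) (hBQ hy)) hxQ
      simpa [mul_assoc] using this
    have : x * y * x⁻¹ = y := by
      rw [Qcomm x hxQ y hyQ]; group
    rw [this] at hy; exact hy

/-- the data of the hyperplane `Q₁` -/
structure Q1Cfg (Q R₀ Q1 : Subgroup X) (q r : ℕ) : Prop where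
  le : Q1 ≤ Q
  norm : R₀ ≤ normalizer (Q1 : Set X)
  fix : Q1 ⊓ centralizer (R₀ : Set X) = ⊥
  card : Nat.card Q1 * q = q ^ r

theorem Q1Cfg.one_lt_card {Q1 : Subgroup X} (h : EndCfg V Q P R₀ p q r) (h1 : Q1Cfg Q R₀ Q1 q r) :
    1 < Nat.card Q1 := by
  by_contra hcon
  have hc : Nat.card Q1 = 1 := by
    have : 0 < Nat.card Q1 := Nat.card_pos
    omega
  have := h1.card
  rw [hc, one_mul] at this
  have h2 : q ^ 1 = q ^ r := by rw [pow_one]; exact this
  have h3 := Nat.pow_right_injective h.hq.two_le h2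
  have := h.hr3
  omega

theorem Q1Cfg.card_eq {Q1 : Subgroup X} (h : EndCfg V Q P R₀ p q r) (h1 : Q1Cfg Q R₀ Q1 q r) :
    Nat.card Q1 = q ^ (r - 1) := by
  have h2 : q ^ r = q ^ (r - 1) * q := by
    rw [← pow_succ]; congr 1; have := h.hr3; omega
  have := h1.card
  rw [h2] at this
  exact Nat.eq_of_mul_eq_mul_right h.hq.pos this

theorem Q1Cfg.isPGroup {Q1 : Subgroup X} (h : EndCfg V Q P R₀ p q r) (h1 : Q1Cfg Q R₀ Q1 q r) :
    IsPGroup q Q1 := h.hQ.to_le h1.le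

/-- Step 3: `|V| = p^r |C_V(Q₁)|` -/
theorem card_V {Q1 : Subgroup X} (h : EndCfg V Q P R₀ p q r) (h1 : Q1Cfg Q R₀ Q1 q r) :
    Nat.card V = p ^ r * Nat.card ↥(V ⊓ centralizer (Q1 : Set X)) := by
  have hVp := hV_pgroup h
  have hfr := frob Q1 R₀ V r h.hr h.hR₀ h1.norm h1.fix (h1.le.trans h.QV) h.RV
    (isSolvable_of_isPGroup h.hp hVp)
    (coprime_of_isPGroup h.hp h.hq h.hpq hVp (h1.isPGroup h))
    (coprime_prime_of_isPGroup h.hp h.hr h.hpr hVp)
  rw [h.CVR] at hfr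
  have hK : V ⊓ (centralizer (Q1 : Set X) ⊓ centralizer (R₀ : Set X)) ≤ V ⊓ centralizer (R₀ : Set X) :=
    inf_le_inf_left _ inf_le_right
  rcases card_eq_one_or_prime_of_le h.hp h.CVR hK with h2 | h2
  · rw [h2, one_pow, one_mul] at hfr
    exact hfr
  · exfalso
    rw [h2] at hfr
    have h3 : Nat.card V = Nat.card ↥(V ⊓ centralizer (Q1 : Set X)) :=
      Nat.eq_of_mul_eq_mul_left (pow_pos h.hp.pos r) hfr
    have h4 : V ≤ centralizer (Q1 : Set X) := le_centralizer_of_card_inf_eq h3.symm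
    have h5 : Q1 ≤ Q ⊓ centralizer (V : Set X) := le_inf h1.le (le_centralizer_iff.1 h4)
    rw [h.CQV, le_bot_iff] at h5
    have := h1.one_lt_card h
    rw [h5, Subgroup.card_bot] at this
    exact lt_irrefl _ this

/-- Step 4: `N_P(Q₁) = 1` -/
theorem normP_Q1 {Q1 : Subgroup X} (h : EndCfg V Q P R₀ p q r) (h1 : Q1Cfg Q R₀ Q1 q r)
    (Qcomm : ∀ a ∈ Q, ∀ b ∈ Q, a * b = b * a) (Qexp : ∀ a ∈ Q, a ^ q = 1) :
    P ⊓ normalizer (Q1 : Set X) = ⊥ := by
  obtain ⟨hc, hQ⟩ := card_cQR h Qcomm Qexp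
  set P1 : Subgroup X := P ⊓ normalizer (Q1 : Set X) with hP1
  have hRP1 : R₀ ≤ normalizer (P1 : Set X) := by
    intro g hg
    rw [mem_normalizer_iff_map_cj, hP1, map_cj_inf, map_cj_normalizer,
      mem_normalizer_iff_map_cj.1 (h.RP hg), mem_normalizer_iff_map_cj.1 (h1.norm hg)]
  have hP1R : P1 ⊓ centralizer (R₀ : Set X) = ⊥ := by
    rw [eq_bot_iff, ← h.CPR]
    exact inf_le_inf_right _ inf_le_left
  have hP1p : IsPGroup p P1 := h.hP.to_le inf_le_left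
  have hQ1p := h1.isPGroup h
  -- `P1` centralizes `Q1`
  have hfr1 := frob P1 R₀ Q1 r h.hr h.hR₀ hRP1 hP1R inf_le_right h1.norm
    (isSolvable_of_isPGroup h.hq hQ1p)
    (coprime_of_isPGroup h.hq h.hp h.hpq.symm hQ1p hP1p)
    (coprime_prime_of_isPGroup h.hq h.hr h.hqr hQ1p)
  have h2 : Q1 ⊓ (centralizer (P1 : Set X) ⊓ centralizer (R₀ : Set X)) = ⊥ := by
    rw [eq_bot_iff, ← h1.fix]
    exact inf_le_inf_left _ inf_le_right
  rw [h2, h1.fix, Subgroup.card_bot, one_pow, one_mul, one_mul] at hfr1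
  have hQ1C : Q1 ≤ centralizer (P1 : Set X) := le_centralizer_of_card_inf_eq hfr1.symm
  -- the action on `Q`
  have hfr2 := frob P1 R₀ Q r h.hr h.hR₀ hRP1 hP1R (inf_le_left.trans h.PQ) h.RQ
    (isSolvable_of_isPGroup h.hq h.hQ)
    (coprime_of_isPGroup h.hq h.hp h.hpq.symm h.hQ hP1p)
    (coprime_prime_of_isPGroup h.hq h.hr h.hqr h.hQ)
  rw [hc, hQ] at hfr2
  have hK : Q ⊓ (centralizer (P1 : Set X) ⊓ centralizer (R₀ : Set X)) ≤ Q ⊓ centralizer (R₀ : Set X) :=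
    inf_le_inf_left _ inf_le_right
  rcases card_eq_one_or_prime_of_le h.hq hc hK with h3 | h3
  · exfalso
    rw [h3, one_pow, one_mul] at hfr2
    have h4 : Nat.card ↥(Q ⊓ centralizer (P1 : Set X)) = 1 :=
      (Nat.eq_of_mul_eq_mul_left (pow_pos h.hq.pos r) (by rw [mul_one]; exact hfr2)).symm
    have h5 : Q1 ≤ Q ⊓ centralizer (P1 : Set X) := le_inf h1.le hQ1C
    rw [Subgroup.card_eq_one.1 h4, le_bot_iff] at h5
    have := h1.one_lt_card h
    rw [h5, Subgroup.card_bot] at this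
    exact lt_irrefl _ this
  · rw [h3] at hfr2
    have h4 : Nat.card ↥(Q ⊓ centralizer (P1 : Set X)) = Nat.card Q := by
      rw [hQ]
      exact (Nat.eq_of_mul_eq_mul_left (pow_pos h.hq.pos r) hfr2).symm
    have h5 : Q ≤ centralizer (P1 : Set X) := le_centralizer_of_card_inf_eq h4
    have h6 : P1 ≤ P ⊓ centralizer (Q : Set X) := le_inf inf_le_left (le_centralizer_iff.1 h5)
    rw [h.CPQ, le_bot_iff] at h6
    exact h6

end Cfsg.Agent.Helper4.BG36L2
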