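import Mathlib
import Cfsg.Agent.Helper4.BG36L2c

/-!
# Abelian endgame of B&G Theorem 3.6 (L2): `R₀`-invariant hyperplanes
-/

set_option autoImplicit false

namespace Cfsg.Agent.Helper4.BG36L2

open Subgroup Cfsg.Agent.Helper14 Cfsg.Agent.Helper29.BG36

variable {X : Type*} [Group X] [Finite X] {V Q P R₀ : Subgroup X} {p q r : ℕ}

/-- two distinct hyperplanes generate `Q` -/
theorem sup_eq_of_hyperplanes {B Q1 Q : Subgroup X} {q : ℕ} (hq : q.Prime) (hBQ : B ≤ Q) (hQ1Q : Q1 ≤ Q)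
    (hBc : Nat.card B * q = Nat.card Q) (hc : Nat.card B = Nat.card Q1) (hne : B ≠ Q1) :
    B ⊔ Q1 = Q := by
  have hle : B ⊔ Q1 ≤ Q := sup_le hBQ hQ1Q
  obtain ⟨d, hd⟩ : Nat.card B ∣ Nat.card ↥(B ⊔ Q1) := Subgroup.card_dvd_of_le le_sup_left
  have hdvd : Nat.card ↥(B ⊔ Q1) ∣ Nat.card Q := Subgroup.card_dvd_of_le hle
  rw [hd, ← hBc] at hdvd
  have hBpos : 0 < Nat.card B := Nat.card_pos
  have hdq : d ∣ q := Nat.dvd_of_mul_dvd_mul_left hBpos hdvd
  rcases (Nat.dvd_prime hq).1 hdq with h1 | h1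
  · exfalso
    rw [h1, mul_one] at hd
    have h2 : B ⊔ Q1 = B := (Subgroup.eq_of_le_of_card_ge le_sup_left hd.le).symm
    have h3 : Q1 ≤ B := by rw [← h2]; exact le_sup_right
    exact hne (Subgroup.eq_of_le_of_card_ge h3 hc.le).symm
  · rw [h1, hBc] at hd
    exact Subgroup.eq_of_le_of_card_ge hle hd.ge

/-- Step 6: an `R₀`-invariant hyperplane other than `Q₁` has trivial centralizer in `V`. -/
theorem card_inf_centralizer_of_invariant {Q1 : Subgroup X} (h : EndCfg V Q P R₀ p q r)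
    (h1 : Q1Cfg Q R₀ Q1 q r) (Qcomm : ∀ a ∈ Q, ∀ b ∈ Q, a * b = b * a) (Qexp : ∀ a ∈ Q, a ^ q = 1)
    (B : Subgroup X) (hBQ : B ≤ Q) (hBc : Nat.card B = Nat.card Q1) (hne : B ≠ Q1)
    (hRB : R₀ ≤ normalizer (B : Set X)) :
    Nat.card ↥(V ⊓ centralizer (B : Set X)) = 1 := by
  obtain ⟨hc, hQ⟩ := card_cQR h Qcomm Qexp
  have hVp := hV_pgroup h
  have hsup : B ⊔ Q1 = Q :=
    sup_eq_of_hyperplanes h.hq hBQ h1.le (by rw [hBc, h1.card, hQ]) hBc hne
  set M : Subgroup X := V ⊓ centralizer (B : Set X) with hM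
  have hMp : IsPGroup p M := hVp.to_le inf_le_left
  have hQB : Q ≤ normalizer (B : Set X) := le_normalizer_of_comm hBQ Qcomm
  have hQ1M : Q1 ≤ normalizer (M : Set X) := fun g hg =>
    normalizer_inf_centralizer V B (h.QV (h1.le hg)) (hQB (h1.le hg))
  have hRM : R₀ ≤ normalizer (M : Set X) := fun g hg =>
    normalizer_inf_centralizer V B (h.RV hg) (hRB hg)
  have hMQ1 : M ⊓ centralizer (Q1 : Set X) = ⊥ := by
    rw [eq_bot_iff, ← h.CVQ, ← hsup, centralizer_sup_eq, hM, inf_assoc]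
  have hfr := frob Q1 R₀ M r h.hr h.hR₀ h1.norm h1.fix hQ1M hRM
    (isSolvable_of_isPGroup h.hp hMp)
    (coprime_of_isPGroup h.hp h.hq h.hpq hMp (h1.isPGroup h))
    (coprime_prime_of_isPGroup h.hp h.hr h.hpr hMp)
  have h2 : M ⊓ (centralizer (Q1 : Set X) ⊓ centralizer (R₀ : Set X)) = ⊥ := by
    rw [eq_bot_iff, ← hMQ1]
    exact inf_le_inf_left _ inf_le_left
  rw [h2, hMQ1, Subgroup.card_bot, one_pow, one_mul, mul_one] at hfr
  have hK : M ⊓ centralizer (R₀ : Set X) ≤ V ⊓ centralizer (R₀ : Set X) :=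
    inf_le_inf_right _ inf_le_left
  rcases card_eq_one_or_prime_of_le h.hp h.CVR hK with h3 | h3
  · rw [h3, one_pow] at hfr
    exact hfr
  · exfalso
    rw [h3] at hfr
    -- `V = M · C_V(Q₁)`
    have hVM : V ≤ normalizer (M : Set X) := le_normalizer_of_comm inf_le_left h.Vcomm
    have h4 := Cfsg.Agent.Helper17.card_sup_mul_card_inf M (V ⊓ centralizer (Q1 : Set X))
      (inf_le_left.trans hVM)
    have h5 : M ⊓ (V ⊓ centralizer (Q1 : Set X)) = ⊥ := by
      rw [eq_bot_iff, ← hMQ1]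
      exact inf_le_inf_left _ inf_le_right
    rw [h5, Subgroup.card_bot, mul_one, hfr, ← card_V h h1] at h4
    have h6 : M ⊔ (V ⊓ centralizer (Q1 : Set X)) = V :=
      Subgroup.eq_of_le_of_card_ge (sup_le inf_le_left inf_le_left) h4.ge
    have h7 : V ≤ centralizer ((B ⊓ Q1 : Subgroup X) : Set X) := by
      rw [← h6]
      apply sup_le
      · exact inf_le_right.trans (centralizer_le (by exact_mod_cast (inf_le_left : B ⊓ Q1 ≤ B)))
      · exact inf_le_right.trans (centralizer_le (by exact_mod_cast (inf_le_right : B ⊓ Q1 ≤ Q1)))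
    have h8 : B ⊓ Q1 ≤ Q ⊓ centralizer (V : Set X) :=
      le_inf (inf_le_left.trans hBQ) (le_centralizer_iff.1 h7)
    rw [h.CQV, le_bot_iff] at h8
    have h9 := Cfsg.Agent.Helper17.card_sup_mul_card_inf B Q1 (h1.le.trans hQB)
    rw [h8, hsup, Subgroup.card_bot, mul_one, hBc, hQ, h1.card_eq h, ← pow_add] at h9
    have h10 := Nat.pow_right_injective h.hq.two_le h9
    have := h.hr3
    omega

end Cfsg.Agent.Helper4.BG36L2
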