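import Mathlib
import Cfsg.Agent.Helper4.BG36L2d
import Cfsg.Agent.Helper7.Hyperplane

/-!
# Abelian endgame of B&G Theorem 3.6 (L2): the regular orbit of hyperplanes
-/

set_option autoImplicit false

namespace Cfsg.Agent.Helper4.BG36L2

open Subgroup Cfsg.Agent.Helper14 Cfsg.Agent.Helper29.BG36

variable {X : Type*} [Group X] [Finite X] {V Q P R₀ : Subgroup X} {p q r : ℕ}

theorem card_of_mem_hyperplanes {Q1 : Subgroup X} (h : EndCfg V Q P R₀ p q r)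
    (h1 : Q1Cfg Q R₀ Q1 q r) (Qcomm : ∀ a ∈ Q, ∀ b ∈ Q, a * b = b * a) (Qexp : ∀ a ∈ Q, a ^ q = 1)
    (B : Subgroup X) (hBQ : B ≤ Q) (hBi : B.relIndex Q = q) : Nat.card B = Nat.card Q1 := by
  obtain ⟨hc, hQ⟩ := card_cQR h Qcomm Qexp
  have := Cfsg.Agent.Helper7.card_mul_relIndex_of_le hBQ
  rw [hBi, hQ, ← h1.card] at this
  exact Nat.eq_of_mul_eq_mul_right h.hq.pos this

/-- Step 7 -/
theorem exists_orbit [DecidableEq (Subgroup X)] {Q1 : Subgroup X} (h : EndCfg V Q P R₀ p q r)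
    (h1 : Q1Cfg Q R₀ Q1 q r) (Qcomm : ∀ a ∈ Q, ∀ b ∈ Q, a * b = b * a) (Qexp : ∀ a ∈ Q, a ^ q = 1)
    (S : Finset (Subgroup X)) (hS : ∀ B, B ∈ S ↔ B ≤ Q ∧ B.relIndex Q = q)
    (hprod : ∏ B ∈ S.erase Q1, Nat.card ↥(V ⊓ centralizer (B : Set X)) = p ^ r) :
    ∃ (T : Finset (Subgroup X)) (B0 : Subgroup X), T ⊆ S.erase Q1 ∧ T.card = r ∧
      (∀ B ∈ T, Nat.card ↥(V ⊓ centralizer (B : Set X)) = p) ∧
      (∀ B ∈ S, B ≠ Q1 → Nat.card ↥(V ⊓ centralizer (B : Set X)) ≠ 1 → B ∈ T) ∧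
      (∀ B ∈ T, ∃ g ∈ R₀, B = B0.map (cj g)) ∧ B0 ∈ T := by
  haveI : Fact p.Prime := ⟨h.hp⟩
  obtain ⟨hc, hQ⟩ := card_cQR h Qcomm Qexp
  set f : Subgroup X → ℕ := fun B => Nat.card ↥(V ⊓ centralizer (B : Set X)) with hf
  obtain ⟨B0, hB0S, hB0f⟩ : ∃ B0 ∈ S.erase Q1, f B0 ≠ 1 := by
    by_contra hcon
    push Not at hcon
    have h2 : ∏ B ∈ S.erase Q1, f B = 1 := Finset.prod_eq_one hcon
    rw [hprod] at h2
    exact absurd h2 (Nat.one_lt_pow (by have := h.hr3; omega) h.hp.one_lt).ne'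
  have hB0ne : B0 ≠ Q1 := (Finset.mem_erase.1 hB0S).1
  have hB0S' : B0 ∈ S := (Finset.mem_erase.1 hB0S).2
  obtain ⟨hB0Q, hB0i⟩ := (hS B0).1 hB0S'
  have hB0R : ¬ R₀ ≤ normalizer (B0 : Set X) := fun hcon =>
    hB0f (card_inf_centralizer_of_invariant h h1 Qcomm Qexp B0 hB0Q
      (card_of_mem_hyperplanes h h1 Qcomm Qexp B0 hB0Q hB0i) hB0ne hcon)
  have hstab : R₀ ⊓ normalizer (B0 : Set X) = ⊥ := by
    have hdvd : Nat.card ↥(R₀ ⊓ normalizer (B0 : Set X)) ∣ r :=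
      h.hR₀ ▸ Subgroup.card_dvd_of_le inf_le_left
    rcases (Nat.dvd_prime h.hr).1 hdvd with h2 | h2
    · exact Subgroup.card_eq_one.1 h2
    · exfalso
      apply hB0R
      have h3 : R₀ ⊓ normalizer (B0 : Set X) = R₀ :=
        Subgroup.eq_of_le_of_card_ge inf_le_left (by rw [h2, h.hR₀])
      rw [← h3]; exact inf_le_right
  let φ : R₀ → Subgroup X := fun g => B0.map (cj (g : X))
  have hφinj : Function.Injective φ := by
    intro g g' hgg
    have hgg' : B0.map (cj (g : X)) = B0.map (cj (g' : X)) := hgg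
    have h2 : B0.map (cj ((g' : X)⁻¹ * (g : X))) = B0 := by
      rw [← map_cj_mul, hgg', map_cj_mul, inv_mul_cancel, map_cj_one]
    have h3 : (g' : X)⁻¹ * (g : X) ∈ R₀ ⊓ normalizer (B0 : Set X) :=
      ⟨R₀.mul_mem (R₀.inv_mem g'.2) g.2, mem_normalizer_iff_map_cj.2 h2⟩
    rw [hstab, mem_bot] at h3
    apply Subtype.ext
    have h4 : (g : X) = (g' : X) * ((g' : X)⁻¹ * (g : X)) := by group
    rw [h4, h3, mul_one]
  haveI := Fintype.ofFinite R₀
  let T : Finset (Subgroup X) := Finset.univ.image φ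
  have hTcard : T.card = r := by
    rw [Finset.card_image_of_injective _ hφinj, Finset.card_univ, ← Nat.card_eq_fintype_card, h.hR₀]
  have hφS : ∀ g : R₀, φ g ∈ S.erase Q1 := by
    intro g
    rw [Finset.mem_erase]
    constructor
    · intro hcon
      have hcon' : B0.map (cj (g : X)) = Q1 := hcon
      apply hB0ne
      have h2 : B0 = (B0.map (cj (g : X))).map (cj (g : X)⁻¹) := (map_cj_map_cj_inv B0 g).symm
      rw [h2, hcon']
      exact mem_normalizer_iff_map_cj.1 (h1.norm (R₀.inv_mem g.2))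
    · rw [hS]
      have hQg : Q.map (cj (g : X)) = Q := mem_normalizer_iff_map_cj.1 (h.RQ g.2)
      constructor
      · have h2 : B0.map (cj (g : X)) ≤ Q.map (cj (g : X)) := Subgroup.map_mono hB0Q
        rw [hQg] at h2; exact h2
      · have h2 := relIndex_map_map_of_injective B0 Q (cj_injective (g : X))
        rw [hQg, hB0i] at h2; exact h2
  have hTS : T ⊆ S.erase Q1 := by
    intro B hB
    obtain ⟨g, _, rfl⟩ := Finset.mem_image.1 hB
    exact hφS g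
  have hfφ : ∀ g : R₀, f (φ g) = f B0 := fun g => card_inf_centralizer_map_cj V B0 g (h.RV g.2)
  have hprodT : ∏ B ∈ T, f B = f B0 ^ r := by
    rw [Finset.prod_image (fun g _ g' _ hgg => hφinj hgg)]
    rw [Finset.prod_congr rfl (fun g _ => hfφ g), Finset.prod_const, Finset.card_univ,
      ← Nat.card_eq_fintype_card, h.hR₀]
  have hsplit : (∏ B ∈ (S.erase Q1) \ T, f B) * f B0 ^ r = p ^ r := by
    rw [← hprodT, Finset.prod_sdiff hTS, hprod]
  obtain ⟨k, hk⟩ := (hV_pgroup h).exists_card_eq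
  have hfdvd : f B0 ∣ p ^ k := hk ▸ Subgroup.card_dvd_of_le inf_le_left
  obtain ⟨a, _, ha⟩ := (Nat.dvd_prime_pow h.hp).1 hfdvd
  have ha1 : 1 ≤ a := by
    rcases Nat.eq_zero_or_pos a with h0 | h0
    · exfalso; apply hB0f; rw [ha, h0, pow_zero]
    · exact h0
  rw [ha, ← pow_mul] at hsplit
  have hdvd2 : p ^ (a * r) ∣ p ^ r := Dvd.intro_left _ hsplit
  have hle : a * r ≤ r := (Nat.pow_dvd_pow_iff_le_right h.hp.one_lt).1 hdvd2
  have ha_eq : a = 1 := by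
    have hr0 : 0 < r := h.hr.pos
    nlinarith
  rw [ha_eq, one_mul] at hsplit
  have hrest : ∏ B ∈ (S.erase Q1) \ T, f B = 1 := by
    have h2 : (∏ B ∈ (S.erase Q1) \ T, f B) * p ^ r = 1 * p ^ r := by rw [one_mul]; exact hsplit
    exact Nat.eq_of_mul_eq_mul_right (pow_pos h.hp.pos r) h2
  refine ⟨T, B0, hTS, hTcard, ?_, ?_, ?_, ?_⟩
  · intro B hB
    obtain ⟨g, _, rfl⟩ := Finset.mem_image.1 hB
    show f (φ g) = p
    rw [hfφ g, ha, ha_eq, pow_one]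
  · intro B hB hBne hBf
    by_contra hBT
    apply hBf
    have hmem : B ∈ (S.erase Q1) \ T := Finset.mem_sdiff.2 ⟨Finset.mem_erase.2 ⟨hBne, hB⟩, hBT⟩
    have h2 := Finset.dvd_prod_of_mem f hmem
    rw [hrest] at h2
    exact Nat.dvd_one.1 h2
  · intro B hB
    obtain ⟨g, _, rfl⟩ := Finset.mem_image.1 hB
    exact ⟨g, g.2, rfl⟩
  · refine Finset.mem_image.2 ⟨1, Finset.mem_univ _, ?_⟩
    show B0.map (cj ((1 : R₀) : X)) = B0
    rw [Subgroup.coe_one, map_cj_one]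

end Cfsg.Agent.Helper4.BG36L2
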