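import Mathlib
import Cfsg.Agent.Helper4.BG36L2e
import Cfsg.Agent.Helper1.BG36L1

/-!
# Abelian endgame of B&G Theorem 3.6 (L2): the contradiction
-/

set_option autoImplicit false

namespace Cfsg.Agent.Helper4.BG36L2

open Subgroup Cfsg.Agent.Helper14 Cfsg.Agent.Helper29.BG36

variable {X : Type*} [Group X] [Finite X]

/-- **L2** (abelian endgame of B&G Theorem 3.6): the end configuration with `Q` elementary abelian
is contradictory. -/
theorem endCfg_abelian_false (V Q P R₀ : Subgroup X) (p q r : ℕ) (h : EndCfg V Q P R₀ p q r)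
    (Qcomm : ∀ a ∈ Q, ∀ b ∈ Q, a * b = b * a) (Qexp : ∀ a ∈ Q, a ^ q = 1) : False := by
  classical
  haveI : Fact p.Prime := ⟨h.hp⟩
  haveI : Fact q.Prime := ⟨h.hq⟩
  haveI : Fact r.Prime := ⟨h.hr⟩
  obtain ⟨Q1, hQ1Q, hQ1N, hQ1F, hQ1c⟩ := exists_Q1 h Qcomm Qexp
  have h1 : Q1Cfg Q R₀ Q1 q r := ⟨hQ1Q, hQ1N, hQ1F, hQ1c⟩
  obtain ⟨hc, hQ⟩ := card_cQR h Qcomm Qexp
  haveI := Fintype.ofFinite (Subgroup X)
  let S : Finset (Subgroup X) := Finset.univ.filter (fun B => B ≤ Q ∧ B.relIndex Q = q)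
  have hS : ∀ B, B ∈ S ↔ B ≤ Q ∧ B.relIndex Q = q := fun B => by simp [S]
  set f : Subgroup X → ℕ := fun B => Nat.card ↥(V ⊓ centralizer (B : Set X)) with hf
  have hL1 : Nat.card V = ∏ B ∈ S, f B :=
    Cfsg.Agent.Helper1.BG36L1.card_eq_prod_hyperplanes V Q p q h.hpq h.Vcomm (hV_pgroup h)
      Qcomm Qexp h.QV h.CVQ S hS
  have hQ1S : Q1 ∈ S := by
    rw [hS]; refine ⟨hQ1Q, ?_⟩
    have h2 := Cfsg.Agent.Helper7.card_mul_relIndex_of_le hQ1Q
    rw [hQ, ← hQ1c] at h2
    exact Nat.eq_of_mul_eq_mul_left Nat.card_pos h2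
  have hprod : ∏ B ∈ S.erase Q1, f B = p ^ r := by
    have h2 := Finset.mul_prod_erase S f hQ1S
    rw [← hL1, card_V h h1] at h2
    have h3 : f Q1 * ∏ B ∈ S.erase Q1, f B = f Q1 * p ^ r := by
      rw [h2]; exact mul_comm _ _
    exact Nat.eq_of_mul_eq_mul_left Nat.card_pos h3
  obtain ⟨T, B0, hTS, hTcard, hTf, hTall, hTorb, hB0T⟩ := exists_orbit h h1 Qcomm Qexp S hS hprod
  have hPS : ∀ y ∈ P, ∀ B ∈ S, B.map (cj y) ∈ S := by
    intro y hy B hB
    obtain ⟨hBQ, hBi⟩ := (hS B).1 hB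
    rw [hS]
    have hQy : Q.map (cj y) = Q := mem_normalizer_iff_map_cj.1 (h.PQ hy)
    constructor
    · have h2 : B.map (cj y) ≤ Q.map (cj y) := Subgroup.map_mono hBQ
      rw [hQy] at h2; exact h2
    · have h2 := relIndex_map_map_of_injective B Q (cj_injective y)
      rw [hQy, hBi] at h2; exact h2
  have hPf : ∀ y ∈ P, ∀ B, f (B.map (cj y)) = f B := fun y hy B =>
    card_inf_centralizer_map_cj V B y (h.PV hy)
  by_cases hcase : f Q1 = 1
  · -- `C_V(Q₁) = 1`
    have hPT : ∀ y ∈ P, ∀ B ∈ T, B.map (cj y) ∈ T := by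
      intro y hy B hB
      have hBS : B ∈ S := (Finset.mem_erase.1 (hTS hB)).2
      have hfB : f (B.map (cj y)) = p := by rw [hPf y hy]; exact hTf B hB
      apply hTall _ (hPS y hy B hBS)
      · intro hcon
        rw [hcon, hcase] at hfB
        exact h.hp.one_lt.ne hfB
      · show f (B.map (cj y)) ≠ 1
        rw [hfB]; exact h.hp.one_lt.ne'
    have hpr : ¬ p ∣ T.card := by
      rw [hTcard]
      intro hdvd
      exact h.hpr ((Nat.prime_dvd_prime_iff_eq h.hp h.hr).1 hdvd)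
    obtain ⟨B1, hB1T, hB1fix⟩ := exists_fixed_subgroup P p h.hP T hPT hpr
    obtain ⟨g1, hg1, hB1eq⟩ := hTorb B1 hB1T
    have hPN : ∀ B ∈ T, P ≤ normalizer (B : Set X) := by
      intro B hB y hy
      obtain ⟨g, hg, hBeq⟩ := hTorb B hB
      have hkR : g * g1⁻¹ ∈ R₀ := R₀.mul_mem hg (R₀.inv_mem hg1)
      have hBk : B = B1.map (cj (g * g1⁻¹)) := by
        rw [hBeq, hB1eq, map_cj_mul, inv_mul_cancel_right]
      have hy' : (g * g1⁻¹)⁻¹ * y * (g * g1⁻¹) ∈ P := by
        have h2 := conj_mem_of_le_normalizer h.RP (R₀.inv_mem hkR) hy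
        simpa using h2
      rw [mem_normalizer_iff_map_cj, hBk, map_cj_mul]
      have h3 : y * (g * g1⁻¹) = (g * g1⁻¹) * ((g * g1⁻¹)⁻¹ * y * (g * g1⁻¹)) := by group
      rw [h3, ← map_cj_mul, hB1fix _ hy']
    have hPC : ∀ B ∈ T, V ⊓ centralizer (B : Set X) ≤ centralizer (P : Set X) := by
      intro B hB
      rw [← le_centralizer_iff]
      exact le_centralizer_of_card_prime P _ p h.hP (hTf B hB)
        (fun y hy => normalizer_inf_centralizer V B (h.PV hy) (hPN B hB hy))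
    have hqV : ¬ q ∣ Nat.card V := by
      obtain ⟨k, hk⟩ := (hV_pgroup h).exists_card_eq
      rw [hk]
      intro hdvd
      exact h.hpq ((Nat.prime_dvd_prime_iff_eq h.hq h.hp).1 (h.hq.dvd_of_dvd_pow hdvd)).symm
    have hgen := Cfsg.Agent.Helper7.le_iSup_inf_centralizer_hyperplane q _ Q V rfl
      ⟨⟨⟨fun a b => Subtype.ext (Qcomm a a.2 b b.2)⟩⟩, Qexp⟩ hqV h.QV
    have hVC : V ≤ centralizer (P : Set X) := by
      refine hgen.trans (iSup_le ?_)
      rintro ⟨B, hBQ, hBi⟩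
      show V ⊓ centralizer (B : Set X) ≤ centralizer (P : Set X)
      rcases Cfsg.Agent.Helper7.relIndex_eq_one_or_prime_of_le h.hQ hBi with h2 | h2
      · have hQB : Q ≤ B := relIndex_eq_one.1 h2
        have h3 : V ⊓ centralizer (B : Set X) ≤ V ⊓ centralizer (Q : Set X) :=
          inf_le_inf_left _ (centralizer_le (by exact_mod_cast hQB))
        rw [h.CVQ] at h3
        exact h3.trans bot_le
      · have hBS : B ∈ S := (hS B).2 ⟨hBQ, h2⟩
        by_cases hfB : f B = 1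
        · have h3 : V ⊓ centralizer (B : Set X) = ⊥ := Subgroup.card_eq_one.1 hfB
          rw [h3]; exact bot_le
        · have hBne : B ≠ Q1 := fun hcon => hfB (hcon ▸ hcase)
          exact hPC B (hTall B hBS hBne hfB)
    have h4 : P ≤ P ⊓ centralizer (V : Set X) := le_inf le_rfl (le_centralizer_iff.1 hVC)
    rw [h.CPV, le_bot_iff] at h4
    exact h.P1 h4
  · -- `C_V(Q₁) ≠ 1`
    have hstab := normP_Q1 h h1 Qcomm Qexp
    let ψ : P → Subgroup X := fun y => Q1.map (cj (y : X))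
    have hψinj : Function.Injective ψ := by
      intro y y' hyy
      have hyy' : Q1.map (cj (y : X)) = Q1.map (cj (y' : X)) := hyy
      have h2 : Q1.map (cj ((y' : X)⁻¹ * (y : X))) = Q1 := by
        rw [← map_cj_mul, hyy', map_cj_mul, inv_mul_cancel, map_cj_one]
      have h3 : (y' : X)⁻¹ * (y : X) ∈ P ⊓ normalizer (Q1 : Set X) :=
        ⟨P.mul_mem (P.inv_mem y'.2) y.2, mem_normalizer_iff_map_cj.2 h2⟩
      rw [hstab, mem_bot] at h3
      apply Subtype.ext
      have h4 : (y : X) = (y' : X) * ((y' : X)⁻¹ * (y : X)) := by group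
      rw [h4, h3, mul_one]
    haveI := Fintype.ofFinite P
    have himg : Finset.univ.image ψ ⊆ insert Q1 T := by
      intro B hB
      obtain ⟨y, _, rfl⟩ := Finset.mem_image.1 hB
      rw [Finset.mem_insert]
      by_cases hyQ : ψ y = Q1
      · left; exact hyQ
      · right
        apply hTall _ (hPS y y.2 Q1 hQ1S) hyQ
        show f (Q1.map (cj (y : X))) ≠ 1
        rw [hPf y y.2]; exact hcase
    have hcardP : Nat.card P ≤ r + 1 := by
      have h2 := Finset.card_le_card himg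
      rw [Finset.card_image_of_injective _ hψinj, Finset.card_univ, ← Nat.card_eq_fintype_card] at h2
      exact h2.trans ((Finset.card_insert_le _ _).trans (by rw [hTcard]))
    have hmod := card_modEq_one P R₀ r h.hR₀ h.RP h.CPR
    have hP1 : Nat.card P ≠ 1 := fun hcon => h.P1 (Subgroup.card_eq_one.1 hcon)
    obtain ⟨k, hk⟩ := h.hP.exists_card_eq
    have hodd : Odd (Nat.card P) := by rw [hk]; exact h.hpodd.pow
    have hrodd : Odd r := h.hr.odd_of_ne_two (by have := h.hr3; omega)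
    have hpos : 0 < Nat.card P := Nat.card_pos
    have hdvd : r ∣ Nat.card P - 1 := (Nat.modEq_iff_dvd' (by omega)).1 hmod.symm
    have hle := Nat.le_of_dvd (by omega) hdvd
    have hcard : Nat.card P = r + 1 := by omega
    rw [hcard] at hodd
    exact (Nat.odd_add_one.1 hodd) hrodd

end Cfsg.Agent.Helper4.BG36L2
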