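import Mathlib
import Cfsg.Agent.Helper4.BG10g
import Cfsg.Agent.S1403
import Cfsg.Agent.S1350
import Cfsg.Agent.Helper10.Alperin
import Cfsg.Agent.Helper21.BG13a
import Cfsg.Agent.S1414
import Cfsg.Agent.Lead.Hall2

/-!
# B&G §12: disjointness of `σ`-sets of nonconjugate maximal subgroups (Lemma SD)
-/

set_option autoImplicit false
set_option linter.unusedSectionVars false
set_option linter.unusedVariables false
set_option linter.style.haveILetI false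

namespace Cfsg.Agent.Helper4.BG12SD

open Subgroup Cfsg
open Cfsg.Agent.Helper14 (IsSylowIn cj map_cj_le_iff map_cj_mul map_cj_one map_cj_normalizer
  mem_normalizer_iff_map_cj map_cj_eq_self_of_mem le_normalizer_of_map_cj_le mem_map_cj)
open Cfsg.Agent.Helper4.BG10

universe u
variable {G : Type u} [Group G] [Finite G]

theorem uniq (hG : Cfsg.IsMinSimpleOddOrder G) : Uniq G :=
  fun K hK h2 h3 => Cfsg.Agent.S1403.result hG K hK h2 h3

/-- a Sylow `q`-subgroup of `M` for `q ∈ σ(M)` -/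
theorem exists_isSylowIn_of_mem_sigma {M : Subgroup G} {q : ℕ} (hq : q ∈ Cfsg.sigma M) :
    ∃ Q : Subgroup G, IsSylowIn q Q M := by
  obtain ⟨-, -, P₀, -⟩ := hq
  exact ⟨_, Cfsg.Agent.Helper14.isSylowIn_of_sylow P₀⟩

/-- every `q`-subgroup of `G` lies in a conjugate of `M`, for `q ∈ σ(M)` -/
theorem exists_conj_ge_of_mem_sigma {M : Subgroup G} {q : ℕ} [Fact q.Prime]
    (hqM : q ∈ Cfsg.sigma M) {B : Subgroup G} (hB : IsPGroup q B) :
    ∃ g : G, ∃ Q : Subgroup G, IsSylowIn q Q M ∧ B ≤ Q.map (cj g) := by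
  obtain ⟨Q, hQ⟩ := exists_isSylowIn_of_mem_sigma hqM
  have hQtop : IsSylowIn q Q ⊤ := sigma_isSylowIn_top hqM hQ
  obtain ⟨Q', hQ', hBQ'⟩ := Cfsg.Agent.Helper14.exists_isSylowIn_ge (le_top : B ≤ ⊤) hB
  obtain ⟨g, -, hg⟩ := hQtop.exists_conj hQ'
  exact ⟨g, Q, hQ, hg ▸ hBQ'⟩

/-- **Lemma SD (i)**: for nonconjugate maximal subgroups `M`, `H`: `α(H) ∩ σ(M) = ∅`. -/
theorem alpha_sigma_disjoint (hG : Cfsg.IsMinSimpleOddOrder G) {M H : Subgroup G}
    (hM : IsCoatom M) (hH : IsCoatom H) (hnc : ∀ g : G, H ≠ M.map (cj g)) {q : ℕ}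
    (hqH : q ∈ Cfsg.alpha H) (hqM : q ∈ Cfsg.sigma M) : False := by
  haveI : Fact q.Prime := ⟨hqM.1⟩
  have hU := uniq hG
  obtain ⟨F, hFH, hFe, hFcard⟩ :=
    Cfsg.Agent.Lead.TT.exists_elementary_of_not_pRankLE' 2 H hqH.2
  have hFU := uniq_of_cube hG hU hFe hFcard
  obtain ⟨g, Q, hQ, hFQ⟩ := exists_conj_ge_of_mem_sigma hqM (isPGroup_of_elementary hFe)
  have hFMg : F ≤ M.map (cj g) := hFQ.trans (Subgroup.map_mono hQ.1)
  have hMg : IsCoatom (M.map (cj g)) := Cfsg.Agent.Lead.BG9.isCoatom_map_cj hM g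
  obtain ⟨M', ⟨-, -⟩, huniq⟩ := hFU
  have h1 : H = M' := huniq H ⟨hH, hFH⟩
  have h2 : M.map (cj g) = M' := huniq _ ⟨hMg, hFMg⟩
  exact hnc g (h1.trans h2.symm)

/-- if `N_G(Q) ≤ M^g` contains the maximal subgroup `H`, then `H = M^g` -/
theorem eq_conj_of_le {M H : Subgroup G} (hM : IsCoatom M) (hH : IsCoatom H) {g : G}
    (h : H ≤ M.map (cj g)) : H = M.map (cj g) := by
  have hMg : IsCoatom (M.map (cj g)) := Cfsg.Agent.Lead.BG9.isCoatom_map_cj hM g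
  rcases eq_or_lt_of_le h with h1 | h1
  · exact h1
  · exact absurd (hH.2 _ h1) hMg.1

/-- **Lemma SD (ii)**: for nonconjugate maximal subgroups `M`, `H` with `H_σ` nilpotent:
`σ(H) ∩ σ(M) = ∅`. -/
theorem sigma_disjoint_of_nilpotent (hG : Cfsg.IsMinSimpleOddOrder G) {M H : Subgroup G}
    (hM : IsCoatom M) (hH : IsCoatom H) (hnc : ∀ g : G, H ≠ M.map (cj g))
    (hnil : Group.IsNilpotent (Cfsg.sigmaCore H)) {q : ℕ}
    (hqH : q ∈ Cfsg.sigma H) (hqM : q ∈ Cfsg.sigma M) : False := by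
  haveI : Fact q.Prime := ⟨hqM.1⟩
  have hU := uniq hG
  set Hσ := Cfsg.sigmaCore H with hHσ
  have hHall := (Cfsg.Agent.S1350.result hG H hH).1
  have hσH : Hσ ≤ H := hHall.1
  have hnd : ¬ q ∣ Hσ.relIndex H := hHall.2.2 q hqH.1 hqH
  -- a Sylow `q`-subgroup of `H_σ`, normal in `H_σ`
  obtain ⟨Q'⟩ : Nonempty (Sylow q ↥Hσ) := inferInstance
  have hQ'n : (Q' : Subgroup ↥Hσ).Normal := by
    have := ((isNilpotent_of_finite_tfae (G := ↥Hσ)).out 0 3).1 hnil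
    exact this q inferInstance Q'
  set Q : Subgroup G := (Q' : Subgroup ↥Hσ).map Hσ.subtype with hQdef
  have hQσ : IsSylowIn q Q Hσ := Cfsg.Agent.Helper14.isSylowIn_of_sylow Q'
  have hQH : IsSylowIn q Q H :=
    Cfsg.Agent.Helper10.isSylowIn_of_not_dvd_relIndex (hQσ.1.trans hσH) hQσ.2.1 (by
      rw [← Subgroup.relIndex_mul_relIndex Q Hσ H hQσ.1 hσH]
      intro hdvd
      rcases (Nat.Prime.dvd_mul hqM.1).1 hdvd with h1 | h1
      · exact Cfsg.Agent.Helper10.not_dvd_relIndex_of_isSylowIn hQσ h1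
      · exact hnd h1)
  -- `H_σ` normalizes `Q`
  have hσN : Hσ ≤ normalizer (Q : Set G) := by
    intro x hx
    rw [mem_normalizer_iff]
    intro y
    constructor
    · rintro ⟨y', hy', rfl⟩
      have := hQ'n.conj_mem y' hy' ⟨x, hx⟩
      exact ⟨_, this, rfl⟩
    · intro hy
      obtain ⟨z', hz', hz⟩ := hy
      have hyσ : y ∈ Hσ := by
        have h1 : x * y * x⁻¹ ∈ Hσ := hz ▸ z'.2
        have h2 := Hσ.mul_mem (Hσ.mul_mem (Hσ.inv_mem hx) h1) hx
        have h3 : x⁻¹ * (x * y * x⁻¹) * x = y := by group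
        rwa [h3] at h2
      have := hQ'n.conj_mem z' hz' ⟨x, hx⟩⁻¹
      refine ⟨⟨y, hyσ⟩, ?_, rfl⟩
      have h4 : (⟨x, hx⟩ : ↥Hσ)⁻¹ * z' * (⟨x, hx⟩ : ↥Hσ)⁻¹⁻¹ = ⟨y, hyσ⟩ := by
        apply Subtype.ext
        simp only [Subgroup.coe_mul, Subgroup.coe_inv, inv_inv]
        have : (z' : G) = x * y * x⁻¹ := hz
        rw [this]; group
      rw [← h4]; exact this
  -- `H` normalizes `Q`
  have hHN : H ≤ normalizer (Q : Set G) := by
    apply le_normalizer_of_map_cj_le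
    intro h hh
    have hHσh : Hσ.map (cj h) = Hσ :=
      mem_normalizer_iff_map_cj.1 (Cfsg.Agent.Helper21.BG10.le_normalizer_sigmaCore H hh)
    -- `Q^h` is Sylow in `H_σ`
    have hQh : IsSylowIn q (Q.map (cj h)) Hσ := by
      refine ⟨?_, hQσ.2.1.map _, ?_⟩
      · rw [← hHσh]; exact Subgroup.map_mono hQσ.1
      · intro R hRσ hRq hQR
        have h1 : Q ≤ R.map (cj h⁻¹) := (map_cj_le_iff Q R h).1 hQR
        have h2 : R.map (cj h⁻¹) ≤ Hσ := by
          have : R.map (cj h⁻¹) ≤ Hσ.map (cj h⁻¹) := Subgroup.map_mono hRσ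
          rwa [mem_normalizer_iff_map_cj.1
            (Cfsg.Agent.Helper21.BG10.le_normalizer_sigmaCore H (H.inv_mem hh))] at this
        have h3 := hQσ.2.2 (R.map (cj h⁻¹)) h2 (hRq.map _) h1
        rw [← h3, Cfsg.Agent.Helper14.map_cj_inv_map_cj]
    obtain ⟨g, hg, hgeq⟩ := hQσ.exists_conj hQh
    rw [hgeq, mem_normalizer_iff_map_cj.1 (hσN hg)]
  -- compare with a Sylow subgroup of `M`
  have hQtop : IsSylowIn q Q ⊤ := sigma_isSylowIn_top hqH hQH
  obtain ⟨QM, hQM⟩ := exists_isSylowIn_of_mem_sigma hqM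
  have hQMtop : IsSylowIn q QM ⊤ := sigma_isSylowIn_top hqM hQM
  obtain ⟨g, -, hg⟩ := hQMtop.exists_conj hQtop
  have hN : normalizer (Q : Set G) ≤ M.map (cj g) := by
    rw [hg, ← map_cj_normalizer]
    exact Subgroup.map_mono (sigma_normalizer_le hqM hQM)
  exact hnc g (eq_conj_of_le hM hH (hHN.trans hN))


/-! ### Lemma 12.15 (d1) -/

theorem card_map_cj (A : Subgroup G) (g : G) : Nat.card ↥(A.map (cj g)) = Nat.card ↥A :=
  Nat.card_congr (A.equivMapOfInjective _ (Cfsg.Agent.Helper14.cj_injective g)).symm.toEquiv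

/-- a nilpotent subgroup normalizes its Sylow subgroups -/
theorem le_normalizer_of_nilpotent_sylow {N S : Subgroup G} {q : ℕ} [Fact q.Prime]
    (hnil : Group.IsNilpotent ↥N) (hS : IsSylowIn q S N) : N ≤ normalizer (S : Set G) := by
  have hn : ((hS.toSylow : Sylow q ↥N) : Subgroup ↥N).Normal := by
    have := ((isNilpotent_of_finite_tfae (G := ↥N)).out 0 3).1 hnil
    exact this q inferInstance hS.toSylow
  apply le_normalizer_of_map_cj_le
  rintro g hg _ ⟨y, hy, rfl⟩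
  have h1 : (⟨y, hS.1 hy⟩ : ↥N) ∈ ((hS.toSylow : Sylow q ↥N) : Subgroup ↥N) := by
    show _ ∈ S.subgroupOf N
    rw [Subgroup.mem_subgroupOf]; exact hy
  have h2 := hn.conj_mem _ h1 ⟨g, hg⟩
  have h3 : (⟨g, hg⟩ : ↥N) * ⟨y, hS.1 hy⟩ * (⟨g, hg⟩ : ↥N)⁻¹ ∈ S.subgroupOf N := h2
  rw [Subgroup.mem_subgroupOf] at h3
  exact h3

/-- the normalizer of a nilpotent subgroup normalizes each of its Sylow subgroups -/
theorem normalizer_le_normalizer_of_nilpotent_sylow {N S : Subgroup G} {q : ℕ} [Fact q.Prime]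
    (hnil : Group.IsNilpotent ↥N) (hS : IsSylowIn q S N) :
    normalizer (N : Set G) ≤ normalizer (S : Set G) := by
  intro x hx
  have hNx : N.map (cj x) = N := mem_normalizer_iff_map_cj.1 hx
  have hSx : IsSylowIn q (S.map (cj x)) N := by
    have := hS.map_cj x
    rwa [hNx] at this
  obtain ⟨g, hg, hgeq⟩ := hS.exists_conj hSx
  rw [mem_normalizer_iff_map_cj, hgeq]
  exact mem_normalizer_iff_map_cj.1 (le_normalizer_of_nilpotent_sylow hnil hS hg)

/-- for `q ∈ σ(H)`, a Sylow `q`-subgroup of `H_σ` is a Sylow `q`-subgroup of `H` -/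
theorem isSylowIn_of_isSylowIn_sigmaCore (hG : Cfsg.IsMinSimpleOddOrder G) {H : Subgroup G}
    (hH : IsCoatom H) {q : ℕ} (hq : q ∈ Cfsg.sigma H) {Q : Subgroup G}
    (hQσ : IsSylowIn q Q (Cfsg.sigmaCore H)) : IsSylowIn q Q H := by
  haveI : Fact q.Prime := ⟨hq.1⟩
  have hHall := (Cfsg.Agent.S1350.result hG H hH).1
  have hσH : Cfsg.sigmaCore H ≤ H := hHall.1
  have hnd : ¬ q ∣ (Cfsg.sigmaCore H).relIndex H := hHall.2.2 q hq.1 hq
  exact Cfsg.Agent.Helper10.isSylowIn_of_not_dvd_relIndex (hQσ.1.trans hσH) hQσ.2.1 (by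
      rw [← Subgroup.relIndex_mul_relIndex Q (Cfsg.sigmaCore H) H hQσ.1 hσH]
      intro hdvd
      rcases (Nat.Prime.dvd_mul hq.1).1 hdvd with h1 | h1
      · exact Cfsg.Agent.Helper10.not_dvd_relIndex_of_isSylowIn hQσ h1
      · exact hnd h1)

/-- for `q ∈ σ(H)`, the Sylow `q`-subgroups of `H` lie in `H_σ` -/
theorem isSylowIn_le_sigmaCore (hG : Cfsg.IsMinSimpleOddOrder G) {H : Subgroup G}
    (hH : IsCoatom H) {q : ℕ} [Fact q.Prime] (hq : q ∈ Cfsg.sigma H) {S : Subgroup G}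
    (hS : IsSylowIn q S H) : S ≤ Cfsg.sigmaCore H := by
  obtain ⟨Q, hQσ⟩ := Cfsg.Agent.Helper14.exists_isSylowIn (p := q) (Cfsg.sigmaCore H)
  have hQH := isSylowIn_of_isSylowIn_sigmaCore hG hH hq hQσ
  obtain ⟨g, hg, hgeq⟩ := hQH.exists_conj hS
  rw [hgeq]
  have : (Cfsg.sigmaCore H).map (cj g) = Cfsg.sigmaCore H :=
    mem_normalizer_iff_map_cj.1 (Cfsg.Agent.Helper21.BG10.le_normalizer_sigmaCore H hg)
  rw [← this]; exact Subgroup.map_mono hQσ.1

/-- **Hall**: in a solvable subgroup `K`, a Hall subgroup `N₀` has a `K`-conjugate containing any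
given subgroup of `K` of order coprime to `|K : N₀|`. -/
theorem exists_conj_hall_ge {K N₀ S : Subgroup G} (hK : Group.IsSolvable ↥K) (hN₀K : N₀ ≤ K)
    (hcop : (Nat.card N₀).Coprime (N₀.relIndex K)) (hSK : S ≤ K)
    (hS : (Nat.card S).Coprime (N₀.relIndex K)) : ∃ k ∈ K, S ≤ N₀.map (cj k) := by
  have h1 : Nat.card (N₀.subgroupOf K) = Nat.card N₀ :=
    Nat.card_congr (subgroupOfEquivOfLe hN₀K).toEquiv
  have hcardK : Nat.card K = Nat.card N₀ * N₀.relIndex K := by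
    have := (N₀.subgroupOf K).card_mul_index
    rw [h1] at this
    exact this.symm
  have h2 : Nat.card (S.subgroupOf K) = Nat.card S :=
    Nat.card_congr (subgroupOfEquivOfLe hSK).toEquiv
  obtain ⟨H, hHcard, hSH⟩ := Cfsg.Agent.Lead.hall_exists_ge_aux _ rfl (Nat.card N₀)
    (N₀.relIndex K) hcardK hcop (S.subgroupOf K) (by rw [h2]; exact hS)
  obtain ⟨g, hg⟩ := Cfsg.Agent.Lead.hall_conj_aux _ rfl (Nat.card N₀) (N₀.relIndex K) hcardK hcop
    (N₀.subgroupOf K) H h1 hHcard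
  refine ⟨g, g.2, ?_⟩
  intro s hs
  have h3 : (⟨s, hSK hs⟩ : ↥K) ∈ H := hSH (by rw [mem_subgroupOf]; exact hs)
  rw [← hg, Cfsg.Agent.Lead.mem_conj_smul_iff, mem_subgroupOf] at h3
  rw [mem_map_cj]
  exact h3

/-- **Frattini argument for Hall subgroups** (in terms of `cj`): if `K ⊴ L` is solvable and `N`
is a Hall subgroup of `K`, then `L = K N_L(N)`. -/
theorem hall_frattini_cj {L K N : Subgroup G} (hKL : K ≤ L) (hLK : L ≤ normalizer (K : Set G))
    (hK : Group.IsSolvable ↥K) (hNK : N ≤ K) (hcop : (Nat.card N).Coprime (N.relIndex K)) :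
    L ≤ K ⊔ (L ⊓ normalizer (N : Set G)) := by
  intro l hl
  have hKl : K.map (cj l) = K := mem_normalizer_iff_map_cj.1 (hLK hl)
  have h1 : N.map (cj l) ≤ K := by rw [← hKl]; exact Subgroup.map_mono hNK
  obtain ⟨k, hk, hle⟩ := exists_conj_hall_ge hK hNK hcop h1 (by rw [card_map_cj]; exact hcop)
  have heq : N.map (cj l) = N.map (cj k) :=
    Subgroup.eq_of_le_of_card_ge hle (by rw [card_map_cj, card_map_cj])
  have hn : k⁻¹ * l ∈ normalizer (N : Set G) := by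
    rw [mem_normalizer_iff_map_cj, ← map_cj_mul, heq, Cfsg.Agent.Helper14.map_cj_map_cj_inv]
  have : l = k * (k⁻¹ * l) := by group
  rw [this]
  exact Subgroup.mul_mem_sup hk ⟨L.mul_mem (L.inv_mem (hKL hk)) hl, hn⟩

theorem piCore_mono {X : Type*} [Group X] {π π' : Set ℕ} (h : π ⊆ π') :
    Cfsg.piCore π X ≤ Cfsg.piCore π' X := by
  apply sSup_le_sSup
  rintro N ⟨hN, hNπ⟩
  exact ⟨hN, fun p hp hd => h (hNπ p hp hd)⟩

/-- `L_β ≤ L_σ` -/
theorem betaCore_le_sigmaCore (hG : Cfsg.IsMinSimpleOddOrder G) {L : Subgroup G}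
    (hL : IsCoatom L) : Cfsg.piCoreOf (Cfsg.beta L) L ≤ Cfsg.sigmaCore L := by
  apply Subgroup.map_mono
  apply piCore_mono
  intro p hp
  haveI : Fact p.Prime := ⟨hp.1.1⟩
  exact alpha_subset_sigma hG (uniq hG) hL hp.1

/-- **B&G 12.15 (d1)**: `M`, `L` nonconjugate maximal subgroups, `q ∈ σ(M) ∩ σ(L)`, `S` a Sylow
`q`-subgroup of `L` with `N_G(S) ≤ M`.  Then `L = L_β (M ∩ L)`. -/
theorem lem_12_15_d1 (hG : Cfsg.IsMinSimpleOddOrder G) {M L : Subgroup G}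
    (hM : IsCoatom M) (hL : IsCoatom L) (hnc : ∀ g : G, L ≠ M.map (cj g)) {q : ℕ} [Fact q.Prime]
    (hqM : q ∈ Cfsg.sigma M) (hqL : q ∈ Cfsg.sigma L) {S : Subgroup G} (hS : IsSylowIn q S L)
    (hNS : normalizer (S : Set G) ≤ M) :
    L ≤ Cfsg.piCoreOf (Cfsg.beta L) L ⊔ (M ⊓ L) := by
  have hq : q.Prime := Fact.out
  obtain ⟨hβ, -, -, ⟨N₀, hN₀, hN₀nil⟩, -⟩ := Cfsg.Agent.S1414.result hG L hL
  set Lβ := Cfsg.piCoreOf (Cfsg.beta L) L with hLβ
  set Lσ := Cfsg.sigmaCore L with hLσ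
  have hqβ : q ∉ Cfsg.beta L := fun h => alpha_sigma_disjoint hG hM hL hnc h.1 hqM
  have hSσ : S ≤ Lσ := isSylowIn_le_sigmaCore hG hL hqL hS
  have hσL : Lσ ≤ L := (Cfsg.Agent.S1350.result hG L hL).1.1
  have hσne : Lσ ≠ ⊤ := fun h => hL.1 (top_le_iff.1 (h ▸ hσL))
  have hσsolv : Group.IsSolvable ↥Lσ := hG.2.2.2 Lσ hσne
  have hβσ : Lβ ≤ Lσ := betaCore_le_sigmaCore hG hL
  have hcop : (Nat.card N₀).Coprime (N₀.relIndex Lσ) := by
    apply Nat.coprime_of_dvd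
    intro k hk hk1 hk2
    exact hN₀.2.2 k hk (hN₀.2.1 k hk hk1) hk2
  have hScop : (Nat.card S).Coprime (N₀.relIndex Lσ) := by
    obtain ⟨n, hn⟩ := IsPGroup.iff_card.mp hS.2.1
    rw [hn]
    apply Nat.Coprime.pow_left
    exact (Nat.Prime.coprime_iff_not_dvd hq).2 (hN₀.2.2 q hq ⟨hq, hqβ⟩)
  obtain ⟨k, hk, hSN⟩ := exists_conj_hall_ge hσsolv hN₀.1 hcop hSσ hScop
  set N := N₀.map (cj k) with hN
  have hσk : Lσ.map (cj k) = Lσ := map_cj_eq_self_of_mem hk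
  have hNσ : N ≤ Lσ := by rw [← hσk]; exact Subgroup.map_mono hN₀.1
  have hNrel : N.relIndex Lσ = N₀.relIndex Lσ := by
    conv_lhs => rw [← hσk]
    exact Subgroup.relIndex_map_map_of_injective _ _ (Cfsg.Agent.Helper14.cj_injective k)
  have hNnil : Group.IsNilpotent ↥N :=
    @Group.nilpotent_of_mulEquiv _ _ _ _ hN₀nil
      (N₀.equivMapOfInjective _ (Cfsg.Agent.Helper14.cj_injective k))
  have hSN' : IsSylowIn q S N :=
    ⟨hSN, hS.2.1, fun Q hQN hQp hSQ => hS.2.2 Q (hQN.trans (hNσ.trans hσL)) hQp hSQ⟩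
  have hNN : normalizer (N : Set G) ≤ M :=
    (normalizer_le_normalizer_of_nilpotent_sylow hNnil hSN').trans hNS
  have hNcop : (Nat.card N).Coprime (N.relIndex Lσ) := by
    rw [hNrel, hN, card_map_cj]; exact hcop
  have hfr := hall_frattini_cj hσL (Cfsg.Agent.Helper21.BG10.le_normalizer_sigmaCore L) hσsolv
    hNσ hNcop
  -- `L_σ ≤ L_β N`
  have hσβN : Lσ ≤ Lβ ⊔ N := by
    rw [← Subgroup.relIndex_eq_one]
    apply Nat.eq_one_iff_not_exists_prime_dvd.2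
    intro p hp hpd
    have hd1 : p ∣ N.relIndex Lσ :=
      hpd.trans (Subgroup.relIndex_dvd_of_le_left Lσ (le_sup_right : N ≤ Lβ ⊔ N))
    have hd2 : p ∣ Lβ.relIndex L := by
      have h1 : p ∣ Lβ.relIndex Lσ :=
        hpd.trans (Subgroup.relIndex_dvd_of_le_left Lσ (le_sup_left : Lβ ≤ Lβ ⊔ N))
      exact h1.trans (Dvd.intro _ (Subgroup.relIndex_mul_relIndex Lβ Lσ L hβσ hσL))
    have hpβ : p ∈ Cfsg.beta L := by
      by_contra hcon
      rw [hNrel] at hd1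
      exact hN₀.2.2 p hp ⟨hp, hcon⟩ hd1
    exact hβ.2.2 p hp hpβ hd2
  intro l hl
  have h1 := hfr hl
  have h2 : Lσ ⊔ (L ⊓ normalizer (N : Set G)) ≤ Lβ ⊔ (M ⊓ L) := by
    apply sup_le
    · apply hσβN.trans
      apply sup_le le_sup_left
      refine le_trans ?_ le_sup_right
      exact le_inf ((Subgroup.le_normalizer).trans hNN) (hNσ.trans hσL)
    · refine le_trans ?_ le_sup_right
      exact le_inf (inf_le_right.trans hNN) inf_le_left
  exact h2 h1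

end Cfsg.Agent.Helper4.BG12SD
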