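import Mathlib
import Cfsg.Agent.Helper4.BG10g
import Cfsg.Agent.Helper4.BG36L2a
import Cfsg.Agent.Helper4.BG12SD
import Cfsg.Agent.Helper16.BG12a
import Cfsg.Agent.Helper9.BG13b
import Cfsg.Agent.Helper9.BG12g
import Cfsg.Agent.S1403
import Cfsg.Agent.S1404
import Cfsg.Agent.S1350

/-!
# B&G §12, Theorem 12.8–12.12 (frozen statement S1420), conditional on S1415–S1418
-/

set_option autoImplicit false
set_option linter.unusedSectionVars false
set_option linter.unusedVariables false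
set_option linter.style.haveILetI false

namespace Cfsg.Agent.Helper4.BG12T

open Subgroup Cfsg
open Cfsg.Agent.Helper14 (IsSylowIn cj map_cj_le_iff map_cj_mul map_cj_one map_cj_normalizer
  mem_normalizer_iff_map_cj map_cj_eq_self_of_mem le_normalizer_of_map_cj_le mem_map_cj)
open Cfsg.Agent.Helper4.BG10

universe u

/-- frozen statement S1415 (first part only) -/
def St1415 (G : Type u) [Group G] : Prop :=
  ∀ M : Subgroup G, IsCoatom M → ∀ E : Subgroup G, Cfsg.IsComplIn E (Cfsg.sigmaCore M) M →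
    Group.IsNilpotent ↥⁅E, E⁆

/-- frozen statement S1416 (first part only) -/
def St1416 (G : Type u) [Group G] : Prop :=
  ∀ M : Subgroup G, IsCoatom M → ∀ (p : ℕ) [Fact p.Prime] (A : Subgroup G),
    (A ≤ M ∧ Cfsg.IsElementaryAbelian p A ∧ Nat.card A = p ^ 2) →
    Subgroup.centralizer (A : Set G) ≤ M

/-- frozen statement S1417 -/
def St1417 (G : Type u) [Group G] : Prop :=
  ∀ M : Subgroup G, IsCoatom M → ∀ (p : ℕ) [Fact p.Prime], p ∈ Cfsg.tau2 M → ∀ A : Subgroup G,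
    (A ≤ M ∧ Cfsg.IsElementaryAbelian p A ∧ Nat.card A = p ^ 2) →
    Group.IsNilpotent (Cfsg.sigmaCore M) ∧
      (∀ P : Sylow p M, IsMulCommutative (P : Subgroup M) ∧
        (A ≤ (P : Subgroup M).map M.subtype →
          (∀ x ∈ (P : Subgroup M).map M.subtype, x ^ p = 1 ↔ x ∈ A) ∧
          ¬ Subgroup.normalizer ((((P : Subgroup M).map M.subtype : Subgroup G)) : Set G) ≤ M)) ∧
      M ≤ Subgroup.normalizer ((Cfsg.sigmaCore M ⊔ A : Subgroup G) : Set G) ∧
      Cfsg.sigmaCore M ⊓ Subgroup.centralizer (A : Set G) = ⊥ ∧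
      (∀ Mstar : Subgroup G, IsCoatom Mstar → Mstar ≠ M → A ≤ Mstar → Cfsg.sigmaCore M ⊓ Mstar = ⊥) ∧
      ∃ A₁ : Subgroup G, A₁ ≤ A ∧ Nat.card A₁ = p ∧ Cfsg.sigmaCore M ⊓ Subgroup.centralizer (A₁ : Set G) = ⊥

/-- frozen statement S1418 -/
def St1418 (G : Type u) [Group G] : Prop :=
  ∀ M : Subgroup G, IsCoatom M → ∀ E : Subgroup G, Cfsg.IsComplIn E (Cfsg.sigmaCore M) M →
    ∀ (p : ℕ) [Fact p.Prime], p ∈ Cfsg.tau2 M → ∀ A : Subgroup G,
    (A ≤ E ∧ Cfsg.IsElementaryAbelian p A ∧ Nat.card A = p ^ 2) →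
    (E ≤ Subgroup.normalizer (A : Set G) ∧ ∀ X : Subgroup G, X ≤ E → Nat.card X = p → X ≤ A) ∧
      (Subgroup.centralizer (A : Set G) ≤ M ⊓ Subgroup.normalizer (A : Set G) ∧ M ⊓ Subgroup.normalizer (A : Set G) = E ∧
        ¬ Subgroup.normalizer (A : Set G) ≤ M) ∧
      ∀ X : Subgroup G, X ≤ A → Nat.card X = p → Cfsg.sigmaCore M ⊓ Subgroup.centralizer (X : Set G) ≠ ⊥ → (Subgroup.centralizer (X : Set G) ≤ M ∧ ∀ L : Subgroup G, IsCoatom L → Subgroup.centralizer (X : Set G) ≤ L → L = M)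

section general

variable {X : Type*} [Group X] [Finite X]

/-- an `s`-group normalizing a group `A` of order `r ^ 2`, `r < s`, and centralizing a
non-identity element of `A`, centralizes `A` -/
theorem le_centralizer_of_fixed_line {A S : Subgroup X} {r s : ℕ} [hr : Fact r.Prime]
    [hs : Fact s.Prime] (hA : Nat.card A = r ^ 2) (hS : IsPGroup s S) (hrs : r < s)
    (hSA : S ≤ normalizer (A : Set X)) (hfix : A ⊓ centralizer (S : Set X) ≠ ⊥) :
    A ≤ centralizer (S : Set X) := by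
  classical
  letI := Cfsg.Agent.Helper4.BG36L2.conjAction S A hSA
  have h1 := hS.card_modEq_card_fixedPoints (α := A)
  set F := A ⊓ centralizer (S : Set X) with hF
  have hcardF : Nat.card (MulAction.fixedPoints S A) = Nat.card F := by
    apply Nat.card_congr
    exact {
      toFun := fun y => ⟨((y : A) : X), Subgroup.mem_inf.2 ⟨(y : A).2, by
        rw [mem_centralizer_iff]
        intro g hg
        have h2 : g * ((y : A) : X) * g⁻¹ = ((y : A) : X) := congrArg Subtype.val (y.2 ⟨g, hg⟩)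
        have h4 : g * ((y : A) : X) = (g * ((y : A) : X) * g⁻¹) * g := by group
        rw [h4, h2]⟩⟩
      invFun := fun z => ⟨⟨(z : X), z.2.1⟩, by
        intro g
        apply Subtype.ext
        show (g : X) * (z : X) * (g : X)⁻¹ = (z : X)
        have h2 := (mem_centralizer_iff.1 z.2.2) g g.2
        rw [h2]; group⟩
      left_inv := fun y => rfl
      right_inv := fun z => rfl }
  rw [hcardF, hA] at h1
  have hdvd : Nat.card F ∣ r ^ 2 := hA ▸ Subgroup.card_dvd_of_le (inf_le_left : F ≤ A)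
  obtain ⟨i, hi, hFi⟩ := (Nat.dvd_prime_pow hr.out).1 hdvd
  have hr2 : 2 ≤ r := hr.out.two_le
  interval_cases i
  · exfalso
    apply hfix
    rw [pow_zero] at hFi
    exact Subgroup.card_eq_one.1 hFi
  · exfalso
    rw [hFi, pow_one] at h1
    have hle : r ≤ r ^ 2 := by nlinarith
    have h2 : s ∣ r ^ 2 - r := (Nat.modEq_iff_dvd' hle).1 h1.symm
    have h3 : r ^ 2 - r = r * (r - 1) := by rw [sq, Nat.mul_sub_one]
    rw [h3] at h2
    rcases (Nat.Prime.dvd_mul hs.out).1 h2 with h4 | h4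
    · have := Nat.le_of_dvd (by omega) h4
      omega
    · have := Nat.le_of_dvd (by omega) h4
      omega
  · have : F = A := Subgroup.eq_of_le_of_card_ge inf_le_left (by rw [hFi, hA])
    rw [← this]
    exact inf_le_right

/-- a finite nilpotent group with abelian Sylow subgroups is abelian -/
theorem comm_of_nilpotent_of_sylow (hnil : Group.IsNilpotent X)
    (h : ∀ (p : ℕ) [Fact p.Prime], p ∣ Nat.card X → ∀ (P : Sylow p X),
      ∀ a ∈ (P : Subgroup X), ∀ b ∈ (P : Subgroup X), a * b = b * a) :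
    ∀ a b : X, a * b = b * a := by
  obtain ⟨e⟩ := ((Group.isNilpotent_of_finite_tfae (G := X)).out 0 4).1 hnil
  intro a b
  have key : e.symm a * e.symm b = e.symm b * e.symm a := by
    funext p
    funext P
    haveI : Fact (p : ℕ).Prime := ⟨Nat.prime_of_mem_primeFactors p.2⟩
    apply Subtype.ext
    exact h p (Nat.dvd_of_mem_primeFactors p.2) P _ ((e.symm a) p P).2 _ ((e.symm b) p P).2
  have := congrArg e key
  simpa using this

end general

section main

variable {G : Type u} [Group G] [Finite G]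

theorem ne_two_of_dvd_card (hG : Cfsg.IsMinSimpleOddOrder G) {p : ℕ} {K : Subgroup G}
    (hp : p ∣ Nat.card K) : p ≠ 2 := by
  rintro rfl
  have h1 : 2 ∣ Nat.card G := hp.trans (Subgroup.card_subgroup_dvd_card K)
  have h2 := hG.1
  rw [Nat.odd_iff] at h2
  omega

/-- for `p ∈ τ₂(M)` there is an elementary abelian subgroup of order exactly `p ^ 2` -/
theorem exists_elemAb_sq_of_tau2 {M : Subgroup G} {p : ℕ} [Fact p.Prime]
    (hp : p ∈ Cfsg.tau2 M) :
    ∃ A : Subgroup G, A ≤ M ∧ Cfsg.IsElementaryAbelian p A ∧ Nat.card A = p ^ 2 := by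
  obtain ⟨-, -, h2, h1⟩ := hp
  obtain ⟨F, hFM, hFe, hFcard⟩ := Cfsg.Agent.Lead.TT.exists_elementary_of_not_pRankLE' 1 M h1
  refine ⟨F, hFM, hFe, le_antisymm ?_ hFcard⟩
  have hc : IsMulCommutative ↥(F.subgroupOf M) := by
    refine ⟨⟨fun a b => ?_⟩⟩
    have h3 := hFe.1.is_comm.comm ⟨a.1.1, a.2⟩ ⟨b.1.1, b.2⟩
    have h4 : (a.1.1 : G) * b.1.1 = b.1.1 * a.1.1 := congrArg Subtype.val h3
    exact Subtype.ext (Subtype.ext h4)
  have he : ∀ a ∈ F.subgroupOf M, a ^ p = 1 := by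
    intro a ha
    apply Subtype.ext
    have := hFe.2 (a : G) ha
    simpa using this
  have := h2 (F.subgroupOf M) hc he
  rwa [Cfsg.Agent.Helper17.card_subgroupOf_of_le hFM] at this

/-- **B&G 12.8 (first part of S1420)**: a nilpotent `σ(M)'`-subgroup of `M` is abelian -/
theorem part_a (hG : Cfsg.IsMinSimpleOddOrder G) (h1417 : St1417 G) {M : Subgroup G}
    (hM : IsCoatom M) {N : Subgroup G} (hNM : N ≤ M) (hnil : Group.IsNilpotent N)
    (hπ : ∀ p : ℕ, p.Prime → p ∣ Nat.card N → p ∉ Cfsg.sigma M) : IsMulCommutative N := by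
  have key := comm_of_nilpotent_of_sylow (X := ↥N) hnil ?_
  · exact ⟨⟨key⟩⟩
  intro p _ hpd P a ha b hb
  have hp : p.Prime := Fact.out
  have hpσ := hπ p hp hpd
  have hp2 : p ≠ 2 := ne_two_of_dvd_card hG hpd
  have hU := Cfsg.Agent.Helper4.BG12SD.uniq hG
  have hr2 : Cfsg.PRankLE p 2 M := sigma'_pRankLE_two hG hU hM hpσ
  by_cases hr1 : Cfsg.PRankLE p 1 M
  · let f : ↥(P : Subgroup N) →* ↥M := (Subgroup.inclusion hNM).comp (P : Subgroup N).subtype
    have hf : Function.Injective f :=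
      (Subgroup.inclusion_injective hNM).comp (Subgroup.subtype_injective _)
    have h1 : Cfsg.PRankLE p 1 ↥(P : Subgroup N) :=
      Cfsg.Agent.Helper7.PRankLE.of_injective f hf hr1
    have hc : IsCyclic ↥(P : Subgroup N) :=
      Cfsg.Agent.Helper16.BG12.isCyclic_of_pRankLE_one hp2 P.isPGroup' h1
    letI := IsCyclic.commGroup (α := ↥(P : Subgroup N))
    exact congrArg Subtype.val (mul_comm (⟨a, ha⟩ : ↥(P : Subgroup N)) ⟨b, hb⟩)
  · have hτ : p ∈ Cfsg.tau2 M := ⟨hp, hpσ, hr2, hr1⟩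
    obtain ⟨A, hAM, hAe, hAcard⟩ := exists_elemAb_sq_of_tau2 hτ
    obtain ⟨-, hb', -⟩ := h1417 M hM p hτ A ⟨hAM, hAe, hAcard⟩
    have hPp : IsPGroup p ((P : Subgroup N).map (Subgroup.inclusion hNM)) := P.isPGroup'.map _
    obtain ⟨Q, hQ⟩ := hPp.exists_le_sylow
    have hQc := (hb' Q).1
    have ha' : Subgroup.inclusion hNM a ∈ (Q : Subgroup M) := hQ ⟨a, ha, rfl⟩
    have hb'' : Subgroup.inclusion hNM b ∈ (Q : Subgroup M) := hQ ⟨b, hb, rfl⟩
    have h2 := hQc.is_comm.comm ⟨_, ha'⟩ ⟨_, hb''⟩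
    have h3 : ((Subgroup.inclusion hNM a : ↥M) : G) * ((Subgroup.inclusion hNM b : ↥M) : G) =
        ((Subgroup.inclusion hNM b : ↥M) : G) * ((Subgroup.inclusion hNM a : ↥M) : G) :=
      congrArg (fun z : ↥(Q : Subgroup M) => ((z : ↥M) : G)) h2
    exact Subtype.ext h3

/-- **B&G 12.9 (second part of S1420)**: `E'` is abelian -/
theorem part_b (hG : Cfsg.IsMinSimpleOddOrder G) (h1415 : St1415 G) (h1417 : St1417 G)
    {M : Subgroup G} (hM : IsCoatom M) {E : Subgroup G}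
    (hE : Cfsg.IsComplIn E (Cfsg.sigmaCore M) M) : IsMulCommutative ↥⁅E, E⁆ := by
  have hEhall := Cfsg.Agent.H9.BG12.isPiHallOf_compl
    (fun M hM => Cfsg.Agent.S1350.result hG M hM) hM hE
  have hle : ⁅E, E⁆ ≤ E := by
    rw [Subgroup.commutator_le]
    intro a ha b hb
    exact E.mul_mem (E.mul_mem (E.mul_mem ha hb) (E.inv_mem ha)) (E.inv_mem hb)
  apply part_a hG h1417 hM (hle.trans hE.1) (h1415 M hM E hE)
  intro p hp hpd
  exact hEhall.2.1 p hp (hpd.trans (Subgroup.card_dvd_of_le hle))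

/-- **B&G 12.10 (third part of S1420)**: for `p ∈ σ(M)` the normalizer of a noncyclic
`p`-subgroup of `M` lies in `M` -/
theorem part_c (hG : Cfsg.IsMinSimpleOddOrder G) (h1416 : St1416 G) {M : Subgroup G}
    (hM : IsCoatom M) {p : ℕ} {P : Subgroup G} (hpσ : p ∈ Cfsg.sigma M) (hPp : IsPGroup p P)
    (hPM : P ≤ M) (hnc : ¬ IsCyclic P) : Subgroup.normalizer (P : Set G) ≤ M := by
  haveI : Fact p.Prime := ⟨hpσ.1⟩
  have hp2 : p ≠ 2 := ne_two_of_dvd_card hG hpσ.2.1
  obtain ⟨A₀, -, hA₀e, hA₀card⟩ :=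
    Cfsg.Agent.Helper9.exists_normal_elemAb_sq (R := ↥P) hp2 hPp hnc
  set A := A₀.map P.subtype with hA
  have hAP : A ≤ P := Cfsg.Agent.Helper14.map_subtype_le _
  have hAe : Cfsg.IsElementaryAbelian p A :=
    Cfsg.Agent.Helper26.isElementaryAbelian_map P.subtype hA₀e
  have hAcard : Nat.card A = p ^ 2 := by
    rw [hA, Cfsg.Agent.Helper14.card_map_subtype]; exact hA₀card
  have hCA := h1416 M hM p A ⟨hAP.trans hPM, hAe, hAcard⟩
  have hCP : centralizer (P : Set G) ≤ M := (Subgroup.centralizer_le hAP).trans hCA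
  have hPne : P ≠ ⊥ := by
    rintro rfl
    exact hnc inferInstance
  have h04 := (Cfsg.Agent.S1404.result hG M hM p hpσ P hPp hPne hPM).2
  rw [h04]
  exact sup_le inf_le_left hCP

/-- **B&G 12.12 (fourth part of S1420)** -/
theorem part_d (hG : Cfsg.IsMinSimpleOddOrder G) (h1417 : St1417 G) (h1418 : St1418 G)
    {M : Subgroup G} (hM : IsCoatom M) {E : Subgroup G}
    (hE : Cfsg.IsComplIn E (Cfsg.sigmaCore M) M)
    {x : G} (hxM : x ∈ M) (hx1 : x ≠ 1)
    (hτ : ∀ p : ℕ, p.Prime → p ∣ orderOf x → p ∈ Cfsg.tau2 M) (hxσ : x ∈ Cfsg.sigmaHat M) :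
    Subgroup.centralizer ({x} : Set G) ≤ M ∧
      ∀ L : Subgroup G, IsCoatom L → Subgroup.centralizer ({x} : Set G) ≤ L → L = M := by
  obtain ⟨-, y, hyσ, hy1, hxy⟩ := hxσ
  set Mσ := Cfsg.sigmaCore M with hMσ
  have h1350 : Cfsg.Agent.H9.BG12.St1350 G := fun M hM => Cfsg.Agent.S1350.result hG M hM
  have hMsolv : Group.IsSolvable ↥M := hG.2.2.2 M hM.1
  have hEhall := Cfsg.Agent.H9.BG12.isPiHallOf_compl h1350 hM hE
  set Z := zpowers x with hZ
  have hZM : Z ≤ M := by rw [hZ, zpowers_le]; exact hxM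
  have hZcard : Nat.card Z = orderOf x := Nat.card_zpowers x
  have hZπ : Cfsg.Agent.Lead.IsPiNum (Cfsg.sigma M)ᶜ (Nat.card Z) := by
    intro p hp hpd
    rw [hZcard] at hpd
    exact (hτ p hp hpd).2.1
  -- a complement containing `x`
  obtain ⟨m, hm, hZE⟩ := Cfsg.Agent.H9.BG12.exists_conj_le_of_hall hMsolv hEhall hZM hZπ
  set E' := E.map (cj m⁻¹) with hE'
  have hE'c : Cfsg.IsComplIn E' Mσ M :=
    Cfsg.Agent.H9.BG12.isComplIn_map_cj hE (Cfsg.Agent.H9.BG12.le_normalizer_sigmaCore M)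
      (M.inv_mem hm)
  have hZE' : Z ≤ E' := (map_cj_le_iff Z E m).1 hZE
  have hE'hall := Cfsg.Agent.H9.BG12.isPiHallOf_compl h1350 hM hE'c
  -- the smallest prime
  have hox : orderOf x ≠ 1 := by rwa [Ne, orderOf_eq_one_iff]
  set r := (orderOf x).minFac with hr
  have hrp : r.Prime := Nat.minFac_prime hox
  haveI : Fact r.Prime := ⟨hrp⟩
  have hrd : r ∣ orderOf x := Nat.minFac_dvd _
  have hrτ : r ∈ Cfsg.tau2 M := hτ r hrp hrd
  obtain ⟨A₀, hA₀M, hA₀e, hA₀card⟩ := exists_elemAb_sq_of_tau2 hrτ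
  have hA₀π : Cfsg.Agent.Lead.IsPiNum (Cfsg.sigma M)ᶜ (Nat.card A₀) := by
    rw [hA₀card]
    exact Cfsg.Agent.Lead.isPiNum_pow_of_mem hrp hrτ.2.1 2
  obtain ⟨m', hm', hAE⟩ := Cfsg.Agent.H9.BG12.exists_conj_le_of_hall hMsolv hE'hall hA₀M hA₀π
  set A := A₀.map (cj m') with hA
  have hAe : Cfsg.IsElementaryAbelian r A := Cfsg.Agent.Helper26.isElementaryAbelian_map _ hA₀e
  have hAcard : Nat.card A = r ^ 2 := by
    rw [hA, Cfsg.Agent.Helper4.BG12SD.card_map_cj]; exact hA₀card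
  have hAM : A ≤ M := hAE.trans hE'c.1
  have hAp : IsPGroup r A := isPGroup_of_elementary hAe
  obtain ⟨⟨hEN, hEX⟩, -, h18c⟩ := h1418 M hM E' hE'c r hrτ A ⟨hAE, hAe, hAcard⟩
  obtain ⟨-, h17b, -, -, h17e, -⟩ := h1417 M hM r hrτ A ⟨hAM, hAe, hAcard⟩
  -- the subgroup of order `r` of `Z`
  set xr := x ^ (orderOf x / r) with hxr
  have hoxr : orderOf xr = r := orderOf_pow_orderOf_div (orderOf_pos x).ne' hrd
  set Xr := zpowers xr with hXr
  have hXrcard : Nat.card Xr = r := by rw [hXr, Nat.card_zpowers, hoxr]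
  have hXrZ : Xr ≤ Z := by rw [hXr, zpowers_le]; exact Subgroup.pow_mem _ (mem_zpowers x) _
  have hXrA : Xr ≤ A := hEX Xr (hXrZ.trans hZE') hXrcard
  have hXrne : Xr ≠ ⊥ := by
    intro h
    rw [h, Subgroup.card_bot] at hXrcard
    exact hrp.one_lt.ne hXrcard
  -- `y` centralizes `Z`
  have hCZ : centralizer ({x} : Set G) = centralizer (Z : Set G) :=
    (centralizer_zpowers_eq x).symm
  have hyZ : y ∈ centralizer (Z : Set G) := by
    rw [← hCZ, mem_centralizer_iff]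
    intro h hh
    rw [Set.mem_singleton_iff] at hh
    rw [hh]; exact hxy
  have hCXr : centralizer (Z : Set G) ≤ centralizer (Xr : Set G) := Subgroup.centralizer_le hXrZ
  -- first claim
  have hXfix : Mσ ⊓ centralizer (Xr : Set G) ≠ ⊥ := by
    intro h
    have : y ∈ Mσ ⊓ centralizer (Xr : Set G) := ⟨hyσ, hCXr hyZ⟩
    rw [h, mem_bot] at this
    exact hy1 this
  obtain ⟨hCXrM, -⟩ := h18c Xr hXrA hXrcard hXfix
  refine ⟨hCZ ▸ (hCXr.trans hCXrM), ?_⟩
  -- `Z` centralizes `A`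
  have hZcomm : ∀ a ∈ Z, ∀ b ∈ Z, a * b = b * a := by
    intro a ha b hb
    obtain ⟨i, rfl⟩ := mem_zpowers_iff.1 ha
    obtain ⟨j, rfl⟩ := mem_zpowers_iff.1 hb
    exact ((Commute.refl x).zpow_zpow i j).eq
  have hZA : Z ≤ centralizer (A : Set G) := by
    apply Cfsg.Agent.Helper16.BG12.le_of_forall_sylow_le
    intro s _
    obtain ⟨P⟩ : Nonempty (Sylow s ↥Z) := inferInstance
    refine ⟨P, ?_⟩
    set U := (P : Subgroup ↥Z).map Z.subtype with hU
    have hUZ : U ≤ Z := Cfsg.Agent.Helper14.map_subtype_le _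
    have hUs : IsPGroup s U := P.isPGroup'.map _
    have hUN : U ≤ normalizer (A : Set G) := (hUZ.trans hZE').trans hEN
    by_cases hUbot : U = ⊥
    · rw [hUbot]; exact bot_le
    have hs : s.Prime := Fact.out
    have hsd : s ∣ orderOf x := by
      obtain ⟨k, hk⟩ := IsPGroup.iff_card.mp hUs
      have hk0 : k ≠ 0 := by
        rintro rfl
        rw [pow_zero] at hk
        exact hUbot (Subgroup.card_eq_one.1 hk)
      have : s ∣ Nat.card U := by rw [hk]; exact dvd_pow_self s hk0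
      rw [← hZcard]
      exact this.trans (Subgroup.card_dvd_of_le hUZ)
    have hrs : r ≤ s := Nat.minFac_le_of_dvd hs.two_le hsd
    rcases eq_or_lt_of_le hrs with hrs | hrs
    · -- `s = r`: abelian Sylow subgroups
      have hUr : IsPGroup r U := by rw [hrs]; exact hUs
      have hUAp : IsPGroup r (U ⊔ A : Subgroup G) := IsPGroup.to_sup_of_normal_right' hUr hAp hUN
      have hUAM : U ⊔ A ≤ M := sup_le (hUZ.trans hZM) hAM
      have hUAp' : IsPGroup r ((U ⊔ A).subgroupOf M) := hUAp.comap_subtype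
      obtain ⟨Q, hQ⟩ := hUAp'.exists_le_sylow
      have hQc := (h17b Q).1
      intro u hu
      rw [mem_centralizer_iff]
      intro a ha
      have hu' : (⟨u, hUAM ((le_sup_left : U ≤ U ⊔ A) hu)⟩ : ↥M) ∈ (Q : Subgroup M) :=
        hQ (by rw [mem_subgroupOf]; exact (le_sup_left : U ≤ U ⊔ A) hu)
      have ha' : (⟨a, hAM ha⟩ : ↥M) ∈ (Q : Subgroup M) :=
        hQ (by rw [mem_subgroupOf]; exact (le_sup_right : A ≤ U ⊔ A) ha)
      have h2 := hQc.is_comm.comm ⟨_, ha'⟩ ⟨_, hu'⟩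
      exact congrArg (fun z : ↥(Q : Subgroup M) => ((z : ↥M) : G)) h2
    · -- `r < s`
      have hUXr : Xr ≤ centralizer (U : Set G) := by
        intro a ha
        rw [mem_centralizer_iff]
        intro u hu
        exact hZcomm u (hUZ hu) a (hXrZ ha)
      have hfix : A ⊓ centralizer (U : Set G) ≠ ⊥ := by
        intro h
        apply hXrne
        rw [eq_bot_iff, ← h]
        exact le_inf hXrA hUXr
      have := le_centralizer_of_fixed_line hAcard hUs hrs hUN hfix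
      exact Subgroup.le_centralizer_iff.1 this
  intro L hL hCL
  by_contra hne
  have hAL : A ≤ L := by
    refine le_trans ?_ hCL
    rw [hCZ]
    exact Subgroup.le_centralizer_iff.1 hZA
  have hyL : y ∈ L := hCL (hCZ ▸ hyZ)
  have h3 := h17e L hL hne hAL
  have hy' : y ∈ Mσ ⊓ L := ⟨hyσ, hyL⟩
  rw [h3, mem_bot] at hy'
  exact hy1 hy'

/-- **S1420 (B&G 12.8–12.12)**, conditional on S1415–S1418 -/
theorem s1420_of (hG : Cfsg.IsMinSimpleOddOrder G) (h1415 : St1415 G) (h1416 : St1416 G)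
    (h1417 : St1417 G) (h1418 : St1418 G)
    (M : Subgroup G) (hM : IsCoatom M) (E : Subgroup G)
    (hE : Cfsg.IsComplIn E (Cfsg.sigmaCore M) M) :
    (∀ N : Subgroup G, N ≤ M → Group.IsNilpotent N → (∀ p : ℕ, p.Prime → p ∣ Nat.card N → p ∉ Cfsg.sigma M) → IsMulCommutative N) ∧
      IsMulCommutative ↥⁅E, E⁆ ∧
      (∀ (p : ℕ) (P : Subgroup G), p ∈ Cfsg.sigma M → IsPGroup p P → P ≤ M → ¬ IsCyclic P → Subgroup.normalizer (P : Set G) ≤ M) ∧
      ∀ x ∈ M, x ≠ 1 → (∀ p : ℕ, p.Prime → p ∣ orderOf x → p ∈ Cfsg.tau2 M) → x ∈ Cfsg.sigmaHat M →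
        Subgroup.centralizer ({x} : Set G) ≤ M ∧ ∀ L : Subgroup G, IsCoatom L → Subgroup.centralizer ({x} : Set G) ≤ L → L = M :=
  ⟨fun N hNM hnil hπ => part_a hG h1417 hM hNM hnil hπ,
    part_b hG h1415 h1417 hM hE,
    fun p P hpσ hPp hPM hnc => part_c hG h1416 hM hpσ hPp hPM hnc,
    fun x hxM hx1 hτ hxσ => part_d hG h1417 h1418 hM hE hxM hx1 hτ hxσ⟩

end main

end Cfsg.Agent.Helper4.BG12T
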