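import Mathlib
import Cfsg.Agent.Helper4.BG12SD
import Cfsg.Agent.S1405
import Cfsg.Agent.Lead.GenCent
import Cfsg.Agent.Helper9.BG12f
import Cfsg.Agent.Helper7.RankGraph
import Cfsg.Agent.Helper7.Hyperplane

/-!
# B&G Proposition 12.4, the case "no line of `A` is owned by `M`" (for S1416)
-/

set_option autoImplicit false
set_option linter.unusedSectionVars false
set_option linter.unusedVariables false
set_option linter.style.haveILetI false

namespace Cfsg.Agent.Helper4.BG124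

open Subgroup Cfsg
open Cfsg.Agent.Helper14 (IsSylowIn cj map_cj_le_iff map_cj_mul map_cj_one map_cj_normalizer
  mem_normalizer_iff_map_cj map_cj_eq_self_of_mem le_normalizer_of_map_cj_le mem_map_cj)
open Cfsg.Agent.Helper4.BG10
open Cfsg.Agent.Helper4.BG12SD

universe u
variable {G : Type u} [Group G] [Finite G]

/-- the hypothesis of the second half of S1416: no subgroup of order `p` of `A` has its normalizer
contained in `M` and in no other maximal subgroup -/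
def NonUniq (M A : Subgroup G) (p : ℕ) : Prop :=
  ∀ A₀ : Subgroup G, A₀ ≤ A → Nat.card A₀ = p →
    ¬ (normalizer (A₀ : Set G) ≤ M ∧
      ∀ L : Subgroup G, IsCoatom L → normalizer (A₀ : Set G) ≤ L → L = M)

/-- B&G Lemma 12.3(b), as a hypothesis -/
def H123b (G : Type u) [Group G] : Prop :=
  ∀ M L : Subgroup G, IsCoatom M → IsCoatom L → L ≠ M →
    ∀ (p : ℕ) [Fact p.Prime] (A A₀ : Subgroup G), A ≤ M → Cfsg.IsElementaryAbelian p A →
      Nat.card A = p ^ 2 → A₀ ≤ A → Nat.card A₀ = p → normalizer (A₀ : Set G) ≤ L →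
      p ∉ Cfsg.alpha M → A ≤ centralizer ((Cfsg.alphaCore M ⊓ L : Subgroup G) : Set G)

theorem elemAb_of_card_prime {p : ℕ} [hp : Fact p.Prime] {X : Subgroup G}
    (hX : Nat.card X = p) : Cfsg.IsElementaryAbelian p X := by
  haveI : IsCyclic X := isCyclic_of_prime_card hX
  refine ⟨⟨⟨fun a b => ?_⟩⟩, fun a ha => ?_⟩
  · exact (IsCyclic.commGroup (α := ↥X)).mul_comm a b
  · have h1 : (⟨a, ha⟩ : ↥X) ^ p = 1 := by
      rw [← hX]; exact pow_card_eq_one'
    exact congrArg Subtype.val h1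

theorem line_of_mem {p : ℕ} [hp : Fact p.Prime] {A : Subgroup G}
    (hAe : Cfsg.IsElementaryAbelian p A) {a : G} (ha : a ∈ A) (ha1 : a ≠ 1) :
    zpowers a ≤ A ∧ Nat.card (zpowers a) = p :=
  ⟨zpowers_le.mpr ha, by rw [Nat.card_zpowers]; exact orderOf_eq_prime (hAe.2 a ha) ha1⟩

theorem exists_line {p : ℕ} [hp : Fact p.Prime] {A : Subgroup G}
    (hAe : Cfsg.IsElementaryAbelian p A) (hA2 : Nat.card A = p ^ 2) :
    ∃ A₀ : Subgroup G, A₀ ≤ A ∧ Nat.card A₀ = p := by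
  have hne : A ≠ ⊥ := by
    rintro rfl
    rw [Subgroup.card_bot] at hA2
    have := hp.out.one_lt
    nlinarith
  obtain ⟨a, ha1⟩ := (Subgroup.ne_bot_iff_exists_ne_one).mp hne
  have ha1' : (a : G) ≠ 1 := fun h => ha1 (Subtype.ext h)
  exact ⟨zpowers (a : G), line_of_mem hAe a.2 ha1'⟩

/-- a line of `A` cannot be normalized by an elementary abelian subgroup of `M` of rank `≥ 3` -/
theorem false_of_cube {M A : Subgroup G} {p : ℕ} [hp : Fact p.Prime]
    (hG : Cfsg.IsMinSimpleOddOrder G) (hM : IsCoatom M)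
    (hAe : Cfsg.IsElementaryAbelian p A) (hH : NonUniq M A p) {q : ℕ} [hq : Fact q.Prime]
    {B A₀ : Subgroup G} (hBM : B ≤ M) (hBe : Cfsg.IsElementaryAbelian q B)
    (hB3 : q ^ 3 ≤ Nat.card B) (hA₀A : A₀ ≤ A) (hA₀ : Nat.card A₀ = p)
    (hBN : B ≤ normalizer (A₀ : Set G)) : False := by
  have hU := uniq hG
  have hBU := uniq_of_cube hG hU hBe hB3
  have hA₀bot : A₀ ≠ ⊥ := by
    rintro rfl
    rw [Subgroup.card_bot] at hA₀
    exact hp.out.one_lt.ne hA₀
  have hA₀top : A₀ ≠ ⊤ :=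
    Cfsg.Agent.Lead.BG9.ne_top_of_commute hG
      (fun a ha b hb => Cfsg.Agent.Helper7.IsElementaryAbelian.commute hAe (hA₀A ha) (hA₀A hb))
  have hNtop := Cfsg.Agent.Lead.TT.normalizer_ne_top_of_simple hG.2.1 hA₀bot hA₀top
  have hNM : normalizer (A₀ : Set G) ≤ M := le_of_uniq hM hBU hBM hBN hNtop
  refine hH A₀ hA₀A hA₀ ⟨hNM, fun L hL hNL => ?_⟩
  obtain ⟨M', -, huniq⟩ := hBU
  have h1 : L = M' := huniq L ⟨hL, hBN.trans hNL⟩
  have h2 : M = M' := huniq M ⟨hM, hBM⟩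
  rw [h1, h2]

/-- an element of `M` of order dividing `p` that centralizes `A` lies in `A` -/
theorem mem_of_commute {M A : Subgroup G} {p : ℕ} [hp : Fact p.Prime]
    (hG : Cfsg.IsMinSimpleOddOrder G) (hM : IsCoatom M) (hAM : A ≤ M)
    (hAe : Cfsg.IsElementaryAbelian p A) (hA2 : Nat.card A = p ^ 2) (hH : NonUniq M A p)
    {z : G} (hzM : z ∈ M) (hzc : ∀ a ∈ A, z * a = a * z) (hzp : z ^ p = 1) : z ∈ A := by
  by_contra hzA
  have hz1 : z ≠ 1 := fun h => hzA (h ▸ A.one_mem)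
  have hZcard : Nat.card (zpowers z) = p := by
    rw [Nat.card_zpowers]; exact orderOf_eq_prime hzp hz1
  have hZe : Cfsg.IsElementaryAbelian p (zpowers z) := elemAb_of_card_prime hZcard
  have hBe : Cfsg.IsElementaryAbelian p (A ⊔ zpowers z) := by
    apply Cfsg.Agent.Helper7.isElementaryAbelian_sup_of_commute hAe hZe
    intro a ha b hb
    obtain ⟨k, rfl⟩ := mem_zpowers_iff.mp hb
    have : Commute z a := hzc a ha
    exact ((this.zpow_left k).eq).symm
  have hlt : A < A ⊔ zpowers z := by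
    refine lt_of_le_of_ne le_sup_left (fun h => hzA ?_)
    rw [h]
    exact (le_sup_right : zpowers z ≤ A ⊔ zpowers z) (mem_zpowers z)
  have hBp := isPGroup_of_elementary hBe
  have hB3 : p ^ 3 ≤ Nat.card ↥(A ⊔ zpowers z) := by
    obtain ⟨k, hk⟩ := IsPGroup.iff_card.mp hBp
    have h1 : Nat.card A < Nat.card ↥(A ⊔ zpowers z) := by
      have hle : Nat.card A ≤ Nat.card ↥(A ⊔ zpowers z) := Subgroup.card_le_of_le hlt.le
      rcases hle.lt_or_eq with h | h
      · exact h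
      · exact absurd (Subgroup.eq_of_le_of_card_ge hlt.le h.ge) hlt.ne
    rw [hk, hA2] at h1
    rw [hk]
    have h2 : 2 < k := (Nat.pow_lt_pow_iff_right hp.out.one_lt).mp h1
    exact Nat.pow_le_pow_right hp.out.pos h2
  obtain ⟨A₀, hA₀A, hA₀⟩ := exists_line hAe hA2
  have hBM : A ⊔ zpowers z ≤ M := sup_le hAM (zpowers_le.mpr hzM)
  refine false_of_cube hG hM hAe hH hBM hBe hB3 hA₀A hA₀ ?_
  refine le_trans ?_ (Subgroup.centralizer_le_normalizer _)
  intro b hb
  rw [mem_centralizer_iff]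
  intro a ha
  exact Cfsg.Agent.Helper7.IsElementaryAbelian.commute hBe
    ((le_sup_left : A ≤ A ⊔ zpowers z) (hA₀A ha)) hb

/-- a central element of order `p` of a nontrivial `p`-subgroup -/
theorem exists_central_order_p {p : ℕ} [hp : Fact p.Prime] {P : Subgroup G} (hP : IsPGroup p P)
    (hPne : P ≠ ⊥) : ∃ x ∈ P, (∀ y ∈ P, x * y = y * x) ∧ orderOf x = p := by
  haveI : Nontrivial ↥P := (Subgroup.nontrivial_iff_ne_bot P).mpr hPne
  haveI : Finite ↥P := inferInstance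
  have hZne : center ↥P ≠ ⊥ := by
    haveI := hP.center_nontrivial
    exact (Subgroup.nontrivial_iff_ne_bot _).mp inferInstance
  have hpz : p ∣ Nat.card (center ↥P) := by
    obtain ⟨k, hk⟩ := IsPGroup.iff_card.mp (hP.to_subgroup (center ↥P))
    have hk0 : k ≠ 0 := by
      rintro rfl
      rw [pow_zero] at hk
      exact hZne (card_eq_one.mp hk)
    rw [hk]; exact dvd_pow_self p hk0
  obtain ⟨x₀, hx₀⟩ := exists_prime_orderOf_dvd_card' (G := ↥(center ↥P)) p hpz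
  refine ⟨((x₀ : ↥P) : G), (x₀ : ↥P).2, ?_, ?_⟩
  · intro y hy
    have := mem_center_iff.mp x₀.2 ⟨y, hy⟩
    have h2 := congrArg Subtype.val this
    simpa using h2.symm
  · rw [Subgroup.orderOf_coe, Subgroup.orderOf_coe]; exact hx₀

/-- **(i)** `p ∉ α(M)` -/
theorem not_mem_alpha_of_nonuniq {M A : Subgroup G} {p : ℕ} [hp : Fact p.Prime]
    (hG : Cfsg.IsMinSimpleOddOrder G) (hM : IsCoatom M) (hAM : A ≤ M)
    (hAe : Cfsg.IsElementaryAbelian p A) (hA2 : Nat.card A = p ^ 2) (hH : NonUniq M A p) :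
    p ∉ Cfsg.alpha M := by
  intro hpα
  obtain ⟨F, hFM, hFe, hFcard⟩ :=
    Cfsg.Agent.Lead.TT.exists_elementary_of_not_pRankLE' 2 M hpα.2
  have hAp := isPGroup_of_elementary hAe
  obtain ⟨P, hP, hAP⟩ := Cfsg.Agent.Helper14.exists_isSylowIn_ge hAM hAp
  obtain ⟨P', hP', hFP'⟩ :=
    Cfsg.Agent.Helper14.exists_isSylowIn_ge hFM (isPGroup_of_elementary hFe)
  obtain ⟨g, hg, hgeq⟩ := hP'.exists_conj hP
  have hF'P : F.map (cj g) ≤ P := hgeq ▸ Subgroup.map_mono hFP'
  have hF'e : Cfsg.IsElementaryAbelian p (F.map (cj g)) :=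
    Cfsg.Agent.Helper26.isElementaryAbelian_map (cj g) hFe
  have hF'card : p ^ 3 ≤ Nat.card ↥(F.map (cj g)) := by rw [card_map_cj]; exact hFcard
  have hAne : A ≠ ⊥ := by
    rintro rfl
    rw [Subgroup.card_bot] at hA2
    have := hp.out.one_lt
    nlinarith
  have hPne : P ≠ ⊥ := fun h => hAne (eq_bot_iff.mpr (h ▸ hAP))
  obtain ⟨z, hzP, hzZ, hzo⟩ := exists_central_order_p hP.2.1 hPne
  have hzp : z ^ p = 1 := by rw [← hzo]; exact pow_orderOf_eq_one z
  have hz1 : z ≠ 1 := by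
    rintro rfl
    rw [orderOf_one] at hzo
    exact hp.out.one_lt.ne hzo
  have hzA : z ∈ A :=
    mem_of_commute hG hM hAM hAe hA2 hH (hP.1 hzP) (fun a ha => hzZ a (hAP ha)) hzp
  obtain ⟨hZA, hZcard⟩ := line_of_mem hAe hzA hz1
  refine false_of_cube hG hM hAe hH (hF'P.trans hP.1) hF'e hF'card hZA hZcard ?_
  refine le_trans ?_ (Subgroup.centralizer_le_normalizer _)
  rw [centralizer_zpowers_eq]
  intro f hf
  rw [mem_centralizer_singleton_iff]
  exact (hzZ f (hF'P hf)).symm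

/-- **(ii)** `A` centralizes `M_α` -/
theorem alphaCore_le_centralizer {M A : Subgroup G} {p : ℕ} [hp : Fact p.Prime]
    (hG : Cfsg.IsMinSimpleOddOrder G) (h123b : H123b G) (hM : IsCoatom M) (hAM : A ≤ M)
    (hAe : Cfsg.IsElementaryAbelian p A) (hA2 : Nat.card A = p ^ 2) (hH : NonUniq M A p) :
    Cfsg.alphaCore M ≤ centralizer (A : Set G) := by
  have hpα := not_mem_alpha_of_nonuniq hG hM hAM hAe hA2 hH
  have hHall := (Cfsg.Agent.S1405.result hG M hM).1
  haveI := hAe.1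
  have hnc : ¬ IsCyclic A := by
    apply Cfsg.Agent.Helper7.IsElementaryAbelian.not_isCyclic hAe
    rw [hA2]
    have := hp.out.one_lt
    nlinarith
  have hAK : A ≤ normalizer (Cfsg.alphaCore M : Set G) :=
    hAM.trans (Cfsg.Agent.Helper21.BG10.le_normalizer_alphaCore M)
  have hcop : (Nat.card A).Coprime (Nat.card (Cfsg.alphaCore M)) := by
    rw [hA2]
    apply Nat.Coprime.pow_left
    exact (Nat.Prime.coprime_iff_not_dvd hp.out).2 (fun hd => hpα (hHall.2.1 p hp.out hd))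
  have hgen := Cfsg.Agent.Lead.generated_by_centralizers A (Cfsg.alphaCore M) hnc hAK hcop
  rw [← hgen]
  refine iSup₂_le (fun a ha => ?_)
  obtain ⟨haA, ha1⟩ := ha
  obtain ⟨hZA, hZcard⟩ := line_of_mem hAe haA ha1
  have hZbot : zpowers a ≠ ⊥ := by
    intro h
    rw [h, Subgroup.card_bot] at hZcard
    exact hp.out.one_lt.ne hZcard
  have hZtop : zpowers a ≠ ⊤ :=
    Cfsg.Agent.Lead.BG9.ne_top_of_commute hG
      (fun x hx y hy => Cfsg.Agent.Helper7.IsElementaryAbelian.commute hAe (hZA hx) (hZA hy))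
  have hNtop := Cfsg.Agent.Lead.TT.normalizer_ne_top_of_simple hG.2.1 hZbot hZtop
  -- a maximal subgroup `L ≠ M` containing `N(⟨a⟩)`
  obtain ⟨L, hL, hNL, hLM⟩ : ∃ L : Subgroup G, IsCoatom L ∧
      normalizer ((zpowers a : Subgroup G) : Set G) ≤ L ∧ L ≠ M := by
    by_contra hno
    push_neg at hno
    refine hH (zpowers a) hZA hZcard ⟨?_, fun L hL hNL => hno L hL hNL⟩
    obtain ⟨L, hL, hNL⟩ := (eq_top_or_exists_le_coatom _).resolve_left hNtop
    have := hno L hL hNL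
    rw [← this]; exact hNL
  have h1 := h123b M L hM hL hLM p A (zpowers a) hAM hAe hA2 hZA hZcard hNL hpα
  intro x hx
  have hxL : x ∈ L := by
    apply hNL
    apply Subgroup.centralizer_le_normalizer _
    rw [centralizer_zpowers_eq]
    exact hx.2
  rw [mem_centralizer_iff]
  intro b hb
  have := h1 hb
  rw [mem_centralizer_iff] at this
  exact (this x ⟨hx.1, hxL⟩).symm

/-- **(iii)** `M_α = 1` -/
theorem alphaCore_eq_bot_of_nonuniq {M A : Subgroup G} {p : ℕ} [hp : Fact p.Prime]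
    (hG : Cfsg.IsMinSimpleOddOrder G) (h123b : H123b G) (hM : IsCoatom M) (hAM : A ≤ M)
    (hAe : Cfsg.IsElementaryAbelian p A) (hA2 : Nat.card A = p ^ 2) (hH : NonUniq M A p) :
    Cfsg.alphaCore M = ⊥ := by
  by_contra hne
  have hcent := alphaCore_le_centralizer hG h123b hM hAM hAe hA2 hH
  have hHall := (Cfsg.Agent.S1405.result hG M hM).1
  have hcard : Nat.card (Cfsg.alphaCore M) ≠ 1 := fun h => hne (Subgroup.card_eq_one.mp h)
  obtain ⟨q, hq, hqd⟩ := Nat.exists_prime_and_dvd hcard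
  have hqα : q ∈ Cfsg.alpha M := hHall.2.1 q hq hqd
  haveI : Fact q.Prime := ⟨hq⟩
  obtain ⟨F, hFM, hFe, hFcard⟩ :=
    Cfsg.Agent.Lead.TT.exists_elementary_of_not_pRankLE' 2 M hqα.2
  have hFK : F ≤ Cfsg.alphaCore M := by
    apply Cfsg.Agent.H9.BG12.le_of_coprime_card_relIndex hFM
      (Cfsg.Agent.Helper21.BG10.alphaCore_le M)
      (Cfsg.Agent.Helper21.BG10.le_normalizer_alphaCore M)
    obtain ⟨k, hk⟩ := IsPGroup.iff_card.mp (isPGroup_of_elementary hFe)
    rw [hk]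
    apply Nat.Coprime.pow_left
    exact (Nat.Prime.coprime_iff_not_dvd hq).2 (hHall.2.2 q hq hqα)
  obtain ⟨A₀, hA₀A, hA₀⟩ := exists_line hAe hA2
  refine false_of_cube hG hM hAe hH hFM hFe hFcard hA₀A hA₀ ?_
  refine le_trans ?_ (Subgroup.centralizer_le_normalizer _)
  exact (hFK.trans hcent).trans (Subgroup.centralizer_le hA₀A)

/-- `α(M) = ∅` if `M_α = 1` -/
theorem alpha_empty_of_alphaCore_eq_bot {M : Subgroup G}
    (hG : Cfsg.IsMinSimpleOddOrder G) (hM : IsCoatom M) (h : Cfsg.alphaCore M = ⊥) {q : ℕ} :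
    q ∉ Cfsg.alpha M := by
  intro hqα
  have hHall := (Cfsg.Agent.S1405.result hG M hM).1
  haveI : Fact q.Prime := ⟨hqα.1⟩
  obtain ⟨F, hFM, hFe, hFcard⟩ :=
    Cfsg.Agent.Lead.TT.exists_elementary_of_not_pRankLE' 2 M hqα.2
  have h1 := hHall.2.2 q hqα.1 hqα
  rw [h, Subgroup.relIndex_bot_left] at h1
  apply h1
  obtain ⟨k, hk⟩ := IsPGroup.iff_card.mp (isPGroup_of_elementary hFe)
  have hFcard3 : q ^ 3 ≤ Nat.card F := hFcard
  have hk0 : k ≠ 0 := by
    rintro rfl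
    rw [hk, pow_zero] at hFcard3
    have := hqα.1.one_lt
    have : 1 < q ^ 3 := Nat.one_lt_pow (by norm_num) this
    omega
  exact (dvd_pow_self q hk0).trans (hk ▸ Subgroup.card_dvd_of_le hFM)

/-- **(iv)** `M_σ` is nilpotent if `M_α = 1` -/
theorem sigmaCore_nilpotent_of_alphaCore_eq_bot {M : Subgroup G}
    (hG : Cfsg.IsMinSimpleOddOrder G) (hM : IsCoatom M) (h : Cfsg.alphaCore M = ⊥) :
    Group.IsNilpotent (Cfsg.sigmaCore M) := by
  obtain ⟨H, hH, hnil⟩ := (Cfsg.Agent.S1414.result hG M hM).2.2.2.1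
  have h1 : H.relIndex (Cfsg.sigmaCore M) = 1 := by
    rw [Nat.eq_one_iff_not_exists_prime_dvd]
    intro q hq hqd
    exact hH.2.2 q hq ⟨hq, fun hβ => alpha_empty_of_alphaCore_eq_bot hG hM h hβ.1⟩ hqd
  have h2 : Cfsg.sigmaCore M ≤ H := Subgroup.relIndex_eq_one.mp h1
  have h3 : H = Cfsg.sigmaCore M := le_antisymm hH.1 h2
  rw [← h3]; exact hnil

/-- **(v)** `C_G(A) ≤ M` -/
theorem centralizer_le_of_nonuniq {M A : Subgroup G} {p : ℕ} [hp : Fact p.Prime]
    (hG : Cfsg.IsMinSimpleOddOrder G) (hM : IsCoatom M) (hAM : A ≤ M)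
    (hAe : Cfsg.IsElementaryAbelian p A) (hA2 : Nat.card A = p ^ 2)
    (hpσ : p ∈ Cfsg.sigma M) (hnil : Group.IsNilpotent (Cfsg.sigmaCore M))
    (hH : NonUniq M A p) : centralizer (A : Set G) ≤ M := by
  have hAp := isPGroup_of_elementary hAe
  obtain ⟨S, hS, hAS⟩ := Cfsg.Agent.Helper14.exists_isSylowIn_ge hAM hAp
  have hSσ : S ≤ Cfsg.sigmaCore M := isSylowIn_le_sigmaCore hG hM hpσ hS
  have hσM : Cfsg.sigmaCore M ≤ M := (Cfsg.Agent.S1350.result hG M hM).1.1
  have hSσS : IsSylowIn p S (Cfsg.sigmaCore M) :=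
    ⟨hSσ, hS.2.1, fun Q hQ hQp hSQ => hS.2.2 Q (hQ.trans hσM) hQp hSQ⟩
  have hMS : M ≤ normalizer (S : Set G) :=
    (Cfsg.Agent.Helper21.BG10.le_normalizer_sigmaCore M).trans
      (normalizer_le_normalizer_of_nilpotent_sylow hnil hSσS)
  have key : ∀ z ∈ S, (∀ y ∈ S, z * y = y * z) → z ^ p = 1 → z ∈ A := fun z hzS hzZ hzp =>
    mem_of_commute hG hM hAM hAe hA2 hH (hS.1 hzS) (fun a ha => hzZ a (hAS ha)) hzp
  have hAne : A ≠ ⊥ := by
    rintro rfl
    rw [Subgroup.card_bot] at hA2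
    have := hp.out.one_lt
    nlinarith
  have hSne : S ≠ ⊥ := fun h => hAne (eq_bot_iff.mpr (h ▸ hAS))
  set W : Subgroup G := A ⊓ centralizer (S : Set G) with hW
  have hWne : W ≠ ⊥ := by
    obtain ⟨z, hzS, hzZ, hzo⟩ := exists_central_order_p hS.2.1 hSne
    have hzp : z ^ p = 1 := by rw [← hzo]; exact pow_orderOf_eq_one z
    have hz1 : z ≠ 1 := by
      rintro rfl
      rw [orderOf_one] at hzo
      exact hp.out.one_lt.ne hzo
    intro hbot
    have hzW : z ∈ W := by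
      refine Subgroup.mem_inf.mpr ⟨key z hzS hzZ hzp, ?_⟩
      rw [mem_centralizer_iff]; intro y hy; exact (hzZ y hy).symm
    rw [hbot] at hzW
    exact hz1 (mem_bot.mp hzW)
  have hMW : M ≤ normalizer (W : Set G) := by
    apply le_normalizer_of_map_cj_le
    rintro m hm _ ⟨w, hw', rfl⟩
    have hw : w ∈ A ∧ w ∈ centralizer (S : Set G) := Subgroup.mem_inf.mp hw'
    have hSm : S.map (cj m) = S := mem_normalizer_iff_map_cj.mp (hMS hm)
    have hSm' : S.map (cj m⁻¹) = S := mem_normalizer_iff_map_cj.mp (hMS (M.inv_mem hm))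
    have hwS : w ∈ S := hAS hw.1
    have h1 : cj m w ∈ S := by rw [← hSm]; exact ⟨w, hwS, rfl⟩
    have h2 : ∀ y ∈ S, cj m w * y = y * cj m w := by
      intro y hy
      have hy' : m⁻¹ * y * m ∈ S := by
        have : cj m⁻¹ y ∈ S.map (cj m⁻¹) := ⟨y, hy, rfl⟩
        rw [hSm'] at this
        simpa [Cfsg.Agent.Helper14.cj_apply] using this
      have hc : (m⁻¹ * y * m) * w = w * (m⁻¹ * y * m) := by
        have := hw.2
        rw [mem_centralizer_iff] at this
        exact this _ hy'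
      rw [Cfsg.Agent.Helper14.cj_apply]
      calc m * w * m⁻¹ * y = m * (w * (m⁻¹ * y * m)) * m⁻¹ := by group
        _ = m * ((m⁻¹ * y * m) * w) * m⁻¹ := by rw [hc]
        _ = y * (m * w * m⁻¹) := by group
    have h3 : (cj m w) ^ p = 1 := by
      rw [← map_pow, hAe.2 w hw.1, map_one]
    refine Subgroup.mem_inf.mpr ⟨key _ h1 h2 h3, ?_⟩
    rw [mem_centralizer_iff]
    intro y hy
    exact (h2 y hy).symm
  have hWtop : W ≠ ⊤ := by
    intro h
    have : A = ⊤ := top_le_iff.mp (h ▸ (inf_le_left : W ≤ A))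
    exact elementary_ne_top hG hAe this
  have hNtop := Cfsg.Agent.Lead.TT.normalizer_ne_top_of_simple hG.2.1 hWne hWtop
  have hNW : normalizer (W : Set G) ≤ M := by
    rcases eq_or_lt_of_le hMW with h | h
    · exact h.ge
    · exact absurd (hM.2 _ h) hNtop
  have hdvd : Nat.card W ∣ p ^ 2 := hA2 ▸ Subgroup.card_dvd_of_le (inf_le_left : W ≤ A)
  obtain ⟨i, hi, hcard⟩ := (Nat.dvd_prime_pow hp.out).mp hdvd
  have hi0 : i ≠ 0 := by
    rintro rfl
    rw [pow_zero] at hcard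
    exact hWne (Subgroup.card_eq_one.mp hcard)
  have hi12 : i = 1 ∨ i = 2 := by omega
  rcases hi12 with rfl | rfl
  · rw [pow_one] at hcard
    exfalso
    refine hH W inf_le_left hcard ⟨hNW, fun L hL hNL => ?_⟩
    by_contra hne
    have : M < L := lt_of_le_of_ne (hMW.trans hNL) (Ne.symm hne)
    exact hL.1 (hM.2 L this)
  · have hWA : W = A := Subgroup.eq_of_le_of_card_ge inf_le_left (by rw [hcard, hA2])
    rw [hWA] at hNW
    exact (Subgroup.centralizer_le_normalizer _).trans hNW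

/-- **B&G 12.4**, the case where no line of `A` is owned by `M` and `p ∈ σ(M)` -/
theorem prop_12_4_nonuniq {M A : Subgroup G} {p : ℕ} [hp : Fact p.Prime]
    (hG : Cfsg.IsMinSimpleOddOrder G) (h123b : H123b G) (hM : IsCoatom M) (hAM : A ≤ M)
    (hAe : Cfsg.IsElementaryAbelian p A) (hA2 : Nat.card A = p ^ 2)
    (hpσ : p ∈ Cfsg.sigma M) (hH : NonUniq M A p) :
    Cfsg.alphaCore M = ⊥ ∧ Group.IsNilpotent (Cfsg.sigmaCore M) ∧
      centralizer (A : Set G) ≤ M := by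
  have h1 := alphaCore_eq_bot_of_nonuniq hG h123b hM hAM hAe hA2 hH
  have h2 := sigmaCore_nilpotent_of_alphaCore_eq_bot hG hM h1
  exact ⟨h1, h2, centralizer_le_of_nonuniq hG hM hAM hAe hA2 hpσ h2 hH⟩

end Cfsg.Agent.Helper4.BG124
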