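import Mathlib

/-!
# General tools for computing orders of normalizers

Sylow counting for a subgroup whose order is the full `p`-part, Burnside's transfer theorem in a
numerical form, `N/C` for cyclic subgroups, uniqueness of subgroups of prime order in a subgroup of
small order.
-/

set_option autoImplicit false

namespace Cfsg.Agent.Helper4.NMTools

open Subgroup

variable {G : Type*} [Group G]

/-- a subgroup whose order is the full `p`-part of the order of `G` is a Sylow subgroup -/
theorem exists_sylow_eq [Finite G] {p k : ℕ} [Fact p.Prime] (H : Subgroup G)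
    (hH : Nat.card H = p ^ k) (hk : ¬ p ^ (k + 1) ∣ Nat.card G) :
    ∃ P : Sylow p G, (P : Subgroup G) = H := by
  have hp : p.Prime := Fact.out
  have hHp : IsPGroup p H := IsPGroup.of_card hH
  obtain ⟨P, hP⟩ := hHp.exists_le_sylow
  obtain ⟨n, hn⟩ := (IsPGroup.iff_card (p := p)).mp P.isPGroup'
  have hnk : n ≤ k := by
    by_contra hcon
    push_neg at hcon
    apply hk
    have h1 : p ^ (k + 1) ∣ p ^ n := pow_dvd_pow p hcon
    have h2 : p ^ n ∣ Nat.card G := by
      rw [← hn]; exact Subgroup.card_subgroup_dvd_card (P : Subgroup G)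
    exact h1.trans h2
  have hle : Nat.card (P : Subgroup G) ≤ Nat.card H := by
    rw [hn, hH]
    exact Nat.pow_le_pow_right hp.pos hnk
  exact ⟨P, (Subgroup.eq_of_le_of_card_ge hP hle).symm⟩

/-- Sylow's congruence for the index of the normalizer -/
theorem index_normalizer_modEq [Finite G] {p k : ℕ} (hp : p.Prime) (H : Subgroup G)
    (hH : Nat.card H = p ^ k) (hk : ¬ p ^ (k + 1) ∣ Nat.card G) :
    (Subgroup.normalizer (H : Set G)).index % p = 1 := by
  haveI : Fact p.Prime := ⟨hp⟩
  obtain ⟨P, rfl⟩ := exists_sylow_eq H hH hk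
  have h1 := card_sylow_modEq_one p G
  rw [Sylow.card_eq_index_normalizer P] at h1
  have h2 : 1 % p = 1 := Nat.mod_eq_of_lt hp.one_lt
  rw [Nat.ModEq, h2] at h1
  exact h1

/-- Burnside's transfer theorem, numerical form -/
theorem burnside_complement [Finite G] {p : ℕ} [Fact p.Prime] (P : Sylow p G)
    (h : Subgroup.normalizer ((P : Subgroup G) : Set G) ≤
      Subgroup.centralizer ((P : Subgroup G) : Set G)) :
    ∃ K : Subgroup G, K.Normal ∧ Nat.card K * Nat.card (P : Subgroup G) = Nat.card G := by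
  have hcomp := MonoidHom.ker_transferSylow_isComplement' P h
  exact ⟨(MonoidHom.transferSylow P h).ker, inferInstance, hcomp.card_mul_card⟩

/-- in a simple group a proper nontrivial Sylow subgroup is not central in its normalizer -/
theorem not_normalizer_le_centralizer [Finite G]
    (hsimple : ∀ N : Subgroup G, N.Normal → N = ⊥ ∨ N = ⊤) {p k : ℕ} (hp : p.Prime)
    (H : Subgroup G) (hH : Nat.card H = p ^ k) (hk : ¬ p ^ (k + 1) ∣ Nat.card G)
    (h1 : Nat.card H ≠ 1) (h2 : Nat.card H ≠ Nat.card G) :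
    ¬ Subgroup.normalizer (H : Set G) ≤ Subgroup.centralizer (H : Set G) := by
  haveI : Fact p.Prime := ⟨hp⟩
  obtain ⟨P, rfl⟩ := exists_sylow_eq H hH hk
  intro h
  obtain ⟨K, hK, hmul⟩ := burnside_complement P h
  rcases hsimple K hK with rfl | rfl
  · rw [Subgroup.card_bot, one_mul] at hmul
    exact h2 hmul
  · rw [Subgroup.card_top] at hmul
    apply h1
    have hpos : 0 < Nat.card G := Nat.card_pos
    have : Nat.card G * Nat.card (P : Subgroup G) = Nat.card G * 1 := by rw [hmul, mul_one]
    exact Nat.eq_of_mul_eq_mul_left hpos this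

/-- `|N(Q)| = |C(Q)| * k` with `k ∣ φ(|Q|)` for a cyclic subgroup `Q` -/
theorem card_normalizer_eq [Finite G] (Q : Subgroup G) [IsCyclic Q] :
    ∃ k : ℕ, k ∣ Nat.totient (Nat.card Q) ∧
      Nat.card (Subgroup.normalizer (Q : Set G)) =
        Nat.card (Subgroup.centralizer (Q : Set G)) * k := by
  set φ := Q.normalizerMonoidHom with hφ
  refine ⟨Nat.card φ.range, ?_, ?_⟩
  · rw [← IsCyclic.card_mulAut Q]
    exact Subgroup.card_subgroup_dvd_card φ.range
  · have h1 := Subgroup.card_mul_index φ.ker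
    rw [Subgroup.index_ker] at h1
    rw [← h1, Subgroup.normalizerMonoidHom_ker]
    congr 1
    exact Nat.card_congr
      (Subgroup.subgroupOfEquivOfLe (Subgroup.centralizer_le_normalizer (Q : Set G))).toEquiv

/-- the commutator of two elements of the normalizer of a cyclic subgroup centralizes it -/
theorem commutator_mem_centralizer (Q : Subgroup G) [IsCyclic Q] {x y : G}
    (hx : x ∈ Subgroup.normalizer (Q : Set G)) (hy : y ∈ Subgroup.normalizer (Q : Set G)) :
    x * y * x⁻¹ * y⁻¹ ∈ Subgroup.centralizer (Q : Set G) := by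
  have hcomm : ∀ a b : MulAut Q, a * b = b * a := by
    intro a b
    apply (IsCyclic.mulAutMulEquiv Q).injective
    rw [map_mul, map_mul, mul_comm]
  have hker : ((⟨x, hx⟩ : Subgroup.normalizer (Q : Set G)) * ⟨y, hy⟩ *
      (⟨x, hx⟩ : Subgroup.normalizer (Q : Set G))⁻¹ *
      (⟨y, hy⟩ : Subgroup.normalizer (Q : Set G))⁻¹) ∈ Q.normalizerMonoidHom.ker := by
    rw [MonoidHom.mem_ker, map_mul, map_mul, map_mul, map_inv, map_inv,
      hcomm (Q.normalizerMonoidHom ⟨x, hx⟩) (Q.normalizerMonoidHom ⟨y, hy⟩)]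
    group
  rw [Subgroup.normalizerMonoidHom_ker, Subgroup.mem_subgroupOf] at hker
  simpa using hker

/-- two subgroups of prime order `p` in a subgroup of order less than `p²` coincide -/
theorem eq_of_card_prime [Finite G] {p : ℕ} (hp : p.Prime) {P P' K : Subgroup G}
    (hP : P ≤ K) (hP' : P' ≤ K) (hcP : Nat.card P = p) (hcP' : Nat.card P' = p)
    (hK : Nat.card K < p * p) : P = P' := by
  by_contra hne
  have hinf : P ⊓ P' = ⊥ := by
    have hd : Nat.card (P ⊓ P' : Subgroup G) ∣ p := by
      rw [← hcP]; exact Subgroup.card_dvd_of_le inf_le_left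
    rcases (Nat.dvd_prime hp).1 hd with h | h
    · exact Subgroup.card_eq_one.1 h
    · exfalso
      apply hne
      have e1 : P ⊓ P' = P := Subgroup.eq_of_le_of_card_ge inf_le_left (by rw [h, hcP])
      have e2 : P ⊓ P' = P' := Subgroup.eq_of_le_of_card_ge inf_le_right (by rw [h, hcP'])
      rw [← e1]; exact e2
  let f : P × P' → K := fun ab => ⟨(ab.1 : G) * (ab.2 : G), K.mul_mem (hP ab.1.2) (hP' ab.2.2)⟩
  have hf : Function.Injective f := by
    rintro ⟨⟨a, ha⟩, ⟨b, hb⟩⟩ ⟨⟨a', ha'⟩, ⟨b', hb'⟩⟩ hab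
    have h0 : a * b = a' * b' := congrArg Subtype.val hab
    have h1 : a'⁻¹ * a = b' * b⁻¹ := by
      calc a'⁻¹ * a = a'⁻¹ * (a * b) * b⁻¹ := by group
        _ = a'⁻¹ * (a' * b') * b⁻¹ := by rw [h0]
        _ = b' * b⁻¹ := by group
    have h2 : a'⁻¹ * a ∈ P ⊓ P' := by
      refine ⟨P.mul_mem (P.inv_mem ha') ha, ?_⟩
      rw [h1]; exact P'.mul_mem hb' (P'.inv_mem hb)
    rw [hinf, Subgroup.mem_bot] at h2
    have haa : a = a' := by
      have := inv_mul_eq_one.1 h2
      exact this.symm
    have hbb : b = b' := by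
      rw [h2] at h1
      have := mul_inv_eq_one.1 h1.symm
      exact this.symm
    subst haa hbb
    rfl
  have hle := Nat.card_le_card_of_injective f hf
  rw [Nat.card_prod, hcP, hcP'] at hle
  omega

/-- if `n h n⁻¹ ∈ H` for all `h ∈ H` with `H` finite then `n` normalizes `H` -/
theorem mem_normalizer_of_conj_mem [Finite G] (H : Subgroup G) (n : G)
    (h : ∀ x ∈ H, n * x * n⁻¹ ∈ H) : n ∈ Subgroup.normalizer (H : Set G) := by
  have hmap : H.map (MulAut.conj n).toMonoidHom ≤ H := by
    rintro _ ⟨x, hx, rfl⟩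
    exact h x hx
  have heq : H.map (MulAut.conj n).toMonoidHom = H := by
    apply Subgroup.eq_of_le_of_card_ge hmap
    rw [Subgroup.card_map_of_injective (MulAut.conj n).injective]
  rw [Subgroup.mem_normalizer_iff]
  intro x
  constructor
  · exact h x
  · intro hx
    rw [← heq] at hx
    obtain ⟨y, hy, hxy⟩ := hx
    have : y = x := by
      have h3 : n * y * n⁻¹ = n * x * n⁻¹ := hxy
      exact mul_left_cancel (mul_right_cancel h3)
    rw [← this]; exact hy

end Cfsg.Agent.Helper4.NMTools
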