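import Mathlib
import Cfsg.Agent.S1446
import Cfsg.Agent.Helper13.BG15A

/-!
# B&G 13.7, step `(A)` of helper28's proof (msg 918): pure group theory core

`A2` of prime order `p`, `Y` acting faithfully on `A2`, `T0` of prime order `t` normalizing `A2`,
all acting on an `r`-group `Z` with `C_Z(A2) = 1`, `C_Z(y) = C_Z(Y)` of order dividing `r`.
Then `|Y|` is prime and (if `t` is coprime to `|Y|`) `T0` centralizes `A2`.
Two applications of `S1446`.
-/

set_option autoImplicit false
set_option linter.unusedSectionVars false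
set_option linter.unusedVariables false

namespace Cfsg.Agent.Helper4.BG13A

open Subgroup

universe u
variable {G : Type u} [Group G] [Finite G]

theorem ne_bot_of_card_prime' {K : Subgroup G} {p : ℕ} (hp : p.Prime) (hK : Nat.card K = p) :
    K ≠ ⊥ := by
  intro h
  rw [h, Subgroup.card_bot] at hK
  exact hp.one_lt.ne hK

/-- a subgroup of a group of prime order is trivial or everything -/
theorem eq_bot_or_eq_of_le_card_prime {K L : Subgroup G} {p : ℕ} (hp : p.Prime)
    (hK : Nat.card K = p) (hLK : L ≤ K) : L = ⊥ ∨ L = K := by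
  have hd : Nat.card L ∣ p := hK ▸ Subgroup.card_dvd_of_le hLK
  rcases (Nat.dvd_prime hp).mp hd with h1 | h1
  · left; exact Subgroup.card_eq_one.mp h1
  · right
    exact Subgroup.eq_of_le_of_card_ge hLK (by rw [h1, hK])

/-- an element of a subgroup of prime order which is not `1` generates it -/
theorem zpowers_eq_of_card_prime {K : Subgroup G} {p : ℕ} (hp : p.Prime)
    (hK : Nat.card K = p) {x : G} (hx : x ∈ K) (hx1 : x ≠ 1) : zpowers x = K := by
  rcases eq_bot_or_eq_of_le_card_prime hp hK (zpowers_le.mpr hx) with h | h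
  · exact absurd (zpowers_eq_bot.mp h) hx1
  · exact h

/-- `R` normalizes `K` of prime order and `x ∈ R` does not centralize `K`: `C_K(x) = 1` -/
theorem inf_centralizer_singleton_eq_bot {K : Subgroup G} {p : ℕ} (hp : p.Prime)
    (hK : Nat.card K = p) {x : G} (hx : x ∉ centralizer (K : Set G)) :
    K ⊓ centralizer ({x} : Set G) = ⊥ := by
  rcases eq_bot_or_eq_of_le_card_prime hp hK (inf_le_left : K ⊓ centralizer ({x} : Set G) ≤ K)
    with h | h
  · exact h
  · exfalso
    apply hx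
    rw [mem_centralizer_iff]
    intro k hk
    have h1 : k ∈ K ⊓ centralizer ({x} : Set G) := by rw [h]; exact hk
    have h2 := (Subgroup.mem_inf.mp h1).2
    rw [mem_centralizer_iff] at h2
    exact (h2 x rfl).symm

theorem odd_card_subgroup (hodd : Odd (Nat.card G)) (K : Subgroup G) : Odd (Nat.card K) :=
  Odd.of_dvd_nat hodd (Subgroup.card_subgroup_dvd_card K)

/-- **Step (A), core.** -/
theorem stepA_core (hodd : Odd (Nat.card G))
    {p r t : ℕ} [hp : Fact p.Prime] [hr : Fact r.Prime] [ht : Fact t.Prime]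
    {A2 Y T0 Z : Subgroup G}
    (hA2 : Nat.card A2 = p) (hYne : Y ≠ ⊥) (hYA2 : Y ≤ normalizer (A2 : Set G))
    (hYf : Y ⊓ centralizer (A2 : Set G) = ⊥) (hYp : (Nat.card Y).Coprime p)
    (hsolvY : Group.IsSolvable ↥(A2 ⊔ Y))
    (hT0 : Nat.card T0 = t) (hT0A2 : T0 ≤ normalizer (A2 : Set G)) (htp : t ≠ p)
    (htY : (Nat.card Y).Coprime t)
    (hsolvT : Group.IsSolvable ↥(A2 ⊔ T0))
    (hZ : IsPGroup r Z) (hZne : Z ≠ ⊥) (hrp : r ≠ p) (hrt : r ≠ t)
    (hrY : (Nat.card Y).Coprime r)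
    (hA2Z : A2 ≤ normalizer (Z : Set G)) (hYZ : Y ≤ normalizer (Z : Set G))
    (hT0Z : T0 ≤ normalizer (Z : Set G))
    (hZA2 : Z ⊓ centralizer (A2 : Set G) = ⊥)
    (hprime : ∀ y ∈ Y, y ≠ 1 →
      Z ⊓ centralizer ({y} : Set G) = Z ⊓ centralizer (Y : Set G))
    (hfix : Nat.card ↥(Z ⊓ centralizer (Y : Set G)) ∣ r) :
    (Nat.card Y).Prime ∧ T0 ≤ centralizer (A2 : Set G) := by
  have hA2ne : A2 ≠ ⊥ := ne_bot_of_card_prime' hp.out hA2
  have hT0ne : T0 ≠ ⊥ := ne_bot_of_card_prime' ht.out hT0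
  obtain ⟨n, hn⟩ := IsPGroup.iff_card.mp hZ
  have hcopA2Y : (Nat.card A2).Coprime (Nat.card Y) := by rw [hA2]; exact hYp.symm
  have hcopA2T : (Nat.card A2).Coprime (Nat.card T0) := by
    rw [hA2, hT0]; exact (Nat.coprime_primes hp.out ht.out).mpr htp.symm
  have hcardY := Cfsg.Agent.Helper13.BG15.card_sup_of_le_nzr hYA2 hcopA2Y
  have hcardT := Cfsg.Agent.Helper13.BG15.card_sup_of_le_nzr hT0A2 hcopA2T
  have hpZ : p.Coprime (Nat.card Z) := by
    rw [hn]; exact Nat.Coprime.pow_right _ ((Nat.coprime_primes hp.out hr.out).mpr hrp.symm)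
  have htZ : t.Coprime (Nat.card Z) := by
    rw [hn]; exact Nat.Coprime.pow_right _ ((Nat.coprime_primes ht.out hr.out).mpr hrt.symm)
  have hYZc : (Nat.card Y).Coprime (Nat.card Z) := by
    rw [hn]; exact Nat.Coprime.pow_right _ hrY
  -- first application of S1446
  have h1 := Cfsg.Agent.S1446.result A2 Y Z hA2ne hYne
    (Subgroup.disjoint_of_coprime_natCard hcopA2Y).eq_bot hYA2
    (by
      intro y hy hy1
      apply inf_centralizer_singleton_eq_bot hp.out hA2
      intro hyc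
      apply hy1
      have : y ∈ Y ⊓ centralizer (A2 : Set G) := Subgroup.mem_inf.mpr ⟨hy, hyc⟩
      rw [hYf] at this
      exact Subgroup.mem_bot.mp this)
    hsolvY (odd_card_subgroup hodd _) hZne hZ.isNilpotent hA2Z hYZ
    (by rw [hcardY, hA2]; exact Nat.Coprime.mul_left hpZ hYZc)
    hZA2 hprime
  obtain ⟨hYprime, hcardZ, -⟩ := h1
  refine ⟨hYprime, ?_⟩
  -- `|C_Z(Y)| = r`
  have hfix_r : Nat.card ↥(Z ⊓ centralizer (Y : Set G)) = r := by
    rcases (Nat.dvd_prime hr.out).mp hfix with h | h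
    · exfalso
      rw [h, one_pow] at hcardZ
      exact hZne (Subgroup.card_eq_one.mp hcardZ)
    · exact h
  rw [hfix_r] at hcardZ
  by_contra hT0c
  -- second application of S1446
  have h2 := Cfsg.Agent.S1446.result A2 T0 Z hA2ne hT0ne
    (Subgroup.disjoint_of_coprime_natCard hcopA2T).eq_bot hT0A2
    (by
      intro x hx hx1
      apply inf_centralizer_singleton_eq_bot hp.out hA2
      intro hxc
      apply hT0c
      rw [← zpowers_eq_of_card_prime ht.out hT0 hx hx1]
      exact zpowers_le.mpr hxc)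
    hsolvT (odd_card_subgroup hodd _) hZne hZ.isNilpotent hA2Z hT0Z
    (by rw [hcardT, hA2, hT0]; exact Nat.Coprime.mul_left hpZ htZ)
    hZA2
    (by
      intro x hx hx1
      rw [← zpowers_eq_of_card_prime ht.out hT0 hx hx1, zpowers_eq_closure,
        centralizer_closure])
  obtain ⟨-, hcardZ2, -⟩ := h2
  rw [hT0] at hcardZ2
  have hZT : IsPGroup r ↥(Z ⊓ centralizer (T0 : Set G)) := hZ.to_le inf_le_left
  obtain ⟨b, hb⟩ := IsPGroup.iff_card.mp hZT
  rw [hb, ← pow_mul, hcardZ] at hcardZ2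
  have hqbt : Nat.card Y = b * t := Nat.pow_right_injective hr.out.two_le hcardZ2
  have htq : t ∣ Nat.card Y := ⟨b, by rw [hqbt, mul_comm]⟩
  have h3 : t ∣ Nat.gcd (Nat.card Y) t := Nat.dvd_gcd htq dvd_rfl
  rw [htY] at h3
  exact ht.out.one_lt.ne' (Nat.dvd_one.mp h3)
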