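import Mathlib
import Cfsg.Agent.Helper4.BG13A
import Cfsg.Agent.Helper4.BG12SD
import Cfsg.Agent.Helper10.BG13H

/-!
# B&G 13.7, step `(A)` of helper28's proof (msg 918), in context

In configuration `(*)`: `|Y|` is prime and `T0` centralizes `A2`.
-/

set_option autoImplicit false
set_option linter.unusedSectionVars false
set_option linter.unusedVariables false

namespace Cfsg.Agent.Helper4.BG13A

open Subgroup Cfsg
open Cfsg.Agent.Helper14 (IsSylowIn cj)
open Cfsg.Agent.Helper16.BG11 (BG)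
open Cfsg.Agent.H9.BG12 (St1420)

universe u
variable {G : Type u} [Group G] [Finite G]

/-- `Ω₁(Z(N))` with respect to `r`: the elements of `N ∩ C(N)` with `x ^ r = 1` -/
def omegaCenter (N : Subgroup G) (r : ℕ) : Subgroup G where
  carrier := {x | x ∈ N ∧ x ∈ centralizer (N : Set G) ∧ x ^ r = 1}
  one_mem' := ⟨one_mem _, one_mem _, one_pow _⟩
  mul_mem' := by
    rintro a b ⟨ha, hac, har⟩ ⟨hb, hbc, hbr⟩
    refine ⟨mul_mem ha hb, mul_mem hac hbc, ?_⟩
    have hcomm : Commute a b := mem_centralizer_iff.mp hbc a ha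
    rw [hcomm.mul_pow, har, hbr, one_mul]
  inv_mem' := by
    rintro a ⟨ha, hac, har⟩
    exact ⟨inv_mem ha, inv_mem hac, by rw [inv_pow, har, inv_one]⟩

theorem mem_omegaCenter {N : Subgroup G} {r : ℕ} {x : G} :
    x ∈ omegaCenter N r ↔ x ∈ N ∧ x ∈ centralizer (N : Set G) ∧ x ^ r = 1 := Iff.rfl

theorem omegaCenter_le (N : Subgroup G) (r : ℕ) : omegaCenter N r ≤ N := fun _ hx => hx.1

theorem omegaCenter_commute {N : Subgroup G} {r : ℕ} {a b : G} (ha : a ∈ omegaCenter N r)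
    (hb : b ∈ omegaCenter N r) : a * b = b * a :=
  mem_centralizer_iff.mp hb.2.1 a ha.1

theorem omegaCenter_isPGroup (N : Subgroup G) (r : ℕ) [Fact r.Prime] :
    IsPGroup r ↥(omegaCenter N r) := by
  intro x
  refine ⟨1, ?_⟩
  rw [pow_one]
  exact Subtype.ext x.2.2.2

theorem conj_mem_omegaCenter {N : Subgroup G} {r : ℕ} {g : G}
    (hg : g ∈ normalizer (N : Set G)) {x : G} (hx : x ∈ omegaCenter N r) :
    g * x * g⁻¹ ∈ omegaCenter N r := by
  obtain ⟨hxN, hxc, hxr⟩ := hx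
  refine ⟨(mem_normalizer_iff.mp hg x).mp hxN, ?_, ?_⟩
  · rw [mem_centralizer_iff]
    intro n hn
    have hn' : g⁻¹ * n * g ∈ N := by
      have := (mem_normalizer_iff.mp (inv_mem hg) n).mp hn
      simpa using this
    have h1 := mem_centralizer_iff.mp hxc _ hn'
    calc n * (g * x * g⁻¹) = g * ((g⁻¹ * n * g) * x) * g⁻¹ := by group
      _ = g * (x * (g⁻¹ * n * g)) * g⁻¹ := by rw [h1]
      _ = g * x * g⁻¹ * n := by group
  · rw [conj_pow, hxr, mul_one, mul_inv_cancel]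

theorem le_normalizer_omegaCenter (N : Subgroup G) (r : ℕ) :
    normalizer (N : Set G) ≤ normalizer ((omegaCenter N r : Subgroup G) : Set G) := by
  intro g hg
  rw [mem_normalizer_iff]
  intro x
  constructor
  · exact conj_mem_omegaCenter hg
  · intro hx
    have := conj_mem_omegaCenter (inv_mem hg) hx
    simpa [mul_assoc] using this

theorem exists_mem_ne_one {X : Type*} [Group X] {K : Subgroup X} (hK : K ≠ ⊥) :
    ∃ x ∈ K, x ≠ 1 := by
  obtain ⟨z, hz⟩ := (Subgroup.ne_bot_iff_exists_ne_one (H := K)).mp hK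
  exact ⟨z.1, z.2, fun h => hz (Subtype.ext h)⟩

/-- a nontrivial nilpotent subgroup has a nontrivial `Ω₁ Z` for some prime -/
theorem exists_omegaCenter_ne_bot {N : Subgroup G} (hN : Group.IsNilpotent ↥N) (hne : N ≠ ⊥) :
    ∃ r : ℕ, r.Prime ∧ r ∣ Nat.card N ∧ omegaCenter N r ≠ ⊥ := by
  haveI : Nontrivial ↥N := (Subgroup.nontrivial_iff_ne_bot N).mpr hne
  have hc : center ↥N ≠ ⊥ := Group.IsNilpotent.center_ne_bot ↥N
  obtain ⟨z, hz, hz1⟩ := exists_mem_ne_one hc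
  have ho : orderOf z ≠ 1 := fun h => hz1 (orderOf_eq_one_iff.mp h)
  set r := (orderOf z).minFac with hr
  have hrp : r.Prime := Nat.minFac_prime ho
  have hrd : r ∣ orderOf z := Nat.minFac_dvd _
  have hopos : 0 < orderOf z := orderOf_pos z
  set x : ↥N := z ^ (orderOf z / r) with hx
  have hox : orderOf x = r := orderOf_pow_orderOf_div hopos.ne' hrd
  refine ⟨r, hrp, hrd.trans (orderOf_dvd_natCard z), ?_⟩
  intro hbot
  have hxmem : (x : G) ∈ omegaCenter N r := by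
    refine ⟨x.2, ?_, ?_⟩
    · rw [mem_centralizer_iff]
      intro n hn
      have hxc : x ∈ center ↥N := Subgroup.pow_mem _ hz _
      have := (Subgroup.mem_center_iff.mp hxc) ⟨n, hn⟩
      exact congrArg Subtype.val this
    · have : x ^ r = 1 := by rw [← hox]; exact pow_orderOf_eq_one x
      exact_mod_cast congrArg Subtype.val this
  rw [hbot, Subgroup.mem_bot] at hxmem
  have hx1 : x = 1 := Subtype.ext hxmem
  rw [hx1, orderOf_one] at hox
  exact hrp.one_lt.ne hox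

/-- The facts used in step `(A)`. -/
structure ACfg (M H : Subgroup G) (p t : ℕ) (A2 Y T0 : Subgroup G) : Prop where
  hM : IsCoatom M
  hH : IsCoatom H
  hσ : ∀ r : ℕ, r ∈ Cfsg.sigma M → r ∉ Cfsg.sigma H
  hHnil : Group.IsNilpotent ↥(Cfsg.sigmaCore H)
  hpM : p ∉ Cfsg.sigma M
  hpH : p ∉ Cfsg.sigma H
  hYσ : Y ≤ Cfsg.sigmaCore M
  hYne : Y ≠ ⊥
  hYH : Y ≤ H
  hI : M ⊓ H ≤ centralizer (Y : Set G)
  hCy : ∀ y ∈ Y, y ≠ 1 → centralizer ({y} : Set G) ≤ M
  hA2 : Nat.card A2 = p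
  hA2H : A2 ≤ H
  hYA2 : Y ≤ normalizer (A2 : Set G)
  hYf : Y ⊓ centralizer (A2 : Set G) = ⊥
  hσA2 : Cfsg.sigmaCore H ⊓ centralizer (A2 : Set G) = ⊥
  hT0 : Nat.card T0 = t
  hT0H : T0 ≤ H
  hT0A2 : T0 ≤ normalizer (A2 : Set G)
  htp : t ≠ p
  htM : t ∉ Cfsg.sigma M
  htH : t ∉ Cfsg.sigma H

theorem coprime_of_forall_prime_not_mem {π : Set ℕ} {n q : ℕ} (hq : q.Prime)
    (hn : ∀ s : ℕ, s.Prime → s ∣ n → s ∈ π) (hqπ : q ∉ π) : n.Coprime q := by
  rw [Nat.coprime_comm]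
  exact (Nat.Prime.coprime_iff_not_dvd hq).mpr (fun hd => hqπ (hn q hq hd))

/-- **Step (A)** of helper28's proof of B&G 13.7: `|Y|` is prime and `T0` centralizes `A2`. -/
theorem stepA (h : BG G) (h1420 : St1420 G) {M H : Subgroup G} {p t : ℕ}
    [hp : Fact p.Prime] [ht : Fact t.Prime] {A2 Y T0 : Subgroup G}
    (c : ACfg M H p t A2 Y T0) :
    (Nat.card Y).Prime ∧ T0 ≤ centralizer (A2 : Set G) := by
  have hσH_le : Cfsg.sigmaCore H ≤ H := Cfsg.Agent.H9.BG12.sigmaCore_le H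
  have hσM_le : Cfsg.sigmaCore M ≤ M := Cfsg.Agent.H9.BG12.sigmaCore_le M
  have hHne : Cfsg.sigmaCore H ≠ ⊥ :=
    Cfsg.Agent.Helper10.BG16.sigmaCore_ne_bot h.hG h.st1350 h.uniq96 c.hH
  have hHsolv : Group.IsSolvable ↥H := Cfsg.Agent.Helper16.BG11.coatom_solv h c.hH
  obtain ⟨r, hrP, hrd, hZne⟩ := exists_omegaCenter_ne_bot c.hHnil hHne
  have hr : Fact r.Prime := ⟨hrP⟩
  set Z := omegaCenter (Cfsg.sigmaCore H) r with hZdef
  have hZσ : Z ≤ Cfsg.sigmaCore H := omegaCenter_le _ _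
  have hrσH : r ∈ Cfsg.sigma H := (h.s1350 H c.hH).1.2.1 r hrP hrd
  have hrσM : r ∉ Cfsg.sigma M := fun hrM => c.hσ r hrM hrσH
  have hYnum : ∀ s : ℕ, s.Prime → s ∣ Nat.card Y → s ∈ Cfsg.sigma M := fun s hs hd =>
    (h.s1350 M c.hM).1.2.1 s hs (hd.trans (Subgroup.card_dvd_of_le c.hYσ))
  have hHnz : H ≤ normalizer ((Z : Subgroup G) : Set G) :=
    (Cfsg.Agent.H9.BG12.le_normalizer_sigmaCore H).trans (le_normalizer_omegaCenter _ _)
  have hsolv_of : ∀ K : Subgroup G, K ≤ H → Group.IsSolvable ↥K := fun K hK =>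
    Group.isSolvable_of_isSolvable_injective (Subgroup.inclusion_injective hK)
  have hYM : Y ≤ M := c.hYσ.trans hσM_le
  -- `C_Z(y) = C_Z(Y)`
  have hprime : ∀ y ∈ Y, y ≠ 1 →
      Z ⊓ centralizer ({y} : Set G) = Z ⊓ centralizer (Y : Set G) := by
    intro y hy hy1
    apply le_antisymm
    · intro x hx
      obtain ⟨hxZ, hxc⟩ := Subgroup.mem_inf.mp hx
      refine Subgroup.mem_inf.mpr ⟨hxZ, c.hI (Subgroup.mem_inf.mpr ⟨c.hCy y hy hy1 hxc, ?_⟩)⟩
      exact hσH_le (hZσ hxZ)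
    · exact inf_le_inf_left _ (centralizer_le (Set.singleton_subset_iff.mpr hy))
  -- coprimality
  have hYp : (Nat.card Y).Coprime p := coprime_of_forall_prime_not_mem hp.out hYnum c.hpM
  have htY : (Nat.card Y).Coprime t := coprime_of_forall_prime_not_mem ht.out hYnum c.htM
  have hrY : (Nat.card Y).Coprime r := coprime_of_forall_prime_not_mem hrP hYnum hrσM
  have hrp : r ≠ p := fun hh => c.hpH (hh ▸ hrσH)
  have hrt : r ≠ t := fun hh => c.htH (hh ▸ hrσH)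
  have hZA2 : Z ⊓ centralizer (A2 : Set G) = ⊥ := by
    apply le_bot_iff.mp
    rw [← c.hσA2]
    exact inf_le_inf_right _ hZσ
  have hZp : IsPGroup r ↥Z := omegaCenter_isPGroup _ _
  -- first get `|Y|` prime and `|Z| = |C_Z(Y)| ^ |Y|` (S1446)
  have hA2ne : A2 ≠ ⊥ := ne_bot_of_card_prime' hp.out c.hA2
  have hcopA2Y : (Nat.card A2).Coprime (Nat.card Y) := by rw [c.hA2]; exact hYp.symm
  have hcardY := Cfsg.Agent.Helper13.BG15.card_sup_of_le_nzr c.hYA2 hcopA2Y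
  obtain ⟨n, hn⟩ := IsPGroup.iff_card.mp hZp
  have hpZ : p.Coprime (Nat.card Z) := by
    rw [hn]; exact Nat.Coprime.pow_right _ ((Nat.coprime_primes hp.out hrP).mpr hrp.symm)
  have hYZc : (Nat.card Y).Coprime (Nat.card Z) := by
    rw [hn]; exact Nat.Coprime.pow_right _ hrY
  have h1 := Cfsg.Agent.S1446.result A2 Y Z hA2ne c.hYne
    (Subgroup.disjoint_of_coprime_natCard hcopA2Y).eq_bot c.hYA2
    (by
      intro y hy hy1
      apply inf_centralizer_singleton_eq_bot hp.out c.hA2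
      intro hyc
      apply hy1
      have : y ∈ Y ⊓ centralizer (A2 : Set G) := Subgroup.mem_inf.mpr ⟨hy, hyc⟩
      rw [c.hYf] at this
      exact Subgroup.mem_bot.mp this)
    (hsolv_of _ (sup_le c.hA2H c.hYH)) (odd_card_subgroup h.hodd _) hZne hZp.isNilpotent
    (c.hA2H.trans hHnz) (c.hYH.trans hHnz)
    (by rw [hcardY, c.hA2]; exact Nat.Coprime.mul_left hpZ hYZc)
    hZA2 hprime
  obtain ⟨hYprime, hcardZ, -⟩ := h1
  -- `r`-rank of `M` is one
  have hCZM : Z ⊓ centralizer (Y : Set G) ≤ M := by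
    obtain ⟨y, hy, hy1⟩ := exists_mem_ne_one c.hYne
    exact (inf_le_right.trans (centralizer_le (Set.singleton_subset_iff.mpr hy))).trans
      (c.hCy y hy hy1)
  have hCZe : Cfsg.IsElementaryAbelian r (Z ⊓ centralizer (Y : Set G)) := by
    refine ⟨⟨⟨fun a b => Subtype.ext ?_⟩⟩, fun a ha => (Subgroup.mem_inf.mp ha).1.2.2⟩
    exact omegaCenter_commute (Subgroup.mem_inf.mp a.2).1 (Subgroup.mem_inf.mp b.2).1
  have hCZne : Z ⊓ centralizer (Y : Set G) ≠ ⊥ := by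
    intro h0
    rw [h0, Subgroup.card_bot, one_pow] at hcardZ
    exact hZne (Subgroup.card_eq_one.mp hcardZ)
  have hrank1 : Cfsg.PRankLE r 1 M := by
    by_contra hr1
    have hr2 : Cfsg.PRankLE r 2 M := by
      by_contra hr2
      exact hrσM (Cfsg.Agent.Helper4.BG10.alpha_subset_sigma h.hG h.uniq c.hM ⟨hrP, hr2⟩)
    have hrτ : r ∈ Cfsg.tau2 M := ⟨hrP, hrσM, hr2, hr1⟩
    obtain ⟨E0, hE0⟩ := Cfsg.Agent.H9.BG12.exists_complIn_sigmaCore h.st1350 c.hM
    obtain ⟨d, hd, hd1⟩ := exists_mem_ne_one hCZne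
    obtain ⟨hdZ, hdY⟩ := Subgroup.mem_inf.mp hd
    have hdr : d ^ r = 1 := hdZ.2.2
    have hod : orderOf d = r := by
      rcases (Nat.dvd_prime hrP).mp (orderOf_dvd_of_pow_eq_one hdr) with h' | h'
      · exact absurd (orderOf_eq_one_iff.mp h') hd1
      · exact h'
    obtain ⟨y, hy, hy1⟩ := exists_mem_ne_one c.hYne
    have hdhat : d ∈ Cfsg.sigmaHat M :=
      ⟨hCZM hd, y, c.hYσ hy, hy1, (mem_centralizer_iff.mp hdY y hy).symm⟩
    have hCd := ((h1420 M c.hM E0 hE0).2.2.2 d (hCZM hd) hd1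
      (by
        intro s hs hsd
        rw [hod] at hsd
        rw [(Nat.prime_dvd_prime_iff_eq hs hrP).mp hsd]
        exact hrτ) hdhat).1
    -- `Z ≤ C(d) ≤ M`, so `Z ≤ C(Y)`
    have hZM : Z ≤ M := by
      intro z hz
      apply hCd
      rw [mem_centralizer_iff]
      intro d' hd'
      rw [Set.mem_singleton_iff] at hd'
      rw [hd']
      exact omegaCenter_commute hdZ hz
    have hZY : Z ≤ centralizer (Y : Set G) := fun z hz =>
      c.hI (Subgroup.mem_inf.mpr ⟨hZM hz, hσH_le (hZσ hz)⟩)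
    have hZeq : Z ⊓ centralizer (Y : Set G) = Z := inf_eq_left.mpr hZY
    rw [hZeq] at hcardZ
    have hZ1 : 1 < Nat.card Z := (Subgroup.one_lt_card_iff_ne_bot _).mpr hZne
    have hlt : Nat.card Z < Nat.card Z ^ Nat.card Y := by
      calc Nat.card Z = Nat.card Z ^ 1 := (pow_one _).symm
        _ < Nat.card Z ^ Nat.card Y := Nat.pow_lt_pow_right hZ1 hYprime.one_lt
    omega
  have hfix : Nat.card ↥(Z ⊓ centralizer (Y : Set G)) ∣ r := by
    have hle := (Cfsg.Agent.Lead.BG9.not_pRankLE_of_elementary hCZM hCZe).mt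
      (not_not.mpr hrank1)
    rw [not_lt, pow_one] at hle
    obtain ⟨b, hb⟩ := IsPGroup.iff_card.mp (hZp.to_le (inf_le_left : Z ⊓ centralizer (Y : Set G) ≤ Z))
    rw [hb] at hle ⊢
    have hb1 : b ≤ 1 := by
      by_contra hb2
      have : r ^ 2 ≤ r ^ b := Nat.pow_le_pow_right hrP.pos (by omega)
      have : r < r ^ 2 := by
        calc r = r ^ 1 := (pow_one _).symm
          _ < r ^ 2 := Nat.pow_lt_pow_right hrP.one_lt (by norm_num)
      omega
    exact (pow_dvd_pow r hb1).trans (by rw [pow_one])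
  exact stepA_core h.hodd c.hA2 c.hYne c.hYA2 c.hYf hYp
    (hsolv_of _ (sup_le c.hA2H c.hYH)) c.hT0 c.hT0A2 c.htp htY
    (hsolv_of _ (sup_le c.hA2H c.hT0H)) hZp hZne hrp hrt hrY
    (c.hA2H.trans hHnz) (c.hYH.trans hHnz) (c.hT0H.trans hHnz) hZA2 hprime hfix

end Cfsg.Agent.Helper4.BG13A
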