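import Mathlib
import Cfsg.Prelude.Def_OddOrderLocal
import Cfsg.Agent.Helper10.BG16A
import Cfsg.Agent.Helper20.BG15K
import Cfsg.Agent.Helper16.BG11b
import Cfsg.Agent.Helper21.BG12f
import Cfsg.Agent.Helper17.Basic
import Cfsg.Agent.Helper4.BG13A2

/-!
# B&G 14.7 / 15.9(b): `U ≠ 1 ⇒ |K|` prime, for an arbitrary Hall `κ(M)`-subgroup `K`
(helper1's task T1, relative to S1430)
-/

set_option autoImplicit false
set_option linter.unusedSectionVars false
set_option linter.unusedVariables false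
set_option linter.style.haveILetI false

namespace Cfsg.Agent.Helper4.BG147L

open Subgroup Cfsg
open Cfsg.Agent.Helper10.BG16 (St1430)
open Cfsg.Agent.Helper14 (IsSylowIn cj exists_isSylowIn)

universe u
variable {G : Type u} [Group G] [Finite G]

/-- a prime dividing `|M : J|` divides `|M : A|` for `A ≤ J ≤ M` -/
theorem dvd_relIndex_of_le {A J M : Subgroup G} (hAJ : A ≤ J) (hJM : J ≤ M) {q : ℕ}
    (hq : q ∣ J.relIndex M) : q ∣ A.relIndex M := by
  rw [← Subgroup.relIndex_mul_relIndex A J M hAJ hJM]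
  exact Dvd.dvd.mul_left hq _

/-- three Hall subgroups for prime sets covering all primes generate `M` -/
theorem sup_eq_of_hall {π₁ π₂ π₃ : Set ℕ} {A B C M : Subgroup G}
    (hA : Cfsg.IsPiHallOf π₁ A M) (hB : Cfsg.IsPiHallOf π₂ B M) (hC : Cfsg.IsPiHallOf π₃ C M)
    (hcov : ∀ q : ℕ, q.Prime → q ∈ π₁ ∨ q ∈ π₂ ∨ q ∈ π₃) : A ⊔ B ⊔ C = M := by
  have hJM : A ⊔ B ⊔ C ≤ M := sup_le (sup_le hA.1 hB.1) hC.1
  apply le_antisymm hJM
  rw [← Subgroup.relIndex_eq_one]
  by_contra hne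
  obtain ⟨q, hq, hqd⟩ := Nat.exists_prime_and_dvd hne
  have h1 : q ∣ A.relIndex M := dvd_relIndex_of_le (le_sup_left.trans le_sup_left) hJM hqd
  have h2 : q ∣ B.relIndex M := dvd_relIndex_of_le (le_sup_right.trans le_sup_left) hJM hqd
  have h3 : q ∣ C.relIndex M := dvd_relIndex_of_le le_sup_right hJM hqd
  rcases hcov q hq with h | h | h
  · exact hA.2.2 q hq h h1
  · exact hB.2.2 q hq h h2
  · exact hC.2.2 q hq h h3

/-- coprimality of two numbers whose prime divisors lie in disjoint sets -/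
theorem coprime_of_disjoint_primes {π₁ π₂ : Set ℕ} {m n : ℕ}
    (hm : ∀ q : ℕ, q.Prime → q ∣ m → q ∈ π₁) (hn : ∀ q : ℕ, q.Prime → q ∣ n → q ∈ π₂)
    (hd : ∀ q, q ∈ π₁ → q ∉ π₂) : m.Coprime n := by
  apply Nat.Coprime.symm
  apply Nat.coprime_of_dvd
  intro q hq hqn hqm
  exact hd q (hm q hq hqm) (hn q hq hqn)

/-- in an abelian subgroup `U`, a Sylow subgroup `T` of `U` is normalized by `N_G(U)` -/
theorem normalizer_le_normalizer_of_sylow_abelian {U T : Subgroup G} {q : ℕ} [Fact q.Prime]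
    (hab : ∀ a ∈ U, ∀ b ∈ U, a * b = b * a) (hT : IsSylowIn q T U) :
    normalizer (U : Set G) ≤ normalizer (T : Set G) := by
  intro g hg
  have hUg : U.map (cj g) = U := by
    exact (Cfsg.Agent.Helper14.mem_normalizer_iff_map_cj.mp hg)
  have hT' : IsSylowIn q (T.map (cj g)) U := by
    have := hT.map_cj g
    rwa [hUg] at this
  obtain ⟨u, hu, hTu⟩ := hT.exists_conj hT'
  have hTu' : T.map (cj u) = T := by
    ext x
    constructor
    · rintro ⟨t, ht, rfl⟩
      have : cj u t = t := by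
        show u * t * u⁻¹ = t
        rw [hab u hu t (hT.1 ht)]; group
      rw [this]; exact ht
    · intro hx
      refine ⟨x, hx, ?_⟩
      show u * x * u⁻¹ = x
      rw [hab u hu x (hT.1 hx)]; group
  rw [hTu'] at hTu
  exact Cfsg.Agent.Helper14.mem_normalizer_iff_map_cj.mpr hTu

/-- **B&G 15.9(b) for an arbitrary Hall `κ(M)`-subgroup** (helper1's T1): if `M ≠ K M_σ` then
`|K|` is prime. -/
theorem card_prime_of_compl_ne (hG : Cfsg.IsMinSimpleOddOrder G) (h1430 : St1430 G)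
    {M K : Subgroup G} (hM : IsCoatom M) (hK : Cfsg.IsPiHallOf (Cfsg.kappa M) K M) (hK1 : K ≠ ⊥)
    (hU : Nat.card K * Nat.card (Cfsg.sigmaCore M) ≠ Nat.card M) : (Nat.card K).Prime := by
  obtain ⟨hpr, ⟨U, hUab, hUhall, hKU, hfpf⟩, -⟩ := h1430 M hM K hK hK1
  have h1350 := Cfsg.Agent.Helper21.BG12.st1350 hG
  have hNhall : Cfsg.IsPiHallOf (Cfsg.sigma M) (Cfsg.sigmaCore M) M := (h1350 M hM).1
  set N : Subgroup G := Cfsg.sigmaCore M with hN
  have hNM : N ≤ M := hNhall.1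
  have hKM : K ≤ M := hK.1
  have hUM : U ≤ M := hUhall.1
  have hMn : M ≤ normalizer (N : Set G) := Cfsg.Agent.H9.BG12.le_normalizer_sigmaCore M
  have hKN : K ≤ normalizer (N : Set G) := hKM.trans hMn
  have hUN : U ≤ normalizer (N : Set G) := hUM.trans hMn
  have hMsolv : Group.IsSolvable M := hG.2.2.2 M hM.1
  have hab : ∀ a ∈ U, ∀ b ∈ U, a * b = b * a := by
    intro a ha b hb
    have := hUab.is_comm.comm (⟨a, ha⟩ : ↥U) ⟨b, hb⟩
    exact congrArg Subtype.val this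
  -- the three prime sets cover all primes
  have hcov : ∀ q : ℕ, q.Prime → q ∈ Cfsg.sigma M ∨ q ∈ Cfsg.kappa M ∨
      q ∈ {q | q.Prime ∧ q ∉ Cfsg.kappa M ∧ q ∉ Cfsg.sigma M} := by
    intro q hq
    by_cases h1 : q ∈ Cfsg.sigma M
    · exact Or.inl h1
    · by_cases h2 : q ∈ Cfsg.kappa M
      · exact Or.inr (Or.inl h2)
      · exact Or.inr (Or.inr ⟨hq, h2, h1⟩)
  have hJ : N ⊔ K ⊔ U = M := sup_eq_of_hall hNhall hK hUhall hcov
  -- coprimality
  have hκσ : ∀ q, q ∈ Cfsg.kappa M → q ∉ Cfsg.sigma M := fun q h => h.2.2.1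
  have hcopNK : (Nat.card N).Coprime (Nat.card K) :=
    coprime_of_disjoint_primes hNhall.2.1 hK.2.1 (fun q h1 h2 => hκσ q h2 h1)
  have hcopUK : (Nat.card U).Coprime (Nat.card K) :=
    coprime_of_disjoint_primes hUhall.2.1 hK.2.1 (fun q h1 h2 => h1.2.1 h2)
  have hcopUN : (Nat.card U).Coprime (Nat.card N) :=
    coprime_of_disjoint_primes hUhall.2.1 hNhall.2.1 (fun q h1 h2 => h1.2.2 h2)
  -- `U ≠ 1`
  have hU1 : U ≠ ⊥ := by
    rintro rfl
    apply hU
    rw [sup_bot_eq] at hJ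
    have h1 := Cfsg.Agent.Helper17.card_sup_mul_card_inf N K hKN
    have h2 : N ⊓ K = ⊥ := Subgroup.inf_eq_bot_of_coprime hcopNK
    rw [h2, Subgroup.card_bot, mul_one, hJ] at h1
    rw [h1, mul_comm]
  -- `U` does not centralize `M_σ`
  have hnc : ¬ U ≤ centralizer (N : Set G) := by
    intro hc
    have hUc1 : Nat.card U ≠ 1 := fun h => hU1 (Subgroup.card_eq_one.mp h)
    obtain ⟨q, hq, hqd⟩ := Nat.exists_prime_and_dvd hUc1
    haveI : Fact q.Prime := ⟨hq⟩
    obtain ⟨T, hT⟩ := exists_isSylowIn (p := q) U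
    have hqrest := hUhall.2.1 q hq hqd
    have hTM : IsSylowIn q T M :=
      Cfsg.Agent.Helper10.BG16.isSylowIn_of_not_dvd_relIndex' hT hUM (hUhall.2.2 q hq hqrest)
    have hT1 : T ≠ ⊥ := Cfsg.Agent.Helper16.BG11.IsSylowIn.ne_bot_of_dvd hT hqd
    have hNU : normalizer (U : Set G) ≤ normalizer (T : Set G) :=
      normalizer_le_normalizer_of_sylow_abelian hab hT
    have hMT : M ≤ normalizer (T : Set G) := by
      rw [← hJ]
      refine sup_le (sup_le ?_ (hKU.trans hNU)) ((le_normalizer).trans hNU)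
      -- `N` centralizes `U ⊇ T`
      have h1 : N ≤ centralizer (U : Set G) := Subgroup.le_centralizer_iff.mp hc
      exact (h1.trans (Subgroup.centralizer_le hT.1)).trans (Subgroup.centralizer_le_normalizer _)
    have hNT : normalizer (T : Set G) ≤ M :=
      Cfsg.Agent.Helper20.BG15K.normalizer_le_of_le_normalizer hG hM hT1 hTM.1 hMT
    exact hqrest.2.2 (Cfsg.Agent.Helper16.BG11.mem_sigma_of_isSylowIn hTM hT1 hNT)
  have hUKM : U ⊔ K ≤ M := sup_le hUM hKM
  have hodd : Odd (Nat.card ↥(U ⊔ K)) :=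
    Odd.of_dvd_nat hG.1 (Subgroup.card_subgroup_dvd_card _)
  have hcop : (Nat.card ↥(U ⊔ K)).Coprime (Nat.card N) := by
    have h1 := Cfsg.Agent.Helper17.card_sup_mul_card_inf U K hKU
    have h2 : Nat.card ↥(U ⊔ K) ∣ Nat.card U * Nat.card K := by
      rw [← h1]; exact Dvd.intro _ rfl
    exact Nat.Coprime.coprime_dvd_left h2 (Nat.Coprime.mul_left hcopUN hcopNK.symm)
  exact Cfsg.Agent.Helper20.BG15K.prime_of_frobenius_on_solvable U K N hU1 hK1 hKU hUN hKN
    hfpf (Cfsg.Agent.Lead.isSolvable_of_le hUKM hMsolv) hodd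
    (Cfsg.Agent.Lead.isSolvable_of_le hNM hMsolv) hcopUK hcop hnc hpr

end Cfsg.Agent.Helper4.BG147L
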