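import Mathlib
import Cfsg.Agent.S1453
import Cfsg.Agent.Helper9.NormalElemAb
import Cfsg.Agent.Helper7.Hyperplane
import Cfsg.Agent.Helper26.Thompson
import Cfsg.Agent.Helper17.Basic
import Cfsg.Agent.Helper14.SylowIn
import Cfsg.Agent.Helper5.FrobModG
import Cfsg.Agent.Helper4.BG10g

/-!
# A `p`-group lemma for B&G 12.14 (PG1)

In a `p`-group `R` (`p` odd) of rank at least `3`, every subgroup of order `p` of `R'` centralizes an
elementary abelian subgroup of `R` of order at least `p ^ 3`.
-/

set_option autoImplicit false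

universe u

namespace Cfsg.Agent.Helper4.BG12PG

open Subgroup
open scoped commutatorElement

section typeLevel

variable {P : Type u} [Group P]

/-- for `x` in the second centre, `g ↦ ⁅g, x⁆` is a homomorphism into the centre -/
def commHom (x : P) (hx : x ∈ Subgroup.upperCentralSeries P 2) : P →* center P :=
  MonoidHom.mk' (fun g => ⟨⁅g, x⁆, by
    have h1 : ⁅x, g⁆ ∈ Subgroup.upperCentralSeries P 1 := (Subgroup.mem_upperCentralSeries_succ_iff.1 hx) g
    rw [Subgroup.upperCentralSeries_one] at h1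
    have h2 := (center P).inv_mem h1
    rwa [commutatorElement_inv] at h2⟩) (by
    intro g h
    apply Subtype.ext
    have hc : ⁅h, x⁆ ∈ center P := by
      have h1 : ⁅x, h⁆ ∈ Subgroup.upperCentralSeries P 1 := (Subgroup.mem_upperCentralSeries_succ_iff.1 hx) h
      rw [Subgroup.upperCentralSeries_one] at h1
      have h2 := (center P).inv_mem h1
      rwa [commutatorElement_inv] at h2
    have hid : ⁅g * h, x⁆ = g * ⁅h, x⁆ * g⁻¹ * ⁅g, x⁆ := by
      simp only [commutatorElement_def]; group
    have hcg : g * ⁅h, x⁆ = ⁅h, x⁆ * g := ((mem_center_iff.1 hc) g)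
    show ⁅g * h, x⁆ = ⁅g, x⁆ * ⁅h, x⁆
    rw [hid, hcg, mul_assoc ⁅h, x⁆ g g⁻¹, mul_inv_cancel, mul_one]
    exact ((mem_center_iff.1 hc) ⁅g, x⁆).symm)

theorem commHom_apply (x : P) (hx : x ∈ Subgroup.upperCentralSeries P 2) (g : P) :
    ((commHom x hx g : center P) : P) = ⁅g, x⁆ := rfl

theorem mem_ker_commHom (x : P) (hx : x ∈ Subgroup.upperCentralSeries P 2) (g : P) :
    g ∈ (commHom x hx).ker ↔ g * x = x * g := by
  rw [MonoidHom.mem_ker]
  constructor
  · intro h
    have h1 : ⁅g, x⁆ = 1 := by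
      have := congrArg Subtype.val h
      simpa [commHom_apply] using this
    exact (commutatorElement_eq_one_iff_commute.1 h1).eq
  · intro h
    apply Subtype.ext
    rw [commHom_apply]
    exact commutatorElement_eq_one_iff_commute.2 h

theorem commutator_le_ker_commHom (x : P) (hx : x ∈ Subgroup.upperCentralSeries P 2) :
    commutator P ≤ (commHom x hx).ker := by
  rw [commutator_def, Subgroup.commutator_le]
  intro g _ h _
  rw [MonoidHom.mem_ker, map_commutatorElement]
  refine commutatorElement_eq_one_iff_commute.2 ?_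
  show (commHom x hx g) * (commHom x hx h) = (commHom x hx h) * (commHom x hx g)
  apply Subtype.ext
  exact (mem_center_iff.1 (commHom x hx h).2) (commHom x hx g)

variable [Finite P] {p : ℕ} [Fact p.Prime]

theorem isElementaryAbelian_of_card_prime {X : Subgroup P} (hXc : Nat.card X = p) :
    Cfsg.IsElementaryAbelian p X := by
  have hXc' : IsCyclic ↥X := isCyclic_of_prime_card hXc
  refine ⟨⟨⟨fun a b => ?_⟩⟩, ?_⟩
  · obtain ⟨g, hg⟩ := hXc'.exists_generator
    obtain ⟨i, rfl⟩ := mem_zpowers_iff.mp (hg a)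
    obtain ⟨j, rfl⟩ := mem_zpowers_iff.mp (hg b)
    exact (Commute.zpow_zpow_self g i j).eq
  · intro a ha
    have := pow_card_eq_one' (G := ↥X) (x := ⟨a, ha⟩)
    rw [hXc] at this
    have h2 := congrArg Subtype.val this
    simpa using h2

theorem inf_eq_bot_of_card_prime {X A : Subgroup P} (hXc : Nat.card X = p) (h : ¬ X ≤ A) :
    X ⊓ A = ⊥ := by
  have hp : p.Prime := Fact.out
  have hdvd : Nat.card ↥(X ⊓ A) ∣ p := hXc ▸ Subgroup.card_dvd_of_le inf_le_left
  rcases (Nat.dvd_prime hp).1 hdvd with h1 | h1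
  · exact Subgroup.card_eq_one.1 h1
  · exfalso
    apply h
    have : X ⊓ A = X := Subgroup.eq_of_le_of_card_ge inf_le_left (by rw [h1, hXc])
    rw [← this]; exact inf_le_right

/-- type-level form of PG1 -/
theorem exists_elemAb_cube_type (hp2 : p ≠ 2) (hP : IsPGroup p P) (hr : ¬ Cfsg.PRankLE p 2 P)
    (X : Subgroup P) (hX : X ≤ commutator P) (hXc : Nat.card X = p) :
    ∃ B : Subgroup P, B ≤ centralizer (X : Set P) ∧ Cfsg.IsElementaryAbelian p B ∧
      p ^ 3 ≤ Nat.card B := by
  have hp : p.Prime := Fact.out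
  unfold Cfsg.PRankLE at hr
  push Not at hr
  obtain ⟨F, hFc, hFp, hFcard⟩ := hr
  have hFe : Cfsg.IsElementaryAbelian p F := ⟨hFc, hFp⟩
  have hF3 : p ^ 3 ≤ Nat.card F := by
    obtain ⟨k, hk⟩ := (hP.to_subgroup F).exists_card_eq
    rw [hk] at hFcard ⊢
    have : 2 < k := (Nat.pow_lt_pow_iff_right hp.one_lt).1 hFcard
    exact Nat.pow_le_pow_right hp.pos this
  have hnc : ¬ IsCyclic P := by
    intro hc
    haveI := hc
    have h1 : p < Nat.card F := by
      have : p ^ 1 < p ^ 3 := Nat.pow_lt_pow_right hp.one_lt (by norm_num)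
      rw [pow_one] at this
      omega
    exact Cfsg.Agent.Helper7.IsElementaryAbelian.not_isCyclic hFe h1 inferInstance
  obtain ⟨A, hAn, hAe, hAcard⟩ := Cfsg.Agent.Helper9.exists_normal_elemAb_sq hp2 hP hnc
  haveI := hAn
  have hA2 : A ≤ Subgroup.upperCentralSeries P 2 := Cfsg.Agent.S1453.le_upperCentralSeries_two hP A hAcard
  -- `R' ≤ C(A)`
  have hcomm : ∀ c ∈ commutator P, ∀ a ∈ A, c * a = a * c := by
    intro c hc a ha
    have := commutator_le_ker_commHom a (hA2 ha) hc
    exact (mem_ker_commHom a (hA2 ha) c).1 this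
  have hXA : ∀ x ∈ X, ∀ a ∈ A, x * a = a * x := fun x hx a ha => hcomm x (hX hx) a ha
  have hXe : Cfsg.IsElementaryAbelian p X := isElementaryAbelian_of_card_prime hXc
  have hXX : X ≤ centralizer (X : Set P) := by
    intro x hx
    rw [mem_centralizer_iff]
    intro y hy
    have := hXe.1.is_comm.comm (⟨y, hy⟩ : X) ⟨x, hx⟩
    exact congrArg Subtype.val this
  by_cases hXleA : X ≤ A
  · -- `X ≤ A`
    obtain ⟨⟨x, hxX⟩, hgen⟩ := (isCyclic_of_prime_card hXc).exists_generator
    have hXz : X = zpowers x := by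
      ext y
      constructor
      · intro hy
        obtain ⟨k, hk⟩ := mem_zpowers_iff.1 (hgen ⟨y, hy⟩)
        have := congrArg Subtype.val hk
        rw [mem_zpowers_iff]
        exact ⟨k, by simpa using this⟩
      · intro hy
        exact (zpowers_le.2 hxX) hy
    have hxA : x ∈ A := hXleA hxX
    set ψ := commHom x (hA2 hxA) with hψ
    have hker : ψ.ker ⊓ F = F ⊓ centralizer (X : Set P) := by
      ext g
      rw [mem_inf, mem_inf, mem_ker_commHom, hXz, Cfsg.Agent.Helper4.BG10.centralizer_zpowers_eq,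
        mem_centralizer_iff]
      constructor
      · rintro ⟨h1, h2⟩
        refine ⟨h2, ?_⟩
        intro y hy
        rw [Set.mem_singleton_iff] at hy
        rw [hy]; exact h1.symm
      · rintro ⟨h1, h2⟩
        exact ⟨(h2 x rfl).symm, h1⟩
    have hcardF := Cfsg.Agent.Helper5.FrobMod.card_map_mul_card_ker_inf ψ F
    rw [hker] at hcardF
    -- the image is small
    set C : Subgroup P := ⁅A, (⊤ : Subgroup P)⁆ with hC
    haveI : Group.IsNilpotent P := hP.isNilpotent
    have hAne : A ≠ ⊥ := by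
      intro h
      rw [h, card_bot] at hAcard
      have : 1 < p ^ 2 := Nat.one_lt_pow (by norm_num) hp.one_lt
      omega
    have hCA : C ≤ A := commutator_le_left A ⊤
    have hCne : C ≠ A := Cfsg.Agent.S1453.commutator_top_ne_self A hAne
    have hCcard : Nat.card C ≤ p := by
      have hdvd : Nat.card C ∣ p ^ 2 := hAcard ▸ card_dvd_of_le hCA
      obtain ⟨i, hi, hci⟩ := (Nat.dvd_prime_pow hp).mp hdvd
      have hi2 : i ≠ 2 := by
        rintro rfl
        exact hCne (eq_of_le_of_card_ge hCA (by rw [hci, hAcard]))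
      rw [hci]
      have hi1 : i ≤ 1 := by omega
      calc p ^ i ≤ p ^ 1 := Nat.pow_le_pow_right hp.pos hi1
        _ = p := pow_one p
    have himg : (F.map ψ).map (center P).subtype ≤ C := by
      rintro _ ⟨_, ⟨g, _, rfl⟩, rfl⟩
      show ((ψ g : center P) : P) ∈ C
      rw [hψ, commHom_apply, ← commutatorElement_inv]
      exact C.inv_mem (commutator_mem_commutator hxA (mem_top g))
    have himgcard : Nat.card ↥(F.map ψ) ≤ p := by
      rw [← Cfsg.Agent.Helper14.card_map_subtype]
      exact (Subgroup.card_le_of_le himg).trans hCcard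
    set F1 : Subgroup P := F ⊓ centralizer (X : Set P) with hF1
    have hF1card : p ^ 2 ≤ Nat.card F1 := by
      have h1 : p ^ 3 ≤ p * Nat.card F1 := by
        calc p ^ 3 ≤ Nat.card F := hF3
          _ = Nat.card ↥(F.map ψ) * Nat.card F1 := hcardF.symm
          _ ≤ p * Nat.card F1 := Nat.mul_le_mul_right _ himgcard
      have h2 : p ^ 3 = p * p ^ 2 := by ring
      rw [h2] at h1
      exact Nat.le_of_mul_le_mul_left h1 hp.pos
    by_cases hXF : X ≤ F
    · refine ⟨F, ?_, hFe, hF3⟩
      intro f hf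
      rw [mem_centralizer_iff]
      intro y hy
      have := hFe.1.is_comm.comm (⟨y, hXF hy⟩ : F) ⟨f, hf⟩
      exact congrArg Subtype.val this
    · have hF1e : Cfsg.IsElementaryAbelian p F1 :=
        Cfsg.Agent.Helper26.isElementaryAbelian_of_le hFe inf_le_left
      have hcomm1 : ∀ a ∈ F1, ∀ b ∈ X, a * b = b * a := by
        intro a ha b hb
        exact ((mem_centralizer_iff.1 ha.2) b hb).symm
      refine ⟨F1 ⊔ X, sup_le inf_le_right hXX,
        Cfsg.Agent.Helper26.isElementaryAbelian_sup hF1e hXe hcomm1, ?_⟩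
      have hXF1 : ¬ X ≤ F1 := fun h => hXF (h.trans inf_le_left)
      have hinf : F1 ⊓ X = ⊥ := by rw [inf_comm]; exact inf_eq_bot_of_card_prime hXc hXF1
      have hXN : X ≤ normalizer (F1 : Set P) := by
        intro x' hx'
        rw [mem_normalizer_iff]
        intro y
        constructor
        · intro hy
          have : x' * y * x'⁻¹ = y := by
            rw [← hcomm1 y hy x' hx']; group
          rw [this]; exact hy
        · intro hy
          have h3 : x'⁻¹ * (x' * y * x'⁻¹) * x' = y := by group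
          have h4 : x'⁻¹ * (x' * y * x'⁻¹) * x' = x' * y * x'⁻¹ := by
            rw [mul_assoc, hcomm1 _ hy x' hx']; group
          rw [← h3, h4]; exact hy
      have h5 := Cfsg.Agent.Helper17.card_sup_mul_card_inf F1 X hXN
      rw [hinf, card_bot, mul_one, hXc] at h5
      rw [h5]
      calc p ^ 3 = p ^ 2 * p := by ring
        _ ≤ Nat.card F1 * p := Nat.mul_le_mul_right _ hF1card
  · -- `X ≰ A`
    have hcomm2 : ∀ a ∈ X, ∀ b ∈ A, a * b = b * a := hXA
    refine ⟨X ⊔ A, sup_le hXX ?_, Cfsg.Agent.Helper26.isElementaryAbelian_sup hXe hAe hcomm2, ?_⟩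
    · intro a ha
      rw [mem_centralizer_iff]
      intro y hy
      exact hXA y hy a ha
    · have hinf : X ⊓ A = ⊥ := inf_eq_bot_of_card_prime hXc hXleA
      have hAN : A ≤ normalizer (X : Set P) := by
        intro a ha
        rw [mem_normalizer_iff]
        intro y
        constructor
        · intro hy
          have : a * y * a⁻¹ = y := by
            rw [← hXA y hy a ha]; group
          rw [this]; exact hy
        · intro hy
          have h3 : a⁻¹ * (a * y * a⁻¹) * a = y := by group
          have h4 : a⁻¹ * (a * y * a⁻¹) * a = a * y * a⁻¹ := by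
            have := hXA _ hy a ha
            rw [mul_assoc, this]; group
          rw [← h3, h4]; exact hy
      have h5 := Cfsg.Agent.Helper17.card_sup_mul_card_inf X A hAN
      rw [hinf, card_bot, mul_one, hXc, hAcard] at h5
      rw [h5]
      exact le_of_eq (by ring)

end typeLevel

/-- **PG1**: in a `p`-group `R` (`p` odd) of rank at least `3`, every subgroup `X ≤ R'` of order
`p` centralizes an elementary abelian subgroup of `R` of order at least `p ^ 3`. -/
theorem exists_elemAb_cube_le_centralizer {G : Type u} [Group G] [Finite G] {p : ℕ}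
    [Fact p.Prime] (hp2 : p ≠ 2) {R X : Subgroup G} (hR : IsPGroup p R)
    (hr : ¬ Cfsg.PRankLE p 2 R) (hXR : X ≤ ⁅R, R⁆) (hXc : Nat.card X = p) :
    ∃ B : Subgroup G, B ≤ R ∧ B ≤ Subgroup.centralizer (X : Set G) ∧
      Cfsg.IsElementaryAbelian p B ∧ p ^ 3 ≤ Nat.card B := by
  have hXleR : X ≤ R := hXR.trans (commutator_le.2 fun a ha b hb =>
    R.mul_mem (R.mul_mem (R.mul_mem ha hb) (R.inv_mem ha)) (R.inv_mem hb))
  have hX' : X.subgroupOf R ≤ commutator ↥R := by
    intro x hx
    rw [mem_subgroupOf] at hx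
    have h1 := hXR hx
    rw [← Subgroup.map_subtype_commutator] at h1
    obtain ⟨y, hy, hyx⟩ := h1
    have : y = x := Subtype.ext hyx
    rw [← this]; exact hy
  have hXc' : Nat.card ↥(X.subgroupOf R) = p := by
    rw [← hXc]
    exact Nat.card_congr (Subgroup.subgroupOfEquivOfLe hXleR).toEquiv
  obtain ⟨B', hB'c, hB'e, hB'card⟩ :=
    exists_elemAb_cube_type hp2 hR hr (X.subgroupOf R) hX' hXc'
  refine ⟨B'.map R.subtype, Cfsg.Agent.Helper14.map_subtype_le B', ?_,
    Cfsg.Agent.Helper26.isElementaryAbelian_map R.subtype hB'e, ?_⟩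
  · rintro _ ⟨b, hb, rfl⟩
    rw [mem_centralizer_iff]
    intro x hx
    have h1 := (mem_centralizer_iff.1 (hB'c hb)) ⟨x, hXleR hx⟩ (mem_subgroupOf.2 hx)
    exact congrArg Subtype.val h1
  · rw [Cfsg.Agent.Helper14.card_map_subtype]; exact hB'card

end Cfsg.Agent.Helper4.BG12PG
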