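import Mathlib
import Cfsg.Agent.Helper4.BG12SD
import Cfsg.Agent.Helper21.BG13c
import Cfsg.Agent.Helper16.BG11e
import Cfsg.Agent.Helper10.BG16A
import Cfsg.Agent.Lead.GenCent

/-!
# B&G Proposition 12.15, part (e2) and Corollary E

Setting: `M`, `L` maximal, `L ≠ M`, `q ∈ σ(M)`, `1 ≠ X ≤ M` a `q`-group with `N_G(X) ≤ L`.

* `lem_12_15_e2`: if `q ∉ σ(L)` then `π(M) ∩ σ(L) ⊆ β(L)`.
* `cor_12_15_E`: for every prime `s ∣ |M|`: `s ∈ β(L)`, or a Sylow `s`-subgroup of `L` lies in `M`.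
-/

set_option autoImplicit false
set_option linter.unusedSectionVars false
set_option linter.unusedVariables false
set_option linter.style.haveILetI false

namespace Cfsg.Agent.Helper4.BG12E

open Subgroup Cfsg
open Cfsg.Agent.Helper14 (IsSylowIn cj exists_isSylowIn_ge exists_isSylowIn)
open Cfsg.Agent.H9.BG12 (NC1210)
open Cfsg.Agent.Helper16.BG11 (Kq Kq_le le_normalizer_Kq card_Kq_coprime)

universe u
variable {G : Type u} [Group G] [Finite G]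

/-- B&G 12.10(c) (third clause of S1420) -/
theorem nc1210 (hG : Cfsg.IsMinSimpleOddOrder G) : NC1210 G := by
  intro M hM p P hp hP hPM hnc
  obtain ⟨E, hE⟩ :=
    Cfsg.Agent.H9.BG12.exists_complIn_sigmaCore (Cfsg.Agent.Helper21.BG12.st1350 hG) hM
  exact (Cfsg.Agent.S1420.result hG M hM E hE).2.2.1 p P hp hP hPM hnc

/-- `s`-subgroups of `M` lie in `O_{q'}(M)` when `s ∤ |M : O_{q'}(M)|` -/
theorem le_Kq_of_not_dvd {M X : Subgroup G} {q s : ℕ} [Fact s.Prime]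
    (hnd : ¬ s ∣ (Cfsg.pPrimeCore q ↥M).index) (hX : IsPGroup s X) (hXM : X ≤ M) :
    X ≤ Kq M q := by
  have h1 : X.subgroupOf M ≤ Cfsg.pPrimeCore q ↥M :=
    Cfsg.Agent.Helper16.BG12.le_of_normal_of_not_dvd_index _ hnd _ hX.comap_subtype
  intro x hx
  exact ⟨⟨x, hXM hx⟩, h1 (mem_subgroupOf.mpr hx), rfl⟩

theorem relIndex_Kq (M : Subgroup G) (q : ℕ) :
    (Kq M q).relIndex M = (Cfsg.pPrimeCore q ↥M).index := by
  unfold Kq Subgroup.relIndex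
  rw [Cfsg.Agent.Helper14.subgroupOf_map_subtype']

theorem dvd_card_sigmaCore (hG : Cfsg.IsMinSimpleOddOrder G) {L : Subgroup G} (hL : IsCoatom L)
    {s : ℕ} (hsL : s ∈ Cfsg.sigma L) : s ∣ Nat.card (Cfsg.sigmaCore L) := by
  obtain ⟨hle, -, hidx⟩ := (Cfsg.Agent.S1350.result hG L hL).1
  have h1 : (Cfsg.sigmaCore L).relIndex L * Nat.card (Cfsg.sigmaCore L) = Nat.card L :=
    Cfsg.Agent.Lead.relIndex_mul_card' hle
  have h2 : s ∣ (Cfsg.sigmaCore L).relIndex L * Nat.card (Cfsg.sigmaCore L) := h1 ▸ hsL.2.1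
  exact ((Nat.Prime.dvd_mul hsL.1).mp h2).resolve_left (hidx s hsL.1 hsL)

/-- if `A` normalizes `T`, `T` normalizes `N ≥ A` and `T ∩ N = 1`, then `T` centralizes `A` -/
theorem le_centralizer_of_inf_eq_bot {A T N : Subgroup G} (hAT : A ≤ normalizer (T : Set G))
    (hTN : T ≤ normalizer (N : Set G)) (hAN : A ≤ N) (hdisj : T ⊓ N = ⊥) :
    T ≤ centralizer (A : Set G) := by
  intro t ht
  rw [mem_centralizer_iff]
  intro a ha
  have h1 : a * t * a⁻¹ * t⁻¹ ∈ T :=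
    mul_mem ((mem_normalizer_iff.mp (hAT ha) t).mp ht) (inv_mem ht)
  have h2 : a * t * a⁻¹ * t⁻¹ ∈ N := by
    have h3 : t * a⁻¹ * t⁻¹ ∈ N := (mem_normalizer_iff.mp (hTN ht) a⁻¹).mp (inv_mem (hAN ha))
    have h4 := mul_mem (hAN ha) h3
    have h5 : a * (t * a⁻¹ * t⁻¹) = a * t * a⁻¹ * t⁻¹ := by group
    rwa [h5] at h4
  have h3 : a * t * a⁻¹ * t⁻¹ ∈ T ⊓ N := Subgroup.mem_inf.mpr ⟨h1, h2⟩
  rw [hdisj, Subgroup.mem_bot] at h3
  calc a * t = (a * t * a⁻¹ * t⁻¹) * (t * a) := by group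
    _ = t * a := by rw [h3, one_mul]

/-- **B&G 12.15 (e2)**. -/
theorem lem_12_15_e2 (hG : Cfsg.IsMinSimpleOddOrder G) {M L : Subgroup G} (hM : IsCoatom M)
    (hL : IsCoatom L) (hLM : L ≠ M) {q : ℕ} [Fact q.Prime] (hqM : q ∈ Cfsg.sigma M)
    {X : Subgroup G} (hXq : IsPGroup q X) (hX1 : X ≠ ⊥) (hXM : X ≤ M)
    (hNX : normalizer (X : Set G) ≤ L) (hqL : q ∉ Cfsg.sigma L) {s : ℕ} (hs : s.Prime)
    (hsM : s ∣ Nat.card M) (hsL : s ∈ Cfsg.sigma L) : s ∈ Cfsg.beta L := by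
  by_contra hsβ
  haveI : Fact s.Prime := ⟨hs⟩
  have hq : q.Prime := Fact.out
  have h1350 := Cfsg.Agent.Helper21.BG12.st1350 hG
  have hXL : X ≤ L := le_normalizer.trans hNX
  obtain ⟨S, hS, hXS⟩ := exists_isSylowIn_ge (le_inf hXM hXL) hXq
  obtain ⟨hnc, hNS, hSL⟩ := Cfsg.Agent.H9.BG12.lem_12_15 (Cfsg.Agent.Helper21.BG12.ctl hG)
    (nc1210 hG) hM hqM hXq hX1 hXM hL hLM hNX hS hXS
  obtain ⟨hτ, hE, A, hAS, hAe, hAc⟩ := Cfsg.Agent.Helper21.BG12.lem_12_15_e13 hG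
    (Cfsg.Agent.Helper21.BG13.st1417 hG) (Cfsg.Agent.Helper21.BG13.st1418 hG) (nc1210 hG)
    hM hL hLM hqM hXq hX1 hXM hNX hS hXS hqL
  have hAML : A ≤ M ⊓ L := hAS.trans hS.1
  have hAM : A ≤ M := hAML.trans inf_le_left
  have hAL : A ≤ L := hAML.trans inf_le_right
  have hAq : IsPGroup q A := Cfsg.Agent.Helper4.BG10.isPGroup_of_elementary hAe
  have h17 := Cfsg.Agent.S1417.result hG L hL q hτ A ⟨hAL, hAe, hAc⟩
  have hnil : Group.IsNilpotent ↥(Cfsg.sigmaCore L) := h17.1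
  have hCA : Cfsg.sigmaCore L ⊓ centralizer (A : Set G) = ⊥ := h17.2.2.2.1
  have h18 := Cfsg.Agent.S1418.result hG L hL (M ⊓ L) hE q hτ A ⟨hAML, hAe, hAc⟩
  have hCAE : centralizer (A : Set G) ≤ M ⊓ L := by
    have h1 := h18.2.1.1
    rw [h18.2.1.2.1] at h1
    exact h1
  have hσL : Cfsg.sigmaCore L ≤ L := Cfsg.Agent.H9.BG12.sigmaCore_le L
  have hσne : Cfsg.sigmaCore L ≠ ⊥ :=
    Cfsg.Agent.Helper10.BG16.sigmaCore_ne_bot hG h1350 (Cfsg.Agent.Helper21.BG12.uniq96 hG) hL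
  have hMLσ : (M ⊓ L) ⊓ Cfsg.sigmaCore L = ⊥ := hE.2.2.1
  have hσM : Cfsg.sigmaCore L ⊓ M = ⊥ := by
    apply le_bot_iff.mp
    rw [← hMLσ]
    intro x hx
    obtain ⟨hx1, hx2⟩ := Subgroup.mem_inf.mp hx
    exact Subgroup.mem_inf.mpr ⟨Subgroup.mem_inf.mpr ⟨hx2, hσL hx1⟩, hx1⟩
  have hqσL : ¬ q ∣ Nat.card (Cfsg.sigmaCore L) := fun hd =>
    hqL (Cfsg.Agent.H9.BG12.mem_sigma_of_dvd_card_sigmaCore hq hd)
  -- (1) `q ∉ β(M)`
  have hqβ : q ∉ Cfsg.beta M := by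
    intro hqβ
    apply hσne
    haveI : IsMulCommutative ↥A := hAe.1
    have hcop : (Nat.card A).Coprime (Nat.card (Cfsg.sigmaCore L)) := by
      rw [hAc]
      exact Nat.Coprime.pow_left 2 ((Nat.Prime.coprime_iff_not_dvd hq).mpr hqσL)
    have hgen := Cfsg.Agent.Lead.generated_by_centralizers A (Cfsg.sigmaCore L)
      (Cfsg.Agent.Lead.BG9.not_isCyclic_of_sq_le hAe hAc.ge)
      (hAL.trans (Cfsg.Agent.H9.BG12.le_normalizer_sigmaCore L)) hcop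
    rw [← hgen]
    apply le_bot_iff.mp
    apply iSup₂_le
    rintro a ⟨haA, ha1⟩
    have hcard : Nat.card (zpowers a) = q := by
      rw [Nat.card_zpowers]; exact orderOf_eq_prime (hAe.2 a haA) ha1
    obtain ⟨P⟩ : Nonempty (Sylow q ↥(Cfsg.sigmaCore M)) := inferInstance
    have h23 := (Cfsg.Agent.S1423.result hG M hM q hqM (zpowers a)
      (zpowers_le.mpr (hAM haA)) hcard P (Or.inl hqβ)).1.1
    intro x hx
    obtain ⟨hxσ, hxc⟩ := Subgroup.mem_inf.mp hx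
    have hxM : x ∈ M := by
      apply h23
      rw [zpowers_eq_closure, centralizer_closure]
      exact hxc
    have h2 : x ∈ Cfsg.sigmaCore L ⊓ M := Subgroup.mem_inf.mpr ⟨hxσ, hxM⟩
    rwa [hσM] at h2
  -- (2) `q < s`
  have hqs_ne : q ≠ s := fun h => hqL (h ▸ hsL)
  have h14L := (Cfsg.Agent.S1414.result hG L hL).2.2.2.2 s hs hsL.2.1 hsβ
  have hqs : q < s := by
    by_contra hnlt
    have hnd : ¬ q ∣ (Cfsg.pPrimeCore s ↥L).index := fun hd =>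
      hnlt (lt_of_le_of_ne (h14L.2.2 q hq hd) hqs_ne)
    have hAO : A ≤ Kq L s := le_Kq_of_not_dvd hnd hAq hAL
    obtain ⟨T, hT⟩ := exists_isSylowIn (p := s) (Cfsg.sigmaCore L)
    have hTne : T ≠ ⊥ :=
      Cfsg.Agent.Helper16.BG11.IsSylowIn.ne_bot_of_dvd hT (dvd_card_sigmaCore hG hL hsL)
    have hLT : L ≤ normalizer (T : Set G) :=
      (Cfsg.Agent.H9.BG12.le_normalizer_sigmaCore L).trans
        (Cfsg.Agent.Helper4.BG12SD.normalizer_le_normalizer_of_nilpotent_sylow hnil hT)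
    have hTL : T ≤ L := hT.1.trans hσL
    have hTO : T ⊓ Kq L s = ⊥ := by
      apply Subgroup.inf_eq_bot_of_coprime
      obtain ⟨k, hk⟩ := IsPGroup.iff_card.mp hT.2.1
      rw [hk]
      exact Nat.Coprime.pow_left k (card_Kq_coprime L s).symm
    have hTA : T ≤ centralizer (A : Set G) :=
      le_centralizer_of_inf_eq_bot (hAL.trans hLT) (hTL.trans (le_normalizer_Kq L s)) hAO hTO
    have h3 : T ≤ Cfsg.sigmaCore L ⊓ centralizer (A : Set G) := le_inf hT.1 hTA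
    rw [hCA] at h3
    exact hTne (le_bot_iff.mp h3)
  -- (3),(4)
  have hsσM : s ∉ Cfsg.sigma M := fun h =>
    Cfsg.Agent.Helper4.BG12SD.sigma_disjoint_of_nilpotent hG hM hL hnc hnil hsL h
  have h14M := (Cfsg.Agent.S1414.result hG M hM).2.2.2.2 q hq hqM.2.1 hqβ
  have hnds : ¬ s ∣ (Cfsg.pPrimeCore q ↥M).index := fun hd =>
    absurd (h14M.2.2 s hs hd) (not_le.mpr hqs)
  have hAW : A ≤ normalizer ((Kq M q : Subgroup G) : Set G) := hAM.trans (le_normalizer_Kq M q)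
  have hcopAW : (Nat.card A).Coprime (Nat.card (Kq M q)) := by
    rw [hAc]
    exact Nat.Coprime.pow_left 2 (card_Kq_coprime M q).symm
  have hMsolv : Group.IsSolvable ↥M := hG.2.2.2 M hM.1
  have hAsolv : Group.IsSolvable ↥A :=
    Group.isSolvable_of_isSolvable_injective (Subgroup.inclusion_injective hAM)
  obtain ⟨S', hS', hAS'⟩ := Cfsg.Agent.Helper16.BG11.exists_invariant_sylow A (Kq M q) hAW hcopAW
    (Or.inl hAsolv) s
  have hS'M : IsSylowIn s S' M :=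
    Cfsg.Agent.Helper10.BG16.isSylowIn_of_not_dvd_relIndex' hS' (Kq_le M q)
      (by rw [relIndex_Kq]; exact hnds)
  have hS'ne : S' ≠ ⊥ := Cfsg.Agent.Helper16.BG11.IsSylowIn.ne_bot_of_dvd hS'M hsM
  have hS'σ : S' ⊓ Cfsg.sigmaCore M = ⊥ := by
    apply Subgroup.inf_eq_bot_of_coprime
    obtain ⟨k, hk⟩ := IsPGroup.iff_card.mp hS'.2.1
    rw [hk]
    apply Nat.Coprime.pow_left k
    exact (Nat.Prime.coprime_iff_not_dvd hs).mpr (fun hd =>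
      hsσM (Cfsg.Agent.H9.BG12.mem_sigma_of_dvd_card_sigmaCore hs hd))
  have hAσ : A ≤ Cfsg.sigmaCore M :=
    Cfsg.Agent.H9.BG12.le_sigmaCore_of_isPGroup h1350 hM hqM hAM hAq
  have hS'A : S' ≤ centralizer (A : Set G) :=
    le_centralizer_of_inf_eq_bot hAS'
      (hS'M.1.trans (Cfsg.Agent.H9.BG12.le_normalizer_sigmaCore M)) hAσ hS'σ
  have hS'E : S' ≤ M ⊓ L := hS'A.trans hCAE
  have hS'σL : S' ≤ Cfsg.sigmaCore L :=
    Cfsg.Agent.H9.BG12.le_sigmaCore_of_isPGroup h1350 hL hsL (hS'E.trans inf_le_right) hS'.2.1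
  have h4 : S' ≤ (M ⊓ L) ⊓ Cfsg.sigmaCore L := le_inf hS'E hS'σL
  rw [hMLσ] at h4
  exact hS'ne (le_bot_iff.mp h4)

/-- **Corollary E of B&G 12.15**. -/
theorem cor_12_15_E (hG : Cfsg.IsMinSimpleOddOrder G) {M L : Subgroup G} (hM : IsCoatom M)
    (hL : IsCoatom L) (hLM : L ≠ M) {q : ℕ} [Fact q.Prime] (hqM : q ∈ Cfsg.sigma M)
    {X : Subgroup G} (hXq : IsPGroup q X) (hX1 : X ≠ ⊥) (hXM : X ≤ M)
    (hNX : normalizer (X : Set G) ≤ L) {s : ℕ} (hs : s.Prime) (hsM : s ∣ Nat.card M) :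
    s ∈ Cfsg.beta L ∨ ∃ T : Subgroup G, IsSylowIn s T L ∧ T ≤ M := by
  haveI : Fact s.Prime := ⟨hs⟩
  by_cases hsβ : s ∈ Cfsg.beta L
  · exact Or.inl hsβ
  right
  suffices hnd : ¬ s ∣ (M ⊓ L).relIndex L by
    obtain ⟨T, hT⟩ := exists_isSylowIn (p := s) (M ⊓ L)
    exact ⟨T, Cfsg.Agent.Helper10.BG16.isSylowIn_of_not_dvd_relIndex' hT inf_le_right hnd,
      hT.1.trans inf_le_left⟩
  have h1350 := Cfsg.Agent.Helper21.BG12.st1350 hG
  have hXL : X ≤ L := le_normalizer.trans hNX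
  obtain ⟨S, hS, hXS⟩ := exists_isSylowIn_ge (le_inf hXM hXL) hXq
  obtain ⟨hnc, hNS, hSL⟩ := Cfsg.Agent.H9.BG12.lem_12_15 (Cfsg.Agent.Helper21.BG12.ctl hG)
    (nc1210 hG) hM hqM hXq hX1 hXM hL hLM hNX hS hXS
  by_cases hqL : q ∈ Cfsg.sigma L
  · have hd1 := Cfsg.Agent.Helper4.BG12SD.lem_12_15_d1 hG hM hL hnc hqM hqL hSL hNS
    set Lβ := Cfsg.piCoreOf (Cfsg.beta L) L with hLβ
    have hβ := (Cfsg.Agent.S1414.result hG L hL).1
    have hβL : Lβ ≤ L := hβ.1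
    have hLN : L ≤ normalizer (Lβ : Set G) :=
      Cfsg.Agent.Lead.TT.le_normalizer_map_subtype_of_normal L _
    have hKN : M ⊓ L ≤ normalizer (Lβ : Set G) := inf_le_right.trans hLN
    have hsup : Lβ ⊔ (M ⊓ L) = L := le_antisymm (sup_le hβL inf_le_right) hd1
    have hcard := Cfsg.Agent.Helper17.card_sup_mul_card_inf Lβ (M ⊓ L) hKN
    rw [hsup] at hcard
    have hrel : (M ⊓ L).relIndex L * Nat.card ↥(M ⊓ L) = Nat.card L :=
      Cfsg.Agent.Lead.relIndex_mul_card' inf_le_right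
    have hkey : (M ⊓ L).relIndex L * Nat.card ↥(Lβ ⊓ (M ⊓ L)) = Nat.card Lβ := by
      have hpos : 0 < Nat.card ↥(M ⊓ L) := Nat.card_pos
      apply Nat.eq_of_mul_eq_mul_right hpos
      calc (M ⊓ L).relIndex L * Nat.card ↥(Lβ ⊓ (M ⊓ L)) * Nat.card ↥(M ⊓ L)
          = ((M ⊓ L).relIndex L * Nat.card ↥(M ⊓ L)) * Nat.card ↥(Lβ ⊓ (M ⊓ L)) := by ring
        _ = Nat.card L * Nat.card ↥(Lβ ⊓ (M ⊓ L)) := by rw [hrel]
        _ = Nat.card Lβ * Nat.card ↥(M ⊓ L) := hcard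
    intro hd
    have h2 : s ∣ Nat.card Lβ := hkey ▸ (Dvd.dvd.mul_right hd _)
    exact hsβ (hβ.2.1 s hs h2)
  · obtain ⟨-, hE, -⟩ := Cfsg.Agent.Helper21.BG12.lem_12_15_e13 hG
      (Cfsg.Agent.Helper21.BG13.st1417 hG) (Cfsg.Agent.Helper21.BG13.st1418 hG) (nc1210 hG)
      hM hL hLM hqM hXq hX1 hXM hNX hS hXS hqL
    by_cases hsL : s ∈ Cfsg.sigma L
    · exact absurd (lem_12_15_e2 hG hM hL hLM hqM hXq hX1 hXM hNX hqL hs hsM hsL) hsβ
    · exact (Cfsg.Agent.H9.BG12.isPiHallOf_compl h1350 hL hE).2.2 s hs hsL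

end Cfsg.Agent.Helper4.BG12E
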