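import Mathlib
import Cfsg.Prelude.Def_RootSubgroups

set_option autoImplicit false

/-! # S5033 (Timmesfeld's quasisimplicity criterion): the standing hypotheses. -/

namespace Cfsg.Agent.S5033P

open Cfsg

variable {G : Type*} [Group G]

/-- The standing hypotheses of S5033 on a set `S` of subgroups of `G`. -/
structure Hyp (S : Set (Subgroup G)) : Prop where
  hS : Cfsg.IsRootSubgroupSet S
  h2 : ∃ A ∈ S, ∃ B ∈ S, A ≠ B
  h1 : Cfsg.IsConnectedFamily (Cfsg.FAdj S) S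
  h2' : ∀ A ∈ S, ∀ C ∈ S, A ≠ C → Cfsg.centralizingMembers S A ≠ Cfsg.centralizingMembers S C
  h3 : Cfsg.IsDegenerateRootSet S → ∀ A ∈ S, 3 < ENat.card A
  h4 : ∀ A ∈ S, ∀ B ∈ Cfsg.rankOnePartners S A, Cfsg.IsSpecialRankOnePair A B

end Cfsg.Agent.S5033P
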