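import Mathlib
import Cfsg.Agent.Helper25.QPDefs2
import Cfsg.Agent.Helper25.QPAct
import Cfsg.Agent.Helper23.QPTRANS

set_option autoImplicit false

/-! Board `qppieces`, piece ROOT: the API of the root subgroups `E(σ)` of a quadratic pair. -/

noncomputable section

universe u v

namespace Cfsg.Agent.QPP

open Cfsg Cfsg.Agent.Helper25.QP Cfsg.Agent.Helper25.QuadPair Polynomial

variable {k : Type u} [Field k] {M : Type v} [AddCommGroup M] [Module k M]

local notation "GLkM" => LinearMap.GeneralLinearGroup k M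

section root
variable [FiniteDimensional k M] {G : Subgroup (LinearMap.GeneralLinearGroup k M)}
  {σ τ : LinearMap.GeneralLinearGroup k M}

theorem ROOT_mem (hσ : σ ∈ minimalQuadraticElements G) (e : GLkM) :
    e ∈ sameActionSubgroup G σ ↔ e = 1 ∨ e ∈ sameActionClass G σ := by
  rw [sameActionSubgroup_eq hσ]
  constructor
  · rintro (h | h)
    · exact Or.inr h
    · exact Or.inl (Set.mem_singleton_iff.1 h)
  · rintro (h | h)
    · exact Or.inr (Set.mem_singleton_iff.2 h)
    · exact Or.inl h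

theorem ROOT_self (hσ : σ ∈ minimalQuadraticElements G) : σ ∈ sameActionSubgroup G σ ∧ σ ≠ 1 := by
  refine ⟨(ROOT_mem hσ σ).2 (Or.inr ⟨hσ, rfl, rfl⟩), ?_⟩
  intro h1
  apply hσ.1.2.1.2
  rw [h1, Units.val_one, sub_self]

theorem ROOT_Qd (hσ : σ ∈ minimalQuadraticElements G) {e : GLkM}
    (he : e ∈ sameActionSubgroup G σ) (h1 : e ≠ 1) :
    Qd G (commutatorRank σ) ((e : Module.End k M) - 1) ∧
      LinearMap.ker ((e : Module.End k M) - 1) = LinearMap.ker ((σ : Module.End k M) - 1) ∧
      LinearMap.range ((e : Module.End k M) - 1) = LinearMap.range ((σ : Module.End k M) - 1) := by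
  rcases (ROOT_mem hσ e).1 he with h | h
  · exact absurd h h1
  · refine ⟨?_, h.2.1, h.2.2⟩
    rw [TRANS_rank hσ h.1]
    exact (TRANS_Qd h.1).2

theorem ROOT_of (hσ : σ ∈ minimalQuadraticElements G) {x : Module.End k M} (hx : QFam G x)
    (hx0 : x ≠ 0) (hk : LinearMap.ker x = LinearMap.ker ((σ : Module.End k M) - 1))
    (hr : LinearMap.range x = LinearMap.range ((σ : Module.End k M) - 1)) :
    ∃ e ∈ sameActionSubgroup G σ, e ≠ 1 ∧ (e : Module.End k M) = 1 + x := by
  have hval : ((unipUnit x hx.1 : GLkM) : Module.End k M) - 1 = x := by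
    rw [val_unipUnit]; abel
  have hval' : (((unipUnit x hx.1 : GLkM) : M →ₗ[k] M) - 1) = x := hval
  have hQ := QFam.mem_quadraticElements hx hx0
  have hrk : commutatorRank (unipUnit x hx.1 : GLkM) = commutatorRank σ := by
    unfold commutatorRank
    rw [hval']
    exact congrArg (fun W : Submodule k M => Module.finrank k W) hr
  have hmin : (unipUnit x hx.1 : GLkM) ∈ minimalQuadraticElements G := by
    refine ⟨hQ, fun ρ hρ => ?_⟩
    rw [hrk]
    exact hσ.2 ρ hρ
  refine ⟨unipUnit x hx.1, (ROOT_mem hσ _).2 (Or.inr ⟨hmin, ?_, ?_⟩), ?_, val_unipUnit x hx.1⟩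
  · rw [hval']; exact hk
  · rw [hval']; exact hr
  · intro h1
    apply hx0
    rw [← hval, h1, Units.val_one, sub_self]

theorem ROOT_sq (hσ : σ ∈ minimalQuadraticElements G) {e f : GLkM}
    (he : e ∈ sameActionSubgroup G σ) (hf : f ∈ sameActionSubgroup G σ) :
    ((e : Module.End k M) - 1) * ((f : Module.End k M) - 1) = 0 := by
  rcases (ROOT_mem hσ e).1 he with h | h
  · rw [h, Units.val_one, sub_self, zero_mul]
  rcases (ROOT_mem hσ f).1 hf with h' | h'
  · rw [h', Units.val_one, sub_self, mul_zero]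
  exact mul_eq_zero_of_mem hσ h h'

theorem ROOT_comm (hσ : σ ∈ minimalQuadraticElements G) {e f : GLkM}
    (he : e ∈ sameActionSubgroup G σ) (hf : f ∈ sameActionSubgroup G σ) : e * f = f * e := by
  rcases (ROOT_mem hσ e).1 he with h | h
  · rw [h, one_mul, mul_one]
  rcases (ROOT_mem hσ f).1 hf with h' | h'
  · rw [h', one_mul, mul_one]
  exact commute_of_mem hσ h h'

theorem ROOT_div (hσ : σ ∈ minimalQuadraticElements G) {e f : GLkM}
    (he : e ∈ sameActionSubgroup G σ) (hf : f ∈ sameActionSubgroup G σ) :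
    ((e * f⁻¹ : GLkM) : Module.End k M) - 1
      = ((e : Module.End k M) - 1) - ((f : Module.End k M) - 1) := by
  have hff := ROOT_sq hσ hf hf
  have hef := ROOT_sq hσ he hf
  rw [Units.val_mul, val_inv_of_sq_zero hff]
  have e1 : (e : Module.End k M) * (1 - ((f : Module.End k M) - 1)) - 1
      = ((e : Module.End k M) - 1) - ((f : Module.End k M) - 1)
        - ((e : Module.End k M) - 1) * ((f : Module.End k M) - 1) := by noncomm_ring
  rw [e1, hef, sub_zero]

/-- conjugation by `g` and the nilpotent parts -/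
theorem ROOT_aux_val (g x : GLkM) :
    ((g * x * g⁻¹ : GLkM) : Module.End k M) - 1
      = (g : Module.End k M) * ((x : Module.End k M) - 1) * ((g⁻¹ : GLkM) : Module.End k M) := by
  have e : (g : Module.End k M) * ((g⁻¹ : GLkM) : Module.End k M) = 1 := by
    rw [← Units.val_mul, mul_inv_cancel, Units.val_one]
  rw [mul_sub, sub_mul, mul_one, e, Units.val_mul, Units.val_mul]

theorem ROOT_aux_gg (g : GLkM) (m : M) :
    (g : Module.End k M) (((g⁻¹ : GLkM) : Module.End k M) m) = m := by
  have e : (g : Module.End k M) * ((g⁻¹ : GLkM) : Module.End k M) = 1 := by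
    rw [← Units.val_mul, mul_inv_cancel, Units.val_one]
  exact LinearMap.congr_fun e m

theorem ROOT_aux_gg' (g : GLkM) (m : M) :
    ((g⁻¹ : GLkM) : Module.End k M) ((g : Module.End k M) m) = m := by
  have e : ((g⁻¹ : GLkM) : Module.End k M) * (g : Module.End k M) = 1 := by
    rw [← Units.val_mul, inv_mul_cancel, Units.val_one]
  exact LinearMap.congr_fun e m

theorem ROOT_aux_mem_ker (g x : GLkM) (m : M) :
    m ∈ LinearMap.ker (((g * x * g⁻¹ : GLkM) : Module.End k M) - 1)
      ↔ ((g⁻¹ : GLkM) : Module.End k M) m ∈ LinearMap.ker ((x : Module.End k M) - 1) := by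
  rw [ROOT_aux_val, LinearMap.mem_ker, LinearMap.mem_ker]
  constructor
  · intro h
    have h2 : ((g⁻¹ : GLkM) : Module.End k M)
        ((g : Module.End k M) (((x : Module.End k M) - 1) (((g⁻¹ : GLkM) : Module.End k M) m)))
          = 0 := by
      have : ((g : Module.End k M) * ((x : Module.End k M) - 1)
          * ((g⁻¹ : GLkM) : Module.End k M)) m
          = (g : Module.End k M) (((x : Module.End k M) - 1)
            (((g⁻¹ : GLkM) : Module.End k M) m)) := rfl
      rw [← this, h, map_zero]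
    rwa [ROOT_aux_gg'] at h2
  · intro h
    show (g : Module.End k M) (((x : Module.End k M) - 1)
            (((g⁻¹ : GLkM) : Module.End k M) m)) = 0
    rw [h, map_zero]

theorem ROOT_aux_mem_range (g x : GLkM) (m : M) :
    m ∈ LinearMap.range (((g * x * g⁻¹ : GLkM) : Module.End k M) - 1)
      ↔ ((g⁻¹ : GLkM) : Module.End k M) m ∈ LinearMap.range ((x : Module.End k M) - 1) := by
  rw [ROOT_aux_val]
  constructor
  · rintro ⟨n, rfl⟩
    refine ⟨((g⁻¹ : GLkM) : Module.End k M) n, ?_⟩
    show _ = ((g⁻¹ : GLkM) : Module.End k M) ((g : Module.End k M) (((x : Module.End k M) - 1)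
            (((g⁻¹ : GLkM) : Module.End k M) n)))
    rw [ROOT_aux_gg']
  · rintro ⟨n, hn⟩
    refine ⟨(g : Module.End k M) n, ?_⟩
    show (g : Module.End k M) (((x : Module.End k M) - 1)
            (((g⁻¹ : GLkM) : Module.End k M) ((g : Module.End k M) n))) = m
    rw [ROOT_aux_gg', hn, ROOT_aux_gg]

theorem ROOT_aux_ker_congr (g x y : GLkM)
    (h : LinearMap.ker ((x : Module.End k M) - 1) = LinearMap.ker ((y : Module.End k M) - 1)) :
    LinearMap.ker (((g * x * g⁻¹ : GLkM) : Module.End k M) - 1)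
      = LinearMap.ker (((g * y * g⁻¹ : GLkM) : Module.End k M) - 1) := by
  ext m
  rw [ROOT_aux_mem_ker, ROOT_aux_mem_ker, h]

theorem ROOT_aux_range_congr (g x y : GLkM)
    (h : LinearMap.range ((x : Module.End k M) - 1) = LinearMap.range ((y : Module.End k M) - 1)) :
    LinearMap.range (((g * x * g⁻¹ : GLkM) : Module.End k M) - 1)
      = LinearMap.range (((g * y * g⁻¹ : GLkM) : Module.End k M) - 1) := by
  ext m
  rw [ROOT_aux_mem_range, ROOT_aux_mem_range, h]

theorem ROOT_aux_rank (g x : GLkM) : commutatorRank (g * x * g⁻¹) = commutatorRank x := by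
  unfold commutatorRank
  have hv : (((g * x * g⁻¹ : GLkM) : M →ₗ[k] M) - 1)
      = (g : Module.End k M) * ((x : Module.End k M) - 1) * ((g⁻¹ : GLkM) : Module.End k M) :=
    ROOT_aux_val g x
  rw [hv]
  have e1 : ((g⁻¹ : GLkM) : Module.End k M) * (g : Module.End k M) = 1 := by
    rw [← Units.val_mul, inv_mul_cancel, Units.val_one]
  have e2 : (g : Module.End k M) * ((g⁻¹ : GLkM) : Module.End k M) = 1 := by
    rw [← Units.val_mul, mul_inv_cancel, Units.val_one]
  exact finrank_range_conj e1 e2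

theorem ROOT_aux_Q {g x : GLkM} (hg : g ∈ G) (hx : x ∈ quadraticElements G) :
    g * x * g⁻¹ ∈ quadraticElements G := by
  have e1 : ((g⁻¹ : GLkM) : Module.End k M) * (g : Module.End k M) = 1 := by
    rw [← Units.val_mul, inv_mul_cancel, Units.val_one]
  have e2 : (g : Module.End k M) * ((g⁻¹ : GLkM) : Module.End k M) = 1 := by
    rw [← Units.val_mul, mul_inv_cancel, Units.val_one]
  have hq : QFam G ((g : Module.End k M) * ((x : Module.End k M) - 1)
      * ((g⁻¹ : GLkM) : Module.End k M)) :=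
    (QFam.of_mem_quadraticElements hx).conj (InG.of_mem (G.inv_mem hg)) e1 e2
  have h0 : (g : Module.End k M) * ((x : Module.End k M) - 1)
      * ((g⁻¹ : GLkM) : Module.End k M) ≠ 0 := by
    intro h
    apply hx.2.1.2
    have : ((x : Module.End k M) - 1)
        = ((g⁻¹ : GLkM) : Module.End k M) * ((g : Module.End k M) * ((x : Module.End k M) - 1)
          * ((g⁻¹ : GLkM) : Module.End k M)) * (g : Module.End k M) := by
      rw [mul_assoc (g : Module.End k M), ← mul_assoc ((g⁻¹ : GLkM) : Module.End k M), e1, one_mul,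
        mul_assoc, e1, mul_one]
    rw [show ((x : M →ₗ[k] M) - 1) = ((x : Module.End k M) - 1) from rfl, this, h, mul_zero,
      zero_mul]
  have hmem := QFam.mem_quadraticElements hq h0
  have heq : unipUnit _ hq.1 = g * x * g⁻¹ := by
    apply Units.ext
    rw [val_unipUnit, ← ROOT_aux_val]
    abel
  rwa [heq] at hmem

theorem ROOT_aux_min {g x : GLkM} (hg : g ∈ G) (hx : x ∈ minimalQuadraticElements G) :
    g * x * g⁻¹ ∈ minimalQuadraticElements G := by
  refine ⟨ROOT_aux_Q hg hx.1, fun ρ hρ => ?_⟩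
  rw [ROOT_aux_rank]
  exact hx.2 ρ hρ

theorem ROOT_aux_class {g x : GLkM} (ρ : GLkM) (hg : g ∈ G) (hx : x ∈ sameActionClass G ρ) :
    g * x * g⁻¹ ∈ sameActionClass G (g * ρ * g⁻¹) :=
  ⟨ROOT_aux_min hg hx.1, ROOT_aux_ker_congr g x ρ hx.2.1, ROOT_aux_range_congr g x ρ hx.2.2⟩

theorem ROOT_conj (hσ : σ ∈ minimalQuadraticElements G) {g : GLkM} (hg : g ∈ G) :
    g * σ * g⁻¹ ∈ minimalQuadraticElements G ∧
      conjBy (sameActionSubgroup G σ) g = sameActionSubgroup G (g * σ * g⁻¹) := by
  refine ⟨ROOT_aux_min hg hσ, ?_⟩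
  unfold sameActionSubgroup
  show (Subgroup.closure (sameActionClass G σ)).map (MulAut.conj g).toMonoidHom = _
  rw [MonoidHom.map_closure]
  congr 1
  ext ρ
  constructor
  · rintro ⟨x, hx, rfl⟩
    exact ROOT_aux_class σ hg hx
  · intro hρ
    have h1 := ROOT_aux_class (g * σ * g⁻¹) (G.inv_mem hg) hρ
    have e : g⁻¹ * (g * σ * g⁻¹) * g⁻¹⁻¹ = σ := by group
    rw [e] at h1
    refine ⟨_, h1, ?_⟩
    show g * (g⁻¹ * ρ * g⁻¹⁻¹) * g⁻¹ = ρ
    group

theorem ROOT_eq (hσ : σ ∈ minimalQuadraticElements G) (hτ : τ ∈ minimalQuadraticElements G)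
    (hk : LinearMap.ker ((σ : Module.End k M) - 1) = LinearMap.ker ((τ : Module.End k M) - 1))
    (hr : LinearMap.range ((σ : Module.End k M) - 1) = LinearMap.range ((τ : Module.End k M) - 1)) :
    sameActionSubgroup G σ = sameActionSubgroup G τ := by
  unfold sameActionSubgroup
  congr 1
  ext ρ
  constructor
  · rintro ⟨h1, h2, h3⟩
    exact ⟨h1, h2.trans hk, h3.trans hr⟩
  · rintro ⟨h1, h2, h3⟩
    exact ⟨h1, h2.trans hk.symm, h3.trans hr.symm⟩

theorem ROOT_le (hσ : σ ∈ minimalQuadraticElements G) : sameActionSubgroup G σ ≤ G := by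
  unfold sameActionSubgroup
  rw [Subgroup.closure_le]
  intro ρ hρ
  exact hρ.1.1.1

end root

end Cfsg.Agent.QPP

end
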