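import Mathlib
import Cfsg.Agent.Helper25.QPSwap
import Cfsg.Agent.Helper18.SL2Ext5
import Cfsg.Agent.Helper7.QPS5060R

set_option autoImplicit false

/-! Board `qppieces`, piece SEC : the section argument (pure algebra). -/

noncomputable section

namespace Cfsg.Agent.QPP

open Cfsg Cfsg.Agent.Helper25.QP Cfsg.Agent.Helper25.QuadPair Polynomial

variable {k : Type*} [Field k]

section secaux

variable {R : Type*} [CommRing R]

local notation "SL2" => Matrix.SpecialLinearGroup (Fin 2)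

theorem SEC_aux_mul_apply (g h : SL2 R) (i j : Fin 2) :
    (g * h) i j = g i 0 * h 0 j + g i 1 * h 1 j := by
  rw [Matrix.SpecialLinearGroup.coe_mul, Matrix.mul_apply, Fin.sum_univ_two]

theorem SEC_aux_inv00 (g : SL2 R) : (g⁻¹) 0 0 = g 1 1 := by
  rw [Matrix.SpecialLinearGroup.coe_inv, Matrix.adjugate_fin_two]; simp

theorem SEC_aux_inv01 (g : SL2 R) : (g⁻¹) 0 1 = - g 0 1 := by
  rw [Matrix.SpecialLinearGroup.coe_inv, Matrix.adjugate_fin_two]; simp

theorem SEC_aux_inv10 (g : SL2 R) : (g⁻¹) 1 0 = - g 1 0 := by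
  rw [Matrix.SpecialLinearGroup.coe_inv, Matrix.adjugate_fin_two]; simp

theorem SEC_aux_inv11 (g : SL2 R) : (g⁻¹) 1 1 = g 0 0 := by
  rw [Matrix.SpecialLinearGroup.coe_inv, Matrix.adjugate_fin_two]; simp

theorem SEC_aux_det (g : SL2 R) : g 0 0 * g 1 1 - g 0 1 * g 1 0 = 1 := by
  have := g.det_coe
  rwa [Matrix.det_fin_two] at this

@[simp] theorem SEC_aux_e12_00 (x : R) : (e12 x) 0 0 = 1 := by simp [e12]
@[simp] theorem SEC_aux_e12_01 (x : R) : (e12 x) 0 1 = x := by simp [e12]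
@[simp] theorem SEC_aux_e12_10 (x : R) : (e12 x) 1 0 = 0 := by simp [e12]
@[simp] theorem SEC_aux_e12_11 (x : R) : (e12 x) 1 1 = 1 := by simp [e12]
@[simp] theorem SEC_aux_e21_00 (x : R) : (e21 x) 0 0 = 1 := by simp [e21]
@[simp] theorem SEC_aux_e21_01 (x : R) : (e21 x) 0 1 = 0 := by simp [e21]
@[simp] theorem SEC_aux_e21_10 (x : R) : (e21 x) 1 0 = x := by simp [e21]
@[simp] theorem SEC_aux_e21_11 (x : R) : (e21 x) 1 1 = 1 := by simp [e21]

theorem SEC_aux_ext {g h : SL2 R} (h00 : g 0 0 = h 0 0) (h01 : g 0 1 = h 0 1)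
    (h10 : g 1 0 = h 1 0) (h11 : g 1 1 = h 1 1) : g = h := by
  apply Matrix.SpecialLinearGroup.ext
  intro i j
  fin_cases i <;> fin_cases j <;> assumption

theorem SEC_aux_e12_add (x y : R) : e12 x * e12 y = e12 (x + y) := by
  apply SEC_aux_ext <;> simp [SEC_aux_mul_apply, add_comm]

theorem SEC_aux_e12_neg (x : R) : (e12 x)⁻¹ = e12 (-x) := by
  apply SEC_aux_ext <;> simp [SEC_aux_inv00, SEC_aux_inv01, SEC_aux_inv10, SEC_aux_inv11]

theorem SEC_aux_e21_add (x y : R) : e21 x * e21 y = e21 (x + y) := by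
  apply SEC_aux_ext <;> simp [SEC_aux_mul_apply]

theorem SEC_aux_e21_neg (x : R) : (e21 x)⁻¹ = e21 (-x) := by
  apply SEC_aux_ext <;> simp [SEC_aux_inv00, SEC_aux_inv01, SEC_aux_inv10, SEC_aux_inv11]

theorem SEC_aux_e12_zero : e12 (0 : R) = 1 := by
  apply SEC_aux_ext <;> simp

theorem SEC_aux_e21_zero : e21 (0 : R) = 1 := by
  apply SEC_aux_ext <;> simp

/-- upper triangular `g`: conjugating `e12 1` gives `e12 (g₀₀²)` -/
theorem SEC_aux_UT (g : SL2 R) (h10 : g 1 0 = 0) :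
    g * e12 1 * g⁻¹ * e12 (-1) = e12 (g 0 0 ^ 2 - 1) := by
  have hd := SEC_aux_det g
  rw [h10, mul_zero, sub_zero] at hd
  apply SEC_aux_ext
  · simp [SEC_aux_mul_apply, SEC_aux_inv00, SEC_aux_inv01, SEC_aux_inv10, SEC_aux_inv11, h10]
    linear_combination hd
  · simp [SEC_aux_mul_apply, SEC_aux_inv00, SEC_aux_inv01, SEC_aux_inv10, SEC_aux_inv11, h10]
    linear_combination (-1 : R) * hd
  · simp [SEC_aux_mul_apply, SEC_aux_inv00, SEC_aux_inv01, SEC_aux_inv10, SEC_aux_inv11, h10]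
  · simp [SEC_aux_mul_apply, SEC_aux_inv00, SEC_aux_inv01, SEC_aux_inv10, SEC_aux_inv11, h10]
    linear_combination hd

/-- lower triangular `g`: conjugating `e21 l` gives `e21 (g₁₁² l)` -/
theorem SEC_aux_LT (g : SL2 R) (h01 : g 0 1 = 0) (l : R) :
    g * e21 l * g⁻¹ * e21 (-l) = e21 ((g 1 1 ^ 2 - 1) * l) := by
  have hd := SEC_aux_det g
  rw [h01, zero_mul, sub_zero] at hd
  apply SEC_aux_ext
  · simp [SEC_aux_mul_apply, SEC_aux_inv00, SEC_aux_inv01, SEC_aux_inv10, SEC_aux_inv11, h01]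
    linear_combination hd
  · simp [SEC_aux_mul_apply, SEC_aux_inv00, SEC_aux_inv01, SEC_aux_inv10, SEC_aux_inv11, h01]
  · simp [SEC_aux_mul_apply, SEC_aux_inv00, SEC_aux_inv01, SEC_aux_inv10, SEC_aux_inv11, h01]
    linear_combination (-l) * hd
  · simp [SEC_aux_mul_apply, SEC_aux_inv00, SEC_aux_inv01, SEC_aux_inv10, SEC_aux_inv11, h01]
    linear_combination hd

/-- square of an upper triangular `g` with `g₀₀² = 1` -/
theorem SEC_aux_UTsq (g : SL2 R) (h10 : g 1 0 = 0) (h00 : g 0 0 ^ 2 = 1) :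
    g * g = e12 (2 * g 0 0 * g 0 1) := by
  have hd := SEC_aux_det g
  rw [h10, mul_zero, sub_zero] at hd
  have h11 : g 1 1 = g 0 0 := by
    linear_combination (-(g 1 1)) * h00 + (g 0 0) * hd
  apply SEC_aux_ext
  · rw [SEC_aux_mul_apply, h10, SEC_aux_e12_00]; linear_combination h00
  · rw [SEC_aux_mul_apply, h11, SEC_aux_e12_01]; ring
  · rw [SEC_aux_mul_apply, h10, SEC_aux_e12_10]; ring
  · rw [SEC_aux_mul_apply, h10, h11, SEC_aux_e12_11]; linear_combination h00

/-- square of a lower triangular `g` with `g₁₁² = 1` -/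
theorem SEC_aux_LTsq (g : SL2 R) (h01 : g 0 1 = 0) (h11 : g 1 1 ^ 2 = 1) :
    g * g = e21 (2 * g 1 1 * g 1 0) := by
  have hd := SEC_aux_det g
  rw [h01, zero_mul, sub_zero] at hd
  have h00 : g 0 0 = g 1 1 := by
    linear_combination (-(g 0 0)) * h11 + (g 1 1) * hd
  apply SEC_aux_ext
  · rw [SEC_aux_mul_apply, h01, h00, SEC_aux_e21_00]; linear_combination h11
  · rw [SEC_aux_mul_apply, h01, SEC_aux_e21_01]; ring
  · rw [SEC_aux_mul_apply, h00, SEC_aux_e21_10]; ring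
  · rw [SEC_aux_mul_apply, h01, SEC_aux_e21_11]; linear_combination h11

/-- conjugating `e12 1` by an arbitrary `w` -/
theorem SEC_aux_conj01 (w : SL2 R) : (w * e12 (1 : R) * w⁻¹ : SL2 R) 0 1 = w 0 0 ^ 2 := by
  simp [SEC_aux_mul_apply, SEC_aux_inv01, SEC_aux_inv11]
  ring

theorem SEC_aux_conj11 (w : SL2 R) : (w * e12 (1 : R) * w⁻¹ : SL2 R) 1 1 = 1 + w 0 0 * w 1 0 := by
  have hd := SEC_aux_det w
  simp [SEC_aux_mul_apply, SEC_aux_inv01, SEC_aux_inv11]
  linear_combination hd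

theorem SEC_aux_w00 (x y : R) : (e12 x * e21 y * e12 x : SL2 R) 0 0 = 1 + x * y := by
  simp [SEC_aux_mul_apply]

theorem SEC_aux_w10 (x y : R) : (e12 x * e21 y * e12 x : SL2 R) 1 0 = y := by
  simp [SEC_aux_mul_apply]

/-- the diagonal element `diag (x, -y)` for `x y = -1` -/
theorem SEC_aux_diag (x y : R) (hxy : x * y = -1) :
    (e12 x * e21 y * e12 x * (e12 (1 : R) * e21 (-1) * e12 1)⁻¹ : SL2 R) 0 0 = x ∧
    (e12 x * e21 y * e12 x * (e12 (1 : R) * e21 (-1) * e12 1)⁻¹ : SL2 R) 0 1 = 0 ∧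
    (e12 x * e21 y * e12 x * (e12 (1 : R) * e21 (-1) * e12 1)⁻¹ : SL2 R) 1 0 = 0 := by
  refine ⟨?_, ?_, ?_⟩
  · simp [SEC_aux_mul_apply, SEC_aux_inv00, SEC_aux_inv01, SEC_aux_inv10, SEC_aux_inv11]
    linear_combination (x) * hxy
  · simp [SEC_aux_mul_apply, SEC_aux_inv00, SEC_aux_inv01, SEC_aux_inv10, SEC_aux_inv11]
    linear_combination (-1 : R) * hxy
  · simp [SEC_aux_mul_apply, SEC_aux_inv00, SEC_aux_inv01, SEC_aux_inv10, SEC_aux_inv11]
    linear_combination hxy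

/-- conjugation of `e12 u` by a diagonal element -/
theorem SEC_aux_DG1 (d : SL2 R) (h01 : d 0 1 = 0) (h10 : d 1 0 = 0) (u : R) :
    d * e12 u * d⁻¹ = e12 (d 0 0 ^ 2 * u) := by
  have hd := SEC_aux_det d
  rw [h10, mul_zero, sub_zero] at hd
  apply SEC_aux_ext
  · simp [SEC_aux_mul_apply, SEC_aux_inv00, SEC_aux_inv01, SEC_aux_inv10, SEC_aux_inv11, h01, h10]
    linear_combination hd
  · simp [SEC_aux_mul_apply, SEC_aux_inv00, SEC_aux_inv01, SEC_aux_inv10, SEC_aux_inv11, h01, h10]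
    ring
  · simp [SEC_aux_mul_apply, SEC_aux_inv00, SEC_aux_inv01, SEC_aux_inv10, SEC_aux_inv11, h01, h10]
  · simp [SEC_aux_mul_apply, SEC_aux_inv00, SEC_aux_inv01, SEC_aux_inv10, SEC_aux_inv11, h01, h10]
    linear_combination hd

/-- conjugation of `e21 v` by the inverse of a diagonal element -/
theorem SEC_aux_DG2 (d : SL2 R) (h01 : d 0 1 = 0) (h10 : d 1 0 = 0) (v : R) :
    d⁻¹ * e21 v * d = e21 (d 0 0 ^ 2 * v) := by
  have hd := SEC_aux_det d
  rw [h10, mul_zero, sub_zero] at hd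
  apply SEC_aux_ext
  · simp [SEC_aux_mul_apply, SEC_aux_inv00, SEC_aux_inv01, SEC_aux_inv10, SEC_aux_inv11, h01, h10]
    linear_combination hd
  · simp [SEC_aux_mul_apply, SEC_aux_inv00, SEC_aux_inv01, SEC_aux_inv10, SEC_aux_inv11, h01, h10]
  · simp [SEC_aux_mul_apply, SEC_aux_inv00, SEC_aux_inv01, SEC_aux_inv10, SEC_aux_inv11, h01, h10]
    ring
  · simp [SEC_aux_mul_apply, SEC_aux_inv00, SEC_aux_inv01, SEC_aux_inv10, SEC_aux_inv11, h01, h10]
    linear_combination hd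

theorem SEC_aux_map_apply {S : Type*} [CommRing S] (f : R →+* S) (g : SL2 R) (i j : Fin 2) :
    (Matrix.SpecialLinearGroup.map f g) i j = f (g i j) := by
  rw [Matrix.SpecialLinearGroup.map_apply_coe, RingHom.mapMatrix_apply, Matrix.map_apply]

end secaux

section seccore

local notation "SL2" => Matrix.SpecialLinearGroup (Fin 2)

/-- the core of the section argument: `X = {x | e12 x ∈ H}` contains `k[lam]` -/
theorem SEC_aux_core {R : Type*} [CommRing R] [Algebra k R] (lam : R) (hlam : IsUnit lam)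
    (hrig : ∀ h ∈ Hmat k lam, (h 0 1 = 0 ∨ IsUnit (h 0 1)) ∧ (h 1 0 = 0 ∨ IsUnit (h 1 0)))
    {K : Type*} [Field K] [Algebra k K] (f : R →ₐ[k] K) (h2 : (2 : k) ≠ 0)
    (htop : (Hmat k lam).map (Matrix.SpecialLinearGroup.map (f : R →+* K)) = ⊤) :
    ∀ x ∈ Algebra.adjoin k ({lam} : Set R), e12 x ∈ Hmat k lam := by
  set H := Hmat k lam with hHdef
  have hg12 : ∀ c : k, e12 (algebraMap k R c) ∈ H := fun c =>
    Subgroup.subset_closure (Or.inl ⟨c, rfl⟩)
  have hg21 : ∀ c : k, e21 (algebraMap k R c * lam) ∈ H := fun c =>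
    Subgroup.subset_closure (Or.inr ⟨c, rfl⟩)
  have h2R : IsUnit (2 : R) := by
    have : (2 : R) = algebraMap k R 2 := (map_ofNat (algebraMap k R) 2).symm
    rw [this]
    exact (IsUnit.mk0 _ h2).map (algebraMap k R)
  have h2K : (2 : K) ≠ 0 := by
    have : (2 : K) = algebraMap k K 2 := (map_ofNat (algebraMap k K) 2).symm
    rw [this]
    exact (map_ne_zero (algebraMap k K)).mpr h2
  have hfu : ∀ r : R, IsUnit r → f r ≠ 0 := fun r hr => (hr.map f).ne_zero
  have R01 : ∀ h ∈ H, f (h 0 1) = 0 → h 0 1 = 0 := by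
    intro h hh hf
    rcases (hrig h hh).1 with h0 | hu
    · exact h0
    · exact absurd hf (hfu _ hu)
  have R10 : ∀ h ∈ H, f (h 1 0) = 0 → h 1 0 = 0 := by
    intro h hh hf
    rcases (hrig h hh).2 with h0 | hu
    · exact h0
    · exact absurd hf (hfu _ hu)
  have hXinj : ∀ x : R, e12 x ∈ H → f x = 0 → x = 0 := by
    intro x hx hf
    have := R01 _ hx (by simpa using hf)
    simpa using this
  have hYinj : ∀ y : R, e21 y ∈ H → f y = 0 → y = 0 := by
    intro y hy hf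
    have := R10 _ hy (by simpa using hf)
    simpa using this
  have lift : ∀ M : SL2 K, ∃ g ∈ H, ∀ i j, f (g i j) = M i j := by
    intro M
    have hM : M ∈ H.map (Matrix.SpecialLinearGroup.map (f : R →+* K)) := by
      rw [htop]; trivial
    obtain ⟨g, hg, hgM⟩ := Subgroup.mem_map.mp hM
    refine ⟨g, hg, fun i j => ?_⟩
    rw [← hgM, SEC_aux_map_apply]
    rfl
  have hXadd : ∀ x x' : R, e12 x ∈ H → e12 x' ∈ H → e12 (x + x') ∈ H := by
    intro x x' hx hx'
    rw [← SEC_aux_e12_add]; exact H.mul_mem hx hx'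
  have hXneg : ∀ x : R, e12 x ∈ H → e12 (-x) ∈ H := by
    intro x hx
    rw [← SEC_aux_e12_neg]; exact H.inv_mem hx
  have hYadd : ∀ y y' : R, e21 y ∈ H → e21 y' ∈ H → e21 (y + y') ∈ H := by
    intro y y' hy hy'
    rw [← SEC_aux_e21_add]; exact H.mul_mem hy hy'
  have hYneg : ∀ y : R, e21 y ∈ H → e21 (-y) ∈ H := by
    intro y hy
    rw [← SEC_aux_e21_neg]; exact H.inv_mem hy
  have hX1 : e12 (1 : R) ∈ H := by
    have := hg12 1
    rwa [map_one] at this
  have hXm1 : e12 (-1 : R) ∈ H := hXneg _ hX1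
  have hYlam : e21 lam ∈ H := by
    have := hg21 1
    rwa [map_one, one_mul] at this
  have hYmlam : e21 (-lam) ∈ H := hYneg _ hYlam
  -- surjectivity of `f` on `X`
  have surjX : ∀ t : K, ∃ x : R, e12 x ∈ H ∧ f x = t := by
    intro t
    obtain ⟨g, hg, hge⟩ := lift (e12 (t / 2))
    have h10 : g 1 0 = 0 := R10 g hg (by rw [hge]; simp)
    have hc : e12 (g 0 0 ^ 2 - 1) ∈ H := by
      rw [← SEC_aux_UT g h10]
      exact H.mul_mem (H.mul_mem (H.mul_mem hg hX1) (H.inv_mem hg)) hXm1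
    have h00 : g 0 0 ^ 2 = 1 := by
      have := hXinj _ hc (by rw [map_sub, map_pow, hge, map_one]; simp)
      linear_combination this
    have hsq : e12 (2 * g 0 0 * g 0 1) ∈ H := by
      rw [← SEC_aux_UTsq g h10 h00]; exact H.mul_mem hg hg
    refine ⟨_, hsq, ?_⟩
    rw [map_mul, map_mul, hge, hge, map_ofNat]
    simp only [SEC_aux_e12_00, SEC_aux_e12_01]
    field_simp
  have surjY : ∀ t : K, ∃ y : R, e21 y ∈ H ∧ f y = t := by
    intro t
    obtain ⟨g, hg, hge⟩ := lift (e21 (t / 2))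
    have h01 : g 0 1 = 0 := R01 g hg (by rw [hge]; simp)
    have hc : e21 ((g 1 1 ^ 2 - 1) * lam) ∈ H := by
      rw [← SEC_aux_LT g h01 lam]
      exact H.mul_mem (H.mul_mem (H.mul_mem hg hYlam) (H.inv_mem hg)) hYmlam
    have h11 : g 1 1 ^ 2 = 1 := by
      have := hYinj _ hc (by rw [map_mul, map_sub, map_pow, hge, map_one]; simp)
      have h3 := (hlam.mul_left_eq_zero).mp this
      linear_combination h3
    have hsq : e21 (2 * g 1 1 * g 1 0) ∈ H := by
      rw [← SEC_aux_LTsq g h01 h11]; exact H.mul_mem hg hg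
    refine ⟨_, hsq, ?_⟩
    rw [map_mul, map_mul, hge, hge, map_ofNat]
    simp only [SEC_aux_e21_11, SEC_aux_e21_10]
    field_simp
  -- the key relation `x y = -1`
  have hxy : ∀ x y : R, e12 x ∈ H → e21 y ∈ H → f x * f y = -1 → x * y = -1 := by
    intro x y hx hy hf
    have hfy : f y ≠ 0 := by
      intro h0
      rw [h0, mul_zero] at hf
      exact one_ne_zero (neg_eq_zero.mp hf.symm)
    have hyu : IsUnit y := by
      rcases (hrig (e21 y) hy).2 with h0 | hu
      · rw [SEC_aux_e21_10] at h0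
        rw [h0, map_zero] at hfy
        exact absurd rfl hfy
      · rwa [SEC_aux_e21_10] at hu
    have hw : e12 x * e21 y * e12 x ∈ H := H.mul_mem (H.mul_mem hx hy) hx
    set w : SL2 R := e12 x * e21 y * e12 x with hwdef
    have hw00 : w 0 0 = 1 + x * y := SEC_aux_w00 x y
    have hw10 : w 1 0 = y := SEC_aux_w10 x y
    have hfε : f (w 0 0) = 0 := by
      rw [hw00, map_add, map_one, map_mul, hf]; ring
    have hgH : w * e12 (1 : R) * w⁻¹ ∈ H := H.mul_mem (H.mul_mem hw hX1) (H.inv_mem hw)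
    set g : SL2 R := w * e12 (1 : R) * w⁻¹ with hgdef
    have hg01 : g 0 1 = w 0 0 ^ 2 := SEC_aux_conj01 w
    have hg11 : g 1 1 = 1 + w 0 0 * w 1 0 := SEC_aux_conj11 w
    have hε2 : w 0 0 ^ 2 = 0 := by
      rw [← hg01]
      exact R01 g hgH (by rw [hg01, map_pow, hfε]; simp)
    have hg01' : g 0 1 = 0 := by rw [hg01, hε2]
    have hc : e21 ((g 1 1 ^ 2 - 1) * lam) ∈ H := by
      rw [← SEC_aux_LT g hg01' lam]
      exact H.mul_mem (H.mul_mem (H.mul_mem hgH hYlam) (H.inv_mem hgH)) hYmlam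
    have h11 : g 1 1 ^ 2 - 1 = 0 := by
      have := hYinj _ hc (by
        rw [map_mul, map_sub, map_pow, hg11, map_add, map_mul, hfε, map_one]; simp)
      exact (hlam.mul_left_eq_zero).mp this
    have h3 : 2 * (w 0 0 * y) = 0 := by
      rw [hg11, hw10] at h11
      linear_combination h11 - (y ^ 2) * hε2
    have h4 : w 0 0 * y = 0 := (h2R.mul_right_eq_zero).mp h3
    have h5 : w 0 0 = 0 := (hyu.mul_left_eq_zero).mp h4
    rw [hw00] at h5
    linear_combination h5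
  have hYm1 : e21 (-1 : R) ∈ H := by
    obtain ⟨y, hy, hfy⟩ := surjY (-1)
    have := hxy 1 y hX1 hy (by rw [map_one, hfy]; ring)
    rw [one_mul] at this
    rwa [this] at hy
  have diag : ∀ x : R, e12 x ∈ H → x ≠ 0 →
      ∃ d ∈ H, d 0 0 = x ∧ d 0 1 = 0 ∧ d 1 0 = 0 := by
    intro x hx hx0
    have hfx : f x ≠ 0 := fun h0 => hx0 (hXinj x hx h0)
    obtain ⟨y, hy, hfy⟩ := surjY (-(f x)⁻¹)
    have h1 := hxy x y hx hy (by rw [hfy]; field_simp)
    refine ⟨e12 x * e21 y * e12 x * (e12 (1 : R) * e21 (-1) * e12 1)⁻¹, ?_, SEC_aux_diag x y h1⟩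
    exact H.mul_mem (H.mul_mem (H.mul_mem hx hy) hx)
      (H.inv_mem (H.mul_mem (H.mul_mem hX1 hYm1) hX1))
  have sqX : ∀ x u : R, e12 x ∈ H → e12 u ∈ H → e12 (x ^ 2 * u) ∈ H := by
    intro x u hx hu
    by_cases hx0 : x = 0
    · rw [hx0]; simp only [ne_eq, OfNat.ofNat_ne_zero, not_false_eq_true, zero_pow, zero_mul]
      rw [SEC_aux_e12_zero]; exact H.one_mem
    · obtain ⟨d, hd, h00, h01, h10⟩ := diag x hx hx0
      rw [← h00, ← SEC_aux_DG1 d h01 h10 u]
      exact H.mul_mem (H.mul_mem hd hu) (H.inv_mem hd)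
  have sqY : ∀ x v : R, e12 x ∈ H → e21 v ∈ H → e21 (x ^ 2 * v) ∈ H := by
    intro x v hx hv
    by_cases hx0 : x = 0
    · rw [hx0]; simp only [ne_eq, OfNat.ofNat_ne_zero, not_false_eq_true, zero_pow, zero_mul]
      rw [SEC_aux_e21_zero]; exact H.one_mem
    · obtain ⟨d, hd, h00, h01, h10⟩ := diag x hx hx0
      rw [← h00, ← SEC_aux_DG2 d h01 h10 v]
      exact H.mul_mem (H.mul_mem (H.inv_mem hd) hv) hd
  have polX : ∀ x u : R, e12 x ∈ H → e12 u ∈ H → e12 (2 * x * u) ∈ H := by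
    intro x u hx hu
    have e : 2 * x * u = (x + 1) ^ 2 * u + -(x ^ 2 * u) + -u := by ring
    rw [e]
    exact hXadd _ _ (hXadd _ _ (sqX _ _ (hXadd _ _ hx hX1) hu) (hXneg _ (sqX _ _ hx hu)))
      (hXneg _ hu)
  have polY : ∀ x v : R, e12 x ∈ H → e21 v ∈ H → e21 (2 * x * v) ∈ H := by
    intro x v hx hv
    have e : 2 * x * v = (x + 1) ^ 2 * v + -(x ^ 2 * v) + -v := by ring
    rw [e]
    exact hYadd _ _ (hYadd _ _ (sqY _ _ (hXadd _ _ hx hX1) hv) (hYneg _ (sqY _ _ hx hv)))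
      (hYneg _ hv)
  have hhalf : (2 : R) * algebraMap k R (1 / 2) = 1 := by
    have : (2 : R) = algebraMap k R 2 := (map_ofNat (algebraMap k R) 2).symm
    rw [this, ← map_mul, mul_one_div_cancel h2, map_one]
  have mulX : ∀ x u : R, e12 x ∈ H → e12 u ∈ H → e12 (x * u) ∈ H := by
    intro x u hx hu
    have h4 := polX (algebraMap k R (1 / 2) * x) u ?_ hu
    · have e2 : 2 * (algebraMap k R (1 / 2) * x) * u = x * u := by
        rw [← mul_assoc, hhalf, one_mul]
      rwa [e2] at h4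
    · -- `algebraMap (1/2) * x ∈ X`
      have h5 := polX (algebraMap k R (1 / 4)) x (hg12 _) hx
      have e3 : 2 * algebraMap k R (1 / 4) * x = algebraMap k R (1 / 2) * x := by
        have : (2 : R) = algebraMap k R 2 := (map_ofNat (algebraMap k R) 2).symm
        rw [this, ← map_mul]
        congr 2
        have h4' : (4 : k) ≠ 0 := by
          have : (4 : k) = 2 * 2 := by norm_num
          rw [this]; exact mul_ne_zero h2 h2
        field_simp
        norm_num
      rwa [e3] at h5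
  have mulY : ∀ x v : R, e12 x ∈ H → e21 v ∈ H → e21 (x * v) ∈ H := by
    intro x v hx hv
    have h5 := polX (algebraMap k R (1 / 4)) x (hg12 _) hx
    have e3 : 2 * algebraMap k R (1 / 4) * x = algebraMap k R (1 / 2) * x := by
      have : (2 : R) = algebraMap k R 2 := (map_ofNat (algebraMap k R) 2).symm
      rw [this, ← map_mul]
      congr 2
      have h4' : (4 : k) ≠ 0 := by
        have : (4 : k) = 2 * 2 := by norm_num
        rw [this]; exact mul_ne_zero h2 h2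
      field_simp
      norm_num
    rw [e3] at h5
    have h4 := polY (algebraMap k R (1 / 2) * x) v h5 hv
    have e2 : 2 * (algebraMap k R (1 / 2) * x) * v = x * v := by
      rw [← mul_assoc, hhalf, one_mul]
    rwa [e2] at h4
  have XsubY : ∀ x : R, e12 x ∈ H → e21 x ∈ H := by
    intro x hx
    have := hYneg _ (mulY x (-1) hx hYm1)
    simpa using this
  have YsubX : ∀ y : R, e21 y ∈ H → e12 y ∈ H := by
    intro y hy
    obtain ⟨x, hx, hfx⟩ := surjX (f y)
    have h1 : e21 (x + -y) ∈ H := hYadd _ _ (XsubY x hx) (hYneg _ hy)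
    have h2' : x + -y = 0 := hYinj _ h1 (by rw [map_add, map_neg, hfx]; ring)
    have : x = y := by linear_combination h2'
    rwa [this] at hx
  have lamX : e12 lam ∈ H := YsubX lam hYlam
  let S : Subalgebra k R :=
    { carrier := {x | e12 x ∈ H}
      mul_mem' := fun {a b} ha hb => mulX a b ha hb
      add_mem' := fun {a b} ha hb => hXadd a b ha hb
      algebraMap_mem' := fun c => hg12 c }
  have hS : Algebra.adjoin k ({lam} : Set R) ≤ S :=
    Algebra.adjoin_le (by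
      intro x hx
      rw [Set.mem_singleton_iff] at hx
      rw [hx]
      exact lamX)
  intro x hx
  exact hS hx

/-- piece SEC : the section argument -/
theorem SEC (hk2 : ringChar k ≠ 2) (hk3 : Nat.card k ≠ 3) {R : Type*} [CommRing R] [Nontrivial R]
    [Algebra k R] [Module.Finite k R] (lam : R) (hlam : IsUnit lam)
    (hgen : Algebra.adjoin k ({lam} : Set R) = ⊤)
    (hrig : ∀ h ∈ Hmat k lam, (h 0 1 = 0 ∨ IsUnit (h 0 1)) ∧ (h 1 0 = 0 ∨ IsUnit (h 1 0))) :
    IsField R := by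
  have h2 : (2 : k) ≠ 0 := Ring.two_ne_zero hk2
  obtain ⟨𝔭, h𝔭⟩ := Ideal.exists_maximal R
  haveI := h𝔭
  letI : Field (R ⧸ 𝔭) := Ideal.Quotient.field 𝔭
  let f : R →ₐ[k] (R ⧸ 𝔭) := Ideal.Quotient.mkₐ k 𝔭
  have hfsurj : Function.Surjective f := Ideal.Quotient.mkₐ_surjective k 𝔭
  haveI : Module.Finite k (R ⧸ 𝔭) := Module.Finite.of_surjective f.toLinearMap hfsurj
  have hflam : IsUnit (f lam) := hlam.map f
  have halg : IsAlgebraic k (f lam) := Algebra.IsAlgebraic.isAlgebraic (f lam)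
  have hadj : Algebra.adjoin k ({f lam} : Set (R ⧸ 𝔭)) = ⊤ := by
    have h1 := AlgHom.map_adjoin f ({lam} : Set R)
    rw [hgen, Set.image_singleton, Algebra.map_top] at h1
    rw [← h1]
    exact (AlgHom.range_eq_top f).mpr hfsurj
  have hint : IntermediateField.adjoin k ({f lam} : Set (R ⧸ 𝔭)) = ⊤ := by
    have h1 := IntermediateField.algebra_adjoin_le_adjoin k ({f lam} : Set (R ⧸ 𝔭))
    rw [hadj] at h1
    rw [eq_top_iff]
    intro x _
    exact h1 (Algebra.mem_top)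
  have htop : (Hmat k lam).map (Matrix.SpecialLinearGroup.map (f : R →+* (R ⧸ 𝔭))) = ⊤ := by
    rw [Hmat_map f lam]
    exact Hmat_top hk2 hk3 (f lam) halg hflam.ne_zero hint
  have hall : ∀ x : R, e12 x ∈ Hmat k lam := by
    intro x
    exact SEC_aux_core lam hlam hrig f h2 htop x (by rw [hgen]; exact Algebra.mem_top)
  refine ⟨exists_pair_ne R, mul_comm, ?_⟩
  intro a ha
  rcases (hrig (e12 a) (hall a)).1 with h0 | hu
  · rw [SEC_aux_e12_01] at h0
    exact absurd h0 ha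
  · rw [SEC_aux_e12_01] at hu
    exact hu.exists_right_inv

end seccore

end Cfsg.Agent.QPP

end
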