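import Mathlib

set_option autoImplicit false
set_option linter.style.haveILetI false
set_option linter.unusedSectionVars false

/-!
# Jordan's theorem on primitive groups containing a cycle of prime length
-/

namespace Cfsg.Agent.Helper4.JordanCycle

open Equiv Equiv.Perm MulAction
open scoped Pointwise

variable {α : Type*} [Fintype α] [DecidableEq α]

/-- An `m`-transitive group realises any permutation on a given set of `m` points. -/
theorem exists_mem_agree_on (G : Subgroup (Perm α)) {m : ℕ}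
    (hG : IsMultiplyPretransitive G α m) (Δ : Finset α) (hΔ : Δ.card = m) (σ : Perm α) :
    ∃ y ∈ G, ∀ d ∈ Δ, y d = σ d := by
  let eqv : Δ ≃ Fin m := Δ.equivFinOfCardEq hΔ
  let e : Fin m ↪ α := eqv.symm.toEmbedding.trans (Function.Embedding.subtype _)
  let e' : Fin m ↪ α := e.trans σ.toEmbedding
  obtain ⟨y, hy⟩ := hG.exists_smul_eq e e'
  refine ⟨y, y.2, fun d hd => ?_⟩
  have h1 := DFunLike.congr_fun hy (eqv ⟨d, hd⟩)
  simp only [Function.Embedding.smul_apply, e', e, Function.Embedding.trans_apply,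
    Equiv.coe_toEmbedding, Equiv.symm_apply_apply, Function.Embedding.subtype_apply] at h1
  exact h1

/-- A primitive group containing a cycle of prime length `p` with at least three fixed points is
`(n - p)`-transitive. -/
theorem isMultiplyPretransitive_of_prime_cycle (G : Subgroup (Perm α))
    (hG : IsPreprimitive G α) {p : ℕ} (hp : p.Prime) (hpn : p + 3 ≤ Fintype.card α)
    {g : Perm α} (hgc : g.IsCycle) (hgp : g.support.card = p) (hg : g ∈ G) :
    IsMultiplyPretransitive G α (Fintype.card α - p) := by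
  classical
  obtain ⟨n, hn⟩ : ∃ n, Fintype.card α = p + (n + 3) := ⟨Fintype.card α - p - 3, by omega⟩
  have h1 : IsMultiplyPreprimitive G α (n + 2 + 2) := by
    apply hG.isMultiplyPreprimitive (s := (g.supportᶜ : Set α))
    · apply Nat.add_left_cancel (n := p)
      rw [← hgp, ← Set.ncard_coe_finset g.support]
      rw [Set.ncard_add_ncard_compl, Nat.card_eq_fintype_card, hn, Set.ncard_coe_finset, hgp]
    · rw [Nat.card_eq_fintype_card, hn]
      have := hp.two_le
      omega
    have := isPretransitive_of_isCycle_mem hgc hg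
    apply IsPreprimitive.of_prime_card
    convert! hp
    rw [Nat.card_eq_fintype_card, Fintype.card_subtype, ← hgp]
    apply congr_arg
    ext x
    simp [SubMulAction.mem_ofFixingSubgroup_iff]
  have h2 : IsMultiplyPretransitive G α (n + 2 + 2) :=
    IsMultiplyPreprimitive.isMultiplyPretransitive ..
  have h3 : Fintype.card α - p = n + 3 := by omega
  rw [h3]
  exact isMultiplyPretransitive_of_le (n := n + 2 + 2) (by omega)
    (by rw [Nat.card_eq_fintype_card, hn]; have := hp.two_le; omega)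

theorem sq_not_dvd_factorial {p : ℕ} (hp : p.Prime) : ¬ p ^ 2 ∣ p.factorial := by
  intro h
  obtain ⟨k, hk⟩ : ∃ k, p = k + 1 := ⟨p - 1, by have := hp.pos; omega⟩
  rw [hk, Nat.factorial_succ, sq] at h
  have h1 : k + 1 ∣ k.factorial := Nat.dvd_of_mul_dvd_mul_left (Nat.succ_pos k) h
  rw [← hk] at h1
  have h2 := (hp.dvd_factorial).mp h1
  omega

/-- Witt's argument: in an `m`-transitive group, the normaliser of the group generated by a
`p`-cycle with `m` fixed points induces every permutation on the fixed points. -/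
theorem witt_step (G : Subgroup (Perm α)) {p : ℕ} (hp : p.Prime)
    {g : Perm α} (hgc : g.IsCycle) (hgp : g.support.card = p) (hg : g ∈ G)
    (hG : IsMultiplyPretransitive G α (g.supportᶜ).card)
    (σ : Perm α) (hσ : ∀ b ∈ g.support, σ b = b) :
    ∃ x ∈ G, (∀ d ∈ g.supportᶜ, x d = σ d) ∧ ∃ a : ℤ, x * g * x⁻¹ = g ^ a := by
  classical
  haveI : Fact p.Prime := ⟨hp⟩
  obtain ⟨y, hyG, hy⟩ := exists_mem_agree_on G hG (g.supportᶜ) rfl σ
  -- σ preserves the support
  have hσsupp : ∀ b, σ b ∈ g.support ↔ b ∈ g.support := by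
    intro b
    constructor
    · intro h
      have := hσ _ h
      rwa [σ.injective this] at h
    · intro h
      rwa [hσ b h]
  have hysupp : ∀ b, y b ∈ g.support ↔ b ∈ g.support := by
    intro b
    by_cases hb : b ∈ g.support
    · simp only [hb, iff_true]
      by_contra hyb
      have hyb' : y b ∈ g.supportᶜ := Finset.mem_compl.mpr hyb
      -- y b = σ d for some d in the complement
      have hσinv : σ (σ⁻¹ (y b)) = y b := by simp
      have hd : σ⁻¹ (y b) ∈ g.supportᶜ := by
        rw [Finset.mem_compl, ← hσsupp, hσinv]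
        exact hyb
      have := hy _ hd
      rw [hσinv] at this
      have hbd := y.injective this
      rw [← hbd] at hb
      exact (Finset.mem_compl.mp hd) hb
    · simp only [hb, iff_false]
      have hb' : b ∈ g.supportᶜ := Finset.mem_compl.mpr hb
      rw [hy b hb', hσsupp]
      exact hb
  set g' := y * g * y⁻¹ with hg'
  have hg'G : g' ∈ G := G.mul_mem (G.mul_mem hyG hg) (G.inv_mem hyG)
  have hg'supp : g'.support = g.support := by
    rw [hg', support_conj]
    ext b
    rw [Finset.mem_map_equiv, ← hysupp (y.symm b), Equiv.apply_symm_apply]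
  -- the ambient subgroup
  let R : Subgroup (Perm α) := (ofSubtype (p := (· ∈ g.support))).range
  have hRcard : Nat.card R = p.factorial := by
    have h1 := Nat.card_congr (MonoidHom.ofInjective
      (ofSubtype_injective (p := (· ∈ g.support)))).toEquiv
    rw [← h1, Nat.card_perm, Nat.card_eq_fintype_card, Fintype.card_coe, hgp]
  have hgR : g ∈ R := by
    rw [mem_range_ofSubtype_iff]
    intro b hb
    exact hb
  have hg'R : g' ∈ R := by
    rw [mem_range_ofSubtype_iff, hg'supp]
    intro b hb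
    exact hb
  let H : Subgroup (Perm α) := G ⊓ R
  have hHcard : Nat.card H ∣ p.factorial := by
    rw [← hRcard]
    exact Subgroup.card_dvd_of_le inf_le_right
  let gH : H := ⟨g, hg, hgR⟩
  let g'H : H := ⟨g', hg'G, hg'R⟩
  have hordg : orderOf gH = p := by
    rw [← Subgroup.orderOf_coe]
    change orderOf g = p
    rw [hgc.orderOf, hgp]
  have hg'c : g'.IsCycle := hgc.conj
  have hordg' : orderOf g'H = p := by
    rw [← Subgroup.orderOf_coe]
    change orderOf g' = p
    rw [hg'c.orderOf, hg'supp, hgp]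
  -- Sylow subgroups
  have hP : IsPGroup p (Subgroup.zpowers gH) :=
    IsPGroup.of_card (n := 1) (by rw [Nat.card_zpowers, hordg, pow_one])
  have hP' : IsPGroup p (Subgroup.zpowers g'H) :=
    IsPGroup.of_card (n := 1) (by rw [Nat.card_zpowers, hordg', pow_one])
  obtain ⟨S, hS⟩ := hP.exists_le_sylow
  obtain ⟨S', hS'⟩ := hP'.exists_le_sylow
  have hcardle : ∀ T : Sylow p H, Nat.card T ≤ p := by
    intro T
    obtain ⟨k, hk⟩ := IsPGroup.iff_card.mp T.isPGroup'
    have h1 : p ^ k ∣ p.factorial := by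
      rw [← hk]
      exact (Subgroup.card_subgroup_dvd_card _).trans hHcard
    have hk1 : k ≤ 1 := by
      by_contra hk2
      push Not at hk2
      exact sq_not_dvd_factorial hp ((pow_dvd_pow p hk2).trans h1)
    rw [hk]
    calc p ^ k ≤ p ^ 1 := Nat.pow_le_pow_right hp.pos hk1
      _ = p := pow_one p
  have hSeq : Subgroup.zpowers gH = S := by
    apply Subgroup.eq_of_le_of_card_ge hS
    rw [Nat.card_zpowers, hordg]
    exact hcardle S
  obtain ⟨z, hz⟩ := MulAction.exists_smul_eq H S' S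
  have hz' : MulAut.conj z • (S' : Subgroup H) = S := by
    rw [← Sylow.coe_subgroup_smul, hz]
  have hmem : z * g'H * z⁻¹ ∈ (S : Subgroup H) := by
    rw [← hz']
    have h1 : g'H ∈ (S' : Subgroup H) := hS' (Subgroup.mem_zpowers g'H)
    have h2 := Subgroup.smul_mem_pointwise_smul g'H (MulAut.conj z) _ h1
    rwa [MulAut.smul_def, MulAut.conj_apply] at h2
  rw [← hSeq, Subgroup.mem_zpowers_iff] at hmem
  obtain ⟨a, ha⟩ := hmem
  have hzR : ∀ d ∈ g.supportᶜ, (z : Perm α) d = d := by
    intro d hd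
    have h1 : (z : Perm α) ∈ R := z.2.2
    rw [mem_range_ofSubtype_iff] at h1
    by_contra hne
    have h2 : d ∈ (z : Perm α).support := Perm.mem_support.mpr hne
    have h3 := h1 (Finset.mem_coe.mpr h2)
    exact (Finset.mem_compl.mp hd) h3
  refine ⟨(z : Perm α) * y, G.mul_mem z.2.1 hyG, ?_, a, ?_⟩
  · intro d hd
    rw [Perm.mul_apply, hy d hd]
    apply hzR
    rw [Finset.mem_compl, hσsupp]
    exact Finset.mem_compl.mp hd
  · have h1 := congrArg (Subtype.val) ha
    simp only [Subgroup.coe_zpow, Subgroup.coe_mul, Subgroup.coe_inv] at h1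
    rw [h1]
    change (z : Perm α) * y * g * ((z : Perm α) * y)⁻¹ = (z : Perm α) * (y * g * y⁻¹) * (z : Perm α)⁻¹
    group

theorem mem_compl_of_fix (σ : Perm α) (s : Finset α) (hσ : ∀ b ∈ s, σ b = b) :
    ∀ d, d ∈ sᶜ → σ d ∈ sᶜ := by
  intro d hd
  rw [Finset.mem_compl] at hd ⊢
  intro h
  have := hσ _ h
  rw [σ.injective this] at h
  exact hd h

/-- A primitive group containing a cycle of prime length `p ≤ n - 3` contains a 3-cycle. -/
theorem exists_threeCycle_mem (G : Subgroup (Perm α)) (hG : IsPreprimitive G α) {p : ℕ}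
    (hp : p.Prime) (hpn : p + 3 ≤ Fintype.card α) {g : Perm α} (hgc : g.IsCycle)
    (hgp : g.support.card = p) (hg : g ∈ G) : ∃ t ∈ G, t.IsThreeCycle := by
  classical
  have hΔcard : (g.supportᶜ).card = Fintype.card α - p := by rw [Finset.card_compl, hgp]
  have hGm : IsMultiplyPretransitive G α (g.supportᶜ).card := by
    rw [hΔcard]
    exact isMultiplyPretransitive_of_prime_cycle G hG hp hpn hgc hgp hg
  obtain ⟨d1, hd1, d2, hd2, d3, hd3, h12, h13, h23⟩ :=
    Finset.two_lt_card.mp (by rw [hΔcard]; omega : 2 < (g.supportᶜ).card)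
  have hfix : ∀ {u v : α}, u ∈ g.supportᶜ → v ∈ g.supportᶜ → ∀ b ∈ g.support, swap u v b = b := by
    intro u v hu hv b hb
    apply swap_apply_of_ne_of_ne
    · rintro rfl
      exact (Finset.mem_compl.mp hu) hb
    · rintro rfl
      exact (Finset.mem_compl.mp hv) hb
  set σ := swap d1 d2 with hσdef
  set τ := swap d2 d3 with hτdef
  have hσ : ∀ b ∈ g.support, σ b = b := hfix hd1 hd2
  have hτ : ∀ b ∈ g.support, τ b = b := hfix hd2 hd3
  have hσΔ := mem_compl_of_fix σ g.support hσ
  have hτΔ := mem_compl_of_fix τ g.support hτ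
  obtain ⟨x, hxG, hxΔ, a, hxa⟩ := witt_step G hp hgc hgp hg hGm σ hσ
  obtain ⟨y, hyG, hyΔ, b, hyb⟩ := witt_step G hp hgc hgp hg hGm τ hτ
  have hσσ : ∀ d, σ (σ d) = d := fun d => swap_apply_self d1 d2 d
  have hττ : ∀ d, τ (τ d) = d := fun d => swap_apply_self d2 d3 d
  have hxinv : ∀ d ∈ g.supportᶜ, x⁻¹ d = σ d := by
    intro d hd
    rw [Perm.inv_eq_iff_eq, hxΔ _ (hσΔ d hd), hσσ]
  have hyinv : ∀ d ∈ g.supportᶜ, y⁻¹ d = τ d := by
    intro d hd
    rw [Perm.inv_eq_iff_eq, hyΔ _ (hτΔ d hd), hττ]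
  set c := x⁻¹ * y⁻¹ * x * y with hc
  have hcG : c ∈ G := G.mul_mem (G.mul_mem (G.mul_mem (G.inv_mem hxG) (G.inv_mem hyG)) hxG) hyG
  have hcΔ : ∀ d ∈ g.supportᶜ, c d = σ (τ (σ (τ d))) := by
    intro d hd
    rw [hc, Perm.mul_apply, Perm.mul_apply, Perm.mul_apply, hyΔ d hd, hxΔ _ (hτΔ d hd),
      hyinv _ (hσΔ _ (hτΔ d hd)), hxinv _ (hτΔ _ (hσΔ _ (hτΔ d hd)))]
  have hcomm : c * g = g * c := by
    have h1 : (x * y) * g * (x * y)⁻¹ = g ^ (a * b) := by
      calc (x * y) * g * (x * y)⁻¹ = x * (y * g * y⁻¹) * x⁻¹ := by group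
        _ = x * g ^ b * x⁻¹ := by rw [hyb]
        _ = (x * g * x⁻¹) ^ b := by rw [conj_zpow]
        _ = (g ^ a) ^ b := by rw [hxa]
        _ = g ^ (a * b) := by rw [← zpow_mul]
    have h2 : (y * x) * g * (y * x)⁻¹ = g ^ (a * b) := by
      calc (y * x) * g * (y * x)⁻¹ = y * (x * g * x⁻¹) * y⁻¹ := by group
        _ = y * g ^ a * y⁻¹ := by rw [hxa]
        _ = (y * g * y⁻¹) ^ a := by rw [conj_zpow]
        _ = (g ^ b) ^ a := by rw [hyb]
        _ = g ^ (a * b) := by rw [← zpow_mul, mul_comm]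
    have h3 : (x * y) * g * (x * y)⁻¹ = (y * x) * g * (y * x)⁻¹ := h1.trans h2.symm
    calc c * g = (y * x)⁻¹ * ((x * y) * g * (x * y)⁻¹) * (x * y) := by rw [hc]; group
      _ = (y * x)⁻¹ * ((y * x) * g * (y * x)⁻¹) * (x * y) := by rw [h3]
      _ = g * c := by rw [hc]; group
  -- c acts on the support of g as a power of g
  obtain ⟨a0, ha0, hcyc⟩ := hgc
  have hcomm' : ∀ z, c (g z) = g (c z) := by
    intro z
    rw [← Perm.mul_apply, ← Perm.mul_apply, hcomm]
  have hca0 : g (c a0) ≠ c a0 := by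
    rw [← hcomm']
    exact fun h => ha0 (c.injective h)
  obtain ⟨i, hi⟩ := hcyc hca0
  have hcommpow : ∀ (j : ℤ) z, c ((g ^ j) z) = (g ^ j) (c z) := by
    intro j z
    have : c * g ^ j = g ^ j * c := (Commute.zpow_right hcomm j)
    rw [← Perm.mul_apply, ← Perm.mul_apply, this]
  have hcsupp : ∀ z ∈ g.support, c z = (g ^ i) z := by
    intro z hz
    obtain ⟨j, hj⟩ := hcyc (Perm.mem_support.mp hz)
    rw [← hj, hcommpow, ← hi, ← Perm.mul_apply, ← Perm.mul_apply, ← zpow_add, ← zpow_add,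
      add_comm]
  -- the three-cycle
  have hgpowΔ : ∀ d ∈ g.supportᶜ, (g ^ i)⁻¹ d = d := by
    intro d hd
    rw [Perm.inv_eq_iff_eq]
    symm
    apply Perm.zpow_apply_eq_self_of_apply_eq_self
    exact Perm.notMem_support.mp (Finset.mem_compl.mp hd)
  have hgpowsupp : ∀ z ∈ g.support, (g ^ i)⁻¹ z ∈ g.support := by
    intro z hz
    by_contra hnot
    have h1 := hgpowΔ _ (Finset.mem_compl.mpr hnot)
    have h2 : (g ^ i)⁻¹ ((g ^ i)⁻¹ z) = (g ^ i)⁻¹ z := h1
    have h3 := (g ^ i)⁻¹.injective h2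
    rw [h3] at hnot
    exact hnot hz
  have hteq : c * (g ^ i)⁻¹ = (σ * τ) * (σ * τ) := by
    ext z
    by_cases hz : z ∈ g.support
    · rw [Perm.mul_apply, hcsupp _ (hgpowsupp z hz)]
      have : (g ^ i) ((g ^ i)⁻¹ z) = z := by simp
      rw [this]
      simp only [Perm.mul_apply]
      rw [hτ z hz, hσ z hz, hτ z hz, hσ z hz]
    · have hz' : z ∈ g.supportᶜ := Finset.mem_compl.mpr hz
      rw [Perm.mul_apply, hgpowΔ z hz', hcΔ z hz']
      simp only [Perm.mul_apply]
  refine ⟨(σ * τ) * (σ * τ), ?_, ?_⟩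
  · rw [← hteq]
    exact G.mul_mem hcG (G.inv_mem (G.zpow_mem hg i))
  · have h3 : (swap d2 d1 * swap d2 d3).IsThreeCycle :=
      isThreeCycle_swap_mul_swap_same h12.symm h23 h13
    rw [hσdef, hτdef, swap_comm d1 d2]
    exact h3.isThreeCycle_sq

end Cfsg.Agent.Helper4.JordanCycle
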