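import Mathlib
import Cfsg.Agent.S0713

set_option autoImplicit false
set_option linter.unusedSectionVars false
set_option linter.unusedVariables false

/-! # S0679 (driver helper13, chapter (6) designer helper18): piece J (helper4). -/

namespace Cfsg.Agent.S0679P

open Equiv MulAction

variable {α : Type*} [Fintype α] [DecidableEq α] {G : Subgroup (Equiv.Perm α)}

/-- J (S): Jordan, packaged. -/
theorem J (h11 : Fintype.card α = 11) (h2 : IsMultiplyPretransitive G α 2)
    (hA : ¬ alternatingGroup α ≤ G) {g : Perm α} (hg : g ∈ G) (hc : g.IsCycle)
    (hp : g.support.card.Prime) (h8 : g.support.card ≤ 8) : False := by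
  have hprim : IsPreprimitive G α := isPreprimitive_of_is_two_pretransitive h2
  exact hA (Cfsg.Agent.S0713.result G hprim hp (by omega) (by omega) hc rfl hg)

end Cfsg.Agent.S0679P
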