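import Mathlib
import Cfsg.Agent.Helper1.S0997TDefs

set_option autoImplicit false

/-! T-ADJ piece of the S0997 (Tuan half) drive: adjoint calculus for a nondegenerate form. -/

namespace Cfsg.Agent.S0997P

open Cfsg.Agent.Helper5.GC Module Cfsg.Agent.S4504P

theorem adj_apply {k : Type*} [Field k] {M : Type*} [AddCommGroup M] [Module k M]
    [FiniteDimensional k M] (β : LinearMap.BilinForm k M) (hβn : β.Nondegenerate)
    (φ : Module.End k M) (v w : M) :
    β (β.leftAdjointOfNondegenerate hβn φ v) w = β v (φ w) :=
  LinearMap.BilinForm.isAdjointPairLeftAdjointOfNondegenerate β hβn φ v w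

theorem adj_unique {k : Type*} [Field k] {M : Type*} [AddCommGroup M] [Module k M]
    [FiniteDimensional k M] (β : LinearMap.BilinForm k M) (hβn : β.Nondegenerate)
    (φ ψ : Module.End k M) (h : ∀ v w, β (ψ v) w = β v (φ w)) :
    β.leftAdjointOfNondegenerate hβn φ = ψ :=
  ((LinearMap.BilinForm.isAdjointPair_iff_eq_of_nondegenerate β hβn ψ φ).mp h).symm

theorem adj_add {k : Type*} [Field k] {M : Type*} [AddCommGroup M] [Module k M]
    [FiniteDimensional k M] (β : LinearMap.BilinForm k M) (hβn : β.Nondegenerate)
    (φ ψ : Module.End k M) :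
    β.leftAdjointOfNondegenerate hβn (φ + ψ) =
      β.leftAdjointOfNondegenerate hβn φ + β.leftAdjointOfNondegenerate hβn ψ := by
  apply adj_unique
  intro v w
  simp only [LinearMap.add_apply, map_add, adj_apply]

theorem adj_smul {k : Type*} [Field k] {M : Type*} [AddCommGroup M] [Module k M]
    [FiniteDimensional k M] (β : LinearMap.BilinForm k M) (hβn : β.Nondegenerate)
    (c : k) (φ : Module.End k M) :
    β.leftAdjointOfNondegenerate hβn (c • φ) = c • β.leftAdjointOfNondegenerate hβn φ := by
  apply adj_unique
  intro v w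
  simp only [LinearMap.smul_apply, map_smul, adj_apply]

theorem adj_mul {k : Type*} [Field k] {M : Type*} [AddCommGroup M] [Module k M]
    [FiniteDimensional k M] (β : LinearMap.BilinForm k M) (hβn : β.Nondegenerate)
    (φ ψ : Module.End k M) :
    β.leftAdjointOfNondegenerate hβn (φ * ψ) =
      β.leftAdjointOfNondegenerate hβn ψ * β.leftAdjointOfNondegenerate hβn φ := by
  apply adj_unique
  intro v w
  simp only [Module.End.mul_apply, adj_apply]

theorem adj_adj {k : Type*} [Field k] {M : Type*} [AddCommGroup M] [Module k M]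
    [FiniteDimensional k M] (β : LinearMap.BilinForm k M) (hβn : β.Nondegenerate)
    (hβs : ∀ v w, β v w = β w v) (φ : Module.End k M) :
    β.leftAdjointOfNondegenerate hβn (β.leftAdjointOfNondegenerate hβn φ) = φ := by
  apply adj_unique
  intro v w
  rw [hβs (φ v) w, ← adj_apply β hβn φ w v, hβs]

theorem adj_rep {k : Type*} [Field k] {G : Type*} [Group G] {M : Type*} [AddCommGroup M]
    [Module k M] [FiniteDimensional k M] (β : LinearMap.BilinForm k M) (hβn : β.Nondegenerate)
    (σ : Representation k G M) (hβinv : ∀ g v w, β (σ g v) (σ g w) = β v w) (g : G) :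
    β.leftAdjointOfNondegenerate hβn (σ g) = σ g⁻¹ := by
  apply adj_unique
  intro v w
  have := hβinv g (σ g⁻¹ v) w
  rw [← Module.End.mul_apply, ← map_mul, mul_inv_cancel, map_one, Module.End.one_apply] at this
  exact this.symm

theorem trace_adj {k : Type*} [Field k] {M : Type*} [AddCommGroup M] [Module k M]
    [FiniteDimensional k M] (β : LinearMap.BilinForm k M) (hβn : β.Nondegenerate)
    (φ : Module.End k M) :
    LinearMap.trace k M (β.leftAdjointOfNondegenerate hβn φ) = LinearMap.trace k M φ := by
  have key : β.leftAdjointOfNondegenerate hβn φ =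
      (β.toDual hβn).symm.conj (Module.Dual.transpose (R := k) φ) := by
    apply LinearMap.ext
    intro v
    rw [LinearEquiv.conj_apply_apply, LinearEquiv.symm_symm]
    apply (β.toDual hβn).injective
    rw [LinearEquiv.apply_symm_apply]
    apply LinearMap.ext
    intro w
    rw [LinearMap.BilinForm.toDual_def, adj_apply, Module.Dual.transpose_apply,
      LinearMap.comp_apply, LinearMap.BilinForm.toDual_def]
  rw [key, LinearMap.trace_conj', LinearMap.trace_transpose']

end Cfsg.Agent.S0997P
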