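import Mathlib
import Cfsg.Agent.Helper1.S0997TDefs

set_option autoImplicit false

/-! T-CYC3 piece of the S0997 (Tuan half) drive. -/

namespace Cfsg.Agent.S0997P

open Cfsg.Agent.Helper5.GC Module Cfsg.Agent.S4504P

theorem cyc3_nondegenerate {k : Type*} [Field k] {A : Type*} [AddCommGroup A] [Module k A]
    (B : LinearMap.BilinForm k A) (hBs : ∀ a b, B a b = B b a) (X u : Module.End k A)
    (hu : u = X - 1) (hXB : ∀ a b, B (X a) (X b) = B a b) (a : A) (h3 : (u ^ 3) a = 0)
    (hne : B a ((u ^ 2) a) ≠ 0) :
    finrank k (Submodule.span k ({a, u a, (u ^ 2) a} : Set A)) = 3 ∧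
      (B.restrict (Submodule.span k ({a, u a, (u ^ 2) a} : Set A))).Nondegenerate := by
  set a1 := u a with ha1
  set a2 := (u ^ 2) a with ha2
  have hX : ∀ b, X b = b + u b := by
    intro b
    rw [hu, LinearMap.sub_apply, Module.End.one_apply, add_sub_cancel]
  have hua1 : u a1 = a2 := by
    rw [ha1, ha2, pow_two, Module.End.mul_apply]
  have hua2 : u a2 = 0 := by
    rw [ha2, ← Module.End.mul_apply, ← pow_succ', h3]
  have hXa2 : X a2 = a2 := by rw [hX, hua2, add_zero]
  set g := B a a2 with hg
  -- `B (u b) a2 = 0`
  have h0 : ∀ b, B (u b) a2 = 0 := by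
    intro b
    have h1 := hXB b a2
    rw [hXa2, hX, map_add, LinearMap.add_apply] at h1
    linear_combination h1
  have h12 : B a1 a2 = 0 := h0 a
  have h22 : B a2 a2 = 0 := by
    have := h0 a1
    rwa [hua1] at this
  have h11 : B a1 a1 = -g := by
    have h1 := hXB a a1
    rw [hX a, hX a1, hua1, ← ha1] at h1
    simp only [map_add, LinearMap.add_apply] at h1
    rw [h12] at h1
    linear_combination h1
  have h21 : B a2 a1 = 0 := by rw [hBs]; exact h12
  have h20 : B a2 a = g := by rw [hBs]
  -- the key computation
  have key : ∀ c0 c1 c2 : k, (∀ w ∈ ({a, a1, a2} : Set A),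
      B (c0 • a + c1 • a1 + c2 • a2) w = 0) → c0 = 0 ∧ c1 = 0 ∧ c2 = 0 := by
    intro c0 c1 c2 h
    have e2 := h a2 (by simp)
    have e1 := h a1 (by simp)
    have e0 := h a (by simp)
    simp only [map_add, map_smul, LinearMap.add_apply, LinearMap.smul_apply, smul_eq_mul] at e0 e1 e2
    rw [h12, h22, ← hg] at e2
    rw [h11, h21] at e1
    rw [h20] at e0
    have hc0 : c0 = 0 := by
      have : c0 * g = 0 := by linear_combination e2
      exact (mul_eq_zero.mp this).resolve_right hne
    subst hc0
    have hc1 : c1 = 0 := by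
      have : c1 * g = 0 := by linear_combination -e1
      exact (mul_eq_zero.mp this).resolve_right hne
    subst hc1
    have hc2 : c2 = 0 := by
      have : c2 * g = 0 := by linear_combination e0
      exact (mul_eq_zero.mp this).resolve_right hne
    exact ⟨rfl, rfl, hc2⟩
  constructor
  · have hli : LinearIndependent k ![a, a1, a2] := by
      rw [Fintype.linearIndependent_iff]
      intro c hc
      rw [Fin.sum_univ_three] at hc
      simp only [Matrix.cons_val_zero, Matrix.cons_val_one, Matrix.cons_val_two,
        Matrix.head_cons, Matrix.tail_cons] at hc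
      obtain ⟨h0', h1', h2'⟩ := key (c 0) (c 1) (c 2) (by
        intro w _
        rw [hc]
        simp)
      intro i
      fin_cases i
      · exact h0'
      · exact h1'
      · exact h2'
    have := finrank_span_eq_card hli
    rw [Fintype.card_fin] at this
    have h2 : Set.range ![a, a1, a2] = ({a, a1, a2} : Set A) := by
      ext z
      simp only [Set.mem_range, Set.mem_insert_iff, Set.mem_singleton_iff]
      constructor
      · rintro ⟨i, rfl⟩
        fin_cases i <;> simp
      · rintro (rfl | rfl | rfl)
        · exact ⟨0, rfl⟩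
        · exact ⟨1, rfl⟩
        · exact ⟨2, rfl⟩
    rw [h2] at this
    exact this
  · have hsep : ∀ x : Submodule.span k ({a, a1, a2} : Set A),
        (∀ y : Submodule.span k ({a, a1, a2} : Set A),
          B.restrict (Submodule.span k ({a, a1, a2} : Set A)) x y = 0) → x = 0 := by
      rintro ⟨x, hx⟩ hxy
      obtain ⟨c0, c1, c2, rfl⟩ := Submodule.mem_span_triple.mp hx
      obtain ⟨h0', h1', h2'⟩ := key c0 c1 c2 (by
        intro w hw
        exact hxy ⟨w, Submodule.subset_span hw⟩)
      apply Subtype.ext
      simp [h0', h1', h2']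
    refine ⟨hsep, ?_⟩
    intro y hy
    apply hsep
    intro x
    have := hy x
    change B (x : A) (y : A) = 0 at this
    change B (y : A) (x : A) = 0
    rw [hBs]
    exact this

end Cfsg.Agent.S0997P
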