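import Mathlib
import Cfsg.Agent.Helper1.S0997TDefs

set_option autoImplicit false

/-! T-ORTHPROJ piece of the S0997 (Tuan half) drive: the orthogonal projection onto a nondegenerate
`N`-stable subspace. -/

namespace Cfsg.Agent.S0997P

open Cfsg.Agent.Helper5.GC Module Cfsg.Agent.S4504P

theorem exists_orth_projection {k : Type*} [Field k] {G : Type*} [Group G]
    {A : Type*} [AddCommGroup A] [Module k A] [FiniteDimensional k A]
    (ρ : Representation k G A) (B : LinearMap.BilinForm k A) (hBs : ∀ a b, B a b = B b a)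
    (hinv : ∀ g a b, B (ρ g a) (ρ g b) = B a b) (N : Subgroup G) (C : Submodule k A)
    (hC : ∀ g ∈ N, ∀ a ∈ C, ρ g a ∈ C) (hnd : (B.restrict C).Nondegenerate) :
    ∃ π : Module.End k A, π * π = π ∧ IsHomOn ρ ρ N π ∧ LinearMap.range π = C ∧
      ∀ a b, B (π a) b = B a (π b) := by
  have hrefl : B.IsRefl := by
    intro x y h
    rw [hBs]; exact h
  have hcompl : IsCompl C (B.orthogonal C) :=
    LinearMap.BilinForm.isCompl_orthogonal_of_restrict_nondegenerate hrefl hnd
  set pr := C.projectionOnto (B.orthogonal C) hcompl with hpr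
  set π : Module.End k A := C.subtype ∘ₗ pr with hπ
  have hπC : ∀ a, π a ∈ C := fun a => (pr a).2
  have hπ_of_mem : ∀ c ∈ C, π c = c := by
    intro c hc
    rw [hπ, LinearMap.comp_apply, hpr, Submodule.projectionOnto_apply_of_mem_left hcompl hc]
    rfl
  have hπ_of_orth : ∀ c ∈ B.orthogonal C, π c = 0 := by
    intro c hc
    rw [hπ, LinearMap.comp_apply, hpr, Submodule.projectionOnto_apply_of_mem_right hcompl hc,
      map_zero]
  -- decomposition
  have hdec : ∀ a, a - π a ∈ B.orthogonal C := by
    intro a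
    have h1 : pr (a - π a) = 0 := by
      rw [map_sub]
      have : pr (π a) = pr a := Submodule.projectionOnto_apply_left hcompl (pr a)
      rw [this, sub_self]
    exact (Submodule.projectionOnto_apply_eq_zero_iff hcompl).mp h1
  have horth : ∀ c ∈ C, ∀ c' ∈ B.orthogonal C, B c c' = 0 := by
    intro c hc c' hc'
    exact (LinearMap.BilinForm.mem_orthogonal_iff.mp hc') c hc
  refine ⟨π, ?_, ?_, ?_, ?_⟩
  · apply LinearMap.ext
    intro a
    rw [Module.End.mul_apply]
    exact hπ_of_mem _ (hπC a)
  · intro g hg v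
    -- `ρ g v = ρ g (π v) + ρ g (v - π v)`
    have hg' : g⁻¹ ∈ N := N.inv_mem hg
    have h1 : ρ g (π v) ∈ C := hC g hg _ (hπC v)
    have h2 : ρ g (v - π v) ∈ B.orthogonal C := by
      rw [LinearMap.BilinForm.mem_orthogonal_iff]
      intro n hn
      have := hinv g⁻¹ n (ρ g (v - π v))
      rw [← Module.End.mul_apply (ρ g⁻¹) (ρ g), ← map_mul, inv_mul_cancel, map_one,
        Module.End.one_apply] at this
      rw [← this]
      exact horth _ (hC g⁻¹ hg' n hn) _ (hdec v)
    have h3 : ρ g v = ρ g (π v) + ρ g (v - π v) := by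
      rw [← map_add, add_sub_cancel]
    rw [h3, map_add, hπ_of_mem _ h1, hπ_of_orth _ h2, add_zero]
  · apply le_antisymm
    · rintro _ ⟨a, rfl⟩
      exact hπC a
    · intro c hc
      exact ⟨c, hπ_of_mem c hc⟩
  · intro a b
    have ha := hdec a
    have hb := hdec b
    have e1 : B (π a) b = B (π a) (π b) := by
      have : B (π a) (b - π b) = 0 := horth _ (hπC a) _ hb
      rw [map_sub, sub_eq_zero] at this
      exact this
    have e2 : B a (π b) = B (π a) (π b) := by
      have : B (π b) (a - π a) = 0 := horth _ (hπC b) _ ha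
      rw [map_sub, sub_eq_zero] at this
      rw [hBs a, this, hBs]
    rw [e1, e2]

end Cfsg.Agent.S0997P
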