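import Mathlib
import Cfsg.Agent.Helper2.S2094.DefsA
import Cfsg.Agent.Helper22.S2094CONJLS

set_option autoImplicit false
set_option linter.unusedSectionVars false
set_option linter.unusedVariables false

/-! S2094 piece YTMAP (helper4; driver helper2): the canonical lifts of the short root elements are
lifts. -/

namespace Cfsg.Agent.S2094P

open Matrix Cfsg.Agent.S3352P Cfsg.Agent.S3351P Cfsg.Agent.S2096P Cfsg.Agent.S2086P
open scoped commutatorElement

variable {n : ℕ} {F : Type*} [Field F] [Fintype F] {G : Type*} [Group G] {E : Type*} [Group E]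
  {X : J n → J n → F → G} {Ys : J n → F → G}

namespace YTMAP

/-- the torus element `tX X a k lam` acts on `Ys a` by `lam` -/
theorem tX_conj_Ys_fst (hB : BRel X Ys) {a k : J n} (hak : IsRoot a k) {lam : F} (hl0 : lam ≠ 0)
    (v : F) : tX X a k lam * Ys a v * (tX X a k lam)⁻¹ = Ys a (lam * v) := by
  have hm1 : (-1 : F) ≠ 0 := neg_ne_zero.mpr one_ne_zero
  have h1 := wX_conj_Ys_fst hB hak hm1 v
  have h2 := wX_conj_Ys_snd hB hak hl0 v
  have e : (-((-1 : F)⁻¹ * v)) = v := by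
    rw [inv_neg, inv_one]; ring
  rw [e] at h1
  unfold tX
  calc wX X a k lam * wX X a k (-1) * Ys a v * (wX X a k lam * wX X a k (-1))⁻¹
      = wX X a k lam * (wX X a k (-1) * Ys a v * (wX X a k (-1))⁻¹) * (wX X a k lam)⁻¹ := by group
    _ = Ys a (lam * v) := by rw [h1, h2]

end YTMAP

/-- YTMAP -/
theorem map_YT (π : G →* Matrix (I n) (I n) F)
    (hπX : ∀ a b, IsRoot a b → ∀ t : F, π (X a b t) = xmB a b t)
    (hπY : ∀ a, ∀ t : F, π (Ys a t) = ymB a t) (hn : 3 ≤ n) (h2 : (2 : F) ≠ 0)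
    (hB : BRel X Ys) (ψ : E →* G) (hψ : Function.Surjective ψ) {lam : F} (hl0 : lam ≠ 0)
    (hl1 : lam ≠ 1) (a : J n) (t : F) : ψ (YT X Ys ψ hψ hn lam a t) = Ys a t := by
  unfold YT
  rw [map_cl, commutatorElement_def,
    YTMAP.tX_conj_Ys_fst hB (isRoot_left_th hn a a) hl0, Ys_inv hB, ← hB.yadd]
  congr 1
  have h : lam - 1 ≠ 0 := sub_ne_zero.mpr hl1
  field_simp
  ring

end Cfsg.Agent.S2094P
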