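import Mathlib
import Cfsg.Agent.Helper2.S2094.DefsA
import Cfsg.Agent.Helper4.S2094YTMAP
import Cfsg.Agent.Helper7.S2094CLYY

set_option autoImplicit false
set_option linter.unusedSectionVars false
set_option linter.unusedVariables false

/-! S2094 piece YTADD (helper4; driver helper2): additivity of the canonical lifts of the short root
elements (`lam ≠ 0`; the statement is false for `lam = 0`). -/

namespace Cfsg.Agent.S2094P

open Matrix Cfsg.Agent.S3352P Cfsg.Agent.S3351P Cfsg.Agent.S2096P Cfsg.Agent.S2086P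
open scoped commutatorElement

variable {n : ℕ} {F : Type*} [Field F] [Fintype F] {G : Type*} [Group G] {E : Type*} [Group E]
  {X : J n → J n → F → G} {Ys : J n → F → G}

namespace YTADD

/-- additivity of a canonical commutator in the second variable -/
theorem cl_mul_right (ψ : E →* G) (hψ : Function.Surjective ψ) (hc : ψ.ker ≤ Subgroup.center E)
    {x y y' : G} (h : CL ψ y ⁅x, y'⁆) :
    cl ψ hψ x (y * y') = cl ψ hψ x y * cl ψ hψ x y' := by
  obtain ⟨a, ha⟩ := hψ x
  obtain ⟨b, hb⟩ := hψ y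
  obtain ⟨b', hb'⟩ := hψ y'
  rw [← cl_eq ψ hψ hc (e := a) (e' := b * b') ha (by rw [map_mul, hb, hb']),
    ← cl_eq ψ hψ hc ha hb, ← cl_eq ψ hψ hc ha hb']
  have hcomm : Commute b ⁅a, b'⁆ := h b ⁅a, b'⁆ hb (by rw [map_commutatorElement, ha, hb'])
  have e1 : ⁅a, b * b'⁆ = ⁅a, b⁆ * (b * ⁅a, b'⁆ * b⁻¹) := by
    simp only [commutatorElement_def]; group
  rw [e1, hcomm.eq, mul_inv_cancel_right]

end YTADD

/-- YTADD -/
theorem YT_add (hn : 3 ≤ n) (hB : BRel X Ys) (ψ : E →* G) (hψ : Function.Surjective ψ)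
    (hc : ψ.ker ≤ Subgroup.center E) (hL : LongOK X ψ hψ hn) {lam : F} (hl0 : lam ≠ 0) (a : J n)
    (s t : F) :
    YT X Ys ψ hψ hn lam a (s + t) = YT X Ys ψ hψ hn lam a s * YT X Ys ψ hψ hn lam a t := by
  unfold YT
  rw [mul_add, hB.yadd]
  apply YTADD.cl_mul_right ψ hψ hc
  rw [commutatorElement_def, YTMAP.tX_conj_Ys_fst hB (isRoot_left_th hn a a) hl0, Ys_inv hB,
    ← hB.yadd]
  exact cl_Ys_Ys hn hB ψ hψ hc hL a _ _

end Cfsg.Agent.S2094P
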