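import Mathlib
import Cfsg.Prelude.Def_Classical
import Cfsg.Agent.Helper13.S2496Defs

/-! S2496 piece TORUS (driver helper13; helper4): the torus `tor s` of the model `K × K`. -/

set_option autoImplicit false

namespace Cfsg.Agent.S2496P

variable {F K : Type*} [Field F] [Fintype F] [Field K] [Algebra F K] [Finite K] {p : ℕ}
  [Fact p.Prime] [CharP F p] [CharP K p] {f q : ℕ}

namespace TORUS

theorem frob_algebraMap'' (c : F) :
    frob K p f (algebraMap F K c) = algebraMap F K (frob F p f c) := by
  rw [frob_apply, frob_apply, map_pow]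

theorem norm_frob' (s : K) :
    Algebra.norm F (frob K p f s) = frob F p f (Algebra.norm F s) := by
  rw [frob_apply, frob_apply, map_pow]

theorem frob_ne_zero {s : K} (hs : s ≠ 0) : frob K p f s ≠ 0 := by
  rw [frob_apply]
  exact pow_ne_zero _ hs

theorem algNorm_inv (x : K) : Algebra.norm F x⁻¹ = (Algebra.norm F x)⁻¹ := by
  by_cases hx : x = 0
  · rw [hx, inv_zero, Algebra.norm_zero, inv_zero]
  · apply eq_inv_of_mul_eq_one_left
    rw [← map_mul, inv_mul_cancel₀ hx, map_one]

theorem det_mulLeft (s : K) : LinearMap.det (LinearMap.mulLeft F s) = Algebra.norm F s := by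
  rw [Algebra.norm_apply]
  congr 1

end TORUS

open TORUS

theorem tor_one : tor F K p f 1 = LinearMap.id := by
  apply LinearMap.ext
  intro u
  rw [tor_apply, map_one, inv_one, one_mul, one_mul]
  rfl

theorem tor_mul (s s' : K) : tor F K p f (s * s') = tor F K p f s ∘ₗ tor F K p f s' := by
  apply LinearMap.ext
  intro u
  rw [LinearMap.comp_apply, tor_apply, tor_apply, tor_apply, map_mul, mul_inv, mul_assoc,
    mul_assoc]

theorem tor_pow (s : K) (k : ℕ) : tor F K p f (s ^ k) = (tor F K p f s) ^ k := by
  induction k with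
  | zero => rw [pow_zero, pow_zero, tor_one]; rfl
  | succ k ih => rw [pow_succ', pow_succ', tor_mul, ih]; rfl

theorem tor_injective : Function.Injective (tor F K p f) := by
  intro s s' h
  have := congrArg (fun g : K × K →ₗ[F] K × K => (g (0, 1)).2) h
  simpa [tor_apply] using this

theorem mform_tor (s : K) (hs : s ≠ 0) (u v : K × K) :
    mform F K p f (tor F K p f s u) (tor F K p f s v) = mform F K p f u v := by
  have h0 := frob_ne_zero (p := p) (f := f) hs
  unfold mform
  rw [tor_apply, tor_apply]
  simp only [map_mul]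
  have e1 : (frob K p f s)⁻¹ * u.1 * (frob K p f s * frob K p f v.2) = u.1 * frob K p f v.2 := by
    field_simp
  have e2 : (frob K p f s)⁻¹ * v.1 * (frob K p f s * frob K p f u.2) = v.1 * frob K p f u.2 := by
    field_simp
  rw [e1, e2]

theorem det_tor (s : K) :
    LinearMap.det (tor F K p f s) = (frob F p f (Algebra.norm F s))⁻¹ * Algebra.norm F s := by
  unfold tor
  rw [LinearMap.det_prodMap, det_mulLeft, det_mulLeft, algNorm_inv, norm_frob']

theorem tor_eq_smul_iff (s : K) (hs : s ≠ 0) (c : F) :
    tor F K p f s = c • LinearMap.id ↔ (s = algebraMap F K c ∧ frob F p f c * c = 1) := by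
  have h0 := frob_ne_zero (p := p) (f := f) hs
  constructor
  · intro h
    have h1 : s = algebraMap F K c := by
      have := congrArg (fun g : K × K →ₗ[F] K × K => (g (0, 1)).2) h
      simpa [tor_apply, Algebra.smul_def] using this
    refine ⟨h1, ?_⟩
    have h2 : (frob K p f s)⁻¹ = algebraMap F K c := by
      have := congrArg (fun g : K × K →ₗ[F] K × K => (g (1, 0)).1) h
      simpa [tor_apply, Algebra.smul_def] using this
    have h3 : algebraMap F K (frob F p f c * c) = 1 := by
      rw [map_mul, ← frob_algebraMap'']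
      nth_rewrite 2 [← h2]
      rw [← h1]
      exact mul_inv_cancel₀ h0
    exact (algebraMap F K).injective (h3.trans (map_one _).symm)
  · rintro ⟨h1, h2⟩
    have h3 : (frob K p f s)⁻¹ = algebraMap F K c := by
      rw [h1, frob_algebraMap'']
      apply inv_eq_of_mul_eq_one_right
      rw [← map_mul, h2, map_one]
    apply LinearMap.ext
    intro u
    rw [tor_apply, h3, ← h1]
    rw [LinearMap.smul_apply, LinearMap.id_apply]
    apply Prod.ext
    · rw [Prod.smul_fst, Algebra.smul_def, ← h1]
    · rw [Prod.smul_snd, Algebra.smul_def, ← h1]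

end Cfsg.Agent.S2496P
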