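import Mathlib
import Cfsg.Prelude.Def_Transfer

/-!
# S4404 (Thompson, N-groups, a lemma on solvable groups): definitions for the piece board `s4404pieces`

Everything is *internal*: `S` is the ambient finite group, `M` a normal elementary abelian `2`-subgroup of `S`
(the "module"), all other groups are subgroups of `S` of odd order acting on `M` by conjugation.

* `Wc M g = [M, g]` (the commutator subgroup `⁅M, zpowers g⁆`, a subgroup of `M` when `M` is normal).
* `HasE3 r H` : `H` contains an elementary abelian subgroup of order `r ^ 3`.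
* `MinAct T₀ a` : `a` normalises `T₀`, does not centralise it, but centralises every proper `a`-invariant subgroup.
* `Fr P = Φ(P)`, `Zc P = Z(P)` as subgroups of `S`.
* `RD r d` : `(r, d) = (3, 2)` or `(7, 3)` (an odd prime `r` and the order `d` of `2` modulo `r`).
-/

set_option autoImplicit false

namespace Cfsg.Agent.S4404P

variable {S : Type*} [Group S]

/-- the commutator `[M, g]`, as a subgroup of `S`. -/
def Wc (M : Subgroup S) (g : S) : Subgroup S := ⁅M, Subgroup.zpowers g⁆

/-- `H` contains an elementary abelian subgroup of order `r ^ 3`. -/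
def HasE3 (r : ℕ) (H : Subgroup S) : Prop :=
  ∃ B : Subgroup S, B ≤ H ∧ Cfsg.IsElementaryAbelian r B ∧ Nat.card ↥B = r ^ 3

/-- `a` normalises `T₀`, does not centralise it, and centralises every proper `a`-invariant subgroup of `T₀`. -/
def MinAct (T₀ : Subgroup S) (a : S) : Prop :=
  a ∈ Subgroup.normalizer (T₀ : Set S) ∧ a ∉ Subgroup.centralizer (T₀ : Set S) ∧
    ∀ T' : Subgroup S, T' ≤ T₀ → T' ≠ T₀ → a ∈ Subgroup.normalizer (T' : Set S) →
      a ∈ Subgroup.centralizer (T' : Set S)

/-- the Frattini subgroup of `P`, as a subgroup of `S`. -/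
def Fr (P : Subgroup S) : Subgroup S := (frattini ↥P).map P.subtype

/-- the centre of `P`, as a subgroup of `S`. -/
def Zc (P : Subgroup S) : Subgroup S := P ⊓ Subgroup.centralizer (P : Set S)

/-- `(r, d) = (3, 2)` or `(7, 3)`. -/
def RD (r d : ℕ) : Prop := (r = 3 ∧ d = 2) ∨ (r = 7 ∧ d = 3)

theorem HasE3.mono {r : ℕ} {H K : Subgroup S} (h : HasE3 r H) (hHK : H ≤ K) : HasE3 r K := by
  obtain ⟨B, hB, h1, h2⟩ := h
  exact ⟨B, hB.trans hHK, h1, h2⟩

theorem Fr_le (P : Subgroup S) : Fr P ≤ P := by
  unfold Fr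
  intro x hx
  obtain ⟨y, _, rfl⟩ := hx
  exact y.2

theorem Zc_le (P : Subgroup S) : Zc P ≤ P := inf_le_left

theorem RD.prime {r d : ℕ} (h : RD r d) : r.Prime := by
  rcases h with ⟨rfl, _⟩ | ⟨rfl, _⟩ <;> norm_num

theorem RD.ne_two {r d : ℕ} (h : RD r d) : r ≠ 2 := by
  rcases h with ⟨rfl, _⟩ | ⟨rfl, _⟩ <;> norm_num

end Cfsg.Agent.S4404P
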