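import Mathlib
import Cfsg.Prelude.Def_OddOrderLocal
import Cfsg.Agent.Lead.Coprime3
import Cfsg.Agent.Lead.CoprimeAbelian

/-!
# Group-theoretic lemmas for the sigma-partition argument (helper10's (N3)(e))

* `commutator_sup_le` : for abelian `A`, `B` with `B ≤ N(A)`: `[AB, AB] ≤ [A, B]`.
* `inf_centralizer_eq_bot_of_le_commutator` : abelian `E₃`, `E₁`, `E₁ ≤ N(E₃)`, coprime orders,
  `E₃ ≤ (E₃E₁)'` ⟹ `C_{E₃}(E₁) = 1`.
* `inf_centralizer_eq_sup` : `M = N ⋊ E`, `Z ≤ E` ⟹ `C_M(Z) = C_N(Z) C_E(Z)`.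
-/

set_option autoImplicit false
set_option linter.unusedSectionVars false
set_option linter.unusedVariables false

namespace Cfsg.Agent.Helper4.BG13E

open Subgroup Cfsg
open scoped commutatorElement

universe u
variable {G : Type u} [Group G]

/-- commutators with a fixed set `K` land in a subgroup `C` normalized by `A ⊔ B` as soon as they do
for `A` and for `B`. -/
theorem commutator_mem_of_sup {C A B : Subgroup G} (hA : A ≤ normalizer (C : Set G))
    (hB : B ≤ normalizer (C : Set G)) {K : Set G}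
    (h1 : ∀ a ∈ A, ∀ k ∈ K, ⁅a, k⁆ ∈ C) (h2 : ∀ b ∈ B, ∀ k ∈ K, ⁅b, k⁆ ∈ C) :
    ∀ x ∈ A ⊔ B, ∀ k ∈ K, ⁅x, k⁆ ∈ C := by
  have hAB : A ⊔ B ≤ normalizer (C : Set G) := sup_le hA hB
  intro x hx
  have hx' : x ∈ closure ((A : Set G) ∪ (B : Set G)) := by
    rw [Subgroup.closure_union, Subgroup.closure_eq, Subgroup.closure_eq]; exact hx
  have hcl : closure ((A : Set G) ∪ (B : Set G)) = A ⊔ B := by
    rw [Subgroup.closure_union, Subgroup.closure_eq, Subgroup.closure_eq]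
  induction hx' using Subgroup.closure_induction with
  | mem y hy =>
    rcases hy with hy | hy
    · exact h1 y hy
    · exact h2 y hy
  | one =>
    intro k _
    rw [commutatorElement_one_left]; exact C.one_mem
  | mul y z hy hz ihy ihz =>
    intro k hk
    have hyJ : y ∈ A ⊔ B := hcl ▸ hy
    have hzJ : z ∈ A ⊔ B := hcl ▸ hz
    have e : ⁅y * z, k⁆ = y * ⁅z, k⁆ * y⁻¹ * ⁅y, k⁆ := by
      simp only [commutatorElement_def]; group
    rw [e]
    refine C.mul_mem ?_ (ihy hyJ k hk)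
    exact (mem_normalizer_iff.mp (hAB hyJ) _).mp (ihz hzJ k hk)
  | inv y hy ihy =>
    intro k hk
    have hyJ : y ∈ A ⊔ B := hcl ▸ hy
    have e : ⁅y⁻¹, k⁆ = y⁻¹ * (⁅y, k⁆)⁻¹ * y⁻¹⁻¹ := by
      simp only [commutatorElement_def]; group
    rw [e]
    exact (mem_normalizer_iff.mp (hAB ((A ⊔ B).inv_mem hyJ)) _).mp (C.inv_mem (ihy hyJ k hk))

theorem commutatorElement_swap_mem {C : Subgroup G} {x y : G} (h : ⁅x, y⁆ ∈ C) : ⁅y, x⁆ ∈ C := by
  rw [← commutatorElement_inv]; exact C.inv_mem h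

/-- for abelian `A`, `B` with `B ≤ N(A)`: `[AB, AB] ≤ [A, B]`. -/
theorem commutator_sup_le {A B : Subgroup G} (habA : ∀ a ∈ A, ∀ b ∈ A, a * b = b * a)
    (habB : ∀ a ∈ B, ∀ b ∈ B, a * b = b * a) :
    ⁅A ⊔ B, A ⊔ B⁆ ≤ ⁅A, B⁆ := by
  have hA : A ≤ normalizer ((⁅A, B⁆ : Subgroup G) : Set G) :=
    Cfsg.Agent.Lead.le_normalizer_commutator_left A B
  have hB : B ≤ normalizer ((⁅A, B⁆ : Subgroup G) : Set G) :=
    Cfsg.Agent.Lead.le_normalizer_commutator_right A B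
  have one_mem' : (1 : G) ∈ ⁅A, B⁆ := (⁅A, B⁆).one_mem
  -- commutators of `A ⊔ B` with `A`
  have P3 : ∀ x ∈ A ⊔ B, ∀ k ∈ (A : Set G), ⁅x, k⁆ ∈ ⁅A, B⁆ := by
    apply commutator_mem_of_sup hA hB
    · intro a ha k hk
      rw [commutatorElement_eq_one_iff_mul_comm.mpr (habA a ha k hk)]; exact one_mem'
    · intro b hb k hk
      exact commutatorElement_swap_mem (Subgroup.commutator_mem_commutator hk hb)
  have P1 : ∀ x ∈ A ⊔ B, ∀ k ∈ (B : Set G), ⁅x, k⁆ ∈ ⁅A, B⁆ := by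
    apply commutator_mem_of_sup hA hB
    · intro a ha k hk
      exact Subgroup.commutator_mem_commutator ha hk
    · intro b hb k hk
      rw [commutatorElement_eq_one_iff_mul_comm.mpr (habB b hb k hk)]; exact one_mem'
  have P : ∀ x ∈ A ⊔ B, ∀ k ∈ ((A ⊔ B : Subgroup G) : Set G), ⁅x, k⁆ ∈ ⁅A, B⁆ := by
    apply commutator_mem_of_sup hA hB
    · intro a ha k hk
      exact commutatorElement_swap_mem (P3 k hk a ha)
    · intro b hb k hk
      exact commutatorElement_swap_mem (P1 k hk b hb)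
  rw [Subgroup.commutator_le]
  intro x hx y hy
  exact P x hx y hy

variable [Finite G]

/-- **(N3)(e)**: `E₃`, `E₁` abelian, `E₁ ≤ N(E₃)`, coprime orders, `E₃ ≤ (E₃E₁)'` ⟹
`C_{E₃}(E₁) = 1`. -/
theorem inf_centralizer_eq_bot_of_le_commutator {E₃ E₁ : Subgroup G}
    (hab3 : ∀ a ∈ E₃, ∀ b ∈ E₃, a * b = b * a) (hab1 : ∀ a ∈ E₁, ∀ b ∈ E₁, a * b = b * a)
    (hn : E₁ ≤ normalizer (E₃ : Set G)) (hcop : (Nat.card E₃).Coprime (Nat.card E₁))
    (hle : E₃ ≤ ⁅E₃ ⊔ E₁, E₃ ⊔ E₁⁆) : E₃ ⊓ centralizer (E₁ : Set G) = ⊥ := by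
  haveI : IsMulCommutative E₃ := ⟨⟨fun a b => Subtype.ext (hab3 a a.2 b b.2)⟩⟩
  have h1 : ⁅E₃, E₁⁆ = E₃ :=
    le_antisymm (Cfsg.Agent.Lead.commutator_le_of_le_normalizer hn)
      (hle.trans (commutator_sup_le hab3 hab1))
  have h2 := (Cfsg.Agent.Lead.coprime_abelian_decomp E₁ E₃ hn hcop.symm).1
  rw [h1] at h2
  rw [← h2]
  exact (inf_eq_left.mpr inf_le_left).symm

omit [Finite G] in
/-- **(N3)(e)**: `M = N ⋊ E`, `Z ≤ E` ⟹ `C_M(Z) = C_N(Z) C_E(Z)` (no coprimality needed). -/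
theorem inf_centralizer_eq_sup {M N E Z : Subgroup G} (hE : Cfsg.IsComplIn E N M)
    (hMN : M ≤ normalizer (N : Set G)) (hZE : Z ≤ E) :
    M ⊓ centralizer (Z : Set G) = (N ⊓ centralizer (Z : Set G)) ⊔ (E ⊓ centralizer (Z : Set G)) := by
  apply le_antisymm
  · intro m hm
    obtain ⟨hmM, hmZ⟩ := Subgroup.mem_inf.mp hm
    obtain ⟨a, ha, b, hb, rfl⟩ := hE.2.2.2 m hmM
    have key : ∀ z ∈ Z, z * a * z⁻¹ = a ∧ z * b * z⁻¹ = b := by
      intro z hz
      have hzc : z * (a * b) = (a * b) * z := by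
        have := Subgroup.mem_centralizer_iff.mp hmZ z hz
        exact this
      have hzE : z ∈ E := hZE hz
      have hzb : z * b * z⁻¹ ∈ N := (mem_normalizer_iff.mp (hMN (hE.1 hzE)) b).mp hb
      have hx : a⁻¹ * (z * a * z⁻¹) ∈ E ⊓ N := by
        refine Subgroup.mem_inf.mpr ⟨E.mul_mem (E.inv_mem ha)
          (E.mul_mem (E.mul_mem hzE ha) (E.inv_mem hzE)), ?_⟩
        have e : a⁻¹ * (z * a * z⁻¹) = b * (z * b * z⁻¹)⁻¹ := by
          have h3 : z * a * z⁻¹ * (z * b * z⁻¹) = a * b := by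
            have : z * a * z⁻¹ * (z * b * z⁻¹) = z * (a * b) * z⁻¹ := by group
            rw [this, hzc]; group
          calc a⁻¹ * (z * a * z⁻¹) = a⁻¹ * (z * a * z⁻¹ * (z * b * z⁻¹)) * (z * b * z⁻¹)⁻¹ := by
                group
            _ = a⁻¹ * (a * b) * (z * b * z⁻¹)⁻¹ := by rw [h3]
            _ = b * (z * b * z⁻¹)⁻¹ := by group
        rw [e]
        exact N.mul_mem hb (N.inv_mem hzb)
      rw [hE.2.2.1, Subgroup.mem_bot] at hx
      have ha' : z * a * z⁻¹ = a := by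
        have h5 : z * a * z⁻¹ = a * (a⁻¹ * (z * a * z⁻¹)) := by group
        rw [h5, hx, mul_one]
      refine ⟨ha', ?_⟩
      have h3 : z * (a * b) * z⁻¹ = a * b := by rw [hzc]; group
      have h4 : z * (a * b) * z⁻¹ = (z * a * z⁻¹) * (z * b * z⁻¹) := by group
      rw [h4, ha'] at h3
      exact mul_left_cancel h3
    have haZ : a ∈ centralizer (Z : Set G) := by
      rw [Subgroup.mem_centralizer_iff]
      intro z hz
      have := (key z hz).1
      calc z * a = z * a * z⁻¹ * z := by group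
        _ = a * z := by rw [this]
    have hbZ : b ∈ centralizer (Z : Set G) := by
      rw [Subgroup.mem_centralizer_iff]
      intro z hz
      have := (key z hz).2
      calc z * b = z * b * z⁻¹ * z := by group
        _ = b * z := by rw [this]
    rw [sup_comm]
    exact Subgroup.mul_mem_sup (Subgroup.mem_inf.mpr ⟨ha, haZ⟩) (Subgroup.mem_inf.mpr ⟨hb, hbZ⟩)
  · exact sup_le (inf_le_inf_right _ hE.2.1) (inf_le_inf_right _ hE.1)

end Cfsg.Agent.Helper4.BG13E
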