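import Mathlib
import Cfsg.Prelude.Def_OddOrderLocal
import Cfsg.Agent.Helper4.BG13E
import Cfsg.Agent.Helper4.BG147L
import Cfsg.Agent.Helper21.BG12f
import Cfsg.Agent.Helper9.BG12f
import Cfsg.Agent.S1415

/-!
# (N3)(e) in the B&G setting: `M` maximal, `E` a complement of `M_σ`, `E₁`, `E₃` Hall `τ₁`-, `τ₃`-
subgroups of `E`, no `τ₂`-prime divides `|E|`.  Then `E = E₃E₁`, `C_{E₃}(E₁) = 1`, `C_E(E₁) = E₁`
and `C_M(E₁) = C_{M_σ}(E₁) E₁`.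
-/

set_option autoImplicit false
set_option linter.unusedSectionVars false
set_option linter.unusedVariables false

namespace Cfsg.Agent.Helper4.BG13E

open Subgroup Cfsg
open scoped commutatorElement

universe u
variable {G : Type u} [Group G] [Finite G]

/-- two Hall subgroups whose prime sets cover the primes of `|M|` generate `M` -/
theorem sup_eq_of_hall₂ {π₁ π₂ : Set ℕ} {A B M : Subgroup G}
    (hA : Cfsg.IsPiHallOf π₁ A M) (hB : Cfsg.IsPiHallOf π₂ B M)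
    (hcov : ∀ q : ℕ, q.Prime → q ∣ Nat.card M → q ∈ π₁ ∨ q ∈ π₂) : A ⊔ B = M := by
  have hJM : A ⊔ B ≤ M := sup_le hA.1 hB.1
  apply le_antisymm hJM
  rw [← Subgroup.relIndex_eq_one]
  by_contra hne
  obtain ⟨q, hq, hqd⟩ := Nat.exists_prime_and_dvd hne
  have h1 : q ∣ A.relIndex M := Cfsg.Agent.Helper4.BG147L.dvd_relIndex_of_le le_sup_left hJM hqd
  have h2 : q ∣ B.relIndex M := Cfsg.Agent.Helper4.BG147L.dvd_relIndex_of_le le_sup_right hJM hqd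
  have hqM : q ∣ Nat.card M := hqd.trans (Subgroup.relIndex_dvd_card _ _)
  rcases hcov q hq hqM with h | h
  · exact hA.2.2 q hq h h1
  · exact hB.2.2 q hq h h2

/-- a prime divisor of `|E|` (`E` a complement of `M_σ`) lies in `τ₁ ∪ τ₂ ∪ τ₃` -/
theorem mem_tau_of_dvd_card_compl (hG : Cfsg.IsMinSimpleOddOrder G) {M E : Subgroup G}
    (hM : IsCoatom M) (hE : Cfsg.IsComplIn E (Cfsg.sigmaCore M) M) {q : ℕ} (hq : q.Prime)
    (hqE : q ∣ Nat.card E) : q ∈ Cfsg.tau1 M ∨ q ∈ Cfsg.tau2 M ∨ q ∈ Cfsg.tau3 M := by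
  haveI : Fact q.Prime := ⟨hq⟩
  have hEh := Cfsg.Agent.H9.BG12.isPiHallOf_compl (Cfsg.Agent.Helper21.BG12.st1350 hG) hM hE
  have hqσ : q ∉ Cfsg.sigma M := hEh.2.1 q hq hqE
  have hqM : q ∣ Nat.card M := hqE.trans (Subgroup.card_dvd_of_le hE.1)
  have hr2 : Cfsg.PRankLE q 2 M :=
    Cfsg.Agent.Helper4.BG10.sigma'_pRankLE_two hG (Cfsg.Agent.Helper21.BG12.uniq hG) hM hqσ
  by_cases hr1 : Cfsg.PRankLE q 1 M
  · by_cases hd : q ∣ Nat.card ↥⁅M, M⁆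
    · exact Or.inr (Or.inr ⟨hq, hqσ, hd, hr1⟩)
    · exact Or.inl ⟨hq, hqσ, hqM, hd, hr1⟩
  · exact Or.inr (Or.inl ⟨hq, hqσ, hr2, hr1⟩)

/-- `E = E₃E₁` when no `τ₂`-prime divides `|E|` -/
theorem compl_eq_sup (hG : Cfsg.IsMinSimpleOddOrder G) {M E E₁ E₃ : Subgroup G}
    (hM : IsCoatom M) (hE : Cfsg.IsComplIn E (Cfsg.sigmaCore M) M)
    (hE₁ : Cfsg.IsPiHallOf (Cfsg.tau1 M) E₁ E) (hE₃ : Cfsg.IsPiHallOf (Cfsg.tau3 M) E₃ E)
    (hτ2 : ∀ q : ℕ, q.Prime → q ∣ Nat.card E → q ∉ Cfsg.tau2 M) : E₃ ⊔ E₁ = E := by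
  apply sup_eq_of_hall₂ hE₃ hE₁
  intro q hq hqE
  rcases mem_tau_of_dvd_card_compl hG hM hE hq hqE with h | h | h
  · exact Or.inr h
  · exact absurd h (hτ2 q hq hqE)
  · exact Or.inl h

theorem comm_of_isCyclic' {K : Subgroup G} (hK : IsCyclic K) : ∀ a ∈ K, ∀ b ∈ K, a * b = b * a := by
  intro a ha b hb
  obtain ⟨g, hg⟩ := hK.exists_generator
  obtain ⟨m, hm⟩ := Subgroup.mem_zpowers_iff.mp (hg ⟨a, ha⟩)
  obtain ⟨n, hn⟩ := Subgroup.mem_zpowers_iff.mp (hg ⟨b, hb⟩)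
  have hab : (⟨a, ha⟩ : ↥K) * ⟨b, hb⟩ = ⟨b, hb⟩ * ⟨a, ha⟩ := by
    rw [← hm, ← hn, ← zpow_add, ← zpow_add, add_comm]
  exact congrArg Subtype.val hab

/-- **(N3)(e), setting form.** -/
theorem centralizer_tau1_hall (hG : Cfsg.IsMinSimpleOddOrder G) {M E E₁ E₃ : Subgroup G}
    (hM : IsCoatom M) (hE : Cfsg.IsComplIn E (Cfsg.sigmaCore M) M)
    (hE₁ : Cfsg.IsPiHallOf (Cfsg.tau1 M) E₁ E) (hE₃ : Cfsg.IsPiHallOf (Cfsg.tau3 M) E₃ E)
    (hτ2 : ∀ q : ℕ, q.Prime → q ∣ Nat.card E → q ∉ Cfsg.tau2 M) :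
    E₃ ⊔ E₁ = E ∧ E₃ ⊓ centralizer (E₁ : Set G) = ⊥ ∧ E ⊓ centralizer (E₁ : Set G) = E₁ ∧
      M ⊓ centralizer (E₁ : Set G) = (Cfsg.sigmaCore M ⊓ centralizer (E₁ : Set G)) ⊔ E₁ := by
  obtain ⟨-, h1cyc, h3⟩ := Cfsg.Agent.S1415.result hG M hM E hE
  have hE₁c : IsCyclic E₁ := h1cyc E₁ hE₁
  obtain ⟨hE₃c, hE₃le, hE₃n⟩ := h3 E₃ hE₃
  have hab1 := comm_of_isCyclic' hE₁c
  have hab3 := comm_of_isCyclic' hE₃c
  have hsup : E₃ ⊔ E₁ = E := compl_eq_sup hG hM hE hE₁ hE₃ hτ2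
  have hn : E₁ ≤ normalizer (E₃ : Set G) := hE₁.1.trans hE₃n
  have hcop : (Nat.card E₃).Coprime (Nat.card E₁) :=
    Cfsg.Agent.Helper4.BG147L.coprime_of_disjoint_primes hE₃.2.1 hE₁.2.1
      (fun q h3 h1 => h1.2.2.2.1 h3.2.2.1)
  have hbot : E₃ ⊓ centralizer (E₁ : Set G) = ⊥ :=
    inf_centralizer_eq_bot_of_le_commutator hab3 hab1 hn hcop (by rw [hsup]; exact hE₃le)
  have hE₁cen : E₁ ≤ centralizer (E₁ : Set G) := by
    intro x hx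
    rw [Subgroup.mem_centralizer_iff]
    intro y hy
    exact hab1 y hy x hx
  have hEc : E ⊓ centralizer (E₁ : Set G) = E₁ := by
    apply le_antisymm
    · intro x hx
      obtain ⟨hxE, hxc⟩ := Subgroup.mem_inf.mp hx
      rw [← hsup] at hxE
      have hset := Subgroup.coe_mul_of_right_le_normalizer_left E₃ E₁ hn
      have hx' : x ∈ ((E₃ ⊔ E₁ : Subgroup G) : Set G) := hxE
      rw [hset] at hx'
      obtain ⟨a, ha, b, hb, rfl⟩ := hx'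
      have hac : a ∈ centralizer (E₁ : Set G) := by
        have : a = (a * b) * b⁻¹ := by group
        rw [this]
        exact (centralizer (E₁ : Set G)).mul_mem hxc ((centralizer _).inv_mem (hE₁cen hb))
      have ha1 : a ∈ E₃ ⊓ centralizer (E₁ : Set G) := Subgroup.mem_inf.mpr ⟨ha, hac⟩
      rw [hbot, Subgroup.mem_bot] at ha1
      show a * b ∈ E₁
      rw [ha1, one_mul]; exact hb
    · exact le_inf hE₁.1 hE₁cen
  refine ⟨hsup, hbot, hEc, ?_⟩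
  rw [inf_centralizer_eq_sup hE (Cfsg.Agent.H9.BG12.le_normalizer_sigmaCore M) hE₁.1, hEc]

end Cfsg.Agent.Helper4.BG13E
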