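import Mathlib
import Cfsg.Agent.Helper4.BG13A2
import Cfsg.Agent.Helper28.BG13Star

/-!
# B&G 13.7, step `(A)`: adapter from helper28's `StarCfg`
-/

set_option autoImplicit false
set_option linter.unusedSectionVars false
set_option linter.unusedVariables false

namespace Cfsg.Agent.Helper4.BG13A

open Subgroup Cfsg
open Cfsg.Agent.Helper16.BG11 (BG)
open Cfsg.Agent.H9.BG12 (St1420)
open Cfsg.Agent.Helper28.BG13S (StarCfg)

universe u
variable {G : Type u} [Group G] [Finite G]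

/-- the `ACfg` of a `StarCfg` and a subgroup `T0 ≤ H` of prime order `t ∉ σ(M) ∪ σ(H) ∪ {p}`
normalizing `A₂` -/
theorem acfg_of_starCfg {M H M₂ : Subgroup G} {p t : ℕ} {X Y A₂ T0 : Subgroup G}
    (c : StarCfg M H M₂ p X Y A₂)
    (hT0 : Nat.card T0 = t) (hT0H : T0 ≤ H) (hT0A₂ : T0 ≤ normalizer (A₂ : Set G))
    (htp : t ≠ p) (htM : t ∉ Cfsg.sigma M) (htH : t ∉ Cfsg.sigma H) :
    ACfg M H p t A₂ Y T0 where
  hM := c.hM
  hH := c.hH
  hσ := c.hσdisj
  hHnil := c.hHσnil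
  hpM := c.hpM
  hpH := c.hpH
  hYσ := by rw [c.hY]; exact inf_le_left
  hYne := c.hY1
  hYH := by rw [← c.hMσH]; exact inf_le_right
  hI := c.hI
  hCy := by
    intro y hy hy1
    have h1 : zpowers y ≤ Y := zpowers_le.mpr hy
    have h2 : zpowers y ≠ ⊥ := fun h0 => hy1 (zpowers_eq_bot.mp h0)
    have h3 := c.hNQ (zpowers y) h1 h2
    refine le_trans ?_ h3
    have h4 : centralizer ({y} : Set G) = centralizer ((zpowers y : Subgroup G) : Set G) := by
      rw [zpowers_eq_closure, centralizer_closure]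
    rw [h4]
    exact Subgroup.centralizer_le_normalizer _
  hA2 := c.hA₂
  hA2H := (c.hA₂X.trans (Subgroup.centralizer_le_normalizer _)).trans c.hNX
  hYA2 := c.hYA₂
  hYf := by
    apply le_bot_iff.mp
    intro y hy
    obtain ⟨hyY, hyc⟩ := Subgroup.mem_inf.mp hy
    by_contra hy1
    exact c.hYA₂f y hyY (fun h => hy1 (Subgroup.mem_bot.mpr h)) hyc
  hσA2 := c.hHσA₂
  hT0 := hT0
  hT0H := hT0H
  hT0A2 := hT0A₂
  htp := htp
  htM := htM
  htH := htH

/-- **Step (A)** from a `StarCfg`: `|Y|` is prime and `T0` centralizes `A₂`. -/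
theorem stepA_of_starCfg (h : BG G) (h1420 : St1420 G) {M H M₂ : Subgroup G} {p t : ℕ}
    [hp : Fact p.Prime] [ht : Fact t.Prime] {X Y A₂ T0 : Subgroup G}
    (c : StarCfg M H M₂ p X Y A₂)
    (hT0 : Nat.card T0 = t) (hT0H : T0 ≤ H) (hT0A₂ : T0 ≤ normalizer (A₂ : Set G))
    (htp : t ≠ p) (htM : t ∉ Cfsg.sigma M) (htH : t ∉ Cfsg.sigma H) :
    (Nat.card Y).Prime ∧ T0 ≤ centralizer (A₂ : Set G) :=
  stepA h h1420 (acfg_of_starCfg c hT0 hT0H hT0A₂ htp htM htH)

end Cfsg.Agent.Helper4.BG13A
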