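import Mathlib
import Cfsg.Agent.Helper4.BG13A3
import Cfsg.Agent.Helper28.BG13Star2
import Cfsg.Agent.Helper23.FrobFixA
import Cfsg.Agent.Helper9.BG13b
import Cfsg.Agent.S1443

/-!
# B&G 13.7, step `(C)`: adapter from helper28's `StarCfg` to helper10's `FinalCfg`
-/

set_option autoImplicit false
set_option linter.unusedSectionVars false
set_option linter.unusedVariables false
set_option linter.style.haveILetI false

namespace Cfsg.Agent.Helper4.BG13A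

open Subgroup Cfsg
open Cfsg.Agent.Helper14 (IsSylowIn exists_isSylowIn exists_isSylowIn_ge)
open Cfsg.Agent.Helper16.BG11 (BG)
open Cfsg.Agent.H9.BG12 (St1418 St1422)
open Cfsg.Agent.Helper28.BG13S (StarCfg)
open Cfsg.Agent.Helper10.BG13F (T1 FinalCfg final_false le_centralizer_symm)

universe u
variable {G : Type u} [Group G] [Finite G]

theorem isElementaryAbelian_bot (q : ℕ) : Cfsg.IsElementaryAbelian q (⊥ : Subgroup G) := by
  refine ⟨⟨⟨fun a b => ?_⟩⟩, fun a ha => ?_⟩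
  · have ha := Subgroup.mem_bot.mp a.2
    have hb := Subgroup.mem_bot.mp b.2
    apply Subtype.ext
    simp [ha, hb]
  · rw [Subgroup.mem_bot.mp ha, one_pow]

/-- a `q'`-group `X` normalizing a cyclic `q`-group `S` (`q` odd) and centralizing a nontrivial
subgroup `Y₀` of it centralizes `S` -/
theorem le_centralizer_of_cyclic {q : ℕ} [hq : Fact q.Prime] (hq2 : q ≠ 2) {S Y₀ X : Subgroup G}
    (hS : IsPGroup q S) (hSc : IsCyclic ↥S) (hY₀S : Y₀ ≤ S) (hY₀ : Y₀ ≠ ⊥)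
    (hXS : X ≤ normalizer (S : Set G)) (hcop : (Nat.card X).Coprime q)
    (hXY₀ : X ≤ centralizer (Y₀ : Set G)) : X ≤ centralizer (S : Set G) := by
  apply Cfsg.Agent.S1443.result q hq2 S ⊥ X hS bot_le (isElementaryAbelian_bot q) hXS hcop
  intro x hx hox
  have hxS : x ∈ S := (Subgroup.mem_inf.mp hx).1
  have hxY : x ∈ Y₀ := Cfsg.Agent.Helper23.FrobFix.mem_of_le_cyclic S Y₀ q hY₀S (hS.to_le hY₀S)
    hY₀ x hxS hox
  exact hXY₀.trans (centralizer_le (Set.singleton_subset_iff.mpr hxY))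

/-- **Step (C)** from a `StarCfg`. -/
theorem final_of_starCfg (h : BG G) (hT1 : T1 G) (h1418 : St1418 G) (h1422 : St1422 G)
    {M H M₂ : Subgroup G} {p t : ℕ} [hp : Fact p.Prime] [ht : Fact t.Prime]
    {X Y A₂ : Subgroup G} (c : StarCfg M H M₂ p X Y A₂) {T : Subgroup G}
    (ht1 : t ∈ Cfsg.tau1 M) (hTM : T ≤ M) (hTt : Nat.card T = t) (htp : t ≠ p)
    (hXσ₂ : X ≤ Cfsg.sigmaCore M₂) (hpβ : p ∉ Cfsg.beta M₂) (hTM₂ : T ≤ M₂)
    (hTX : T ≤ normalizer (X : Set G)) (hTXn : ¬ T ≤ centralizer (X : Set G))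
    (hTA₂ : T ≤ centralizer (A₂ : Set G)) (hTY : T ≤ centralizer (Y : Set G)) : False := by
  -- a prime `q ∣ |Y|` and a Sylow `q`-subgroup `Yq` of `Y`
  have hY1 : Nat.card Y ≠ 1 := fun h1 => c.hY1 (Subgroup.card_eq_one.mp h1)
  obtain ⟨q, hqP, hqY⟩ := Nat.exists_prime_and_dvd hY1
  haveI hq : Fact q.Prime := ⟨hqP⟩
  obtain ⟨Yq, hYq⟩ := exists_isSylowIn (p := q) Y
  have hYq1 : Yq ≠ ⊥ := Cfsg.Agent.Helper16.BG11.IsSylowIn.ne_bot_of_dvd hYq hqY
  have hqσ : q ∈ Cfsg.sigma M := c.mem_sigma_of_dvd hqP hqY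
  have hqp : q ≠ p := fun h' => c.hpM (h' ▸ hqσ)
  have htσ : t ∉ Cfsg.sigma M := ht1.2.1
  have hq2 : q ≠ 2 := by
    rintro rfl
    have h2 : 2 ∣ Nat.card G := hqY.trans (Subgroup.card_subgroup_dvd_card Y)
    exact (Nat.not_even_iff_odd.mpr h.hodd) (even_iff_two_dvd.mpr h2)
  obtain ⟨P, hP, hPna, hPM₂⟩ := c.hPna
  have hσM_le : Cfsg.sigmaCore M ≤ M := Cfsg.Agent.H9.BG12.sigmaCore_le M
  have hYqY : Yq ≤ Y := hYq.1
  have hYqσ : Yq ≤ Cfsg.sigmaCore M := hYqY.trans c.hYσM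
  have hXCY : X ≤ centralizer (Y : Set G) := le_centralizer_symm c.hYX
  have hCYq : centralizer (Y : Set G) ≤ centralizer (Yq : Set G) := centralizer_le hYqY
  have hXCYq : X ≤ centralizer (Yq : Set G) := hXCY.trans hCYq
  have hTCYq : T ≤ centralizer (Yq : Set G) := hTY.trans hCYq
  have hXp' : IsPGroup p X := Cfsg.Agent.Helper10.BG13F.isPGroup_of_card_prime c.hXp
  have hTt' : IsPGroup t T := Cfsg.Agent.Helper10.BG13F.isPGroup_of_card_prime hTt
  have hMsolv : Group.IsSolvable ↥M := Cfsg.Agent.Helper16.BG11.coatom_solv h c.hM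
  have hσsolv : Group.IsSolvable ↥(Cfsg.sigmaCore M) :=
    Group.isSolvable_of_isSolvable_injective (Subgroup.inclusion_injective hσM_le)
  -- `QM`: an `X T`-invariant Sylow `q`-subgroup of `M_σ` containing `Yq`
  set F : Subgroup G := X ⊔ T with hF
  have hFM : F ≤ M := sup_le c.hXM hTM
  have hFσ : F ≤ normalizer ((Cfsg.sigmaCore M : Subgroup G) : Set G) :=
    hFM.trans (Cfsg.Agent.H9.BG12.le_normalizer_sigmaCore M)
  have hFcard : Nat.card F ∣ p * t := by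
    have h1 := Cfsg.Agent.Helper17.card_sup_mul_card_inf X T hTX
    rw [c.hXp, hTt] at h1
    exact Dvd.intro _ h1
  have hcopFσ : (Nat.card F).Coprime (Nat.card (Cfsg.sigmaCore M)) := by
    apply Nat.Coprime.coprime_dvd_left hFcard
    apply Nat.Coprime.mul_left
    · exact (Nat.Prime.coprime_iff_not_dvd hp.out).mpr
        (Cfsg.Agent.Helper16.BG11.not_dvd_card_sigmaCore c.hpM)
    · exact (Nat.Prime.coprime_iff_not_dvd ht.out).mpr
        (Cfsg.Agent.Helper16.BG11.not_dvd_card_sigmaCore htσ)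
  have hFYq : F ≤ normalizer (Yq : Set G) :=
    (sup_le hXCYq hTCYq).trans (Subgroup.centralizer_le_normalizer _)
  obtain ⟨QM, hQM, hYqQM, hFQM⟩ := Cfsg.Agent.Helper16.BG11.exists_invariant_sylow_ge F
    (Cfsg.sigmaCore M) Yq hFσ hcopFσ (Or.inr hσsolv) q hYqσ hYq.2.1 hFYq
  have hXQ : X ≤ normalizer (QM : Set G) := le_sup_left.trans hFQM
  have hTQ : T ≤ normalizer (QM : Set G) := le_sup_right.trans hFQM
  -- `QM ∩ C(X) = Yq`
  have hQX : QM ⊓ centralizer (X : Set G) = Yq := by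
    apply hYq.2.2
    · rw [c.hY]
      exact inf_le_inf_right _ hQM.1
    · exact hQM.2.1.to_le inf_le_left
    · exact le_inf hYqQM (hYqY.trans c.hYX)
  have hQMM : IsSylowIn q QM M :=
    Cfsg.Agent.Helper4.BG12SD.isSylowIn_of_isSylowIn_sigmaCore h.hG c.hM hqσ hQM
  have hqα : q ∈ Cfsg.alpha M := (c.hYβ q hqP hqY).1
  have hQXn : ¬ QM ≤ centralizer (X : Set G) := by
    intro hle
    have h1 : QM = Yq := by rw [← hQX]; exact (inf_eq_left.mpr hle).symm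
    have hQMM₂ : QM ≤ M₂ := by rw [h1]; exact hYqY.trans c.hYM₂
    have hcyc : IsCyclic ↥QM := c.hcyc₂ q hqP hqY QM hQMM₂ hQM.2.1
    have hr1 : Cfsg.PRankLE q 1 M :=
      Cfsg.Agent.H9.BG12.pRankLE_one_of_cyclic_sylow hQMM hcyc
    exact hqα.2 (Cfsg.Agent.Lead.BG8.pRankLE_mono (by norm_num) hr1)
  -- `Yq` is a Sylow `q`-subgroup of `M₂`
  have hYqM₂ : Yq ≤ M₂ := hYqY.trans c.hYM₂
  set D₂ : Subgroup G := Cfsg.sigmaCore M ⊓ M₂ with hD₂
  have hXD₂ : X ≤ normalizer (D₂ : Set G) := by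
    refine le_trans ?_ (Cfsg.Agent.Helper7.normalizer_inf_normalizer_le_normalizer_inf _ _)
    exact le_inf (c.hXM.trans (Cfsg.Agent.H9.BG12.le_normalizer_sigmaCore M))
      (c.hXM₂.trans le_normalizer)
  have hcopXD₂ : (Nat.card X).Coprime (Nat.card D₂) := by
    apply Nat.Coprime.coprime_dvd_right (Subgroup.card_dvd_of_le (inf_le_left : D₂ ≤ _))
    rw [c.hXp]
    exact (Nat.Prime.coprime_iff_not_dvd hp.out).mpr
      (Cfsg.Agent.Helper16.BG11.not_dvd_card_sigmaCore c.hpM)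
  have hXsolv : Group.IsSolvable ↥X :=
    Group.isSolvable_of_isSolvable_injective (Subgroup.inclusion_injective c.hXM)
  obtain ⟨S', hS', hYqS', hXS'⟩ := Cfsg.Agent.Helper16.BG11.exists_invariant_sylow_ge X D₂ Yq
    hXD₂ hcopXD₂ (Or.inl hXsolv) q (le_inf hYqσ hYqM₂) hYq.2.1
    (hXCYq.trans (Subgroup.centralizer_le_normalizer _))
  have hS'M₂ : S' ≤ M₂ := hS'.1.trans inf_le_right
  have hS'cyc : IsCyclic ↥S' := c.hcyc₂ q hqP hqY S' hS'M₂ hS'.2.1
  have hXq : (Nat.card X).Coprime q := by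
    rw [c.hXp]; exact (Nat.coprime_primes hp.out hqP).mpr hqp.symm
  have hXS'c : X ≤ centralizer (S' : Set G) :=
    le_centralizer_of_cyclic hq2 hS'.2.1 hS'cyc hYqS' hYq1 hXS' hXq hXCYq
  have hS'Y : S' ≤ Y := by
    rw [c.hY]
    exact le_inf (hS'.1.trans inf_le_left) (le_centralizer_symm hXS'c)
  have hS'eq : S' = Yq := hYq.2.2 S' hS'Y hS'.2.1 hYqS'
  have hYqD₂ : IsSylowIn q Yq D₂ := hS'eq ▸ hS'
  obtain ⟨S₂, hS₂, hYqS₂⟩ := exists_isSylowIn_ge hYqM₂ hYq.2.1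
  have hS₂cyc : IsCyclic ↥S₂ := c.hcyc₂ q hqP hqY S₂ hS₂.1 hS₂.2.1
  have hS₂Yq : S₂ ≤ centralizer (Yq : Set G) := by
    intro s hs
    rw [mem_centralizer_iff]
    intro y hy
    have hcomm : ∀ a b : ↥S₂, a * b = b * a := by
      obtain ⟨g, hg⟩ := hS₂cyc.exists_generator
      intro a b
      obtain ⟨m, rfl⟩ := Subgroup.mem_zpowers_iff.mp (hg a)
      obtain ⟨n, rfl⟩ := Subgroup.mem_zpowers_iff.mp (hg b)
      rw [← zpow_add, ← zpow_add, add_comm]
    exact congrArg Subtype.val (hcomm ⟨y, hYqS₂ hy⟩ ⟨s, hs⟩)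
  have hS₂M : S₂ ≤ M :=
    (hS₂Yq.trans (Subgroup.centralizer_le_normalizer _)).trans (c.hNQ Yq hYqY hYq1)
  have hS₂σ : S₂ ≤ Cfsg.sigmaCore M :=
    Cfsg.Agent.H9.BG12.le_sigmaCore_of_isPGroup h.st1350 c.hM hqσ hS₂M hS₂.2.1
  have hS₂eq : S₂ = Yq := hYqD₂.2.2 S₂ (le_inf hS₂σ hS₂.1) hS₂.2.1 hYqS₂
  have hYqSyl : IsSylowIn q Yq M₂ := hS₂eq ▸ hS₂
  have hqM2 : ∀ S : Subgroup G, S ≤ M₂ → IsPGroup q S → Nat.card S ≤ Nat.card Yq := by
    intro S hSM₂ hSq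
    obtain ⟨U, hU, hSU⟩ := exists_isSylowIn_ge hSM₂ hSq
    rw [Cfsg.Agent.Helper10.isSylowIn_card_eq hYqSyl hU]
    exact Nat.card_le_card_of_injective (Subgroup.inclusion hSU)
      (Subgroup.inclusion_injective hSU)
  -- `Yq` does not centralize `A₂`
  have hYqA2n : ¬ Yq ≤ centralizer (A₂ : Set G) := by
    intro hle
    obtain ⟨y, hy, hy1⟩ := exists_mem_ne_one hYq1
    exact c.hYA₂f y (hYqY hy) hy1 (hle hy)
  exact final_false h hT1 h1418 h1422 (M := M) (M2 := M₂) (p := p) (q := q) (t := t)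
    (X := X) (A2 := A₂) (P := P) (T := T) (Yq := Yq) (QM := QM)
    { hM := c.hM
      hM2 := c.hM₂
      ht1 := ht1
      hTM := hTM
      hTt := hTt
      htp := htp
      hqp := hqp
      hXp := c.hXp
      hXM2 := hXσ₂
      hTX := hTX
      hTXn := hTXn
      hP := hP
      hPna := hPna
      hPM2 := hPM₂
      hTM2 := hTM₂
      hpβ := hpβ
      hA2 := c.hA₂
      hTA2 := hTA₂
      hNA2 := c.hNA₂
      hYq := hYq.2.1
      hYqT := le_centralizer_symm hTCYq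
      hYqA2 := hYqY.trans c.hYA₂
      hYqA2n := hYqA2n
      hYqM := hYqσ
      hqα := hqα
      hQM := hQM.2.1
      hXQ := hXQ
      hTQ := hTQ
      hQX := hQX
      hQXn := hQXn
      hqM2 := hqM2 }

end Cfsg.Agent.Helper4.BG13A
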