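import Mathlib
import Cfsg.Prelude.Def_OddOrderLocal
import Cfsg.Agent.Lead.BG142b
import Cfsg.Agent.Lead.BG142d
import Cfsg.Agent.Lead.BG143b
import Cfsg.Agent.Helper28.BG13Final
import Cfsg.Agent.Helper21.BG13d
import Cfsg.Agent.Helper21.BG12f
import Cfsg.Agent.Helper21.BG10b
import Cfsg.Agent.Helper23.Cyclic
import Cfsg.Agent.Helper17.Basic
import Cfsg.Agent.Helper16.BG11b
import Cfsg.Agent.S1415
import Cfsg.Agent.S1417
import Cfsg.Agent.S1427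
import Cfsg.Agent.S1428

/-!
# Setting T3 of the Tau3 proof (B&G 13.8–13.10): lead's facts F1–F4 (msg 997)

`M` maximal, `E` a complement of `M_σ`, `p ∈ τ₃(M) ∩ κ(M)`, `X ≤ E` of order `p`,
`Y₀ := M_σ ∩ C(X)`.
-/

set_option autoImplicit false
set_option linter.unusedSectionVars false
set_option linter.unusedVariables false
set_option linter.style.haveILetI false

namespace Cfsg.Agent.Helper4.BG13T3

open Subgroup Cfsg
open Cfsg.Agent.Helper14 (IsSylowIn cj mem_normalizer_iff_map_cj)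
open Cfsg.Agent.Lead (IsPiNum)

universe u
variable {G : Type u} [Group G] [Finite G]

/-- the normalizer of a cyclic subgroup normalizes each of its subgroups -/
theorem normalizer_le_normalizer_of_le_cyclic {C X : Subgroup G} (hc : IsCyclic C) (hXC : X ≤ C) :
    normalizer (C : Set G) ≤ normalizer (X : Set G) := by
  intro g hg
  rw [mem_normalizer_iff_map_cj]
  have hC : C.map (cj g) = C := mem_normalizer_iff_map_cj.mp hg
  apply Cfsg.Agent.Helper23.eq_of_card_eq_of_isCyclic C hc (X.map (cj g)) X _ hXC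
  · exact Subgroup.card_map_of_injective (Cfsg.Agent.Helper14.cj_injective g)
  · rw [← hC]; exact Subgroup.map_mono hXC

/-- a `π`-subgroup of `E` lies in every normal Hall `π`-subgroup of `E` -/
theorem le_of_normal_hall {π : Set ℕ} {H E X : Subgroup G} (hH : Cfsg.IsPiHallOf π H E)
    (hn : E ≤ normalizer (H : Set G)) (hXE : X ≤ E) (hX : IsPiNum π (Nat.card X)) : X ≤ H := by
  have h1 := Cfsg.Agent.Helper17.card_sup_mul_card_inf H X (hXE.trans hn)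
  have h2 : IsPiNum π (Nat.card ↥(H ⊔ X)) := by
    intro q hq hqd
    have h3 : q ∣ Nat.card H * Nat.card X := by
      rw [← h1]; exact hqd.trans (Dvd.intro _ rfl)
    rcases (Nat.Prime.dvd_mul hq).mp h3 with h | h
    · exact hH.2.1 q hq h
    · exact hX q hq h
  have h4 := Cfsg.Agent.Lead.BG142.eq_of_hall_le hH le_sup_left (sup_le hH.1 hXE) h2
  exact le_sup_right.trans h4.le

theorem isPiNum_of_card_prime {π : Set ℕ} {X : Subgroup G} {p : ℕ} (hX : Nat.card X = p)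
    (hp : p.Prime) (hpπ : p ∈ π) : IsPiNum π (Nat.card X) := by
  intro q hq hqd
  rw [hX] at hqd
  rw [(Nat.prime_dvd_prime_iff_eq hq hp).mp hqd]; exact hpπ

theorem ne_bot_of_card_prime {X : Subgroup G} {p : ℕ} (hX : Nat.card X = p) (hp : p.Prime) :
    X ≠ ⊥ := by
  rintro rfl
  rw [Subgroup.card_bot] at hX
  exact hp.one_lt.ne hX

theorem st1427 (hG : Cfsg.IsMinSimpleOddOrder G) : Cfsg.Agent.Lead.BG142.St1427 G :=
  fun M hM E hE p _ S hS1 hSc => Cfsg.Agent.S1427.result hG M hM E hE p S hS1 hSc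

/-- the setting T3 -/
structure T3 (M E X : Subgroup G) (p : ℕ) : Prop where
  hM : IsCoatom M
  hE : Cfsg.IsComplIn E (Cfsg.sigmaCore M) M
  hp3 : p ∈ Cfsg.tau3 M
  hpκ : p ∈ Cfsg.kappa M
  hXE : X ≤ E
  hXp : Nat.card X = p

namespace T3

variable {M E X : Subgroup G} {p : ℕ}

theorem hpP (c : T3 M E X p) : p.Prime := c.hpκ.1
theorem hpσ (c : T3 M E X p) : p ∉ Cfsg.sigma M := c.hpκ.2.2.1
theorem hEM (c : T3 M E X p) : E ≤ M := c.hE.1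
theorem hXM (c : T3 M E X p) : X ≤ M := c.hXE.trans c.hE.1
theorem X_ne_bot (c : T3 M E X p) : X ≠ ⊥ := ne_bot_of_card_prime c.hXp c.hpP
theorem X_ne_top (c : T3 M E X p) : X ≠ ⊤ := fun h => c.hM.1 (top_le_iff.mp (h ▸ c.hXM))

theorem isPGroup (c : T3 M E X p) : IsPGroup p X := by
  haveI : Fact p.Prime := ⟨c.hpP⟩
  exact IsPGroup.of_card (n := 1) (by rw [c.hXp, pow_one])

/-- `Y₀ ≠ 1` -/
theorem Y0_ne_bot (c : T3 M E X p) : Cfsg.sigmaCore M ⊓ centralizer (X : Set G) ≠ ⊥ :=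
  Cfsg.Agent.Lead.BG142.kappa_inf_centralizer_ne_bot c.hpκ c.hXM c.hXp

theorem solvable_E (hG : Cfsg.IsMinSimpleOddOrder G) (c : T3 M E X p) : Group.IsSolvable E :=
  Cfsg.Agent.Lead.isSolvable_of_le c.hEM (hG.2.2.2 M c.hM.1)

/-- `X` lies in every Hall `τ₃(M)`-subgroup of `E` -/
theorem le_E3 (hG : Cfsg.IsMinSimpleOddOrder G) (c : T3 M E X p) {E₃ : Subgroup G}
    (hE₃ : Cfsg.IsPiHallOf (Cfsg.tau3 M) E₃ E) : X ≤ E₃ :=
  le_of_normal_hall hE₃ ((Cfsg.Agent.S1415.result hG M c.hM E c.hE).2.2 E₃ hE₃).2.2 c.hXE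
    (isPiNum_of_card_prime c.hXp c.hpP c.hp3)

theorem exists_E3 (hG : Cfsg.IsMinSimpleOddOrder G) (c : T3 M E X p) :
    ∃ E₃ : Subgroup G, Cfsg.IsPiHallOf (Cfsg.tau3 M) E₃ E ∧ X ≤ E₃ :=
  Cfsg.Agent.Lead.exists_isPiHallOf_ge (c.solvable_E hG) c.hXE
    (isPiNum_of_card_prime c.hXp c.hpP c.hp3)

/-- `E ≤ N(X)` -/
theorem le_normalizer (hG : Cfsg.IsMinSimpleOddOrder G) (c : T3 M E X p) :
    E ≤ normalizer (X : Set G) := by
  obtain ⟨E₃, hE₃, hXE₃⟩ := c.exists_E3 hG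
  obtain ⟨hcyc, -, hn⟩ := (Cfsg.Agent.S1415.result hG M c.hM E c.hE).2.2 E₃ hE₃
  exact hn.trans (normalizer_le_normalizer_of_le_cyclic hcyc hXE₃)

theorem exists_coatom (hG : Cfsg.IsMinSimpleOddOrder G) (c : T3 M E X p) :
    ∃ H : Subgroup G, IsCoatom H ∧ normalizer (X : Set G) ≤ H :=
  Cfsg.Agent.Helper21.BG10.exists_coatom_normalizer_le hG.2.1 c.X_ne_bot c.X_ne_top

section withH

variable {H : Subgroup G}

/-- **F2**: `p ∈ σ(H)` (NoStar) -/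
theorem mem_sigma (hG : Cfsg.IsMinSimpleOddOrder G) (c : T3 M E X p) (hH : IsCoatom H)
    (hNH : normalizer (X : Set G) ≤ H) : p ∈ Cfsg.sigma H :=
  Cfsg.Agent.Helper28.BG13S.noStar hG M c.hM p c.hpκ X c.hXM c.hXp c.Y0_ne_bot H hH hNH

/-- **F2**: `H` is not conjugate to `M` -/
theorem not_conj (hG : Cfsg.IsMinSimpleOddOrder G) (c : T3 M E X p) (hH : IsCoatom H)
    (hNH : normalizer (X : Set G) ≤ H) : ∀ g : G, H ≠ M.map (cj g) := by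
  intro g h
  have h1 := c.mem_sigma hG hH hNH
  rw [h] at h1
  haveI : Fact p.Prime := ⟨c.hpP⟩
  have h2 := Cfsg.Agent.Helper16.BG11.mem_sigma_map_cj g⁻¹ h1
  rw [Cfsg.Agent.Helper14.map_cj_map_cj_inv] at h2
  exact c.hpσ h2

theorem X_le (c : T3 M E X p) (hNH : normalizer (X : Set G) ≤ H) : X ≤ H :=
  Subgroup.le_normalizer.trans hNH

theorem E_le (hG : Cfsg.IsMinSimpleOddOrder G) (c : T3 M E X p)
    (hNH : normalizer (X : Set G) ≤ H) : E ≤ H := (c.le_normalizer hG).trans hNH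

/-- **F2**: `M_σ ∩ H = Y₀` -/
theorem sigmaCore_inf (hG : Cfsg.IsMinSimpleOddOrder G) (c : T3 M E X p) (hH : IsCoatom H)
    (hNH : normalizer (X : Set G) ≤ H) :
    Cfsg.sigmaCore M ⊓ H = Cfsg.sigmaCore M ⊓ centralizer (X : Set G) := by
  haveI : Fact p.Prime := ⟨c.hpP⟩
  apply le_antisymm
  · refine le_inf inf_le_left ?_
    exact Cfsg.Agent.Helper21.BG13.lemma_13_1_a hG c.hM hH (c.not_conj hG hH hNH) c.hpσ
      (Or.inl (c.mem_sigma hG hH hNH)) c.isPGroup c.hXM (c.X_le hNH)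
  · exact inf_le_inf_left _ ((Subgroup.centralizer_le_normalizer _).trans hNH)

/-- **F2**: `M ∩ H = E Y₀` -/
theorem inf_eq (hG : Cfsg.IsMinSimpleOddOrder G) (c : T3 M E X p) (hH : IsCoatom H)
    (hNH : normalizer (X : Set G) ≤ H) :
    M ⊓ H = E ⊔ (Cfsg.sigmaCore M ⊓ centralizer (X : Set G)) := by
  apply le_antisymm
  · intro m hm
    obtain ⟨hmM, hmH⟩ := Subgroup.mem_inf.mp hm
    obtain ⟨a, ha, b, hb, rfl⟩ := c.hE.2.2.2 m hmM
    have hbH : b ∈ H := by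
      have : b = a⁻¹ * (a * b) := by group
      rw [this]; exact H.mul_mem (H.inv_mem (c.E_le hG hNH ha)) hmH
    have hb' : b ∈ Cfsg.sigmaCore M ⊓ centralizer (X : Set G) := by
      rw [← c.sigmaCore_inf hG hH hNH]; exact Subgroup.mem_inf.mpr ⟨hb, hbH⟩
    exact Subgroup.mul_mem_sup ha hb'
  · refine sup_le (le_inf c.hEM (c.E_le hG hNH)) (le_inf (inf_le_left.trans c.hE.2.1) ?_)
    rw [← c.sigmaCore_inf hG hH hNH]; exact inf_le_right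

end withH

/-- **F1**: `τ₂(M) = ∅` -/
theorem tau2_free (hG : Cfsg.IsMinSimpleOddOrder G) (c : T3 M E X p) :
    ∀ q : ℕ, q.Prime → q ∉ Cfsg.sigma M → Cfsg.PRankLE q 1 M := by
  intro q hq hqσ
  by_contra hr1
  haveI : Fact q.Prime := ⟨hq⟩
  have hr2 : Cfsg.PRankLE q 2 M :=
    Cfsg.Agent.Helper4.BG10.sigma'_pRankLE_two hG (Cfsg.Agent.Helper21.BG12.uniq hG) c.hM hqσ
  have hqτ : q ∈ Cfsg.tau2 M := ⟨hq, hqσ, hr2, hr1⟩
  obtain ⟨A, hAE, hAel, hAc⟩ := Cfsg.Agent.Lead.BG143.exists_elementary_sq_le_compl hG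
    (Cfsg.Agent.Helper21.BG12.st1350 hG) c.hM c.hE hqτ
  obtain ⟨H, hH, hNH⟩ := c.exists_coatom hG
  have hHM : H ≠ M := by
    intro h
    have h1 := c.mem_sigma hG hH hNH
    rw [h] at h1
    exact c.hpσ h1
  have h5 := (Cfsg.Agent.S1417.result hG M c.hM q hqτ A ⟨hAE.trans c.hEM, hAel, hAc⟩).2.2.2.2.1
    H hH hHM (hAE.trans (c.E_le hG hNH))
  apply c.Y0_ne_bot
  rw [← c.sigmaCore_inf hG hH hNH, h5]

/-- **F3**, first half: every `T₀ ≤ E₃` of prime order centralizes `Y₀` -/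
theorem Y0_le_centralizer (hG : Cfsg.IsMinSimpleOddOrder G) (c : T3 M E X p) {E₃ T₀ : Subgroup G}
    (hE₃ : Cfsg.IsPiHallOf (Cfsg.tau3 M) E₃ E) (hT₀ : T₀ ≤ E₃) (ht : (Nat.card T₀).Prime) :
    Cfsg.sigmaCore M ⊓ centralizer (X : Set G) ≤ centralizer (T₀ : Set G) := by
  obtain ⟨H, hH, hNH⟩ := c.exists_coatom hG
  haveI : Fact (Nat.card T₀).Prime := ⟨ht⟩
  have htτ3 : Nat.card T₀ ∈ Cfsg.tau3 M := hE₃.2.1 _ ht (Subgroup.card_dvd_of_le hT₀)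
  have htσM : Nat.card T₀ ∉ Cfsg.sigma M := htτ3.2.1
  have hT₀E : T₀ ≤ E := hT₀.trans hE₃.1
  have hT₀M : T₀ ≤ M := hT₀E.trans c.hEM
  have hEH : E ≤ H := c.E_le hG hNH
  have hT₀H : T₀ ≤ H := hT₀E.trans hEH
  rw [← c.sigmaCore_inf hG hH hNH]
  have hnc := c.not_conj hG hH hNH
  have hTp : IsPGroup (Nat.card T₀) T₀ := IsPGroup.of_card (n := 1) (by rw [pow_one])
  by_cases h1 : Nat.card T₀ ∈ Cfsg.sigma H
  · exact Cfsg.Agent.Helper21.BG13.lemma_13_1_a hG c.hM hH hnc htσM (Or.inl h1) hTp hT₀M hT₀H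
  · by_cases h2 : Cfsg.PRankLE (Nat.card T₀) 1 H
    · have hle : T₀ ≤ ⁅H, H⁆ :=
        (hT₀.trans ((Cfsg.Agent.S1415.result hG M c.hM E c.hE).2.2 E₃ hE₃).2.1).trans
          (Subgroup.commutator_mono hEH hEH)
      have hd : Nat.card T₀ ∣ Nat.card ↥⁅H, H⁆ := Subgroup.card_dvd_of_le hle
      exact Cfsg.Agent.Helper21.BG13.lemma_13_1_a hG c.hM hH hnc htσM
        (Or.inr ⟨ht, h1, hd, h2⟩) hTp hT₀M hT₀H
    · have hr2 : Cfsg.PRankLE (Nat.card T₀) 2 H :=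
        Cfsg.Agent.Helper4.BG10.sigma'_pRankLE_two hG (Cfsg.Agent.Helper21.BG12.uniq hG) hH h1
      exact Cfsg.Agent.Helper21.BG13.lemma_13_1_tau2 hG c.hM hH hnc htσM ⟨ht, h1, hr2, h2⟩ rfl
        hT₀M hT₀H

/-- **F3**: every `T₀ ≤ E₃` of prime order is again in the setting T3 -/
theorem of_le_E3 (hG : Cfsg.IsMinSimpleOddOrder G) (c : T3 M E X p) {E₃ T₀ : Subgroup G}
    (hE₃ : Cfsg.IsPiHallOf (Cfsg.tau3 M) E₃ E) (hT₀ : T₀ ≤ E₃) (ht : (Nat.card T₀).Prime) :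
    T3 M E T₀ (Nat.card T₀) := by
  have htτ3 : Nat.card T₀ ∈ Cfsg.tau3 M := hE₃.2.1 _ ht (Subgroup.card_dvd_of_le hT₀)
  have hT₀E : T₀ ≤ E := hT₀.trans hE₃.1
  refine ⟨c.hM, c.hE, htτ3, ?_, hT₀E, rfl⟩
  obtain ⟨y, hyT, hyo⟩ := Cfsg.Agent.Lead.BG142.exists_mem_orderOf_eq ht (dvd_refl (Nat.card T₀))
  obtain ⟨⟨x, hx⟩, hx1⟩ := (Subgroup.ne_bot_iff_exists_ne_one).mp c.Y0_ne_bot
  have hx1' : x ≠ 1 := fun h => hx1 (Subtype.ext h)
  have hxc : x ∈ centralizer (T₀ : Set G) := c.Y0_le_centralizer hG hE₃ hT₀ ht hx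
  have hyx : y * x = x * y := Subgroup.mem_centralizer_iff.mp hxc y hyT
  rcases Cfsg.Agent.Lead.BG143.mem_kappa_or_mem_tau2 hG (Cfsg.Agent.Helper21.BG12.uniq hG) c.hM ht
    htτ3.2.1 (c.hEM (hT₀E hyT)) hyo (Subgroup.mem_inf.mp hx).1 hx1' hyx with h | h
  · exact h
  · exact absurd htτ3.2.2.2 h.2.2.2

/-- **F3**: `C_{M_σ}(T₀) = Y₀` for every `T₀ ≤ E₃` of prime order -/
theorem centralizer_eq (hG : Cfsg.IsMinSimpleOddOrder G) (c : T3 M E X p) {E₃ T₀ : Subgroup G}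
    (hE₃ : Cfsg.IsPiHallOf (Cfsg.tau3 M) E₃ E) (hT₀ : T₀ ≤ E₃) (ht : (Nat.card T₀).Prime) :
    Cfsg.sigmaCore M ⊓ centralizer (T₀ : Set G) = Cfsg.sigmaCore M ⊓ centralizer (X : Set G) := by
  apply le_antisymm
  · refine le_inf inf_le_left ?_
    have c' := c.of_le_E3 hG hE₃ hT₀ ht
    exact c'.Y0_le_centralizer hG hE₃ (c.le_E3 hG hE₃) (by rw [c.hXp]; exact c.hpP)
  · exact le_inf inf_le_left (c.Y0_le_centralizer hG hE₃ hT₀ ht)

/-- **F3**: `C_{M_σ}(e) = Y₀ = C_{M_σ}(E₃)` for every `e ∈ E₃ − 1` -/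
theorem centralizer_singleton_eq (hG : Cfsg.IsMinSimpleOddOrder G) (c : T3 M E X p)
    {E₃ : Subgroup G} (hE₃ : Cfsg.IsPiHallOf (Cfsg.tau3 M) E₃ E) :
    (∀ e ∈ E₃, e ≠ 1 → Cfsg.sigmaCore M ⊓ centralizer ({e} : Set G) =
      Cfsg.sigmaCore M ⊓ centralizer (X : Set G)) ∧
    Cfsg.sigmaCore M ⊓ centralizer (E₃ : Set G) = Cfsg.sigmaCore M ⊓ centralizer (X : Set G) := by
  have hsp := Cfsg.Agent.Lead.BG142.semiprime_of_prime hG (st1427 hG) c.hM c.hE hE₃.1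
    (fun q hq hqd => (hE₃.2.1 q hq hqd).2.2.2)
    (fun R₁ R₂ h1 h2 hp1 hp2 => by
      rw [c.centralizer_eq hG hE₃ h1 hp1, c.centralizer_eq hG hE₃ h2 hp2])
  obtain ⟨x₀, hx₀X, hx₀o⟩ := Cfsg.Agent.Lead.BG142.exists_mem_orderOf_eq c.hpP
    (by rw [c.hXp] : p ∣ Nat.card X)
  have hx₀1 : x₀ ≠ 1 := by
    intro h
    rw [h, orderOf_one] at hx₀o
    exact c.hpP.one_lt.ne hx₀o
  have hz : zpowers x₀ = X :=
    Cfsg.Agent.Helper16.BG11.zpowers_eq_of_card_prime c.hpP c.hXp hx₀X hx₀1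
  have hE₃X : Cfsg.sigmaCore M ⊓ centralizer (E₃ : Set G) =
      Cfsg.sigmaCore M ⊓ centralizer (X : Set G) := by
    rw [← hsp x₀ (c.le_E3 hG hE₃ hx₀X) hx₀1, ← Cfsg.Agent.Helper4.BG10.centralizer_zpowers_eq, hz]
  refine ⟨fun e he he1 => ?_, hE₃X⟩
  rw [hsp e he he1, hE₃X]

end T3

/-- **F4**: `E₁` acts in a prime manner on `M_σ` (S1427 + S1428) -/
theorem prime_action_tau1 (hG : Cfsg.IsMinSimpleOddOrder G) {M E E₁ : Subgroup G}
    (hM : IsCoatom M) (hE : Cfsg.IsComplIn E (Cfsg.sigmaCore M) M)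
    (hE₁ : Cfsg.IsPiHallOf (Cfsg.tau1 M) E₁ E) :
    ∀ x ∈ E₁, x ≠ 1 → Cfsg.sigmaCore M ⊓ centralizer ({x} : Set G) =
      Cfsg.sigmaCore M ⊓ centralizer (E₁ : Set G) := by
  have hcyc : IsCyclic E₁ := (Cfsg.Agent.S1415.result hG M hM E hE).2.1 E₁ hE₁
  apply Cfsg.Agent.Lead.BG142.semiprime_of_prime hG (st1427 hG) hM hE hE₁.1
    (fun q hq hqd => (hE₁.2.1 q hq hqd).2.2.2.2)
  intro R₁ R₂ h1 h2 hp1 hp2
  have hτ : Nat.card R₁ ∈ Cfsg.tau1 M := hE₁.2.1 _ hp1 (Subgroup.card_dvd_of_le h1)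
  have hcomm : R₂ ≤ centralizer (R₁ : Set G) := by
    intro b hb
    rw [Subgroup.mem_centralizer_iff]
    intro a ha
    exact Cfsg.Agent.Lead.BG142.comm_of_isCyclic hcyc (h1 ha) (h2 hb)
  exact Cfsg.Agent.S1428.result hG M hM E hE _ hτ R₁ (h1.trans hE₁.1) rfl R₂
    (le_inf (h2.trans hE₁.1) hcomm) hp2

namespace T3

variable {M E X : Subgroup G} {p : ℕ}

/-- **F4**, second half: if some `R ≤ E₁` and `T₀ ≤ E₃` of prime orders commute then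
`C₁ = C_{M_σ}(E₁) ≤ Y₀` -/
theorem C1_le_Y0 (hG : Cfsg.IsMinSimpleOddOrder G) (c : T3 M E X p) {E₁ E₃ R T₀ : Subgroup G}
    (hE₁ : Cfsg.IsPiHallOf (Cfsg.tau1 M) E₁ E) (hE₃ : Cfsg.IsPiHallOf (Cfsg.tau3 M) E₃ E)
    (hR : R ≤ E₁) (hRp : (Nat.card R).Prime) (hT₀ : T₀ ≤ E₃) (hTp : (Nat.card T₀).Prime)
    (hcomm : T₀ ≤ centralizer (R : Set G)) :
    Cfsg.sigmaCore M ⊓ centralizer (E₁ : Set G) ≤ Cfsg.sigmaCore M ⊓ centralizer (X : Set G) := by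
  have hτ : Nat.card R ∈ Cfsg.tau1 M := hE₁.2.1 _ hRp (Subgroup.card_dvd_of_le hR)
  have h1 := Cfsg.Agent.S1428.result hG M c.hM E c.hE _ hτ R (hR.trans hE₁.1) rfl T₀
    (le_inf (hT₀.trans hE₃.1) hcomm) hTp
  rw [c.centralizer_eq hG hE₃ hT₀ hTp] at h1
  exact (inf_le_inf_left _ (Subgroup.centralizer_le hR)).trans h1

end T3

end Cfsg.Agent.Helper4.BG13T3
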