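import Mathlib

set_option autoImplicit false
set_option linter.style.haveILetI false
set_option linter.unusedSectionVars false

namespace Cfsg.Agent.Helper4

open MulAction

/-- If all point stabilisers have the same order `c`, then `|K|` divides `|X| * c`. -/
theorem card_dvd_card_mul_of_const_stabilizer {K X : Type*} [Group K] [Finite K] [MulAction K X]
    [Finite X] (c : ℕ) (hc : ∀ x : X, Nat.card (stabilizer K x) = c) :
    Nat.card K ∣ Nat.card X * c := by
  classical
  haveI : Fintype (orbitRel.Quotient K X) := Fintype.ofFinite _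
  rw [Nat.card_congr (selfEquivSigmaOrbits K X), Nat.card_sigma, Finset.sum_mul]
  apply Finset.dvd_sum
  intro ω _
  have h1 : Nat.card (orbit K (Quotient.out ω)) * c = Nat.card K := by
    rw [Nat.card_coe_set_eq, ← index_stabilizer, ← hc (Quotient.out ω), mul_comm]
    exact Subgroup.card_mul_index _
  rw [h1]

/-- Version for an invariant subset. -/
theorem card_dvd_ncard_mul_of_const_stabilizer {K α : Type*} [Group K] [Finite K]
    [MulAction K α] [Finite α] (O : Set α) (hO : ∀ (g : K), ∀ x ∈ O, g • x ∈ O) (c : ℕ)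
    (hc : ∀ x ∈ O, Nat.card (stabilizer K x) = c) :
    Nat.card K ∣ O.ncard * c := by
  classical
  let S : SubMulAction K α := { carrier := O, smul_mem' := fun g x hx => hO g x hx }
  have h := card_dvd_card_mul_of_const_stabilizer (K := K) (X := ↥S) c (by
    intro x
    rw [SubMulAction.stabilizer_of_subMul]
    exact hc x.1 x.2)
  have e1 : Nat.card ↥S = O.ncard := Nat.card_coe_set_eq O
  rwa [e1] at h

section
variable {G α : Type*} [Group G] [MulAction G α]

theorem card_stabilizer_fixingSubgroup (S : Set α) (y : α) :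
    Nat.card (stabilizer (fixingSubgroup G S) y) = Nat.card (fixingSubgroup G (insert y S)) := by
  apply Nat.card_congr
  refine ⟨fun x => ⟨x.1.1, ?_⟩, fun x => ⟨⟨x.1, ?_⟩, ?_⟩, fun x => rfl, fun x => rfl⟩
  · rw [mem_fixingSubgroup_iff]
    intro z hz
    rcases Set.mem_insert_iff.mp hz with rfl | hz
    · exact x.2
    · exact (mem_fixingSubgroup_iff G).mp x.1.2 z hz
  · rw [mem_fixingSubgroup_iff]
    intro z hz
    exact (mem_fixingSubgroup_iff G).mp x.2 z (Set.mem_insert_of_mem _ hz)
  · exact (mem_fixingSubgroup_iff G).mp x.2 y (Set.mem_insert _ _)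

/-- If the pointwise stabilisers of `T ∪ {x}` all have the same order `l > 1` and those of
`T ∪ {x, y}` all have the same order, then the pointwise stabiliser of `T` is transitive on the
complement of `T` (for a faithful action of a finite group on a finite set). -/
theorem fixing_transitive_of_const_card [Finite G] [Finite α]
    (hfaith : ∀ g : G, (∀ x : α, g • x = x) → g = 1) (T : Set α) (l m : ℕ) (hl : 1 < l)
    (h1 : ∀ x : α, x ∉ T → Nat.card (fixingSubgroup G (insert x T)) = l)
    (h2 : ∀ x y : α, x ∉ T → y ∉ T → x ≠ y →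
      Nat.card (fixingSubgroup G (insert y (insert x T))) = m)
    (u v : α) (hu : u ∉ T) (hv : v ∉ T) :
    ∃ g : G, (∀ x ∈ T, g • x = x) ∧ g • u = v := by
  classical
  by_contra hcon
  set H : Subgroup G := fixingSubgroup G T with hH
  have hHorb : ∀ (w : α), w ∉ T → ∀ y ∈ orbit H w, y ∉ T := by
    rintro w hw _ ⟨g, rfl⟩ hy
    apply hw
    have hy' : g.1 • w ∈ T := hy
    have hg := (mem_fixingSubgroup_iff G).mp g.2
    have h3 : g.1 • (g.1 • w) = g.1 • w := hg _ hy'
    have h4 : g.1 • w = w := smul_left_cancel g.1 h3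
    rwa [h4] at hy'
  have hvu : v ∉ orbit H u := by
    rintro ⟨g, hg⟩
    exact hcon ⟨g.1, (mem_fixingSubgroup_iff G).mp g.2, hg⟩
  have huv : u ∉ orbit H v := by
    intro h
    exact hvu ((orbit_eq_iff.mpr h) ▸ mem_orbit_self v)
  -- sizes of orbits
  have hsu : (orbit H u).ncard * l = Nat.card H := by
    rw [← index_stabilizer, ← h1 u hu, ← card_stabilizer_fixingSubgroup, mul_comm]
    exact Subgroup.card_mul_index _
  have hsv : (orbit H v).ncard * l = Nat.card H := by
    rw [← index_stabilizer, ← h1 v hv, ← card_stabilizer_fixingSubgroup, mul_comm]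
    exact Subgroup.card_mul_index _
  have hlpos : 0 < l := by omega
  have hs : (orbit H u).ncard = (orbit H v).ncard :=
    Nat.eq_of_mul_eq_mul_right hlpos (hsu.trans hsv.symm)
  set K : Subgroup G := fixingSubgroup G (insert u T) with hK
  have hKH : K ≤ H := by
    intro g hg
    rw [hH, mem_fixingSubgroup_iff]
    intro y hy
    exact (mem_fixingSubgroup_iff G).mp hg y (Set.mem_insert_of_mem _ hy)
  have hKcard : Nat.card K = l := h1 u hu
  have hKu : ∀ g : K, g.1 • u = u := fun g =>
    (mem_fixingSubgroup_iff G).mp g.2 u (Set.mem_insert _ _)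
  -- K acts on orbit H v with stabilisers of order m
  have hd1 : l ∣ (orbit H v).ncard * m := by
    rw [← hKcard]
    apply card_dvd_ncard_mul_of_const_stabilizer (K := K) (orbit H v)
    · rintro g _ ⟨h, rfl⟩
      refine ⟨⟨g.1, hKH g.2⟩ * h, ?_⟩
      change (⟨g.1, hKH g.2⟩ * h : H) • v = g • (h • v)
      rw [mul_smul]; rfl
    · intro y hy
      rw [card_stabilizer_fixingSubgroup]
      exact h2 u y hu (hHorb v hv y hy) (fun e => huv (e ▸ hy))
  have hd2 : l ∣ ((orbit H u) \ {u}).ncard * m := by
    rw [← hKcard]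
    apply card_dvd_ncard_mul_of_const_stabilizer (K := K) ((orbit H u) \ {u})
    · rintro g y ⟨⟨h, rfl⟩, hyu⟩
      refine ⟨⟨⟨g.1, hKH g.2⟩ * h, ?_⟩, ?_⟩
      · change (⟨g.1, hKH g.2⟩ * h : H) • u = g • (h • u)
        rw [mul_smul]; rfl
      intro e
      apply hyu
      have e' : g.1 • (h • u) = u := e
      have : g.1 • (h • u) = g.1 • u := by rw [e', hKu g]
      exact smul_left_cancel g.1 this
    · rintro y ⟨hy, hyu⟩
      rw [card_stabilizer_fixingSubgroup]
      exact h2 u y hu (hHorb u hu y hy) (fun e => hyu e.symm)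
  have hcardsub : ((orbit H u) \ {u}).ncard = (orbit H u).ncard - 1 := by
    rw [Set.ncard_sdiff_singleton_of_mem (mem_orbit_self u)]
  have hspos : 0 < (orbit H u).ncard := by
    rw [Set.ncard_pos]
    exact ⟨u, mem_orbit_self u⟩
  have hlm : l ∣ m := by
    rw [hcardsub] at hd2
    rw [← hs] at hd1
    have : (orbit H u).ncard * m = ((orbit H u).ncard - 1) * m + m := by
      have : (orbit H u).ncard = ((orbit H u).ncard - 1) + 1 := by omega
      nth_rewrite 1 [this]
      ring
    rw [this] at hd1
    exact (Nat.dvd_add_right hd2).mp hd1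
  have hml : m ∣ l := by
    rw [← h2 u v hu hv (fun e => hvu (e ▸ mem_orbit_self u)), ← hKcard]
    apply Subgroup.card_dvd_of_le
    intro g hg
    rw [hK, mem_fixingSubgroup_iff]
    intro y hy
    exact (mem_fixingSubgroup_iff G).mp hg y (Set.mem_insert_of_mem _ hy)
  have hlm' : l = m := Nat.dvd_antisymm hlm hml
  -- K is trivial
  have hKbot : K = ⊥ := by
    rw [Subgroup.eq_bot_iff_forall]
    intro g hg
    apply hfaith
    intro y
    by_cases hyT : y ∈ insert u T
    · exact (mem_fixingSubgroup_iff G).mp hg y hyT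
    · have hyu : y ≠ u := fun e => hyT (e ▸ Set.mem_insert _ _)
      have hyT' : y ∉ T := fun e => hyT (Set.mem_insert_of_mem _ e)
      have hle : fixingSubgroup G (insert y (insert u T)) ≤ K := by
        intro g hg
        rw [hK, mem_fixingSubgroup_iff]
        intro z hz
        exact (mem_fixingSubgroup_iff G).mp hg z (Set.mem_insert_of_mem _ hz)
      have heq := Subgroup.eq_of_le_of_card_ge hle (by
        rw [hKcard, h2 u y hu hyT' (Ne.symm hyu), hlm'])
      rw [← heq] at hg
      exact (mem_fixingSubgroup_iff G).mp hg y (Set.mem_insert _ _)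
  rw [hKbot, Subgroup.card_bot] at hKcard
  omega

end

end Cfsg.Agent.Helper4
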