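import Mathlib

set_option autoImplicit false
set_option linter.style.haveILetI false
set_option linter.unusedSectionVars false

/-!
# McKay's count: `p` divides the number of solutions of `x ^ p = 1`
-/

namespace Cfsg.Agent.Helper4

open Equiv.Perm

/-- If the prime `p` divides the order of the finite group `G`, then `p` divides the number of
solutions of `x ^ p = 1` in `G`. -/
theorem prime_dvd_card_pow_eq_one {G : Type*} [Group G] [Finite G] (p : ℕ)
    [hp : Fact p.Prime] (hdvd : p ∣ Nat.card G) :
    p ∣ Nat.card {x : G // x ^ p = 1} := by
  classical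
  letI : Fintype G := Fintype.ofFinite G
  rw [Nat.card_eq_fintype_card] at hdvd
  have hp' : p - 1 ≠ 0 := mt tsub_eq_zero_iff_le.mp (not_le_of_gt hp.out.one_lt)
  have Scard : p ∣ Fintype.card (vectorsProdEqOne G p) := by
    rw [VectorsProdEqOne.card G p]
    exact hdvd.trans (dvd_pow (dvd_refl _) hp')
  let f : Function.End (vectorsProdEqOne G p) := fun v => VectorsProdEqOne.rotate v 1
  have hfk : ∀ (k : ℕ) (v : vectorsProdEqOne G p), (f ^ k) v = VectorsProdEqOne.rotate v k := by
    intro k
    induction k with
    | zero => intro v; rw [pow_zero, VectorsProdEqOne.rotate_zero]; rfl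
    | succ k ih =>
      intro v
      rw [pow_succ]
      change (f ^ k) (f v) = _
      rw [ih]
      change VectorsProdEqOne.rotate (VectorsProdEqOne.rotate v 1) k = _
      rw [VectorsProdEqOne.rotate_rotate, add_comm]
  have hf : f ^ p ^ 1 = 1 := by
    funext v
    rw [pow_one, hfk, VectorsProdEqOne.rotate_length]
    rfl
  have hmod := Equiv.Perm.card_fixedPoints_modEq (p := p) (n := 1) hf
  have hfix : p ∣ Fintype.card (Function.fixedPoints f) :=
    (Nat.modEq_zero_iff_dvd.mp (hmod.symm.trans (Nat.modEq_zero_iff_dvd.mpr Scard)))
  -- the fixed points are the constant vectors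
  let φ : {x : G // x ^ p = 1} → Function.fixedPoints f := fun x =>
    ⟨⟨List.Vector.replicate p x.1, by
        rw [VectorsProdEqOne.mem_iff]
        change (List.replicate p x.1).prod = 1
        rw [List.prod_replicate]
        exact x.2⟩, by
      apply Subtype.ext
      apply Subtype.ext
      exact List.rotate_replicate x.1 p 1⟩
  have hφ : Function.Bijective φ := by
    constructor
    · intro x y hxy
      have h1 : (φ x).1.1.1 = (φ y).1.1.1 := by rw [hxy]
      have h2 : List.replicate p x.1 = List.replicate p y.1 := h1
      have hppos : 0 < p := hp.out.pos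
      have := List.replicate_right_injective (n := p) hppos.ne' h2
      exact Subtype.ext this
    · intro v
      have hv : f v.1 = v.1 := v.2
      have hv' : (v.1.1.1).rotate 1 = v.1.1.1 := by
        have := congrArg (fun w : vectorsProdEqOne G p => w.1.1) hv
        exact this
      obtain ⟨g, hg⟩ := List.rotate_one_eq_self_iff_eq_replicate.mp hv'
      have hlen : v.1.1.1.length = p := v.1.1.2
      rw [hlen] at hg
      have hprod : v.1.1.1.prod = 1 := (VectorsProdEqOne.mem_iff G v.1.1).mp v.1.2
      have hgp : g ^ p = 1 := by
        rw [hg, List.prod_replicate] at hprod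
        exact hprod
      refine ⟨⟨g, hgp⟩, ?_⟩
      apply Subtype.ext
      apply Subtype.ext
      apply Subtype.ext
      exact hg.symm
  rw [Nat.card_eq_fintype_card, Fintype.card_of_bijective hφ]
  exact hfix

end Cfsg.Agent.Helper4
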