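import Mathlib
import Cfsg.Prelude
import Cfsg.Agent.Helper4.ConstStab
import Cfsg.Agent.Helper4.McKay

set_option autoImplicit false
set_option linter.style.haveILetI false
set_option linter.unusedSectionVars false

/-!
# Zassenhaus groups: the regular normal subgroup of a point stabiliser is elementary abelian
when `2 d ≥ n - 1`
-/

namespace Cfsg.Agent.Helper4

open MulAction

section FreeConj

variable {G : Type*} [Group G] [Finite G]

/-- If a subgroup `H` acts freely by conjugation on a conjugation-invariant subset `S` of `G`,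
then `|H|` divides `|S|`. -/
theorem card_dvd_ncard_of_free_conj (H : Subgroup G) (S : Set G)
    (hinv : ∀ h ∈ H, ∀ x ∈ S, h * x * h⁻¹ ∈ S)
    (hfree : ∀ h ∈ H, ∀ x ∈ S, h * x * h⁻¹ = x → h = 1) :
    Nat.card H ∣ S.ncard := by
  classical
  haveI : Finite (ConjAct G) := inferInstanceAs (Finite G)
  let K : Subgroup (ConjAct G) := H.map (ConjAct.toConjAct (G := G)).toMonoidHom
  have hKcard : Nat.card K = Nat.card H :=
    Subgroup.card_map_of_injective (ConjAct.toConjAct (G := G)).injective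
  have hKmem : ∀ k : K, ConjAct.ofConjAct (k : ConjAct G) ∈ H := by
    rintro ⟨k, h, hh, rfl⟩
    simpa using hh
  have hsmul : ∀ (k : K) (x : G), k • x =
      ConjAct.ofConjAct (k : ConjAct G) * x * (ConjAct.ofConjAct (k : ConjAct G))⁻¹ := by
    intro k x
    rw [Subgroup.smul_def, ConjAct.smul_def]
  have h := card_dvd_ncard_mul_of_const_stabilizer (K := K) (α := G) S
    (by
      intro k x hx
      rw [hsmul]
      exact hinv _ (hKmem k) x hx) 1
    (by
      intro x hx
      have : stabilizer K x = ⊥ := by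
        rw [Subgroup.eq_bot_iff_forall]
        intro k hk
        rw [mem_stabilizer_iff, hsmul] at hk
        have h1 := hfree _ (hKmem k) x hx hk
        apply Subtype.ext
        have : (k : ConjAct G) = ConjAct.toConjAct (ConjAct.ofConjAct (k : ConjAct G)) := by simp
        rw [this, h1]
        rfl
      rw [this]
      exact Subgroup.card_bot)
  rw [mul_one, hKcard] at h
  exact h

end FreeConj

section Kernel

variable {G Ω : Type*} [Group G] [MulAction G Ω]

/-- Arithmetic core: `d ∣ m`, `d ∣ n - 1`, `1 ≤ m ≤ n - 1 ≤ 2 d`: then `m = n - 1` or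
(`m = d` and `n = 2 d + 1`). -/
theorem arith_core {d m n : ℕ} (hd : 0 < d) (h1 : d ∣ m) (h2 : d ∣ n - 1) (hm : 1 ≤ m)
    (hmn : m ≤ n - 1) (hn : n - 1 ≤ 2 * d) : m = n - 1 ∨ (m = d ∧ n = 2 * d + 1) := by
  obtain ⟨j, hj⟩ := h1
  obtain ⟨i, hi⟩ := h2
  have hj1 : 1 ≤ j := by
    rcases Nat.eq_zero_or_pos j with h | h
    · rw [h, mul_zero] at hj; omega
    · exact h
  have hi2 : i ≤ 2 := by
    by_contra hcon
    push Not at hcon
    have : d * 3 ≤ d * i := Nat.mul_le_mul_left d hcon
    omega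
  have hji : j ≤ i := by
    by_contra hcon
    push Not at hcon
    have : d * (i + 1) ≤ d * j := Nat.mul_le_mul_left d hcon
    have : d * (i + 1) = d * i + d := by ring
    omega
  interval_cases i
  · omega
  · have : j = 1 := by omega
    subst this
    left; omega
  · interval_cases j
    · right
      constructor <;> omega
    · left; omega

theorem zassenhaus_kernel_elementary [Finite G] [Fintype Ω] (hZ : Cfsg.IsZassenhausGroup G Ω)
    {a b : Ω} (hab : a ≠ b)
    (hd : Fintype.card Ω - 2 ≤ 2 * Nat.card ↥(stabilizer G a ⊓ stabilizer G b))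
    (F : Subgroup G) (hFle : F ≤ stabilizer G a)
    (hFn : (F.subgroupOf (stabilizer G a)).Normal)
    (hreg : ∀ y z : Ω, y ≠ a → z ≠ a → ∃! u : F, (u : G) • y = z) :
    IsMulCommutative F ∧ ∃ p f : ℕ, p.Prime ∧ (∀ u ∈ F, u ^ p = 1) ∧
      Fintype.card Ω = p ^ f + 1 := by
  classical
  obtain ⟨hfaith, h2, h3, hex, hnoreg⟩ := hZ
  set H := stabilizer G a ⊓ stabilizer G b with hH
  set d := Nat.card H with hd_def
  set N := Fintype.card Ω with hN
  have hdpos : 0 < d := Nat.card_pos
  -- Step 1: |F| + 1 = N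
  have hFa : ∀ u : F, (u : G) • a = a := fun u => hFle u.2
  have hub : ∀ u : F, (u : G) • b ≠ a := by
    intro u h
    have : (u : G) • b = (u : G) • a := by rw [h, hFa u]
    exact hab (smul_left_cancel _ this).symm
  have hcardF : Nat.card F + 1 = N := by
    have e : F ≃ {x : Ω // x ≠ a} := Equiv.ofBijective (fun u => ⟨(u : G) • b, hub u⟩) (by
      constructor
      · intro u u' huu'
        have h1 : (u : G) • b = (u' : G) • b := congrArg Subtype.val huu'
        exact (hreg b ((u' : G) • b) hab.symm (hub u')).unique h1 rfl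
      · rintro ⟨x, hx⟩
        obtain ⟨u, hu⟩ := (hreg b x hab.symm hx).exists
        exact ⟨u, Subtype.ext hu⟩)
    rw [Nat.card_congr e, Nat.card_eq_fintype_card, Fintype.card_subtype_compl,
      Fintype.card_subtype_eq]
    have : 1 ≤ N := Fintype.card_pos_iff.mpr ⟨a⟩
    omega
  set n := Nat.card F with hn
  have hnpos : 0 < n := Nat.card_pos
  have hn2d : n - 1 ≤ 2 * d := by omega
  -- Step 2: H normalises F
  have hnorm : ∀ h ∈ stabilizer G a, ∀ u ∈ F, h * u * h⁻¹ ∈ F := by
    intro h hh u hu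
    have := hFn.conj_mem ⟨u, hFle hu⟩ (Subgroup.mem_subgroupOf.mpr hu) ⟨h, hh⟩
    rw [Subgroup.mem_subgroupOf] at this
    simpa using this
  have hHa : ∀ h ∈ H, h ∈ stabilizer G a := fun h hh => hh.1
  -- Step 3: freeness
  have hfree : ∀ h ∈ H, ∀ u ∈ F, u ≠ 1 → h * u * h⁻¹ = u → h = 1 := by
    intro h hh u hu hu1 hconj
    have hha : h • a = a := hh.1
    have hhb : h • b = b := hh.2
    have hubb : u • b ≠ b := by
      intro hfix
      apply hu1
      have h1 : ((⟨u, hu⟩ : F) : G) • b = b := hfix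
      have h2 : ((1 : F) : G) • b = b := one_smul _ _
      have := (hreg b b hab.symm hab.symm).unique h1 h2
      exact congrArg Subtype.val this
    have huba : u • b ≠ a := hub ⟨u, hu⟩
    have hfix : h • (u • b) = u • b := by
      have : h * u = u * h := by
        have := congrArg (· * h) hconj
        simpa [mul_assoc] using this
      rw [← mul_smul, this, mul_smul, hhb]
    exact h3 h a b (u • b) hab (Ne.symm hubb) (Ne.symm huba) hha hhb hfix
  -- Step 4: divisibility for invariant subsets of F \ {1}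
  have hdvd : ∀ S : Set G, (∀ x ∈ S, x ∈ F ∧ x ≠ 1) → (∀ h ∈ H, ∀ x ∈ S, h * x * h⁻¹ ∈ S) →
      d ∣ S.ncard := by
    intro S hS hinv
    exact card_dvd_ncard_of_free_conj H S hinv
      (fun h hh x hx hc => hfree h hh x (hS x hx).1 (hS x hx).2 hc)
  -- the set F \ {1}
  let T0 : Set G := {x | x ∈ F ∧ x ≠ 1}
  have hT0 : T0.ncard = n - 1 := by
    have : T0 = (F : Set G) \ {1} := by
      ext x
      simp [T0]
    rw [this, Set.ncard_sdiff_singleton_of_mem F.one_mem]
    rfl
  have hT0inv : ∀ h ∈ H, ∀ x ∈ T0, h * x * h⁻¹ ∈ T0 := by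
    intro h hh x hx
    refine ⟨hnorm h (hHa h hh) x hx.1, ?_⟩
    intro h1
    apply hx.2
    have := congrArg (fun u => h⁻¹ * u * h) h1
    simpa [mul_assoc] using this
  have hdn : d ∣ n - 1 := by
    rw [← hT0]
    exact hdvd T0 (fun x hx => hx) hT0inv
  -- key consequence: an invariant nonempty subset of T0 is all of T0, or has d elements
  have hcases : ∀ S : Set G, S ⊆ T0 → (∀ h ∈ H, ∀ x ∈ S, h * x * h⁻¹ ∈ S) → S.Nonempty →
      S = T0 ∨ (S.ncard = d ∧ n = 2 * d + 1) := by
    intro S hS hinv hne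
    have h1 := hdvd S (fun x hx => hS hx) hinv
    have hfin : T0.Finite := Set.toFinite _
    have h2 : S.ncard ≤ n - 1 := by
      rw [← hT0]
      exact Set.ncard_le_ncard hS hfin
    have h3 : 1 ≤ S.ncard := by
      rw [Nat.succ_le_iff, Set.ncard_pos (hfin.subset hS)]
      exact hne
    rcases arith_core hdpos h1 hdn h3 h2 hn2d with h | h
    · left
      exact Set.eq_of_subset_of_ncard_le hS (by rw [hT0, h]) hfin
    · right
      exact h
  -- trivial case
  by_cases hn1 : n = 1
  · have hbot : F = ⊥ := Subgroup.eq_bot_of_card_eq F hn1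
    have hall : ∀ u ∈ F, u = 1 := (Subgroup.eq_bot_iff_forall F).mp hbot
    refine ⟨⟨⟨fun x y => ?_⟩⟩, 2, 0, Nat.prime_two, ?_, ?_⟩
    · have hx : x = 1 := Subtype.ext (hall x.1 x.2)
      rw [hx, one_mul, mul_one]
    · intro u hu
      rw [hall u hu, one_pow]
    · omega
  have hn2 : 2 ≤ n := by omega
  -- Step 6: a prime p dividing n; all elements have order dividing p
  have hpprime : (n.minFac).Prime := Nat.minFac_prime hn1
  set p := n.minFac with hp_def
  haveI : Fact p.Prime := ⟨hpprime⟩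
  have hpn : p ∣ n := Nat.minFac_dvd n
  have hmckay := prime_dvd_card_pow_eq_one (G := F) p hpn
  let Sp' : Set G := {x | x ∈ F ∧ x ^ p = 1}
  let Sp : Set G := {x | x ∈ F ∧ x ≠ 1 ∧ x ^ p = 1}
  have hSp'card : Nat.card {x : F // x ^ p = 1} = Sp'.ncard := by
    have : Sp' = (Subtype.val : F → G) '' {x : F | x ^ p = 1} := by
      ext x
      constructor
      · rintro ⟨hxF, hxp⟩
        exact ⟨⟨x, hxF⟩, Subtype.ext hxp, rfl⟩
      · rintro ⟨y, hy, rfl⟩
        exact ⟨y.2, congrArg Subtype.val hy⟩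
    rw [this, Set.ncard_image_of_injective _ Subtype.val_injective]
    rfl
  have hSpdiff : Sp = Sp' \ {1} := by
    ext x
    simp only [Sp, Sp', Set.mem_ofPred_eq, Set.mem_sdiff, Set.mem_singleton_iff]
    tauto
  have hSpcard : Sp.ncard + 1 = Sp'.ncard := by
    have h1mem : (1 : G) ∈ Sp' := ⟨F.one_mem, one_pow _⟩
    rw [hSpdiff, Set.ncard_sdiff_singleton_of_mem h1mem]
    have : 0 < Sp'.ncard := (Set.ncard_pos (Set.toFinite _)).mpr ⟨1, h1mem⟩
    omega
  have hpSp : p ∣ Sp.ncard + 1 := by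
    rw [hSpcard, ← hSp'card]
    exact hmckay
  have hSpsub : Sp ⊆ T0 := fun x hx => ⟨hx.1, hx.2.1⟩
  have hSpinv : ∀ h ∈ H, ∀ x ∈ Sp, h * x * h⁻¹ ∈ Sp := by
    intro h hh x hx
    have := hT0inv h hh x ⟨hx.1, hx.2.1⟩
    refine ⟨this.1, this.2, ?_⟩
    rw [conj_pow, hx.2.2, mul_one, mul_inv_cancel]
  have hSpne : Sp.Nonempty := by
    rw [← Set.ncard_pos (Set.toFinite _)]
    have := Nat.le_of_dvd (by omega) hpSp
    have := hpprime.two_le
    omega
  have hexp : ∀ u ∈ F, u ^ p = 1 := by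
    rcases hcases Sp hSpsub hSpinv hSpne with h | ⟨h1, h2⟩
    · intro u hu
      by_cases hu1 : u = 1
      · rw [hu1, one_pow]
      · have : u ∈ Sp := by rw [h]; exact ⟨hu, hu1⟩
        exact this.2.2
    · exfalso
      rw [h1] at hpSp
      rw [h2] at hpn
      have : p ∣ 2 * (d + 1) - (2 * d + 1) := Nat.dvd_sub (Dvd.dvd.mul_left hpSp 2) hpn
      have e : 2 * (d + 1) - (2 * d + 1) = 1 := by omega
      rw [e] at this
      exact hpprime.one_lt.ne' (Nat.dvd_one.mp this)
  have hPG : IsPGroup p F := by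
    intro x
    refine ⟨1, ?_⟩
    rw [pow_one]
    apply Subtype.ext
    exact hexp x.1 x.2
  obtain ⟨f, hf⟩ := (IsPGroup.iff_card (p := p) (G := F)).mp hPG
  -- Step 7: F is abelian
  haveI : Nontrivial F := by
    rw [← Finite.one_lt_card_iff_nontrivial]
    omega
  have hcenter := hPG.center_nontrivial
  let Z : Set G := {x | x ∈ F ∧ ∀ y ∈ F, x * y = y * x}
  let SZ : Set G := {x | x ∈ F ∧ x ≠ 1 ∧ ∀ y ∈ F, x * y = y * x}
  have hZcard : Nat.card (Subgroup.center F) = Z.ncard := by
    have : Z = (fun z : Subgroup.center F => ((z : F) : G)) '' Set.univ := by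
      ext x
      constructor
      · rintro ⟨hxF, hxc⟩
        refine ⟨⟨⟨x, hxF⟩, ?_⟩, trivial, rfl⟩
        rw [Subgroup.mem_center_iff]
        intro y
        apply Subtype.ext
        exact (hxc y.1 y.2).symm
      · rintro ⟨z, _, rfl⟩
        refine ⟨z.1.2, ?_⟩
        intro y hy
        have := Subgroup.mem_center_iff.mp z.2 ⟨y, hy⟩
        exact (congrArg Subtype.val this).symm
    rw [this, Set.ncard_image_of_injective _ (fun z z' h => Subtype.ext (Subtype.ext h)),
      Set.ncard_univ]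
  have hSZdiff : SZ = Z \ {1} := by
    ext x
    simp only [SZ, Z, Set.mem_ofPred_eq, Set.mem_sdiff, Set.mem_singleton_iff]
    tauto
  have h1Z : (1 : G) ∈ Z := ⟨F.one_mem, fun y _ => by rw [one_mul, mul_one]⟩
  have hSZcard : SZ.ncard + 1 = Nat.card (Subgroup.center F) := by
    rw [hZcard, hSZdiff, Set.ncard_sdiff_singleton_of_mem h1Z]
    have : 0 < Z.ncard := (Set.ncard_pos (Set.toFinite _)).mpr ⟨1, h1Z⟩
    omega
  have hSZsub : SZ ⊆ T0 := fun x hx => ⟨hx.1, hx.2.1⟩
  have hSZinv : ∀ h ∈ H, ∀ x ∈ SZ, h * x * h⁻¹ ∈ SZ := by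
    intro h hh x hx
    have := hT0inv h hh x ⟨hx.1, hx.2.1⟩
    refine ⟨this.1, this.2, ?_⟩
    intro y hy
    have hy' : h⁻¹ * y * h ∈ F := by
      have := hnorm h⁻¹ ((stabilizer G a).inv_mem (hHa h hh)) y hy
      simpa using this
    have hc := hx.2.2 _ hy'
    calc h * x * h⁻¹ * y = h * (x * (h⁻¹ * y * h)) * h⁻¹ := by group
      _ = h * ((h⁻¹ * y * h) * x) * h⁻¹ := by rw [hc]
      _ = y * (h * x * h⁻¹) := by group
  have hSZne : SZ.Nonempty := by
    rw [← Set.ncard_pos (Set.toFinite _)]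
    have : 1 < Nat.card (Subgroup.center F) := Finite.one_lt_card_iff_nontrivial.mpr hcenter
    omega
  have hcomm : ∀ x ∈ F, ∀ y ∈ F, x * y = y * x := by
    rcases hcases SZ hSZsub hSZinv hSZne with h | ⟨h1, h2⟩
    · intro x hx y hy
      by_cases hx1 : x = 1
      · rw [hx1, one_mul, mul_one]
      · have : x ∈ SZ := by rw [h]; exact ⟨hx, hx1⟩
        exact this.2.2 y hy
    · exfalso
      have hdvdn : Nat.card (Subgroup.center F) ∣ n := Subgroup.card_subgroup_dvd_card _
      rw [← hSZcard, h1, h2] at hdvdn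
      have : d + 1 ∣ 2 * (d + 1) - (2 * d + 1) := Nat.dvd_sub (Dvd.intro_left 2 rfl) hdvdn
      have e : 2 * (d + 1) - (2 * d + 1) = 1 := by omega
      rw [e] at this
      have := Nat.dvd_one.mp this
      omega
  refine ⟨⟨⟨fun x y => Subtype.ext (hcomm x.1 x.2 y.1 y.2)⟩⟩, p, f, hpprime, hexp, ?_⟩
  rw [← hf]
  omega

end Kernel

end Cfsg.Agent.Helper4
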