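import Cfsg.Agent.Helper29.OC2K.Defs
import Cfsg.Agent.Helper29.OC2K.STAB
import Cfsg.Agent.Helper29.OC2K.BLK
import Cfsg.Agent.Helper29.OC2K.CMP1
import Cfsg.Agent.Helper29.OC2K.CMP2
import Cfsg.Agent.Helper29.OC2K.STEP0
import Cfsg.Agent.Helper29.OC2K.REFLMEM
import Cfsg.Agent.Helper29.OC2K.SIEGMEM
import Cfsg.Agent.Helper29.OC2K.GEOC

set_option autoImplicit false
set_option linter.unusedSectionVars false
set_option linter.unusedVariables false

/-! # S5694 CHAR2, `q = 2` (designer helper10), piece Q2F (helper4): the two-element field. -/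

namespace Cfsg.Agent.OC2K

open Matrix Cfsg.Agent.Helper28.Sg Cfsg.Agent.Helper28.Spin Cfsg.Agent.Helper12.OrthGen
  Cfsg.Agent.S2614 Cfsg.Agent.S5683P Cfsg.Agent.Helper28.NDM

variable {F : Type*} [Field F] {t k : ℕ} {ι : Type} [Fintype ι] [DecidableEq ι] {Q : QuadraticForm F (ι → F)} [QHyp Q] {D : Fin t → Submodule F (ι → F)}
  {M : Subgroup (OGq Q)}

/-- `Fintype.card F = 2`: every element is `0` or `1`. -/
theorem Q2.F.zero_or_one [Fintype F] (hq : Fintype.card F = 2) (x : F) : x = 0 ∨ x = 1 := by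
  classical
  by_contra h
  push Not at h
  have h3 : ({0, 1, x} : Finset F).card = 3 := by
    rw [Finset.card_insert_of_notMem, Finset.card_insert_of_notMem, Finset.card_singleton]
    · simp only [Finset.mem_singleton]
      exact fun h1 => h.2 h1.symm
    · simp only [Finset.mem_insert, Finset.mem_singleton, not_or]
      exact ⟨zero_ne_one, fun h0 => h.1 h0.symm⟩
  have h4 := Finset.card_le_univ ({0, 1, x} : Finset F)
  omega

/-- `2 = 0` -/
theorem Q2.F.two [Fintype F] (hq : Fintype.card F = 2) : (2 : F) = 0 := by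
  have e : (2 : F) = 1 + 1 := by norm_num
  rcases Q2.F.zero_or_one hq ((1 : F) + 1) with h | h
  · rw [e, h]
  · exfalso
    have : (1 : F) = 0 := by linear_combination h
    exact one_ne_zero this

/-- nonzero elements are `1` -/
theorem Q2.F.eq_one [Fintype F] (hq : Fintype.card F = 2) {x : F} (hx : x ≠ 0) : x = 1 := by
  rcases Q2.F.zero_or_one hq x with h | h
  · exact absurd h hx
  · exact h

end Cfsg.Agent.OC2K
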