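import Mathlib
import Cfsg.Agent.Helper26.SC1
import Cfsg.Agent.Helper25.FusionAlperin2

set_option autoImplicit false
set_option linter.unusedSectionVars false
set_option linter.unusedVariables false

/-! # Maps of a saturated fusion system defined on subgroups larger than every essential subgroup
are restrictions of automorphisms of `S` (piece (U) of S5289). -/

namespace Cfsg.Agent.Helper4.R2U

open Cfsg Cfsg.FusionSystem Cfsg.Agent.Helper25

variable {Ω : Type*} [Group Ω] {S : Subgroup Ω}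

/-- conjugation by an element of `S` is in `Aut_F(S)` -/
theorem conj_mem_autGroup (F : FusionSystem S) {g : Ω} (hg : g ∈ S) :
    MulAut.conj (⟨g, hg⟩ : S) ∈ F.autGroup S := by
  rw [mem_autGroup_iff F le_rfl]
  have h1 : conjHom S g ∈ F.Hom S := F.conj_mem le_rfl hg
  have e : autHom (MulAut.conj (⟨g, hg⟩ : S)) = conjHom S g := by
    ext x
    simp [autHom, conjHom]
  rw [e]
  exact h1

/-- the fusion system over `S` whose maps are the restrictions of the elements of `Aut_F(S)` -/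
def autRes (F : FusionSystem S) : FusionSystem S where
  Hom P := {φ | ∃ hP : P ≤ S, ∃ α ∈ F.autGroup S, ∀ x : P, φ x = ((α ⟨(x : Ω), hP x.2⟩ : S) : Ω)}
  le_of_mem := by
    rintro P φ ⟨hP, α, -, h⟩
    exact ⟨hP, fun x => (h x).symm ▸ (α _).2⟩
  injective_of_mem := by
    rintro P φ ⟨hP, α, -, h⟩ a b hab'
    rw [h a, h b] at hab'
    have h1 := α.injective (Subtype.ext hab')
    have h2 : (a : Ω) = b := congrArg (fun s : S => (s : Ω)) h1
    exact Subtype.ext h2
  conj_mem := by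
    intro P g hP hg
    refine ⟨hP, MulAut.conj (⟨g, hg⟩ : S), conj_mem_autGroup F hg, fun x => ?_⟩
    simp [conjHom]
  comp_mem := by
    rintro P Q φ ψ ⟨hP, α, hα, hφ⟩ ⟨hQ, β, hβ, hψ⟩ h
    refine ⟨hP, β * α, (F.autGroup S).mul_mem hβ hα, fun x => ?_⟩
    show ψ (φ.codRestrict Q h x) = _
    rw [hψ]
    show ((β ⟨φ x, _⟩ : S) : Ω) = ((β (α _) : S) : Ω)
    congr 2
    exact Subtype.ext (hφ x)
  inv_mem := by
    rintro P φ ⟨hP, α, hα, hφ⟩
    have hr : φ.range ≤ S := by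
      rintro _ ⟨x, rfl⟩
      rw [hφ]
      exact (α _).2
    refine ⟨⟨⟨fun y : φ.range => ((α⁻¹ ⟨(y : Ω), hr y.2⟩ : S) : Ω), ?_⟩, ?_⟩,
      ⟨hr, α⁻¹, (F.autGroup S).inv_mem hα, fun y => rfl⟩, ?_⟩
    · show ((α⁻¹ ⟨((1 : φ.range) : Ω), _⟩ : S) : Ω) = 1
      have : (⟨((1 : φ.range) : Ω), hr (1 : φ.range).2⟩ : S) = 1 := Subtype.ext rfl
      rw [this, map_one]
      rfl
    · intro a b
      show ((α⁻¹ ⟨((a * b : φ.range) : Ω), _⟩ : S) : Ω) = _
      have : (⟨((a * b : φ.range) : Ω), hr (a * b).2⟩ : S) =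
          ⟨(a : Ω), hr a.2⟩ * ⟨(b : Ω), hr b.2⟩ := Subtype.ext rfl
      rw [this, map_mul]
      rfl
    · intro x
      show ((α⁻¹ ⟨φ x, _⟩ : S) : Ω) = x
      have : (⟨φ x, hr ⟨x, rfl⟩⟩ : S) = α ⟨(x : Ω), hP x.2⟩ := Subtype.ext (hφ x)
      rw [this]
      simp

theorem mem_autRes_hom {F : FusionSystem S} {P : Subgroup Ω} {φ : P →* Ω} :
    φ ∈ (autRes F).Hom P ↔
      ∃ hP : P ≤ S, ∃ α ∈ F.autGroup S, ∀ x : P, φ x = ((α ⟨(x : Ω), hP x.2⟩ : S) : Ω) := Iff.rfl

/-- the system of restrictions of `Aut_F(S)` is contained in `F` -/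
theorem autRes_le (F : FusionSystem S) (R : Subgroup Ω) (θ : R →* Ω)
    (hθ : θ ∈ (autRes F).Hom R) : θ ∈ F.Hom R := by
  obtain ⟨hR, α, hα, h⟩ := hθ
  have hαF : autHom α ∈ F.Hom S := (mem_autGroup_iff F le_rfl α).mp hα
  refine comp_mem' F (subtype_mem F hR) hαF (fun x => hR x.2) (fun x => ?_)
  rw [h x]
  rfl

/-- Piece (U): if all essential subgroups have order at most `m`, every map of the system defined
on a subgroup of order more than `m` is the restriction of an element of `Aut_F(S)`. -/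
theorem exists_aut_of_card_gt [Finite S] (p : ℕ) [Fact p.Prime] (hS : IsPGroup p S)
    (F : FusionSystem S) (hF : F.IsSaturated p) (m : ℕ)
    (hm : ∀ P : Subgroup Ω, F.IsEssential p P → Nat.card P ≤ m) (Q : Subgroup Ω) (hQS : Q ≤ S)
    (φ : Q →* Ω) (hφ : φ ∈ F.Hom Q) (hQ : m < Nat.card Q) :
    ∃ γ ∈ F.autGroup S, ∀ x : Q, φ x = ((γ ⟨x, hQS x.2⟩ : S) : Ω) := by
  have hle : F ≤ Cfsg.Agent.Helper26.SC.thSystem F (autRes F) (autRes_le F) m := by
    apply alperin_le p hS F hF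
    intro P hP α hα
    have hPS : P ≤ S := by
      rcases hP with rfl | hP
      · exact le_rfl
      · exact hP.2.1.1
    rw [mem_autGroup_iff _ hPS]
    refine ⟨(mem_autGroup_iff F hPS α).mp hα, fun hmP => ?_⟩
    rcases hP with rfl | hP
    · exact ⟨le_rfl, α, hα, fun x => rfl⟩
    · exact absurd (hm P hP) (not_le.mpr hmP)
  obtain ⟨hQ', γ, hγ, h⟩ := (hle Q hφ).2 hQ
  exact ⟨γ, hγ, fun x => h x⟩

end Cfsg.Agent.Helper4.R2U
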