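import Mathlib
import Cfsg.Agent.Helper10.S2092.DefsP

set_option autoImplicit false
set_option linter.unusedSectionVars false
set_option linter.unusedVariables false

/-! S2092, part P, piece BLK (helper4; driver helper10): block shapes of `π` on `UA Ys` and `UPC Ys Yl`. -/

namespace Cfsg.Agent.S2092P

open scoped commutatorElement
open Matrix Cfsg.Agent.S3352P Cfsg.Agent.S2096P Cfsg.Agent.S2094P Cfsg.Agent.RGD

variable {n : ℕ} {F : Type*} [Field F] {M : Type*} [Group M] {Ys : J n → J n → F → M}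
  {Yl : J n → F → M} {π : M →* Matrix (J n) (J n) F}

namespace BLK

theorem Ys_zero' (hY : CRel Ys Yl) {a b : J n} (hab : IsRoot a b) : Ys a b (0 : F) = 1 := by
  have h := hY.adds a b hab 0 0
  rw [add_zero] at h
  exact (mul_eq_left (a := Ys a b (0 : F))).1 h.symm

theorem Ys_inv' (hY : CRel Ys Yl) {a b : J n} (hab : IsRoot a b) (t : F) :
    (Ys a b t)⁻¹ = Ys a b (-t) := by
  apply inv_eq_of_mul_eq_one_right
  rw [← hY.adds a b hab, add_neg_cancel, Ys_zero' hY hab]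

theorem Yl_zero' (hY : CRel Ys Yl) (a : J n) : Yl a (0 : F) = 1 := by
  have h := hY.addl a 0 0
  rw [add_zero] at h
  exact (mul_eq_left (a := Yl a (0 : F))).1 h.symm

theorem Yl_inv' (hY : CRel Ys Yl) (a : J n) (t : F) : (Yl a t)⁻¹ = Yl a (-t) := by
  apply inv_eq_of_mul_eq_one_right
  rw [← hY.addl a, add_neg_cancel, Yl_zero' hY]

theorem isRoot_ll {i j : Fin n} (h : i ≠ j) : IsRoot (Sum.inl i : J n) (Sum.inl j) :=
  ⟨fun h' => h (Sum.inl_injective h'), fun h' => by simp at h'⟩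

theorem isRoot_lr {i j : Fin n} (h : i ≠ j) : IsRoot (Sum.inl i : J n) (Sum.inr j) :=
  ⟨fun h' => by simp at h', fun h' => h (by simpa using h')⟩

theorem xs_ll (i j : Fin n) (t : F) :
    xs (Sum.inl i : J n) (Sum.inl j) t =
      Matrix.fromBlocks (1 + t • Matrix.single i j (1 : F)) 0 0
        (1 - t • Matrix.single j i (1 : F)) := by
  unfold xs
  ext (a | a) (b | b) <;>
    simp [Matrix.single_apply, Matrix.one_apply, Matrix.add_apply, Matrix.sub_apply,
      Matrix.smul_apply, sub_eq_add_neg]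

theorem xs_lr (i j : Fin n) (t : F) :
    xs (Sum.inl i : J n) (Sum.inr j) t =
      Matrix.fromBlocks 1 (t • (Matrix.single i j (1 : F) + Matrix.single j i (1 : F))) 0 1 := by
  unfold xs
  ext (a | a) (b | b) <;>
    simp [Matrix.single_apply, Matrix.one_apply, Matrix.add_apply, Matrix.sub_apply,
      Matrix.smul_apply]

theorem xl_l (i : Fin n) (t : F) :
    xl (Sum.inl i : J n) t = Matrix.fromBlocks 1 (t • Matrix.single i i (1 : F)) 0 1 := by
  unfold xl
  ext (a | a) (b | b) <;>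
    simp [Matrix.single_apply, Matrix.one_apply, Matrix.add_apply, Matrix.smul_apply]

theorem exists_UA (h : PHyp Ys Yl π) {a : M} (ha : a ∈ UA Ys) :
    ∃ A D : Matrix (Fin n) (Fin n) F, π a = Matrix.fromBlocks A 0 0 D := by
  unfold UA at ha
  induction ha using Subgroup.closure_induction'' with
  | mem x hx =>
    obtain ⟨i, j, t, hij, rfl⟩ := hx
    exact ⟨_, _, by rw [h.pis _ _ (isRoot_ll (ne_of_lt hij)), xs_ll]⟩
  | inv_mem x hx =>
    obtain ⟨i, j, t, hij, rfl⟩ := hx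
    exact ⟨_, _, by rw [Ys_inv' h.rel (isRoot_ll (ne_of_lt hij)),
      h.pis _ _ (isRoot_ll (ne_of_lt hij)), xs_ll]⟩
  | one => exact ⟨1, 1, by rw [map_one, Matrix.fromBlocks_one]⟩
  | mul x y _ _ hx hy =>
    obtain ⟨A, D, h1⟩ := hx
    obtain ⟨A', D', h2⟩ := hy
    refine ⟨A * A', D * D', ?_⟩
    rw [map_mul, h1, h2, Matrix.fromBlocks_multiply]
    simp

theorem exists_UPC (h : PHyp Ys Yl π) {y : M} (hy : y ∈ UPC Ys Yl) :
    ∃ N : Matrix (Fin n) (Fin n) F, π y = Matrix.fromBlocks 1 N 0 1 := by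
  unfold UPC at hy
  induction hy using Subgroup.closure_induction'' with
  | mem x hx =>
    rcases hx with ⟨i, j, t, hij, rfl⟩ | ⟨i, t, rfl⟩
    · exact ⟨_, by rw [h.pis _ _ (isRoot_lr hij), xs_lr]⟩
    · exact ⟨_, by rw [h.pil, xl_l]⟩
  | inv_mem x hx =>
    rcases hx with ⟨i, j, t, hij, rfl⟩ | ⟨i, t, rfl⟩
    · exact ⟨_, by rw [Ys_inv' h.rel (isRoot_lr hij), h.pis _ _ (isRoot_lr hij), xs_lr]⟩
    · exact ⟨_, by rw [Yl_inv' h.rel, h.pil, xl_l]⟩
  | one => exact ⟨0, by rw [map_one, Matrix.fromBlocks_one]⟩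
  | mul x y _ _ hx hy =>
    obtain ⟨N, h1⟩ := hx
    obtain ⟨N', h2⟩ := hy
    refine ⟨N' + N, ?_⟩
    rw [map_mul, h1, h2, Matrix.fromBlocks_multiply]
    simp

end BLK

theorem block_UA_c (h : PHyp Ys Yl π) {a : M} (ha : a ∈ UA Ys) :
    ∀ i j : Fin n, π a (Sum.inl i) (Sum.inr j) = 0 ∧ π a (Sum.inr i) (Sum.inl j) = 0 := by
  obtain ⟨A, D, h'⟩ := BLK.exists_UA h ha
  intro i j
  rw [h']
  exact ⟨rfl, rfl⟩

theorem block_UPC (h : PHyp Ys Yl π) {y : M} (hy : y ∈ UPC Ys Yl) :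
    ∀ i j : Fin n, π y (Sum.inl i) (Sum.inl j) = (1 : Matrix (Fin n) (Fin n) F) i j ∧
      π y (Sum.inr i) (Sum.inr j) = (1 : Matrix (Fin n) (Fin n) F) i j ∧
      π y (Sum.inr i) (Sum.inl j) = 0 := by
  obtain ⟨N, h'⟩ := BLK.exists_UPC h hy
  intro i j
  rw [h']
  exact ⟨rfl, rfl, rfl⟩

end Cfsg.Agent.S2092P
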