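import Mathlib
import Cfsg.Agent.Helper10.S2092.DefsP
import Cfsg.Agent.Helper23.S2092PBASIC

set_option autoImplicit false
set_option linter.unusedSectionVars false
set_option linter.unusedVariables false

/-! S2092, part P, piece UDEC (helper4; driver helper10): `Uh = UA * UPC` for the datum `datumC Ys Yl`.
Auxiliary (namespace `UDEC`): `UA Ys` normalizes `UPC Ys Yl` (`conj_mem`). -/

namespace Cfsg.Agent.S2092P

open scoped commutatorElement
open Matrix Cfsg.Agent.S3352P Cfsg.Agent.S2096P Cfsg.Agent.S2094P Cfsg.Agent.RGD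

variable {n : ℕ} {F : Type*} [Field F] {M : Type*} [Group M] {Ys : J n → J n → F → M}
  {Yl : J n → F → M}

namespace UDEC

theorem isRoot_ll {i j : Fin n} (h : i ≠ j) : IsRoot (Sum.inl i : J n) (Sum.inl j) :=
  ⟨fun h' => h (Sum.inl_injective h'), fun h' => by simp at h'⟩

theorem isRoot_lr {i j : Fin n} (h : i ≠ j) : IsRoot (Sum.inl i : J n) (Sum.inr j) :=
  ⟨fun h' => by simp at h', fun h' => h (by simpa using h')⟩

theorem conj_eq_comm_mul (g y : M) : g * y * g⁻¹ = ⁅g, y⁆ * y := by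
  rw [commutatorElement_def]
  group

theorem conj_eq_of_commute {g y : M} (h : Commute g y) : g * y * g⁻¹ = y := by
  rw [h.eq, mul_inv_cancel_right]

theorem Ys_zero' (hY : CRel Ys Yl) {a b : J n} (hab : IsRoot a b) : Ys a b (0 : F) = 1 := by
  have h := hY.adds a b hab 0 0
  rw [add_zero] at h
  exact (mul_eq_left (a := Ys a b (0 : F))).1 h.symm

theorem Ys_inv' (hY : CRel Ys Yl) {a b : J n} (hab : IsRoot a b) (t : F) :
    (Ys a b t)⁻¹ = Ys a b (-t) := by
  apply inv_eq_of_mul_eq_one_right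
  rw [← hY.adds a b hab, add_neg_cancel, Ys_zero' hY hab]

/-- the two names of the root `e_k + e_l` -/
theorem Ys_lr_swap (hY : CRel Ys Yl) {k l : Fin n} (hkl : k ≠ l) (s : F) :
    Ys (Sum.inl k) (Sum.inr l) s = Ys (Sum.inl l) (Sum.inr k) s := by
  have h := hY.flip (Sum.inl l) (Sum.inr k) (isRoot_lr hkl.symm) s
  simp only [ng_inr, ng_inl, sgF_inl, sgF_inr, mul_neg, mul_one, neg_neg, one_mul] at h
  exact h

theorem mem_UPC_s {k l : Fin n} (hkl : k ≠ l) (s : F) :
    Ys (Sum.inl k) (Sum.inr l) s ∈ UPC Ys Yl :=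
  Subgroup.subset_closure (Or.inl ⟨k, l, s, hkl, rfl⟩)

theorem mem_UPC_l (k : Fin n) (s : F) : Yl (Sum.inl k) s ∈ UPC Ys Yl :=
  Subgroup.subset_closure (Or.inr ⟨k, s, rfl⟩)

/-- conjugating `x_{e_j + e_l}` by `x_{e_i - e_j}` stays in `UPC` -/
theorem conj_gen_s_aux (hY : CRel Ys Yl) {i j l : Fin n} (hij : i ≠ j) (hjl : j ≠ l) (t s : F) :
    Ys (Sum.inl i) (Sum.inl j) t * Ys (Sum.inl j) (Sum.inr l) s * (Ys (Sum.inl i) (Sum.inl j) t)⁻¹
      ∈ UPC Ys Yl := by
  rw [conj_eq_comm_mul]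
  refine mul_mem ?_ (mem_UPC_s hjl s)
  by_cases hli : l = i
  · subst hli
    have h := hY.orthC (Sum.inl l) (Sum.inl j) (isRoot_ll hij) t s
    rw [ng_inl] at h
    rw [h]
    exact mem_UPC_l _ _
  · have hil : i ≠ l := fun h => hli h.symm
    have h := hY.mul (Sum.inl i) (Sum.inl j) (Sum.inr l) (isRoot_ll hij) (isRoot_lr hjl)
      (isRoot_lr hil) t s
    rw [h]
    exact mem_UPC_s hil _

/-- conjugating a short generator of `UPC` by a root element of a root `e_i - e_j` stays in `UPC` -/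
theorem conj_gen_s (hY : CRel Ys Yl) {i j k l : Fin n} (hij : i ≠ j) (hkl : k ≠ l) (t s : F) :
    Ys (Sum.inl i) (Sum.inl j) t * Ys (Sum.inl k) (Sum.inr l) s * (Ys (Sum.inl i) (Sum.inl j) t)⁻¹
      ∈ UPC Ys Yl := by
  by_cases hjk : j = k
  · subst hjk
    exact conj_gen_s_aux hY hij hkl t s
  by_cases hjl : j = l
  · subst hjl
    rw [Ys_lr_swap hY hkl]
    exact conj_gen_s_aux hY hij hkl.symm t s
  by_cases hil : i = l
  · subst hil
    rw [Ys_lr_swap hY hkl]
    have hc := hY.comm (Sum.inl i) (Sum.inl j) (Sum.inl i) (Sum.inr k) (isRoot_ll hij)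
      (isRoot_lr hkl.symm) (fun h => hij (Sum.inl_injective h).symm) (by simp) (by simp)
      (by
        rw [ng_inr]
        exact fun h => hkl (Sum.inl_injective h).symm) (by simp)
      (by
        rw [ng_inr]
        exact fun h => hjk (Sum.inl_injective h)) t s
    rw [conj_eq_of_commute hc]
    exact mem_UPC_s hkl.symm s
  · have hc := hY.comm (Sum.inl i) (Sum.inl j) (Sum.inl k) (Sum.inr l) (isRoot_ll hij)
      (isRoot_lr hkl) (fun h => hjk (Sum.inl_injective h)) (by simp) (by simp)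
      (by
        rw [ng_inr]
        exact fun h => hil (Sum.inl_injective h)) (by simp)
      (by
        rw [ng_inr]
        exact fun h => hjl (Sum.inl_injective h)) t s
    rw [conj_eq_of_commute hc]
    exact mem_UPC_s hkl s

/-- conjugating a long generator of `UPC` by a root element of a root `e_i - e_j` stays in `UPC` -/
theorem conj_gen_l (hY : CRel Ys Yl) {i j : Fin n} (hij : i ≠ j) (k : Fin n) (t s : F) :
    Ys (Sum.inl i) (Sum.inl j) t * Yl (Sum.inl k) s * (Ys (Sum.inl i) (Sum.inl j) t)⁻¹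
      ∈ UPC Ys Yl := by
  by_cases hkj : k = j
  · subst hkj
    rw [conj_eq_comm_mul]
    refine mul_mem ?_ (mem_UPC_l k s)
    have h := hY.sl (Sum.inl i) (Sum.inl k) (isRoot_ll hij) t s
    rw [ng_inl] at h
    rw [h]
    exact mul_mem (mem_UPC_s hij _) (mem_UPC_l _ _)
  · have hc := hY.slcomm (Sum.inl i) (Sum.inl j) (Sum.inl k) (isRoot_ll hij)
      (fun h => hkj (Sum.inl_injective h)) (by simp) t s
    rw [conj_eq_of_commute hc]
    exact mem_UPC_l k s

/-- conjugation by a root element of a root `e_i - e_j` maps `UPC` into `UPC` -/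
theorem conj_gen_mem' (hY : CRel Ys Yl) {i j : Fin n} (hij : i ≠ j) (t : F) {y : M}
    (hy : y ∈ UPC Ys Yl) :
    Ys (Sum.inl i) (Sum.inl j) t * y * (Ys (Sum.inl i) (Sum.inl j) t)⁻¹ ∈ UPC Ys Yl := by
  set g := Ys (Sum.inl i) (Sum.inl j) t with hg
  unfold UPC at hy
  induction hy using Subgroup.closure_induction with
  | mem x hx =>
    rcases hx with ⟨k, l, s, hkl, rfl⟩ | ⟨k, s, rfl⟩
    · exact conj_gen_s hY hij hkl t s
    · exact conj_gen_l hY hij k t s
  | one =>
    rw [mul_one, mul_inv_cancel]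
    exact one_mem _
  | mul x y _ _ hx hy =>
    have e : g * (x * y) * g⁻¹ = (g * x * g⁻¹) * (g * y * g⁻¹) := by group
    rw [e]
    exact mul_mem hx hy
  | inv x _ hx =>
    have e : g * x⁻¹ * g⁻¹ = (g * x * g⁻¹)⁻¹ := by group
    rw [e]
    exact inv_mem hx

/-- `UA Ys` normalizes `UPC Ys Yl` -/
theorem conj_mem_both (hY : CRel Ys Yl) {g : M} (hg : g ∈ UA Ys) :
    ∀ y ∈ UPC Ys Yl, g * y * g⁻¹ ∈ UPC Ys Yl ∧ g⁻¹ * y * g ∈ UPC Ys Yl := by
  unfold UA at hg
  induction hg using Subgroup.closure_induction with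
  | mem x hx =>
    obtain ⟨i, j, t, hij, rfl⟩ := hx
    intro y hy
    refine ⟨conj_gen_mem' hY hij.ne t hy, ?_⟩
    have h := conj_gen_mem' hY hij.ne (-t) hy
    rw [← Ys_inv' hY (isRoot_ll hij.ne), inv_inv] at h
    exact h
  | one =>
    intro y hy
    simpa using hy
  | mul x z _ _ hx hz =>
    intro y hy
    constructor
    · have e : x * z * y * (x * z)⁻¹ = x * (z * y * z⁻¹) * x⁻¹ := by group
      rw [e]
      exact (hx _ (hz y hy).1).1
    · have e : (x * z)⁻¹ * y * (x * z) = z⁻¹ * (x⁻¹ * y * x) * z := by group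
      rw [e]
      exact (hz _ (hx y hy).2).2
  | inv x _ hx =>
    intro y hy
    refine ⟨?_, ?_⟩
    · rw [inv_inv]
      exact (hx y hy).2
    · rw [inv_inv]
      exact (hx y hy).1

theorem conj_mem (hY : CRel Ys Yl) {g : M} (hg : g ∈ UA Ys) {y : M} (hy : y ∈ UPC Ys Yl) :
    g * y * g⁻¹ ∈ UPC Ys Yl := (conj_mem_both hY hg y hy).1

/-- a positive root element lies in `UA` or in `UPC` -/
theorem gen_mem (hY : CRel Ys Yl) {r : RootB n} (hpos : r.1.Pos) {x : M}
    (hx : x ∈ (datumC Ys Yl).U r) : x ∈ UA Ys ∨ x ∈ UPC Ys Yl := by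
  obtain ⟨t, rfl⟩ := (mem_U_iff hY r).1 hx
  obtain ⟨r, hr⟩ := r
  cases r with
  | lg a b =>
    have hab : IsRoot a b := hr
    have hrk : rk a < rk b := hpos
    show Ys a b t ∈ UA Ys ∨ Ys a b t ∈ UPC Ys Yl
    rcases a with i | i <;> rcases b with j | j
    · have hij : i < j := by simpa [rk] using hrk
      exact Or.inl (Subgroup.subset_closure ⟨i, j, t, hij, rfl⟩)
    · have hij : i ≠ j := fun h => hab.2 (by rw [h]; rfl)
      exact Or.inr (mem_UPC_s hij t)
    · exfalso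
      have hi := i.2
      have hj := j.2
      simp only [rk] at hrk
      omega
    · have hji : j < i := by
        have hi := i.2
        have hj := j.2
        simp only [rk] at hrk
        rw [Fin.lt_def]
        omega
      have hfl := hY.flip (Sum.inl j) (Sum.inl i) (isRoot_ll hji.ne) t
      rw [ng_inl, ng_inl] at hfl
      rw [hfl]
      exact Or.inl (Subgroup.subset_closure ⟨j, i, _, hji, rfl⟩)
  | sh a =>
    obtain ⟨i, rfl⟩ : ∃ i, a = Sum.inl i := hpos
    exact Or.inr (mem_UPC_l i t)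

end UDEC

open UDEC

/-- UDEC -/
theorem exists_UA_UPC (hY : CRel Ys Yl) {u : M} (hu : u ∈ (datumC Ys Yl).Uh) :
    ∃ a ∈ UA Ys, ∃ y ∈ UPC Ys Yl, u = a * y := by
  unfold Datum.Uh at hu
  induction hu using Subgroup.closure_induction with
  | mem x hx =>
    obtain ⟨r, hpos, hxr⟩ := hx
    rcases gen_mem hY hpos hxr with h | h
    · exact ⟨x, h, 1, one_mem _, (mul_one _).symm⟩
    · exact ⟨1, one_mem _, x, h, (one_mul _).symm⟩
  | one => exact ⟨1, one_mem _, 1, one_mem _, (one_mul 1).symm⟩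
  | mul x z _ _ hx hz =>
    obtain ⟨a, ha, y1, hy1, rfl⟩ := hx
    obtain ⟨a', ha', y2, hy2, rfl⟩ := hz
    refine ⟨a * a', mul_mem ha ha', (a'⁻¹ * y1 * a') * y2, mul_mem ?_ hy2, by group⟩
    have := conj_mem hY (inv_mem ha') hy1
    rwa [inv_inv] at this
  | inv x _ hx =>
    obtain ⟨a, ha, y1, hy1, rfl⟩ := hx
    exact ⟨a⁻¹, inv_mem ha, a * y1⁻¹ * a⁻¹, conj_mem hY ha (inv_mem hy1), by group⟩

end Cfsg.Agent.S2092P
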