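import Mathlib
import Cfsg.Agent.Helper10.S2092.DefsM

set_option autoImplicit false
set_option linter.unusedSectionVars false
set_option linter.unusedVariables false

/-! S2092, final steps, piece RESTR (helper4; driver helper10): the relations `CRel` pull back along an injective
homomorphism. -/

namespace Cfsg.Agent.S2092P

open scoped commutatorElement
open Matrix Cfsg.Agent.S3352P Cfsg.Agent.S2096P

variable {n : ℕ} {F : Type*} [Field F]

namespace RESTR

theorem isRoot_b_nga {a b : J n} (hab : IsRoot a b) : IsRoot b (ng a) :=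
  ⟨fun h => hab.2 (by rw [h, ng_ng]), fun h => hab.1 (by rw [h, ng_ng])⟩

theorem isRoot_a_ngb {a b : J n} (hab : IsRoot a b) : IsRoot a (ng b) :=
  ⟨hab.2, fun h => hab.1 (by rw [h, ng_ng])⟩

end RESTR

theorem cRel_of_injective {M N : Type*} [Group M] [Group N] (f : M →* N) (hf : Function.Injective f)
    {Ys : J n → J n → F → N} {Yl : J n → F → N} {Ys' : J n → J n → F → M} {Yl' : J n → F → M}
    (hs : ∀ a b, IsRoot a b → ∀ t : F, f (Ys' a b t) = Ys a b t) (hl : ∀ a, ∀ t : F, f (Yl' a t) = Yl a t)
    (h : CRel Ys Yl) : CRel Ys' Yl' where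
  flip := by
    intro a b hab t
    apply hf
    rw [hs _ _ hab.flip, hs _ _ hab]
    exact h.flip a b hab t
  adds := by
    intro a b hab s t
    apply hf
    rw [map_mul, hs _ _ hab, hs _ _ hab, hs _ _ hab]
    exact h.adds a b hab s t
  addl := by
    intro a s t
    apply hf
    rw [map_mul, hl, hl, hl]
    exact h.addl a s t
  mul := by
    intro a b c hab hbc hac s t
    apply hf
    rw [map_commutatorElement, hs _ _ hab, hs _ _ hbc, hs _ _ hac]
    exact h.mul a b c hab hbc hac s t
  comm := by
    intro a b c d hab hcd h1 h2 h3 h4 h5 h6 s t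
    apply hf
    rw [map_mul, map_mul, hs _ _ hab, hs _ _ hcd]
    exact (h.comm a b c d hab hcd h1 h2 h3 h4 h5 h6 s t).eq
  orthC := by
    intro a b hab s t
    apply hf
    rw [map_commutatorElement, hs _ _ hab, hs _ _ (RESTR.isRoot_b_nga hab), hl]
    exact h.orthC a b hab s t
  sl := by
    intro a b hab s t
    apply hf
    rw [map_commutatorElement, map_mul, hs _ _ hab, hs _ _ (RESTR.isRoot_a_ngb hab), hl, hl]
    exact h.sl a b hab s t
  slcomm := by
    intro a b c hab h1 h2 s t
    apply hf
    rw [map_mul, map_mul, hs _ _ hab, hl]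
    exact (h.slcomm a b c hab h1 h2 s t).eq
  ll := by
    intro a c h1 s t
    apply hf
    rw [map_mul, map_mul, hl, hl]
    exact (h.ll a c h1 s t).eq

end Cfsg.Agent.S2092P
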