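import Mathlib
import Cfsg.Agent.Helper10.S2092.DefsM

set_option autoImplicit false
set_option linter.unusedSectionVars false
set_option linter.unusedVariables false

/-! S2092, final steps, piece STEM (helper4; driver helper10): a stem extension `ρ : P → G` such that `G` is generated
by the images of a set `S` and `ρ` is injective on `closure S` has trivial kernel. -/

namespace Cfsg.Agent.S2092P

open scoped commutatorElement
open Matrix Cfsg.Agent.S3352P Cfsg.Agent.S2096P

variable {n : ℕ} {F : Type*} [Field F]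

namespace STEM

/-- conjugation by `m * z`, `z` central, is conjugation by `m` -/
theorem conj_mul_central {P : Type*} [Group P] (m z x : P) (hz : z ∈ Subgroup.center P) :
    (m * z) * x * (m * z)⁻¹ = m * x * m⁻¹ := by
  have h1 : z * x = x * z := (Subgroup.mem_center_iff.1 hz x).symm
  calc (m * z) * x * (m * z)⁻¹ = m * (z * x) * z⁻¹ * m⁻¹ := by group
    _ = m * (x * z) * z⁻¹ * m⁻¹ := by rw [h1]
    _ = m * x * m⁻¹ := by group

end STEM

theorem ker_eq_bot_of_gen {P G : Type*} [Group P] [Group G] (ρ : P →* G)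
    (hρ : Cfsg.IsStemExtension ρ) (S : Set P) (hS : Subgroup.closure (ρ '' S) = ⊤)
    (hinj : ∀ x ∈ Subgroup.closure S, ρ x = 1 → x = 1) : ρ.ker = ⊥ := by
  obtain ⟨hsurj, hcen, hcomm⟩ := hρ
  have hmap : (Subgroup.closure S).map ρ = ⊤ := by
    rw [MonoidHom.map_closure]
    exact hS
  -- every element is `m * z`
  have hdec : ∀ p : P, ∃ m ∈ Subgroup.closure S, ∃ z ∈ ρ.ker, p = m * z := by
    intro p
    have hp : ρ p ∈ (Subgroup.closure S).map ρ := by
      rw [hmap]
      exact Subgroup.mem_top _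
    obtain ⟨m, hm, hmp⟩ := hp
    refine ⟨m, hm, m⁻¹ * p, ?_, by group⟩
    rw [MonoidHom.mem_ker, map_mul, map_inv, hmp, inv_mul_cancel]
  have hle : commutator P ≤ Subgroup.closure S := by
    rw [commutator_def, Subgroup.commutator_le]
    intro p _ p' _
    obtain ⟨m, hm, z, hz, rfl⟩ := hdec p
    obtain ⟨m', hm', z', hz', rfl⟩ := hdec p'
    have e : ⁅m * z, m' * z'⁆ = m * (m' * m⁻¹ * m'⁻¹) := by
      rw [commutatorElement_def, STEM.conj_mul_central m z _ (hcen hz)]
      have e2 := STEM.conj_mul_central m' z' m⁻¹ (hcen hz')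
      calc m * (m' * z') * m⁻¹ * (m' * z')⁻¹ = m * ((m' * z') * m⁻¹ * (m' * z')⁻¹) := by group
        _ = m * (m' * m⁻¹ * m'⁻¹) := by rw [e2]
    rw [e]
    exact mul_mem hm (mul_mem (mul_mem hm' (inv_mem hm)) (inv_mem hm'))
  rw [Subgroup.eq_bot_iff_forall]
  intro x hx
  exact hinj x (hle (hcomm hx)) (MonoidHom.mem_ker.1 hx)

end Cfsg.Agent.S2092P
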