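import Mathlib
import Cfsg.Agent.Helper13.S2276Defs

set_option autoImplicit false

/-! # S2276 piece EVEN2 (helper4): a permutation swapping two points is not a `p`-element, `p` odd. -/

namespace Cfsg.Agent.S2276P

open Equiv Equiv.Perm

/-- EVEN2 [S]: a permutation with a 2-cycle has even order, so it is not a `p`-element, `p` odd. -/
theorem EVEN2.main {α : Type*} {p : ℕ} (hp : p.Prime) (hp2 : p ≠ 2) (σ : Perm α) {x y : α}
    (hxy : x ≠ y) (h1 : σ x = y) (h2 : σ y = x) : ¬ ∃ k : ℕ, orderOf σ = p ^ k := by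
  rintro ⟨k, hk⟩
  have hodd : Odd (p ^ k) := (hp.odd_of_ne_two hp2).pow
  obtain ⟨m, hm⟩ := hodd
  have hpow : σ ^ (p ^ k) = 1 := by rw [← hk]; exact pow_orderOf_eq_one σ
  have hsq : (σ ^ 2) y = y := by
    rw [pow_two, Perm.mul_apply, h2, h1]
  have h3 : ((σ ^ 2) ^ m) y = y := Equiv.Perm.pow_apply_eq_self_of_apply_eq_self hsq m
  have h4 : (σ ^ (p ^ k)) x = y := by
    rw [hm, pow_succ, pow_mul, Perm.mul_apply, h1, h3]
  rw [hpow, Perm.one_apply] at h4
  exact hxy h4

end Cfsg.Agent.S2276P
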