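import Mathlib
import Cfsg.Agent.Helper13.S2276Defs
import Cfsg.Agent.Helper5.S2276PRIM

set_option autoImplicit false

/-! # S2276 piece NS3 (helper4, hedge): a group on `Fin r` (`r ≥ 5` odd) containing the rotation and a suitable
3-cycle is not solvable. -/

namespace Cfsg.Agent.S2276P

open Equiv Equiv.Perm

/-- a subgroup of `Perm (Fin r)`, `r ≥ 5`, containing the alternating group is not solvable -/
theorem NS3.not_solvable_of_alt_le {r : ℕ} (h5 : 5 ≤ r) (K : Subgroup (Perm (Fin r)))
    (hle : alternatingGroup (Fin r) ≤ K) : ¬ Group.IsSolvable K := by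
  intro hK
  haveI : Group.IsSolvable ↥(alternatingGroup (Fin r)) :=
    Group.isSolvable_of_isSolvable_injective (Subgroup.inclusion_injective hle)
  have hperm : Group.IsSolvable (Perm (Fin r)) := by
    refine Group.isSolvable_of_ker_le_range (alternatingGroup (Fin r)).subtype
      (Perm.sign : Perm (Fin r) →* ℤˣ) ?_
    intro g hg
    rw [Subgroup.range_subtype]
    exact hg
  exact Equiv.Perm.not_isSolvable (Fin r) (by rw [Cardinal.mk_fin]; exact_mod_cast h5) hperm

/-- NS3 [S-M]: so it is not solvable when `r ≥ 5` (`alternatingGroup.isSimpleGroup`,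
`IsSimpleGroup.comm_iff_isSolvable`, a subgroup of a solvable group is solvable). -/
theorem NS3.main {r : ℕ} (hr : Odd r) (h5 : 5 ≤ r) (K : Subgroup (Perm (Fin r)))
    (hc : finRotate r ∈ K) {t : Perm (Fin r)} (ht : t ∈ K) (h3 : t.IsThreeCycle) {x : Fin r} {d : ℕ}
    (hd : Nat.Coprime d r) (htx : t x = (finRotate r ^ d) x) : ¬ Group.IsSolvable K :=
  NS3.not_solvable_of_alt_le h5 K (PRIM.main hr K hc ht h3 hd htx)

end Cfsg.Agent.S2276P
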