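import Mathlib

/-! Board `s3818pieces`, row A2 (helper4), part 1: an automorphism of order `p` of a finite commutative group
fixes at most `|M| / p` elements. -/

set_option autoImplicit false

namespace Cfsg.Agent.S3818P

/-- Lemma A: `θ` an endomorphism of the finite commutative group `M` with `θ ^ p = 1`, `θ ≠ 1`:
`p * |C_M(θ)| ≤ |M|`. -/
theorem A2_aux_comm {M : Type*} [CommGroup M] [Finite M] (θ : M →* M) {p : ℕ} (hp : p.Prime)
    (hθp : ∀ m, θ^[p] m = m) (hne : ∃ m, θ m ≠ m) :
    p * Nat.card {m : M // θ m = m} ≤ Nat.card M := by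
  classical
  -- `δ = θ - 1`
  set δ : M →* M := θ / MonoidHom.id M with hδ
  have hδapp : ∀ m, δ m = θ m / m := fun m => rfl
  have hker : ∀ m, m ∈ δ.ker ↔ θ m = m := by
    intro m
    rw [MonoidHom.mem_ker, hδapp, div_eq_one]
  have hcardker : Nat.card {m : M // θ m = m} = Nat.card δ.ker := by
    apply Nat.card_congr
    exact Equiv.subtypeEquivRight (fun m => (hker m).symm)
  have hcard : Nat.card M = Nat.card δ.ker * Nat.card δ.range := by
    rw [← Subgroup.index_ker, Subgroup.card_mul_index]
  rw [hcardker, hcard, mul_comm]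
  apply Nat.mul_le_mul_left
  by_contra hlt
  push Not at hlt
  -- `θ` maps `range δ` into itself
  have hθδ : ∀ m, θ (δ m) = δ (θ m) := by
    intro m
    rw [hδapp, hδapp, map_div]
  have hiter_mem : ∀ (i : ℕ) (w : M), w ∈ δ.range → θ^[i] w ∈ δ.range := by
    intro i
    induction i with
    | zero => intro w hw; exact hw
    | succ i ih =>
      intro w hw
      rw [Function.iterate_succ_apply']
      obtain ⟨m, hm⟩ := ih w hw
      exact MonoidHom.mem_range.2 ⟨θ m, by rw [← hθδ, hm]⟩
  -- every element of the range is fixed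
  have hfixr : ∀ w ∈ δ.range, θ w = w := by
    intro w hw
    have hper : Function.IsPeriodicPt θ p w := hθp w
    have hdvd := hper.minimalPeriod_dvd
    rcases (Nat.dvd_prime hp).1 hdvd with h1 | h1
    · exact Function.minimalPeriod_eq_one_iff_isFixedPt.1 h1
    · exfalso
      -- `p` distinct elements in the range
      have hinj := Function.iterate_injOn_Iio_minimalPeriod (f := θ) (x := w)
      rw [h1] at hinj
      let g : Fin p → δ.range := fun i => ⟨θ^[i] w, hiter_mem i w hw⟩
      have hg : Function.Injective g := by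
        intro i j hij
        have h2 : θ^[i] w = θ^[j] w := congrArg Subtype.val hij
        exact Fin.ext (hinj (Set.mem_Iio.2 i.2) (Set.mem_Iio.2 j.2) h2)
      have := Nat.card_le_card_of_injective g hg
      rw [Nat.card_fin] at this
      omega
  -- `θ^i m = m (δ m)^i`
  have hθm : ∀ m, θ m = m * δ m := by
    intro m
    rw [hδapp, mul_div_cancel]
  have hiter : ∀ (i : ℕ) (m : M), θ^[i] m = m * (δ m) ^ i := by
    intro i m
    induction i with
    | zero => simp
    | succ i ih =>
      rw [Function.iterate_succ_apply', ih, map_mul, map_pow, hfixr _ (MonoidHom.mem_range.2 ⟨m, rfl⟩), hθm m, pow_succ, mul_assoc,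
        mul_comm (δ m)]
  obtain ⟨m, hm⟩ := hne
  have hw1 : δ m ≠ 1 := by
    intro h
    apply hm
    rw [hθm, h, mul_one]
  have hwp : (δ m) ^ p = 1 := by
    have := hiter p m
    rw [hθp m] at this
    exact (mul_eq_left.mp this.symm)
  have hord : orderOf (δ m) = p := by
    have : Fact p.Prime := ⟨hp⟩
    exact orderOf_eq_prime hwp hw1
  have hmem : δ m ∈ δ.range := MonoidHom.mem_range.2 ⟨m, rfl⟩
  have hle : orderOf (⟨δ m, hmem⟩ : δ.range) ∣ Nat.card δ.range := orderOf_dvd_natCard _
  rw [Subgroup.orderOf_mk, hord] at hle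
  have := Nat.le_of_dvd Nat.card_pos hle
  omega

end Cfsg.Agent.S3818P
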