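import Mathlib
import Cfsg.Agent.Helper4.S3818A2a

/-! Board `s3818pieces`, row A2 (helper4), part 2: the regular abelian case. -/

set_option autoImplicit false

namespace Cfsg.Agent.S3818P

/-- Lemma B: `U` transitive on `Ω` and acting as an abelian group, `x` normalises `U`, `x ^ p = 1`, `x` nontrivial on `Ω`:
`p * |Fix(x)| ≤ |Ω|`. -/
theorem A2_aux_regular {G : Type*} [Group G] {Ω : Type*} [Finite Ω] [MulAction G Ω]
    (U : Subgroup G) (x : G) (hUx : ∀ u ∈ U, x * u * x⁻¹ ∈ U)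
    (htr : ∀ ω ω' : Ω, ∃ u ∈ U, u • ω = ω')
    (hab : ∀ u ∈ U, ∀ v ∈ U, ∀ ω : Ω, (u * v) • ω = (v * u) • ω)
    {p : ℕ} (hp : p.Prime) (hx : x ^ p = 1) (hne : ∃ ω : Ω, x • ω ≠ ω) :
    p * Nat.card {ω : Ω // x • ω = ω} ≤ Nat.card Ω := by
  classical
  by_cases hfix : ∃ ω₀ : Ω, x • ω₀ = ω₀
  swap
  · have : IsEmpty {ω : Ω // x • ω = ω} := ⟨fun ω => hfix ⟨ω.1, ω.2⟩⟩
    rw [Nat.card_of_isEmpty, mul_zero]
    exact Nat.zero_le _
  obtain ⟨ω₀, hω₀⟩ := hfix
  set π := MulAction.toPermHom G Ω with hπ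
  have hπapp : ∀ (g : G) (ω : Ω), π g ω = g • ω := fun g ω => rfl
  set M : Subgroup (Equiv.Perm Ω) := U.map π with hM
  have hMcomm : ∀ a b : M, a * b = b * a := by
    rintro ⟨a, u, hu, rfl⟩ ⟨b, v, hv, rfl⟩
    apply Subtype.ext
    apply Equiv.ext
    intro ω
    show (π u * π v) ω = (π v * π u) ω
    rw [← map_mul, ← map_mul, hπapp, hπapp]
    exact hab u hu v hv ω
  letI : CommGroup M := { (inferInstance : Group M) with mul_comm := hMcomm }
  -- the automorphism induced by `x`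
  have hθmem : ∀ m : M, π x * (m : Equiv.Perm Ω) * (π x)⁻¹ ∈ M := by
    rintro ⟨m, u, hu, rfl⟩
    refine ⟨x * u * x⁻¹, hUx u hu, ?_⟩
    rw [map_mul, map_mul, map_inv]
  let θ : M →* M :=
    { toFun := fun m => ⟨π x * (m : Equiv.Perm Ω) * (π x)⁻¹, hθmem m⟩
      map_one' := by
        apply Subtype.ext
        simp
      map_mul' := by
        intro a b
        apply Subtype.ext
        show π x * ((a : Equiv.Perm Ω) * b) * (π x)⁻¹ = (π x * a * (π x)⁻¹) * (π x * b * (π x)⁻¹)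
        group }
  have hθapp : ∀ m : M, ((θ m : M) : Equiv.Perm Ω) = π x * (m : Equiv.Perm Ω) * (π x)⁻¹ := fun m => rfl
  have hθiter : ∀ (i : ℕ) (m : M), ((θ^[i] m : M) : Equiv.Perm Ω) = (π x) ^ i * (m : Equiv.Perm Ω) * ((π x) ^ i)⁻¹ := by
    intro i m
    induction i with
    | zero => simp
    | succ i ih =>
      rw [Function.iterate_succ_apply', hθapp, ih, pow_succ']
      group
  have hθp : ∀ m, θ^[p] m = m := by
    intro m
    apply Subtype.ext
    rw [hθiter, ← map_pow, hx, map_one]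
    simp
  -- the orbit map
  let e : M → Ω := fun m => (m : Equiv.Perm Ω) ω₀
  have hπxinv : (π x)⁻¹ ω₀ = ω₀ := by
    rw [Equiv.Perm.inv_eq_iff_eq, hπapp, hω₀]
  have heq : ∀ m : M, x • e m = e (θ m) := by
    intro m
    show x • ((m : Equiv.Perm Ω) ω₀) = (π x * (m : Equiv.Perm Ω) * (π x)⁻¹) ω₀
    rw [Equiv.Perm.mul_apply, Equiv.Perm.mul_apply, hπxinv, hπapp]
  have hsurj : Function.Surjective e := by
    intro ω
    obtain ⟨u, hu, huω⟩ := htr ω₀ ω
    exact ⟨⟨π u, u, hu, rfl⟩, huω⟩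
  have hinj : Function.Injective e := by
    intro m m' h
    apply Subtype.ext
    apply Equiv.ext
    intro ω
    obtain ⟨n, rfl⟩ := hsurj ω
    have h1 : (m : Equiv.Perm Ω) ((n : Equiv.Perm Ω) ω₀) = (n : Equiv.Perm Ω) ((m : Equiv.Perm Ω) ω₀) := by
      have := congrArg (fun a : M => (a : Equiv.Perm Ω) ω₀) (hMcomm m n)
      exact this
    have h2 : (m' : Equiv.Perm Ω) ((n : Equiv.Perm Ω) ω₀) = (n : Equiv.Perm Ω) ((m' : Equiv.Perm Ω) ω₀) := by
      have := congrArg (fun a : M => (a : Equiv.Perm Ω) ω₀) (hMcomm m' n)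
      exact this
    show (m : Equiv.Perm Ω) ((n : Equiv.Perm Ω) ω₀) = (m' : Equiv.Perm Ω) ((n : Equiv.Perm Ω) ω₀)
    rw [h1, h2]
    exact congrArg _ h
  let E : M ≃ Ω := Equiv.ofBijective e ⟨hinj, hsurj⟩
  have hEapp : ∀ m, E m = e m := fun m => rfl
  have hiff : ∀ m : M, θ m = m ↔ x • E m = E m := by
    intro m
    rw [hEapp, heq]
    constructor
    · intro h; rw [h]
    · intro h; exact hinj h
  have hne' : ∃ m, θ m ≠ m := by
    by_contra hcon
    push Not at hcon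
    obtain ⟨ω, hω⟩ := hne
    apply hω
    obtain ⟨m, rfl⟩ := hsurj ω
    exact (hiff m).1 (hcon m)
  have hmain := A2_aux_comm θ hp hθp hne'
  have hc1 : Nat.card {m : M // θ m = m} = Nat.card {ω : Ω // x • ω = ω} :=
    Nat.card_congr (E.subtypeEquiv hiff)
  have hc2 : Nat.card M = Nat.card Ω := Nat.card_congr E
  rw [← hc1, ← hc2]
  exact hmain

end Cfsg.Agent.S3818P
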