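import Mathlib
import Cfsg.Agent.Helper26.S3818Defs
import Cfsg.Agent.Helper4.S3818A2b

/-! Board `s3818pieces`, row A2 (helper4): PERM. -/

set_option autoImplicit false

namespace Cfsg.Agent.S3818P

open Module
open scoped commutatorElement

universe u v w

/-- fibres of `G ⧸ H → G ⧸ H'`. -/
theorem A2_aux_fiber {G : Type*} [Group G] [Finite G] (x : G) {H H' : Subgroup G} (h : H ≤ H') :
    Nat.card {q : G ⧸ H // x • q = q} ≤ H.relIndex H' * Nat.card {q : G ⧸ H' // x • q = q} := by
  classical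
  let E := Subgroup.quotientEquivProdOfLE h
  have hsmul : ∀ q : G ⧸ H, (E (x • q)).1 = x • (E q).1 := by
    intro q
    induction q using QuotientGroup.induction_on with
    | H g => rfl
  let f : {q : G ⧸ H // x • q = q} → {q : G ⧸ H' // x • q = q} × (H' ⧸ H.subgroupOf H') :=
    fun q => (⟨(E q.1).1, by rw [← hsmul, q.2]⟩, (E q.1).2)
  have hf : Function.Injective f := by
    intro a b hab
    apply Subtype.ext
    apply E.injective
    have h1 : (E a.1).1 = (E b.1).1 := congrArg Subtype.val (Prod.ext_iff.1 hab).1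
    have h2 : (E a.1).2 = (E b.1).2 := (Prod.ext_iff.1 hab).2
    exact Prod.ext h1 h2
  have h3 := Nat.card_le_card_of_injective f hf
  rw [Nat.card_prod] at h3
  rw [mul_comm]
  exact h3

/-- a subgroup equal to its own commutator subgroup in a solvable group is trivial -/
theorem A2_aux_perfect {G : Type*} [Group G] [Group.IsSolvable G] (U : Subgroup G) (h : ⁅U, U⁆ = U) :
    U = ⊥ := by
  have hle : ∀ n, U ≤ derivedSeries G n := by
    intro n
    induction n with
    | zero => exact le_top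
    | succ n ih =>
      rw [derivedSeries_succ, ← h]
      exact Subgroup.commutator_mono ih ih
  obtain ⟨n, hn⟩ := (inferInstance : Group.IsSolvable G).solvable
  exact eq_bot_iff.2 (hn ▸ hle n)

/-- PERM for the action on the cosets of a maximal subgroup. -/
theorem A2_aux_max {G : Type*} [Group G] [Finite G] [Group.IsSolvable G] {p : ℕ} (hp : p.Prime) (x : G)
    (hx : x ^ p = 1) (hgen : Subgroup.normalClosure ({x} : Set G) = ⊤) (H : Subgroup G)
    (hH : Maximal (fun K : Subgroup G => K ≠ ⊤) H) :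
    p * Nat.card {q : G ⧸ H // x • q = q} ≤ H.index := by
  classical
  -- a minimal normal subgroup not contained in `H`
  obtain ⟨U, -, ⟨hUn, hUH⟩, hUmin⟩ :=
    Finite.exists_le_minimal (p := fun N : Subgroup G => N.Normal ∧ ¬ N ≤ H) (a := ⊤)
      ⟨inferInstance, fun h => hH.1 (top_le_iff.1 h)⟩
  have := hUn
  have hcomm : ⁅U, U⁆ ≤ H := by
    by_contra hcon
    have hle : ⁅U, U⁆ ≤ U := Subgroup.commutator_le_left U U
    have := hUmin ⟨inferInstance, hcon⟩ hle
    have heq : ⁅U, U⁆ = U := le_antisymm hle this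
    apply hUH
    rw [A2_aux_perfect U heq]
    exact bot_le
  have htop : U ⊔ H = ⊤ := by
    by_contra hne
    have := hH.2 hne le_sup_right
    exact hUH (le_trans le_sup_left this)
  have hmul : ∀ g : G, ∃ u ∈ U, ∃ k ∈ H, u * k = g := by
    intro g
    have hg : g ∈ ((U ⊔ H : Subgroup G) : Set G) := by rw [htop]; exact Set.mem_univ g
    rw [Subgroup.normal_mul] at hg
    obtain ⟨u, hu, k, hk, rfl⟩ := Set.mem_mul.1 hg
    exact ⟨u, hu, k, hk, rfl⟩
  have hsmk : ∀ a b : G, (a • (b : G ⧸ H)) = ((a * b : G) : G ⧸ H) := fun a b => rfl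
  rw [Subgroup.index_eq_card]
  apply A2_aux_regular U x (fun u hu => hUn.conj_mem u hu x) ?_ ?_ hp hx ?_
  · -- transitivity
    intro ω ω'
    induction ω using QuotientGroup.induction_on with
    | H a =>
    induction ω' using QuotientGroup.induction_on with
    | H b =>
    obtain ⟨u₁, hu₁, k₁, hk₁, rfl⟩ := hmul a
    obtain ⟨u₂, hu₂, k₂, hk₂, rfl⟩ := hmul b
    refine ⟨u₂ * u₁⁻¹, U.mul_mem hu₂ (U.inv_mem hu₁), ?_⟩
    rw [hsmk, QuotientGroup.eq]
    have e : (u₂ * u₁⁻¹ * (u₁ * k₁))⁻¹ * (u₂ * k₂) = k₁⁻¹ * k₂ := by group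
    rw [e]
    exact H.mul_mem (H.inv_mem hk₁) hk₂
  · -- the action of `U` is abelian
    intro u hu v hv ω
    induction ω using QuotientGroup.induction_on with
    | H g =>
    rw [hsmk, hsmk, QuotientGroup.eq]
    have hc : ⁅v⁻¹, u⁻¹⁆ ∈ ⁅U, U⁆ :=
      Subgroup.commutator_mem_commutator (U.inv_mem hv) (U.inv_mem hu)
    have hn : (⁅U, U⁆).Normal := inferInstance
    have h1 := hn.conj_mem _ hc g⁻¹
    have e : (u * v * g)⁻¹ * (v * u * g) = g⁻¹ * ⁅v⁻¹, u⁻¹⁆ * g⁻¹⁻¹ := by
      rw [commutatorElement_def]; group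
    rw [e]
    exact hcomm h1
  · -- `x` acts nontrivially
    by_contra hcon
    push Not at hcon
    have hxc : x ∈ H.normalCore := by
      show ∀ g : G, g * x * g⁻¹ ∈ H
      intro g
      have h1 := hcon ((g⁻¹ : G) : G ⧸ H)
      rw [hsmk, QuotientGroup.eq] at h1
      have e : (x * g⁻¹)⁻¹ * g⁻¹ = g * x⁻¹ * g⁻¹ := by group
      rw [e] at h1
      have := H.inv_mem h1
      have e2 : (g * x⁻¹ * g⁻¹)⁻¹ = g * x * g⁻¹ := by group
      rwa [e2] at this
    have hle : Subgroup.normalClosure ({x} : Set G) ≤ H.normalCore :=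
      Subgroup.normalClosure_le_normal (Set.singleton_subset_iff.2 hxc)
    rw [hgen] at hle
    exact hH.1 (top_le_iff.1 (le_trans hle (Subgroup.normalCore_le H)))

/-- PERM in coset form. -/
theorem A2_aux_coset {G : Type*} [Group G] [Finite G] [Group.IsSolvable G] {p : ℕ} (hp : p.Prime) (x : G)
    (hx : x ^ p = 1) (hgen : Subgroup.normalClosure ({x} : Set G) = ⊤) (H : Subgroup G) (hH : H ≠ ⊤) :
    p * Nat.card {q : G ⧸ H // x • q = q} ≤ H.index := by
  obtain ⟨H', hHH', hmax⟩ := Finite.exists_le_maximal (p := fun K : Subgroup G => K ≠ ⊤) hH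
  have h1 := A2_aux_max hp x hx hgen H' hmax
  have h2 := A2_aux_fiber x hHH'
  have h3 := Subgroup.relIndex_mul_index hHH'
  calc p * Nat.card {q : G ⧸ H // x • q = q}
      ≤ p * (H.relIndex H' * Nat.card {q : G ⧸ H' // x • q = q}) := Nat.mul_le_mul_left _ h2
    _ = H.relIndex H' * (p * Nat.card {q : G ⧸ H' // x • q = q}) := by ring
    _ ≤ H.relIndex H' * H'.index := Nat.mul_le_mul_left _ h1
    _ = H.index := h3

/-- A2 (PERM). -/
theorem A2_perm {G : Type*} [Group G] [Finite G] [Group.IsSolvable G] {Ω : Type*} [Fintype Ω]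
    [DecidableEq Ω] [MulAction G Ω] [MulAction.IsPretransitive G Ω] (hΩ : 2 ≤ Fintype.card Ω)
    (p : ℕ) (hp : p.Prime) (x : G) (hx : x ^ p = 1)
    (hgen : Subgroup.normalClosure ({x} : Set G) = ⊤) :
    p * (Finset.univ.filter fun ω : Ω => x • ω = ω).card ≤ Fintype.card Ω := by
  classical
  have hne : Nonempty Ω := by
    rw [← Fintype.card_pos_iff]; omega
  obtain ⟨ω₀⟩ := hne
  set H := MulAction.stabilizer G ω₀ with hHdef
  have hsurj : Function.Surjective (MulAction.ofQuotientStabilizer G ω₀) := by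
    intro ω
    obtain ⟨g, hg⟩ := MulAction.exists_smul_eq G ω₀ ω
    exact ⟨(g : G ⧸ H), by rw [MulAction.ofQuotientStabilizer_mk, hg]⟩
  let E : G ⧸ H ≃ Ω :=
    Equiv.ofBijective (MulAction.ofQuotientStabilizer G ω₀) ⟨MulAction.injective_ofQuotientStabilizer G ω₀, hsurj⟩
  have hEapp : ∀ q, E q = MulAction.ofQuotientStabilizer G ω₀ q := fun q => rfl
  have hH : H ≠ ⊤ := by
    intro htop
    have hall : ∀ ω : Ω, ω = ω₀ := by
      intro ω
      obtain ⟨g, hg⟩ := MulAction.exists_smul_eq G ω₀ ω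
      have : g ∈ H := by rw [htop]; exact Subgroup.mem_top g
      rw [← hg]
      exact MulAction.mem_stabilizer_iff.1 this
    have : Fintype.card Ω ≤ 1 := Fintype.card_le_one_iff.2 (fun a b => by rw [hall a, hall b])
    omega
  have hmain := A2_aux_coset hp x hx hgen H hH
  have hiff : ∀ q : G ⧸ H, x • q = q ↔ x • E q = E q := by
    intro q
    rw [hEapp, ← MulAction.ofQuotientStabilizer_smul]
    constructor
    · intro h; rw [h]
    · intro h; exact MulAction.injective_ofQuotientStabilizer G ω₀ h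
  have hc1 : Nat.card {q : G ⧸ H // x • q = q} = (Finset.univ.filter fun ω : Ω => x • ω = ω).card := by
    rw [Nat.card_congr (E.subtypeEquiv (p := fun q => x • q = q) (q := fun ω => x • ω = ω) hiff),
      Nat.card_eq_fintype_card, Fintype.card_subtype]
  have hc2 : H.index = Fintype.card Ω := by
    rw [Subgroup.index_eq_card, Nat.card_congr E, Nat.card_eq_fintype_card]
  rw [← hc1, ← hc2]
  exact hmain

end Cfsg.Agent.S3818P
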