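import Mathlib
import Cfsg.Agent.Helper7.S5655.Defs
import Cfsg.Agent.Helper7.S5655.MonoLib
import Cfsg.Agent.Helper28.S5655QR
import Cfsg.Agent.Helper15.S5655BDefs
import Cfsg.Agent.Helper15.S5655BPLANE

/-! # S5655 `k = 1`, chapter (B) of helper15, piece STABV (helper4): an isometry fixing the complement of the plane
pointwise and fixing an isotropic vector of the plane is a transvection with that centre. -/

set_option autoImplicit false

namespace Cfsg.Agent.S5655K1

open Matrix
open Cfsg.Agent.S2644 Cfsg.Agent.Helper2.SUGen Cfsg.Agent.Helper28.SimMax Cfsg.Agent.MonoP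

variable {K : Type*} [Field K] {q n : ℕ}

local notation "h" => Cfsg.hermForm n K q
local notation "T" => Cfsg.unitaryTransvection n q

namespace STABV

/-- orthogonal decomposition along the plane `⟨e, f⟩` -/
theorem decomp {D : Frob K q} {e f : Fin n → K} {d ζ : K} (P : PD D e f d ζ) (z : Fin n → K) :
    ∃ z' : Fin n → K, z = (h z e) • e + (h z f / d) • f + z' ∧ h z' e = 0 ∧ h z' f = 0 := by
  have hd0 := P.hd0
  refine ⟨z - ((h z e) • e + (h z f / d) • f), by abel, ?_, ?_⟩
  · rw [h_sub_left, h_add_left, h_smul_left, h_smul_left, P.hee, P.hfe]; ring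
  · rw [h_sub_left, h_add_left, h_smul_left, h_smul_left, P.hef, P.hff]
    field_simp
    ring

end STABV

/-- STABV (M): an isometry fixing the complement of the plane pointwise and fixing the isotropic vector `s • e + f` is a
transvection with that centre.  (`v' :=` a second isotropic vector of the plane with `h v v' = 1`; `M v' = a v + b v'`,
`b = 1` and `a` skew from `Pres`; `ext_plane`-style: `e, f ∈ ⟨v, v'⟩`.) -/
theorem STABV.main {D : Frob K q} [Finite K] {e f : Fin n → K} {d ζ : K} (P : PD D e f d ζ) (s : K)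
    (hs : s * D.σ s = -d) (M : Matrix (Fin n) (Fin n) K) (hM : Pres (q := q) M)
    (hfix : ∀ z, h z e = 0 → h z f = 0 → M *ᵥ z = z) (hv : M *ᵥ (s • e + f) = s • e + f) :
    ∃ c : K, D.σ c = -c ∧ M = T (s • e + f) c := by
  have hd0 := P.hd0
  have hs0 : s ≠ 0 := by
    rintro rfl
    rw [zero_mul] at hs
    exact hd0 (neg_eq_zero.mp hs.symm)
  have hσs0 : D.σ s ≠ 0 := σ_ne_zero D hs0
  -- `M e` lies in the plane
  obtain ⟨y', hy', hy'e, hy'f⟩ := STABV.decomp P (M *ᵥ e)
  set a : K := h (M *ᵥ e) e with ha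
  set b : K := h (M *ᵥ e) f / d with hb
  have hy'0 : y' = 0 := by
    apply h_nondeg D
    intro z
    obtain ⟨z', hz', hz'e, hz'f⟩ := STABV.decomp P z
    have hez' : h e z' = 0 := h_symm_zero D hz'e
    have hfz' : h f z' = 0 := h_symm_zero D hz'f
    have h1 : h y' z' = 0 := by
      have e1 : y' = M *ᵥ e - (a • e + b • f) := by
        rw [eq_sub_iff_add_eq, add_comm]; exact hy'.symm
      have e2 : h (M *ᵥ e) z' = h (M *ᵥ e) (M *ᵥ z') := by rw [hfix z' hz'e hz'f]
      rw [e1, h_sub_left, h_add_left, h_smul_left, h_smul_left, hez', hfz', e2, hM, hez']; ring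
    rw [hz', h_add_right D, h_add_right D, h_smul_right D, h_smul_right D, hy'e, hy'f, h1]; ring
  have hMe : M *ᵥ e = a • e + b • f := by
    rw [hy'0, add_zero] at hy'; exact hy'
  -- the two constraints
  have hev : h e (s • e + f) = D.σ s := by
    rw [h_add_right D, h_smul_right D, P.hee, P.hef]; ring
  have eq1 : a * D.σ s + d * b = D.σ s := by
    have h1 : h (M *ᵥ e) (M *ᵥ (s • e + f)) = h e (s • e + f) := hM e (s • e + f)
    rw [hv, hev, hMe, h_add_left, h_smul_left, h_smul_left, hev, h_add_right D, h_smul_right D,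
      P.hfe, P.hff] at h1
    linear_combination h1
  have eq2 : a * D.σ a + d * (b * D.σ b) = 1 := by
    have h1 : h (M *ᵥ e) (M *ᵥ e) = h e e := hM e e
    rw [hMe, P.hee, P.h_comb] at h1
    exact h1
  have ha1 : a = 1 + s * b := by
    have h1 : (a - 1 - s * b) * D.σ s = 0 := by linear_combination eq1 - b * hs
    rcases mul_eq_zero.mp h1 with h2 | h2
    · linear_combination h2
    · exact absurd h2 hσs0
  have hskew : s * b + D.σ s * D.σ b = 0 := by
    have h1 : D.σ a = 1 + D.σ s * D.σ b := by rw [ha1, map_add, map_one, map_mul]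
    rw [h1, ha1] at eq2
    linear_combination eq2 - b * D.σ b * hs
  -- the transvection
  refine ⟨b / D.σ s, ?_, ?_⟩
  · rw [map_div₀, D.invol]
    field_simp
    linear_combination hskew
  · have hvv : h (s • e + f) (s • e + f) = 0 := by
      have := P.h_comb s 1 s 1
      rw [one_smul, map_one, mul_one, mul_one] at this
      rw [this, hs]; ring
    have hTe : T (s • e + f) (b / D.σ s) *ᵥ e = M *ᵥ e := by
      rw [T_mulVec, hev, hMe, ha1, div_mul_cancel₀ _ hσs0]
      module
    have hTv : T (s • e + f) (b / D.σ s) *ᵥ (s • e + f) = s • e + f := by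
      rw [T_mulVec, hvv, mul_zero, zero_smul, add_zero]
    apply mat_ext
    intro z
    obtain ⟨z', hz', hz'e, hz'f⟩ := STABV.decomp P z
    have hTz' : T (s • e + f) (b / D.σ s) *ᵥ z' = z' := by
      have := P.perp_fix s 1 (b / D.σ s) z' hz'e hz'f
      rwa [one_smul] at this
    set α : K := h z e
    set β : K := h z f / d
    have hz2 : z = (α - β * s) • e + β • (s • e + f) + z' := by
      rw [hz']; module
    have hlin : ∀ (A : Matrix (Fin n) (Fin n) K) (w : Fin n → K),
        A *ᵥ ((α - β * s) • e + β • w + z') = (α - β * s) • A *ᵥ e + β • A *ᵥ w + A *ᵥ z' := by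
      intro A w
      simp only [Matrix.mulVec_add, Matrix.mulVec_smul]
    rw [hz2, hlin M, hlin (T (s • e + f) (b / D.σ s)), hv, hTv, hTe, hfix z' hz'e hz'f, hTz']

end Cfsg.Agent.S5655K1
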