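import Mathlib
import Cfsg.Prelude.Def_GeometricClasses
import Cfsg.Prelude.Def_ClassicalGeometry

set_option autoImplicit false
open scoped MatrixGroups Matrix

/-! Definitions and basic API for S6002 (extraspecial `2^{1+4}_-` inside `Sp_4(p)`). -/

namespace Cfsg.Agent.S6002P

/-- the index type of the frozen `Sp_4` -/
abbrev I4 : Type := Fin 2 ⊕ Fin 2

/-- `4 × 4` matrices -/
abbrev M4 (F : Type*) : Type _ := Matrix I4 I4 F

/-- Element-level description of `R` (everything except the minus-type condition):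
`R ≤ Sp_4(F)` of order 32, containing `-1`, squares and commutators in `{1, -1}`,
centre `{1, -1}`, acting absolutely irreducibly. -/
structure HypR0 {F : Type*} [Field F] (R : Subgroup (GL I4 F)) : Prop where
  two_ne : (2 : F) ≠ 0
  card : Nat.card R = 32
  neg_mem : (-1 : GL I4 F) ∈ R
  sq : ∀ a ∈ R, a * a = 1 ∨ a * a = -1
  comm : ∀ a ∈ R, ∀ b ∈ R, a * b = b * a ∨ a * b = -(b * a)
  center : ∀ a ∈ R, (∀ b ∈ R, a * b = b * a) → a = 1 ∨ a = -1
  sp : R ≤ Cfsg.spGL 2 F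
  irr : Cfsg.Geo.ActsAbsolutelyIrreducibly (Cfsg.Geo.matrixSet R)

/-- `HypR0` plus the minus-type condition in element form: two commuting non-central
involutions of `R` differ by a sign. -/
structure HypR {F : Type*} [Field F] (R : Subgroup (GL I4 F)) : Prop extends HypR0 R where
  minus : ∀ a ∈ R, ∀ b ∈ R, a * a = 1 → b * b = 1 → a * b = b * a →
    a ≠ 1 → a ≠ -1 → b ≠ 1 → b ≠ -1 → a = b ∨ a = -b

variable {F : Type*} [Field F]

theorem coe_neg_one : ((-1 : GL I4 F) : M4 F) = -1 := rfl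

theorem coe_neg (a : GL I4 F) : ((-a : GL I4 F) : M4 F) = -(a : M4 F) := rfl

theorem neg_one_ne_one (h2 : (2 : F) ≠ 0) : (-1 : GL I4 F) ≠ 1 := by
  intro h
  have h1 : ((-1 : GL I4 F) : M4 F) (Sum.inl 0) (Sum.inl 0) = (1 : M4 F) (Sum.inl 0) (Sum.inl 0) := by
    rw [h]; rfl
  rw [coe_neg_one] at h1
  simp only [Matrix.neg_apply, Matrix.one_apply_eq] at h1
  apply h2
  linear_combination -h1

theorem neg_ne_self (h2 : (2 : F) ≠ 0) (a : GL I4 F) : -a ≠ a := by
  intro h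
  apply neg_one_ne_one h2
  have : (-1 : GL I4 F) * a = 1 * a := by rw [neg_one_mul, one_mul, h]
  exact mul_right_cancel this

/-- scalar matrices are central -/
theorem scalar_comm (z : F) (M : M4 F) : (z • (1 : M4 F)) * M = M * (z • (1 : M4 F)) := by
  rw [Matrix.smul_mul, Matrix.mul_smul, Matrix.one_mul, Matrix.mul_one]

/-- an element of `GL` whose matrix is scalar is central -/
theorem gl_comm_of_scalar {y : GL I4 F} {z : F} (hy : (y : M4 F) = z • 1) (a : GL I4 F) :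
    y * a = a * y := by
  apply Units.ext
  rw [Units.val_mul, Units.val_mul, hy]
  exact scalar_comm z _

theorem conj_eq_of_scalar {y : GL I4 F} {z : F} (hy : (y : M4 F) = z • 1) (a : GL I4 F) :
    y * a * y⁻¹ = a := by
  rw [gl_comm_of_scalar hy a, mul_assoc, mul_inv_cancel, mul_one]

/-- matrix criterion for the frozen `spGL` -/
theorem mem_spGL_iff_transpose (d : ℕ) (g : GL (Fin d ⊕ Fin d) F) :
    g ∈ Cfsg.spGL d F ↔
      (g : Matrix (Fin d ⊕ Fin d) (Fin d ⊕ Fin d) F)ᵀ * Matrix.J (Fin d) F *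
        (g : Matrix (Fin d ⊕ Fin d) (Fin d ⊕ Fin d) F) = Matrix.J (Fin d) F := by
  have key : ∀ (A : Matrix (Fin d ⊕ Fin d) (Fin d ⊕ Fin d) F) (u v : Fin d ⊕ Fin d → F),
      Cfsg.sympForm d F (A *ᵥ u) (A *ᵥ v) = u ⬝ᵥ ((Aᵀ * Matrix.J (Fin d) F * A) *ᵥ v) := by
    intro A u v
    unfold Cfsg.sympForm
    rw [Matrix.mulVec_mulVec, ← Matrix.mulVec_mulVec (v := v) (M := Aᵀ * Matrix.J (Fin d) F),
      ← Matrix.mulVec_mulVec (M := Aᵀ), dotProduct_comm u, Matrix.mulVec_transpose,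
      ← Matrix.dotProduct_mulVec, dotProduct_comm, Matrix.mulVec_mulVec]
  constructor
  · intro hg
    have h1 : ∀ u v : Fin d ⊕ Fin d → F,
        u ⬝ᵥ (((g : Matrix (Fin d ⊕ Fin d) (Fin d ⊕ Fin d) F)ᵀ * Matrix.J (Fin d) F *
          (g : Matrix (Fin d ⊕ Fin d) (Fin d ⊕ Fin d) F)) *ᵥ v) =
        u ⬝ᵥ (Matrix.J (Fin d) F *ᵥ v) := by
      intro u v
      rw [← key]
      exact hg u v
    ext i j
    have := h1 (Pi.single i 1) (Pi.single j 1)
    simpa using this
  · intro hg u v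
    show Cfsg.sympForm d F ((g : Matrix (Fin d ⊕ Fin d) (Fin d ⊕ Fin d) F) *ᵥ u)
      ((g : Matrix (Fin d ⊕ Fin d) (Fin d ⊕ Fin d) F) *ᵥ v) = Cfsg.sympForm d F u v
    rw [key, hg]
    rfl

theorem mem_normalizer_iff' (R : Subgroup (GL I4 F)) (y : GL I4 F) :
    y ∈ Cfsg.Geo.subgroupNormalizer R ↔ ∀ a, a ∈ R ↔ y * a * y⁻¹ ∈ R := by
  unfold Cfsg.Geo.subgroupNormalizer
  rw [Subgroup.mem_normalizer_iff]

theorem le_normalizer' (R : Subgroup (GL I4 F)) : R ≤ Cfsg.Geo.subgroupNormalizer R := by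
  intro y hy
  rw [mem_normalizer_iff']
  intro a
  constructor
  · intro ha
    exact R.mul_mem (R.mul_mem hy ha) (R.inv_mem hy)
  · intro ha
    have := R.mul_mem (R.mul_mem (R.inv_mem hy) ha) hy
    have e : y⁻¹ * (y * a * y⁻¹) * y = a := by group
    rwa [e] at this

/-- a matrix commuting with `R` is scalar -/
theorem HypR0.scalar_of_commute {R : Subgroup (GL I4 F)} (h : HypR0 R) (M : M4 F)
    (hM : ∀ a ∈ R, M * (a : M4 F) = (a : M4 F) * M) : ∃ c : F, M = c • (1 : M4 F) := by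
  apply h.irr.2 M
  rintro s ⟨a, ha, rfl⟩
  exact hM a ha

/-- non-central involutions of `R` in different cosets of the centre anticommute -/
theorem HypR.anticomm {R : Subgroup (GL I4 F)} (h : HypR R) {a b : GL I4 F} (ha : a ∈ R) (hb : b ∈ R)
    (haa : a * a = 1) (hbb : b * b = 1) (ha1 : a ≠ 1) (ha2 : a ≠ -1) (hb1 : b ≠ 1) (hb2 : b ≠ -1)
    (hab : a ≠ b) (hab' : a ≠ -b) : a * b = -(b * a) := by
  rcases h.comm a ha b hb with hc | hc
  · rcases h.minus a ha b hb haa hbb hc ha1 ha2 hb1 hb2 with e | e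
    · exact absurd e hab
    · exact absurd e hab'
  · exact hc

end Cfsg.Agent.S6002P
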