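import Mathlib
import Cfsg.Prelude.Def_Characters
import Cfsg.Agent.Helper7.S2333Defs
import Cfsg.Agent.Helper7.S2333Basic

set_option autoImplicit false

/-! S2333 piece EXPAND: generic Fourier expansion along a full family of linear characters of a
finite group `A`. -/

namespace Cfsg.Agent.S2333P

open Matrix Cfsg Cfsg.Agent.Helper25
open scoped ComplexConjugate

variable {F : Type*} [Field F] {n : ℕ}

theorem expand_conj_eq {A : Type*} [Group A] [Fintype A] (l : A →* ℂ) (b : A) :
    conj (l b) = l b⁻¹ := by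
  have hpow : (l b) ^ orderOf b = 1 := by rw [← map_pow, pow_orderOf_eq_one, map_one]
  have hnorm : ‖l b‖ = 1 :=
    Complex.norm_eq_one_of_pow_eq_one hpow (orderOf_pos b).ne'
  have hinv : l b⁻¹ = (l b)⁻¹ := by
    apply eq_inv_of_mul_eq_one_right
    rw [← map_mul, mul_inv_cancel, map_one]
  rw [hinv, Complex.inv_eq_conj hnorm]

theorem rep_expand {G A ι : Type*} [Group G] [Group A] [Fintype A] [Fintype ι]
    (U : A →* G) (χ : G → ℂ) (lam : ι → A →* ℂ) (horth : ∀ a : A, a ≠ 1 → ∑ i, lam i a = 0)
    (hcard : Fintype.card ι = Fintype.card A) (a : A) :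
    χ (U a) = ∑ i, classInner (fun b => χ (U b)) (fun b => lam i b) * lam i a := by
  classical
  unfold classInner
  have hA : (Nat.card A : ℂ) ≠ 0 := by
    rw [Nat.card_eq_fintype_card]
    exact_mod_cast Fintype.card_ne_zero
  have h1 : ∀ i, ((Nat.card A : ℂ)⁻¹ * ∑ g : A, χ (U g) * conj (lam i g)) * lam i a
      = (Nat.card A : ℂ)⁻¹ * ∑ g : A, χ (U g) * lam i (g⁻¹ * a) := by
    intro i
    rw [mul_assoc, Finset.sum_mul]
    congr 1
    apply Finset.sum_congr rfl
    intro g _
    rw [expand_conj_eq, map_mul, mul_assoc]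
  simp_rw [h1]
  rw [← Finset.mul_sum, Finset.sum_comm]
  simp_rw [← Finset.mul_sum]
  rw [Finset.sum_eq_single a]
  · have h2 : ∑ i, lam i (a⁻¹ * a) = (Nat.card A : ℂ) := by
      simp only [inv_mul_cancel, map_one, Finset.sum_const, Finset.card_univ, nsmul_eq_mul,
        mul_one, hcard, Nat.card_eq_fintype_card]
    rw [h2]
    field_simp
  · intro b _ hb
    have hne : b⁻¹ * a ≠ 1 := by
      intro h
      apply hb
      have : a = b := by
        have := congrArg (fun x => b * x) h
        simpa using this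
      exact this.symm
    rw [horth _ hne, mul_zero]
  · intro h
    exact absurd (Finset.mem_univ _) h

end Cfsg.Agent.S2333P
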