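import Mathlib
import Cfsg.Prelude.Def_Perm

set_option autoImplicit false

namespace Cfsg.Agent.Helper4

open Cfsg

section
variable {F : Type*} [NearField F]

theorem nf_zero_mul (a : F) : (0 : F) * a = 0 := by
  have h := NearField.right_distrib (0 : F) 0 a
  rw [add_zero] at h
  have : (0 : F) * a + 0 = 0 * a + 0 * a := by rw [add_zero]; exact h
  exact (add_left_cancel this).symm

theorem nf_neg_mul (x a : F) : (-x) * a = -(x * a) := by
  have h := NearField.right_distrib x (-x) a
  rw [add_neg_cancel, nf_zero_mul] at h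
  exact (neg_eq_of_add_eq_zero_right h.symm).symm

theorem nf_sub_mul (x y a : F) : (x - y) * a = x * a - y * a := by
  rw [sub_eq_add_neg, NearField.right_distrib, nf_neg_mul, ← sub_eq_add_neg]

theorem nf_mul_right_cancel {x y a : F} (ha : a ≠ 0) (h : x * a = y * a) : x = y := by
  obtain ⟨b, hab, _⟩ := NearField.exists_inv a ha
  have := congrArg (fun t => t * b) h
  simpa [mul_assoc, hab] using this

theorem nf_mul_ne_zero {a b : F} (ha : a ≠ 0) (hb : b ≠ 0) : a * b ≠ 0 := by
  intro h
  obtain ⟨c, hbc, _⟩ := NearField.exists_inv b hb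
  apply ha
  have : a = (a * b) * c := by rw [mul_assoc, hbc, mul_one]
  rw [this, h, nf_zero_mul]

theorem nf_one_ne_zero : (1 : F) ≠ 0 := fun h => NearField.zero_ne_one h.symm

/-- The group of affine maps `x ↦ x * a + b`, `a ≠ 0`, of a near-field. -/
def nfAffine (F : Type*) [NearField F] : Subgroup (Equiv.Perm F) where
  carrier := {σ | ∃ a b : F, a ≠ 0 ∧ ∀ x : F, σ x = x * a + b}
  one_mem' := ⟨1, 0, nf_one_ne_zero, fun x => by simp⟩
  mul_mem' := by
    rintro σ τ ⟨a, b, ha, hσ⟩ ⟨c, d, hc, hτ⟩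
    refine ⟨c * a, d * a + b, nf_mul_ne_zero hc ha, fun x => ?_⟩
    simp only [Equiv.Perm.coe_mul, Function.comp_apply, hτ, hσ, NearField.right_distrib,
      mul_assoc, add_assoc]
  inv_mem' := by
    rintro σ ⟨a, b, ha, hσ⟩
    obtain ⟨a', haa', ha'a⟩ := NearField.exists_inv a ha
    have ha' : a' ≠ 0 := by
      intro h
      rw [h, nf_zero_mul] at ha'a
      exact NearField.zero_ne_one ha'a
    refine ⟨a', (-b) * a', ha', fun x => ?_⟩
    apply σ.injective
    rw [Equiv.Perm.inv_def, Equiv.apply_symm_apply, hσ, NearField.right_distrib, mul_assoc,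
      mul_assoc, ha'a, mul_one, mul_one, add_assoc, neg_add_cancel, add_zero]

theorem mem_nfAffine (σ : Equiv.Perm F) :
    σ ∈ nfAffine F ↔ ∃ a b : F, a ≠ 0 ∧ ∀ x : F, σ x = x * a + b := Iff.rfl

/-- The map `x ↦ x * a + b` as a permutation. -/
noncomputable def nfAffineMap (a b : F) (ha : a ≠ 0) : Equiv.Perm F where
  toFun x := x * a + b
  invFun y := (y - b) * Classical.choose (NearField.exists_inv a ha)
  left_inv x := by
    have h := (Classical.choose_spec (NearField.exists_inv a ha)).1
    simp only [add_sub_cancel_right, mul_assoc, h, mul_one]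
  right_inv y := by
    have h := (Classical.choose_spec (NearField.exists_inv a ha)).2
    simp only [mul_assoc, h, mul_one, sub_add_cancel]

theorem nfAffineMap_mem (a b : F) (ha : a ≠ 0) : nfAffineMap a b ha ∈ nfAffine F :=
  ⟨a, b, ha, fun _ => rfl⟩

theorem nfAffine_two_pretransitive :
    MulAction.IsMultiplyPretransitive (nfAffine F) F 2 := by
  rw [MulAction.is_two_pretransitive_iff]
  intro x1 x2 y1 y2 hx hy
  have hx' : x2 - x1 ≠ 0 := sub_ne_zero.mpr (Ne.symm hx)
  have hy' : y2 - y1 ≠ 0 := sub_ne_zero.mpr (Ne.symm hy)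
  obtain ⟨c, hc1, hc2⟩ := NearField.exists_inv (x2 - x1) hx'
  have hc : c ≠ 0 := by
    intro h
    rw [h, nf_zero_mul] at hc2
    exact NearField.zero_ne_one hc2
  have ha : c * (y2 - y1) ≠ 0 := nf_mul_ne_zero hc hy'
  refine ⟨⟨nfAffineMap (c * (y2 - y1)) (-(x1 * (c * (y2 - y1))) + y1) ha,
    nfAffineMap_mem _ _ ha⟩, ?_, ?_⟩
  · change x1 * (c * (y2 - y1)) + (-(x1 * (c * (y2 - y1))) + y1) = y1
    rw [← add_assoc, add_neg_cancel, zero_add]
  · change x2 * (c * (y2 - y1)) + (-(x1 * (c * (y2 - y1))) + y1) = y2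
    rw [← add_assoc, ← sub_eq_add_neg, ← nf_sub_mul, ← mul_assoc, hc1, one_mul, sub_add_cancel]

theorem nfAffine_sharp (x : Fin 2 ↪ F) : MulAction.stabilizer (nfAffine F) x = ⊥ := by
  rw [Subgroup.eq_bot_iff_forall]
  rintro ⟨σ, a, b, ha, hσ⟩ hstab
  rw [MulAction.mem_stabilizer_iff] at hstab
  have h0 : σ (x 0) = x 0 := by
    exact congrArg (fun f => f 0) hstab
  have h1 : σ (x 1) = x 1 := by
    exact congrArg (fun f => f 1) hstab
  rw [hσ] at h0 h1
  have hne : x 0 - x 1 ≠ 0 := by
    rw [sub_ne_zero]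
    exact x.injective.ne (by decide)
  have hsub : (x 0 - x 1) * a = (x 0 - x 1) * 1 := by
    rw [nf_sub_mul, mul_one]
    have e0 : x 0 * a = x 0 - b := eq_sub_of_add_eq h0
    have e1 : x 1 * a = x 1 - b := eq_sub_of_add_eq h1
    rw [e0, e1, sub_sub_sub_cancel_right]
  have ha1 : a = 1 := by
    obtain ⟨c, hc1, hc2⟩ := NearField.exists_inv (x 0 - x 1) hne
    have := congrArg (fun t => c * t) hsub
    simpa [← mul_assoc, hc2] using this
  have hb : b = 0 := by
    rw [ha1, mul_one] at h0
    exact add_eq_left.mp h0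
  apply Subtype.ext
  ext y
  change σ y = y
  rw [hσ, ha1, hb, mul_one, add_zero]

end

end Cfsg.Agent.Helper4

namespace Cfsg.Agent.Helper4

open Cfsg

section
variable {F : Type*} [NearField F]

theorem nf_nsmul_mul (n : ℕ) (x c : F) : (n • x) * c = n • (x * c) := by
  induction n with
  | zero => simp [nf_zero_mul]
  | succ n ih => rw [succ_nsmul, NearField.right_distrib, ih, succ_nsmul]

/-- Every non-zero element is a right multiple of a given non-zero element. -/
theorem nf_exists_mul_eq {x y : F} (hx : x ≠ 0) : ∃ c : F, x * c = y := by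
  obtain ⟨x', hxx', _⟩ := NearField.exists_inv x hx
  exact ⟨x' * y, by rw [← mul_assoc, hxx', one_mul]⟩

theorem nf_finite_structure [Finite F] :
    ∃ p j : ℕ, p.Prime ∧ 1 ≤ j ∧ Nat.card F = p ^ j ∧ (∀ x y : F, x + y = y + x) ∧
      ∀ x : F, p • x = 0 := by
  classical
  have hnt : Nontrivial F := ⟨⟨0, 1, NearField.zero_ne_one⟩⟩
  have hcard : 1 < Nat.card F := Finite.one_lt_card
  obtain ⟨p, hp, hpdvd⟩ := Nat.exists_prime_and_dvd (Nat.ne_of_gt hcard)
  haveI : Fact p.Prime := ⟨hp⟩
  obtain ⟨x, hx⟩ := exists_prime_orderOf_dvd_card' (G := Multiplicative F) p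
    (by rwa [Nat.card_congr Multiplicative.toAdd])
  have hx0 : Multiplicative.toAdd x ≠ 0 := by
    intro h
    have : x = 1 := by
      apply Multiplicative.toAdd.injective
      simpa using h
    rw [this, orderOf_one] at hx
    exact hp.one_lt.ne hx
  have hpx : p • Multiplicative.toAdd x = 0 := by
    have := pow_orderOf_eq_one x
    rw [hx] at this
    have h2 := congrArg Multiplicative.toAdd this
    simpa using h2
  have hpall : ∀ y : F, p • y = 0 := by
    intro y
    obtain ⟨c, rfl⟩ := nf_exists_mul_eq (y := y) hx0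
    rw [← nf_nsmul_mul, hpx, nf_zero_mul]
  have hPG : IsPGroup p (Multiplicative F) := by
    intro g
    refine ⟨1, ?_⟩
    apply Multiplicative.toAdd.injective
    simpa using hpall (Multiplicative.toAdd g)
  obtain ⟨j, hj⟩ := (IsPGroup.iff_card (p := p) (G := Multiplicative F)).mp hPG
  rw [Nat.card_congr Multiplicative.toAdd] at hj
  have hj1 : 1 ≤ j := by
    rcases Nat.eq_zero_or_pos j with h | h
    · rw [h, pow_zero] at hj; omega
    · exact h
  haveI : Nontrivial (Multiplicative F) := ⟨⟨Multiplicative.ofAdd 0, Multiplicative.ofAdd 1,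
    fun h => NearField.zero_ne_one (Multiplicative.ofAdd.injective h)⟩⟩
  haveI : Nontrivial (Subgroup.center (Multiplicative F)) := hPG.center_nontrivial
  obtain ⟨⟨z, hz⟩, hz1⟩ := exists_ne (1 : Subgroup.center (Multiplicative F))
  have hz0 : Multiplicative.toAdd z ≠ 0 := by
    intro h
    apply hz1
    apply Subtype.ext
    apply Multiplicative.toAdd.injective
    simpa using h
  have hzc : ∀ y : F, Multiplicative.toAdd z + y = y + Multiplicative.toAdd z := by
    intro y
    rw [Subgroup.mem_center_iff] at hz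
    have := hz (Multiplicative.ofAdd y)
    have h2 := congrArg Multiplicative.toAdd this
    simpa using h2.symm
  have hcomm : ∀ w y : F, w + y = y + w := by
    intro w y
    rcases eq_or_ne w 0 with hw | hw
    · rw [hw, zero_add, add_zero]
    obtain ⟨c, rfl⟩ := nf_exists_mul_eq (y := w) hz0
    have hc : c ≠ 0 := by
      intro h
      rw [h, NearField.mul_zero] at hw
      exact hw rfl
    obtain ⟨c', hcc', hc'c⟩ := NearField.exists_inv c hc
    have hy : y = (y * c') * c := by rw [mul_assoc, hc'c, mul_one]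
    rw [hy, ← NearField.right_distrib, ← NearField.right_distrib, hzc]
  exact ⟨p, j, hp, hj1, hj, hcomm, hpall⟩

end

end Cfsg.Agent.Helper4
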