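import Mathlib

set_option autoImplicit false
set_option linter.style.haveILetI false
set_option linter.unusedSectionVars false

namespace Cfsg.Agent.Helper4

open MulAction
open scoped Pointwise

section Block

variable {K Y : Type*} [Group K] [MulAction K Y]

/-- In a primitive action, an equivariant involution moving a point `y0` forces the set to be
`{y0, ι y0}`. -/
theorem eq_or_eq_of_equivariant_involution (hprim : IsPreprimitive K Y) (ι : Y → Y)
    (hι : ∀ (g : K) (y : Y), ι (g • y) = g • ι y) (hinv : ∀ y, ι (ι y) = y) (y0 : Y)
    (hy0 : ι y0 ≠ y0) : ∀ y : Y, y = y0 ∨ y = ι y0 := by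
  classical
  set B : Set Y := {y0, ι y0} with hB
  have hblock : IsBlock K B := by
    rw [isBlock_iff_smul_eq_of_mem]
    intro g y hy hgy
    have hgB : g • B = {g • y0, ι (g • y0)} := by
      rw [hB, Set.smul_set_insert, Set.smul_set_singleton, hι]
    have key : g • y0 = y0 ∨ g • y0 = ι y0 := by
      rcases hy with rfl | rfl
      · rcases hgy with h | h
        · exact Or.inl h
        · exact Or.inr h
      · rw [← hι] at hgy
        rcases hgy with h | h
        · right
          have := congrArg ι h
          rwa [hinv] at this
        · left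
          have := congrArg ι h
          rwa [hinv, hinv] at this
    rw [hgB]
    rcases key with h | h
    · rw [h]
    · rw [h, hinv, hB, Set.pair_comm]
  have htriv := hprim.isTrivialBlock_of_isBlock hblock
  rcases htriv with h | h
  · exfalso
    apply hy0
    exact h (Set.mem_insert_of_mem _ rfl) (Set.mem_insert _ _)
  · intro y
    have : y ∈ B := by rw [h]; trivial
    rcases this with h1 | h1
    · exact Or.inl h1
    · exact Or.inr h1

end Block

section Regular

variable {G X : Type*} [Group G] [MulAction G X] (N : Subgroup G)

/-- For a regular subgroup, the bijection `n ↦ n • a`. -/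
noncomputable def regEquiv (htrans : IsPretransitive N X) (hreg : ∀ x : X, stabilizer N x = ⊥)
    (a : X) : N ≃ X :=
  Equiv.ofBijective (fun n : N => n • a) (by
    constructor
    · intro n m h
      have h' : n • a = m • a := h
      have : m⁻¹ * n ∈ stabilizer N a := by
        rw [mem_stabilizer_iff, mul_smul, h', inv_smul_smul]
      rw [hreg a, Subgroup.mem_bot, inv_mul_eq_one] at this
      exact this.symm
    · intro x
      exact htrans.exists_smul_eq a x)

theorem regEquiv_apply (htrans : IsPretransitive N X) (hreg : ∀ x : X, stabilizer N x = ⊥)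
    (a : X) (n : N) : regEquiv N htrans hreg a n = (n : G) • a := rfl

theorem regEquiv_symm_smul (htrans : IsPretransitive N X) (hreg : ∀ x : X, stabilizer N x = ⊥)
    (a : X) (x : X) : ((regEquiv N htrans hreg a).symm x : G) • a = x := by
  have := (regEquiv N htrans hreg a).apply_symm_apply x
  rwa [regEquiv_apply] at this

theorem regEquiv_symm_eq (htrans : IsPretransitive N X) (hreg : ∀ x : X, stabilizer N x = ⊥)
    (a : X) (x : X) (n : N) (h : (n : G) • a = x) : (regEquiv N htrans hreg a).symm x = n := by
  rw [Equiv.symm_apply_eq, regEquiv_apply, h]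

/-- Conjugation by an element fixing `a` corresponds to the action on `X`. -/
theorem regEquiv_symm_conj [N.Normal] (htrans : IsPretransitive N X)
    (hreg : ∀ x : X, stabilizer N x = ⊥) (a : X) (g : G) (hg : g • a = a) (x : X) :
    ((regEquiv N htrans hreg a).symm (g • x) : G) =
      g * ((regEquiv N htrans hreg a).symm x : G) * g⁻¹ := by
  set n := (regEquiv N htrans hreg a).symm x with hn
  have hmem : g * (n : G) * g⁻¹ ∈ N := ‹N.Normal›.conj_mem n n.2 g
  have := regEquiv_symm_eq N htrans hreg a (g • x) ⟨g * (n : G) * g⁻¹, hmem⟩ (by
    change (g * (n : G) * g⁻¹) • a = g • x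
    rw [mul_smul, mul_smul]
    have h1 : g⁻¹ • a = a := by rw [inv_smul_eq_iff, hg]
    rw [h1, regEquiv_symm_smul])
  rw [this]

theorem card_eq_card_of_regular [Finite X] (htrans : IsPretransitive N X)
    (hreg : ∀ x : X, stabilizer N x = ⊥) (a : X) : Nat.card N = Nat.card X :=
  Nat.card_congr (regEquiv N htrans hreg a)

end Regular

end Cfsg.Agent.Helper4
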