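import Mathlib
import Cfsg.Agent.Helper4.RegularNormal

set_option autoImplicit false
set_option linter.style.haveILetI false
set_option linter.unusedSectionVars false

namespace Cfsg.Agent.Helper4

open MulAction SubMulAction
open scoped Pointwise

section
variable {G X : Type*} [Group G] [MulAction G X] (N : Subgroup G) [N.Normal]

/-- In a doubly transitive group with a regular normal subgroup `N`, any two non-identity elements
of `N` are conjugate under the stabiliser of a point. -/
theorem exists_conj_of_two_pretransitive (h2 : IsMultiplyPretransitive G X 2)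
    (htrans : IsPretransitive N X) (hreg : ∀ x : X, stabilizer N x = ⊥) (a : X)
    (n m : N) (hn : n ≠ 1) (hm : m ≠ 1) :
    ∃ g : G, g • a = a ∧ g * (n : G) * g⁻¹ = (m : G) := by
  have hna : (n : G) • a ≠ a := by
    intro h
    have : n ∈ stabilizer N a := h
    rw [hreg a, Subgroup.mem_bot] at this
    exact hn this
  have hma : (m : G) • a ≠ a := by
    intro h
    have : m ∈ stabilizer N a := h
    rw [hreg a, Subgroup.mem_bot] at this
    exact hm this
  rw [is_two_pretransitive_iff] at h2
  obtain ⟨g, hga, hgx⟩ := h2 (Ne.symm hna) (Ne.symm hma)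
  refine ⟨g, hga, ?_⟩
  have hmem : g * (n : G) * g⁻¹ ∈ N := ‹N.Normal›.conj_mem n n.2 g
  have h1 : (⟨g * (n : G) * g⁻¹, hmem⟩ : N) = m := by
    apply (regEquiv N htrans hreg a).injective
    rw [regEquiv_apply, regEquiv_apply]
    change (g * (n : G) * g⁻¹) • a = (m : G) • a
    rw [mul_smul, mul_smul]
    have h1 : g⁻¹ • a = a := by rw [inv_smul_eq_iff, hga]
    rw [h1, hgx]
  exact congrArg Subtype.val h1

/-- A regular normal subgroup of a doubly transitive group of finite degree at least 2 is an
elementary abelian `p`-group. -/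
theorem regular_normal_elementary_abelian [Finite X] (hX : 2 ≤ Nat.card X)
    (h2 : IsMultiplyPretransitive G X 2)
    (htrans : IsPretransitive N X) (hreg : ∀ x : X, stabilizer N x = ⊥) :
    ∃ p : ℕ, p.Prime ∧ (∀ n ∈ N, n ^ p = 1) ∧ (∀ n ∈ N, n ≠ 1 → orderOf n = p) ∧
      (∀ n ∈ N, ∀ m ∈ N, n * m = m * n) ∧ ∃ k : ℕ, Nat.card X = p ^ k := by
  classical
  have hne : Nonempty X := by
    rw [← Finite.card_pos_iff]; omega
  obtain ⟨a⟩ := hne
  have hcard : Nat.card N = Nat.card X := card_eq_card_of_regular N htrans hreg a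
  haveI hNfin : Finite N := Nat.finite_of_card_ne_zero (by omega)
  obtain ⟨p, hp, hpdvd⟩ := Nat.exists_prime_and_dvd (show Nat.card N ≠ 1 by omega)
  haveI : Fact p.Prime := ⟨hp⟩
  obtain ⟨n0, hn0⟩ := exists_prime_orderOf_dvd_card' (G := N) p hpdvd
  have hn01 : n0 ≠ 1 := by
    intro e; rw [e, orderOf_one] at hn0; exact hp.one_lt.ne hn0
  have horder : ∀ n ∈ N, n ≠ 1 → orderOf n = p := by
    intro n hn hn1
    have hn1' : (⟨n, hn⟩ : N) ≠ 1 := fun e => hn1 (congrArg Subtype.val e)
    obtain ⟨g, _, hg⟩ := exists_conj_of_two_pretransitive N h2 htrans hreg a n0 ⟨n, hn⟩ hn01 hn1'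
    have : n = MulAut.conj g (n0 : G) := by rw [MulAut.conj_apply]; exact hg.symm
    rw [this, MulEquiv.orderOf_eq, Subgroup.orderOf_coe, hn0]
  have hpow : ∀ n ∈ N, n ^ p = 1 := by
    intro n hn
    by_cases hn1 : n = 1
    · rw [hn1, one_pow]
    · rw [← horder n hn hn1]; exact pow_orderOf_eq_one n
  have hPG : IsPGroup p N := by
    intro n
    refine ⟨1, ?_⟩
    apply Subtype.ext
    rw [pow_one, Subgroup.coe_pow, Subgroup.coe_one]
    exact hpow n n.2
  haveI : Nontrivial N := ⟨⟨n0, 1, hn01⟩⟩
  haveI : Nontrivial (Subgroup.center N) := hPG.center_nontrivial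
  obtain ⟨⟨z, hz⟩, hz1⟩ := exists_ne (1 : Subgroup.center N)
  have hz1' : z ≠ 1 := fun e => hz1 (Subtype.ext e)
  have hcomm : ∀ n ∈ N, ∀ m ∈ N, n * m = m * n := by
    intro n hn m hm
    by_cases hn1 : n = 1
    · rw [hn1, one_mul, mul_one]
    have hn1' : (⟨n, hn⟩ : N) ≠ 1 := fun e => hn1 (congrArg Subtype.val e)
    obtain ⟨g, _, hg⟩ := exists_conj_of_two_pretransitive N h2 htrans hreg a z ⟨n, hn⟩ hz1' hn1'
    have hmem : g⁻¹ * m * g ∈ N := by
      have := ‹N.Normal›.conj_mem m hm g⁻¹
      simpa using this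
    rw [Subgroup.mem_center_iff] at hz
    have hc := hz ⟨g⁻¹ * m * g, hmem⟩
    have hc' : g⁻¹ * m * g * (z : G) = (z : G) * (g⁻¹ * m * g) := congrArg Subtype.val hc
    have hn' : n = g * (z : G) * g⁻¹ := hg.symm
    rw [hn']
    have e1 : g * (z : G) * g⁻¹ * m = g * ((z : G) * (g⁻¹ * m * g)) * g⁻¹ := by group
    have e2 : m * (g * (z : G) * g⁻¹) = g * (g⁻¹ * m * g * (z : G)) * g⁻¹ := by group
    rw [e1, e2, hc']
  obtain ⟨k, hk⟩ := (IsPGroup.iff_card (p := p)).mp hPG
  exact ⟨p, hp, hpow, horder, hcomm, k, by rw [← hcard, hk]⟩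

end

end Cfsg.Agent.Helper4

namespace Cfsg.Agent.Helper4

open MulAction SubMulAction
open scoped Pointwise

section
variable {G X : Type*} [Group G] [MulAction G X] (N : Subgroup G) [N.Normal]

/-- The map on the complement of `{a}` induced by inversion on a regular normal subgroup. -/
noncomputable def invMap (htrans : IsPretransitive N X) (hreg : ∀ x : X, stabilizer N x = ⊥)
    (a : X) (y : ofFixingSubgroup G ({a} : Set X)) : ofFixingSubgroup G ({a} : Set X) :=
  ⟨(((regEquiv N htrans hreg a).symm y.1)⁻¹ : N) • a, by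
    rw [mem_ofFixingSubgroup_iff, Set.mem_singleton_iff]
    intro h
    have h1 : ((regEquiv N htrans hreg a).symm y.1)⁻¹ ∈ stabilizer N a := h
    rw [hreg a, Subgroup.mem_bot, inv_eq_one] at h1
    have h2 := regEquiv_symm_smul N htrans hreg a y.1
    rw [h1, Subgroup.coe_one, one_smul] at h2
    have := y.2
    rw [mem_ofFixingSubgroup_iff, Set.mem_singleton_iff] at this
    exact this h2.symm⟩

theorem invMap_val (htrans : IsPretransitive N X) (hreg : ∀ x : X, stabilizer N x = ⊥)
    (a : X) (y : ofFixingSubgroup G ({a} : Set X)) :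
    (invMap N htrans hreg a y).1 = (((regEquiv N htrans hreg a).symm y.1 : G))⁻¹ • a := rfl

theorem invMap_invMap (htrans : IsPretransitive N X) (hreg : ∀ x : X, stabilizer N x = ⊥)
    (a : X) (y : ofFixingSubgroup G ({a} : Set X)) :
    invMap N htrans hreg a (invMap N htrans hreg a y) = y := by
  apply Subtype.ext
  rw [invMap_val]
  have h1 : (regEquiv N htrans hreg a).symm (invMap N htrans hreg a y).1 =
      ((regEquiv N htrans hreg a).symm y.1)⁻¹ := by
    apply regEquiv_symm_eq
    rw [invMap_val]; rfl
  rw [h1]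
  simp only [InvMemClass.coe_inv, inv_inv]
  exact regEquiv_symm_smul N htrans hreg a y.1

theorem invMap_smul (htrans : IsPretransitive N X) (hreg : ∀ x : X, stabilizer N x = ⊥)
    (a : X) (g : fixingSubgroup G ({a} : Set X)) (y : ofFixingSubgroup G ({a} : Set X)) :
    invMap N htrans hreg a (g • y) = g • invMap N htrans hreg a y := by
  apply Subtype.ext
  have hga : (g : G) • a = a := (mem_fixingSubgroup_iff G).mp g.2 a rfl
  have hga' : (g : G)⁻¹ • a = a := by rw [inv_smul_eq_iff, hga]
  rw [invMap_val]
  have h1 : ((g • y : ofFixingSubgroup G ({a} : Set X)) : X) = (g : G) • y.1 := rfl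
  rw [h1, regEquiv_symm_conj N htrans hreg a (g : G) hga y.1]
  have h2 : ((g • invMap N htrans hreg a y : ofFixingSubgroup G ({a} : Set X)) : X) =
      (g : G) • (invMap N htrans hreg a y).1 := rfl
  rw [h2, invMap_val]
  simp only [mul_inv_rev, inv_inv, mul_smul, hga']

/-- A regular normal subgroup of a doubly primitive group of finite degree at least 2 is an
elementary abelian 2-group, unless the degree is 3. -/
theorem regular_normal_of_two_preprimitive [Fintype X] (hX : 2 ≤ Fintype.card X)
    (h2 : IsMultiplyPreprimitive G X 2)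
    (htrans : IsPretransitive N X) (hreg : ∀ x : X, stabilizer N x = ⊥) :
    Fintype.card X = 3 ∨ (IsMulCommutative N ∧ (∀ n ∈ N, n ^ 2 = 1) ∧
      ∃ m : ℕ, Fintype.card X = 2 ^ m) := by
  classical
  have h2t : IsMultiplyPretransitive G X 2 := h2.isMultiplyPretransitive
  obtain ⟨p, hp, hpow, horder, hcomm, k, hk⟩ := regular_normal_elementary_abelian N
    (by rw [Nat.card_eq_fintype_card]; exact hX) h2t htrans hreg
  rw [Nat.card_eq_fintype_card] at hk
  have hcommN : IsMulCommutative N :=
    ⟨⟨fun n m => Subtype.ext (hcomm n.1 n.2 m.1 m.2)⟩⟩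
  by_cases hp2 : p = 2
  · right
    subst hp2
    exact ⟨hcommN, hpow, k, hk⟩
  · left
    have hne : Nonempty X := by
      rw [← Fintype.card_pos_iff]; omega
    obtain ⟨a⟩ := hne
    have hprim : IsPreprimitive (fixingSubgroup G ({a} : Set X))
        (ofFixingSubgroup G ({a} : Set X)) :=
      h2.isPreprimitive_ofFixingSubgroup (s := {a}) (by simp; rfl)
    -- a second point
    obtain ⟨b, hb⟩ : ∃ b : X, b ≠ a := by
      by_contra hcon
      push Not at hcon
      have : Fintype.card X ≤ 1 := Fintype.card_le_one_iff.mpr (fun x y => by rw [hcon x, hcon y])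
      omega
    let y0 : ofFixingSubgroup G ({a} : Set X) := ⟨b, by
      rw [mem_ofFixingSubgroup_iff, Set.mem_singleton_iff]; exact hb⟩
    set n0 := (regEquiv N htrans hreg a).symm b with hn0
    have hn0a : (n0 : G) • a = b := regEquiv_symm_smul N htrans hreg a b
    have hn01 : (n0 : G) ≠ 1 := by
      intro e
      rw [e, one_smul] at hn0a
      exact hb hn0a.symm
    have hy0 : invMap N htrans hreg a y0 ≠ y0 := by
      intro e
      have e' := congrArg Subtype.val e
      rw [invMap_val] at e'
      change ((n0 : G))⁻¹ • a = b at e'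
      rw [← hn0a] at e'
      have h3 : (n0⁻¹ : N) = n0 := by
        apply (regEquiv N htrans hreg a).injective
        rw [regEquiv_apply, regEquiv_apply]
        exact e'
      have h4 : (n0 : G) ^ 2 = 1 := by
        have : (n0 : G)⁻¹ = (n0 : G) := congrArg Subtype.val h3
        rw [pow_two]
        nth_rewrite 1 [← this]
        exact inv_mul_cancel _
      have h5 := orderOf_dvd_of_pow_eq_one h4
      rw [horder (n0 : G) n0.2 hn01] at h5
      exact hp2 ((Nat.prime_dvd_prime_iff_eq hp Nat.prime_two).mp h5)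
    have hall := eq_or_eq_of_equivariant_involution hprim (invMap N htrans hreg a)
      (fun g y => invMap_smul N htrans hreg a g y) (invMap_invMap N htrans hreg a) y0 hy0
    set c : X := (invMap N htrans hreg a y0).1 with hc
    have hca : c ≠ a := by
      have := (invMap N htrans hreg a y0).2
      rwa [mem_ofFixingSubgroup_iff, Set.mem_singleton_iff] at this
    have hcb : c ≠ b := fun e => hy0 (Subtype.ext e)
    have huniv : (Finset.univ : Finset X) = {a, b, c} := by
      ext x
      simp only [Finset.mem_univ, Finset.mem_insert, Finset.mem_singleton, true_iff]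
      by_cases hxa : x = a
      · exact Or.inl hxa
      · right
        have := hall ⟨x, by rw [mem_ofFixingSubgroup_iff, Set.mem_singleton_iff]; exact hxa⟩
        rcases this with h | h
        · exact Or.inl (congrArg Subtype.val h)
        · exact Or.inr (congrArg Subtype.val h)
    rw [← Finset.card_univ, huniv]
    rw [Finset.card_insert_of_notMem, Finset.card_insert_of_notMem, Finset.card_singleton]
    · simpa using hcb.symm
    · simp only [Finset.mem_insert, Finset.mem_singleton, not_or]
      exact ⟨hb.symm, hca.symm⟩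

end

end Cfsg.Agent.Helper4
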