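import Mathlib
import Cfsg.Prelude.Def_LieExceptional

set_option autoImplicit false
set_option linter.style.haveILetI false
set_option linter.unusedSectionVars false

namespace Cfsg.Agent.Helper4

open MulAction

section
variable {G Ω : Type*} [Group G] [MulAction G Ω]

/-- The number of fixed points of an element of order two has the parity of the degree. -/
theorem card_modEq_card_fixedBy_of_orderOf_two [Finite Ω] (s : G) (hs : orderOf s = 2) :
    Nat.card Ω ≡ Nat.card (fixedBy Ω s) [MOD 2] := by
  classical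
  haveI : Fact (Nat.Prime 2) := ⟨Nat.prime_two⟩
  have hP : IsPGroup 2 (Subgroup.zpowers s) := by
    apply IsPGroup.of_card (n := 1)
    rw [Nat.card_zpowers, hs, pow_one]
  have h := hP.card_modEq_card_fixedPoints Ω
  have e : fixedPoints (Subgroup.zpowers s) Ω = fixedBy Ω s := by
    ext x
    constructor
    · intro hx
      exact hx ⟨s, Subgroup.mem_zpowers s⟩
    · intro hx g
      obtain ⟨j, hj⟩ := g.2
      have := mem_fixedBy_zpow hx j
      rw [mem_fixedBy] at this
      change (g : G) • x = x
      rw [← hj]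
      exact this
  rwa [e] at h

/-- In a Zassenhaus group a non-identity element has at most two fixed points. -/
theorem zassenhaus_card_fixedBy_le_two [Finite Ω] (hZ : Cfsg.IsZassenhausGroup G Ω) (g : G)
    (hg : g ≠ 1) : Nat.card (fixedBy Ω g) ≤ 2 := by
  by_contra hcon
  push Not at hcon
  rw [Nat.card_coe_set_eq, Set.two_lt_ncard] at hcon
  obtain ⟨a, ha, b, hb, c, hc, hab, hac, hbc⟩ := hcon
  exact hg (hZ.2.2.1 g a b c hab hbc hac ha hb hc)

/-- Any involution (indeed any non-identity element) can be conjugated to move `a` to `b` and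
`b` to `a` when it has order two, in a doubly transitive faithful action. -/
theorem exists_involution_swapping (h2 : IsMultiplyPretransitive G Ω 2)
    (t : G) (ht : orderOf t = 2) (c : Ω) (hc : t • c ≠ c) {a b : Ω} (hab : a ≠ b) :
    ∃ g : G, orderOf (g * t * g⁻¹) = 2 ∧ (g * t * g⁻¹) • a = b ∧ (g * t * g⁻¹) • b = a ∧
      g • c = a ∧ g • (t • c) = b := by
  rw [is_two_pretransitive_iff] at h2
  obtain ⟨g, hga, hgb⟩ := h2 (Ne.symm hc) hab
  have ht2 : t * t = 1 := by
    have := pow_orderOf_eq_one t
    rwa [ht, pow_two] at this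
  have htt : t • (t • c) = c := by rw [← mul_smul, ht2, one_smul]
  refine ⟨g, ?_, ?_, ?_, hga, hgb⟩
  · have : g * t * g⁻¹ = MulAut.conj g t := by simp [MulAut.conj_apply]
    rw [this, MulEquiv.orderOf_eq]
    exact ht
  · rw [mul_smul, mul_smul, ← hga, inv_smul_smul, hgb]
  · rw [mul_smul, mul_smul, ← hgb, inv_smul_smul, htt, hga]

theorem zassenhaus_involutions [Finite G] [Fintype Ω] (hZ : Cfsg.IsZassenhausGroup G Ω)
    {a b : Ω} (hab : a ≠ b) :
    (∃ s : G, orderOf s = 2 ∧ s • a = b ∧ s • b = a) ∧
    (∀ s : G, orderOf s = 2 → s • a = b → s • b = a →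
      (Odd (Fintype.card Ω) → Nat.card (fixedBy Ω s) = 1) ∧
      (Even (Fintype.card Ω) → Nat.card (fixedBy Ω s) = 0 ∨ Nat.card (fixedBy Ω s) = 2)) ∧
    (Even (Fintype.card Ω) → Even (Nat.card ↥(stabilizer G a ⊓ stabilizer G b)) →
      ∃ s : G, orderOf s = 2 ∧ s • a = b ∧ s • b = a ∧ Nat.card (fixedBy Ω s) = 2) := by
  classical
  haveI : Fact (Nat.Prime 2) := ⟨Nat.prime_two⟩
  obtain ⟨hfaith, h2, h3, hex, _⟩ := hZ
  have hZ' : Cfsg.IsZassenhausGroup G Ω := ⟨hfaith, h2, h3, hex, by assumption⟩
  have hmove : ∀ g : G, g ≠ 1 → ∃ c : Ω, g • c ≠ c := by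
    intro g hg
    by_contra hcon
    push Not at hcon
    apply hg
    apply hfaith.eq_of_smul_eq_smul
    intro x
    rw [hcon x, one_smul]
  refine ⟨?_, ?_, ?_⟩
  · -- existence of an involution: |G| is even
    have h2' := h2
    rw [is_two_pretransitive_iff] at h2'
    obtain ⟨g, hga, hgb⟩ := h2' hab (Ne.symm hab)
    -- g swaps a and b so has even order
    have hgeven : 2 ∣ orderOf g := by
      by_contra hodd
      have hodd' : Odd (orderOf g) := Nat.odd_iff.mpr (by omega)
      obtain ⟨k, hk⟩ := hodd'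
      have hpow : ∀ n : ℕ, g ^ (2 * n + 1) • a = b := by
        intro n
        induction n with
        | zero => simpa using hga
        | succ n ih =>
          have : 2 * (n + 1) + 1 = 2 + (2 * n + 1) := by ring
          rw [this, pow_add, mul_smul, ih, pow_two, mul_smul, hgb, hga]
      have := hpow k
      rw [← hk, pow_orderOf_eq_one, one_smul] at this
      exact hab this
    have hcard : 2 ∣ Nat.card G := hgeven.trans (orderOf_dvd_natCard g)
    obtain ⟨t, ht⟩ := exists_prime_orderOf_dvd_card' (G := G) 2 hcard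
    have ht1 : t ≠ 1 := by
      intro e; rw [e, orderOf_one] at ht; omega
    obtain ⟨c, hc⟩ := hmove t ht1
    obtain ⟨k, hk1, hk2, hk3, _, _⟩ := exists_involution_swapping h2 t ht c hc hab
    exact ⟨_, hk1, hk2, hk3⟩
  · intro s hs hsa hsb
    have hs1 : s ≠ 1 := by
      intro e; rw [e, orderOf_one] at hs; omega
    have hle := zassenhaus_card_fixedBy_le_two hZ' s hs1
    have hmod := card_modEq_card_fixedBy_of_orderOf_two (Ω := Ω) s hs
    rw [Nat.card_eq_fintype_card] at hmod
    have hmod' : Fintype.card Ω % 2 = Nat.card (fixedBy Ω s) % 2 := hmod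
    constructor
    · intro hodd
      have := Nat.odd_iff.mp hodd
      omega
    · intro heven
      have := Nat.even_iff.mp heven
      omega
  · intro heven hHeven
    obtain ⟨z, hz⟩ := exists_prime_orderOf_dvd_card'
      (G := ↥(stabilizer G a ⊓ stabilizer G b)) 2 hHeven.two_dvd
    have hz' : orderOf (z : G) = 2 := by rw [Subgroup.orderOf_coe]; exact hz
    have hz1 : (z : G) ≠ 1 := by
      intro e; rw [e, orderOf_one] at hz'; omega
    have hza : (z : G) • a = a := z.2.1
    have hzb : (z : G) • b = b := z.2.2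
    have hle := zassenhaus_card_fixedBy_le_two hZ' (z : G) hz1
    have hge : 2 ≤ Nat.card (fixedBy Ω (z : G)) := by
      rw [Nat.card_coe_set_eq]
      have hsub : ({a, b} : Set Ω) ⊆ fixedBy Ω (z : G) := by
        intro x hx
        rcases hx with rfl | rfl
        · exact hza
        · exact hzb
      have := Set.ncard_le_ncard hsub (Set.toFinite _)
      rwa [Set.ncard_pair hab] at this
    have hfix2 : Nat.card (fixedBy Ω (z : G)) = 2 := le_antisymm hle hge
    obtain ⟨c, hc⟩ := hmove (z : G) hz1
    obtain ⟨k, hk1, hk2, hk3, _, _⟩ := exists_involution_swapping h2 (z : G) hz' c hc hab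
    refine ⟨_, hk1, hk2, hk3, ?_⟩
    rw [← smul_fixedBy, Nat.card_coe_set_eq, Set.ncard_smul_set, ← Nat.card_coe_set_eq]
    exact hfix2

end

end Cfsg.Agent.Helper4
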