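import Mathlib
import Cfsg.Agent.Helper4.Zassenhaus
import Cfsg.Agent.Helper4.RegularNormal2

set_option autoImplicit false
set_option linter.style.haveILetI false
set_option linter.unusedSectionVars false

/-!
# Finite sharply doubly transitive groups

The fixed-point-free elements together with the identity form a regular normal elementary
abelian subgroup (without Frobenius' theorem, via involutions).
-/

namespace Cfsg.Agent.Helper4

open MulAction

section Sharp2

variable {G α : Type*} [Group G] [MulAction G α]

/-- Elementwise form of sharpness. -/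
theorem eq_one_of_fix_two (hsharp : ∀ x : Fin 2 ↪ α, stabilizer G x = ⊥) (g : G)
    {x y : α} (hxy : x ≠ y) (hx : g • x = x) (hy : g • y = y) : g = 1 := by
  have hinj : Function.Injective ![x, y] := by
    intro i j hij
    fin_cases i <;> fin_cases j <;> simp_all
  let e : Fin 2 ↪ α := ⟨![x, y], hinj⟩
  have hmem : g ∈ stabilizer G e := by
    rw [mem_stabilizer_iff]
    ext i
    rw [Function.Embedding.smul_apply]
    fin_cases i
    · exact hx
    · exact hy
  rw [hsharp e, Subgroup.mem_bot] at hmem
  exact hmem

variable (hs : ∀ (g : G) (x y : α), x ≠ y → g • x = x → g • y = y → g = 1)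
include hs

/-- Two elements agreeing on two distinct points are equal. -/
theorem eq_of_agree_two (g h : G) {x y : α} (hxy : x ≠ y) (hx : g • x = h • x)
    (hy : g • y = h • y) : g = h := by
  have : h⁻¹ * g = 1 := hs (h⁻¹ * g) x y hxy (by rw [mul_smul, hx, inv_smul_smul])
    (by rw [mul_smul, hy, inv_smul_smul])
  rw [inv_mul_eq_one] at this
  exact this.symm

/-- The unique involution swapping two points. -/
theorem exists_swap (h2 : IsMultiplyPretransitive G α 2) {x y : α} (hxy : x ≠ y) :
    ∃ t : G, t * t = 1 ∧ t ≠ 1 ∧ t • x = y ∧ t • y = x := by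
  rw [is_two_pretransitive_iff] at h2
  obtain ⟨t, htx, hty⟩ := h2 hxy (Ne.symm hxy)
  refine ⟨t, ?_, ?_, htx, hty⟩
  · exact hs (t * t) x y hxy (by rw [mul_smul, htx, hty]) (by rw [mul_smul, hty, htx])
  · rintro rfl
    rw [one_smul] at htx
    exact hxy htx

theorem swap_unique (s t : G) {x y : α} (hxy : x ≠ y) (hsx : s • x = y) (hsy : s • y = x)
    (htx : t • x = y) (hty : t • y = x) : s = t :=
  eq_of_agree_two hs s t hxy (by rw [hsx, htx]) (by rw [hsy, hty])

/-- Product of two distinct involutions without a common fixed point is fixed-point-free. -/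
theorem mul_involutions_fpf (s t : G) (hss : s * s = 1) (htt : t * t = 1) (hst : s ≠ t)
    (hcommon : ∀ c : α, s • c = c → t • c = c → s = t) (c : α) : (s * t) • c ≠ c := by
  intro h
  have h1 : t • c = s • c := by
    have : s • ((s * t) • c) = s • c := by rw [h]
    rwa [← mul_smul, ← mul_assoc, hss, one_mul] at this
  set e := t • c with he
  by_cases hec : e = c
  · apply hst
    exact hcommon c (by rw [← h1, hec]) hec
  · apply hst
    have hse : s • e = c := by rw [h1, ← mul_smul, hss, one_smul]
    have hte : t • e = c := by rw [he, ← mul_smul, htt, one_smul]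
    exact swap_unique hs s t (Ne.symm hec) h1.symm hse rfl hte

end Sharp2

section Main

variable {G α : Type*} [Group G] [MulAction G α] [Finite G] [Fintype α]

/-- In a finite sharply doubly transitive group the fixed-point-free elements together with
the identity form a normal subgroup of order the degree. -/
theorem sharp2_fpf_subgroup (h2 : IsMultiplyPretransitive G α 2)
    (hs : ∀ (g : G) (x y : α), x ≠ y → g • x = x → g • y = y → g = 1)
    (hn : 2 ≤ Fintype.card α) :
    ∃ N : Subgroup G, N.Normal ∧ (∀ g : G, g ∈ N ↔ g = 1 ∨ ∀ a : α, g • a ≠ a) ∧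
      Nat.card N = Fintype.card α ∧
      Nat.card G = Fintype.card α * (Fintype.card α - 1) := by
  classical
  letI : Fintype G := Fintype.ofFinite G
  set n := Fintype.card α with hn_def
  obtain ⟨x, y, hxy⟩ := Fintype.one_lt_card_iff.mp (show 1 < Fintype.card α by omega)
  have h2' := h2
  rw [is_two_pretransitive_iff] at h2'
  have htrans : IsPretransitive G α := by
    have : IsMultiplyPretransitive G α 1 :=
      isMultiplyPretransitive_of_le (n := 2) (by norm_num) (by
        rw [Nat.card_eq_fintype_card]
        exact_mod_cast hn)
    exact is_one_pretransitive_iff.mp this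
  -- fixed point counts
  let Fx : G → Finset α := fun g => Finset.univ.filter (fun a => g • a = a)
  let c : G → ℕ := fun g => (Fx g).card
  have hc1 : c 1 = n := by
    simp [c, Fx, hn_def]
  have hcle : ∀ g : G, g ≠ 1 → c g ≤ 1 := by
    intro g hg
    by_contra hcon
    push Not at hcon
    obtain ⟨a, ha, b, hb, hab⟩ := Finset.one_lt_card.mp hcon
    simp only [Fx, Finset.mem_filter, Finset.mem_univ, true_and] at ha hb
    exact hg (hs g a b hab ha hb)
  have hc0 : ∀ g : G, c g = 0 ↔ ∀ a : α, g • a ≠ a := by
    intro g
    simp only [c, Fx, Finset.card_eq_zero, Finset.filter_eq_empty_iff, Finset.mem_univ,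
      forall_true_left]
  have hcfix : ∀ g : G, Fintype.card (fixedBy α g) = c g := by
    intro g
    rw [Fintype.card_subtype]
    rfl
  -- the order of G
  have hGcard : Fintype.card G = n * (n - 1) := by
    have hinj : Function.Injective ![x, y] := by
      intro i j hij
      fin_cases i <;> fin_cases j <;> simp_all
    let x0 : Fin 2 ↪ α := ⟨![x, y], hinj⟩
    have hbij : Function.Bijective (fun g : G => g • x0) := by
      constructor
      · intro g h hgh
        have h0 := congrArg (fun e : Fin 2 ↪ α => e 0) hgh
        have h1 := congrArg (fun e : Fin 2 ↪ α => e 1) hgh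
        simp only [Function.Embedding.smul_apply] at h0 h1
        exact eq_of_agree_two hs g h hxy h0 h1
      · intro e
        exact h2.exists_smul_eq x0 e
    rw [Fintype.card_of_bijective hbij, Fintype.card_embedding_eq, Fintype.card_fin]
    obtain ⟨m, hm⟩ : ∃ m, n = m + 2 := ⟨n - 2, by omega⟩
    rw [← hn_def, hm]
    simp [Nat.descFactorial]
    ring
  -- Burnside
  have hburn : ∑ g : G, c g = Fintype.card G := by
    have h := sum_card_fixedBy_eq_card_orbits_mul_card_group G α
    have horb : Fintype.card (Quotient (orbitRel G α)) = 1 := by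
      rw [Fintype.card_eq_one_iff]
      refine ⟨Quotient.mk'' x, ?_⟩
      intro q
      induction q using Quotient.inductionOn' with
      | h b =>
        apply Quotient.sound'
        exact htrans.exists_smul_eq x b
    rw [horb, one_mul] at h
    rw [← h]
    exact Finset.sum_congr rfl (fun g _ => (hcfix g).symm)
  -- the fixed point free elements
  let B : Finset G := Finset.univ.filter (fun g => ∀ a : α, g • a ≠ a)
  have hBmem : ∀ g, g ∈ B ↔ ∀ a : α, g • a ≠ a := by
    intro g
    simp [B]
  have h1B : (1 : G) ∉ B := by
    rw [hBmem]
    push Not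
    exact ⟨x, one_smul _ _⟩
  have hBcard : B.card = n - 1 := by
    let E : Finset G := Finset.univ.erase 1
    have hE : E.card = Fintype.card G - 1 := by
      rw [Finset.card_erase_of_mem (Finset.mem_univ _), Finset.card_univ]
    have hsplit : c 1 + ∑ g ∈ E, c g = Fintype.card G := by
      rw [← hburn]
      exact Finset.add_sum_erase Finset.univ c (Finset.mem_univ 1)
    have hBE : B = E.filter (fun g => c g = 0) := by
      ext g
      simp only [Finset.mem_filter, hBmem, E, Finset.mem_erase, Finset.mem_univ, and_true, hc0]
      constructor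
      · intro h
        refine ⟨?_, h⟩
        rintro rfl
        exact h x (one_smul _ _)
      · exact fun h => h.2
    have hsum : ∑ g ∈ E, c g + B.card = E.card := by
      rw [hBE, Finset.card_filter, ← Finset.sum_add_distrib, Finset.card_eq_sum_ones]
      apply Finset.sum_congr rfl
      intro g hg
      have hg1 : g ≠ 1 := (Finset.mem_erase.mp hg).1
      have := hcle g hg1
      by_cases h0 : c g = 0
      · simp [h0]
      · have : c g = 1 := by omega
        simp [this]
    have hGpos : 1 ≤ Fintype.card G := Fintype.card_pos
    rw [hc1] at hsplit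
    omega
  let N : Finset G := insert 1 B
  have hNcard : N.card = n := by
    rw [Finset.card_insert_of_notMem h1B, hBcard]
    omega
  have hNmem : ∀ g, g ∈ N ↔ g = 1 ∨ ∀ a : α, g • a ≠ a := by
    intro g
    simp only [N, Finset.mem_insert, hBmem]
  -- involutions
  let J : Finset G := Finset.univ.filter (fun t => t * t = 1 ∧ t ≠ 1)
  have hJmem : ∀ t, t ∈ J ↔ t * t = 1 ∧ t ≠ 1 := by
    intro t
    simp [J]
  have hJc : ∀ t ∈ J, c t = n % 2 := by
    intro t ht
    obtain ⟨htt, ht1⟩ := (hJmem t).mp ht
    have ho : orderOf t = 2 := orderOf_eq_prime (by rw [pow_two]; exact htt) ht1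
    have hmod := card_modEq_card_fixedBy_of_orderOf_two (Ω := α) t ho
    rw [Nat.card_eq_fintype_card, Nat.card_eq_fintype_card, hcfix] at hmod
    have hle := hcle t ht1
    unfold Nat.ModEq at hmod
    omega
  -- counting involutions
  let P : Finset (α × α) := (Finset.univ : Finset α).offDiag
  have hP : P.card = n * n - n := by
    rw [Finset.offDiag_card, Finset.card_univ]
  have hPmem : ∀ q : α × α, q ∈ P ↔ q.1 ≠ q.2 := by
    intro q
    simp [P]
  have hJcount : J.card * (n - n % 2) = n * n - n := by
    let rS : G → α × α → Prop := fun t q => t • q.1 = q.2 ∧ t • q.2 = q.1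
    have key := Finset.sum_card_bipartiteAbove_eq_sum_card_bipartiteBelow (s := J) (t := P) rS
    have hl : ∀ t ∈ J, (P.bipartiteAbove rS t).card = n - n % 2 := by
      intro t ht
      obtain ⟨htt, ht1⟩ := (hJmem t).mp ht
      let Mv : Finset α := Finset.univ.filter (fun a => t • a ≠ a)
      have hMv : Mv.card + c t = n := by
        rw [add_comm]
        exact Finset.card_filter_add_card_filter_not (s := Finset.univ) (fun a => t • a = a)
      have himg : P.bipartiteAbove rS t = Mv.image (fun a => (a, t • a)) := by
        ext q
        simp only [Finset.bipartiteAbove, Finset.mem_filter, hPmem, rS, Finset.mem_image, Mv,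
          Finset.mem_univ, true_and]
        constructor
        · rintro ⟨hq, h1, h2⟩
          refine ⟨q.1, ?_, ?_⟩
          · rw [h1]; exact Ne.symm hq
          · rw [h1]
        · rintro ⟨a, ha, rfl⟩
          refine ⟨Ne.symm ha, rfl, ?_⟩
          change t • t • a = a
          rw [← mul_smul, htt, one_smul]
      have hinj : Set.InjOn (fun a : α => (a, t • a)) (Mv : Set α) := by
        intro a _ b _ hab
        exact (Prod.mk.inj hab).1
      rw [himg, Finset.card_image_of_injOn hinj]
      have := hJc t ht
      omega
    have hr : ∀ q ∈ P, (J.bipartiteBelow rS q).card = 1 := by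
      rintro ⟨u, v⟩ hq
      have huv : u ≠ v := (hPmem _).mp hq
      obtain ⟨t, htt, ht1, htu, htv⟩ := exists_swap hs h2 huv
      rw [Finset.card_eq_one]
      refine ⟨t, ?_⟩
      ext s
      simp only [Finset.bipartiteBelow, Finset.mem_filter, Finset.mem_singleton, rS, hJmem]
      constructor
      · rintro ⟨_, hsu, hsv⟩
        exact swap_unique hs s t huv hsu hsv htu htv
      · rintro rfl
        exact ⟨⟨htt, ht1⟩, htu, htv⟩
    rw [Finset.sum_congr rfl hl, Finset.sum_congr rfl hr, Finset.sum_const, Finset.sum_const,
      smul_eq_mul, smul_eq_mul, mul_one] at key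
    rw [key, hP]
  -- closure under multiplication
  have hmul : ∀ u ∈ N, ∀ v ∈ N, u * v ∈ N := by
    rcases Nat.mod_two_eq_zero_or_one n with heven | hodd
    · -- even degree: involutions are exactly the fixed point free elements
      rw [heven, Nat.sub_zero] at hJcount
      have hJcard : J.card = n - 1 := by
        have : J.card * n = (n - 1) * n := by
          rw [hJcount, Nat.sub_mul, one_mul]
        exact Nat.eq_of_mul_eq_mul_right (by omega) this
      have hJB : J = B := by
        apply Finset.eq_of_subset_of_card_le
        · intro t ht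
          rw [hBmem, ← hc0, hJc t ht, heven]
        · rw [hJcard, hBcard]
      intro u hu v hv
      rw [hNmem] at hu hv
      rcases hu with rfl | hu
      · rw [one_mul]; exact (hNmem v).mpr hv
      rcases hv with rfl | hv
      · rw [mul_one]; exact (hNmem u).mpr (Or.inr hu)
      have huJ : u ∈ J := by rw [hJB, hBmem]; exact hu
      have hvJ : v ∈ J := by rw [hJB, hBmem]; exact hv
      obtain ⟨huu, _⟩ := (hJmem u).mp huJ
      obtain ⟨hvv, _⟩ := (hJmem v).mp hvJ
      rw [hNmem]
      by_cases huv : u = v
      · left; rw [huv, hvv]
      · right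
        exact mul_involutions_fpf hs u v huu hvv huv (fun c hc _ => absurd hc (hu c))
    · -- odd degree
      rw [hodd] at hJcount
      have hJcard : J.card = n := by
        have : J.card * (n - 1) = n * (n - 1) := by
          rw [hJcount, Nat.mul_sub, mul_one]
        exact Nat.eq_of_mul_eq_mul_right (by omega) this
      -- every point is fixed by exactly one involution
      let rF : G → α → Prop := fun t a => t • a = a
      have key := Finset.sum_card_bipartiteAbove_eq_sum_card_bipartiteBelow (s := J)
        (t := (Finset.univ : Finset α)) rF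
      have hl : ∀ t ∈ J, ((Finset.univ : Finset α).bipartiteAbove rF t).card = 1 := by
        intro t ht
        have := hJc t ht
        rw [hodd] at this
        exact this
      have hge : ∀ a ∈ (Finset.univ : Finset α), 1 ≤ (J.bipartiteBelow rF a).card := by
        intro a _
        obtain ⟨t0, htt0, ht01, _, _⟩ := exists_swap hs h2 hxy
        have ht0J : t0 ∈ J := (hJmem t0).mpr ⟨htt0, ht01⟩
        have hc0' : c t0 = 1 := by rw [hJc t0 ht0J, hodd]
        obtain ⟨c0, hc0mem⟩ := Finset.card_pos.mp (by rw [show (Fx t0).card = 1 from hc0']; omega)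
        have hc0fix : t0 • c0 = c0 := by
          simpa [Fx] using hc0mem
        obtain ⟨g, hg⟩ := htrans.exists_smul_eq c0 a
        rw [Nat.succ_le_iff, Finset.card_pos]
        refine ⟨g * t0 * g⁻¹, ?_⟩
        simp only [Finset.bipartiteBelow, Finset.mem_filter, hJmem, rF]
        refine ⟨⟨?_, ?_⟩, ?_⟩
        · have : g * t0 * g⁻¹ * (g * t0 * g⁻¹) = g * (t0 * t0) * g⁻¹ := by group
          rw [this, htt0, mul_one, mul_inv_cancel]
        · intro h
          apply ht01
          have := congrArg (fun u => g⁻¹ * u * g) h
          simpa [mul_assoc] using this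
        · rw [mul_smul, mul_smul, ← hg, inv_smul_smul, hc0fix]
      have hall : ∀ a : α, (J.bipartiteBelow rF a).card = 1 := by
        by_contra hcon
        push Not at hcon
        obtain ⟨a, ha⟩ := hcon
        have hlt : ∑ a ∈ (Finset.univ : Finset α), 1 <
            ∑ a ∈ (Finset.univ : Finset α), (J.bipartiteBelow rF a).card := by
          apply Finset.sum_lt_sum hge
          refine ⟨a, Finset.mem_univ _, ?_⟩
          have := hge a (Finset.mem_univ _)
          omega
        rw [← key, Finset.sum_congr rfl hl] at hlt
        simp only [Finset.sum_const, smul_eq_mul, mul_one, Finset.card_univ] at hlt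
        omega
      have hcommon : ∀ s ∈ J, ∀ t ∈ J, ∀ c0 : α, s • c0 = c0 → t • c0 = c0 → s = t := by
        intro s hsJ t htJ c0 hsc htc
        have h1 := hall c0
        have hle : (J.bipartiteBelow rF c0).card ≤ 1 := by omega
        rw [Finset.card_le_one] at hle
        apply hle
        · simp only [Finset.bipartiteBelow, Finset.mem_filter, rF]
          exact ⟨hsJ, hsc⟩
        · simp only [Finset.bipartiteBelow, Finset.mem_filter, rF]
          exact ⟨htJ, htc⟩
      have hprod : ∀ s ∈ J, ∀ t ∈ J, s * t ∈ N := by
        intro s hsJ t htJ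
        obtain ⟨hss, _⟩ := (hJmem s).mp hsJ
        obtain ⟨htt, _⟩ := (hJmem t).mp htJ
        rw [hNmem]
        by_cases hst : s = t
        · left; rw [hst, htt]
        · right
          exact mul_involutions_fpf hs s t hss htt hst (hcommon s hsJ t htJ)
      obtain ⟨t0, htt0, ht01, _, _⟩ := exists_swap hs h2 hxy
      have ht0J : t0 ∈ J := (hJmem t0).mpr ⟨htt0, ht01⟩
      have hleft : J.image (fun s => t0 * s) = N := by
        apply Finset.eq_of_subset_of_card_le
        · intro u hu
          rw [Finset.mem_image] at hu
          obtain ⟨s, hsJ, rfl⟩ := hu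
          exact hprod t0 ht0J s hsJ
        · rw [Finset.card_image_of_injective _ (mul_right_injective t0), hJcard, hNcard]
      have hright : J.image (fun s => s * t0) = N := by
        apply Finset.eq_of_subset_of_card_le
        · intro u hu
          rw [Finset.mem_image] at hu
          obtain ⟨s, hsJ, rfl⟩ := hu
          exact hprod s hsJ t0 ht0J
        · rw [Finset.card_image_of_injective _ (mul_left_injective t0), hJcard, hNcard]
      intro u hu v hv
      rw [← hright, Finset.mem_image] at hu
      rw [← hleft, Finset.mem_image] at hv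
      obtain ⟨s, hsJ, rfl⟩ := hu
      obtain ⟨r, hrJ, rfl⟩ := hv
      have : s * t0 * (t0 * r) = s * r := by
        rw [mul_assoc, ← mul_assoc t0, htt0, one_mul]
      rw [this]
      exact hprod s hsJ r hrJ
  -- the subgroup
  let N' : Subgroup G :=
    { carrier := {g | g = 1 ∨ ∀ a : α, g • a ≠ a}
      mul_mem' := by
        intro u v hu hv
        exact (hNmem _).mp (hmul u ((hNmem u).mpr hu) v ((hNmem v).mpr hv))
      one_mem' := Or.inl rfl
      inv_mem' := by
        intro u hu
        rcases hu with rfl | hu
        · left; exact inv_one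
        · right
          intro a h
          apply hu a
          rw [inv_smul_eq_iff] at h
          exact h.symm }
  have hN'mem : ∀ g : G, g ∈ N' ↔ g = 1 ∨ ∀ a : α, g • a ≠ a := fun g => Iff.rfl
  refine ⟨N', ?_, hN'mem, ?_, ?_⟩
  · constructor
    intro u hu g
    rw [hN'mem] at hu ⊢
    rcases hu with rfl | hu
    · left; simp
    · right
      intro a h
      apply hu (g⁻¹ • a)
      rw [mul_smul, mul_smul, smul_eq_iff_eq_inv_smul] at h
      exact h
  · have : (N' : Set G) = (N : Set G) := by
      ext g
      rw [Finset.mem_coe, hNmem]
      exact hN'mem g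
    rw [← SetLike.coe_sort_coe, Nat.card_coe_set_eq, this, Set.ncard_coe_finset, hNcard]
  · rw [Nat.card_eq_fintype_card, hGcard]

end Main

end Cfsg.Agent.Helper4
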