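import Mathlib
import Cfsg.Prelude
import Cfsg.Agent.Helper4.Sharp2

set_option autoImplicit false
set_option linter.style.haveILetI false
set_option linter.unusedSectionVars false

/-!
# A finite sharply doubly transitive group is the affine group of a near-field
-/

namespace Cfsg.Agent.Helper4

open MulAction

section

variable {α : Type*} [Fintype α] [DecidableEq α]

theorem sharp2_nearfield (H : Subgroup (Equiv.Perm α))
    (h2t : IsMultiplyPretransitive H α 2)
    (hs : ∀ (g : H) (x y : α), x ≠ y → g • x = x → g • y = y → g = 1)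
    (hn : 2 ≤ Fintype.card α) :
    ∃ _ : Cfsg.NearField α, ∀ σ : Equiv.Perm α,
      σ ∈ H ↔ ∃ a b : α, a ≠ 0 ∧ ∀ x : α, σ x = x * a + b := by
  classical
  obtain ⟨N, hNnormal, hNmem, hNcard, -⟩ := sharp2_fpf_subgroup h2t hs hn
  haveI := hNnormal
  have hreg : ∀ a : α, stabilizer N a = ⊥ := by
    intro a
    rw [Subgroup.eq_bot_iff_forall]
    intro g hg
    rcases (hNmem g.1).mp g.2 with h | h
    · exact Subtype.ext h
    · exact absurd hg (h a)
  obtain ⟨o, e, hoe⟩ := Fintype.one_lt_card_iff.mp (show 1 < Fintype.card α by omega)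
  have htransN : IsPretransitive N α := by
    have hinj : Function.Injective (fun g : N => g • o) := by
      intro g h hgh
      have : h⁻¹ * g ∈ stabilizer N o := by
        rw [mem_stabilizer_iff, mul_smul]
        change h⁻¹ • (g • o) = o
        rw [show g • o = h • o from hgh, inv_smul_smul]
      rw [hreg o, Subgroup.mem_bot, inv_mul_eq_one] at this
      exact this.symm
    have hbij : Function.Bijective (fun g : N => g • o) :=
      hinj.bijective_of_nat_card_le (by rw [hNcard, Nat.card_eq_fintype_card])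
    refine ⟨fun x y => ?_⟩
    obtain ⟨gx, hgx⟩ := hbij.2 x
    obtain ⟨gy, hgy⟩ := hbij.2 y
    refine ⟨gy * gx⁻¹, ?_⟩
    rw [mul_smul, ← hgx]
    change gy • gx⁻¹ • gx • o = y
    rw [inv_smul_smul]
    exact hgy
  obtain ⟨p, hp, -, -, hcomm, -, -⟩ :=
    regular_normal_elementary_abelian N
      (by rw [Nat.card_eq_fintype_card]; exact hn) h2t htransN hreg
  -- translations
  let τ : α → N := fun x => (regEquiv N htransN hreg o).symm x
  have hτ : ∀ x : α, ((τ x : N) : H) • o = x := fun x => regEquiv_symm_smul N htransN hreg o x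
  have hτu : ∀ (u : N) (x : α), (u : H) • o = x → τ x = u :=
    fun u x h => regEquiv_symm_eq N htransN hreg o x u h
  have hτ1 : τ o = 1 := hτu 1 o (one_smul _ _)
  have hτmul : ∀ x y : α, τ (((τ x : N) : H) • y) = τ x * τ y := by
    intro x y
    apply hτu
    rw [Subgroup.coe_mul, mul_smul, hτ y]
  have hτconj : ∀ (g : H) (x : α), g • o = o →
      ((τ (g • x) : N) : H) = g * ((τ x : N) : H) * g⁻¹ :=
    fun g x hg => regEquiv_symm_conj N htransN hreg o g hg x
  have hτcomm : ∀ x y : α, ((τ x : N) : H) • y = ((τ y : N) : H) • x := by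
    intro x y
    have h1 : ((τ x : N) : H) • y = (((τ x : N) : H) * ((τ y : N) : H)) • o := by
      rw [mul_smul, hτ y]
    have h2 : ((τ y : N) : H) • x = (((τ y : N) : H) * ((τ x : N) : H)) • o := by
      rw [mul_smul, hτ x]
    rw [h1, h2, hcomm _ (τ x).2 _ (τ y).2]
  -- dilations
  have h2' := h2t
  rw [is_two_pretransitive_iff] at h2'
  have hμex : ∀ a : α, ∃ g : H, a ≠ o → (g • o = o ∧ g • e = a) := by
    intro a
    by_cases ha : a = o
    · exact ⟨1, fun h => absurd ha h⟩
    · obtain ⟨g, hg1, hg2⟩ := h2' hoe (Ne.symm ha)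
      exact ⟨g, fun _ => ⟨hg1, hg2⟩⟩
  choose μ hμ using hμex
  have hμu : ∀ (g : H) (a : α), a ≠ o → g • o = o → g • e = a → g = μ a := by
    intro g a ha hg1 hg2
    obtain ⟨h1, h2⟩ := hμ a ha
    exact eq_of_agree_two hs g (μ a) hoe (by rw [hg1, h1]) (by rw [hg2, h2])
  have hμe : μ e = 1 := (hμu 1 e (Ne.symm hoe) (one_smul _ _) (one_smul _ _)).symm
  have hμne : ∀ (a x : α), a ≠ o → x ≠ o → μ a • x ≠ o := by
    intro a x ha hx h
    apply hx
    have : μ a • x = μ a • o := by rw [h, (hμ a ha).1]
    exact smul_left_cancel _ this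
  -- operations
  let addF : α → α → α := fun x y => ((τ x : N) : H) • y
  let negF : α → α := fun x => (((τ x)⁻¹ : N) : H) • o
  let mulF : α → α → α := fun x a => if a = o then o else μ a • x
  have hmulF0 : ∀ x : α, mulF x o = o := fun x => if_pos rfl
  have hmulF : ∀ (x a : α), a ≠ o → mulF x a = μ a • x := fun x a ha => if_neg ha
  have h_add_assoc : ∀ x y z : α, addF (addF x y) z = addF x (addF y z) := by
    intro x y z
    change ((τ (((τ x : N) : H) • y) : N) : H) • z = ((τ x : N) : H) • (((τ y : N) : H) • z)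
    rw [hτmul, Subgroup.coe_mul, mul_smul]
  have h_zero_add : ∀ y : α, addF o y = y := by
    intro y
    change ((τ o : N) : H) • y = y
    rw [hτ1, Subgroup.coe_one, one_smul]
  have h_neg_add : ∀ x : α, addF (negF x) x = o := by
    intro x
    change ((τ ((((τ x)⁻¹ : N) : H) • o) : N) : H) • x = o
    rw [hτu (τ x)⁻¹ _ rfl, Subgroup.coe_inv, inv_smul_eq_iff, hτ x]
  have h_mul_one : ∀ x : α, mulF x e = x := by
    intro x
    rw [hmulF x e (Ne.symm hoe), hμe, one_smul]
  have h_one_mul : ∀ a : α, mulF e a = a := by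
    intro a
    by_cases ha : a = o
    · rw [ha, hmulF0]
    · rw [hmulF e a ha, (hμ a ha).2]
  have hμmul : ∀ a b : α, a ≠ o → b ≠ o → μ (μ b • a) = μ b * μ a := by
    intro a b ha hb
    symm
    apply hμu _ _ (hμne b a hb ha)
    · rw [mul_smul, (hμ a ha).1, (hμ b hb).1]
    · rw [mul_smul, (hμ a ha).2]
  have h_mul_assoc : ∀ x a b : α, mulF (mulF x a) b = mulF x (mulF a b) := by
    intro x a b
    by_cases hb : b = o
    · rw [hb, hmulF0, hmulF0, hmulF0]
    by_cases ha : a = o
    · rw [ha, hmulF0, hmulF o b hb, (hμ b hb).1, hmulF0]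
    · rw [hmulF x a ha, hmulF _ b hb, hmulF a b hb, hmulF x _ (hμne b a hb ha), hμmul a b ha hb,
        mul_smul]
  have h_right_distrib : ∀ x y c : α, mulF (addF x y) c = addF (mulF x c) (mulF y c) := by
    intro x y c
    by_cases hc : c = o
    · rw [hc, hmulF0, hmulF0, hmulF0]
      exact (h_zero_add o).symm
    · rw [hmulF _ c hc, hmulF x c hc, hmulF y c hc]
      change μ c • (((τ x : N) : H) • y) = ((τ (μ c • x) : N) : H) • (μ c • y)
      rw [hτconj (μ c) x (hμ c hc).1, mul_smul, mul_smul, inv_smul_smul]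
  -- assemble the structure
  letI iAdd : Add α := ⟨addF⟩
  letI iZero : Zero α := ⟨o⟩
  letI iNeg : Neg α := ⟨negF⟩
  letI iAG : AddGroup α := AddGroup.ofLeftAxioms h_add_assoc h_zero_add h_neg_add
  letI iMon : Monoid α :=
    { mul := mulF
      one := e
      mul_assoc := h_mul_assoc
      one_mul := h_one_mul
      mul_one := h_mul_one }
  let inst : Cfsg.NearField α :=
    { iAG, iMon with
      right_distrib := h_right_distrib
      mul_zero := hmulF0
      zero_ne_one := hoe
      exists_inv := by
        intro a ha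
        have ha' : a ≠ o := ha
        let b : α := (μ a)⁻¹ • e
        have hb : b ≠ o := by
          intro h
          apply hoe
          have : e = μ a • o := by rw [← h, smul_inv_smul]
          rw [this, (hμ a ha').1]
        have hμb : μ b = (μ a)⁻¹ := by
          symm
          apply hμu _ _ hb
          · rw [inv_smul_eq_iff, (hμ a ha').1]
          · rfl
        refine ⟨b, ?_, ?_⟩
        · change mulF a b = e
          rw [hmulF a b hb, hμb, inv_smul_eq_iff, (hμ a ha').2]
        · change mulF b a = e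
          rw [hmulF b a ha', smul_inv_smul] }
  refine ⟨inst, ?_⟩
  intro σ
  have hform : ∀ (a b x : α), a ≠ o → addF (mulF x a) b = (((τ b : N) : H) * μ a) • x := by
    intro a b x ha
    rw [hmulF x a ha, mul_smul]
    exact hτcomm _ _
  constructor
  · intro hσ
    let g : H := ⟨σ, hσ⟩
    let b : α := g • o
    let g' : H := ((τ b : N) : H)⁻¹ * g
    have hg'o : g' • o = o := by
      change (((τ b : N) : H)⁻¹ * g) • o = o
      rw [mul_smul, inv_smul_eq_iff, hτ b]
    let a : α := g' • e
    have ha : a ≠ o := by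
      intro h
      apply hoe
      have : g' • e = g' • o := by rw [hg'o]; exact h
      exact (smul_left_cancel _ this).symm
    have hg' : g' = μ a := hμu g' a ha hg'o rfl
    refine ⟨a, b, ha, ?_⟩
    intro x
    change σ x = addF (mulF x a) b
    rw [hform a b x ha, ← hg']
    change σ x = (((τ b : N) : H) * (((τ b : N) : H)⁻¹ * g)) • x
    rw [mul_inv_cancel_left]
    rfl
  · rintro ⟨a, b, ha, hσ⟩
    have ha' : a ≠ o := ha
    have : σ = (((τ b : N) : H) * μ a : H) := by
      ext x
      rw [hσ x]
      change addF (mulF x a) b = _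
      rw [hform a b x ha']
      rfl
    rw [this]
    exact SetLike.coe_mem _

end

end Cfsg.Agent.Helper4
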