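import Mathlib

set_option autoImplicit false
set_option linter.style.haveILetI false
set_option linter.unusedSectionVars false

/-!
# Elements of order three in sharply triply transitive groups

In a sharply 3-transitive group of degree `n ≡ 2 (mod 3)` every two-point stabiliser contains
exactly two elements of order three, by counting the 3-cycles of the elements of order 3.
-/

namespace Cfsg.Agent.Helper4

open MulAction

section Prime

variable {G Ω : Type*} [Group G] [MulAction G Ω]

/-- The number of fixed points of an element of prime order `p` is congruent to the degree. -/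
theorem card_modEq_card_fixedBy_of_orderOf_prime [Finite Ω] (p : ℕ) [hp : Fact p.Prime] (s : G)
    (hs : orderOf s = p) : Nat.card Ω ≡ Nat.card (fixedBy Ω s) [MOD p] := by
  classical
  have hP : IsPGroup p (Subgroup.zpowers s) := by
    apply IsPGroup.of_card (n := 1)
    rw [Nat.card_zpowers, hs, pow_one]
  have h := hP.card_modEq_card_fixedPoints Ω
  have e : fixedPoints (Subgroup.zpowers s) Ω = fixedBy Ω s := by
    ext x
    constructor
    · intro hx
      exact hx ⟨s, Subgroup.mem_zpowers s⟩
    · intro hx g
      obtain ⟨j, hj⟩ := g.2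
      have := mem_fixedBy_zpow hx j
      rw [mem_fixedBy] at this
      change (g : G) • x = x
      rw [← hj]
      exact this
  rwa [e] at h

end Prime

section Sharp

variable {G α : Type*} [Group G] [MulAction G α]

/-- In a sharply 3-transitive action, an element fixing three distinct points is trivial. -/
theorem eq_one_of_fix_three (hsharp : ∀ x : Fin 3 ↪ α, stabilizer G x = ⊥) (g : G)
    {x y z : α} (hxy : x ≠ y) (hxz : x ≠ z) (hyz : y ≠ z)
    (hx : g • x = x) (hy : g • y = y) (hz : g • z = z) : g = 1 := by
  have hinj : Function.Injective ![x, y, z] := by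
    intro i j hij
    fin_cases i <;> fin_cases j <;> simp_all
  let e : Fin 3 ↪ α := ⟨![x, y, z], hinj⟩
  have hmem : g ∈ stabilizer G e := by
    rw [mem_stabilizer_iff]
    ext i
    rw [Function.Embedding.smul_apply]
    fin_cases i
    · exact hx
    · exact hy
    · exact hz
  rw [hsharp e, Subgroup.mem_bot] at hmem
  exact hmem

theorem card_fixedBy_le_two_of_sharp [Finite α] (hsharp : ∀ x : Fin 3 ↪ α, stabilizer G x = ⊥)
    (g : G) (hg : g ≠ 1) : Nat.card (fixedBy α g) ≤ 2 := by
  by_contra hcon
  push Not at hcon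
  rw [Nat.card_coe_set_eq, Set.two_lt_ncard] at hcon
  obtain ⟨a, ha, b, hb, c, hc, hab, hac, hbc⟩ := hcon
  exact hg (eq_one_of_fix_three hsharp g hab hac hbc ha hb hc)

end Sharp

section Count

variable {G α : Type*} [Group G] [MulAction G α]

/-- Rotation of a triple. -/
def rot3 (e : Fin 3 ↪ α) : Fin 3 ↪ α := (finRotate 3).toEmbedding.trans e

theorem rot3_apply (e : Fin 3 ↪ α) (i : Fin 3) : rot3 e i = e (finRotate 3 i) := rfl

theorem smul_rot3 (g : G) (e : Fin 3 ↪ α) : g • rot3 e = rot3 (g • e) := by
  ext i
  simp [rot3_apply, Function.Embedding.smul_apply]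

theorem rot3_rot3_rot3 (e : Fin 3 ↪ α) : rot3 (rot3 (rot3 e)) = e := by
  ext i
  simp only [rot3_apply]
  congr 1
  fin_cases i <;> decide

theorem cyc3_injective (g : G) (hg : g ^ 3 = 1) (y : α) (hy : g • y ≠ y) :
    Function.Injective (fun i : Fin 3 => g ^ (i : ℕ) • y) := by
  have h2 : g ^ 2 • y ≠ y := by
    intro h
    apply hy
    have : g • (g ^ 2 • y) = g • y := by rw [h]
    rw [← mul_smul, ← pow_succ', hg, one_smul] at this
    exact this.symm
  have h12 : g • y ≠ g ^ 2 • y := by
    intro h
    apply hy
    rw [pow_two, mul_smul] at h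
    exact (smul_left_cancel g h).symm
  intro i j hij
  fin_cases i <;> fin_cases j <;> simp at hij ⊢
  · exact hy hij.symm
  · exact h2 hij.symm
  · exact hy hij
  · exact h12 hij
  · exact h2 hij
  · exact h12 hij.symm

/-- The triple `(y, g y, g² y)`. -/
def cyc3 (g : G) (hg : g ^ 3 = 1) (y : α) (hy : g • y ≠ y) : Fin 3 ↪ α :=
  ⟨fun i : Fin 3 => g ^ (i : ℕ) • y, cyc3_injective g hg y hy⟩

theorem cyc3_apply (g : G) (hg : g ^ 3 = 1) (y : α) (hy : g • y ≠ y) (i : Fin 3) :
    cyc3 g hg y hy i = g ^ (i : ℕ) • y := rfl

theorem smul_cyc3 (g : G) (hg : g ^ 3 = 1) (y : α) (hy : g • y ≠ y) :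
    g • cyc3 g hg y hy = rot3 (cyc3 g hg y hy) := by
  ext i
  rw [Function.Embedding.smul_apply, rot3_apply, cyc3_apply, cyc3_apply, ← mul_smul, ← pow_succ']
  fin_cases i
  · simp
  · simp
  · simp [hg]


variable [Finite G] [Fintype α] [DecidableEq α]

/-- In a sharply 3-transitive group of degree `n ≡ 2 (mod 3)`, a two-point stabiliser contains
exactly two elements of order three. -/
theorem card_order_three_of_sharp (h3 : IsMultiplyPretransitive G α 3)
    (hsharp : ∀ x : Fin 3 ↪ α, stabilizer G x = ⊥) (hn : 3 ≤ Fintype.card α)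
    (hmod : Fintype.card α % 3 = 2) {a b : α} (hab : a ≠ b) :
    Set.ncard {g : G | g ^ 3 = 1 ∧ g ≠ 1 ∧ g • a = a ∧ g • b = b} = 2 := by
  classical
  letI : Fintype G := Fintype.ofFinite G
  set n := Fintype.card α with hn_def
  let S : Finset G := Finset.univ.filter (fun g => g ^ 3 = 1 ∧ g ≠ 1)
  have hS : ∀ g, g ∈ S ↔ g ^ 3 = 1 ∧ g ≠ 1 := by
    intro g
    simp [S]
  let Fx : G → Finset α := fun g => Finset.univ.filter (fun y => g • y = y)
  let Mv : G → Finset α := fun g => Finset.univ.filter (fun y => g • y ≠ y)
  have hFx : ∀ g ∈ S, (Fx g).card = 2 := by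
    intro g hg
    rw [hS] at hg
    have h3' : Fact (Nat.Prime 3) := ⟨Nat.prime_three⟩
    have ho : orderOf g = 3 := orderOf_eq_prime hg.1 hg.2
    have h1 := card_modEq_card_fixedBy_of_orderOf_prime (Ω := α) 3 g ho
    have h2 := card_fixedBy_le_two_of_sharp hsharp g hg.2
    have e : Nat.card (fixedBy α g) = (Fx g).card := by
      rw [Nat.card_eq_fintype_card, Fintype.card_subtype]
      rfl
    rw [e] at h1 h2
    rw [Nat.card_eq_fintype_card] at h1
    unfold Nat.ModEq at h1
    omega
  have hMv : ∀ g ∈ S, (Mv g).card = n - 2 := by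
    intro g hg
    have h1 : (Mv g).card + (Fx g).card = n := by
      rw [add_comm]
      exact Finset.card_filter_add_card_filter_not (s := Finset.univ)
        (fun y => g • y = y)
    rw [hFx g hg] at h1
    omega
  -- first count
  have hcount1 : S.card * (n - 2) = n.descFactorial 3 := by
    have e1 : (S.sigma Mv).card = S.card * (n - 2) := by
      rw [Finset.card_sigma, Finset.sum_congr rfl hMv, Finset.sum_const, smul_eq_mul]
    rw [← e1, ← Fintype.card_fin 3, ← Fintype.card_embedding_eq, ← Finset.card_univ]
    refine Finset.card_bij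
      (fun x hx => cyc3 x.1 ((hS x.1).mp (Finset.mem_sigma.mp hx).1).1 x.2
        (by
          have := (Finset.mem_sigma.mp hx).2
          simpa [Mv] using this))
      (fun x hx => Finset.mem_univ _) ?_ ?_
    · rintro ⟨g, y⟩ hx ⟨g', y'⟩ hx' hxx
      have hg := ((hS g).mp (Finset.mem_sigma.mp hx).1).1
      have hg' := ((hS g').mp (Finset.mem_sigma.mp hx').1).1
      have hy : g • y ≠ y := by
        have := (Finset.mem_sigma.mp hx).2
        simpa [Mv] using this
      have hy' : g' • y' ≠ y' := by
        have := (Finset.mem_sigma.mp hx').2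
        simpa [Mv] using this
      have hxx' : cyc3 g hg y hy = cyc3 g' hg' y' hy' := hxx
      have hyy : y = y' := by
        have := congrArg (fun e : Fin 3 ↪ α => e 0) hxx'
        simpa [cyc3_apply] using this
      have h1 := smul_cyc3 g hg y hy
      have h2 := smul_cyc3 g' hg' y' hy'
      rw [← hxx'] at h2
      have h3'' : (g'⁻¹ * g) • cyc3 g hg y hy = cyc3 g hg y hy := by
        rw [mul_smul, h1, ← h2, inv_smul_smul]
      have : g'⁻¹ * g ∈ stabilizer G (cyc3 g hg y hy) := h3''
      rw [hsharp, Subgroup.mem_bot, inv_mul_eq_one] at this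
      subst hyy
      subst this
      rfl
    · intro e _
      obtain ⟨g, hg⟩ := h3.exists_smul_eq e (rot3 e)
      have hg3 : g ^ 3 = 1 := by
        have : g ^ 3 • e = e := by
          rw [pow_succ, pow_two, mul_smul, mul_smul, hg, smul_rot3, hg, smul_rot3, smul_rot3, hg,
            rot3_rot3_rot3]
        have hm : g ^ 3 ∈ stabilizer G e := this
        rwa [hsharp, Subgroup.mem_bot] at hm
      have hy : g • e 0 ≠ e 0 := by
        have : g • e 0 = e 1 := by
          rw [← Function.Embedding.smul_apply, hg, rot3_apply]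
          rfl
        rw [this]
        intro h
        exact absurd (e.injective h) (by decide)
      have hg1 : g ≠ 1 := by
        rintro rfl
        exact hy (one_smul _ _)
      refine ⟨⟨g, e 0⟩, ?_, ?_⟩
      · rw [Finset.mem_sigma]
        exact ⟨(hS g).mpr ⟨hg3, hg1⟩, by simpa [Mv] using hy⟩
      · ext i
        change cyc3 g hg3 (e 0) hy i = e i
        rw [cyc3_apply]
        have e1 : g • e 0 = e 1 := by
          rw [← Function.Embedding.smul_apply, hg, rot3_apply]
          rfl
        have e2 : g • e 1 = e 2 := by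
          rw [← Function.Embedding.smul_apply, hg, rot3_apply]
          rfl
        fin_cases i
        · simp
        · simpa using e1
        · simp only [Fin.reduceFinMk]
          rw [pow_two, mul_smul, e1, e2]
  -- second count
  let P : Finset (α × α) := (Finset.univ : Finset α).offDiag
  let r : G → α × α → Prop := fun g q => g • q.1 = q.1 ∧ g • q.2 = q.2
  let T : Finset G := S.filter (fun g => g • a = a ∧ g • b = b)
  have hP : P.card = n * n - n := by
    rw [Finset.offDiag_card, Finset.card_univ]
  have h2t : IsMultiplyPretransitive G α 2 :=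
    isMultiplyPretransitive_of_le (n := 3) (by norm_num) (by
      rw [Nat.card_eq_fintype_card]
      exact hn)
  rw [is_two_pretransitive_iff] at h2t
  have hcount2 : 2 * S.card = (n * n - n) * T.card := by
    have key := Finset.sum_card_bipartiteAbove_eq_sum_card_bipartiteBelow (s := S) (t := P) r
    have hl : ∀ g ∈ S, (P.bipartiteAbove r g).card = 2 := by
      intro g hg
      have : P.bipartiteAbove r g = (Fx g).offDiag := by
        ext q
        simp only [Finset.bipartiteAbove, Finset.mem_filter, Finset.mem_offDiag, Finset.mem_univ,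
          true_and, P, r, Fx]
        tauto
      rw [this, Finset.offDiag_card, hFx g hg]
    have hr : ∀ q ∈ P, (S.bipartiteBelow r q).card = T.card := by
      rintro ⟨c, d⟩ hq
      have hcd : c ≠ d := by
        simpa [P] using hq
      obtain ⟨k, hka, hkb⟩ := h2t hab hcd
      symm
      refine Finset.card_nbij' (fun g => k * g * k⁻¹) (fun g => k⁻¹ * g * k) ?_ ?_ ?_ ?_
      · intro g hg
        simp only [Finset.coe_filter, Set.mem_ofPred_eq, T, hS] at hg
        obtain ⟨⟨hg3, hg1⟩, hga, hgb⟩ := hg
        simp only [Finset.bipartiteBelow, Finset.coe_filter, Set.mem_ofPred_eq, hS, r]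
        refine ⟨⟨?_, ?_⟩, ?_, ?_⟩
        · rw [conj_pow, hg3, mul_one, mul_inv_cancel]
        · intro h
          apply hg1
          have := congrArg (fun x => k⁻¹ * x * k) h
          simpa [mul_assoc] using this
        · rw [mul_smul, mul_smul, ← hka, inv_smul_smul, hga]
        · rw [mul_smul, mul_smul, ← hkb, inv_smul_smul, hgb]
      · intro g hg
        simp only [Finset.bipartiteBelow, Finset.coe_filter, Set.mem_ofPred_eq, hS, r] at hg
        obtain ⟨⟨hg3, hg1⟩, hgc, hgd⟩ := hg
        simp only [Finset.coe_filter, Set.mem_ofPred_eq, T, hS]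
        refine ⟨⟨?_, ?_⟩, ?_, ?_⟩
        · have := conj_pow (a := k⁻¹) (b := g) (i := 3)
          rw [inv_inv] at this
          rw [this, hg3, mul_one, inv_mul_cancel]
        · intro h
          apply hg1
          have := congrArg (fun x => k * x * k⁻¹) h
          simpa [mul_assoc] using this
        · rw [mul_smul, mul_smul, hka, hgc, ← hka, inv_smul_smul]
        · rw [mul_smul, mul_smul, hkb, hgd, ← hkb, inv_smul_smul]
      · intro g _
        simp [mul_assoc]
      · intro g _
        simp [mul_assoc]
    rw [Finset.sum_congr rfl hl, Finset.sum_congr rfl hr, Finset.sum_const, Finset.sum_const,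
      smul_eq_mul, smul_eq_mul, hP] at key
    rw [mul_comm 2, key]
  -- conclusion
  have hT : {g : G | g ^ 3 = 1 ∧ g ≠ 1 ∧ g • a = a ∧ g • b = b} = (T : Set G) := by
    ext g
    simp only [Set.mem_ofPred_eq, Finset.coe_filter, T, hS]
    tauto
  rw [hT, Set.ncard_coe_finset]
  obtain ⟨m, hm⟩ : ∃ m, n = m + 3 := ⟨n - 3, by omega⟩
  rw [hm] at hcount1 hcount2
  have hdf : (m + 3).descFactorial 3 = (m + 3) * (m + 2) * (m + 1) := by
    simp [Nat.descFactorial]
    ring
  rw [hdf, show m + 3 - 2 = m + 1 by omega] at hcount1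
  have hS' : S.card = (m + 3) * (m + 2) := Nat.eq_of_mul_eq_mul_right (by omega) hcount1
  rw [hS'] at hcount2
  have e : (m + 3) * (m + 3) - (m + 3) = (m + 3) * (m + 2) := by
    have : (m + 3) * (m + 3) = (m + 3) * (m + 2) + (m + 3) := by ring
    omega
  rw [e, mul_comm 2] at hcount2
  exact (Nat.eq_of_mul_eq_mul_left (by positivity) hcount2).symm

end Count

end Cfsg.Agent.Helper4
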