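import Mathlib
import Cfsg.Agent.Helper18.PGL2Mers2
import Cfsg.Agent.Helper4.Sharp3
import Cfsg.Agent.Helper4.Sharp2NF
import Cfsg.Agent.Helper4.NearField
import Cfsg.Agent.Helper4.Zassenhaus

/-!
# Sharply triply transitive groups of odd degree
-/

set_option autoImplicit false
set_option linter.unusedSectionVars false
set_option linter.style.haveILetI false

namespace Cfsg.Agent.Helper4.Sharp3Even

open scoped LinearAlgebra.Projectivization MatrixGroups
open Matrix Equiv

section Generic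

variable {F : Type*} [Field F]

theorem v10_ne : (![1, 0] : Fin 2 → F) ≠ 0 := fun h => one_ne_zero (congrFun h 0)

theorem vx1_ne (x : F) : (![x, 1] : Fin 2 → F) ≠ 0 := fun h => one_ne_zero (congrFun h 1)

/-- The point of the projective line attached to an element of `F ∪ {∞}`. -/
noncomputable def pt : Option F → ℙ F (Fin 2 → F)
  | none => Projectivization.mk F ![1, 0] v10_ne
  | some x => Projectivization.mk F ![x, 1] (vx1_ne x)

theorem pt_injective : Function.Injective (pt (F := F)) := by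
  intro u v huv
  cases u with
  | none =>
    cases v with
    | none => rfl
    | some y =>
      exfalso
      rw [pt, pt, Projectivization.mk_eq_mk_iff] at huv
      obtain ⟨a, ha⟩ := huv
      have h1 := congrFun ha 1
      simp [Units.smul_def] at h1
  | some x =>
    cases v with
    | none =>
      exfalso
      rw [pt, pt, Projectivization.mk_eq_mk_iff] at huv
      obtain ⟨a, ha⟩ := huv
      have h1 := congrFun ha 1
      simp at h1
    | some y =>
      rw [pt, pt, Projectivization.mk_eq_mk_iff] at huv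
      obtain ⟨a, ha⟩ := huv
      have h1 := congrFun ha 1
      have h0 := congrFun ha 0
      simp [Units.smul_def] at h0 h1
      subst h1
      simp at h0
      rw [h0]

theorem pt_bijective [Finite F] : Function.Bijective (pt (F := F)) := by
  have := Fintype.ofFinite F
  refine pt_injective.bijective_of_nat_card_le ?_
  rw [Projectivization.card_of_finrank_two F (Fin 2 → F) (by simp), Nat.card_eq_fintype_card,
    Nat.card_eq_fintype_card, Fintype.card_option]

end Generic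

section Recognise

variable {F : Type*} [Field F] [Fintype F] [DecidableEq F] {α : Type*} [Fintype α]
  [DecidableEq α]

/-- The affine matrix. -/
noncomputable def affM (a b : F) (ha : a ≠ 0) : GL (Fin 2) F :=
  GeneralLinearGroup.mkOfDetNeZero !![a, b; 0, 1] (by simp [det_fin_two, ha])

/-- The swap matrix. -/
noncomputable def swM : GL (Fin 2) F :=
  GeneralLinearGroup.mkOfDetNeZero !![0, 1; 1, 0] (by simp [det_fin_two])

theorem affM_smul_x (a b x : F) (ha : a ≠ 0) :
    affM a b ha • (![x, 1] : Fin 2 → F) = ![a * x + b, 1] := by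
  show (!![a, b; 0, 1] : Matrix (Fin 2) (Fin 2) F) *ᵥ ![x, 1] = _
  ext i; fin_cases i <;> simp [Matrix.mulVec, dotProduct, Fin.sum_univ_two]

theorem affM_smul_inf (a b : F) (ha : a ≠ 0) :
    affM a b ha • (![1, 0] : Fin 2 → F) = ![a, 0] := by
  show (!![a, b; 0, 1] : Matrix (Fin 2) (Fin 2) F) *ᵥ ![1, 0] = _
  ext i; fin_cases i <;> simp [Matrix.mulVec, dotProduct, Fin.sum_univ_two]

theorem swM_smul (u v : F) : (swM : GL (Fin 2) F) • (![u, v] : Fin 2 → F) = ![v, u] := by
  show (!![0, 1; 1, 0] : Matrix (Fin 2) (Fin 2) F) *ᵥ ![u, v] = _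
  ext i; fin_cases i <;> simp [Matrix.mulVec, dotProduct, Fin.sum_univ_two]

theorem affM_pt_some (a b x : F) (ha : a ≠ 0) :
    ProjGenLinGroup.mk (affM a b ha) • pt (some x) = pt (some (a * x + b)) := by
  rw [pt, Projectivization.PGL.mk_smul_mk]
  simp only [affM_smul_x]
  rfl

theorem affM_pt_none (a b : F) (ha : a ≠ 0) :
    ProjGenLinGroup.mk (affM a b ha) • pt (none : Option F) = pt none := by
  rw [pt, Projectivization.PGL.mk_smul_mk]
  simp only [affM_smul_inf]
  rw [Projectivization.mk_eq_mk_iff]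
  refine ⟨Units.mk0 a ha, ?_⟩
  ext i; fin_cases i <;> simp [Units.smul_def]

theorem swM_pt_none : ProjGenLinGroup.mk (swM : GL (Fin 2) F) • pt (none : Option F) = pt (some 0) := by
  rw [pt, Projectivization.PGL.mk_smul_mk]
  simp only [swM_smul]
  rfl

theorem swM_pt_zero : ProjGenLinGroup.mk (swM : GL (Fin 2) F) • pt (some (0 : F)) = pt none := by
  simp only [pt, Projectivization.PGL.mk_smul_mk, swM_smul]

theorem swM_pt_some (x : F) (hx : x ≠ 0) :
    ProjGenLinGroup.mk (swM : GL (Fin 2) F) • pt (some x) = pt (some x⁻¹) := by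
  rw [pt, Projectivization.PGL.mk_smul_mk]
  simp only [swM_smul]
  rw [pt, Projectivization.mk_eq_mk_iff]
  refine ⟨Units.mk0 x hx, ?_⟩
  ext i; fin_cases i <;> simp [Units.smul_def, hx]

end Recognise

section Recognise2

variable {F : Type*} [Field F] [Fintype F] [DecidableEq F] {α : Type*} [Fintype α]
  [DecidableEq α]

/-- Recognition of `PGL(2, F)` from its action on the projective line. -/
theorem nonempty_mulEquiv_pgl (G : Subgroup (Perm α)) (p : α) (j : F → α)
    (hj : Function.Injective j) (hjp : ∀ x, j x ≠ p) (hcov : ∀ y, y ≠ p → ∃ x, j x = y)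
    (hB : ∀ g ∈ G, g p = p → ∃ a b : F, a ≠ 0 ∧ ∀ x, g (j x) = j (a * x + b))
    (s : Perm α) (hsG : s ∈ G) (hsp : s p = j 0) (hs0 : s (j 0) = p)
    (hsx : ∀ x : F, x ≠ 0 → s (j x) = j x⁻¹)
    (htrans : ∀ y, y ≠ p → ∃ g ∈ G, g p = p ∧ g (j 0) = y)
    (hcard : Nat.card G = Fintype.card F * (Fintype.card F ^ 2 - 1)) :
    Nonempty (G ≃* Matrix.ProjGenLinGroup (Fin 2) F) := by
  classical
  -- the bijection `Option F ≃ α`
  let η₀ : Option F → α := fun o => o.elim p j
  have hη : Function.Bijective η₀ := by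
    constructor
    · intro u v huv
      cases u with
      | none =>
        cases v with
        | none => rfl
        | some y => exact absurd huv.symm (hjp y)
      | some x =>
        cases v with
        | none => exact absurd huv (hjp x)
        | some y => exact congrArg some (hj huv)
    · intro y
      by_cases hy : y = p
      · exact ⟨none, hy.symm⟩
      · obtain ⟨x, hx⟩ := hcov y hy
        exact ⟨some x, hx⟩
  let η : Option F ≃ α := Equiv.ofBijective η₀ hη
  let ζ : Option F ≃ ℙ F (Fin 2 → F) := Equiv.ofBijective pt pt_bijective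
  let θ : α ≃ ℙ F (Fin 2 → F) := η.symm.trans ζ
  have hθp : θ p = pt none := by
    have : η.symm p = none := by
      rw [Equiv.symm_apply_eq]; rfl
    show ζ (η.symm p) = _
    rw [this]; rfl
  have hθj : ∀ x, θ (j x) = pt (some x) := by
    intro x
    have : η.symm (j x) = some x := by
      rw [Equiv.symm_apply_eq]; rfl
    show ζ (η.symm (j x)) = _
    rw [this]; rfl
  let Φ : Matrix.ProjGenLinGroup (Fin 2) F →* Perm α :=
    (θ.symm.permCongrHom).toMonoidHom.comp
      (MulAction.toPermHom (Matrix.ProjGenLinGroup (Fin 2) F) (ℙ F (Fin 2 → F)))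
  have hΦ : ∀ (M : Matrix.ProjGenLinGroup (Fin 2) F) (y : α), θ (Φ M y) = M • θ y := by
    intro M y
    show θ (θ.symm.permCongr (MulAction.toPerm M) y) = _
    rw [Equiv.permCongr_apply, Equiv.symm_symm, Equiv.apply_symm_apply]
    rfl
  have key : ∀ (g : Perm α) (M : Matrix.ProjGenLinGroup (Fin 2) F),
      (∀ y, θ (g y) = M • θ y) → g ∈ Φ.range := by
    intro g M h
    refine ⟨M, ?_⟩
    ext y
    apply θ.injective
    rw [hΦ, h]
  -- every point is `p` or `j x`
  have hpts : ∀ y, y = p ∨ ∃ x, y = j x := by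
    intro y
    by_cases hy : y = p
    · exact Or.inl hy
    · obtain ⟨x, hx⟩ := hcov y hy
      exact Or.inr ⟨x, hx.symm⟩
  -- the point stabiliser lies in the range
  have hBrange : ∀ g ∈ G, g p = p → g ∈ Φ.range := by
    intro g hg hgp
    obtain ⟨a, b, ha, hab⟩ := hB g hg hgp
    refine key g (ProjGenLinGroup.mk (affM a b ha)) ?_
    intro y
    rcases hpts y with rfl | ⟨x, rfl⟩
    · rw [hgp, hθp, affM_pt_none]
    · rw [hab, hθj, hθj, affM_pt_some]
  have hsrange : s ∈ Φ.range := by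
    refine key s (ProjGenLinGroup.mk swM) ?_
    intro y
    rcases hpts y with rfl | ⟨x, rfl⟩
    · rw [hsp, hθp, hθj, swM_pt_none]
    · by_cases hx : x = 0
      · subst hx
        rw [hs0, hθp, hθj, swM_pt_zero]
      · rw [hsx x hx, hθj, hθj, swM_pt_some x hx]
  have hGrange : G ≤ Φ.range := by
    intro g hg
    by_cases hgp : g p = p
    · exact hBrange g hg hgp
    · obtain ⟨b₁, hb₁G, hb₁p, hb₁0⟩ := htrans (g p) hgp
      have hb₂ : s⁻¹ * b₁⁻¹ * g ∈ G := G.mul_mem (G.mul_mem (G.inv_mem hsG) (G.inv_mem hb₁G)) hg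
      have hb₂p : (s⁻¹ * b₁⁻¹ * g) p = p := by
        rw [Perm.mul_apply, Perm.mul_apply, Perm.inv_eq_iff_eq, Perm.inv_eq_iff_eq, hsp, hb₁0]
      have e : g = b₁ * s * (s⁻¹ * b₁⁻¹ * g) := by group
      rw [e]
      exact Φ.range.mul_mem (Φ.range.mul_mem (hBrange b₁ hb₁G hb₁p) hsrange)
        (hBrange _ hb₂ hb₂p)
  -- counting
  have : Finite (Matrix.ProjGenLinGroup (Fin 2) F) :=
    Finite.of_surjective ProjGenLinGroup.mk ProjGenLinGroup.mk_surjective
  have hcardP : Nat.card (Matrix.ProjGenLinGroup (Fin 2) F) =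
      Fintype.card F * (Fintype.card F ^ 2 - 1) := Cfsg.Agent.Helper18.PGL2Mers.card_pgl2
  have hle : Nat.card Φ.range ≤ Nat.card (Matrix.ProjGenLinGroup (Fin 2) F) :=
    Nat.card_le_card_of_surjective Φ.rangeRestrict Φ.rangeRestrict_surjective
  have hGeq : G = Φ.range :=
    Subgroup.eq_of_le_of_card_ge hGrange (by rw [hcard, ← hcardP]; exact hle)
  have hbij : Function.Bijective Φ.rangeRestrict := by
    refine (Function.Surjective.bijective_of_nat_card_le Φ.rangeRestrict_surjective ?_)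
    rw [← hGeq, hcard, hcardP]
  exact ⟨(MulEquiv.subgroupCongr hGeq).trans (MulEquiv.ofBijective Φ.rangeRestrict hbij).symm⟩

end Recognise2

section Setup

open MulAction

variable {α : Type*} [Fintype α] [DecidableEq α] (G : Subgroup (Perm α))

theorem inj3 {a b c : α} (hab : a ≠ b) (hac : a ≠ c) (hbc : b ≠ c) :
    Function.Injective ![a, b, c] := by
  intro i j hij
  fin_cases i <;> fin_cases j <;> first | rfl | (exfalso; simp at hij; first | exact hab hij | exact hac hij | exact hbc hij | exact hab hij.symm | exact hac hij.symm | exact hbc hij.symm)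

theorem exists_of_three (h3 : IsMultiplyPretransitive G α 3) {a b c a' b' c' : α}
    (hab : a ≠ b) (hac : a ≠ c) (hbc : b ≠ c) (hab' : a' ≠ b') (hac' : a' ≠ c')
    (hbc' : b' ≠ c') : ∃ g ∈ G, g a = a' ∧ g b = b' ∧ g c = c' := by
  let e : Fin 3 ↪ α := ⟨![a, b, c], inj3 hab hac hbc⟩
  let e' : Fin 3 ↪ α := ⟨![a', b', c'], inj3 hab' hac' hbc'⟩
  obtain ⟨g, hg⟩ := h3.exists_smul_eq e e'
  refine ⟨g.1, g.2, ?_, ?_, ?_⟩
  · exact DFunLike.congr_fun hg 0
  · exact DFunLike.congr_fun hg 1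
  · exact DFunLike.congr_fun hg 2

theorem eq_one_of_three (hsharp : ∀ x : Fin 3 ↪ α, stabilizer G x = ⊥) {g : Perm α} (hg : g ∈ G)
    {a b c : α} (hab : a ≠ b) (hac : a ≠ c) (hbc : b ≠ c) (ha : g a = a) (hb : g b = b)
    (hc : g c = c) : g = 1 := by
  have := Cfsg.Agent.Helper4.eq_one_of_fix_three hsharp (⟨g, hg⟩ : G) hab hac hbc ha hb hc
  exact congrArg Subtype.val this

theorem eq_of_three (hsharp : ∀ x : Fin 3 ↪ α, stabilizer G x = ⊥) {g h : Perm α} (hg : g ∈ G)
    (hh : h ∈ G) {a b c : α} (hab : a ≠ b) (hac : a ≠ c) (hbc : b ≠ c) (ha : g a = h a)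
    (hb : g b = h b) (hc : g c = h c) : g = h := by
  have : h⁻¹ * g = 1 := by
    refine eq_one_of_three G hsharp (G.mul_mem (G.inv_mem hh) hg) hab hac hbc ?_ ?_ ?_ <;>
      rw [Perm.mul_apply, Perm.inv_eq_iff_eq] <;> assumption
  rwa [inv_mul_eq_one, eq_comm] at this

/-- The group induced by the stabiliser of `p` on the remaining points. -/
def Hres (p : α) : Subgroup (Perm {x : α // x ≠ p}) where
  carrier := {σ | ∃ g ∈ G, g p = p ∧ ∀ x : {x : α // x ≠ p}, (σ x : α) = g x}
  one_mem' := ⟨1, G.one_mem, rfl, fun x => rfl⟩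
  mul_mem' := by
    rintro σ τ ⟨g, hg, hgp, hσ⟩ ⟨h, hh, hhp, hτ⟩
    refine ⟨g * h, G.mul_mem hg hh, by rw [Perm.mul_apply, hhp, hgp], fun x => ?_⟩
    rw [Perm.mul_apply, hσ, hτ, Perm.mul_apply]
  inv_mem' := by
    rintro σ ⟨g, hg, hgp, hσ⟩
    refine ⟨g⁻¹, G.inv_mem hg, by rw [Perm.inv_eq_iff_eq, hgp], fun x => ?_⟩
    apply g.injective
    rw [← hσ, Perm.inv_def, Perm.inv_def, Equiv.apply_symm_apply, Equiv.apply_symm_apply]

/-- Restriction of an element fixing `p`. -/
def resP (p : α) (g : Perm α) (hgp : g p = p) : Perm {x : α // x ≠ p} :=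
  g.subtypePerm (fun x => by
    constructor
    · intro h hx; exact h (by rw [hx, hgp])
    · intro h hx; exact h (g.injective (hx.trans hgp.symm)))

theorem resP_apply (p : α) (g : Perm α) (hgp : g p = p) (x : {x : α // x ≠ p}) :
    ((resP p g hgp x : {x : α // x ≠ p}) : α) = g x := rfl

theorem resP_mem (p : α) {g : Perm α} (hg : g ∈ G) (hgp : g p = p) : resP p g hgp ∈ Hres G p :=
  ⟨g, hg, hgp, fun _ => rfl⟩

theorem Hres_two (h3 : IsMultiplyPretransitive G α 3) (p : α) :
    IsMultiplyPretransitive (Hres G p) {x : α // x ≠ p} 2 := by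
  refine ⟨fun x y => ?_⟩
  have hx01 : (x 0 : α) ≠ x 1 := fun h => by
    have := x.injective (Subtype.ext h); simp at this
  have hy01 : (y 0 : α) ≠ y 1 := fun h => by
    have := y.injective (Subtype.ext h); simp at this
  obtain ⟨g, hg, hgp, hg0, hg1⟩ := exists_of_three G h3 (Ne.symm (x 0).2) (Ne.symm (x 1).2) hx01
    (Ne.symm (y 0).2) (Ne.symm (y 1).2) hy01
  refine ⟨⟨resP p g hgp, resP_mem G p hg hgp⟩, ?_⟩
  ext i
  fin_cases i
  · exact hg0
  · exact hg1

theorem Hres_sharp (hsharp : ∀ x : Fin 3 ↪ α, stabilizer G x = ⊥) (p : α) (σ : Hres G p)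
    (x y : {x : α // x ≠ p}) (hxy : x ≠ y) (hx : σ • x = x) (hy : σ • y = y) : σ = 1 := by
  obtain ⟨g, hg, hgp, hσ⟩ := σ.2
  have hgx : g x = x := by rw [← hσ]; exact congrArg Subtype.val hx
  have hgy : g y = y := by rw [← hσ]; exact congrArg Subtype.val hy
  have h1 : g = 1 := eq_one_of_three G hsharp hg (Ne.symm x.2) (Ne.symm y.2)
    (fun h => hxy (Subtype.ext h)) hgp hgx hgy
  apply Subtype.ext
  ext z
  rw [hσ, h1]
  rfl

end Setup

section FieldCopy

open Cfsg

/-- A copy of `Fin n` without algebraic instances. -/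
structure FCopy (n : ℕ) : Type where
  /-- the underlying element -/
  val : Fin n

/-- `FCopy n` is equivalent to `Fin n`. -/
def FCopy.equivFin (n : ℕ) : FCopy n ≃ Fin n where
  toFun x := x.val
  invFun x := ⟨x⟩
  left_inv _ := rfl
  right_inv _ := rfl

instance (n : ℕ) : Fintype (FCopy n) := Fintype.ofEquiv (Fin n) (FCopy.equivFin n).symm

theorem FCopy.card (n : ℕ) : Fintype.card (FCopy n) = n := by
  rw [Fintype.card_congr (FCopy.equivFin n), Fintype.card_fin]

/-- A finite near-field with commutative multiplication is a field; we realise it in `Type`. -/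
theorem exists_field_copy {β : Type*} [NearField β] [Fintype β] (hcomm : ∀ a b : β, a * b = b * a)
    {n : ℕ} (hn : Fintype.card β = n) :
    ∃ (F : Type) (_ : Field F) (_ : Fintype F) (e : F ≃ β), Fintype.card F = n ∧
      (∀ u v, e (u + v) = e u + e v) ∧ (∀ u v, e (u * v) = e u * e v) ∧ e 0 = 0 ∧ e 1 = 1 := by
  classical
  obtain ⟨-, -, -, -, -, haddc, -⟩ := Cfsg.Agent.Helper4.nf_finite_structure (F := β)
  let invf : β → β := fun x =>
    if h : x = 0 then 0 else Classical.choose (NearField.exists_inv x h)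
  letI : Inv β := ⟨invf⟩
  let fld : Field β := Field.ofMinimalAxioms β add_assoc zero_add neg_add_cancel mul_assoc hcomm
    one_mul
    (fun a ha => by
      show a * invf a = 1
      simp only [invf, dif_neg ha]
      exact (Classical.choose_spec (NearField.exists_inv a ha)).1)
    (by show invf 0 = 0; simp only [invf, dif_pos])
    (fun a b c => by
      rw [hcomm a (b + c), NearField.right_distrib, hcomm b a, hcomm c a])
    ⟨0, 1, NearField.zero_ne_one⟩
  let e₀ : FCopy n ≃ β := (FCopy.equivFin n).trans (Fintype.equivFinOfCardEq hn).symm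
  refine ⟨FCopy n, @Equiv.field _ _ e₀ fld, inferInstance, e₀, FCopy.card n, ?_, ?_, ?_, ?_⟩
  · intro u v
    show e₀ (e₀.symm (e₀ u + e₀ v)) = _
    rw [Equiv.apply_symm_apply]
  · intro u v
    show e₀ (e₀.symm (e₀ u * e₀ v)) = _
    rw [Equiv.apply_symm_apply]
  · show e₀ (e₀.symm 0) = _
    rw [Equiv.apply_symm_apply]
  · show e₀ (e₀.symm 1) = _
    rw [Equiv.apply_symm_apply]

end FieldCopy

section MainNF

open MulAction Cfsg Cfsg.Agent.Helper4

variable {α : Type*} [Fintype α] [DecidableEq α] (G : Subgroup (Perm α))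

theorem card_of_sharp3 (h3 : IsMultiplyPretransitive G α 3)
    (hsharp : ∀ x : Fin 3 ↪ α, stabilizer G x = ⊥) (x0 : Fin 3 ↪ α) :
    Nat.card G = (Fintype.card α).descFactorial 3 := by
  letI inst : MulAction G (Fin 3 ↪ α) := inferInstance
  haveI : @IsPretransitive G (Fin 3 ↪ α) inst.toSMul := ⟨fun x y => by
    obtain ⟨g, hg⟩ := h3.exists_smul_eq x y
    refine ⟨g, ?_⟩
    rw [← hg]
    ext i
    rfl⟩
  have h := index_stabilizer_of_transitive G x0
  rw [hsharp x0, Subgroup.index_bot, Nat.card_eq_fintype_card (α := Fin 3 ↪ α),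
    Fintype.card_embedding_eq, Fintype.card_fin] at h
  exact h

theorem main_of_nearfield {f : ℕ} (hf : 1 ≤ f) (hα : Fintype.card α = 2 ^ f + 1)
    (h3 : IsMultiplyPretransitive G α 3) (hsharp : ∀ x : Fin 3 ↪ α, stabilizer G x = ⊥)
    (p : α) [NearField {x : α // x ≠ p}]
    (hH : ∀ σ : Perm {x : α // x ≠ p}, σ ∈ Hres G p ↔
      ∃ a b : {x : α // x ≠ p}, a ≠ 0 ∧ ∀ x, σ x = x * a + b) :
    ∃ (F : Type) (_ : Field F) (_ : Fintype F), Fintype.card F = 2 ^ f ∧
      Nonempty (G ≃* Matrix.ProjGenLinGroup (Fin 2) F) := by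
  classical
  have hcardβ : Fintype.card {x : α // x ≠ p} = 2 ^ f := by
    have h1 := Fintype.card_subtype_compl (fun x : α => x = p)
    rw [Fintype.card_subtype_eq, hα] at h1
    simpa using h1
  have h01 : (0 : {x : α // x ≠ p}) ≠ 1 := NearField.zero_ne_one
  have h01' : ((0 : {x : α // x ≠ p}) : α) ≠ ((1 : {x : α // x ≠ p}) : α) :=
    fun h => h01 (Subtype.ext h)
  -- stabiliser elements are affine
  have hBβ : ∀ g ∈ G, g p = p → ∃ a b : {x : α // x ≠ p}, a ≠ 0 ∧
      ∀ x : {x : α // x ≠ p}, g x = ((x * a + b : {x : α // x ≠ p}) : α) := by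
    intro g hg hgp
    obtain ⟨a, b, ha, hab⟩ := (hH _).mp (resP_mem G p hg hgp)
    exact ⟨a, b, ha, fun x => by rw [← hab x]; rfl⟩
  -- affine maps come from the stabiliser
  have hAff : ∀ a b : {x : α // x ≠ p}, a ≠ 0 → ∃ g ∈ G, g p = p ∧
      ∀ x : {x : α // x ≠ p}, g x = ((x * a + b : {x : α // x ≠ p}) : α) := by
    intro a b ha
    obtain ⟨g, hg, hgp, hσ⟩ := (hH (nfAffineMap a b ha)).mpr ⟨a, b, ha, fun _ => rfl⟩
    exact ⟨g, hg, hgp, fun x => by rw [← hσ x]; rfl⟩
  -- the element `s`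
  obtain ⟨s, hsG, hsp, hs0, hs1⟩ := exists_of_three G h3
    (a := p) (b := ((0 : {x : α // x ≠ p}) : α)) (c := ((1 : {x : α // x ≠ p}) : α))
    (a' := ((0 : {x : α // x ≠ p}) : α)) (b' := p) (c' := ((1 : {x : α // x ≠ p}) : α))
    (Ne.symm (0 : {x : α // x ≠ p}).2) (Ne.symm (1 : {x : α // x ≠ p}).2) h01'
    (0 : {x : α // x ≠ p}).2 h01' (Ne.symm (1 : {x : α // x ≠ p}).2)
  have hss : s * s = 1 := by
    refine eq_one_of_three G hsharp (G.mul_mem hsG hsG)
      (Ne.symm (0 : {x : α // x ≠ p}).2) (Ne.symm (1 : {x : α // x ≠ p}).2) h01' ?_ ?_ ?_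
    · rw [Perm.mul_apply, hsp, hs0]
    · rw [Perm.mul_apply, hs0, hsp]
    · rw [Perm.mul_apply, hs1, hs1]
  have hsinv : s⁻¹ = s := inv_eq_of_mul_eq_one_left hss
  have hsne : s ≠ 1 := by
    intro h
    rw [h] at hsp
    exact (0 : {x : α // x ≠ p}).2 hsp.symm
  -- `s` fixes only `1`
  have hsfix : ∀ y : α, s y = y → y = ((1 : {x : α // x ≠ p}) : α) := by
    intro y hy
    have hs2 : orderOf (⟨s, hsG⟩ : G) = 2 := by
      apply orderOf_eq_prime
      · rw [pow_two]; exact Subtype.ext hss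
      · intro h; exact hsne (congrArg Subtype.val h)
    have hmod := card_modEq_card_fixedBy_of_orderOf_two (Ω := α) (⟨s, hsG⟩ : G) hs2
    have hle := card_fixedBy_le_two_of_sharp hsharp (⟨s, hsG⟩ : G)
      (fun h => hsne (congrArg Subtype.val h))
    rw [Nat.card_eq_fintype_card, hα] at hmod
    have hodd : Nat.card (fixedBy α (⟨s, hsG⟩ : G)) % 2 = 1 := by
      have h2 : (2 ^ f + 1) % 2 = 1 := by
        obtain ⟨k, rfl⟩ : ∃ k, f = k + 1 := ⟨f - 1, by omega⟩
        rw [pow_succ]; omega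
      have h3' : (2 ^ f + 1) % 2 = Nat.card (fixedBy α (⟨s, hsG⟩ : G)) % 2 := hmod
      rw [← h3', h2]
    have hone : Nat.card (fixedBy α (⟨s, hsG⟩ : G)) ≤ 1 := by omega
    have hsub : Subsingleton (fixedBy α (⟨s, hsG⟩ : G)) :=
      (Finite.card_le_one_iff_subsingleton).mp hone
    have e1 : (⟨y, hy⟩ : fixedBy α (⟨s, hsG⟩ : G)) =
        ⟨((1 : {x : α // x ≠ p}) : α), hs1⟩ := Subsingleton.elim _ _
    exact congrArg Subtype.val e1
  -- the two-point stabiliser
  let H0 : Subgroup (Perm α) := G ⊓ stabilizer (Perm α) p ⊓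
    stabilizer (Perm α) ((0 : {x : α // x ≠ p}) : α)
  have hH0 : ∀ h : Perm α, h ∈ H0 ↔ h ∈ G ∧ h p = p ∧
      h ((0 : {x : α // x ≠ p}) : α) = ((0 : {x : α // x ≠ p}) : α) := by
    intro h
    simp only [H0, Subgroup.mem_inf, mem_stabilizer_iff, Perm.smul_def, and_assoc]
  have hconj_mem : ∀ h : Perm α, h ∈ H0 → s * h * s⁻¹ ∈ H0 := by
    intro h hh
    obtain ⟨hG, hp, h0⟩ := (hH0 h).mp hh
    refine (hH0 _).mpr ⟨G.mul_mem (G.mul_mem hsG hG) (G.inv_mem hsG), ?_, ?_⟩
    · rw [hsinv, Perm.mul_apply, Perm.mul_apply, hsp, h0, hs0]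
    · rw [hsinv, Perm.mul_apply, Perm.mul_apply, hs0, hp, hsp]
  let φ : H0 →* H0 :=
    { toFun := fun h => ⟨s * h.1 * s⁻¹, hconj_mem h.1 h.2⟩
      map_one' := by
        apply Subtype.ext
        show s * (1 : Perm α) * s⁻¹ = 1
        rw [mul_one, mul_inv_cancel]
      map_mul' := fun a b => by
        apply Subtype.ext
        show s * (a.1 * b.1) * s⁻¹ = (s * a.1 * s⁻¹) * (s * b.1 * s⁻¹)
        group }
  have hφ : ∀ h : H0, (φ h).1 = s * h.1 * s⁻¹ := fun _ => rfl
  have hFPF : MonoidHom.FixedPointFree φ := by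
    intro h hh
    have hh' : s * h.1 * s⁻¹ = h.1 := congrArg Subtype.val hh
    obtain ⟨hG, hp, h0⟩ := (hH0 h.1).mp h.2
    have hc : s * h.1 = h.1 * s := mul_inv_eq_iff_eq_mul.mp hh'
    have h1 : s (h.1 ((1 : {x : α // x ≠ p}) : α)) = h.1 ((1 : {x : α // x ≠ p}) : α) := by
      rw [← Perm.mul_apply, hc, Perm.mul_apply, hs1]
    have h1' := hsfix _ h1
    apply Subtype.ext
    exact eq_one_of_three G hsharp hG
      (Ne.symm (0 : {x : α // x ≠ p}).2) (Ne.symm (1 : {x : α // x ≠ p}).2) h01' hp h0 h1'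
  have hInv : Function.Involutive φ := by
    intro h
    apply Subtype.ext
    show s * (s * h.1 * s⁻¹) * s⁻¹ = h.1
    have e1 : s * (s * h.1 * s⁻¹) * s⁻¹ = (s * s) * h.1 * (s * s)⁻¹ := by group
    rw [e1, hss, one_mul, inv_one, mul_one]
  have hφinv : ∀ h : H0, s * h.1 * s⁻¹ = h.1⁻¹ := by
    intro h
    have h1 := congrFun (hFPF.coe_eq_inv_of_involutive hInv) h
    exact congrArg Subtype.val h1
  have hH0comm : ∀ g h : H0, g * h = h * g :=
    fun g h => (hFPF.commute_all_of_involutive hInv g h).eq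
  -- the multiplication of the near-field is commutative
  have hcomm : ∀ a b : {x : α // x ≠ p}, a * b = b * a := by
    intro a b
    by_cases ha : a = 0
    · rw [ha, nf_zero_mul, NearField.mul_zero]
    by_cases hb : b = 0
    · rw [hb, nf_zero_mul, NearField.mul_zero]
    obtain ⟨ga, hgaG, hgap, hga⟩ := hAff a 0 ha
    obtain ⟨gb, hgbG, hgbp, hgb⟩ := hAff b 0 hb
    have hga0 : ga ((0 : {x : α // x ≠ p}) : α) = ((0 : {x : α // x ≠ p}) : α) := by
      rw [hga 0, nf_zero_mul, add_zero]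
    have hgb0 : gb ((0 : {x : α // x ≠ p}) : α) = ((0 : {x : α // x ≠ p}) : α) := by
      rw [hgb 0, nf_zero_mul, add_zero]
    have hga' : ga ∈ H0 := (hH0 _).mpr ⟨hgaG, hgap, hga0⟩
    have hgb' : gb ∈ H0 := (hH0 _).mpr ⟨hgbG, hgbp, hgb0⟩
    have hc := hH0comm ⟨ga, hga'⟩ ⟨gb, hgb'⟩
    have hc' : ga * gb = gb * ga := congrArg Subtype.val hc
    have h1 : ga (gb ((1 : {x : α // x ≠ p}) : α)) = gb (ga ((1 : {x : α // x ≠ p}) : α)) := by
      rw [← Perm.mul_apply, hc', Perm.mul_apply]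
    rw [hgb 1, hga 1, one_mul, one_mul, add_zero, add_zero, hga b, hgb a, add_zero,
      add_zero] at h1
    exact (Subtype.ext h1).symm
  -- `s` is inversion
  have hsβ : ∀ x y : {x : α // x ≠ p}, x * y = 1 → s (x : α) = (y : α) := by
    intro x y hxy
    have hx : x ≠ 0 := by
      intro h
      rw [h, nf_zero_mul] at hxy
      exact h01 hxy
    obtain ⟨g, hgG, hgp, hg⟩ := hAff x 0 hx
    have hg0 : g ((0 : {x : α // x ≠ p}) : α) = ((0 : {x : α // x ≠ p}) : α) := by
      rw [hg 0, nf_zero_mul, add_zero]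
    have hgH : g ∈ H0 := (hH0 _).mpr ⟨hgG, hgp, hg0⟩
    have h1 : s * g * s⁻¹ = g⁻¹ := hφinv ⟨g, hgH⟩
    have h2 : s (g (s⁻¹ ((1 : {x : α // x ≠ p}) : α))) = g⁻¹ ((1 : {x : α // x ≠ p}) : α) := by
      rw [← h1, Perm.mul_apply, Perm.mul_apply]
    rw [hsinv, hs1, hg 1, one_mul, add_zero] at h2
    rw [h2, Perm.inv_eq_iff_eq, hg y, hcomm y x, hxy, add_zero]
  -- the field
  obtain ⟨F, fld, ft, e, hcF, hadd, hmul, he0, he1⟩ := exists_field_copy hcomm hcardβ
  refine ⟨F, fld, ft, hcF, ?_⟩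
  refine nonempty_mulEquiv_pgl G p (fun u => ((e u : {x : α // x ≠ p}) : α)) ?_ ?_ ?_ ?_ s hsG
    ?_ ?_ ?_ ?_ ?_
  · exact fun u v h => e.injective (Subtype.ext h)
  · exact fun u => (e u).2
  · intro y hy
    refine ⟨e.symm ⟨y, hy⟩, ?_⟩
    show ((e (e.symm ⟨y, hy⟩) : {x : α // x ≠ p}) : α) = y
    rw [Equiv.apply_symm_apply]
  · intro g hg hgp
    obtain ⟨a, b, ha, hab⟩ := hBβ g hg hgp
    refine ⟨e.symm a, e.symm b, ?_, ?_⟩
    · intro h
      apply ha
      rw [← Equiv.apply_symm_apply e a, h, he0]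
    · intro x
      show g ((e x : {x : α // x ≠ p}) : α) =
        ((e (e.symm a * x + e.symm b) : {x : α // x ≠ p}) : α)
      rw [hadd, hmul, Equiv.apply_symm_apply, Equiv.apply_symm_apply, hab (e x), hcomm]
  · show s p = ((e 0 : {x : α // x ≠ p}) : α)
    rw [he0]
    exact hsp
  · show s ((e 0 : {x : α // x ≠ p}) : α) = p
    rw [he0]
    exact hs0
  · intro x hx
    exact hsβ (e x) (e x⁻¹) (by rw [← hmul, mul_inv_cancel₀ hx, he1])
  · intro y hy
    obtain ⟨g, hgG, hgp, hg⟩ := hAff 1 ⟨y, hy⟩ nf_one_ne_zero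
    refine ⟨g, hgG, hgp, ?_⟩
    show g ((e 0 : {x : α // x ≠ p}) : α) = y
    rw [he0, hg 0, nf_zero_mul, zero_add]
  · let x0 : Fin 3 ↪ α := ⟨![p, ((0 : {x : α // x ≠ p}) : α), ((1 : {x : α // x ≠ p}) : α)],
      inj3 (Ne.symm (0 : {x : α // x ≠ p}).2) (Ne.symm (1 : {x : α // x ≠ p}).2) h01'⟩
    rw [hcF, card_of_sharp3 G h3 hsharp x0, hα]
    have hq : 2 ≤ 2 ^ f := by
      obtain ⟨k, rfl⟩ : ∃ k, f = k + 1 := ⟨f - 1, by omega⟩
      rw [pow_succ]
      have := Nat.one_le_two_pow (n := k)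
      omega
    generalize 2 ^ f = q at hq
    obtain ⟨k, rfl⟩ : ∃ k, q = k + 1 := ⟨q - 1, by omega⟩
    have e1 : (k + 1) ^ 2 - 1 = k * (k + 2) := by
      have : (k + 1) ^ 2 = k * (k + 2) + 1 := by ring
      omega
    rw [e1]
    simp only [Nat.descFactorial_succ, Nat.descFactorial_zero]
    have e2 : k + 1 + 1 - 2 = k := by omega
    have e3 : k + 1 + 1 - 1 = k + 1 := by omega
    rw [e2, e3]
    simp only [Nat.sub_zero]
    ring

/-- **Zassenhaus**: a sharply 3-transitive group of degree `2^f + 1` is `PGL(2, 2^f)`. -/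
theorem main {f : ℕ} (hf : 1 ≤ f) (hα : Fintype.card α = 2 ^ f + 1)
    (h3 : IsMultiplyPretransitive G α 3) (hsharp : ∀ x : Fin 3 ↪ α, stabilizer G x = ⊥) :
    ∃ (F : Type) (_ : Field F) (_ : Fintype F), Fintype.card F = 2 ^ f ∧
      Nonempty (G ≃* Matrix.ProjGenLinGroup (Fin 2) F) := by
  classical
  have hpos : 0 < Fintype.card α := by rw [hα]; exact Nat.succ_pos _
  obtain ⟨p⟩ : Nonempty α := Fintype.card_pos_iff.mp hpos
  have hcardβ : Fintype.card {x : α // x ≠ p} = 2 ^ f := by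
    have h1 := Fintype.card_subtype_compl (fun x : α => x = p)
    rw [Fintype.card_subtype_eq, hα] at h1
    simpa using h1
  have hn : 2 ≤ Fintype.card {x : α // x ≠ p} := by
    rw [hcardβ]
    obtain ⟨k, rfl⟩ : ∃ k, f = k + 1 := ⟨f - 1, by omega⟩
    rw [pow_succ]
    have := Nat.one_le_two_pow (n := k)
    omega
  obtain ⟨nf, hH⟩ := sharp2_nearfield (Hres G p) (Hres_two G h3 p) (Hres_sharp G hsharp p) hn
  exact main_of_nearfield G hf hα h3 hsharp p hH

end MainNF

end Cfsg.Agent.Helper4.Sharp3Even
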