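import Mathlib
import Cfsg.Agent.Helper18.PGL2b
import Cfsg.Agent.Helper4.Sharp3Even

/-!
# Recognition of `PSL(2, F)` from its action on the projective line
-/

set_option autoImplicit false
set_option linter.unusedSectionVars false
set_option linter.style.haveILetI false

namespace Cfsg.Agent.Helper4.RecogPSL2

open scoped LinearAlgebra.Projectivization MatrixGroups
open Matrix Equiv
open Cfsg.Agent.Helper4.Sharp3Even Cfsg.Agent.Helper18.PGL2

variable {F : Type*} [Field F] [Fintype F] [DecidableEq F] {α : Type*} [Fintype α]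
  [DecidableEq α]

/-- The matrix of `x ↦ -1/x`. -/
noncomputable def negSwM : GL (Fin 2) F :=
  GeneralLinearGroup.mkOfDetNeZero !![0, -1; 1, 0] (by simp [det_fin_two])

theorem negSwM_smul (u v : F) : (negSwM : GL (Fin 2) F) • (![u, v] : Fin 2 → F) = ![-v, u] := by
  show (!![0, -1; 1, 0] : Matrix (Fin 2) (Fin 2) F) *ᵥ ![u, v] = _
  ext i; fin_cases i <;> simp [Matrix.mulVec, dotProduct, Fin.sum_univ_two]

theorem negSwM_pt_none :
    ProjGenLinGroup.mk (negSwM : GL (Fin 2) F) • pt (none : Option F) = pt (some 0) := by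
  simp only [pt, Projectivization.PGL.mk_smul_mk, negSwM_smul]
  rw [Projectivization.mk_eq_mk_iff]
  refine ⟨1, ?_⟩
  ext i; fin_cases i <;> simp

theorem negSwM_pt_zero :
    ProjGenLinGroup.mk (negSwM : GL (Fin 2) F) • pt (some (0 : F)) = pt none := by
  simp only [pt, Projectivization.PGL.mk_smul_mk, negSwM_smul]
  rw [Projectivization.mk_eq_mk_iff]
  refine ⟨Units.mk0 (-1 : F) (by simp), ?_⟩
  ext i; fin_cases i <;> simp [Units.smul_def]

theorem negSwM_pt_some (x : F) (hx : x ≠ 0) :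
    ProjGenLinGroup.mk (negSwM : GL (Fin 2) F) • pt (some x) = pt (some (-x⁻¹)) := by
  simp only [pt, Projectivization.PGL.mk_smul_mk, negSwM_smul]
  rw [Projectivization.mk_eq_mk_iff]
  refine ⟨Units.mk0 x hx, ?_⟩
  ext i; fin_cases i <;> simp [Units.smul_def, hx]

theorem det_affM (a b : F) (ha : a ≠ 0) :
    GeneralLinearGroup.det (affM a b ha) = Units.mk0 a ha := by
  apply Units.ext
  show (!![a, b; 0, 1] : Matrix (Fin 2) (Fin 2) F).det = a
  simp [det_fin_two]

theorem det_negSwM : GeneralLinearGroup.det (negSwM : GL (Fin 2) F) = 1 := by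
  apply Units.ext
  show (!![0, -1; 1, 0] : Matrix (Fin 2) (Fin 2) F).det = 1
  simp [det_fin_two]

theorem affM_mem_LL (a b : F) (ha : a ≠ 0) (hsq : IsSquare a) :
    ProjGenLinGroup.mk (affM a b ha) ∈ LL F := by
  rw [mem_LL_iff, det_affM]
  exact (unit_sq_iff (Units.mk0 a ha)).2 hsq

theorem negSwM_mem_LL : ProjGenLinGroup.mk (negSwM : GL (Fin 2) F) ∈ LL F := by
  rw [mem_LL_iff, det_negSwM]
  exact ⟨1, by simp⟩

/-- Recognition of `PSL(2, F)` from its action on the projective line. -/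
theorem nonempty_mulEquiv_psl (G : Subgroup (Perm α)) (p : α) (j : F → α)
    (hj : Function.Injective j) (hjp : ∀ x, j x ≠ p) (hcov : ∀ y, y ≠ p → ∃ x, j x = y)
    (h2 : (2 : F) ≠ 0)
    (hB : ∀ g ∈ G, g p = p → ∃ a b : F, a ≠ 0 ∧ IsSquare a ∧ ∀ x, g (j x) = j (a * x + b))
    (s : Perm α) (hsG : s ∈ G) (hsp : s p = j 0) (hs0 : s (j 0) = p)
    (hsx : ∀ x : F, x ≠ 0 → s (j x) = j (-x⁻¹))
    (htrans : ∀ y, y ≠ p → ∃ g ∈ G, g p = p ∧ g (j 0) = y)
    (hcard : 2 * Nat.card G = Fintype.card F * (Fintype.card F ^ 2 - 1)) :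
    Nonempty (G ≃* Matrix.ProjectiveSpecialLinearGroup (Fin 2) F) := by
  classical
  -- the bijection `Option F ≃ α`
  let η₀ : Option F → α := fun o => o.elim p j
  have hη : Function.Bijective η₀ := by
    constructor
    · intro u v huv
      cases u with
      | none =>
        cases v with
        | none => rfl
        | some y => exact absurd huv.symm (hjp y)
      | some x =>
        cases v with
        | none => exact absurd huv (hjp x)
        | some y => exact congrArg some (hj huv)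
    · intro y
      by_cases hy : y = p
      · exact ⟨none, hy.symm⟩
      · obtain ⟨x, hx⟩ := hcov y hy
        exact ⟨some x, hx⟩
  let η : Option F ≃ α := Equiv.ofBijective η₀ hη
  let ζ : Option F ≃ ℙ F (Fin 2 → F) := Equiv.ofBijective pt pt_bijective
  let θ : α ≃ ℙ F (Fin 2 → F) := η.symm.trans ζ
  have hθp : θ p = pt none := by
    have : η.symm p = none := by
      rw [Equiv.symm_apply_eq]; rfl
    show ζ (η.symm p) = _
    rw [this]; rfl
  have hθj : ∀ x, θ (j x) = pt (some x) := by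
    intro x
    have : η.symm (j x) = some x := by
      rw [Equiv.symm_apply_eq]; rfl
    show ζ (η.symm (j x)) = _
    rw [this]; rfl
  let Φ : Matrix.ProjGenLinGroup (Fin 2) F →* Perm α :=
    (θ.symm.permCongrHom).toMonoidHom.comp
      (MulAction.toPermHom (Matrix.ProjGenLinGroup (Fin 2) F) (ℙ F (Fin 2 → F)))
  have hΦ : ∀ (M : Matrix.ProjGenLinGroup (Fin 2) F) (y : α), θ (Φ M y) = M • θ y := by
    intro M y
    show θ (θ.symm.permCongr (MulAction.toPerm M) y) = _
    rw [Equiv.permCongr_apply, Equiv.symm_symm, Equiv.apply_symm_apply]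
    rfl
  have key : ∀ (g : Perm α) (M : Matrix.ProjGenLinGroup (Fin 2) F), M ∈ LL F →
      (∀ y, θ (g y) = M • θ y) → g ∈ (LL F).map Φ := by
    intro g M hM h
    refine ⟨M, hM, ?_⟩
    ext y
    apply θ.injective
    rw [hΦ, h]
  -- every point is `p` or `j x`
  have hpts : ∀ y, y = p ∨ ∃ x, y = j x := by
    intro y
    by_cases hy : y = p
    · exact Or.inl hy
    · obtain ⟨x, hx⟩ := hcov y hy
      exact Or.inr ⟨x, hx.symm⟩
  -- the point stabiliser lies in the image
  have hBrange : ∀ g ∈ G, g p = p → g ∈ (LL F).map Φ := by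
    intro g hg hgp
    obtain ⟨a, b, ha, hsq, hab⟩ := hB g hg hgp
    refine key g (ProjGenLinGroup.mk (affM a b ha)) (affM_mem_LL a b ha hsq) ?_
    intro y
    rcases hpts y with rfl | ⟨x, rfl⟩
    · rw [hgp, hθp, affM_pt_none]
    · rw [hab, hθj, hθj, affM_pt_some]
  have hsrange : s ∈ (LL F).map Φ := by
    refine key s (ProjGenLinGroup.mk negSwM) negSwM_mem_LL ?_
    intro y
    rcases hpts y with rfl | ⟨x, rfl⟩
    · rw [hsp, hθp, hθj, negSwM_pt_none]
    · by_cases hx : x = 0
      · subst hx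
        rw [hs0, hθp, hθj, negSwM_pt_zero]
      · rw [hsx x hx, hθj, hθj, negSwM_pt_some x hx]
  have hGrange : G ≤ (LL F).map Φ := by
    intro g hg
    by_cases hgp : g p = p
    · exact hBrange g hg hgp
    · obtain ⟨b₁, hb₁G, hb₁p, hb₁0⟩ := htrans (g p) hgp
      have hb₂ : s⁻¹ * b₁⁻¹ * g ∈ G := G.mul_mem (G.mul_mem (G.inv_mem hsG) (G.inv_mem hb₁G)) hg
      have hb₂p : (s⁻¹ * b₁⁻¹ * g) p = p := by
        rw [Perm.mul_apply, Perm.mul_apply, Perm.inv_eq_iff_eq, Perm.inv_eq_iff_eq, hsp, hb₁0]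
      have e : g = b₁ * s * (s⁻¹ * b₁⁻¹ * g) := by group
      rw [e]
      exact ((LL F).map Φ).mul_mem (((LL F).map Φ).mul_mem (hBrange b₁ hb₁G hb₁p) hsrange)
        (hBrange _ hb₂ hb₂p)
  -- counting
  have : Finite (Matrix.ProjGenLinGroup (Fin 2) F) :=
    Finite.of_surjective ProjGenLinGroup.mk ProjGenLinGroup.mk_surjective
  have hcardP : Nat.card (Matrix.ProjGenLinGroup (Fin 2) F) =
      Fintype.card F * (Fintype.card F ^ 2 - 1) := Cfsg.Agent.Helper18.PGL2Mers.card_pgl2
  have hcardL : 2 * Nat.card (LL F) = Fintype.card F * (Fintype.card F ^ 2 - 1) := by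
    rw [← hcardP, ← (LL F).card_mul_index, index_LL h2, mul_comm]
  -- the restriction of `Φ` to `LL F`
  let Ψ : LL F →* Perm α := Φ.comp (LL F).subtype
  have hΨrange : Ψ.range = (LL F).map Φ := by
    rw [MonoidHom.range_comp, Subgroup.range_subtype]
  have hle : Nat.card Ψ.range ≤ Nat.card (LL F) :=
    Nat.card_le_card_of_surjective Ψ.rangeRestrict Ψ.rangeRestrict_surjective
  have hGcard : Nat.card G = Nat.card (LL F) := by omega
  have hGeq : G = Ψ.range := by
    rw [hΨrange]
    refine Subgroup.eq_of_le_of_card_ge hGrange ?_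
    rw [← hΨrange, hGcard]
    exact hle
  have hbij : Function.Bijective Ψ.rangeRestrict := by
    refine (Function.Surjective.bijective_of_nat_card_le Ψ.rangeRestrict_surjective ?_)
    rw [← hGeq, hGcard]
  exact ⟨((MulEquiv.subgroupCongr hGeq).trans (MulEquiv.ofBijective Ψ.rangeRestrict hbij).symm).trans
    (equivLL (F := F)).symm⟩

end Cfsg.Agent.Helper4.RecogPSL2
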