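import Mathlib
import Cfsg.Prelude
import Cfsg.Agent.Helper4.Zassenhaus

set_option autoImplicit false
set_option linter.style.haveILetI false
set_option linter.unusedSectionVars false

/-!
# Zassenhaus groups: the inequality `n - 1 ≤ 2 d`
-/

namespace Cfsg.Agent.Helper4

open MulAction

variable {G Ω : Type*} [Group G] [MulAction G Ω]

/-- If the two-point stabilisers of a finite Zassenhaus group have even order `d` then
`|Ω| - 2 ≤ 2 d`. -/
theorem zassenhaus_degree_le [Finite G] [Fintype Ω] (hZ : Cfsg.IsZassenhausGroup G Ω)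
    {a b : Ω} (hab : a ≠ b)
    (heven : Even (Nat.card ↥(stabilizer G a ⊓ stabilizer G b))) :
    Fintype.card Ω - 2 ≤ 2 * Nat.card ↥(stabilizer G a ⊓ stabilizer G b) := by
  classical
  letI : Fintype G := Fintype.ofFinite G
  obtain ⟨hfaith, h2, h3, hex, hnoreg⟩ := hZ
  have hZ' : Cfsg.IsZassenhausGroup G Ω := ⟨hfaith, h2, h3, hex, hnoreg⟩
  have h2' := h2
  rw [is_two_pretransitive_iff] at h2'
  set N := Fintype.card Ω with hN
  set d := Nat.card ↥(stabilizer G a ⊓ stabilizer G b) with hd
  -- the involution z in the two point stabiliser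
  haveI : Fact (Nat.Prime 2) := ⟨Nat.prime_two⟩
  obtain ⟨z, hz⟩ := exists_prime_orderOf_dvd_card'
    (G := ↥(stabilizer G a ⊓ stabilizer G b)) 2 heven.two_dvd
  have hz' : orderOf (z : G) = 2 := by rw [Subgroup.orderOf_coe]; exact hz
  have hz1 : (z : G) ≠ 1 := by
    intro e; rw [e, orderOf_one] at hz'; omega
  have hzz : (z : G) * (z : G) = 1 := by
    have := pow_orderOf_eq_one (z : G)
    rwa [hz', pow_two] at this
  have hza : (z : G) • a = a := z.2.1
  have hzb : (z : G) • b = b := z.2.2
  -- the involutions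
  let I : Finset G := Finset.univ.filter (fun t => t * t = 1 ∧ t ≠ 1)
  have hI : ∀ t, t ∈ I ↔ t * t = 1 ∧ t ≠ 1 := by
    intro t
    simp [I]
  let P : Finset (Ω × Ω) := (Finset.univ : Finset Ω).offDiag
  have hP : P.card = N * N - N := by
    rw [Finset.offDiag_card, Finset.card_univ]
  have hPmem : ∀ q : Ω × Ω, q ∈ P ↔ q.1 ≠ q.2 := by
    intro q
    simp [P]
  let Fx : G → Finset Ω := fun g => Finset.univ.filter (fun y => g • y = y)
  have hFx : ∀ t ∈ I, (Fx t).card ≤ 2 := by
    intro t ht
    have h1 := zassenhaus_card_fixedBy_le_two hZ' t ((hI t).mp ht).2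
    have e : Nat.card (fixedBy Ω t) = (Fx t).card := by
      rw [Nat.card_eq_fintype_card, Fintype.card_subtype]
      rfl
    rwa [e] at h1
  -- (A) fixed pairs
  have hA : N * N - N ≤ 2 * I.card := by
    let rF : G → Ω × Ω → Prop := fun t q => t • q.1 = q.1 ∧ t • q.2 = q.2
    have key := Finset.sum_card_bipartiteAbove_eq_sum_card_bipartiteBelow (s := I) (t := P) rF
    have hl : ∀ t ∈ I, (P.bipartiteAbove rF t).card ≤ 2 := by
      intro t ht
      have : P.bipartiteAbove rF t = (Fx t).offDiag := by
        ext q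
        simp only [Finset.bipartiteAbove, Finset.mem_filter, Finset.mem_offDiag, Finset.mem_univ,
          true_and, P, rF, Fx]
        tauto
      rw [this, Finset.offDiag_card]
      have := hFx t ht
      interval_cases (Fx t).card <;> omega
    have hr : ∀ q ∈ P, 1 ≤ (I.bipartiteBelow rF q).card := by
      rintro ⟨x, y⟩ hq
      have hxy : x ≠ y := (hPmem _).mp hq
      obtain ⟨g, hga, hgb⟩ := h2' hab hxy
      rw [Nat.succ_le_iff, Finset.card_pos]
      refine ⟨g * z * g⁻¹, ?_⟩
      simp only [Finset.bipartiteBelow, Finset.mem_filter, hI, rF]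
      refine ⟨⟨?_, ?_⟩, ?_, ?_⟩
      · have : g * ↑z * g⁻¹ * (g * ↑z * g⁻¹) = g * (↑z * ↑z) * g⁻¹ := by group
        rw [this, hzz, mul_one, mul_inv_cancel]
      · intro h
        apply hz1
        have := congrArg (fun u => g⁻¹ * u * g) h
        simpa [mul_assoc] using this
      · rw [mul_smul, mul_smul, ← hga, inv_smul_smul, hza]
      · rw [mul_smul, mul_smul, ← hgb, inv_smul_smul, hzb]
    calc N * N - N = P.card := hP.symm
      _ = ∑ q ∈ P, 1 := by simp
      _ ≤ ∑ q ∈ P, (I.bipartiteBelow rF q).card := Finset.sum_le_sum hr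
      _ = ∑ t ∈ I, (P.bipartiteAbove rF t).card := key.symm
      _ ≤ ∑ t ∈ I, 2 := Finset.sum_le_sum hl
      _ = 2 * I.card := by simp [mul_comm]
  -- (B) swapped pairs
  have hB : I.card * (N - 2) ≤ (N * N - N) * d := by
    let rS : G → Ω × Ω → Prop := fun t q => t • q.1 = q.2 ∧ t • q.2 = q.1
    have key := Finset.sum_card_bipartiteAbove_eq_sum_card_bipartiteBelow (s := I) (t := P) rS
    have hl : ∀ t ∈ I, N - 2 ≤ (P.bipartiteAbove rS t).card := by
      intro t ht
      obtain ⟨htt, ht1⟩ := (hI t).mp ht
      let Mv : Finset Ω := Finset.univ.filter (fun y => t • y ≠ y)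
      have hMv : Mv.card + (Fx t).card = N := by
        rw [add_comm]
        exact Finset.card_filter_add_card_filter_not (s := Finset.univ) (fun y => t • y = y)
      have h1 : N - 2 ≤ Mv.card := by
        have := hFx t ht
        omega
      refine h1.trans ?_
      have hinj : Set.InjOn (fun x : Ω => (x, t • x)) (Mv : Set Ω) := by
        intro x _ y _ hxy
        exact (Prod.mk.inj hxy).1
      rw [← Finset.card_image_of_injOn hinj]
      apply Finset.card_le_card
      intro q hq
      rw [Finset.mem_image] at hq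
      obtain ⟨x, hx, rfl⟩ := hq
      have hx' : t • x ≠ x := by simpa [Mv] using hx
      simp only [Finset.bipartiteAbove, Finset.mem_filter, hPmem, rS]
      refine ⟨fun h => hx' h.symm, trivial, ?_⟩
      rw [← mul_smul, htt, one_smul]
    -- the number of elements swapping a pair is at most d
    have hswab : ∀ S : Finset G, (∀ t ∈ S, t • a = b ∧ t • b = a) → S.card ≤ d := by
      intro S hS
      rcases S.eq_empty_or_nonempty with rfl | ⟨t0, ht0⟩
      · simp
      · have h0 := hS t0 ht0
        have hmem : ∀ t ∈ S, t0⁻¹ * t ∈ stabilizer G a ⊓ stabilizer G b := by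
          intro t ht
          have h1 := hS t ht
          rw [Subgroup.mem_inf, mem_stabilizer_iff, mem_stabilizer_iff, mul_smul, mul_smul,
            h1.1, h1.2, inv_smul_eq_iff, inv_smul_eq_iff]
          exact ⟨h0.1.symm, h0.2.symm⟩
        have : S.card ≤ Nat.card ↥(stabilizer G a ⊓ stabilizer G b) := by
          rw [Nat.card_eq_fintype_card, ← Finset.card_univ]
          refine Finset.card_le_card_of_injOn
            (fun t => if h : t ∈ S then ⟨t0⁻¹ * t, hmem t h⟩ else 1)
            (fun _ _ => Finset.mem_univ _) ?_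
          intro t ht t' ht' htt'
          have ht_ : t ∈ S := ht
          have ht'_ : t' ∈ S := ht'
          simp only [dif_pos ht_, dif_pos ht'_] at htt'
          have := congrArg Subtype.val htt'
          simpa using this
        exact this
    have hr : ∀ q ∈ P, (I.bipartiteBelow rS q).card ≤ d := by
      rintro ⟨x, y⟩ hq
      have hxy : x ≠ y := (hPmem _).mp hq
      obtain ⟨g, hga, hgb⟩ := h2' hab hxy
      have hinj : Set.InjOn (fun t : G => g⁻¹ * t * g) ((I.bipartiteBelow rS (x, y) : Finset G) : Set G) := by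
        intro t _ t' _ htt'
        have := congrArg (fun u => g * u * g⁻¹) htt'
        simpa [mul_assoc] using this
      rw [← Finset.card_image_of_injOn hinj]
      apply hswab
      intro u hu
      rw [Finset.mem_image] at hu
      obtain ⟨t, ht, rfl⟩ := hu
      simp only [Finset.bipartiteBelow, Finset.mem_filter, rS] at ht
      obtain ⟨_, ht1, ht2⟩ := ht
      constructor
      · rw [mul_smul, mul_smul, hga, ht1, ← hgb, inv_smul_smul]
      · rw [mul_smul, mul_smul, hgb, ht2, ← hga, inv_smul_smul]
    calc I.card * (N - 2) = ∑ t ∈ I, (N - 2) := by simp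
      _ ≤ ∑ t ∈ I, (P.bipartiteAbove rS t).card := Finset.sum_le_sum hl
      _ = ∑ q ∈ P, (I.bipartiteBelow rS q).card := key
      _ ≤ ∑ q ∈ P, d := Finset.sum_le_sum hr
      _ = (N * N - N) * d := by rw [Finset.sum_const, smul_eq_mul, hP]
  -- conclusion
  have hN2 : 2 ≤ N := by
    rw [hN, ← Finset.card_univ]
    have : ({a, b} : Finset Ω).card ≤ (Finset.univ : Finset Ω).card :=
      Finset.card_le_card (Finset.subset_univ _)
    rwa [Finset.card_pair hab] at this
  have hpos : 0 < N * N - N := by
    have : N * 2 ≤ N * N := Nat.mul_le_mul_left N hN2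
    omega
  have h1 : (N * N - N) * (N - 2) ≤ (N * N - N) * (2 * d) := by
    calc (N * N - N) * (N - 2) ≤ 2 * I.card * (N - 2) := Nat.mul_le_mul_right _ hA
      _ = 2 * (I.card * (N - 2)) := by ring
      _ ≤ 2 * ((N * N - N) * d) := Nat.mul_le_mul_left _ hB
      _ = (N * N - N) * (2 * d) := by ring
  exact Nat.le_of_mul_le_mul_left h1 hpos

end Cfsg.Agent.Helper4
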