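import Mathlib

/-!
# The core computation for Zassenhaus groups of type `PSL(2, q)`, `q ≡ 3 (mod 4)`:
the element interchanging `0` and `∞` can be chosen to be `x ↦ -1/x`
-/

set_option autoImplicit false
set_option linter.style.haveILetI false
set_option linter.unusedSectionVars false

namespace Cfsg.Agent.Helper4.ZKOdd

variable {K : Type*} [Field K] [Fintype K] {G Ω : Type*} [Group G] [MulAction G Ω]

theorem exists_neg_inv_odd (a : Ω) (j : K → Ω) (hj : Function.Injective j)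
    (hja : ∀ x, j x ≠ a) (hcov : ∀ y, y ≠ a → ∃ x, j x = y)
    (d : ℕ) (hKd : Fintype.card K = 2 * d + 1) (hdo : Odd d)
    (hA' : ∀ s : K, s ≠ 0 → IsSquare s → ∃ g : G, g • a = a ∧ ∀ x, g • j x = j (s * x))
    (σ : G) (hσa : σ • a = j 0) (hσ0 : σ • j 0 = a) (hσσ : σ * σ = 1)
    (hinv : ∀ h : G, h • a = a → h • j 0 = j 0 → σ * h * σ⁻¹ = h⁻¹)
    (hnofix : ∀ y : Ω, σ • y ≠ y) :
    ∃ g : G, g • a = j 0 ∧ g • j 0 = a ∧ ∀ x, x ≠ 0 → g • j x = j (-x⁻¹) := by
  classical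
  have hchar : ringChar K ≠ 2 := by
    intro h
    have := FiniteField.even_card_iff_char_two.mp h
    omega
  have hhalf : Fintype.card K / 2 = d := by omega
  have hd0 : 0 < d := hdo.pos
  have hsq_iff : ∀ s : K, s ≠ 0 → (IsSquare s ↔ s ^ d = 1) := by
    intro s hs
    rw [FiniteField.isSquare_iff hchar hs, hhalf]
  have hdich : ∀ s : K, s ≠ 0 → s ^ d = 1 ∨ s ^ d = -1 := by
    intro s hs
    have := FiniteField.pow_dichotomy hchar hs
    rwa [hhalf] at this
  have hneg1 : (-1 : K) ^ d = -1 := hdo.neg_one_pow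
  have hroot0 : ∀ κ : K, κ ^ d = 1 → κ ≠ 0 := by
    rintro κ hκ rfl
    rw [zero_pow hd0.ne'] at hκ
    exact zero_ne_one hκ
  have hA'' : ∀ κ : K, κ ^ d = 1 → ∃ g : G, g • a = a ∧ ∀ x, g • j x = j (κ * x) :=
    fun κ hκ => hA' κ (hroot0 κ hκ) ((hsq_iff κ (hroot0 κ hκ)).mpr hκ)
  have hσσ' : ∀ y : Ω, σ • σ • y = y := by
    intro y
    rw [← mul_smul, hσσ, one_smul]
  -- the key relation
  have hKey : ∀ κ : K, κ ^ d = 1 → ∀ i t, σ • j i = j t → σ • j (κ * i) = j (κ⁻¹ * t) := by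
    intro κ hκ i t hit
    obtain ⟨h, hha, hhj⟩ := hA'' κ hκ
    have hκ0 := hroot0 κ hκ
    have hh0 : h • j 0 = j 0 := by rw [hhj, mul_zero]
    have h2 := hinv h hha hh0
    have h3 : σ * h = h⁻¹ * σ := by rw [← h2]; group
    have h4 : σ • h • j i = h⁻¹ • σ • j i := by
      rw [← mul_smul, h3, mul_smul]
    rw [hhj, hit] at h4
    rw [h4, inv_smul_eq_iff, hhj, ← mul_assoc, mul_inv_cancel₀ hκ0, one_mul]
  have hτex : ∀ i : K, ∃ t : K, i ≠ 0 → (t ≠ 0 ∧ σ • j i = j t) := by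
    intro i
    by_cases hi : i = 0
    · exact ⟨0, fun h => absurd hi h⟩
    · have h1 : σ • j i ≠ a := by
        intro h
        rw [← hσ0] at h
        exact hi (hj (smul_left_cancel σ h))
      obtain ⟨t, ht⟩ := hcov _ h1
      refine ⟨t, fun _ => ⟨?_, ht.symm⟩⟩
      rintro rfl
      rw [← hσa] at ht
      exact hja i (smul_left_cancel σ ht).symm
  choose τ hτ using hτex
  have hK' : ∀ κ : K, κ ^ d = 1 → ∀ i, i ≠ 0 → τ (κ * i) = κ⁻¹ * τ i := by
    intro κ hκ i hi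
    have hκ0 := hroot0 κ hκ
    have h1 := hKey κ hκ i (τ i) (hτ i hi).2
    have h2 := (hτ (κ * i) (mul_ne_zero hκ0 hi)).2
    exact hj (h2.symm.trans h1)
  have h10 : (1 : K) ≠ 0 := one_ne_zero
  obtain ⟨hm0, hm⟩ := hτ 1 h10
  set m := τ 1 with hmdef
  have hmd : m ^ d = -1 := by
    rcases hdich m hm0 with h | h
    · exfalso
      have ⟨e, he⟩ := hdo
      set κ := m ^ (e + 1) with hκdef
      have hκ2 : κ * κ = m := by
        rw [hκdef, ← pow_add]
        have : e + 1 + (e + 1) = d + 1 := by omega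
        rw [this, pow_succ, h, one_mul]
      have hκd : κ ^ d = 1 := by
        rw [hκdef, ← pow_mul, mul_comm, pow_mul, h, one_pow]
      have hκ0 := hroot0 κ hκd
      have h1 := hK' κ hκd 1 h10
      rw [mul_one] at h1
      have h2 : τ κ = κ := by
        rw [h1, ← hmdef, ← hκ2, ← mul_assoc, inv_mul_cancel₀ hκ0, one_mul]
      have h3 := (hτ κ hκ0).2
      rw [h2] at h3
      exact hnofix _ h3
    · exact h
  set μ : K := -m with hμdef
  have hμd : μ ^ d = 1 := by rw [hμdef, neg_pow, hneg1, hmd]; ring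
  have hμ0 : μ ≠ 0 := neg_ne_zero.mpr hm0
  have hτm : τ m = 1 := by
    have h1 := (hτ m hm0).2
    have h2 := hσσ' (j 1)
    rw [hm] at h2
    exact hj (h1.symm.trans h2)
  have hne1 : (-1 : K) ≠ 0 := neg_ne_zero.mpr one_ne_zero
  have hτneg1 : τ (-1) = μ := by
    have h1 := hK' μ hμd (-1) hne1
    have h2 : μ * -1 = m := by rw [hμdef]; ring
    rw [h2, hτm] at h1
    have h3 := congrArg (fun z => μ * z) h1
    simp only [mul_one, mul_inv_cancel_left₀ hμ0] at h3
    exact h3.symm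
  obtain ⟨h, hha, hhj⟩ := hA'' μ hμd
  refine ⟨σ * h, ?_, ?_, ?_⟩
  · rw [mul_smul, hha, hσa]
  · rw [mul_smul, hhj, mul_zero, hσ0]
  · intro i hi
    rw [mul_smul, hhj, (hτ (μ * i) (mul_ne_zero hμ0 hi)).2, hK' μ hμd i hi]
    congr 1
    rcases hdich i hi with h1 | h1
    · have h2 := hK' i h1 1 h10
      rw [mul_one] at h2
      rw [h2, ← hmdef, hμdef]
      field_simp
    · have h3 : (-i) ^ d = 1 := by rw [neg_pow, hneg1, h1]; ring
      have h2 := hK' (-i) h3 (-1) hne1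
      have h4 : -i * -1 = i := by ring
      rw [h4, hτneg1] at h2
      rw [h2]
      field_simp

end Cfsg.Agent.Helper4.ZKOdd
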