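import Mathlib
import Cfsg.Prelude.Def_LieExceptional
import Cfsg.Agent.Helper5.Zassenhaus
import Cfsg.Agent.Helper5.Zassenhaus2

/-!
# Zassenhaus groups with an abelian kernel: preliminaries
-/

set_option autoImplicit false
set_option linter.style.haveILetI false
set_option linter.unusedSectionVars false

namespace Cfsg.Agent.Helper4.ZKPrelim

open MulAction Cfsg

variable {G Ω : Type*} [Group G] [MulAction G Ω]

/-- a finite group acting freely on a finite invariant set: the order divides the size -/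
theorem card_dvd_ncard_of_free {G X : Type*} [Group G] [MulAction G X] [Finite G] (S : Set X)
    (hinv : ∀ g : G, ∀ x ∈ S, g • x ∈ S) (hfree : ∀ g : G, ∀ x ∈ S, g • x = x → g = 1) :
    Nat.card G ∣ S.ncard := by
  let p : SubMulAction G X := ⟨S, fun g {x} hx => hinv g x hx⟩
  have e := MulAction.selfEquivOrbitsQuotientProd (G := G) (X := p) (fun b => by
    rw [Subgroup.eq_bot_iff_forall]
    intro g hg
    rw [MulAction.mem_stabilizer_iff] at hg
    have := congrArg Subtype.val hg
    exact hfree g b.1 b.2 this)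
  have h1 : Nat.card p = Nat.card (Quotient (MulAction.orbitRel G p)) * Nat.card G := by
    rw [Nat.card_congr e, Nat.card_prod]
  have h2 : S.ncard = Nat.card p := (Nat.card_coe_set_eq S).symm
  rw [h2, h1]
  exact Dvd.intro_left _ rfl

/-- the order of the two-point stabiliser divides `n - 2` -/
theorem card_stab_dvd [Finite G] [Fintype Ω] (hZ : IsZassenhausGroup G Ω) {a b : Ω}
    (hab : a ≠ b) :
    Nat.card ↥(stabilizer G a ⊓ stabilizer G b) ∣ Fintype.card Ω - 2 := by
  classical
  have hHmem : ∀ g : G, g ∈ stabilizer G a ⊓ stabilizer G b ↔ g • a = a ∧ g • b = b := by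
    intro g
    rw [Subgroup.mem_inf, mem_stabilizer_iff, mem_stabilizer_iff]
  have h := card_dvd_ncard_of_free (G := ↥(stabilizer G a ⊓ stabilizer G b))
    ({x : Ω | x ≠ a ∧ x ≠ b}) (by
      intro g x hx
      have hg := (hHmem _).1 g.2
      constructor
      · intro h1
        exact hx.1 (smul_left_cancel (g : G) (h1.trans hg.1.symm))
      · intro h1
        exact hx.2 (smul_left_cancel (g : G) (h1.trans hg.2.symm))) (by
      intro g x hx hgx
      have hg := (hHmem _).1 g.2
      exact Subtype.ext (Cfsg.Agent.Helper5.Zassenhaus.eq_one_of_fix3 hZ hab (Ne.symm hx.2)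
        (Ne.symm hx.1) hg.1 hg.2 hgx))
  have h2 : ({x : Ω | x ≠ a ∧ x ≠ b} : Set Ω).ncard = Fintype.card Ω - 2 := by
    rw [Set.ncard_eq_toFinset_card']
    have h1 : ({x : Ω | x ≠ a ∧ x ≠ b} : Set Ω).toFinset = (Finset.univ.erase a).erase b := by
      ext x
      simp only [Set.mem_toFinset, Set.mem_ofPred_eq, Finset.mem_erase, Finset.mem_univ, and_true]
      tauto
    rw [h1, Finset.card_erase_of_mem (by simp [hab.symm]), Finset.card_erase_of_mem (by simp),
      Finset.card_univ]
    omega
  rwa [h2] at h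

/-- Non-identity elements of a regular kernel fix only `a`. -/
theorem kernel_fix_only {a : Ω} (F : Subgroup G) (hFle : F ≤ stabilizer G a)
    (hreg : ∀ y z : Ω, y ≠ a → z ≠ a → ∃! u : F, (u : G) • y = z) :
    ∀ u ∈ F, u ≠ 1 → ∀ c : Ω, u • c = c → c = a := by
  intro u hu hu1 c hc
  by_contra hca
  apply hu1
  have h1 : ((⟨u, hu⟩ : F) : G) • c = c := hc
  have h2 : ((1 : F) : G) • c = c := one_smul _ _
  have := (hreg c c hca hca).unique h1 h2
  exact congrArg Subtype.val this

/-- The order of a regular kernel. -/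
theorem kernel_card [Fintype Ω] {a b : Ω} (hab : a ≠ b) (F : Subgroup G)
    (hFle : F ≤ stabilizer G a)
    (hreg : ∀ y z : Ω, y ≠ a → z ≠ a → ∃! u : F, (u : G) • y = z) :
    Nat.card F + 1 = Fintype.card Ω := by
  classical
  have hFa : ∀ u : F, (u : G) • a = a := fun u => hFle u.2
  have hub : ∀ u : F, (u : G) • b ≠ a := by
    intro u h
    have : (u : G) • b = (u : G) • a := by rw [h, hFa u]
    exact hab (smul_left_cancel _ this).symm
  have e : F ≃ {x : Ω // x ≠ a} := Equiv.ofBijective (fun u => ⟨(u : G) • b, hub u⟩) (by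
    constructor
    · intro u u' huu'
      have h1 : (u : G) • b = (u' : G) • b := congrArg Subtype.val huu'
      exact (hreg b ((u' : G) • b) hab.symm (hub u')).unique h1 rfl
    · rintro ⟨x, hx⟩
      obtain ⟨u, hu⟩ := (hreg b x hab.symm hx).exists
      exact ⟨u, Subtype.ext hu⟩)
  rw [Nat.card_congr e, Nat.card_eq_fintype_card, Fintype.card_subtype_compl,
    Fintype.card_subtype_eq]
  have : 1 ≤ Fintype.card Ω := Fintype.card_pos_iff.mpr ⟨a⟩
  omega

/-- Three-point stabilisers are trivial. -/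
theorem sharp3 (hZ : IsZassenhausGroup G Ω) (t : Fin 3 ↪ Ω) : stabilizer G t = ⊥ := by
  rw [eq_bot_iff]
  intro g hg
  rw [mem_stabilizer_iff] at hg
  rw [Subgroup.mem_bot]
  have hfix : ∀ i, g • (t i) = t i := by
    intro i
    have := congrArg (fun f : Fin 3 ↪ Ω => f i) hg
    exact this
  refine Cfsg.Agent.Helper5.Zassenhaus.eq_one_of_fix3 hZ (a := t 0) (b := t 1) (c := t 2)
    ?_ ?_ ?_ (hfix 0) (hfix 1) (hfix 2)
  · intro h; exact absurd (t.injective h) (by decide)
  · intro h; exact absurd (t.injective h) (by decide)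
  · intro h; exact absurd (t.injective h) (by decide)

/-- If the two point stabiliser has order `n - 2`, the group is 3-transitive. -/
theorem three_trans [Finite G] [Fintype Ω] (hZ : IsZassenhausGroup G Ω) {a b : Ω} (hab : a ≠ b)
    (he : Nat.card ↥(stabilizer G a ⊓ stabilizer G b) = Fintype.card Ω - 2) :
    IsMultiplyPretransitive G Ω 3 := by
  classical
  have hN3 := Cfsg.Agent.Helper5.Zassenhaus.three_le_card hZ
  have hcardG := Cfsg.Agent.Helper5.Zassenhaus.card_group hZ hab
  rw [he] at hcardG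
  have hcardE : Nat.card (Fin 3 ↪ Ω) =
      Fintype.card Ω * (Fintype.card Ω - 1) * (Fintype.card Ω - 2) := by
    rw [Nat.card_eq_fintype_card, Fintype.card_embedding_eq, Fintype.card_fin]
    simp [Nat.descFactorial]
    ring
  have hne : Nonempty (Fin 3 ↪ Ω) := by
    rw [← Fintype.card_pos_iff, ← Nat.card_eq_fintype_card, hcardE]
    have h1 : 0 < Fintype.card Ω - 1 := by omega
    have h2 : 0 < Fintype.card Ω - 2 := by omega
    positivity
  obtain ⟨e₀⟩ := hne
  have h1 := MulAction.index_stabilizer G e₀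
  rw [sharp3 hZ e₀, Subgroup.index_bot, hcardG, ← hcardE] at h1
  have h2 : orbit G e₀ = Set.univ := (Set.eq_univ_iff_ncard _).mpr h1.symm
  rw [isMultiplyPretransitive_iff]
  intro x y
  have hx : x ∈ orbit G e₀ := by rw [h2]; trivial
  have hy : y ∈ orbit G e₀ := by rw [h2]; trivial
  obtain ⟨g₁, rfl⟩ := hx
  obtain ⟨g₂, rfl⟩ := hy
  refine ⟨g₂ * g₁⁻¹, ?_⟩
  show (g₂ * g₁⁻¹) • (g₁ • e₀) = g₂ • e₀
  ext i
  simp only [Function.Embedding.smul_apply]
  rw [mul_smul, inv_smul_smul]

/-- The order of a point stabiliser. -/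
theorem card_stabilizer [Finite G] [Fintype Ω] (hZ : IsZassenhausGroup G Ω) {a b : Ω}
    (hab : a ≠ b) (y : Ω) :
    Nat.card (stabilizer G y) =
      (Fintype.card Ω - 1) * Nat.card ↥(stabilizer G a ⊓ stabilizer G b) := by
  have htr := Cfsg.Agent.Helper5.Zassenhaus.isPretransitive_of_zassenhaus hZ
  have hcardG := Cfsg.Agent.Helper5.Zassenhaus.card_group hZ hab
  have h1 : (stabilizer G y).index = Fintype.card Ω := by
    rw [MulAction.index_stabilizer_of_transitive, Nat.card_eq_fintype_card]
  have h2 := (stabilizer G y).card_mul_index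
  rw [h1, hcardG] at h2
  have hpos : 0 < Fintype.card Ω := Fintype.card_pos_iff.mpr ⟨y⟩
  have h3 : Nat.card (stabilizer G y) * Fintype.card Ω =
      ((Fintype.card Ω - 1) * Nat.card ↥(stabilizer G a ⊓ stabilizer G b)) * Fintype.card Ω := by
    rw [h2]; ring
  exact Nat.eq_of_mul_eq_mul_right hpos h3

/-- When the point stabilisers have odd order, involutions have no fixed points. -/
theorem no_fix_of_odd [Finite G] [Fintype Ω] (hZ : IsZassenhausGroup G Ω) {a b : Ω}
    (hab : a ≠ b)
    (hodd : Odd ((Fintype.card Ω - 1) * Nat.card ↥(stabilizer G a ⊓ stabilizer G b)))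
    (s : G) (hs : orderOf s = 2) (y : Ω) : s • y ≠ y := by
  intro hy
  have hmem : s ∈ stabilizer G y := hy
  have h1 : orderOf (⟨s, hmem⟩ : stabilizer G y) = 2 := by
    rw [← hs, ← Subgroup.orderOf_coe]
  have h2 : 2 ∣ Nat.card (stabilizer G y) := by
    rw [← h1]; exact orderOf_dvd_natCard _
  rw [card_stabilizer hZ hab y] at h2
  exact (Nat.not_even_iff_odd.mpr hodd) (even_iff_two_dvd.mpr h2)

end Cfsg.Agent.Helper4.ZKPrelim
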