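import Mathlib
import Cfsg.Prelude.Def_LieExceptional
import Cfsg.Agent.Helper4.ZKPrelim
import Cfsg.Agent.Helper4.ZKCoord
import Cfsg.Agent.Helper4.ZKOdd
import Cfsg.Agent.Helper4.RecogPSL2
import Cfsg.Agent.Helper4.Zassenhaus2
import Cfsg.Agent.S0339
import Cfsg.Agent.S0739
import Cfsg.Agent.S0740
import Cfsg.Agent.S0742

/-!
# Zassenhaus groups with an abelian kernel (modulo Feit's theorem)
-/

set_option autoImplicit false
set_option linter.style.haveILetI false
set_option linter.unusedSectionVars false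

namespace Cfsg.Agent.Helper4.ZKMain

open MulAction Cfsg Cfsg.Agent.Helper4.ZKPrelim

universe u v

/-- The statement of Feit's theorem on Zassenhaus groups, for groups acting on `Ω`. -/
def FeitHyp (Ω : Type v) [Fintype Ω] : Prop :=
  ∀ (G : Type u) [Group G] [Finite G] [MulAction G Ω], IsZassenhausGroup G Ω →
    ∀ {a b : Ω}, a ≠ b → ∀ (h e : ℕ), Fintype.card Ω = h + 1 →
    Nat.card ↥(stabilizer G a ⊓ stabilizer G b : Subgroup G) = e → Odd e →
    ∀ (H : Subgroup G), H ≤ stabilizer G a → Nat.card H + 1 = Fintype.card Ω →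
    (∀ u ∈ H, u ≠ 1 → ∀ c : Ω, u • c = c → c = a) →
    h - 1 ≤ 2 * e ∨
      (IsPGroup 2 H ∧ (∃ u v : H, u * v ≠ v * u) ∧ (commutator H).index ≤ 4 * e ^ 2 + 1)

variable {Ω : Type v} [Fintype Ω] {G : Type u} [Group G] [Finite G] [MulAction G Ω]

theorem feit_abelian (hFeit : FeitHyp.{u, v} Ω) (hZ : IsZassenhausGroup G Ω) {a b : Ω}
    (hab : a ≠ b) (hodd : Odd (Nat.card ↥(stabilizer G a ⊓ stabilizer G b)))
    (H : Subgroup G) (hHa : H ≤ stabilizer G a) (hHcard : Nat.card H + 1 = Fintype.card Ω)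
    (hHfix : ∀ u ∈ H, u ≠ 1 → ∀ c : Ω, u • c = c → c = a)
    (hHab : ∀ u v : H, u * v = v * u) :
    Fintype.card Ω - 2 ≤ 2 * Nat.card ↥(stabilizer G a ⊓ stabilizer G b) := by
  have hpos : 1 ≤ Fintype.card Ω := Fintype.card_pos_iff.mpr ⟨a⟩
  rcases hFeit G hZ hab (Fintype.card Ω - 1) _ (by omega) rfl hodd H hHa hHcard hHfix with
    h | ⟨-, ⟨u, v, huv⟩, -⟩
  · omega
  · exact absurd (hHab u v) huv

/-- No normal `q`-complements (the hypothesis of S0739). -/
theorem no_normal_compl (hFeit : FeitHyp.{u, v} Ω) (hZ : IsZassenhausGroup G Ω) {a b : Ω}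
    (hab : a ≠ b) (F : Subgroup G) (hFle : F ≤ stabilizer G a)
    (hFab : ∀ u v : F, u * v = v * u)
    (hreg : ∀ y z : Ω, y ≠ a → z ≠ a → ∃! u : F, (u : G) • y = z)
    (h2e : 2 * Nat.card ↥(stabilizer G a ⊓ stabilizer G b) = Fintype.card Ω - 2)
    (hodd : Odd (Nat.card ↥(stabilizer G a ⊓ stabilizer G b)))
    (q : ℕ) (hq : q.Prime) (hqe : q ∣ Nat.card ↥(stabilizer G a ⊓ stabilizer G b)) :
    ¬ ∃ M : Subgroup G, M.Normal ∧ M.index = q ^ (Nat.card G).factorization q := by
  classical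
  rintro ⟨M, hM, hidx⟩
  haveI := hM
  have hN3 := Cfsg.Agent.Helper5.Zassenhaus.three_le_card hZ
  have hcardG := Cfsg.Agent.Helper5.Zassenhaus.card_group hZ hab
  set e := Nat.card ↥(stabilizer G a ⊓ stabilizer G b) with he
  set N := Fintype.card Ω with hN
  have he0 : 0 < e := Nat.card_pos
  have hq2 : q ≠ 2 := by
    rintro rfl
    exact (Nat.not_even_iff_odd.mpr hodd) (even_iff_two_dvd.mpr hqe)
  have hq2e : q ∣ 2 * e := Dvd.dvd.mul_left hqe 2
  have hqN : ¬ q ∣ N := by
    intro h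
    have h2 : q ∣ N - 2 * e := Nat.dvd_sub h hq2e
    have h3 : N - 2 * e = 2 := by omega
    rw [h3] at h2
    exact hq2 ((Nat.prime_dvd_prime_iff_eq hq Nat.prime_two).mp h2)
  have hqN1 : ¬ q ∣ N - 1 := by
    intro h
    have h2 : q ∣ (N - 1) - 2 * e := Nat.dvd_sub h hq2e
    have h3 : (N - 1) - 2 * e = 1 := by omega
    rw [h3] at h2
    exact hq.one_lt.ne' (Nat.dvd_one.mp h2)
  have hfac : (Nat.card G).factorization q = e.factorization q := by
    rw [hcardG, Nat.factorization_mul (Nat.mul_ne_zero (by omega) (by omega)) he0.ne',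
      Nat.factorization_mul (by omega) (by omega)]
    simp [Nat.factorization_eq_zero_of_not_dvd hqN, Nat.factorization_eq_zero_of_not_dvd hqN1]
  rw [hfac] at hidx
  set m := q ^ e.factorization q with hm
  have hmd : m ∣ e := Nat.ordProj_dvd e q
  have hk : 0 < e.factorization q := hq.factorization_pos_of_dvd he0.ne' hqe
  have hm2 : 2 ≤ m := by
    calc 2 ≤ q := hq.two_le
      _ = q ^ 1 := (pow_one q).symm
      _ ≤ q ^ e.factorization q := Nat.pow_le_pow_right hq.pos hk
  have hMcard := M.card_mul_index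
  rw [hidx, hcardG] at hMcard
  -- `M ≠ ⊥`
  have hMne : M ≠ ⊥ := by
    intro h
    rw [h, Subgroup.card_bot, one_mul] at hMcard
    have h1 : m ≤ e := Nat.le_of_dvd he0 hmd
    have h2 : 6 * e ≤ N * (N - 1) * e := by
      have : 6 ≤ N * (N - 1) := by
        have h3 : 3 * 2 ≤ N * (N - 1) := Nat.mul_le_mul hN3 (by omega)
        omega
      exact Nat.mul_le_mul_right e this
    omega
  have hZM : IsZassenhausGroup M Ω := Cfsg.Agent.S0339.result hZ M hMne
  -- `F ≤ M`
  have hFcard := kernel_card hab F hFle hreg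
  have hcop : Nat.Coprime m (Nat.card F) := by
    have h1 : Nat.card F = N - 1 := by omega
    rw [h1]
    have h2 : Nat.Coprime (N - 2) (N - 1) := by
      have : N - 1 = (N - 2) + 1 := by omega
      rw [this]
      simp
    have h3 : m ∣ N - 2 := by
      rw [← h2e]; exact Dvd.dvd.mul_left hmd 2
    exact Nat.Coprime.coprime_dvd_left h3 h2
  have hF2 : 2 ≤ Nat.card F := by omega
  have hFM : F ≤ M := by
    intro u hu
    obtain ⟨t, -, ht⟩ := Nat.exists_mul_mod_eq_one_of_coprime hcop (by omega : 1 < Nat.card F)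
    have h1 : u ^ m ∈ M := by rw [← hidx]; exact M.pow_index_mem u
    have h2 : (⟨u, hu⟩ : F) ^ (m * t) = ⟨u, hu⟩ := by
      rw [← pow_mod_natCard, ht, pow_one]
    have h3 : u ^ (m * t) = u := congrArg Subtype.val h2
    rw [← h3, pow_mul]
    exact M.pow_mem h1 t
  -- the kernel inside `M`
  set H' : Subgroup M := F.subgroupOf M with hH'
  have hH'a : H' ≤ stabilizer M a := by
    intro u hu
    rw [mem_stabilizer_iff]
    exact hFle (Subgroup.mem_subgroupOf.mp hu)
  have hH'card : Nat.card H' + 1 = Fintype.card Ω := by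
    rw [Nat.card_congr (Subgroup.subgroupOfEquivOfLe hFM).toEquiv]
    exact hFcard
  have hFfix := kernel_fix_only F hFle hreg
  have hH'fix : ∀ u ∈ H', u ≠ 1 → ∀ c : Ω, u • c = c → c = a := by
    intro u hu hu1 c hc
    refine hFfix (u : G) (Subgroup.mem_subgroupOf.mp hu) ?_ c hc
    intro h
    exact hu1 (Subtype.ext h)
  have hH'ab : ∀ u v : H', u * v = v * u := by
    intro u v
    apply Subtype.ext
    apply Subtype.ext
    have := hFab ⟨((u : M) : G), Subgroup.mem_subgroupOf.mp u.2⟩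
      ⟨((v : M) : G), Subgroup.mem_subgroupOf.mp v.2⟩
    have h2 := congrArg Subtype.val this
    exact h2
  set e₁ := Nat.card ↥(stabilizer M a ⊓ stabilizer M b) with he₁
  have hcardM := Cfsg.Agent.Helper5.Zassenhaus.card_group hZM hab
  rw [← he₁, ← hN] at hcardM
  have hNN : 0 < N * (N - 1) := Nat.mul_pos (by omega) (by omega)
  have he₁m : e₁ * m = e := by
    rw [hcardM] at hMcard
    have : N * (N - 1) * (e₁ * m) = N * (N - 1) * e := by rw [← hMcard]; ring
    exact Nat.eq_of_mul_eq_mul_left hNN this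
  have he₁0 : 0 < e₁ := Nat.card_pos
  have he₁odd : Odd e₁ := by
    have : e₁ ∣ e := Dvd.intro _ he₁m
    exact Odd.of_dvd_nat hodd this
  have hfe := feit_abelian hFeit hZM hab he₁odd H' hH'a hH'card hH'fix hH'ab
  rw [← he₁, ← hN] at hfe
  have : 2 * e₁ ≤ e₁ * m := by rw [mul_comm]; exact Nat.mul_le_mul_left e₁ hm2
  omega

/-- The main theorem, modulo Feit's theorem. -/
theorem main (hFeit : FeitHyp.{u, v} Ω) (hZ : IsZassenhausGroup G Ω) (x : Ω) (F : Subgroup G)
    (hFle : F ≤ stabilizer G x) (hFn : (F.subgroupOf (stabilizer G x)).Normal)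
    (hFab : IsMulCommutative F)
    (hreg : ∀ y z : Ω, y ≠ x → z ≠ x → ∃! u : F, (u : G) • y = z) :
    (IsMultiplyPretransitive G Ω 3 ∧ ∀ t : Fin 3 ↪ Ω, stabilizer G t = ⊥) ∨
      ∃ (K : Type) (_ : Field K) (_ : Fintype K), ringChar K ≠ 2 ∧
        Nonempty (G ≃* Matrix.ProjectiveSpecialLinearGroup (Fin 2) K) := by
  classical
  have hN3 := Cfsg.Agent.Helper5.Zassenhaus.three_le_card hZ
  haveI : Nontrivial Ω := by
    rw [← Fintype.one_lt_card_iff_nontrivial]; omega
  obtain ⟨b, hbx⟩ := exists_ne x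
  have hab : x ≠ b := hbx.symm
  have hcardG := Cfsg.Agent.Helper5.Zassenhaus.card_group hZ hab
  set e := Nat.card ↥(stabilizer G x ⊓ stabilizer G b) with he
  have he0 : 0 < e := Nat.card_pos
  have hFcard := kernel_card hab F hFle hreg
  have hFfix := kernel_fix_only F hFle hreg
  have hFab' : ∀ u v : F, u * v = v * u := fun u v => hFab.is_comm.comm u v
  have hle : Fintype.card Ω - 2 ≤ 2 * e := by
    rcases Nat.even_or_odd e with hev | hod
    · exact Cfsg.Agent.Helper4.zassenhaus_degree_le hZ hab hev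
    · exact feit_abelian hFeit hZ hab hod F hFle hFcard hFfix hFab'
  obtain ⟨k, hk⟩ := card_stab_dvd hZ hab
  rw [← he] at hk
  have hk1 : 1 ≤ k := by
    rcases Nat.eq_zero_or_pos k with h | h
    · rw [h, mul_zero] at hk
      omega
    · exact h
  have hk2 : k ≤ 2 := by
    by_contra hcon
    push Not at hcon
    have : e * 3 ≤ e * k := Nat.mul_le_mul_left e hcon
    omega
  have hk' : k = 1 ∨ k = 2 := by omega
  rcases hk' with rfl | rfl
  · left
    exact ⟨three_trans hZ hab (by omega), sharp3 hZ⟩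
  · right
    have h2e : 2 * e = Fintype.card Ω - 2 := by omega
    rcases Nat.even_or_odd e with hev | hod
    · obtain ⟨p, f, K, hK, hKt, hp, hp2, hKc, -, ⟨E⟩⟩ :=
        Cfsg.Agent.S0742.result hZ hab hev (by rw [← he]; omega)
      refine ⟨K, hK, hKt, ?_, ⟨E⟩⟩
      intro h
      have h1 := FiniteField.even_card_iff_char_two.mp h
      rw [hKc] at h1
      have h2 : 2 ∣ p ^ f := Nat.dvd_of_mod_eq_zero h1
      have h3 := (Nat.prime_dvd_prime_iff_eq Nat.prime_two hp).mp
        (Nat.Prime.dvd_of_dvd_pow Nat.prime_two h2)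
      exact hp2 h3.symm
    · -- the odd case
      have hnil : ∀ q : ℕ, q.Prime → q ∣ Nat.card ↥(stabilizer G x ⊓ stabilizer G b) →
          ¬ ∃ M : Subgroup G, M.Normal ∧ M.index = q ^ (Nat.card G).factorization q :=
        fun q hq hqe => no_normal_compl hFeit hZ hab F hFle hFab' hreg h2e hod q hq hqe
      obtain ⟨-, -, hinv⟩ := Cfsg.Agent.S0739.result hZ hab hod hnil
      obtain ⟨⟨s, hs2, hsa, hsb⟩, -, -⟩ := Cfsg.Agent.S0740.result hZ hab
      have hss : s * s = 1 := by
        have := pow_orderOf_eq_one s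
        rwa [hs2, pow_two] at this
      have hsinv : s⁻¹ = s := inv_eq_of_mul_eq_one_left hss
      have hinv' := hinv s hsa hsb
      have hHcomm : ∀ y ∈ stabilizer G x ⊓ stabilizer G b,
          ∀ z ∈ stabilizer G x ⊓ stabilizer G b, y * z = z * y := by
        intro y hy z hz
        have hyz := hinv' (y * z) (Subgroup.mul_mem _ hy hz)
        have hy' := hinv' y hy
        have hz' := hinv' z hz
        have e1 : s * (y * z) * s⁻¹ = (s * y * s⁻¹) * (s * z * s⁻¹) := by group
        rw [e1, hy', hz', mul_inv_rev] at hyz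
        have := congrArg (fun w => w⁻¹) hyz
        have h3 : z * y = y * z := by simpa using this
        exact h3.symm
      obtain ⟨K, fK, ftK, j, hcardK, hjinj, hja, hjcov, hj0, hA, hA'⟩ :=
        Cfsg.Agent.Helper4.ZKCoord.coordinatize_comm hZ hab F hFle hFn hFab hreg
          (by rw [← he]; omega) hHcomm
      rw [← he] at hcardK
      have hoddstab : Odd ((Fintype.card Ω - 1) * e) := by
        have h1 : Fintype.card Ω - 1 = 2 * e + 1 := by omega
        rw [h1]
        exact (odd_two_mul_add_one e).mul hod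
      have hnofix : ∀ y : Ω, s • y ≠ y := no_fix_of_odd hZ hab hoddstab s hs2
      have hsa' : s • x = j 0 := by rw [hj0]; exact hsa
      have hsb' : s • j 0 = x := by rw [hj0]; exact hsb
      obtain ⟨g₀, hg₀1, hg₀2, hg₀⟩ := Cfsg.Agent.Helper4.ZKOdd.exists_neg_inv_odd x j hjinj hja
        hjcov e hcardK hod
        (fun κ hκ hκs => by
          obtain ⟨g, hg1, hg2⟩ := hA' κ 0 hκ hκs
          exact ⟨g, hg1, fun y => by rw [hg2, add_zero]⟩)
        s hsa' hsb' hss
        (fun h hh1 hh2 => hinv' h (Subgroup.mem_inf.mpr ⟨hh1, by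
          rw [mem_stabilizer_iff, ← hj0]; exact hh2⟩))
        hnofix
      have hchar : ringChar K ≠ 2 := by
        intro h
        have := FiniteField.even_card_iff_char_two.mp h
        omega
      have h2K : (2 : K) ≠ 0 := Ring.two_ne_zero hchar
      refine ⟨K, fK, ftK, hchar, ?_⟩
      haveI hfaith : FaithfulSMul G Ω := hZ.1
      let φ : G →* Equiv.Perm Ω := MulAction.toPermHom G Ω
      have hφinj : Function.Injective φ := MulAction.toPerm_injective
      let G' : Subgroup (Equiv.Perm Ω) := φ.range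
      let ε : G ≃* G' := MonoidHom.ofInjective hφinj
      have hB' : ∀ g ∈ G', g x = x →
          ∃ s c : K, s ≠ 0 ∧ IsSquare s ∧ ∀ y, g (j y) = j (s * y + c) := by
        rintro _ ⟨g, rfl⟩ hga
        exact hA g hga
      have htrans : ∀ y, y ≠ x → ∃ g ∈ G', g x = x ∧ g (j 0) = y := by
        intro y hy
        obtain ⟨c, rfl⟩ := hjcov y hy
        obtain ⟨g, hga, hg⟩ := hA' 1 c one_ne_zero ⟨1, by simp⟩
        refine ⟨φ g, ⟨g, rfl⟩, hga, ?_⟩
        show g • j 0 = j c
        rw [hg, mul_zero, zero_add]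
      have hcard : 2 * Nat.card G' = Fintype.card K * (Fintype.card K ^ 2 - 1) := by
        have h1 : Nat.card G' = Nat.card G := (Nat.card_congr ε.toEquiv).symm
        rw [h1, hcardG, hcardK]
        have h3 : (2 * e + 1) ^ 2 - 1 = 2 * e * (2 * e + 2) := by
          have : (2 * e + 1) ^ 2 = 2 * e * (2 * e + 2) + 1 := by ring
          omega
        have h4 : Fintype.card Ω = 2 * e + 2 := by omega
        rw [h3, h4]
        have h5 : 2 * e + 2 - 1 = 2 * e + 1 := by omega
        rw [h5]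
        ring
      obtain ⟨ε'⟩ := Cfsg.Agent.Helper4.RecogPSL2.nonempty_mulEquiv_psl G' x j hjinj hja hjcov h2K
        hB' (φ g₀) ⟨g₀, rfl⟩ hg₀1 hg₀2 hg₀ htrans hcard
      exact ⟨ε.trans ε'⟩

end Cfsg.Agent.Helper4.ZKMain
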