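import Mathlib
import Cfsg.Agent.Helper8.TIFN3
import Cfsg.Agent.Helper24.ColumnOrth

/-!
# Feit's theorem on Zassenhaus groups: the class count (piece P4)
-/

set_option autoImplicit false
set_option linter.style.haveILetI false
set_option linter.unusedSectionVars false

namespace Cfsg.Agent.Helper4.FeitP4

open Cfsg Cfsg.Agent.Helper24 Cfsg.Agent.Helper8.FrobKer Cfsg.Agent.Helper8.TIFN

variable {G : Type*} [Group G] [Fintype G] {K N : Subgroup G}

/-- The members of `S` together with the indicator of `K` are linearly independent class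
functions supported on `K`. -/
theorem card_SS_succ_le (hyp : Hyp K N) :
    Nat.card {ξ : IrrCharacter N // (ξ : N → ℂ) ∈ SS K N} + 1 ≤
      Nat.card {C : ConjClasses N // ∃ n : N, (n : G) ∈ K ∧ ConjClasses.mk n = C} := by
  classical
  haveI : Fintype N := Fintype.ofFinite N
  haveI : Fintype (IrrCharacter N) := Fintype.ofFinite _
  haveI := hyp.normal
  set K' : Subgroup N := K.subgroupOf N with hK'
  let I := {ξ : IrrCharacter N // (ξ : N → ℂ) ∈ SS K N}
  let CK := {C : ConjClasses N // ∃ n : N, (n : G) ∈ K ∧ ConjClasses.mk n = C}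
  haveI : Fintype I := Fintype.ofFinite _
  haveI : Fintype CK := Fintype.ofFinite _
  let F : (Option I → ℂ) → N → ℂ := fun c =>
    (∑ ξ : I, c (some ξ) • ((ξ : IrrCharacter N) : N → ℂ)) + c none • indK K'
  have hFadd : ∀ c d, F (c + d) = F c + F d := by
    intro c d
    ext n
    simp only [F, Pi.add_apply, add_smul, Finset.sum_add_distrib]
    ring
  have hFsmul : ∀ (r : ℂ) c, F (r • c) = r • F c := by
    intro r c
    ext n
    simp only [F, Pi.add_apply, Pi.smul_apply, smul_eq_mul, Finset.sum_apply, Finset.mul_sum]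
    rw [mul_add, Finset.mul_sum]
    congr 1
    · refine Finset.sum_congr rfl (fun ξ _ => ?_)
      ring
    · ring
  let Φ : (Option I → ℂ) →ₗ[ℂ] (CK → ℂ) :=
    { toFun := fun c C => F c (Quotient.out C.1)
      map_add' := by
        intro c d
        ext C
        simp only [hFadd, Pi.add_apply]
      map_smul' := by
        intro r c
        ext C
        simp only [hFsmul, Pi.smul_apply, RingHom.id_apply] }
  have hFcf : ∀ c, IsClassFunction N (F c) := by
    intro c
    apply isClassFunction_add
    · exact isClassFunction_sum _ _ (fun ξ _ => isClassFunction_smul _ (isClassFunction_irr _))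
    · exact isClassFunction_smul _ (indK_isClassFunction K')
  have hFoff : ∀ c (n : N), n ∉ K' → F c n = 0 := by
    intro c n hn
    simp only [F, Pi.add_apply, Pi.smul_apply, smul_eq_mul, Finset.sum_apply]
    rw [indK_not_mem K' hn, mul_zero, add_zero]
    apply Finset.sum_eq_zero
    intro ξ _
    rw [vanish_off K' (frob hyp) (ξ : IrrCharacter N) ξ.2.2 hn, mul_zero]
  have hinj : Function.Injective Φ := by
    rw [injective_iff_map_eq_zero]
    intro c hc
    have hF0 : F c = 0 := by
      ext n
      by_cases hn : n ∈ K'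
      · have hC : ∃ m : N, (m : G) ∈ K ∧ ConjClasses.mk m = ConjClasses.mk n :=
          ⟨n, Subgroup.mem_subgroupOf.mp hn, rfl⟩
        have h1 := congrFun hc ⟨ConjClasses.mk n, hC⟩
        have h2 : F c (Quotient.out (ConjClasses.mk n)) = F c n := by
          apply IsClassFunction.eq_of_isConj (hFcf c)
          rw [← ConjClasses.mk_eq_mk_iff_isConj]
          exact Quotient.out_eq _
        rw [← h2]
        exact h1
      · exact hFoff c n hn
    -- coefficients
    have hcoef : ∀ ψ : I, c (some ψ) = 0 := by
      intro ψ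
      have h1 : classInner (F c) ((ψ : IrrCharacter N) : N → ℂ) = 0 := by
        rw [hF0]; exact classInner_zero_left _
      simp only [F] at h1
      rw [classInner_add_left, classInner_sum_left, classInner_smul_left] at h1
      simp_rw [classInner_smul_left] at h1
      rw [Finset.sum_eq_single ψ] at h1
      · rw [classInner_irr_self, mul_one] at h1
        have h2 : classInner (indK K') ((ψ : IrrCharacter N) : N → ℂ) = 0 := by
          rw [← classInner_conj_symm]
          simp only [classInner]
          have h3 := sum_indK_mul K' (ψ : IrrCharacter N) ψ.2.2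
          have h4 : ∑ g : N, ((ψ : IrrCharacter N) : N → ℂ) g * (starRingEnd ℂ) (indK K' g) = 0 := by
            rw [← h3]
            refine Finset.sum_congr rfl (fun g _ => ?_)
            by_cases hg : g ∈ K'
            · rw [indK_mem K' hg]; simp
            · rw [indK_not_mem K' hg]; simp
          rw [h4]; simp
        rw [h2, mul_zero, add_zero] at h1
        exact h1
      · intro ξ _ hne
        have : (ξ : IrrCharacter N) ≠ (ψ : IrrCharacter N) := fun h => hne (Subtype.ext h)
        rw [classInner_irr_ne this, mul_zero]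
      · intro h; exact absurd (Finset.mem_univ ψ) h
    have hnone : c none = 0 := by
      have h1 := congrFun hF0 1
      simp only [F, Pi.add_apply, Pi.smul_apply, smul_eq_mul, Finset.sum_apply, Pi.zero_apply]
        at h1
      rw [indK_mem K' K'.one_mem, mul_one] at h1
      have h2 : ∑ ξ : I, c (some ξ) * ((ξ : IrrCharacter N) : N → ℂ) 1 = 0 := by
        apply Finset.sum_eq_zero
        intro ξ _
        rw [hcoef ξ, zero_mul]
      rw [h2, zero_add] at h1
      exact h1
    ext o
    cases o with
    | none => exact hnone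
    | some ψ => exact hcoef ψ
  have hrank := LinearMap.finrank_le_finrank_of_injective hinj
  rw [Module.finrank_fintype_fun_eq_card, Module.finrank_fintype_fun_eq_card,
    Fintype.card_option] at hrank
  rw [Nat.card_eq_fintype_card, Nat.card_eq_fintype_card]
  exact hrank

/-- `N`-classes inside `K` inject into `G`-classes meeting `K`. -/
theorem card_classes_le (hyp : Hyp K N) :
    Nat.card {C : ConjClasses N // ∃ n : N, (n : G) ∈ K ∧ ConjClasses.mk n = C} ≤
      Nat.card {C : ConjClasses G // ∃ k ∈ K, ConjClasses.mk k = C} := by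
  classical
  haveI := hyp.normal
  let CK := {C : ConjClasses N // ∃ n : N, (n : G) ∈ K ∧ ConjClasses.mk n = C}
  let A := {C : ConjClasses G // ∃ k ∈ K, ConjClasses.mk k = C}
  have hout : ∀ C : CK, ((Quotient.out C.1 : N) : G) ∈ K := by
    intro C
    obtain ⟨n, hn, hC⟩ := C.2
    have h1 : ConjClasses.mk (Quotient.out C.1) = ConjClasses.mk n := by
      rw [hC]; exact Quotient.out_eq _
    rw [ConjClasses.mk_eq_mk_iff_isConj, isConj_comm, isConj_iff] at h1
    obtain ⟨x, hx⟩ := h1
    have h2 : x * n * x⁻¹ ∈ K.subgroupOf N :=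
      hyp.normal.conj_mem n (Subgroup.mem_subgroupOf.mpr hn) x
    rw [hx] at h2
    exact Subgroup.mem_subgroupOf.mp h2
  let f : CK → A := fun C => ⟨ConjClasses.mk ((Quotient.out C.1 : N) : G), _, hout C, rfl⟩
  have hf : Function.Injective f := by
    intro C₁ C₂ h
    have h1 : ConjClasses.mk ((Quotient.out C₁.1 : N) : G) =
        ConjClasses.mk ((Quotient.out C₂.1 : N) : G) := congrArg Subtype.val h
    rw [ConjClasses.mk_eq_mk_iff_isConj, isConj_iff] at h1
    obtain ⟨g, hg⟩ := h1
    set n₁ : N := Quotient.out C₁.1 with hn₁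
    set n₂ : N := Quotient.out C₂.1 with hn₂
    have hmk : ConjClasses.mk n₁ = ConjClasses.mk n₂ := by
      by_cases h1 : (n₁ : G) = 1
      · have h2 : (n₂ : G) = 1 := by rw [← hg, h1]; group
        have : n₁ = n₂ := Subtype.ext (h1.trans h2.symm)
        rw [this]
      · have hgN : g ∈ N := by
          by_contra hgN
          apply h1
          refine hyp.ti g hgN (n₁ : G) (hout C₁) ?_
          rw [hg]
          exact hout C₂
        rw [ConjClasses.mk_eq_mk_iff_isConj, isConj_iff]
        exact ⟨⟨g, hgN⟩, Subtype.ext hg⟩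
    apply Subtype.ext
    have e₁ : ConjClasses.mk n₁ = C₁.1 := Quotient.out_eq _
    have e₂ : ConjClasses.mk n₂ = C₂.1 := Quotient.out_eq _
    rw [← e₁, ← e₂, hmk]
  exact Nat.card_le_card_of_injective f hf

/-- Piece (P4): the class count. -/
theorem class_count (hyp : Hyp K N) (e : ℕ)
    (hcls : e ≤ Nat.card {C : ConjClasses G // ∀ g : G, ConjClasses.mk g = C → g ∉ K}) :
    Nat.card {ξ : IrrCharacter N // (ξ : N → ℂ) ∈ SS K N} + 1 + e ≤ Nat.card (ConjClasses G) := by
  classical
  haveI : Fintype (ConjClasses G) := Fintype.ofFinite _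
  have h1 := (card_SS_succ_le hyp).trans (card_classes_le hyp)
  have hdisj : Disjoint (fun C : ConjClasses G => ∃ k ∈ K, ConjClasses.mk k = C)
      (fun C : ConjClasses G => ∀ g : G, ConjClasses.mk g = C → g ∉ K) := by
    rw [Pi.disjoint_iff]
    intro C
    rw [Prop.disjoint_iff]
    rintro ⟨⟨k, hk, hkC⟩, h2⟩
    exact h2 k hkC hk
  have h2 := Fintype.card_subtype_or_disjoint _ _ hdisj
  have h3 := Fintype.card_subtype_le
    (fun C : ConjClasses G => (∃ k ∈ K, ConjClasses.mk k = C) ∨
      ∀ g : G, ConjClasses.mk g = C → g ∉ K)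
  have h2' : Nat.card {C : ConjClasses G // (∃ k ∈ K, ConjClasses.mk k = C) ∨
      ∀ g : G, ConjClasses.mk g = C → g ∉ K} =
      Nat.card {C : ConjClasses G // ∃ k ∈ K, ConjClasses.mk k = C} +
      Nat.card {C : ConjClasses G // ∀ g : G, ConjClasses.mk g = C → g ∉ K} := by
    simp only [Nat.card_eq_fintype_card]
    exact h2
  have h3' : Nat.card {C : ConjClasses G // (∃ k ∈ K, ConjClasses.mk k = C) ∨
      ∀ g : G, ConjClasses.mk g = C → g ∉ K} ≤ Nat.card (ConjClasses G) := by
    simp only [Nat.card_eq_fintype_card]
    exact h3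
  omega

end Cfsg.Agent.Helper4.FeitP4
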