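import Mathlib
import Cfsg.Prelude.Def_LieExceptional
import Cfsg.Agent.Helper8.TIFN
import Cfsg.Agent.Helper20.ZassC
import Cfsg.Agent.Helper4.ZKPrelim
import Cfsg.Agent.S0878

/-!
# Zassenhaus groups: the point stabilizer and its Frobenius kernel satisfy the T.I.F.N. hypotheses
-/

set_option autoImplicit false
set_option linter.style.haveILetI false
set_option linter.unusedSectionVars false

namespace Cfsg.Agent.Helper4.FeitGlue

open MulAction Cfsg

/-- (G1) The Frobenius kernel `H` of the point stabilizer `G_a` of a Zassenhaus group satisfies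
the T.I.F.N. hypotheses with `N = G_a`. -/
theorem hyp_of_zassenhaus {G Ω : Type*} [Group G] [Fintype G] [MulAction G Ω] [Fintype Ω]
    (hZ : Cfsg.IsZassenhausGroup G Ω) (a : Ω) (H : Subgroup G)
    (hHa : H ≤ MulAction.stabilizer G a) (hHcard : Nat.card H + 1 = Fintype.card Ω)
    (hHfix : ∀ u ∈ H, u ≠ 1 → ∀ c : Ω, u • c = c → c = a) :
    Cfsg.Agent.Helper8.TIFN.Hyp H (MulAction.stabilizer G a) := by
  have hmem := Cfsg.Agent.Helper20.Zass.mem_kernel_iff hZ a H hHa hHcard hHfix
  refine ⟨hHa, ?_, ?_, ?_, ?_⟩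
  · -- normality
    constructor
    intro u hu n
    rw [Subgroup.mem_subgroupOf] at hu ⊢
    have hna : (n : G) • a = a := n.2
    have hna' : (n : G)⁻¹ • a = a := by rw [inv_smul_eq_iff, hna]
    have hua : (u : G) • a = a := u.2
    have hfix : ((n * u * n⁻¹ : stabilizer G a) : G) • a = a := (n * u * n⁻¹).2
    rw [hmem _ hfix]
    by_cases hu1 : (u : G) = 1
    · left
      push_cast
      rw [hu1]; group
    · right
      intro c hc
      push_cast at hc
      rw [mul_smul, mul_smul] at hc
      have h1 : (u : G) • ((n : G)⁻¹ • c) = (n : G)⁻¹ • c := by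
        have := congrArg (fun y => (n : G)⁻¹ • y) hc
        simpa using this
      have h2 := hHfix _ hu hu1 _ h1
      rw [inv_smul_eq_iff, hna] at h2
      exact h2
  · -- T.I.
    exact (Cfsg.Agent.S0878.result hZ a H hHa hHcard hHfix).1
  · -- centralizers
    intro k hk hk1 g hg
    rw [Subgroup.mem_centralizer_iff] at hg
    have hgk : k * g = g * k := hg k (Set.mem_singleton k)
    have hka : k • a = a := hHa hk
    have hga : g • a = a := by
      apply hHfix k hk hk1
      rw [← mul_smul, hgk, mul_smul, hka]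
    rw [hmem g hga]
    by_contra hcon
    push Not at hcon
    obtain ⟨hg1, c, hc, hca⟩ := hcon
    have hkc : g • (k • c) = k • c := by
      rw [← mul_smul, ← hgk, mul_smul, hc]
    have h1 : k • c ≠ c := fun h => hca (hHfix k hk hk1 c h)
    have h2 : k • c ≠ a := by
      intro h
      apply hca
      have : k • c = k • a := by rw [h, hka]
      exact smul_left_cancel k this
    exact hg1 (Cfsg.Agent.Helper5.Zassenhaus.eq_one_of_fix3 hZ (Ne.symm hca) (Ne.symm h1)
      (Ne.symm h2) hga hc hkc)
  · -- fusion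
    intro x hx hxH g hgx
    have hxa : x • a = a := hx
    have hnot := (not_congr (hmem x hxa)).mp hxH
    push Not at hnot
    obtain ⟨hx1, c, hc, hca⟩ := hnot
    have hgx1 : g * x * g⁻¹ ≠ 1 := by
      intro h
      apply hx1
      have : x = g⁻¹ * (g * x * g⁻¹) * g := by group
      rw [this, h]; group
    have h1 : (g * x * g⁻¹) • (g • a) = g • a := by
      rw [mul_smul, mul_smul, inv_smul_smul, hxa]
    have h2 : (g * x * g⁻¹) • (g • c) = g • c := by
      rw [mul_smul, mul_smul, inv_smul_smul, hc]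
    have h3 := hHfix _ hgx hgx1 _ h1
    have h4 := hHfix _ hgx hgx1 _ h2
    exact hca (smul_left_cancel g (h4.trans h3.symm))

/-- (G2c) The index of the point stabilizer. -/
theorem index_stab {G Ω : Type*} [Group G] [Fintype G] [MulAction G Ω] [Fintype Ω]
    (hZ : Cfsg.IsZassenhausGroup G Ω) (a : Ω) :
    (MulAction.stabilizer G a).index = Fintype.card Ω := by
  have htr := Cfsg.Agent.Helper5.Zassenhaus.isPretransitive_of_zassenhaus hZ
  rw [MulAction.index_stabilizer_of_transitive, Nat.card_eq_fintype_card]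

/-- (G2b) The index of the Frobenius kernel in the point stabilizer. -/
theorem index_kernel {G Ω : Type*} [Group G] [Fintype G] [MulAction G Ω] [Fintype Ω]
    (hZ : Cfsg.IsZassenhausGroup G Ω) (a : Ω) (H : Subgroup G)
    (hHa : H ≤ MulAction.stabilizer G a) (hHcard : Nat.card H + 1 = Fintype.card Ω)
    {b : Ω} (hab : a ≠ b) :
    (H.subgroupOf (MulAction.stabilizer G a)).index =
      Nat.card ↥(MulAction.stabilizer G a ⊓ MulAction.stabilizer G b) := by
  have h1 := Cfsg.Agent.Helper4.ZKPrelim.card_stabilizer hZ hab a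
  have h2 := (H.subgroupOf (MulAction.stabilizer G a)).card_mul_index
  have h3 : Nat.card (H.subgroupOf (MulAction.stabilizer G a)) = Nat.card H :=
    Nat.card_congr (Subgroup.subgroupOfEquivOfLe hHa).toEquiv
  rw [h3, h1] at h2
  have h4 : Nat.card H = Fintype.card Ω - 1 := by omega
  rw [h4] at h2
  have hN3 := Cfsg.Agent.Helper5.Zassenhaus.three_le_card hZ
  exact Nat.eq_of_mul_eq_mul_left (by omega) h2

/-- (G2a) The point stabilizer modulo its Frobenius kernel is abelian. -/
theorem comm_mod_kernel {G Ω : Type*} [Group G] [Fintype G] [MulAction G Ω] [Fintype Ω]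
    (hZ : Cfsg.IsZassenhausGroup G Ω) (a : Ω) (H : Subgroup G)
    (hHa : H ≤ MulAction.stabilizer G a) (hHcard : Nat.card H + 1 = Fintype.card Ω)
    (hHfix : ∀ u ∈ H, u ≠ 1 → ∀ c : Ω, u • c = c → c = a)
    {b : Ω} (hab : a ≠ b) [IsSimpleGroup G]
    (hodd : Odd (Nat.card ↥(MulAction.stabilizer G a ⊓ MulAction.stabilizer G b))) :
    ∀ x y : MulAction.stabilizer G a,
      x * y * x⁻¹ * y⁻¹ ∈ H.subgroupOf (MulAction.stabilizer G a) := by
  have hyp := hyp_of_zassenhaus hZ a H hHa hHcard hHfix
  haveI hn : (H.subgroupOf (MulAction.stabilizer G a)).Normal := hyp.normal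
  have hcyc : IsCyclic ↥(stabilizer G a ⊓ stabilizer G b) :=
    (Cfsg.Agent.Helper16.ZassOdd.main hZ hab hodd
      (Cfsg.Agent.Helper20.Zass.hnil_of_simple hZ hab hodd)).1
  have hidx := index_kernel hZ a H hHa hHcard hab
  -- the map from the two point stabilizer to the quotient
  let φ : ↥(stabilizer G a ⊓ stabilizer G b) →*
      (stabilizer G a) ⧸ (H.subgroupOf (stabilizer G a)) :=
    (QuotientGroup.mk' (H.subgroupOf (stabilizer G a))).comp
      (Subgroup.inclusion (inf_le_left : stabilizer G a ⊓ stabilizer G b ≤ stabilizer G a))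
  have hφinj : Function.Injective φ := by
    rw [injective_iff_map_eq_one]
    intro x hx
    have h1 : Subgroup.inclusion (inf_le_left : stabilizer G a ⊓ stabilizer G b ≤ stabilizer G a) x
        ∈ H.subgroupOf (stabilizer G a) := by
      rw [← QuotientGroup.eq_one_iff]
      exact hx
    rw [Subgroup.mem_subgroupOf] at h1
    have h2 : (x : G) ∈ H := h1
    by_contra hx1
    have hx1' : (x : G) ≠ 1 := fun h => hx1 (Subtype.ext h)
    have hxb : (x : G) • b = b := (Subgroup.mem_inf.mp x.2).2
    exact hab (hHfix _ h2 hx1' b hxb).symm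
  have hcard : Nat.card ((stabilizer G a) ⧸ (H.subgroupOf (stabilizer G a))) ≤
      Nat.card ↥(stabilizer G a ⊓ stabilizer G b) := by
    rw [← hidx, Subgroup.index]
  have hφbij := hφinj.bijective_of_nat_card_le hcard
  have hcomm : ∀ p q : (stabilizer G a) ⧸ (H.subgroupOf (stabilizer G a)), p * q = q * p := by
    intro p q
    obtain ⟨x, rfl⟩ := hφbij.2 p
    obtain ⟨y, rfl⟩ := hφbij.2 q
    haveI := hcyc
    letI := IsCyclic.commGroup (α := ↥(stabilizer G a ⊓ stabilizer G b))
    rw [← map_mul, ← map_mul, mul_comm]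
  intro x y
  rw [← QuotientGroup.eq_one_iff]
  rw [QuotientGroup.mk_mul, QuotientGroup.mk_mul, QuotientGroup.mk_mul, QuotientGroup.mk_inv,
    QuotientGroup.mk_inv, hcomm (x : (stabilizer G a) ⧸ (H.subgroupOf (stabilizer G a))) y]
  group

end Cfsg.Agent.Helper4.FeitGlue
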