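import Mathlib
import Cfsg.Agent.Helper2.S2094.DefsR

set_option autoImplicit false
set_option linter.unusedSectionVars false
set_option linter.unusedVariables false

/-! S2094 piece MONOB (helper4; driver helper2): an element permuting the root subgroups of type `B_n`
along `σ` is mapped by `π` to a matrix which is monomial along `extI σ`. -/

namespace Cfsg.Agent.S2094P

open Matrix Cfsg.Agent.S3352P Cfsg.Agent.S3351P Cfsg.Agent.S2096P Cfsg.Agent.RGD

variable {n : ℕ} {F : Type*} [Field F] {M : Type*} [Group M] {X : J n → J n → F → M}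
  {Ys : J n → F → M}

namespace MONOB

/-- the columns of the signed indices -/
theorem col_inr (π : M →* Matrix (I n) (I n) F)
    (hπX : ∀ a b, IsRoot a b → ∀ t : F, π (X a b t) = xmB a b t) (hn : 3 ≤ n) {g : M}
    {σ : Equiv.Perm (J n)} (hσ : NgEquivariant σ)
    (hgX : ∀ a b, IsRoot a b → ∀ t : F, ∃ t' : F, g * X a b t * g⁻¹ = X (σ a) (σ b) t')
    (i : I n) (a : J n) (hia : i ≠ Sum.inr (σ a)) : π g i (Sum.inr a) = 0 := by
  classical
  -- a root `(a, b)` with `inr (ng (σ b)) ≠ i`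
  obtain ⟨b, hb1, hb2, hb3⟩ : ∃ b : J n, b ≠ a ∧ b ≠ ng a ∧ i ≠ Sum.inr (ng (σ b)) := by
    rcases i with u | i'
    · obtain ⟨b, hb⟩ : ∃ b, b ∉ ({a, ng a} : Finset (J n)) := by
        by_contra h
        push Not at h
        have h1 : (Finset.univ : Finset (J n)) ⊆ {a, ng a} := fun x _ => h x
        have h2 := Finset.card_le_card h1
        have h3 : ({a, ng a} : Finset (J n)).card ≤ 2 := Finset.card_le_two
        rw [Finset.card_univ, Fintype.card_sum, Fintype.card_fin] at h2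
        omega
      simp only [Finset.mem_insert, Finset.mem_singleton, not_or] at hb
      exact ⟨b, hb.1, hb.2, fun h => by cases h⟩
    · obtain ⟨b, hb⟩ : ∃ b, b ∉ ({a, ng a, σ.symm (ng i')} : Finset (J n)) := by
        by_contra h
        push Not at h
        have h1 : (Finset.univ : Finset (J n)) ⊆ {a, ng a, σ.symm (ng i')} := fun x _ => h x
        have h2 := Finset.card_le_card h1
        have h3 : ({a, ng a, σ.symm (ng i')} : Finset (J n)).card ≤ 3 := Finset.card_le_three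
        rw [Finset.card_univ, Fintype.card_sum, Fintype.card_fin] at h2
        omega
      simp only [Finset.mem_insert, Finset.mem_singleton, not_or] at hb
      refine ⟨b, hb.1, hb.2.1, fun h => hb.2.2 ?_⟩
      have h' : i' = ng (σ b) := Sum.inr_injective h
      rw [h', ng_ng, Equiv.symm_apply_apply]
  have hab : IsRoot a b := ⟨fun h => hb1 h.symm, fun h => hb2 (by rw [h, ng_ng])⟩
  have hab' : IsRoot (σ a) (σ b) := by
    refine ⟨fun h => hab.1 (σ.injective h), fun h => hab.2 (σ.injective ?_)⟩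
    rw [h, hσ]
  obtain ⟨t', h1⟩ := hgX a b hab 1
  have h2 : g * X a b 1 = X (σ a) (σ b) t' * g := by
    rw [← h1]; group
  have h3 := congrArg π h2
  rw [map_mul, map_mul, hπX a b hab, hπX _ _ hab'] at h3
  unfold xmB at h3
  rw [mul_add, add_mul, mul_one, one_mul, add_right_inj, one_smul, Matrix.smul_mul] at h3
  have h4 := congrFun (congrFun h3 i) (Sum.inr b)
  have hne : (Sum.inr b : I n) ≠ Sum.inr (ng a) := fun h => hb2 (Sum.inr_injective h)
  have e1 : (π g * (Matrix.single (Sum.inr (ng b)) (Sum.inr (ng a)) (1 : F) :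
      Matrix (I n) (I n) F)) i (Sum.inr b) = 0 :=
    Matrix.mul_single_apply_of_ne (1 : F) _ _ i _ hne (π g)
  have e2 : ((Matrix.single (Sum.inr (σ a)) (Sum.inr (σ b)) (1 : F) : Matrix (I n) (I n) F) * π g) i
      (Sum.inr b) = 0 :=
    Matrix.single_mul_apply_of_ne (1 : F) _ _ i _ hia (π g)
  have e3 : ((Matrix.single (Sum.inr (ng (σ b))) (Sum.inr (ng (σ a))) (1 : F) :
      Matrix (I n) (I n) F) * π g) i (Sum.inr b) = 0 :=
    Matrix.single_mul_apply_of_ne (1 : F) _ _ i _ hb3 (π g)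
  rw [Matrix.smul_apply, Matrix.mul_sub, Matrix.sub_mul, Matrix.sub_apply, Matrix.sub_apply,
    Matrix.mul_single_apply_same, e1, e2, e3, sub_zero, sub_zero, smul_zero, mul_one] at h4
  exact h4

/-- the column `0` -/
theorem col_o0 (π : M →* Matrix (I n) (I n) F)
    (hπX : ∀ a b, IsRoot a b → ∀ t : F, π (X a b t) = xmB a b t)
    (hπY : ∀ a, ∀ t : F, π (Ys a t) = ymB a t) (hn : 3 ≤ n) {g : M}
    {σ : Equiv.Perm (J n)} (hσ : NgEquivariant σ)
    (hgX : ∀ a b, IsRoot a b → ∀ t : F, ∃ t' : F, g * X a b t * g⁻¹ = X (σ a) (σ b) t')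
    (hgY : ∀ a, ∀ t : F, ∃ t' : F, g * Ys a t * g⁻¹ = Ys (σ a) t')
    (i : I n) (hi : i ≠ o0) : π g i o0 = 0 := by
  classical
  rcases i with u | i'
  · exact absurd rfl hi
  -- `a` with `σ a ≠ i'`
  set a : J n := σ.symm (ng i') with ha
  have hσa : σ a = ng i' := by rw [ha, Equiv.apply_symm_apply]
  have hia : (Sum.inr i' : I n) ≠ Sum.inr (σ a) := by
    intro h
    have h' : i' = σ a := Sum.inr_injective h
    rw [hσa] at h'
    exact ng_ne i' h'.symm
  have hcol := col_inr π hπX hn hσ hgX (Sum.inr i') a hia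
  obtain ⟨t', h1⟩ := hgY a 1
  have h2 : g * Ys a 1 = Ys (σ a) t' * g := by
    rw [← h1]; group
  have h3 := congrArg π h2
  rw [map_mul, map_mul, hπY, hπY] at h3
  unfold ymB at h3
  rw [sub_sub, add_sub_assoc, sub_sub, add_sub_assoc, mul_add, add_mul, Matrix.mul_one,
    Matrix.one_mul, add_right_inj] at h3
  have h4 := congrFun (congrFun h3 (Sum.inr i')) (Sum.inr (ng a))
  have hne0 : (Sum.inr (ng a) : I n) ≠ o0 := fun h => by cases h
  have e1 : (π g * (Matrix.single (Sum.inr a) o0 (1 : F) : Matrix (I n) (I n) F)) (Sum.inr i')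
      (Sum.inr (ng a)) = 0 :=
    Matrix.mul_single_apply_of_ne (1 : F) _ _ _ _ hne0 (π g)
  have e2 : ((Matrix.single (Sum.inr (σ a)) o0 (1 : F) : Matrix (I n) (I n) F) * π g) (Sum.inr i')
      (Sum.inr (ng a)) = 0 :=
    Matrix.single_mul_apply_of_ne (1 : F) _ _ _ _ hia (π g)
  have e3 : ((Matrix.single o0 (Sum.inr (ng (σ a))) (1 : F) : Matrix (I n) (I n) F) * π g)
      (Sum.inr i') (Sum.inr (ng a)) = 0 :=
    Matrix.single_mul_apply_of_ne (1 : F) _ _ _ _ hi (π g)
  have e4 : ((Matrix.single (Sum.inr (σ a)) (Sum.inr (ng (σ a))) (1 : F) :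
      Matrix (I n) (I n) F) * π g) (Sum.inr i') (Sum.inr (ng a)) = 0 :=
    Matrix.single_mul_apply_of_ne (1 : F) _ _ _ _ hia (π g)
  simp only [Matrix.mul_sub, Matrix.sub_mul, Matrix.mul_add, Matrix.add_mul, Matrix.mul_smul,
    Matrix.smul_mul, Matrix.sub_apply, Matrix.add_apply, Matrix.smul_apply,
    Matrix.mul_single_apply_same, e1, e2, e3, e4, smul_zero, hcol] at h4
  simpa using h4

end MONOB

/-- MONOB: an element which permutes the root subgroups has a monomial matrix -/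
theorem mono_of_rootPB (π : M →* Matrix (I n) (I n) F)
    (hπX : ∀ a b, IsRoot a b → ∀ t : F, π (X a b t) = xmB a b t)
    (hπY : ∀ a, ∀ t : F, π (Ys a t) = ymB a t) (hn : 3 ≤ n) (h2 : (2 : F) ≠ 0) {g : M}
    {σ : Equiv.Perm (J n)} (hσ : NgEquivariant σ)
    (hgX : ∀ a b, IsRoot a b → ∀ t : F, ∃ t' : F, g * X a b t * g⁻¹ = X (σ a) (σ b) t')
    (hgY : ∀ a, ∀ t : F, ∃ t' : F, g * Ys a t * g⁻¹ = Ys (σ a) t') :
    ∀ i a, i ≠ extI σ a → π g i a = 0 := by
  intro i a hia
  rcases a with u | a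
  · exact MONOB.col_o0 π hπX hπY hn hσ hgX hgY i hia
  · exact MONOB.col_inr π hπX hn hσ hgX i a hia

end Cfsg.Agent.S2094P
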