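import Mathlib
import Cfsg.Agent.Helper13.S2276Defs
import Cfsg.Agent.Helper4.S2276EVEN2
import Cfsg.Agent.Helper4.S2276NS3
import Cfsg.Agent.Helper18.S2276TAIL
import Cfsg.Agent.Helper25.S2276GLUEALG
import Cfsg.Agent.Helper25.S2276GLUECT
import Cfsg.Agent.Helper26.S2276ROT

set_option autoImplicit false

/-! # S2276 piece P3W2 (helper4): `j = 2`, window gadget `(0 8 2)(3 6 5)` on `Fin 9` plus a tail. -/

namespace Cfsg.Agent.S2276P

open Equiv Equiv.Perm

namespace P3W2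

/-- conjugating a window permutation fixing the last window point by the big rotation -/
theorem conj_rot (a t : ℕ) (y : Perm (Fin (a + 1))) (hy : y (Fin.last a) = Fin.last a) :
    finRotate (a + 1 + (t + 1)) * glue y (1 : Perm (Fin (t + 1))) * (finRotate (a + 1 + (t + 1)))⁻¹ =
      glue (finRotate (a + 1) * y * (finRotate (a + 1))⁻¹) (1 : Perm (Fin (t + 1))) := by
  set y' : Perm (Fin (a + 1)) := finRotate (a + 1) * y * (finRotate (a + 1))⁻¹ with hy'
  have hy'0 : y' 0 = 0 := by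
    rw [hy', Perm.mul_apply, Perm.mul_apply]
    have h1 : (finRotate (a + 1))⁻¹ 0 = Fin.last a := by
      rw [Perm.inv_eq_iff_eq, finRotate_last]
    rw [h1, hy, finRotate_last]
  have hG : glue (finRotate (a + 1)) (finRotate (t + 1)) * glue y (1 : Perm (Fin (t + 1))) *
      (glue (finRotate (a + 1)) (finRotate (t + 1)))⁻¹ = glue y' (1 : Perm (Fin (t + 1))) := by
    rw [GLUEALG.inv, ← GLUEALG.mul, ← GLUEALG.mul, mul_one, mul_inv_cancel]
  have hfix1 : glue y' (1 : Perm (Fin (t + 1))) (Fin.castAdd (t + 1) (0 : Fin (a + 1))) =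
      Fin.castAdd (t + 1) (0 : Fin (a + 1)) := by
    rw [GLUEALG.apply_castAdd, hy'0]
  have hfix2 : glue y' (1 : Perm (Fin (t + 1))) (Fin.natAdd (a + 1) (0 : Fin (t + 1))) =
      Fin.natAdd (a + 1) (0 : Fin (t + 1)) := by
    rw [GLUEALG.apply_natAdd, Perm.one_apply]
  rw [ROT.main a t, mul_inv_rev, swap_inv]
  have e1 : swap (Fin.castAdd (t + 1) (0 : Fin (a + 1))) (Fin.natAdd (a + 1) (0 : Fin (t + 1))) *
        glue (finRotate (a + 1)) (finRotate (t + 1)) * glue y 1 *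
        ((glue (finRotate (a + 1)) (finRotate (t + 1)))⁻¹ *
          swap (Fin.castAdd (t + 1) (0 : Fin (a + 1))) (Fin.natAdd (a + 1) (0 : Fin (t + 1)))) =
      swap (Fin.castAdd (t + 1) (0 : Fin (a + 1))) (Fin.natAdd (a + 1) (0 : Fin (t + 1))) *
        (glue (finRotate (a + 1)) (finRotate (t + 1)) * glue y 1 *
          (glue (finRotate (a + 1)) (finRotate (t + 1)))⁻¹) *
        swap (Fin.castAdd (t + 1) (0 : Fin (a + 1))) (Fin.natAdd (a + 1) (0 : Fin (t + 1))) := by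
    simp only [mul_assoc]
  rw [e1, hG]
  have e2 := Equiv.mul_swap_eq_swap_mul (glue y' (1 : Perm (Fin (t + 1))))
    (Fin.castAdd (t + 1) (0 : Fin (a + 1))) (Fin.natAdd (a + 1) (0 : Fin (t + 1)))
  rw [hfix1, hfix2] at e2
  rw [mul_assoc, e2, ← mul_assoc, swap_mul_self, one_mul]

/-- the window gadget -/
def xw : Perm (Fin (8 + 1)) := (swap 0 2 * swap 0 8) * (swap 3 5 * swap 3 6)

/-- `g = c x` on the window -/
def gw : Perm (Fin (8 + 1)) := finRotate (8 + 1) * xw

/-- `g ^ 3 = (1 2)(4 5)` -/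
def q3 : Perm (Fin (8 + 1)) := swap 1 2 * swap 4 5

theorem xw_cycleType : xw.cycleType = Multiset.replicate 2 3 := by
  have hA : (swap 0 2 * swap 0 8 : Perm (Fin (8 + 1))).IsThreeCycle :=
    isThreeCycle_swap_mul_swap_same (by decide) (by decide) (by decide)
  have hB : (swap 3 5 * swap 3 6 : Perm (Fin (8 + 1))).IsThreeCycle :=
    isThreeCycle_swap_mul_swap_same (by decide) (by decide) (by decide)
  have hd : Perm.Disjoint (swap 0 2 * swap 0 8 : Perm (Fin (8 + 1))) (swap 3 5 * swap 3 6) := by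
    intro i
    revert i
    decide
  unfold xw
  rw [hd.cycleType_mul, hA.cycleType, hB.cycleType]
  rfl

theorem gw_zero : gw 0 = 0 := by decide
theorem gw_one : gw 1 = 2 := by decide
theorem gw_two : gw 2 = 1 := by decide

theorem gw_cube : gw ^ 3 = q3 := by
  apply Equiv.ext
  decide

set_option maxRecDepth 100000 in
theorem q3_sq : q3 * q3 = 1 := by
  apply Equiv.ext
  decide

theorem q3_last : q3 (Fin.last 8) = Fin.last 8 := by decide

theorem q3_conj_last :
    (finRotate (8 + 1) * q3 * (finRotate (8 + 1))⁻¹) (Fin.last 8) = Fin.last 8 := by decide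

set_option maxRecDepth 100000 in
theorem word_sq :
    (q3 * (finRotate (8 + 1) * (finRotate (8 + 1) * q3 * (finRotate (8 + 1))⁻¹) *
        (finRotate (8 + 1))⁻¹)) *
      (q3 * (finRotate (8 + 1) * (finRotate (8 + 1) * q3 * (finRotate (8 + 1))⁻¹) *
        (finRotate (8 + 1))⁻¹)) = swap 3 5 * swap 3 4 := by
  apply Equiv.ext
  decide

/-- odd powers of `g`, cubed -/
theorem gw_pow_cube {N : ℕ} (hN : Odd N) : (gw ^ N) ^ 3 = q3 := by
  obtain ⟨k, rfl⟩ := hN
  rw [← pow_mul, mul_comm, pow_mul, gw_cube, pow_succ, pow_mul, pow_two, q3_sq, one_pow, one_mul]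

end P3W2

/-- P3W2 [M-L]: `j = 2`, `r = 9 + (t+1)`: window gadget `x = (0 8 2)(3 6 5)` on `Fin 9` (fixes `1,4,7`;
as a function `![8,1,0,6,4,3,5,7,2]`), `g = c x = (1 2)(3 7 8)(4 5)`, `g 0 = 0`; TAIL with `m = 0`;
`c v` swaps `1, 2` (EVEN2); `ι = (c v) ^ (3 N) = glue (g ^ 3) 1 = (1 2)(4 5)`,
`tt = ι * (c² ι c⁻²) = (1 2)(4 5)(3 4)(6 7)`, `tt²` is a 3-cycle on `{3,4,5}` (NS3, `d = 1`). -/
theorem P3W2.main (t : ℕ) (ht : Odd t) {p : ℕ} (hp : p.Prime) (hp2 : p ≠ 2) :
    ∃ v : Perm (Fin (8 + 1 + (t + 1))), v.cycleType = Multiset.replicate 2 3 ∧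
      Good p (finRotate (8 + 1 + (t + 1))) v := by
  obtain ⟨b, N, hb, hN, hpow, happ⟩ := TAIL.main 8 t ht P3W2.xw P3W2.gw_zero 0
    (by intro y hy; simp at hy) (by simp)
  set c : Perm (Fin (8 + 1 + (t + 1))) := finRotate (8 + 1 + (t + 1)) with hc
  refine ⟨glue P3W2.xw b, ?_, ?_, ?_⟩
  · rw [GLUECT.main, hb, add_zero, P3W2.xw_cycleType]
  · -- the product swaps two points
    have h1 := happ 1 (by decide)
    have h2 := happ 2 (by decide)
    have e1 : (finRotate (8 + 1) * P3W2.xw) 1 = 2 := P3W2.gw_one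
    have e2 : (finRotate (8 + 1) * P3W2.xw) 2 = 1 := P3W2.gw_two
    rw [e1] at h1
    rw [e2] at h2
    refine EVEN2.main hp hp2 _ ?_ h1 h2
    intro hh
    have := Fin.castAdd_injective _ _ hh
    revert this
    decide
  · -- non-solvability
    set Kc : Subgroup (Perm (Fin (8 + 1 + (t + 1)))) :=
      Subgroup.closure ({c, glue P3W2.xw b} : Set (Perm (Fin (8 + 1 + (t + 1))))) with hKc
    have hcK : c ∈ Kc := Subgroup.subset_closure (by simp)
    have hvK : glue P3W2.xw b ∈ Kc := Subgroup.subset_closure (by simp)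
    have hι : glue P3W2.q3 (1 : Perm (Fin (t + 1))) ∈ Kc := by
      have h1 : ((c * glue P3W2.xw b) ^ N) ^ 3 ∈ Kc :=
        Kc.pow_mem (Kc.pow_mem (Kc.mul_mem hcK hvK) N) 3
      rw [hpow, GLUEALG.pow, one_pow] at h1
      have e : (finRotate (8 + 1) * P3W2.xw) ^ N = P3W2.gw ^ N := rfl
      rw [e, P3W2.gw_pow_cube hN] at h1
      exact h1
    have hι1 : glue (finRotate (8 + 1) * P3W2.q3 * (finRotate (8 + 1))⁻¹) (1 : Perm (Fin (t + 1))) ∈ Kc := by
      rw [← P3W2.conj_rot 8 t P3W2.q3 P3W2.q3_last]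
      exact Kc.mul_mem (Kc.mul_mem hcK hι) (Kc.inv_mem hcK)
    have hι2 : glue (finRotate (8 + 1) * (finRotate (8 + 1) * P3W2.q3 * (finRotate (8 + 1))⁻¹) *
        (finRotate (8 + 1))⁻¹) (1 : Perm (Fin (t + 1))) ∈ Kc := by
      rw [← P3W2.conj_rot 8 t _ P3W2.q3_conj_last]
      exact Kc.mul_mem (Kc.mul_mem hcK hι1) (Kc.inv_mem hcK)
    have htt : glue (swap 3 5 * swap 3 4 : Perm (Fin (8 + 1))) (1 : Perm (Fin (t + 1))) ∈ Kc := by
      have h1 := Kc.mul_mem (Kc.mul_mem hι hι2) (Kc.mul_mem hι hι2)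
      have e11 : (1 : Perm (Fin (t + 1))) = 1 * 1 := (mul_one 1).symm
      rw [← GLUEALG.mul, ← GLUEALG.mul, mul_one, mul_one, P3W2.word_sq] at h1
      exact h1
    have hsw : glue (swap 3 5 * swap 3 4 : Perm (Fin (8 + 1))) (1 : Perm (Fin (t + 1))) =
        swap (Fin.castAdd (t + 1) (3 : Fin (8 + 1))) (Fin.castAdd (t + 1) 5) *
          swap (Fin.castAdd (t + 1) (3 : Fin (8 + 1))) (Fin.castAdd (t + 1) 4) := by
      have e11 : (1 : Perm (Fin (t + 1))) = 1 * 1 := (mul_one 1).symm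
      rw [e11, GLUEALG.mul, GLUEALG.swap_left, GLUEALG.swap_left]
    rw [hsw] at htt
    have hne : ∀ i j : Fin (8 + 1), i ≠ j → Fin.castAdd (t + 1) i ≠ Fin.castAdd (t + 1) j :=
      fun i j hij hh => hij (Fin.castAdd_injective _ _ hh)
    have h35 := hne 3 5 (by decide)
    have h34 := hne 3 4 (by decide)
    have h54 := hne 5 4 (by decide)
    have h3c : (swap (Fin.castAdd (t + 1) (3 : Fin (8 + 1))) (Fin.castAdd (t + 1) 5) *
        swap (Fin.castAdd (t + 1) (3 : Fin (8 + 1))) (Fin.castAdd (t + 1) 4)).IsThreeCycle :=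
      isThreeCycle_swap_mul_swap_same h35 h34 h54
    have hr : Odd (8 + 1 + (t + 1)) := by
      obtain ⟨k, rfl⟩ := ht
      exact ⟨k + 5, by ring⟩
    refine NS3.main hr (by omega) Kc hcK htt h3c (x := Fin.castAdd (t + 1) (3 : Fin (8 + 1)))
      (d := 1) (Nat.coprime_one_left _) ?_
    rw [Perm.mul_apply, swap_apply_left, swap_apply_of_ne_of_ne h34.symm h54.symm, pow_one]
    apply Fin.ext
    have hnl : Fin.castAdd (t + 1) (3 : Fin (8 + 1)) ≠ Fin.last (8 + 1 + t) := by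
      intro hh
      have := congrArg Fin.val hh
      simp at this
      omega
    have h4 := @coe_finRotate_of_ne_last (8 + 1 + t) (Fin.castAdd (t + 1) (3 : Fin (8 + 1))) hnl
    exact Eq.trans rfl h4.symm

end Cfsg.Agent.S2276P
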