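import Mathlib
import Cfsg.Agent.Helper13.S2276Defs
import Cfsg.Agent.Helper4.S2276NS3

set_option autoImplicit false

/-! # S2276 piece IOTA (helper4, hedge): the rotation `c` and `(2 4)(1 3)` generate a non-solvable group. -/

namespace Cfsg.Agent.S2276P

open Equiv Equiv.Perm

/-- IOTA [M]: `c` and `ι = (2 4)(1 3)` in `K` (points given by their values): `ι * (c ι c⁻¹) =
(1 3)(3 5')` (`5' = c 4`, which is `0` if `r = 5`) is a 3-cycle (`isThreeCycle_swap_mul_swap_same`)
moving `1` to `3 = c ^ 2 1`; NS3. -/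
theorem IOTA.main {r : ℕ} (hr : Odd r) (h5 : 5 ≤ r) (K : Subgroup (Perm (Fin r)))
    (hc : finRotate r ∈ K) {x1 x2 x3 x4 : Fin r} (h1 : x1.val = 1) (h2 : x2.val = 2)
    (h3 : x3.val = 3) (h4 : x4.val = 4) (hι : swap x2 x4 * swap x1 x3 ∈ K) :
    ¬ Group.IsSolvable K := by
  obtain ⟨n, rfl⟩ : ∃ n, r = n + 1 := ⟨r - 1, by omega⟩
  set c : Perm (Fin (n + 1)) := finRotate (n + 1) with hcdef
  have hval : ∀ i : Fin (n + 1), i.val < n → (c i).val = i.val + 1 := by
    intro i hi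
    apply coe_finRotate_of_ne_last
    intro hh
    rw [hh, Fin.val_last] at hi
    exact lt_irrefl _ hi
  have hc12 : c x1 = x2 := Fin.ext (by rw [hval x1 (by omega), h1, h2])
  have hc23 : c x2 = x3 := Fin.ext (by rw [hval x2 (by omega), h2, h3])
  have hc34 : c x3 = x4 := Fin.ext (by rw [hval x3 (by omega), h3, h4])
  obtain ⟨x5, hx5⟩ : ∃ x5, x5 = c x4 := ⟨_, rfl⟩
  have hx5val : x5.val = 0 ∨ x5.val = 5 := by
    rw [hx5, hcdef, coe_finRotate]
    split_ifs
    · left; rfl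
    · right; rw [h4]
  have hne : ∀ {a b : Fin (n + 1)}, a.val ≠ b.val → a ≠ b := fun h hh => h (congrArg Fin.val hh)
  have h13 : x1 ≠ x3 := hne (by omega)
  have h15 : x1 ≠ x5 := hne (by omega)
  have h35 : x3 ≠ x5 := hne (by omega)
  have h21 : x2 ≠ x1 := hne (by omega)
  have h23 : x2 ≠ x3 := hne (by omega)
  have h25 : x2 ≠ x5 := hne (by omega)
  have h41 : x4 ≠ x1 := hne (by omega)
  have h43 : x4 ≠ x3 := hne (by omega)
  have h45 : x4 ≠ x5 := hne (by omega)
  -- the conjugate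
  have hconj : c * (swap x2 x4 * swap x1 x3) * c⁻¹ = swap x3 x5 * swap x2 x4 := by
    have e : c * (swap x2 x4 * swap x1 x3) * c⁻¹ =
        (c * swap x2 x4 * c⁻¹) * (c * swap x1 x3 * c⁻¹) := by group
    rw [e, ← swap_apply_apply, ← swap_apply_apply, hc12, hc23, hc34, ← hx5]
  have hT : swap x3 x1 * swap x3 x5 ∈ K := by
    have h0 := K.mul_mem hι (K.mul_mem (K.mul_mem hc hι) (K.inv_mem hc))
    rw [hconj] at h0
    have e : swap x2 x4 * swap x1 x3 * (swap x3 x5 * swap x2 x4) =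
        (swap x2 x4 * swap x1 x3 * (swap x2 x4)⁻¹) * (swap x2 x4 * swap x3 x5 * (swap x2 x4)⁻¹) := by
      rw [swap_inv]
      have hs : swap x2 x4 * swap x2 x4 = 1 := swap_mul_self x2 x4
      calc swap x2 x4 * swap x1 x3 * (swap x3 x5 * swap x2 x4)
          = swap x2 x4 * swap x1 x3 * 1 * (swap x3 x5 * swap x2 x4) := by rw [mul_one]
        _ = swap x2 x4 * swap x1 x3 * (swap x2 x4 * swap x2 x4) * (swap x3 x5 * swap x2 x4) := by
            rw [hs]
        _ = _ := by simp only [mul_assoc]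
    rw [e, ← swap_apply_apply, ← swap_apply_apply,
      swap_apply_of_ne_of_ne h21.symm h41.symm, swap_apply_of_ne_of_ne h23.symm h43.symm,
      swap_apply_of_ne_of_ne h25.symm h45.symm, swap_comm x1 x3] at h0
    exact h0
  have h3c : (swap x3 x1 * swap x3 x5).IsThreeCycle :=
    isThreeCycle_swap_mul_swap_same h13.symm h35 h15
  refine NS3.main hr h5 K hc hT h3c (x := x1) (d := 2) (Nat.coprime_two_left.mpr hr) ?_
  rw [Perm.mul_apply, swap_apply_of_ne_of_ne h13 h15, swap_apply_right, pow_two, Perm.mul_apply,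
    ← hcdef, hc12, hc23]

end Cfsg.Agent.S2276P
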