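import Mathlib
import Cfsg.Agent.Helper13.S2276Defs
import Cfsg.Agent.Helper12.S2276UC1
import Cfsg.Agent.Helper23.S2276RCYCODD

set_option autoImplicit false

/-! # S2276 piece UC (helper4): some part is at least 5. -/

namespace Cfsg.Agent.S2276P

open Equiv Equiv.Perm

namespace UC

/-- a multiset of numbers `≥ 3` with sum `0` is empty -/
theorem eq_zero_of_sum {m : Multiset ℕ} (hm : ∀ y ∈ m, Odd y ∧ 3 ≤ y) (h0 : m.sum = 0) : m = 0 := by
  induction m using Multiset.induction_on with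
  | empty => rfl
  | cons a s _ =>
    exfalso
    have h3 := (hm a (Multiset.mem_cons_self a s)).2
    rw [Multiset.sum_cons] at h0
    omega

/-- cycle type of the rotation -/
theorem cycleType_rot {r : ℕ} (h2 : 2 ≤ r) : (finRotate r).cycleType = {r} := by
  obtain ⟨k, rfl⟩ : ∃ k, r = k + 2 := ⟨r - 2, by omega⟩
  exact cycleType_finRotate

end UC

/-- UC [M]: some part is `≥ 5`: `m = ℓ ::ₘ m'`; `ℓ = r`: RCYCODD (`v = τ c⁻¹ τ⁻¹`, type `{r}`); `ℓ < r`: `r = ℓ + (t+1)`, `t` odd, UC1
(`subst`). -/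
theorem UC.main {r : ℕ} (hr : Odd r) {p : ℕ} (hp : p.Prime) (hp2 : p ≠ 2) (m : Multiset ℕ)
    (hm : ∀ y ∈ m, Odd y ∧ 3 ≤ y) (hsum : m.sum ≤ r) (h5 : ∃ y ∈ m, 5 ≤ y) :
    ∃ v : Perm (Fin r), v.cycleType = m ∧ Good p (finRotate r) v := by
  classical
  obtain ⟨l, hl, hl5⟩ := h5
  have hlodd : Odd l := (hm l hl).1
  have hcons : l ::ₘ m.erase l = m := Multiset.cons_erase hl
  have hm' : ∀ y ∈ m.erase l, Odd y ∧ 3 ≤ y := fun y hy => hm y (Multiset.mem_of_mem_erase hy)
  have hsum' : l + (m.erase l).sum ≤ r := by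
    rw [← Multiset.sum_cons, hcons]; exact hsum
  rcases Nat.lt_or_ge l r with hlt | hge
  · -- `l < r`
    obtain ⟨a, ha⟩ : ∃ a, l = a + 1 := ⟨l - 1, by omega⟩
    have haeven : Even a := by
      rcases Nat.even_or_odd a with h | h
      · exact h
      · exfalso
        have : Even l := by rw [ha]; exact h.add_one
        exact (Nat.not_even_iff_odd.mpr hlodd) this
    have hrl : Even (r - l) := Nat.Odd.sub_odd hr hlodd
    obtain ⟨t, ht⟩ : ∃ t, r - l = t + 1 := ⟨r - l - 1, by omega⟩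
    have htodd : Odd t := by
      rcases Nat.even_or_odd t with h | h
      · exfalso
        have : Odd (r - l) := by rw [ht]; exact h.add_one
        exact (Nat.not_even_iff_odd.mpr this) hrl
      · exact h
    have hr' : r = a + 1 + (t + 1) := by omega
    subst hr'
    obtain ⟨v, hv, hgood⟩ := UC1.main a t haeven (by omega) htodd hp hp2 (m.erase l) hm'
      (by omega)
    refine ⟨v, ?_, hgood⟩
    rw [hv, Multiset.singleton_add, ← ha, hcons]
  · -- `l = r`
    have hlr : l = r := by omega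
    have h0 : (m.erase l).sum = 0 := by omega
    have hm0 : m.erase l = 0 := UC.eq_zero_of_sum hm' h0
    have hmr : m = {r} := by
      rw [← hcons, hm0, hlr]; rfl
    obtain ⟨τ, -, hgood⟩ := RCYCODD.main hr (by omega) hp hp2 (p := p)
    refine ⟨τ * (finRotate r)⁻¹ * τ⁻¹, ?_, hgood⟩
    rw [cycleType_conj, cycleType_inv, UC.cycleType_rot (by omega), hmr]

end Cfsg.Agent.S2276P
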