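import Mathlib
import Cfsg.Prelude.Def_Classical
import Cfsg.Agent.Helper13.S2496Defs

/-! S2496 piece MFORM (driver helper13; helper4): the model Hermitian form on `K × K`. -/

set_option autoImplicit false

namespace Cfsg.Agent.S2496P

variable {F K : Type*} [Field F] [Fintype F] [Field K] [Algebra F K] [Finite K] {p : ℕ}
  [Fact p.Prime] [CharP F p] [CharP K p] {f q : ℕ}

namespace MFORM

theorem frob_algebraMap' (c : F) :
    frob K p f (algebraMap F K c) = algebraMap F K (frob F p f c) := by
  rw [frob_apply, frob_apply, map_pow]

theorem frob_frob_F' (hq : q = p ^ f) (hF : Fintype.card F = q ^ 2) (c : F) :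
    frob F p f (frob F p f c) = c := by
  rw [frob_apply, frob_apply, ← pow_mul, ← hq, ← pow_two, ← hF, FiniteField.pow_card]

theorem frob_injective (R : Type*) [Field R] [CharP R p] : Function.Injective (frob R p f) :=
  (frob R p f).injective

theorem frob_K_surjective : Function.Surjective (frob K p f) :=
  Finite.surjective_of_injective (frob_injective K)

/-- the trace form of `K / F` is nondegenerate -/
theorem eq_zero_of_trace (x : K) (h : ∀ y, Algebra.trace F K (x * y) = 0) : x = 0 := by
  apply (traceForm_nondegenerate F K).1 x
  intro y
  rw [Algebra.traceForm_apply]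
  exact h y

theorem trace_smul_mul (c : F) (x y : K) :
    Algebra.trace F K ((c • x) * y) = c * Algebra.trace F K (x * y) := by
  rw [smul_mul_assoc, map_smul, smul_eq_mul]

theorem trace_mul_frob_smul (c : F) (x y : K) :
    Algebra.trace F K (x * frob K p f (c • y)) =
      frob F p f c * Algebra.trace F K (x * frob K p f y) := by
  rw [Algebra.smul_def, map_mul (frob K p f), frob_algebraMap', ← Algebra.smul_def, mul_smul_comm, map_smul,
    smul_eq_mul]

end MFORM

open MFORM

theorem mform_add_left (u u' v : K × K) :
    mform F K p f (u + u') v = mform F K p f u v + mform F K p f u' v := by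
  unfold mform
  simp only [Prod.fst_add, Prod.snd_add, add_mul, mul_add, map_add]
  abel

theorem mform_add_right (u v v' : K × K) :
    mform F K p f u (v + v') = mform F K p f u v + mform F K p f u v' := by
  unfold mform
  simp only [Prod.fst_add, Prod.snd_add, add_mul, mul_add, map_add]
  abel

theorem mform_smul_left (hq : q = p ^ f) (hF : Fintype.card F = q ^ 2) (c : F) (u v : K × K) :
    mform F K p f (c • u) v = c * mform F K p f u v := by
  unfold mform
  rw [Prod.smul_fst, Prod.smul_snd, trace_smul_mul, trace_mul_frob_smul, map_mul (frob F p f),
    frob_frob_F' hq hF, mul_add]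

theorem mform_smul_right (c : F) (u v : K × K) :
    mform F K p f u (c • v) = frob F p f c * mform F K p f u v := by
  unfold mform
  rw [Prod.smul_fst, Prod.smul_snd, trace_smul_mul, trace_mul_frob_smul, map_mul (frob F p f), mul_add]

theorem mform_symm (hq : q = p ^ f) (hF : Fintype.card F = q ^ 2) (u v : K × K) :
    mform F K p f v u = frob F p f (mform F K p f u v) := by
  unfold mform
  rw [map_add, frob_frob_F' hq hF, add_comm]

theorem mform_nondeg (u : K × K) (h : ∀ v, mform F K p f u v = 0) : u = 0 := by
  have h1 : u.1 = 0 := by
    apply eq_zero_of_trace (F := F)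
    intro y
    obtain ⟨z, rfl⟩ := frob_K_surjective (p := p) (f := f) y
    have := h (0, z)
    unfold mform at this
    simpa using this
  have h2 : u.2 = 0 := by
    have h3 : frob K p f u.2 = 0 := by
      apply eq_zero_of_trace (F := F)
      intro y
      have := h (y, 0)
      unfold mform at this
      simp only [map_zero, mul_zero, zero_add] at this
      have h4 := frob_injective (p := p) (f := f) F (this.trans (map_zero _).symm)
      rw [mul_comm]
      exact h4
    exact frob_injective (p := p) (f := f) K (h3.trans (map_zero _).symm)
  exact Prod.ext h1 h2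

end Cfsg.Agent.S2496P
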