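import Mathlib
import Cfsg.Prelude.Def_Transfer
import Cfsg.Agent.Helper4.S4404Defs
import Cfsg.Agent.S0055
import Cfsg.Agent.S0027
import Cfsg.Agent.Helper26.Basic

/-! Board `s4404pieces`, rows WCONJ, WSAME, WNORM, WCOP, WU : basics on `Wc M g = [M, g]`. -/

set_option autoImplicit false
set_option linter.unusedVariables false
set_option linter.unusedSectionVars false

namespace Cfsg.Agent.S4404P

open Subgroup
open scoped commutatorElement

variable {S : Type*} [Group S] [Finite S]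

/-- WCONJ : `[M, h⁻¹ g h] = h⁻¹ [M, g] h`. -/
theorem Wc_conj (M : Subgroup S) [M.Normal] (g h : S) :
    Wc M (h⁻¹ * g * h) = (Wc M g).map (MulAut.conj h⁻¹).toMonoidHom := by
  unfold Wc
  rw [map_commutator, MonoidHom.map_zpowers]
  have h1 : M.map (MulAut.conj h⁻¹).toMonoidHom = M := by
    have := Subgroup.Normal.conj_smul_eq_self h⁻¹ M
    rwa [Subgroup.pointwise_smul_def] at this
  have h2 : (MulAut.conj h⁻¹).toMonoidHom g = h⁻¹ * g * h := by
    simp
  rw [h1, h2]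

theorem WSAME_aux_inv (M : Subgroup S) [M.Normal] (g g' : S)
    (h : ∀ m ∈ M, g * m * g⁻¹ = g' * m * g'⁻¹) : ∀ m ∈ M, g⁻¹ * m * g = g'⁻¹ * m * g' := by
  intro m hm
  have hm' : g⁻¹ * m * g ∈ M := by
    have := Subgroup.Normal.conj_mem (inferInstance : M.Normal) m hm g⁻¹
    simpa using this
  have h1 := h (g⁻¹ * m * g) hm'
  have h2 : g * (g⁻¹ * m * g) * g⁻¹ = m := by group
  rw [h2] at h1
  have e : g'⁻¹ * m * g' = g'⁻¹ * (g' * (g⁻¹ * m * g) * g'⁻¹) * g' := by rw [← h1]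
  rw [e]
  group

theorem WSAME_aux_pow (M : Subgroup S) [M.Normal] (g g' : S)
    (h : ∀ m ∈ M, g * m * g⁻¹ = g' * m * g'⁻¹) (k : ℕ) :
    ∀ m ∈ M, g ^ k * m * (g ^ k)⁻¹ = g' ^ k * m * (g' ^ k)⁻¹ := by
  induction k with
  | zero => intro m _; simp
  | succ k ih =>
    intro m hm
    have hm' : g * m * g⁻¹ ∈ M := Subgroup.Normal.conj_mem (inferInstance : M.Normal) m hm g
    have h1 := ih (g * m * g⁻¹) hm'
    have e1 : g ^ (k + 1) * m * (g ^ (k + 1))⁻¹ = g ^ k * (g * m * g⁻¹) * (g ^ k)⁻¹ := by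
      rw [pow_succ]; group
    have e2 : g' ^ (k + 1) * m * (g' ^ (k + 1))⁻¹ = g' ^ k * (g' * m * g'⁻¹) * (g' ^ k)⁻¹ := by
      rw [pow_succ]; group
    rw [e1, e2, h1, h m hm]

theorem WSAME_aux_zpow (M : Subgroup S) [M.Normal] (g g' : S)
    (h : ∀ m ∈ M, g * m * g⁻¹ = g' * m * g'⁻¹) (k : ℤ) :
    ∀ m ∈ M, g ^ k * m * (g ^ k)⁻¹ = g' ^ k * m * (g' ^ k)⁻¹ := by
  intro m hm
  rcases Int.eq_nat_or_neg k with ⟨n, rfl | rfl⟩
  · simpa using WSAME_aux_pow M g g' h n m hm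
  · have hinv := WSAME_aux_inv M g g' h
    have hinv' : ∀ m ∈ M, g⁻¹ * m * g⁻¹⁻¹ = g'⁻¹ * m * g'⁻¹⁻¹ := by
      intro m hm; simpa using hinv m hm
    have := WSAME_aux_pow M g⁻¹ g'⁻¹ hinv' n m hm
    simpa using this

theorem WSAME_aux_le (M : Subgroup S) [M.Normal] (g g' : S)
    (h : ∀ m ∈ M, g * m * g⁻¹ = g' * m * g'⁻¹) : Wc M g ≤ Wc M g' := by
  unfold Wc
  rw [commutator_le]
  intro m hm b hb
  obtain ⟨k, rfl⟩ := mem_zpowers_iff.mp hb
  have hm' : m⁻¹ ∈ M := M.inv_mem hm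
  have h1 := WSAME_aux_zpow M g g' h k m⁻¹ hm'
  have e : ⁅m, g ^ k⁆ = ⁅m, g' ^ k⁆ := by
    rw [commutatorElement_def, commutatorElement_def]
    have e1 : m * g ^ k * m⁻¹ * (g ^ k)⁻¹ = m * (g ^ k * m⁻¹ * (g ^ k)⁻¹) := by group
    have e2 : m * g' ^ k * m⁻¹ * (g' ^ k)⁻¹ = m * (g' ^ k * m⁻¹ * (g' ^ k)⁻¹) := by group
    rw [e1, e2, h1]
  rw [e]
  exact commutator_mem_commutator hm (zpow_mem_zpowers g' k)

/-- WSAME : `[M, g]` only depends on the conjugation action of `g` on `M`. -/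
theorem Wc_congr (M : Subgroup S) [M.Normal] (g g' : S)
    (h : ∀ m ∈ M, g * m * g⁻¹ = g' * m * g'⁻¹) : Wc M g = Wc M g' :=
  le_antisymm (WSAME_aux_le M g g' h) (WSAME_aux_le M g' g (fun m hm => (h m hm).symm))

/-- WNORM : `g` normalises every `U` with `[M, g] ≤ U ≤ M`. -/
theorem mem_normalizer_of_Wc_le (M : Subgroup S) [M.Normal] (g : S) (U : Subgroup S) (hUM : U ≤ M)
    (hW : Wc M g ≤ U) : g ∈ normalizer (U : Set S) := by
  rw [mem_normalizer_iff]
  intro u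
  constructor
  · intro hu
    have h1 : ⁅u, g⁆ ∈ Wc M g := commutator_mem_commutator (hUM hu) (mem_zpowers g)
    have h2 : ⁅u, g⁆⁻¹ ∈ U := U.inv_mem (hW h1)
    have e : g * u * g⁻¹ = ⁅u, g⁆⁻¹ * u := by
      rw [commutatorElement_def]; group
    rw [e]
    exact U.mul_mem h2 hu
  · intro hu
    have h1 : ⁅g * u * g⁻¹, g⁻¹⁆ ∈ Wc M g :=
      commutator_mem_commutator (hUM hu) (inv_mem (mem_zpowers g))
    have h2 : ⁅g * u * g⁻¹, g⁻¹⁆⁻¹ ∈ U := U.inv_mem (hW h1)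
    have e : u = ⁅g * u * g⁻¹, g⁻¹⁆⁻¹ * (g * u * g⁻¹) := by
      rw [commutatorElement_def]; group
    rw [e]
    exact U.mul_mem h2 hu

theorem WCOP_aux_coprime (M : Subgroup S) (hM : Cfsg.IsElementaryAbelian 2 M) (g : S) (hg : Odd (orderOf g)) :
    (Nat.card ↥(zpowers g)).Coprime (Nat.card ↥M) := by
  have hp : IsPGroup 2 ↥M := by
    intro m
    refine ⟨1, ?_⟩
    apply Subtype.ext
    simpa using hM.2 m.1 m.2
  obtain ⟨k, hk⟩ := hp.exists_card_eq
  rw [hk, Nat.card_zpowers]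
  exact Nat.Coprime.pow_right k hg.coprime_two_right

/-- WCOP (`S0055`, `S0027` with `A = zpowers g`, `V = M`): coprime action of an element of odd order on `M`. -/
theorem Wc_coprime (M : Subgroup S) [M.Normal] (hM : Cfsg.IsElementaryAbelian 2 M) (g : S) (hg : Odd (orderOf g)) :
    Wc M g ⊓ centralizer (zpowers g : Set S) = ⊥ ∧ ⁅Wc M g, zpowers g⁆ = Wc M g ∧
      Nat.card ↥M = Nat.card ↥(M ⊓ centralizer (zpowers g : Set S)) * Nat.card ↥(Wc M g) := by
  have hcop := WCOP_aux_coprime M hM g hg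
  have : IsMulCommutative ↥M := hM.1
  have hN : zpowers g ≤ normalizer (M : Set S) := by
    intro y _
    have : normalizer (M : Set S) = ⊤ := normalizer_eq_top_iff.mpr inferInstance
    rw [this]; trivial
  obtain ⟨hd1, hd2⟩ := Cfsg.Agent.S0055.result (zpowers g) M hN hcop
  have hWM : Wc M g ≤ M := commutator_le_left M (zpowers g)
  refine ⟨?_, ?_, ?_⟩
  · rw [eq_bot_iff]
    intro y hy
    have : y ∈ (M ⊓ centralizer (zpowers g : Set S)) ⊓ ⁅M, zpowers g⁆ :=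
      ⟨⟨hWM hy.1, hy.2⟩, hy.1⟩
    rw [hd1] at this
    exact this
  · exact Cfsg.Agent.S0027.result (zpowers g) M hN hcop (Or.inl inferInstance)
  · have hnorm : (M ⊓ centralizer (zpowers g : Set S)) ≤ normalizer ((Wc M g : Subgroup S) : Set S) := by
      intro y hy
      rw [mem_normalizer_iff]
      intro w
      have hyM : y ∈ M := hy.1
      constructor
      · intro hw
        have hwM : w ∈ M := hWM hw
        have hc : y * w = w * y := congrArg Subtype.val (mul_comm' (⟨y, hyM⟩ : ↥M) ⟨w, hwM⟩)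
        have : y * w * y⁻¹ = w := by rw [hc]; group
        rwa [this]
      · intro hw
        have hwM : y * w * y⁻¹ ∈ M := hWM hw
        have hwM' : w ∈ M := by
          have := M.mul_mem (M.mul_mem (M.inv_mem hyM) hwM) hyM
          have e : y⁻¹ * (y * w * y⁻¹) * y = w := by group
          rwa [e] at this
        have hc : y * w = w * y := congrArg Subtype.val (mul_comm' (⟨y, hyM⟩ : ↥M) ⟨w, hwM'⟩)
        have : y * w * y⁻¹ = w := by rw [hc]; group
        rwa [this] at hw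
    have hprod := Cfsg.Agent.Helper26.card_sup_mul_card_inf hnorm
    unfold Wc at hprod ⊢
    rw [hd2, hd1, card_bot, mul_one] at hprod
    exact hprod

/-- WU : if `[M, g] ≤ U ≤ M` then `[U, g] = [M, g]`. -/
theorem comm_eq_Wc_of_le (M : Subgroup S) [M.Normal] (hM : Cfsg.IsElementaryAbelian 2 M) (g : S)
    (hg : Odd (orderOf g)) (U : Subgroup S) (hUM : U ≤ M) (hW : Wc M g ≤ U) :
    ⁅U, zpowers g⁆ = Wc M g := by
  apply le_antisymm
  · exact commutator_mono hUM le_rfl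
  · have h := (Wc_coprime M hM g hg).2.1
    calc Wc M g = ⁅Wc M g, zpowers g⁆ := h.symm
      _ ≤ ⁅U, zpowers g⁆ := commutator_mono hW le_rfl

end Cfsg.Agent.S4404P
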