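import Mathlib
import Cfsg.Agent.Helper11.S4409Defs
import Cfsg.Agent.Helper1.UniqueOrderP

/-!
# Board `s4409pieces`, row AB8

A non-cyclic abelian `2`-group of order at least `8` contains a non-cyclic (abelian) subgroup of order `8`.
-/

set_option autoImplicit false
set_option linter.unusedVariables false

namespace Cfsg.Agent.S4409P

open Subgroup

/-- commutative ambient version: a non-cyclic finite abelian `2`-group of order `≥ 8` has a non-cyclic subgroup
of order `8`. -/
theorem AB8_aux_comm {G : Type*} [CommGroup G] [Finite G] (hG : IsPGroup 2 G) (hnc : ¬ IsCyclic G)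
    (h8 : 8 ≤ Nat.card G) : ∃ A : Subgroup G, ¬ IsCyclic ↥A ∧ Nat.card ↥A = 8 := by
  classical
  have : Fact (Nat.Prime 2) := ⟨Nat.prime_two⟩
  -- two distinct subgroups of order two
  have hnu : ¬ Cfsg.Agent.Helper1.UniqP 2 G := fun h =>
    hnc (Cfsg.Agent.Helper1.UniqP.isCyclic_of_commGroup hG h)
  unfold Cfsg.Agent.Helper1.UniqP at hnu
  push Not at hnu
  obtain ⟨H, K, hH, hK, hne⟩ := hnu
  -- the subgroup of elements of order dividing two
  set Ω : Subgroup G := (powMonoidHom 2 : G →* G).ker with hΩ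
  have hmemΩ : ∀ x : G, x ∈ Ω ↔ x ^ 2 = 1 := by
    intro x
    rw [hΩ, MonoidHom.mem_ker, powMonoidHom_apply]
  have hle : ∀ L : Subgroup G, Nat.card ↥L = 2 → L ≤ Ω := by
    intro L hL x hx
    rw [hmemΩ]
    have h1 : (⟨x, hx⟩ : ↥L) ^ 2 = 1 := by
      rw [← hL]; exact pow_card_eq_one'
    exact congrArg Subtype.val h1
  have hHΩ := hle H hH
  have hKΩ := hle K hK
  -- `Ω` has at least four elements
  obtain ⟨k, hk⟩ := (hG.to_subgroup Ω).exists_card_eq
  have hk2 : Nat.card ↥Ω ≠ 2 := by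
    intro h2
    have e1 : H = Ω := eq_of_le_of_card_ge hHΩ (by rw [h2, hH])
    have e2 : K = Ω := eq_of_le_of_card_ge hKΩ (by rw [h2, hK])
    exact hne (e1.trans e2.symm)
  have hk1 : 2 ≤ Nat.card ↥Ω := by
    rw [← hH]; exact card_le_of_le hHΩ
  have hkk : 2 ≤ k := by
    rcases k with _ | _ | k
    · rw [hk] at hk1; norm_num at hk1
    · rw [hk] at hk2; norm_num at hk2
    · omega
  have h4 : 2 ^ 2 ≤ Nat.card ↥Ω := by
    rw [hk]; exact Nat.pow_le_pow_right (by norm_num) hkk
  -- a four-subgroup inside `Ω`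
  obtain ⟨V, hVΩ, hV⟩ := Sylow.exists_subgroup_le_card_pow_prime_of_le_card Nat.prime_two hG h4
  -- a subgroup of order eight above it
  obtain ⟨m, hm⟩ := hG.exists_card_eq
  have hm3 : 3 ≤ m := by
    by_contra hlt
    push Not at hlt
    have : 2 ^ m ≤ 2 ^ 2 := Nat.pow_le_pow_right (by norm_num) (by omega)
    rw [hm] at h8
    omega
  have hdvd : 2 ^ (2 + 1) ∣ Nat.card G := by
    rw [hm]; exact pow_dvd_pow 2 hm3
  obtain ⟨A, hA, hVA⟩ := Sylow.exists_subgroup_card_pow_succ hdvd hV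
  refine ⟨A, ?_, by rw [hA]; norm_num⟩
  intro hcyc
  have : Fintype ↥A := Fintype.ofFinite _
  have hle2 := IsCyclic.card_pow_eq_one_le (α := ↥A) (n := 2) (by norm_num)
  -- the four elements of `V` give four solutions of `a ^ 2 = 1` in `A`
  have hinj : Nat.card ↥V ≤ (Finset.univ.filter (fun a : ↥A => a ^ 2 = 1)).card := by
    rw [← Fintype.card_subtype, ← Nat.card_eq_fintype_card]
    refine Nat.card_le_card_of_injective
      (fun v : ↥V => (⟨⟨v.1, hVA v.2⟩, ?_⟩ : {a : ↥A // a ^ 2 = 1})) ?_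
    · apply Subtype.ext
      have := (hmemΩ v.1).mp (hVΩ v.2)
      simpa using this
    · intro a b hab
      apply Subtype.ext
      have := congrArg (fun z : {a : ↥A // a ^ 2 = 1} => ((z : ↥A) : G)) hab
      simpa using this
  rw [hV] at hinj
  omega

variable {S : Type*} [Group S] [Finite S]

/-- AB8 : a non-cyclic abelian `2`-group of order `≥ 8` contains a non-cyclic (abelian) subgroup of order `8`
(a Klein four subgroup `V ≤ B` exists; take a subgroup of order `8` containing it). -/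
theorem hasA_of_abelian (B : Subgroup S) (hB : IsPGroup 2 ↥B) (hc : IsAb B)
    (hnc : ¬ IsCyclic ↥B) (h8 : 8 ≤ Nat.card ↥B) : HasA B := by
  let _ : CommGroup ↥B :=
    { (inferInstance : Group ↥B) with
      mul_comm := fun a b => Subtype.ext (hc a.1 a.2 b.1 b.2) }
  obtain ⟨A, hAnc, hA8⟩ := AB8_aux_comm (G := ↥B) hB hnc h8
  refine ⟨A.map B.subtype, map_subtype_le A, ?_, ?_, ?_⟩
  · refine ⟨⟨?_⟩⟩
    rintro ⟨x, hx⟩ ⟨y, hy⟩
    apply Subtype.ext
    obtain ⟨x', _, rfl⟩ := hx
    obtain ⟨y', _, rfl⟩ := hy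
    exact hc _ x'.2 _ y'.2
  · intro hcyc
    apply hAnc
    let e : ↥A ≃* ↥(A.map B.subtype) := A.equivMapOfInjective B.subtype B.subtype_injective
    exact isCyclic_of_surjective e.symm.toMonoidHom e.symm.surjective
  · rw [card_map_of_injective B.subtype_injective, hA8]

end Cfsg.Agent.S4409P
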