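import Mathlib
import Cfsg.Agent.Helper25.S5165.Defs

set_option autoImplicit false
set_option linter.unusedSectionVars false
set_option linter.unusedVariables false

/-! S5165 piece LEGENDRE (helper4; driver helper25): Legendre's formula in the form
`ν_p((p m + r)!) = m + ν_p(m!)` for `r < p`. -/

namespace Cfsg.Agent.S5165P

open Equiv

section lib

variable {p : ℕ} [Fact p.Prime] {I : Type} [Fintype I] [DecidableEq I] {r : ℕ}

theorem LEGENDRE.factorization_factorial (m r : ℕ) (hr : r < p) :
    (p * m + r).factorial.factorization p = m + m.factorial.factorization p := by
  have hp : p.Prime := Fact.out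
  rw [Nat.factorization_def _ hp, Nat.factorization_def _ hp, padicValNat_factorial_mul_add m hr,
    padicValNat_factorial_mul, add_comm]

end lib

end Cfsg.Agent.S5165P
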