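import Mathlib
import Cfsg.Agent.Helper3.S5655EVDefs
import Cfsg.Agent.Helper20.S5655EVMONO
import Cfsg.Agent.Helper14.S5655EVQ2FIELD

set_option autoImplicit false

/-! # S5655 k = 1, chapter "q EVEN", piece Q2SIX (helper4): from a centre of weight `≥ 6` to a centre of
weight `6` (`q = 2`). -/

namespace Cfsg.Agent.S5655K1.EV

open Matrix
open Cfsg.Agent.S2644 Cfsg.Agent.Helper2.SUGen Cfsg.Agent.Helper28.SimMax Cfsg.Agent.S5658P

variable {K : Type*} [Field K] {q n : ℕ}

local notation "h" => Cfsg.hermForm n K q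
local notation "T" => Cfsg.unitaryTransvection n q

namespace Q2SIX

/-- a sum over `univ` of a function vanishing outside `S` -/
theorem sum_eq_of_supp (S : Finset (Fin n)) (f : Fin n → K) (hf : ∀ i, i ∉ S → f i = 0) :
    ∑ i, f i = ∑ i ∈ S, f i := by
  symm
  apply Finset.sum_subset (Finset.subset_univ S)
  intro i _ hi
  exact hf i hi

end Q2SIX

/-! ## Q2SIX (M): from a centre of weight `≥ 6` to a centre of weight 6:
`A = mono 1 d`, `d = ω` on three points of `supp v`, `ω + 1` on three others, `1` elsewhere; `h (A v) v = 1`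
(`wt v` even), `u = T v 1 (A v) = A v + v` has weight 6. -/

theorem Q2SIX.main [Fintype K] (D : Frob K 2) (hK : Fintype.card K = 2 ^ 2)
    {M : Subgroup (Matrix.GeneralLinearGroup (Fin n) K)} (hM : Over 2 M)
    {v : Fin n → K} (hvv : Cfsg.hermForm n K 2 v v = 0) (h6 : 6 ≤ wt v)
    (hT : Cfsg.unitaryTransvection n 2 v (1 : K) ∈ MS M) :
    ∃ u : Fin n → K, Cfsg.hermForm n K 2 u u = 0 ∧ wt u = 6 ∧
      Cfsg.unitaryTransvection n 2 u (1 : K) ∈ MS M := by
  classical
  have h2 : (2 : K) = 0 := Q2FIELD.two_eq_zero hK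
  obtain ⟨ω, hω2, hσω, hω0, hω10, -⟩ := Q2FIELD.exists_omega D hK
  have hadd : ∀ x : K, x + x = 0 := by
    intro x
    have : x + x = 2 * x := by ring
    rw [this, h2, zero_mul]
  -- six points of the support
  obtain ⟨S, hSsub, hScard⟩ := Finset.exists_subset_card_eq (s := supp v) h6
  obtain ⟨S1, hS1sub, hS1card⟩ := Finset.exists_subset_card_eq (s := S) (n := 3) (by omega)
  set S2 : Finset (Fin n) := S \ S1 with hS2
  have hS2card : S2.card = 3 := by
    rw [hS2, Finset.card_sdiff_of_subset hS1sub, hScard, hS1card]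
  have hS1v : ∀ i ∈ S1, v i ≠ 0 := fun i hi => mem_supp.mp (hSsub (hS1sub hi))
  have hS2v : ∀ i ∈ S2, v i ≠ 0 := fun i hi => mem_supp.mp (hSsub (Finset.mem_sdiff.mp hi).1)
  have hdisj : ∀ i, i ∈ S1 → i ∉ S2 := fun i hi hi2 => (Finset.mem_sdiff.mp hi2).2 hi
  -- the diagonal matrix
  set d1 : Fin n → K := fun i => if i ∈ S1 then ω else 1 with hd1
  set d2 : Fin n → K := fun i => if i ∈ S2 then ω + 1 else 1 with hd2
  set d : Fin n → K := fun i => d1 i * d2 i with hd
  have hdS1 : ∀ i ∈ S1, d i = ω := by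
    intro i hi
    simp only [hd, hd1, hd2, if_pos hi, if_neg (hdisj i hi), mul_one]
  have hdS2 : ∀ i ∈ S2, d i = ω + 1 := by
    intro i hi
    have hi1 : i ∉ S1 := fun h1 => hdisj i h1 hi
    simp only [hd, hd1, hd2, if_pos hi, if_neg hi1, one_mul]
  have hdout : ∀ i, i ∉ S1 → i ∉ S2 → d i = 1 := by
    intro i hi1 hi2
    simp only [hd, hd1, hd2, if_neg hi1, if_neg hi2, mul_one]
  have hdne : ∀ i, d i ≠ 0 := by
    intro i
    by_cases hi1 : i ∈ S1
    · rw [hdS1 i hi1]; exact hω0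
    · by_cases hi2 : i ∈ S2
      · rw [hdS2 i hi2]; exact hω10
      · rw [hdout i hi1 hi2]; exact one_ne_zero
  have hdU : ∀ j, d j * D.σ (d j) = 1 := fun j => Q2FIELD.norm_one D hK (hdne j)
  have hprod : ∏ j, d j = 1 := by
    have e1 : ∏ j, d1 j = ω ^ 3 := by
      rw [hd1, Finset.prod_ite_mem, Finset.univ_inter, Finset.prod_const, hS1card]
    have e2 : ∏ j, d2 j = (ω + 1) ^ 3 := by
      rw [hd2, Finset.prod_ite_mem, Finset.univ_inter, Finset.prod_const, hS2card]
    rw [hd, Finset.prod_mul_distrib, e1, e2, ← mul_pow]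
    have : ω * (ω + 1) = 1 := by
      have : ω * (ω + 1) = ω ^ 2 + ω := by ring
      rw [this, hω2]
      have := hadd ω
      linear_combination this
    rw [this, one_pow]
  set A : Matrix (Fin n) (Fin n) K := mono 1 d with hA
  have hAM : A ∈ MS M := MONO.mem D h2 hM 1 hdU hprod
  have hAv : ∀ i, (A *ᵥ v) i = d i * v i := by
    intro i
    have := MONO.mulVec_apply (1 : Equiv.Perm (Fin n)) d v i
    simpa using this
  -- the new centre
  set u : Fin n → K := A *ᵥ v + v with hu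
  have hui : ∀ i, u i = (d i + 1) * v i := by
    intro i
    rw [hu, Pi.add_apply, hAv]; ring
  have huS1 : ∀ i ∈ S1, u i = (ω + 1) * v i := by
    intro i hi; rw [hui, hdS1 i hi]
  have huS2 : ∀ i ∈ S2, u i = ω * v i := by
    intro i hi
    rw [hui, hdS2 i hi]
    have := hadd (1 : K)
    have e : ω + 1 + 1 = ω := by linear_combination this
    rw [e]
  have huout : ∀ i, i ∉ S → u i = 0 := by
    intro i hi
    have hi1 : i ∉ S1 := fun h1 => hi (hS1sub h1)
    have hi2 : i ∉ S2 := fun h1 => hi (Finset.mem_sdiff.mp h1).1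
    rw [hui, hdout i hi1 hi2, hadd, zero_mul]
  have huS : ∀ i ∈ S, u i ≠ 0 := by
    intro i hi
    by_cases hi1 : i ∈ S1
    · rw [huS1 i hi1]; exact mul_ne_zero hω10 (hS1v i hi1)
    · have hi2 : i ∈ S2 := Finset.mem_sdiff.mpr ⟨hi, hi1⟩
      rw [huS2 i hi2]; exact mul_ne_zero hω0 (hS2v i hi2)
  have hsuppu : supp u = S := by
    ext i
    rw [mem_supp]
    constructor
    · intro hne
      by_contra hi
      exact hne (huout i hi)
    · exact huS i
  have hwtu : wt u = 6 := by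
    unfold wt
    rw [hsuppu, hScard]
  have h6K : ((6 : ℕ) : K) = 0 := by
    have : ((6 : ℕ) : K) = 2 * 3 := by norm_num
    rw [this, h2, zero_mul]
  have hsum1 : (∑ _i ∈ S, (1 : K)) = 0 := by
    rw [Finset.sum_const, hScard, nsmul_eq_mul, mul_one, h6K]
  -- `u` is isotropic
  have huu : Cfsg.hermForm n K 2 u u = 0 := by
    unfold Cfsg.hermForm
    rw [Q2SIX.sum_eq_of_supp S _ (fun i hi => by rw [huout i hi, zero_mul])]
    rw [← hsum1]
    apply Finset.sum_congr rfl
    intro i hi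
    have := Q2FIELD.norm_one D hK (huS i hi)
    rwa [D.pow] at this
  -- `h (A v) v = 1`
  have hAvv : Cfsg.hermForm n K 2 (A *ᵥ v) v = 1 := by
    have e1 : Cfsg.hermForm n K 2 (A *ᵥ v) v = Cfsg.hermForm n K 2 u v := by
      rw [hu, h_add_left, hvv, add_zero]
    rw [e1]
    unfold Cfsg.hermForm
    rw [Q2SIX.sum_eq_of_supp S _ (fun i hi => by rw [huout i hi, zero_mul])]
    have e2 : ∀ i ∈ S, u i * v i ^ 2 = d i + 1 := by
      intro i hi
      have hvi : v i ≠ 0 := mem_supp.mp (hSsub hi)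
      have := Q2FIELD.norm_one D hK hvi
      rw [D.pow] at this
      rw [hui, mul_assoc, this, mul_one]
    rw [Finset.sum_congr rfl e2]
    have hSeq : S = S1 ∪ S2 := by
      rw [hS2, Finset.union_sdiff_of_subset hS1sub]
    have hdj : Disjoint S1 S2 := by
      rw [Finset.disjoint_left]; exact hdisj
    rw [hSeq, Finset.sum_union hdj]
    have e3 : ∑ i ∈ S1, (d i + 1) = ∑ _i ∈ S1, (ω + 1) :=
      Finset.sum_congr rfl (fun i hi => by rw [hdS1 i hi])
    have e4 : ∑ i ∈ S2, (d i + 1) = ∑ _i ∈ S2, ω :=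
      Finset.sum_congr rfl (fun i hi => by
        rw [hdS2 i hi]
        have := hadd (1 : K)
        linear_combination this)
    rw [e3, e4, Finset.sum_const, Finset.sum_const, hS1card, hS2card]
    simp only [nsmul_eq_mul]
    push_cast
    have h1 := hadd (1 : K)
    have h3 := hadd ω
    linear_combination (3 : K) * h3 + h1
  -- membership
  have hTAv : Cfsg.unitaryTransvection n 2 (A *ᵥ v) (1 : K) ∈ MS M := MS_conj_T D hM.le hAM hT
  have hTu : Cfsg.unitaryTransvection n 2
      (Cfsg.unitaryTransvection n 2 v (1 : K) *ᵥ (A *ᵥ v)) (1 : K) ∈ MS M :=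
    MS_conj_T D hM.le hT hTAv
  have hTvAv : Cfsg.unitaryTransvection n 2 v (1 : K) *ᵥ (A *ᵥ v) = u := by
    rw [T_mulVec, hAvv, mul_one, one_smul]
  rw [hTvAv] at hTu
  exact ⟨u, huu, hwtu, hTu⟩

end Cfsg.Agent.S5655K1.EV
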