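import Mathlib
import Cfsg.Prelude.Def_GeometricClasses
import Cfsg.Agent.Helper2.S5886.Defs
import Cfsg.Agent.Helper2.S5664.Defs

/-! # S5664 (driver helper2), piece PARTNER (helper4, hedge): a hyperbolic partner. -/

set_option autoImplicit false
set_option linter.unusedSectionVars false

namespace Cfsg.Agent.S5664P

open Cfsg.Agent.S5886P

variable {F K V : Type*} [Field F] [Field K] [Algebra F K]
  [AddCommGroup V] [Module F V] [Module K V] [IsScalarTower F K V]

/-- PARTNER (S) -/
theorem PARTNER (B : V →ₗ[K] V →ₗ[K] K) (hB : IsAltND B) (v : V) (hv : v ≠ 0) :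
    ∃ v' : V, B v v' = 1 := by
  have h : ∃ y, B v y ≠ 0 := by
    by_contra hcon
    push_neg at hcon
    exact hv (hB.nd v hcon)
  obtain ⟨y, hy⟩ := h
  refine ⟨(B v y)⁻¹ • y, ?_⟩
  rw [map_smul, smul_eq_mul, inv_mul_cancel₀ hy]

end Cfsg.Agent.S5664P
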