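import Mathlib
import Cfsg.Prelude.Def_GeometricClasses
import Cfsg.Agent.Helper2.S5886.Defs
import Cfsg.Agent.Helper2.S5664.Defs

/-! # S5664 (driver helper2), piece TORUS (helper4, hedge): the torus element of `Sp_K`. -/

set_option autoImplicit false
set_option linter.unusedSectionVars false

namespace Cfsg.Agent.S5664P

open Cfsg.Agent.S5886P

variable {F K V : Type*} [Field F] [Field K] [Algebra F K]
  [AddCommGroup V] [Module F V] [Module K V] [IsScalarTower F K V]

namespace TORUS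

/-- `x ↦ x + ((e-1) * B x v') • v - ((f-1) * B x v) • v'` -/
noncomputable def Tm (B : V →ₗ[K] V →ₗ[K] K) (v v' : V) (e f : K) : V →ₗ[K] V :=
  LinearMap.id + (e - 1) • (B.flip v').smulRight v - (f - 1) • (B.flip v).smulRight v'

theorem Tm_apply (B : V →ₗ[K] V →ₗ[K] K) (v v' : V) (e f : K) (x : V) :
    Tm B v v' e f x = x + ((e - 1) * B x v') • v - ((f - 1) * B x v) • v' := by
  simp only [Tm, LinearMap.add_apply, LinearMap.sub_apply, LinearMap.smul_apply,
    LinearMap.smulRight_apply, LinearMap.flip_apply, LinearMap.id_apply, smul_smul]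

theorem skew {B : V →ₗ[K] V →ₗ[K] K} (hB : IsAltND B) (x y : V) : B x y = - B y x := by
  have h := hB.alt (x + y)
  simp only [map_add, LinearMap.add_apply, hB.alt x, hB.alt y] at h
  linear_combination h

theorem B_Tm_left (B : V →ₗ[K] V →ₗ[K] K) (v v' : V) (e f : K) (x y : V) :
    B (Tm B v v' e f x) y = B x y + (e - 1) * B x v' * B v y - (f - 1) * B x v * B v' y := by
  rw [Tm_apply]
  simp only [map_add, map_sub, map_smul, LinearMap.add_apply, LinearMap.sub_apply,
    LinearMap.smul_apply, smul_eq_mul]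

theorem B_Tm_right (B : V →ₗ[K] V →ₗ[K] K) (v v' : V) (e f : K) (x y : V) :
    B x (Tm B v v' e f y) = B x y + (e - 1) * B y v' * B x v - (f - 1) * B y v * B x v' := by
  rw [Tm_apply]
  simp only [map_add, map_sub, map_smul, smul_eq_mul]

theorem Tm_Tm (B : V →ₗ[K] V →ₗ[K] K) (hB : IsAltND B) (v v' : V) (hvv' : B v v' = 1)
    (e f : K) (hef : e * f = 1) (x : V) : Tm B v v' f e (Tm B v v' e f x) = x := by
  have hv'v : B v' v = -1 := by rw [skew hB, hvv']
  rw [Tm_apply B v v' f e, B_Tm_left, B_Tm_left, hvv', hB.alt v, hB.alt v', hv'v, Tm_apply]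
  have e1 : (e - 1) * B x v' + (f - 1) * (B x v' + (e - 1) * B x v' * 1 - (f - 1) * B x v * 0) = 0 := by
    linear_combination (B x v') * hef
  have e2 : (f - 1) * B x v + (e - 1) * (B x v + (e - 1) * B x v' * 0 - (f - 1) * B x v * -1) = 0 := by
    linear_combination (B x v) * hef
  calc x + ((e - 1) * B x v') • v - ((f - 1) * B x v) • v' +
        ((f - 1) * (B x v' + (e - 1) * B x v' * 1 - (f - 1) * B x v * 0)) • v -
        ((e - 1) * (B x v + (e - 1) * B x v' * 0 - (f - 1) * B x v * -1)) • v'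
      = x + ((e - 1) * B x v' + (f - 1) * (B x v' + (e - 1) * B x v' * 1 - (f - 1) * B x v * 0)) • v
        - ((f - 1) * B x v + (e - 1) * (B x v + (e - 1) * B x v' * 0 - (f - 1) * B x v * -1)) • v' := by
        rw [add_smul, add_smul]; abel
    _ = x := by rw [e1, e2, zero_smul, zero_smul, add_zero, sub_zero]

end TORUS

/-- TORUS (M) -/
theorem TORUS (B : V →ₗ[K] V →ₗ[K] K) (hB : IsAltND B) (v v' : V) (hvv' : B v v' = 1)
    (e : K) (he : e ≠ 0) :
    ∃ n ∈ SpK F B, ∀ x, n x = x + ((e - 1) * B x v') • v - ((e⁻¹ - 1) * B x v) • v' := by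
  have hee : e * e⁻¹ = 1 := mul_inv_cancel₀ he
  have hee' : e⁻¹ * e = 1 := inv_mul_cancel₀ he
  have hv'v : B v' v = -1 := by rw [TORUS.skew hB, hvv']
  let f : V →ₗ[F] V := (TORUS.Tm B v v' e e⁻¹).restrictScalars F
  let f' : V →ₗ[F] V := (TORUS.Tm B v v' e⁻¹ e).restrictScalars F
  have hf : ∀ x, f x = TORUS.Tm B v v' e e⁻¹ x := fun x => rfl
  have hf' : ∀ x, f' x = TORUS.Tm B v v' e⁻¹ e x := fun x => rfl
  have h1 : f.comp f' = LinearMap.id := by
    apply LinearMap.ext
    intro x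
    rw [LinearMap.comp_apply, hf, hf', TORUS.Tm_Tm B hB v v' hvv' e⁻¹ e hee', LinearMap.id_apply]
  have h2 : f'.comp f = LinearMap.id := by
    apply LinearMap.ext
    intro x
    rw [LinearMap.comp_apply, hf, hf', TORUS.Tm_Tm B hB v v' hvv' e e⁻¹ hee, LinearMap.id_apply]
  refine ⟨LinearEquiv.ofLinear f f' h1 h2, ⟨?_, ?_⟩, ?_⟩
  · intro k x
    show f (k • x) = k • f x
    rw [hf, hf, map_smul]
  · intro x y
    show B (f x) (f y) = B x y
    rw [hf, hf, TORUS.B_Tm_left, TORUS.B_Tm_right, TORUS.B_Tm_right, TORUS.B_Tm_right,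
      hB.alt v, hB.alt v', hvv', hv'v, TORUS.skew hB v y, TORUS.skew hB v' y]
    linear_combination (B x v * B y v' - B x v' * B y v) * hee
  · intro x
    show f x = _
    rw [hf, TORUS.Tm_apply]

end Cfsg.Agent.S5664P
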