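import Mathlib
import Cfsg.Prelude.Def_GeometricClasses
import Cfsg.Agent.Helper2.S5886.Defs
import Cfsg.Agent.Helper2.S5664.Defs
import Cfsg.Agent.Helper22.S5886YADD
import Cfsg.Agent.Helper10.S5664YKILL
import Cfsg.Agent.Helper4.S5664PARTNER
import Cfsg.Agent.Helper4.S5664TORUS

/-! # S5664 (driver helper2), piece YTOR (helper4): torus conjugation inside `yset M (K v)`. -/

set_option autoImplicit false
set_option linter.unusedSectionVars false

namespace Cfsg.Agent.S5664P

open Cfsg.Agent.S5886P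

variable {F K V : Type*} [Field F] [Field K] [Algebra F K]
  [AddCommGroup V] [Module F V] [Module K V] [IsScalarTower F K V]

namespace YTOR

theorem mem_Kline {v x : V} : x ∈ Kline (F := F) (K := K) v ↔ ∃ c : K, c • v = x := by
  unfold Kline
  rw [Submodule.restrictScalars_mem, Submodule.mem_span_singleton]

theorem skew {B : V →ₗ[K] V →ₗ[K] K} (hB : IsAltND B) (x y : V) : B x y = - B y x := by
  have h := hB.alt (x + y)
  simp only [map_add, LinearMap.add_apply, hB.alt x, hB.alt y] at h
  linear_combination h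

end YTOR

/-- YTOR (M) -/
theorem YTOR [Finite F] [Finite K] [Finite V] (B : V →ₗ[K] V →ₗ[K] K) (hB : IsAltND B)
    (M : Subgroup (V ≃ₗ[F] V)) (hK : SpK F B ≤ M) (hM : M ≤ SpF F B) (v : V) (hv : v ≠ 0)
    (e : K) (he : e ≠ 0) (A : V →ₗ[F] V) (hA : A ∈ yset M (Kline (F := F) (K := K) v)) :
    e • (A ∘ₗ DistribSMul.toLinearMap F V e) ∈ yset M (Kline (F := F) (K := K) v) := by
  obtain ⟨v', hvv'⟩ := PARTNER B hB v hv
  obtain ⟨n, hn, hnx⟩ := TORUS (F := F) B hB v v' hvv' e he
  have hnM : n ∈ M := hK hn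
  -- `n (k • v) = (e * k) • v`
  have hnv : ∀ k : K, n (k • v) = (e * k) • v := by
    intro k
    rw [hnx]
    simp only [map_smul, LinearMap.smul_apply, hvv', hB.alt v, smul_eq_mul, mul_zero, mul_one,
      zero_smul, sub_zero]
    rw [← add_smul]
    congr 1
    ring
  have hnv1 : n v = e • v := by
    have h := hnv 1
    rw [one_smul, mul_one] at h
    exact h
  have hgL : ∀ x ∈ Kline (F := F) (K := K) v, n x ∈ Kline (F := F) (K := K) v := by
    intro x hx
    obtain ⟨c, rfl⟩ := YTOR.mem_Kline.mp hx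
    rw [hnv]
    exact YTOR.mem_Kline.mpr ⟨e * c, rfl⟩
  have hconj := YADD.conj M (Kline (F := F) (K := K) v) n hnM hgL A hA
  have heq : (n : V →ₗ[F] V) ∘ₗ A ∘ₗ (n.symm : V →ₗ[F] V) =
      e • (A ∘ₗ DistribSMul.toLinearMap F V e) := by
    apply LinearMap.ext
    intro x
    simp only [LinearMap.comp_apply, LinearEquiv.coe_coe, LinearMap.smul_apply,
      DistribSMul.toLinearMap_apply]
    -- `B (n.symm x) v = e * B x v`
    have h1 : B (n.symm x) v = e * B x v := by
      have h2 := hn.2 (n.symm x) v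
      rw [LinearEquiv.apply_symm_apply, hnv1, map_smul, smul_eq_mul] at h2
      exact h2.symm
    have h3 : B (n.symm x - e • x) v = 0 := by
      rw [map_sub, LinearMap.sub_apply, h1, map_smul, LinearMap.smul_apply, smul_eq_mul, sub_self]
    have h4 : A (n.symm x - e • x) = 0 := YKILL B hB M hM v A hA _ h3
    have h5 : A (n.symm x) = A (e • x) := by
      rw [map_sub, sub_eq_zero] at h4
      exact h4
    rw [h5]
    obtain ⟨c, hc⟩ := YTOR.mem_Kline.mp (hA.1.1 (e • x))
    rw [← hc, hnv, mul_smul]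
  rw [← heq]
  exact hconj

end Cfsg.Agent.S5664P
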