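import Mathlib
import Cfsg.Prelude.Def_GeometricClasses
import Cfsg.Agent.Helper2.S5886.Defs

/-! # S5886 piece SYLGENB (helper4): `SYLGEN.normal_le`, `SYLGEN.norm_grow`. -/

set_option autoImplicit false

namespace Cfsg.Agent.S5886P

variable {F K V : Type*} [Field F] [Field K] [Algebra F K]
  [AddCommGroup V] [Module F V] [Module K V] [IsScalarTower F K V]

/-- SYLGEN.normal_le : a normal `p`-subgroup of `H` lies in every Sylow `p`-subgroup of `H`. -/
theorem SYLGEN.normal_le {G : Type*} [Group G] [Finite G] (p : ℕ) [Fact p.Prime] (H P Y : Subgroup G)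
    (hP : IsSylIn p H P) (hYH : Y ≤ H) (hY : IsPGroup p Y)
    (hYn : ∀ c ∈ H, ∀ y ∈ Y, c * y * c⁻¹ ∈ Y) : Y ≤ P := by
  obtain ⟨hPH, hPp, hmax⟩ := hP
  have hnorm : P ≤ Subgroup.normalizer (Y : Set G) := by
    intro c hc
    rw [Subgroup.mem_normalizer_iff]
    intro y
    constructor
    · exact hYn c (hPH hc) y
    · intro hy
      have h1 := hYn c⁻¹ (H.inv_mem (hPH hc)) _ hy
      have h2 : c⁻¹ * (c * y * c⁻¹) * c⁻¹⁻¹ = y := by group
      rwa [h2] at h1
  have hsup : IsPGroup p (P ⊔ Y : Subgroup G) := IsPGroup.to_sup_of_normal_right' hPp hY hnorm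
  have heq : P ⊔ Y = P := hmax (P ⊔ Y) (sup_le hPH hYH) hsup le_sup_left
  rw [← heq]
  exact le_sup_right

/-- SYLGEN.norm_grow : normalisers grow in `p`-groups. -/
theorem SYLGEN.norm_grow {G : Type*} [Group G] [Finite G] (p : ℕ) [Fact p.Prime] (P Q : Subgroup G)
    (hP : IsPGroup p P) (hQP : Q ≤ P) (hne : Q ≠ P) :
    ∃ g ∈ P, g ∉ Q ∧ ∀ x : G, x ∈ Q ↔ g * x * g⁻¹ ∈ Q := by
  haveI : Group.IsNilpotent ↥P := hP.isNilpotent
  have hNC : NormalizerCondition ↥P := normalizerCondition_of_isNilpotent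
  have hlt : Q.subgroupOf P < ⊤ := by
    rw [lt_top_iff_ne_top]
    intro htop
    apply hne
    apply le_antisymm hQP
    rw [Subgroup.subgroupOf_eq_top] at htop
    exact htop
  have hgrow := hNC (Q.subgroupOf P) hlt
  obtain ⟨g, hgN, hgQ⟩ := SetLike.exists_of_lt hgrow
  refine ⟨(g : G), g.2, ?_, ?_⟩
  · intro hg
    exact hgQ (Subgroup.mem_subgroupOf.mpr hg)
  · intro x
    rw [Subgroup.mem_normalizer_iff] at hgN
    constructor
    · intro hx
      have := (hgN ⟨x, hQP hx⟩).mp (Subgroup.mem_subgroupOf.mpr hx)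
      exact Subgroup.mem_subgroupOf.mp this
    · intro hx
      have hxP : x ∈ P := by
        have h1 : g * x * g⁻¹ ∈ P := hQP hx
        have h2 : (g : G)⁻¹ * ((g : G) * x * (g : G)⁻¹) * (g : G) ∈ P :=
          P.mul_mem (P.mul_mem (P.inv_mem g.2) h1) g.2
        have h3 : (g : G)⁻¹ * ((g : G) * x * (g : G)⁻¹) * (g : G) = x := by group
        rwa [h3] at h2
      have := (hgN ⟨x, hxP⟩).mpr (Subgroup.mem_subgroupOf.mpr hx)
      exact Subgroup.mem_subgroupOf.mp this

end Cfsg.Agent.S5886P
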