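import Mathlib
import Cfsg.Prelude.Def_GeometricClasses
import Cfsg.Agent.Helper2.S5886.Defs

/-! # S5886 piece SYLGENA (helper4): `SYLGEN.exists_le`, `SYLGEN.conj`. -/

set_option autoImplicit false

namespace Cfsg.Agent.S5886P

variable {F K V : Type*} [Field F] [Field K] [Algebra F K]
  [AddCommGroup V] [Module F V] [Module K V] [IsScalarTower F K V]

/-- SYLGEN.exists_le -/
theorem SYLGEN.exists_le {G : Type*} [Group G] [Finite G] (p : ℕ) [Fact p.Prime] (H Q : Subgroup G)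
    (hQH : Q ≤ H) (hQ : IsPGroup p Q) : ∃ P : Subgroup G, IsSylIn p H P ∧ Q ≤ P := by
  have hfin : ({P : Subgroup G | P ≤ H ∧ IsPGroup p P} : Set (Subgroup G)).Finite := Set.toFinite _
  obtain ⟨P, hQP, hPmax⟩ := hfin.exists_le_maximal (a := Q) ⟨hQH, hQ⟩
  refine ⟨P, ⟨hPmax.prop.1, hPmax.prop.2, ?_⟩, hQP⟩
  intro Q' hQ'H hQ'p hPQ'
  exact le_antisymm (hPmax.le_of_ge ⟨hQ'H, hQ'p⟩ hPQ') hPQ'

/-- the Sylow subgroup of `↥H` attached to an `IsSylIn` -/
def SYLGEN.toSylow {G : Type*} [Group G] (p : ℕ) (H P : Subgroup G) (hP : IsSylIn p H P) :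
    Sylow p ↥H where
  toSubgroup := P.subgroupOf H
  isPGroup' := hP.2.1.comap_subtype
  is_maximal' := by
    intro R hR hle
    have h1 : R.map H.subtype ≤ H := by
      rintro _ ⟨x, _, rfl⟩
      exact x.2
    have h2 : IsPGroup p (R.map H.subtype) := hR.map H.subtype
    have h3 : P ≤ R.map H.subtype := by
      intro x hx
      exact ⟨⟨x, hP.1 hx⟩, hle (Subgroup.mem_subgroupOf.mpr hx), rfl⟩
    have h4 := hP.2.2 _ h1 h2 h3
    ext x
    rw [Subgroup.mem_subgroupOf, ← h4]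
    constructor
    · intro hx
      exact ⟨x, hx, rfl⟩
    · rintro ⟨y, hy, hyx⟩
      have : y = x := Subtype.ext hyx
      rwa [← this]

open scoped Pointwise in
/-- membership in a conjugate Sylow subgroup -/
theorem SYLGEN.mem_smul_sylow {G : Type*} [Group G] (p : ℕ) (c y : G) (S : Sylow p G) :
    y ∈ ((c • S : Sylow p G) : Subgroup G) ↔ c⁻¹ * y * c ∈ (S : Subgroup G) := by
  rw [Sylow.coe_subgroup_smul, Subgroup.mem_pointwise_smul_iff_inv_smul_mem]
  have h2 : (MulAut.conj c)⁻¹ • y = c⁻¹ * y * c := by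
    rw [← map_inv, MulAut.smul_def, MulAut.conj_apply, inv_inv]
  rw [h2]

/-- SYLGEN.conj -/
theorem SYLGEN.conj {G : Type*} [Group G] [Finite G] (p : ℕ) [Fact p.Prime] (H P Q : Subgroup G)
    (hP : IsSylIn p H P) (hQ : IsSylIn p H Q) :
    ∃ c ∈ H, ∀ x : G, x ∈ Q ↔ c⁻¹ * x * c ∈ P := by
  obtain ⟨c, hc⟩ := MulAction.exists_smul_eq (↥H) (SYLGEN.toSylow p H P hP) (SYLGEN.toSylow p H Q hQ)
  refine ⟨(c : G), c.2, ?_⟩
  have key : ∀ y : ↥H, y ∈ Q.subgroupOf H ↔ c⁻¹ * y * c ∈ P.subgroupOf H := by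
    intro y
    have h0 := SYLGEN.mem_smul_sylow p c y (SYLGEN.toSylow p H P hP)
    rw [hc] at h0
    exact h0
  intro x
  constructor
  · intro hx
    have := (key ⟨x, hQ.1 hx⟩).mp (Subgroup.mem_subgroupOf.mpr hx)
    exact Subgroup.mem_subgroupOf.mp this
  · intro hx
    have hxH : x ∈ H := by
      have h1 : c⁻¹ * x * c ∈ H := hP.1 hx
      have h2 : (c : G) * ((c : G)⁻¹ * x * (c : G)) * (c : G)⁻¹ ∈ H :=
        H.mul_mem (H.mul_mem c.2 h1) (H.inv_mem c.2)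
      have h3 : (c : G) * ((c : G)⁻¹ * x * (c : G)) * (c : G)⁻¹ = x := by group
      rwa [h3] at h2
    have := (key ⟨x, hxH⟩).mpr (Subgroup.mem_subgroupOf.mpr hx)
    exact Subgroup.mem_subgroupOf.mp this

end Cfsg.Agent.S5886P
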