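import Mathlib

set_option autoImplicit false

/-! Weight spaces of a finite abelian group acting on a finite-dimensional complex vector space:
decomposition, independence, transport under conjugation, dimension count. -/

namespace Cfsg.Agent.Helper4.LSW

open Module

variable {V : Type*} [AddCommGroup V] [Module ℂ V]
variable {A : Type*} [CommGroup A]

/-- the weight space of `χ` -/
def wt (φ : A →* Module.End ℂ V) (χ : A → ℂ) : Submodule ℂ V :=
  ⨅ a, (φ a).eigenspace (χ a)

theorem mem_wt (φ : A →* Module.End ℂ V) (χ : A → ℂ) (v : V) :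
    v ∈ wt φ χ ↔ ∀ a, φ a v = χ a • v := by
  unfold wt
  rw [Submodule.mem_iInf]
  simp only [Module.End.mem_eigenspace_iff]

theorem isSemisimple_of_finite [Finite A] (φ : A →* Module.End ℂ V) (a : A) :
    (φ a).IsSemisimple := by
  have hn : 0 < Nat.card A := Nat.card_pos
  apply Module.End.isSemisimple_of_squarefree_aeval_eq_zero
    (p := (Polynomial.X ^ Nat.card A - 1 : Polynomial ℂ))
  · apply Polynomial.Separable.squarefree
    rw [Polynomial.X_pow_sub_one_separable_iff]
    exact_mod_cast hn.ne'
  · rw [map_sub, map_pow, Polynomial.aeval_X, map_one, ← map_pow, pow_card_eq_one', map_one,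
      sub_self]

theorem maxGen_eq [Finite A] [FiniteDimensional ℂ V] (φ : A →* Module.End ℂ V) (a : A) (μ : ℂ) :
    (φ a).maxGenEigenspace μ = (φ a).eigenspace μ :=
  (Module.End.isFinitelySemisimple_iff_isSemisimple.mpr
    (isSemisimple_of_finite φ a)).maxGenEigenspace_eq_eigenspace μ

theorem wt_eq_iInf_maxGen [Finite A] [FiniteDimensional ℂ V] (φ : A →* Module.End ℂ V)
    (χ : A → ℂ) :
    wt φ χ = ⨅ a, (φ a).maxGenEigenspace (χ a) := by
  unfold wt
  congr 1
  funext a
  rw [maxGen_eq]

theorem commute_apply (φ : A →* Module.End ℂ V) (a b : A) : Commute (φ a) (φ b) := by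
  unfold Commute SemiconjBy
  rw [← map_mul, ← map_mul, mul_comm]

/-- the weight spaces are independent -/
theorem wt_indep [Finite A] [FiniteDimensional ℂ V] (φ : A →* Module.End ℂ V) :
    iSupIndep (fun χ : A → ℂ => wt φ χ) := by
  have h := Module.End.independent_iInf_maxGenEigenspace_of_forall_mapsTo (fun a => φ a)
    (fun i j μ => Module.End.mapsTo_maxGenEigenspace_of_comm (commute_apply φ j i) μ)
  have e : (fun χ : A → ℂ => wt φ χ) =
      fun χ : A → ℂ => ⨅ a, (φ a).maxGenEigenspace (χ a) := by
    funext χ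
    exact wt_eq_iInf_maxGen φ χ
  rw [e]
  exact h

/-- the weight spaces span -/
theorem iSup_wt [Finite A] [FiniteDimensional ℂ V] (φ : A →* Module.End ℂ V) :
    ⨆ χ : A → ℂ, wt φ χ = ⊤ := by
  have h := Module.End.iSup_iInf_maxGenEigenspace_eq_top_of_iSup_maxGenEigenspace_eq_top_of_commute
    (fun a => φ a) (fun i j _ => commute_apply φ i j)
    (fun a => Module.End.iSup_maxGenEigenspace_eq_top (φ a))
  have e : (fun χ : A → ℂ => wt φ χ) =
      fun χ : A → ℂ => ⨅ a, (φ a).maxGenEigenspace (χ a) := by
    funext χ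
    exact wt_eq_iInf_maxGen φ χ
  rw [e]
  exact h

/-- dimension count over a finite set of weights -/
theorem sum_finrank_le [Finite A] [FiniteDimensional ℂ V] (φ : A →* Module.End ℂ V)
    (T : Finset (A → ℂ)) : ∑ χ ∈ T, finrank ℂ (wt φ χ) ≤ finrank ℂ V := by
  classical
  have hind := (iSupIndep_iff_finsetSum_eq_zero_imp_eq_zero (fun χ : A → ℂ => wt φ χ)).mp
    (wt_indep φ)
  let f : (∀ χ : T, wt φ (χ : A → ℂ)) →ₗ[ℂ] V :=
    { toFun := fun x => ∑ χ : T, (x χ : V)
      map_add' := by
        intro x y
        simp only [Pi.add_apply, Submodule.coe_add, Finset.sum_add_distrib]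
      map_smul' := by
        intro c x
        simp only [Pi.smul_apply, Submodule.coe_smul, RingHom.id_apply, Finset.smul_sum] }
  have hinj : Function.Injective f := by
    rw [← LinearMap.ker_eq_bot, LinearMap.ker_eq_bot']
    intro x hx
    have hx' : ∑ χ : T, (x χ : V) = 0 := hx
    funext χ
    have h0 := hind T (fun χ' => if h : χ' ∈ T then (x ⟨χ', h⟩ : V) else 0)
      (by
        intro i hi
        simp only [dif_pos hi]
        exact (x ⟨i, hi⟩).2)
      (by
        rw [← Finset.sum_coe_sort T]
        rw [← hx']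
        apply Finset.sum_congr rfl
        intro i _
        simp only [dif_pos i.2])
      χ.1 χ.2
    simp only [dif_pos χ.2] at h0
    apply Subtype.ext
    exact h0
  have h1 := LinearMap.finrank_le_finrank_of_injective hinj
  rw [Module.finrank_pi_fintype] at h1
  rw [← Finset.sum_coe_sort T (fun χ => finrank ℂ (wt φ χ))]
  exact h1

/-- a weight occurring is a character -/
theorem wt_mul (φ : A →* Module.End ℂ V) {χ : A → ℂ} (h : wt φ χ ≠ ⊥) (a b : A) :
    χ (a * b) = χ a * χ b := by
  obtain ⟨v, hv, hv0⟩ := Submodule.exists_mem_ne_zero_of_ne_bot h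
  rw [mem_wt] at hv
  have h1 := hv (a * b)
  rw [map_mul, Module.End.mul_apply, hv b, map_smul, hv a, smul_smul] at h1
  have h2 : (χ b * χ a - χ (a * b)) • v = 0 := by rw [sub_smul, h1, sub_self]
  rcases smul_eq_zero.mp h2 with h3 | h3
  · linear_combination -h3
  · exact absurd h3 hv0

theorem wt_one (φ : A →* Module.End ℂ V) {χ : A → ℂ} (h : wt φ χ ≠ ⊥) : χ 1 = 1 := by
  obtain ⟨v, hv, hv0⟩ := Submodule.exists_mem_ne_zero_of_ne_bot h
  rw [mem_wt] at hv
  have h1 := hv 1
  rw [map_one, Module.End.one_apply] at h1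
  have h2 : (1 - χ 1) • v = 0 := by rw [sub_smul, one_smul, ← h1, sub_self]
  rcases smul_eq_zero.mp h2 with h3 | h3
  · linear_combination -h3
  · exact absurd h3 hv0

/-- if some element acts nontrivially, some weight is nontrivial there -/
theorem exists_wt_ne_one [Finite A] [FiniteDimensional ℂ V] (φ : A →* Module.End ℂ V) {a₀ : A}
    (h : φ a₀ ≠ 1) : ∃ χ : A → ℂ, wt φ χ ≠ ⊥ ∧ χ a₀ ≠ 1 := by
  by_contra hcon
  push Not at hcon
  apply h
  have htop := iSup_wt φ
  apply LinearMap.ext
  intro v
  have hv : v ∈ ⨆ χ : A → ℂ, wt φ χ := by rw [htop]; exact Submodule.mem_top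
  induction hv using Submodule.iSup_induction' with
  | mem χ x hx =>
    by_cases hb : wt φ χ = ⊥
    · rw [hb] at hx
      have : x = 0 := hx
      rw [this, map_zero, map_zero]
    · have := hcon χ hb
      rw [mem_wt] at hx
      rw [hx a₀, this, one_smul, Module.End.one_apply]
  | zero => rw [map_zero, map_zero]
  | add x y _ _ hx hy => rw [map_add, map_add, hx, hy]

/-- transport of weight spaces under an invertible operator normalising the family -/
theorem finrank_wt_le_of_conj [FiniteDimensional ℂ V] (φ : A →* Module.End ℂ V)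
    (g ginv : Module.End ℂ V) (hg : ginv * g = 1) (β : A → A)
    (hconj : ∀ b, φ b * g = g * φ (β b)) (χ : A → ℂ) :
    finrank ℂ (wt φ χ) ≤ finrank ℂ (wt φ (fun b => χ (β b))) := by
  have hinj : Function.Injective g := by
    intro x y hxy
    have := congrArg ginv hxy
    rwa [← Module.End.mul_apply, ← Module.End.mul_apply, hg] at this
  have hmaps : ∀ v ∈ wt φ χ, g v ∈ wt φ (fun b => χ (β b)) := by
    intro v hv
    rw [mem_wt] at hv ⊢
    intro b
    rw [← Module.End.mul_apply, hconj b, Module.End.mul_apply, hv (β b), map_smul]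
  let f : wt φ χ →ₗ[ℂ] wt φ (fun b => χ (β b)) :=
    (g.domRestrict (wt φ χ)).codRestrict _ (fun v => hmaps v.1 v.2)
  apply LinearMap.finrank_le_finrank_of_injective (f := f)
  intro x y hxy
  apply Subtype.ext
  apply hinj
  exact congrArg Subtype.val hxy

end Cfsg.Agent.Helper4.LSW
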