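import Mathlib
import Cfsg.Prelude.Def_Characters
import Cfsg.Agent.Helper12.LOPDefs

set_option autoImplicit false

/-! S2345 piece TORUS: a torus element of `Ω⁺_{2(n+4)}` acting on the radical `{uQ w}` by
`w ↦ t • g w`, `g` the torus element `torM (eb 0) (fb 0) t` of `O(V_{n+3})`. -/

namespace Cfsg.Agent.Helper12.LOP

open Matrix Cfsg Cfsg.Agent.Helper28.Sg Cfsg.Agent.Helper28.Spin Cfsg.Agent.Helper12.OrthGen

variable {F : Type*} [Field F] {n : ℕ}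

namespace TORUS

/-- `torM` preserves the quadratic form -/
theorem Q_torM {ι : Type} [Fintype ι] [DecidableEq ι] {Q : QuadraticForm F (ι → F)}
    {e f : ι → F} (hp : HypPair Q e f) {a : F} (ha : a ≠ 0) (x : ι → F) :
    Q (torM Q e f a *ᵥ x) = Q x := by
  obtain ⟨w, hx, hew, hfw⟩ := hp.decomp x
  rw [torM_mulVec]
  generalize B Q f x = α at hx ⊢
  generalize B Q e x = β at hx ⊢
  subst hx
  have h1 : α • e + β • f + w + ((a - 1) * α) • e + ((a⁻¹ - 1) * β) • f =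
      (a * α) • e + (a⁻¹ * β) • f + w := by module
  rw [h1, hp.Q_decomp _ _ hew hfw, hp.Q_decomp _ _ hew hfw]
  field_simp

/-- the torus element of a hyperbolic pair as an isometry -/
noncomputable def torO {ι : Type} [Fintype ι] [DecidableEq ι] {Q : QuadraticForm F (ι → F)}
    {e f : ι → F} (hp : HypPair Q e f) (a : F) (ha : a ≠ 0) : ↥(Cfsg.isometryGroup F ⇑Q) :=
  ⟨⟨torM Q e f a, torM Q e f a⁻¹, by
      rw [torM_mul hp ha (inv_ne_zero ha), mul_inv_cancel₀ ha, torM_one], by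
      rw [torM_mul hp (inv_ne_zero ha) ha, inv_mul_cancel₀ ha, torM_one]⟩, by
    rw [Cfsg.Agent.Helper28.IsoTransport.mem_isometryGroup_iff]
    intro x
    exact Q_torM hp ha x⟩

theorem mt_torO {ι : Type} [Fintype ι] [DecidableEq ι] {Q : QuadraticForm F (ι → F)}
    {e f : ι → F} (hp : HypPair Q e f) (a : F) (ha : a ≠ 0) :
    mt Q (torO hp a ha) = torM Q e f a := rfl

theorem hyp_eb_fb {m : ℕ} (i : Fin m) : HypPair (QfPlus m F) (eb i) (fb i) :=
  ⟨Q_eb i, Q_fb i, by rw [B_eb_fb, if_pos rfl]⟩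

theorem hyp_ee_ff : HypPair (QfPlus (n + 1) F) (ee : VV (n + 1) F) ff := ⟨Q_ee, Q_ff, B_ee_ff⟩

theorem hyp_jj {e f : VV n F} (hp : HypPair (QfPlus n F) e f) :
    HypPair (QfPlus (n + 1) F) (jj e) (jj f) :=
  ⟨by rw [Q_jj]; exact hp.Qe, by rw [Q_jj]; exact hp.Qf, by rw [B_jj_jj]; exact hp.Bef⟩

theorem hquad {e f : VV n F} (hp : HypPair (QfPlus n F) e f) :
    HypQuad (QfPlus (n + 1) F) (ee : VV (n + 1) F) ff (jj e) (jj f) :=
  ⟨hyp_ee_ff, hyp_jj hp, B_ee_jj _, B_ee_jj _, B_ff_jj _, B_ff_jj _⟩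

/-- `torM` of a lifted hyperbolic pair acts on `jj w` through `torM` downstairs -/
theorem torM_jj {e f : VV n F} (a : F) (w : VV n F) :
    torM (QfPlus (n + 1) F) (jj e) (jj f) a *ᵥ (jj w : VV (n + 1) F) =
      jj (torM (QfPlus n F) e f a *ᵥ w) := by
  rw [torM_mulVec, torM_mulVec, B_jj_jj, B_jj_jj, map_add, map_add, map_smul, map_smul]

theorem exists_t [Fintype F] (hq : 4 ≤ Fintype.card F) : ∃ t : F, t ≠ 0 ∧ t ^ 2 ≠ 1 := by
  classical
  by_contra hcon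
  push Not at hcon
  have hsub : (Finset.univ : Finset F) ⊆ {0, 1, -1} := by
    intro t _
    by_cases h0 : t = 0
    · simp [h0]
    · have h1 := hcon t h0
      have h2 : (t - 1) * (t + 1) = 0 := by ring_nf; rw [h1]; ring
      rcases mul_eq_zero.mp h2 with h3 | h3
      · have : t = 1 := by linear_combination h3
        simp [this]
      · have : t = -1 := by linear_combination h3
        simp [this]
  have := Finset.card_le_card hsub
  rw [Finset.card_univ] at this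
  have h3 : ({0, 1, -1} : Finset F).card ≤ 3 := Finset.card_le_three
  omega

end TORUS

open TORUS in
theorem exists_torus [Fintype F] (hq : 4 ≤ Fintype.card F) :
    ∃ (t : F) (h : GO (n + 4) F) (g : OO (n + 3) F), t ≠ 0 ∧ t ^ 2 ≠ 1 ∧
      ∀ w : VV (n + 3) F, h * uQ w * h⁻¹ = uQ (t • (mt (QfPlus (n + 3) F) g *ᵥ w)) := by
  obtain ⟨t, ht0, ht1⟩ := exists_t (F := F) hq
  have hp0 : HypPair (QfPlus (n + 3) F) (eb 0) (fb 0) := hyp_eb_fb 0
  have hq4 : HypQuad (QfPlus (n + 4) F) (ee : VV (n + 4) F) ff (jj (eb 0)) (jj (fb 0)) :=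
    hquad hp0
  -- the element `h`
  have hInS : InS (QfPlus (n + 4) F)
      (torM (QfPlus (n + 4) F) (ee : VV (n + 4) F) ff t *
        torM (QfPlus (n + 4) F) (jj (eb 0)) (jj (fb 0)) t) := by
    rw [← nSM_mul_nSM_quad hq4 ht0]
    have hea : B (QfPlus (n + 4) F) (ee : VV (n + 4) F) (t • jj (eb 0) + jj (fb 0)) = 0 :=
      B_add_right_zero _ (B_smul_right_zero _ t hq4.ee) hq4.ef
    have hfa : B (QfPlus (n + 4) F) (ff : VV (n + 4) F) (t • jj (eb 0) + jj (fb 0)) = 0 :=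
      B_add_right_zero _ (B_smul_right_zero _ t hq4.fe) hq4.ff
    have heb : B (QfPlus (n + 4) F) (ee : VV (n + 4) F) (jj (eb 0) + jj (fb 0)) = 0 :=
      B_add_right_zero _ hq4.ee hq4.ef
    have hfb : B (QfPlus (n + 4) F) (ff : VV (n + 4) F) (jj (eb 0) + jj (fb 0)) = 0 :=
      B_add_right_zero _ hq4.fe hq4.ff
    exact (inS_nSM hq4.p1 hea hfa).mul (inS_nSM hq4.p1 heb hfb)
  obtain ⟨h0, hh0S, hh0⟩ := hInS
  have hh0Ω : h0 ∈ Cfsg.Omega F ⇑(QfPlus (n + 4) F) :=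
    S_le_Omega (Q_nondeg (n + 4)) (stdFrame3 (by omega)) hh0S
  refine ⟨t, ⟨h0, hh0Ω⟩, torO hp0 t ht0, ht0, ht1, ?_⟩
  intro w
  apply Subtype.ext
  show h0 * (uQ w : GO (n + 4) F).1 * h0⁻¹ = (uQ _ : GO (n + 4) F).1
  have hee : mt (QfPlus (n + 4) F) h0 *ᵥ (ee : VV (n + 4) F) = t • ee := by
    rw [hh0, ← Matrix.mulVec_mulVec,
      torM_fix (e := jj (eb 0)) (f := jj (fb 0)) t (by rw [B_comm]; exact hq4.ee)
        (by rw [B_comm]; exact hq4.ef), torM_e hq4.p1]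
  have hjj : mt (QfPlus (n + 4) F) h0 *ᵥ (jj w : VV (n + 4) F) =
      jj (mt (QfPlus (n + 3) F) (torO hp0 t ht0) *ᵥ w) := by
    rw [hh0, ← Matrix.mulVec_mulVec, torM_jj, torM_fix t (B_ee_jj _) (B_ff_jj _), mt_torO]
  have hQ1 : QfPlus (n + 4) F (mt (QfPlus (n + 4) F) h0 *ᵥ (ee : VV (n + 4) F)) = 0 := by
    rw [isom_apply]; exact Q_ee
  have hB1 : B (QfPlus (n + 4) F) (mt (QfPlus (n + 4) F) h0 *ᵥ (ee : VV (n + 4) F))
      (mt (QfPlus (n + 4) F) h0 *ᵥ (jj w : VV (n + 4) F)) = 0 := by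
    rw [B_isom]; exact B_ee_jj w
  rw [uQ_val, uQ_val, siegO_conj (QfPlus (n + 4) F) h0 Q_ee (B_ee_jj w) hQ1 hB1]
  set w' := mt (QfPlus (n + 3) F) (torO hp0 t ht0) *ᵥ w with hw'
  have hQ2 : QfPlus (n + 4) F (t • (ee : VV (n + 4) F)) = 0 := by rw [← hee]; exact hQ1
  have hB2 : B (QfPlus (n + 4) F) (t • (ee : VV (n + 4) F)) (jj w') = 0 :=
    B_smul_left_zero _ t (B_ee_jj w')
  rw [siegO_congr (QfPlus (n + 4) F) hQ1 hB1 hQ2 hB2 hee hjj,
    siegO_smul (QfPlus (n + 4) F) t Q_ee (B_ee_jj w') hQ2 hB2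
      (B_smul_right_zero _ t (B_ee_jj w'))]
  exact siegO_congr _ _ _ _ _ rfl (map_smul _ _ _).symm

end Cfsg.Agent.Helper12.LOP
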