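import Mathlib
import Cfsg.Prelude.Def_Characters
import Cfsg.Agent.Helper12.LOPDefs
import Cfsg.Agent.Helper4.LOPTORUS

set_option autoImplicit false

/-! S2345 piece STABC: the long root element `E(e₀, e₁)` lies in the commutator subgroup of the
stabiliser in `Ω` of any singular vector `w ⊥ e₀, e₁`. -/

namespace Cfsg.Agent.Helper12.LOP

open Matrix Cfsg Cfsg.Agent.Helper28.Sg Cfsg.Agent.Helper28.Spin Cfsg.Agent.Helper12.OrthGen
open scoped commutatorElement

variable {F : Type*} [Field F] {n : ℕ}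

namespace STABC

/-- the general commutator computation: `E(u, v) = [h, E(u, (r² - 1)⁻¹ v)]` with `h` the torus
element `torM v v* (r²)`, both factors fixing `w`. -/
theorem comm_lemma {m : ℕ} (hm : 3 ≤ m) (u v vs w w₀ : VV m F) (hu : QfPlus m F u = 0)
    (huv : B (QfPlus m F) u v = 0) (hp : HypPair (QfPlus m F) v vs)
    (huvs : B (QfPlus m F) u vs = 0) (hwu : B (QfPlus m F) u w = 0)
    (hwv : B (QfPlus m F) v w = 0) (hwvs : B (QfPlus m F) vs w = 0)
    (hw₀v : B (QfPlus m F) v w₀ = 0) (hw₀vs : B (QfPlus m F) vs w₀ = 0)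
    (hQw₀ : QfPlus m F w₀ ≠ 0) (r : F) (hr : r ≠ 0) (hr2 : r ^ 2 ≠ 1) :
    sg hm u v hu huv ∈ ⁅stabO w, stabO w⁆ := by
  obtain ⟨h0, hS, hmt⟩ := inS_torM_sq hp hw₀v hw₀vs hQw₀ hr
  have hΩ : h0 ∈ Cfsg.Omega F ⇑(QfPlus m F) := S_le_Omega (Q_nondeg m) (stdFrame3 hm) hS
  have hr1 : r ^ 2 - 1 ≠ 0 := sub_ne_zero.mpr hr2
  set s : F := (r ^ 2 - 1)⁻¹ with hs
  have hsv : B (QfPlus m F) u (s • v) = 0 := B_smul_right_zero _ s huv
  set h : GO m F := ⟨h0, hΩ⟩ with hdef
  set k : GO m F := sg hm u (s • v) hu hsv with kdef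
  have hh : h ∈ stabO w := by
    rw [mem_stabO]
    show mt _ h0 *ᵥ w = w
    rw [hmt, torM_fix _ hwv hwvs]
  have hk : k ∈ stabO w := by
    rw [mem_stabO, kdef, sg_val, siegO_mulVec, hwu, B_smul_left_zero _ s hwv]
    simp
  have key : sg hm u v hu huv = ⁅h, k⁆ := by
    apply Subtype.ext
    rw [commutatorElement_def]
    show siegO _ u v hu huv =
      h0 * siegO _ u (s • v) hu hsv * h0⁻¹ * (siegO _ u (s • v) hu hsv)⁻¹
    have hhu : mt (QfPlus m F) h0 *ᵥ u = u := by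
      rw [hmt, torM_fix _ (by rw [B_comm]; exact huv) (by rw [B_comm]; exact huvs)]
    have hhv : mt (QfPlus m F) h0 *ᵥ (s • v) = (s * r ^ 2) • v := by
      rw [hmt, Matrix.mulVec_smul, torM_e hp, smul_smul]
    have hB2 : B (QfPlus m F) u ((s * r ^ 2) • v) = 0 := B_smul_right_zero _ _ huv
    have hB3 : B (QfPlus m F) u (-(s • v)) = 0 := by rw [B_neg_right, hsv, neg_zero]
    have hB4 : B (QfPlus m F) u ((s * r ^ 2) • v + -(s • v)) = 0 :=
      B_add_right_zero _ hB2 hB3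
    rw [siegO_conj _ h0 hu hsv (by rw [hhu]; exact hu) (by rw [hhu, hhv]; exact hB2),
      siegO_inv _ hu hsv hB3,
      siegO_congr (QfPlus m F) (by rw [hhu]; exact hu) (by rw [hhu, hhv]; exact hB2) hu hB2 hhu hhv,
      siegO_mul _ hu hB2 hB3 hB4]
    apply siegO_congr _ _ _ _ _ rfl
    have : s * r ^ 2 - s = 1 := by
      rw [hs]; field_simp
    calc v = (s * r ^ 2 - s) • v := by rw [this, one_smul]
      _ = _ := by module
  rw [key]
  exact Subgroup.commutator_mem_commutator hh hk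

theorem B_fb_fb {m : ℕ} (i j : Fin m) : B (QfPlus m F) (fb i : VV m F) (fb j) = 0 := by
  rw [B_fb]
  simp [fb]

theorem B_fb_eb {m : ℕ} (i j : Fin m) :
    B (QfPlus m F) (fb i : VV m F) (eb j) = if i = j then 1 else 0 := by
  rw [B_comm, B_eb_fb]
  simp [eq_comm]

end STABC

open STABC TORUS in
theorem sieg_mem_commutator_stab [Fintype F] (hq : 4 ≤ Fintype.card F) (w : VV (n + 3) F)
    (hw : QfPlus (n + 3) F w = 0) (h0 : B (QfPlus (n + 3) F) (eb 0) w = 0)
    (h1 : B (QfPlus (n + 3) F) (eb 1) w = 0) :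
    (sg (by omega) (eb 0) (eb 1) (Q_eb 0) (B_eb_eb 0 1) : GO (n + 3) F) ∈
      ⁅stabO w, stabO w⁆ := by
  obtain ⟨r, hr0, hr1⟩ := exists_t (F := F) hq
  -- the auxiliary anisotropic vector
  set w₀ : VV (n + 3) F := eb 2 + fb 2 with hw₀
  have hQw₀ : QfPlus (n + 3) F w₀ ≠ 0 := by
    rw [hw₀, Q_add, Q_eb, Q_fb, B_eb_fb, if_pos rfl]
    simp
  have h02 : (0 : Fin (n + 3)) ≠ 2 := by
    intro h; have := congrArg Fin.val h; rw [Fin.val_zero, Fin.val_two] at this; omega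
  have h12 : (1 : Fin (n + 3)) ≠ 2 := by
    intro h; have := congrArg Fin.val h; rw [Fin.val_one, Fin.val_two] at this; omega
  have h01 : (0 : Fin (n + 3)) ≠ 1 := by
    intro h; have := congrArg Fin.val h; rw [Fin.val_zero, Fin.val_one] at this; omega
  have e_w₀ : ∀ i : Fin (n + 3), i ≠ 2 → B (QfPlus (n + 3) F) (eb i) w₀ = 0 := by
    intro i hi
    rw [hw₀]
    exact B_add_right_zero _ (B_eb_eb i 2) (by rw [B_eb_fb, if_neg hi])
  have f_w₀ : ∀ i : Fin (n + 3), i ≠ 2 → B (QfPlus (n + 3) F) (fb i) w₀ = 0 := by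
    intro i hi
    rw [hw₀]
    exact B_add_right_zero _ (by rw [B_fb_eb, if_neg hi]) (B_fb_fb i 2)
  by_cases hb : B (QfPlus (n + 3) F) (fb 1) w = 0
  · -- `w ⊥ f₁`: use the hyperbolic pair `(e₁, f₁)`
    exact comm_lemma (by omega) (eb 0) (eb 1) (fb 1) w w₀ (Q_eb 0) (B_eb_eb 0 1) (hyp_eb_fb 1)
      (by rw [B_eb_fb, if_neg h01]) h0 h1 hb (e_w₀ 1 h12) (f_w₀ 1 h12) hQw₀ r hr0 hr1
  · -- general case
    set a : F := B (QfPlus (n + 3) F) (fb 0) w with ha
    set b : F := B (QfPlus (n + 3) F) (fb 1) w with hbdef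
    set u' : VV (n + 3) F := a • eb 0 + b • eb 1 with hu'
    set v' : VV (n + 3) F := (-b⁻¹) • eb 0 with hv'
    set vs : VV (n + 3) F := a • fb 1 + (-b) • fb 0 with hvs
    have Bl : ∀ (c d : F) (x y z : VV (n + 3) F), B (QfPlus (n + 3) F) (c • x + d • y) z =
        c * B (QfPlus (n + 3) F) x z + d * B (QfPlus (n + 3) F) y z := by
      intro c d x y z
      simp only [B, QuadraticMap.polar_add_left, QuadraticMap.polar_smul_left, smul_eq_mul]
    have Br : ∀ (c d : F) (x y z : VV (n + 3) F), B (QfPlus (n + 3) F) z (c • x + d • y) =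
        c * B (QfPlus (n + 3) F) z x + d * B (QfPlus (n + 3) F) z y := by
      intro c d x y z
      simp only [B, QuadraticMap.polar_add_right, QuadraticMap.polar_smul_right, smul_eq_mul]
    have Bsl : ∀ (c : F) (x z : VV (n + 3) F), B (QfPlus (n + 3) F) (c • x) z =
        c * B (QfPlus (n + 3) F) x z := by
      intro c x z
      simp only [B, QuadraticMap.polar_smul_left, smul_eq_mul]
    have Qu' : QfPlus (n + 3) F u' = 0 := by
      rw [hu', Q_add, Q_smul, Q_smul, Q_eb, Q_eb, Bsl, show B (QfPlus (n + 3) F) (eb 0)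
        (b • (eb 1 : VV (n + 3) F)) = 0 from B_smul_right_zero _ b (B_eb_eb 0 1)]
      ring
    have Bu'v' : B (QfPlus (n + 3) F) u' v' = 0 := by
      rw [hu', hv', Bl]
      rw [show B (QfPlus (n + 3) F) (eb 0) ((-b⁻¹) • (eb 0 : VV (n + 3) F)) = 0 from
        B_smul_right_zero _ _ (B_eb_eb 0 0),
        show B (QfPlus (n + 3) F) (eb 1) ((-b⁻¹) • (eb 0 : VV (n + 3) F)) = 0 from
        B_smul_right_zero _ _ (B_eb_eb 1 0)]
      ring
    have hp' : HypPair (QfPlus (n + 3) F) v' vs := by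
      refine ⟨?_, ?_, ?_⟩
      · rw [hv', Q_smul, Q_eb, mul_zero]
      · rw [hvs, Q_add, Q_smul, Q_smul, Q_fb, Q_fb, Bsl,
          show B (QfPlus (n + 3) F) (fb 1) ((-b) • (fb 0 : VV (n + 3) F)) = 0 from
          B_smul_right_zero _ _ (B_fb_fb 1 0)]
        ring
      · rw [hv', hvs, Bsl, Br, B_eb_fb, B_eb_fb, if_neg h01, if_pos rfl]
        field_simp
        ring
    have Bu'vs : B (QfPlus (n + 3) F) u' vs = 0 := by
      rw [hu', hvs, Bl, Br, Br, B_eb_fb, B_eb_fb, B_eb_fb, B_eb_fb, if_neg h01, if_pos rfl,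
        if_neg h01.symm, if_pos rfl]
      ring
    have Bu'w : B (QfPlus (n + 3) F) u' w = 0 := by
      rw [hu', Bl, h0, h1]; ring
    have Bv'w : B (QfPlus (n + 3) F) v' w = 0 := by
      rw [hv', Bsl, h0]; ring
    have Bvsw : B (QfPlus (n + 3) F) vs w = 0 := by
      rw [hvs, Bl, ← ha, ← hbdef]; ring
    have Bv'w₀ : B (QfPlus (n + 3) F) v' w₀ = 0 := by
      rw [hv', Bsl, e_w₀ 0 h02]; ring
    have Bvsw₀ : B (QfPlus (n + 3) F) vs w₀ = 0 := by
      rw [hvs, Bl, f_w₀ 1 h12, f_w₀ 0 h02]; ring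
    have hmem := comm_lemma (by omega) u' v' vs w w₀ Qu' Bu'v' hp' Bu'vs Bu'w Bv'w Bvsw
      Bv'w₀ Bvsw₀ hQw₀ r hr0 hr1
    have heq : (sg (by omega) (eb 0) (eb 1) (Q_eb 0) (B_eb_eb 0 1) : GO (n + 3) F) =
        sg (by omega) u' v' Qu' Bu'v' := by
      apply Subtype.ext
      rw [sg_val, sg_val]
      apply O_ext
      intro x
      rw [siegO_mulVec, siegO_mulVec, Q_eb, hp'.Qe, hu', hv', Bl, Bsl]
      have hb' : b ≠ 0 := hb
      simp only [zero_mul, zero_smul, sub_zero, smul_add, smul_smul]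
      have e1 : (a * B (QfPlus (n + 3) F) (eb 0) x + b * B (QfPlus (n + 3) F) (eb 1) x) * -b⁻¹ =
          -(a * b⁻¹ * B (QfPlus (n + 3) F) (eb 0) x) - B (QfPlus (n + 3) F) (eb 1) x := by
        field_simp
        ring
      have e2 : -b⁻¹ * B (QfPlus (n + 3) F) (eb 0) x * b = - B (QfPlus (n + 3) F) (eb 0) x := by
        field_simp
      have e3 : -b⁻¹ * B (QfPlus (n + 3) F) (eb 0) x * a =
          -(a * b⁻¹ * B (QfPlus (n + 3) F) (eb 0) x) := by
        field_simp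
      rw [e1, e2, e3]
      module
    rw [heq]
    exact hmem

end Cfsg.Agent.Helper12.LOP
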