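import Mathlib
import Cfsg.Prelude.Def_GeometricClasses
import Cfsg.Agent.Helper3.OC2.Defs

/-! # S5692 / S5694, chapter TRANSPORT (designer helper3), piece FRAME (helper4):
bases of the blocks in which all blocks carry the same form. -/

set_option autoImplicit false
set_option linter.unusedSectionVars false
set_option linter.unusedVariables false

namespace Cfsg.Agent.OC2P

open Matrix Cfsg.Geo

variable {F : Type*} [Field F] {t k n : ℕ}

/-- FRAME (M) -/
theorem FRAME.exists {ι : Type} [Fintype ι] [DecidableEq ι] {Q : (ι → F) → F}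
    {D : Fin t → Submodule F (ι → F)} (hD : IsOrthogonalMDecomposition Q k D) :
    ∃ b : Fin t → Fin k → (ι → F), (∀ i j, b i j ∈ D i) ∧ (∀ i, LinearIndependent F (b i)) ∧
      (∀ i, Submodule.span F (Set.range (b i)) = D i) ∧
      ∀ (i i' : Fin t) (y : Fin k → F), Q (∑ j, y j • b i j) = Q (∑ j, y j • b i' j) := by
  classical
  have ht : 0 < t := lt_of_lt_of_le (by norm_num) hD.decomp.decomp.two_le
  set i₀ : Fin t := ⟨0, ht⟩ with hi₀
  have hfr : Module.finrank F (D i₀) = k := hD.decomp.decomp.finrank_eq i₀
  let β : Module.Basis (Fin k) F (D i₀) := Module.finBasisOfFinrankEq F (D i₀) hfr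
  choose ε hε using fun i => hD.isometric i₀ i
  let f : ∀ i : Fin t, (D i₀) →ₗ[F] (ι → F) := fun i => (D i).subtype ∘ₗ (ε i).toLinearMap
  have hf_apply : ∀ i (v : D i₀), f i v = ((ε i v : D i) : ι → F) := fun i v => rfl
  have hfQ : ∀ i (v : D i₀), Q (f i v) = Q (v : ι → F) := fun i v => by
    rw [hf_apply]; exact hε i v
  have hker : ∀ i, LinearMap.ker (f i) = ⊥ := by
    intro i
    rw [LinearMap.ker_eq_bot]
    intro v w hvw
    have h1 : (ε i v : D i) = ε i w := Subtype.ext hvw
    exact (ε i).injective h1
  have hrange : ∀ i, LinearMap.range (f i) = D i := by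
    intro i
    rw [LinearMap.range_comp, LinearEquiv.range, Submodule.map_top, Submodule.range_subtype]
  refine ⟨fun i j => f i (β j), ?_, ?_, ?_, ?_⟩
  · intro i j
    exact (ε i (β j)).2
  · intro i
    exact β.linearIndependent.map' (f i) (hker i)
  · intro i
    have h1 : Set.range (fun j => f i (β j)) = (f i) '' Set.range β := by
      rw [← Set.range_comp]; rfl
    rw [h1, ← Submodule.map_span, β.span_eq, Submodule.map_top, hrange]
  · intro i i' y
    have h1 : ∀ i : Fin t, ∑ j, y j • f i (β j) = f i (∑ j, y j • β j) := by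
      intro i
      rw [map_sum]
      apply Finset.sum_congr rfl
      intro j _
      rw [map_smul]
    show Q (∑ j, y j • f i (β j)) = Q (∑ j, y j • f i' (β j))
    rw [h1 i, h1 i', hfQ, hfQ]

end Cfsg.Agent.OC2P
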