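import Mathlib
import Cfsg.Prelude.Def_GeometricClasses
import Cfsg.Agent.Helper3.OC2.Defs

/-! # S5692 / S5694, chapter TRANSPORT (designer helper3), piece QSUM (helper4):
`Q` is additive on pairwise polar-orthogonal vectors. -/

set_option autoImplicit false
set_option linter.unusedSectionVars false
set_option linter.unusedVariables false

namespace Cfsg.Agent.OC2P

open Matrix Cfsg.Geo

variable {F : Type*} [Field F] {t k n : ℕ}

theorem QSUM.map_zero {ι : Type} [Fintype ι] [DecidableEq ι] {Q : (ι → F) → F}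
    (hQ : IsNondegenerateQuadraticForm Q) : Q 0 = 0 := by
  have h := hQ.smul 0 (0 : ι → F)
  rw [zero_smul] at h
  rw [h]
  ring

theorem QSUM.polar_sum_right {ι : Type} [Fintype ι] [DecidableEq ι] {Q : (ι → F) → F}
    (hQ : IsNondegenerateQuadraticForm Q) {κ : Type} (s : Finset κ) (v : ι → F) (w : κ → (ι → F)) :
    QuadraticMap.polar Q v (∑ i ∈ s, w i) = ∑ i ∈ s, QuadraticMap.polar Q v (w i) := by
  classical
  induction s using Finset.induction_on with
  | empty =>
    rw [Finset.sum_empty, Finset.sum_empty]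
    have h := hQ.polar_bilinear.smul_right 0 v (0 : ι → F)
    rw [zero_smul] at h
    rw [h, zero_mul]
  | insert a s ha ih =>
    rw [Finset.sum_insert ha, Finset.sum_insert ha, hQ.polar_bilinear.add_right, ih]

theorem QSUM.sum_finset {ι : Type} [Fintype ι] [DecidableEq ι] {Q : (ι → F) → F}
    (hQ : IsNondegenerateQuadraticForm Q) {κ : Type} (s : Finset κ) (w : κ → (ι → F))
    (horth : ∀ i ∈ s, ∀ j ∈ s, i ≠ j → QuadraticMap.polar Q (w i) (w j) = 0) :
    Q (∑ i ∈ s, w i) = ∑ i ∈ s, Q (w i) := by
  classical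
  induction s using Finset.induction_on with
  | empty => rw [Finset.sum_empty, Finset.sum_empty, QSUM.map_zero hQ]
  | insert a s ha ih =>
    rw [Finset.sum_insert ha, Finset.sum_insert ha]
    have hpol : QuadraticMap.polar Q (w a) (∑ i ∈ s, w i) = 0 := by
      rw [QSUM.polar_sum_right hQ]
      apply Finset.sum_eq_zero
      intro i hi
      apply horth a (Finset.mem_insert_self a s) i (Finset.mem_insert_of_mem hi)
      rintro rfl
      exact ha hi
    have ih' := ih (fun i hi j hj hij =>
      horth i (Finset.mem_insert_of_mem hi) j (Finset.mem_insert_of_mem hj) hij)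
    unfold QuadraticMap.polar at hpol
    rw [← ih']
    linear_combination hpol

/-- QSUM (S-M) -/
theorem QSUM.main {ι : Type} [Fintype ι] [DecidableEq ι] {Q : (ι → F) → F}
    (hQ : IsNondegenerateQuadraticForm Q) {D : Fin t → Submodule F (ι → F)}
    (horth : ∀ i j, i ≠ j → AreOrthogonalFor (QuadraticMap.polar Q) (D i) (D j))
    (w : Fin t → (ι → F)) (hw : ∀ i, w i ∈ D i) : Q (∑ i, w i) = ∑ i, Q (w i) := by
  apply QSUM.sum_finset hQ
  intro i _ j _ hij
  exact horth i j hij (w i) (hw i) (w j) (hw j)

end Cfsg.Agent.OC2P
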