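import Mathlib

set_option autoImplicit false
set_option linter.unusedSectionVars false
set_option linter.unusedVariables false

/-! # Piece P1 of the small Ree cluster: fusion for a self-centralising elementary abelian Sylow
2-subgroup of order 8 with normaliser of order 168. -/

namespace Cfsg.Agent.Helper4.ReeP1

section Core

variable {E M : Type*} [Group E] [Group M] [MulDistribMulAction M E]

/-- the subgroup of the points fixed by `m` -/
def fixSub (m : M) : Subgroup E where
  carrier := {s | m • s = s}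
  one_mem' := smul_one m
  mul_mem' := by
    intro a b ha hb
    simp only [Set.mem_setOf_eq] at *
    rw [smul_mul', ha, hb]
  inv_mem' := by
    intro a ha
    simp only [Set.mem_setOf_eq] at *
    rw [smul_inv', ha]

theorem mem_fixSub {m : M} {s : E} : s ∈ fixSub (E := E) m ↔ m • s = s := Iff.rfl

theorem fixedPoints_zpowers (m : M) :
    MulAction.fixedPoints (Subgroup.zpowers m) E = {s | m • s = s} := by
  ext s
  constructor
  · intro h
    exact h ⟨m, Subgroup.mem_zpowers m⟩
  · intro h g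
    have h1 : m ∈ MulAction.stabilizer M s := h
    have h2 : Subgroup.zpowers m ≤ MulAction.stabilizer M s := Subgroup.zpowers_le.mpr h1
    exact h2 g.2

variable [Finite E] [Finite M]

/-- number of fixed points of an element of prime order -/
theorem card_fixSub_modEq (m : M) {p : ℕ} [Fact p.Prime] (hm : orderOf m = p) :
    Nat.card E ≡ Nat.card (fixSub (E := E) m) [MOD p] := by
  have hP : IsPGroup p (Subgroup.zpowers m) := by
    apply IsPGroup.of_card (n := 1)
    rw [Nat.card_zpowers, hm, pow_one]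
  have h := hP.card_modEq_card_fixedPoints E
  rw [fixedPoints_zpowers] at h
  exact h

theorem orderOf_dvd_of_fixSub_top (hker : ∀ m : M, (∀ s : E, m • s = s) → orderOf m ∣ 8)
    (m : M) (h : fixSub (E := E) m = ⊤) : orderOf m ∣ 8 := by
  apply hker
  intro s
  have : s ∈ fixSub (E := E) m := by rw [h]; trivial
  exact this

theorem card_fixSub_seven (hE : Nat.card E = 8)
    (hker : ∀ m : M, (∀ s : E, m • s = s) → orderOf m ∣ 8) (x : M) (hx : orderOf x = 7) :
    fixSub (E := E) x = ⊥ := by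
  haveI : Fact (Nat.Prime 7) := ⟨by norm_num⟩
  have h1 := card_fixSub_modEq (E := E) x hx
  have h2 : Nat.card (fixSub (E := E) x) ∣ 8 := hE ▸ Subgroup.card_subgroup_dvd_card _
  rw [hE] at h1
  have h3 : Nat.card (fixSub (E := E) x) ≤ 8 := Nat.le_of_dvd (by norm_num) h2
  have h4 : Nat.card (fixSub (E := E) x) = 1 ∨ Nat.card (fixSub (E := E) x) = 8 := by
    unfold Nat.ModEq at h1
    interval_cases (Nat.card (fixSub (E := E) x)) <;> simp_all
  rcases h4 with h4 | h4
  · exact Subgroup.card_eq_one.mp h4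
  · exfalso
    have h5 : fixSub (E := E) x = ⊤ := Subgroup.eq_top_of_card_eq _ (h4.trans hE.symm)
    have h6 := orderOf_dvd_of_fixSub_top hker x h5
    rw [hx] at h6
    omega

theorem card_fixSub_three (hE : Nat.card E = 8)
    (hker : ∀ m : M, (∀ s : E, m • s = s) → orderOf m ∣ 8) (y : M) (hy : orderOf y = 3) :
    Nat.card (fixSub (E := E) y) = 2 := by
  haveI : Fact (Nat.Prime 3) := ⟨by norm_num⟩
  have h1 := card_fixSub_modEq (E := E) y hy
  have h2 : Nat.card (fixSub (E := E) y) ∣ 8 := hE ▸ Subgroup.card_subgroup_dvd_card _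
  rw [hE] at h1
  have h3 : Nat.card (fixSub (E := E) y) ≤ 8 := Nat.le_of_dvd (by norm_num) h2
  have h4 : Nat.card (fixSub (E := E) y) = 2 ∨ Nat.card (fixSub (E := E) y) = 8 := by
    unfold Nat.ModEq at h1
    interval_cases (Nat.card (fixSub (E := E) y)) <;> simp_all
  rcases h4 with h4 | h4
  · exact h4
  · exfalso
    have h5 : fixSub (E := E) y = ⊤ := Subgroup.eq_top_of_card_eq _ (h4.trans hE.symm)
    have h6 := orderOf_dvd_of_fixSub_top hker y h5
    rw [hy] at h6
    omega

/-- the `⟨x⟩`-orbit of a non-identity point is the set of all non-identity points -/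
theorem exists_zpowers_smul_eq (hE : Nat.card E = 8)
    (hker : ∀ m : M, (∀ s : E, m • s = s) → orderOf m ∣ 8) (x : M) (hx : orderOf x = 7)
    (a b : E) (ha : a ≠ 1) (hb : b ≠ 1) : ∃ p : Subgroup.zpowers x, p • a = b := by
  have hfix := card_fixSub_seven hE hker x hx
  have hcardP : Nat.card (Subgroup.zpowers x) = 7 := by rw [Nat.card_zpowers, hx]
  haveI : Fact (Nat.card (Subgroup.zpowers x)).Prime := ⟨by rw [hcardP]; norm_num⟩
  have hstab : MulAction.stabilizer (Subgroup.zpowers x) a = ⊥ := by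
    rcases Subgroup.eq_bot_or_eq_top_of_prime_card (MulAction.stabilizer (Subgroup.zpowers x) a)
      with h | h
    · exact h
    · exfalso
      have h1 : (⟨x, Subgroup.mem_zpowers x⟩ : Subgroup.zpowers x) ∈
          MulAction.stabilizer (Subgroup.zpowers x) a := by rw [h]; trivial
      have h2 : x • a = a := h1
      have h3 : a ∈ fixSub (E := E) x := h2
      rw [hfix, Subgroup.mem_bot] at h3
      exact ha h3
  have horb : (MulAction.orbit (Subgroup.zpowers x) a).ncard = 7 := by
    rw [← MulAction.index_stabilizer, hstab, Subgroup.index_bot, hcardP]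
  have hsub : MulAction.orbit (Subgroup.zpowers x) a ⊆ ({1}ᶜ : Set E) := by
    rintro _ ⟨p, rfl⟩
    simp only [Set.mem_compl_iff, Set.mem_singleton_iff]
    intro h
    apply ha
    have : p • a = p • (1 : E) := by rw [h, smul_one]
    exact MulAction.injective p this
  have hcompl : ({1}ᶜ : Set E).ncard = 7 := by
    rw [Set.ncard_compl, hE, Set.ncard_singleton]
  have heq : MulAction.orbit (Subgroup.zpowers x) a = ({1}ᶜ : Set E) :=
    Set.eq_of_subset_of_ncard_le hsub (by rw [horb, hcompl]) (Set.toFinite _)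
  have hb' : b ∈ MulAction.orbit (Subgroup.zpowers x) a := by
    rw [heq]
    simpa using hb
  obtain ⟨p, hp⟩ := hb'
  exact ⟨p, hp⟩

theorem comm_of_sq (hexp : ∀ s : E, s * s = 1) (a b : E) : a * b = b * a := by
  have ha : a⁻¹ = a := inv_eq_of_mul_eq_one_right (hexp a)
  have hb : b⁻¹ = b := inv_eq_of_mul_eq_one_right (hexp b)
  have hab : (a * b)⁻¹ = a * b := inv_eq_of_mul_eq_one_right (hexp (a * b))
  rw [mul_inv_rev, ha, hb] at hab
  exact hab.symm

theorem mul_rearr (hc : ∀ a b : E, a * b = b * a) (s t a b c d : E) :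
    (s * t) * (a * b) * (c * d) = (s * a * c) * (t * b * d) := by
  calc (s * t) * (a * b) * (c * d) = s * (t * a) * b * (c * d) := by simp only [mul_assoc]
    _ = s * (a * t) * b * (c * d) := by rw [hc t a]
    _ = (s * a) * ((t * b) * c) * d := by simp only [mul_assoc]
    _ = (s * a) * (c * (t * b)) * d := by rw [hc (t * b) c]
    _ = (s * a * c) * (t * b * d) := by simp only [mul_assoc]

/-- the norm map `s ↦ s · y s · y² s` -/
def normHom (hexp : ∀ s : E, s * s = 1) (y : M) : E →* E where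
  toFun s := s * (y • s) * (y • y • s)
  map_one' := by simp
  map_mul' := by
    intro s t
    simp only [smul_mul']
    exact mul_rearr (comm_of_sq hexp) _ _ _ _ _ _

theorem normHom_apply (hexp : ∀ s : E, s * s = 1) (y : M) (s : E) :
    normHom hexp y s = s * (y • s) * (y • y • s) := rfl

theorem cube_smul (y : M) (hy : orderOf y = 3) (s : E) : y • y • y • s = s := by
  rw [← mul_smul, ← mul_smul]
  have : y * y * y = y ^ 3 := by rw [pow_succ, pow_two]
  rw [this, ← hy, pow_orderOf_eq_one, one_smul]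

/-- an element of order `3` normalizes a four-group on which it acts without fixed points -/
theorem exists_four_of_order_three (hE : Nat.card E = 8) (hexp : ∀ s : E, s * s = 1)
    (hker : ∀ m : M, (∀ s : E, m • s = s) → orderOf m ∣ 8) (y : M) (hy : orderOf y = 3) :
    ∃ V₀ : Subgroup E, Nat.card V₀ = 4 ∧ (∀ v ∈ V₀, y • v ∈ V₀) ∧
      ∀ v ∈ V₀, v ≠ 1 → y • v ≠ v := by
  have hc := comm_of_sq hexp
  have hfix := card_fixSub_three hE hker y hy
  refine ⟨(normHom hexp y).ker, ?_, ?_, ?_⟩
  · -- cardinality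
    have hrange_le : (normHom hexp y).range ≤ fixSub (E := E) y := by
      rintro _ ⟨s, rfl⟩
      show y • (normHom hexp y s) = normHom hexp y s
      rw [normHom_apply, smul_mul', smul_mul', cube_smul y hy]
      rw [hc (y • s * y • y • s) s, mul_assoc]
    have hne : (normHom hexp y).range ≠ ⊥ := by
      have hnb : fixSub (E := E) y ≠ ⊥ := by
        intro h
        rw [h, Subgroup.card_bot] at hfix
        omega
      obtain ⟨⟨a₀, ha₀⟩, ha₀1⟩ := (Subgroup.ne_bot_iff_exists_ne_one.mp hnb)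
      have ha₀' : y • a₀ = a₀ := ha₀
      have hval : normHom hexp y a₀ = a₀ := by
        rw [normHom_apply, ha₀', ha₀', hexp a₀, one_mul]
      intro hbot
      have hmem : a₀ ∈ (normHom hexp y).range := ⟨a₀, hval⟩
      rw [hbot, Subgroup.mem_bot] at hmem
      apply ha₀1
      exact Subtype.ext hmem
    have hr2 : Nat.card (normHom hexp y).range = 2 := by
      have h1 : Nat.card (normHom hexp y).range ∣ 2 := hfix ▸ Subgroup.card_dvd_of_le hrange_le
      have h2 : Nat.card (normHom hexp y).range ≠ 1 := fun h => hne (Subgroup.card_eq_one.mp h)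
      have h3 : Nat.card (normHom hexp y).range ≤ 2 := Nat.le_of_dvd (by norm_num) h1
      have h4 : 0 < Nat.card (normHom hexp y).range := Nat.card_pos
      omega
    have h5 := Subgroup.card_mul_index (normHom hexp y).ker
    rw [Subgroup.index_ker, hr2, hE] at h5
    omega
  · intro v hv
    rw [MonoidHom.mem_ker] at hv ⊢
    rw [normHom_apply] at hv ⊢
    rw [← smul_mul', ← smul_mul', hv, smul_one]
  · intro v hv hv1 hfixv
    apply hv1
    rw [MonoidHom.mem_ker, normHom_apply, hfixv, hfixv, hexp v, one_mul] at hv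
    exact hv

/-- a subgroup of order `4` has two distinct non-identity elements -/
theorem exists_two_of_card_four (V : Subgroup E) (hV : Nat.card V = 4) :
    ∃ a b : E, a ∈ V ∧ b ∈ V ∧ a ≠ 1 ∧ b ≠ 1 ∧ a ≠ b := by
  have hnb : V ≠ ⊥ := by
    intro h
    rw [h, Subgroup.card_bot] at hV
    omega
  obtain ⟨⟨a, ha⟩, ha1⟩ := Subgroup.ne_bot_iff_exists_ne_one.mp hnb
  have ha1' : a ≠ 1 := fun h => ha1 (Subtype.ext h)
  by_contra hcon
  push Not at hcon
  have hsub : (V : Set E) ⊆ {1, a} := by
    intro v hv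
    by_cases hv1 : v = 1
    · simp [hv1]
    · have := hcon a v ha hv ha1' hv1
      simp [this]
  have h1 : (V : Set E).ncard ≤ ({1, a} : Set E).ncard :=
    Set.ncard_le_ncard hsub (Set.toFinite _)
  have h2 : ({1, a} : Set E).ncard ≤ 2 := by
    have := Set.ncard_insert_le (1 : E) ({a} : Set E)
    rw [Set.ncard_singleton] at this
    exact this
  have h3 : (V : Set E).ncard = 4 := by
    rw [← hV]
    exact (Nat.card_coe_set_eq (V : Set E)).symm
  omega

/-- the elements of a subgroup of order `4` containing two distinct non-identity elements -/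
theorem mem_four (hexp : ∀ s : E, s * s = 1) (V : Subgroup E) (hV : Nat.card V = 4) (u u' : E)
    (hu : u ∈ V) (hu' : u' ∈ V) (hu1 : u ≠ 1) (hu'1 : u' ≠ 1) (hne : u ≠ u') (v : E) (hv : v ∈ V) :
    v = 1 ∨ v = u ∨ v = u' ∨ v = u * u' := by
  classical
  by_contra hcon
  push Not at hcon
  obtain ⟨h1, h2, h3, h4⟩ := hcon
  have huu' : u * u' ≠ 1 := by
    intro h
    apply hne
    have := eq_inv_of_mul_eq_one_left h
    rw [this]
    exact inv_eq_of_mul_eq_one_right (hexp u')
  have hsub : (({1, u, u', u * u', v} : Finset E) : Set E) ⊆ (V : Set E) := by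
    intro w hw
    simp only [Finset.coe_insert, Finset.coe_singleton, Set.mem_insert_iff,
      Set.mem_singleton_iff] at hw
    rcases hw with rfl | rfl | rfl | rfl | rfl
    · exact V.one_mem
    · exact hu
    · exact hu'
    · exact V.mul_mem hu hu'
    · exact hv
  have hcard : ({1, u, u', u * u', v} : Finset E).card = 5 := by
    rw [Finset.card_insert_of_notMem, Finset.card_insert_of_notMem,
      Finset.card_insert_of_notMem, Finset.card_insert_of_notMem, Finset.card_singleton]
    · simp only [Finset.mem_singleton]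
      exact fun h => h4 h.symm
    · simp only [Finset.mem_insert, Finset.mem_singleton, not_or]
      refine ⟨?_, fun h => h3 h.symm⟩
      intro h
      apply hu1
      have h' : 1 * u' = u * u' := by rw [one_mul]; exact h
      exact (mul_right_cancel h').symm
    · simp only [Finset.mem_insert, Finset.mem_singleton, not_or]
      refine ⟨hne, ?_, fun h => h2 h.symm⟩
      intro h
      apply hu'1
      have h' : u * 1 = u * u' := by rw [mul_one]; exact h
      exact (mul_left_cancel h').symm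
    · simp only [Finset.mem_insert, Finset.mem_singleton, not_or]
      exact ⟨fun h => hu1 h.symm, fun h => hu'1 h.symm, fun h => huu' h.symm, fun h => h1 h.symm⟩
  have h5 : (({1, u, u', u * u', v} : Finset E) : Set E).ncard ≤ (V : Set E).ncard :=
    Set.ncard_le_ncard hsub (Set.toFinite _)
  rw [Set.ncard_coe_finset, hcard] at h5
  have h6 : (V : Set E).ncard = 4 := by
    rw [← hV]
    exact (Nat.card_coe_set_eq (V : Set E)).symm
  omega

theorem card_ne_one_of_card_four (V : Subgroup E) (hV : Nat.card V = 4) :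
    Nat.card {v : V // v ≠ 1} = 3 := by
  have h1 : ({1}ᶜ : Set V).ncard = 3 := by
    rw [Set.ncard_compl, hV, Set.ncard_singleton]
  rw [← h1, ← Nat.card_coe_set_eq]
  rfl

/-- a power of `x` carries a given four-group into another given one -/
theorem exists_zpowers_map_four (hE : Nat.card E = 8) (hexp : ∀ s : E, s * s = 1)
    (hker : ∀ m : M, (∀ s : E, m • s = s) → orderOf m ∣ 8) (x : M) (hx : orderOf x = 7)
    (V₀ V : Subgroup E) (hV₀ : Nat.card V₀ = 4) (hV : Nat.card V = 4) :
    ∃ p : Subgroup.zpowers x, ∀ v ∈ V₀, p • v ∈ V := by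
  classical
  have hex : ∀ ab : {v : V₀ // v ≠ 1} × {v : V // v ≠ 1},
      ∃ p : Subgroup.zpowers x, p • ((ab.1 : V₀) : E) = ((ab.2 : V) : E) := by
    rintro ⟨⟨a, ha⟩, ⟨b, hb⟩⟩
    exact exists_zpowers_smul_eq hE hker x hx _ _ (fun h => ha (Subtype.ext h))
      (fun h => hb (Subtype.ext h))
  choose φ hφ using hex
  have hninj : ¬ Function.Injective φ := by
    intro hinj
    have h1 := Nat.card_le_card_of_injective φ hinj
    rw [Nat.card_prod, card_ne_one_of_card_four V₀ hV₀, card_ne_one_of_card_four V hV,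
      Nat.card_zpowers, hx] at h1
    omega
  rw [Function.not_injective_iff] at hninj
  obtain ⟨⟨a, b⟩, ⟨a', b'⟩, heq, hne⟩ := hninj
  have h1 := hφ (a, b)
  have h2 := hφ (a', b')
  rw [← heq] at h2
  simp only at h1 h2
  have hbb' : b ≠ b' := by
    intro h
    apply hne
    have : ((a : V₀) : E) = ((a' : V₀) : E) := by
      apply MulAction.injective (φ (a, b))
      show φ (a, b) • ((a : V₀) : E) = φ (a, b) • ((a' : V₀) : E)
      rw [h1, h2, h]
    have haa' : a = a' := Subtype.ext (Subtype.ext this)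
    rw [haa', h]
  have haa' : a ≠ a' := by
    intro h
    apply hbb'
    have : ((b : V) : E) = ((b' : V) : E) := by rw [← h1, ← h2, h]
    exact Subtype.ext (Subtype.ext this)
  refine ⟨φ (a, b), fun v hv => ?_⟩
  have hmem := mem_four hexp V₀ hV₀ ((a : V₀) : E) ((a' : V₀) : E) (a : V₀).2 (a' : V₀).2
    (fun h => a.2 (Subtype.ext h)) (fun h => a'.2 (Subtype.ext h))
    (fun h => haa' (Subtype.ext (Subtype.ext h))) v hv
  rcases hmem with rfl | rfl | rfl | rfl
  · rw [smul_one]; exact V.one_mem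
  · rw [h1]; exact (b : V).2
  · rw [h2]; exact (b' : V).2
  · rw [smul_mul', h1, h2]; exact V.mul_mem (b : V).2 (b' : V).2

/-- the abstract form of P1 -/
theorem core (hE : Nat.card E = 8) (hexp : ∀ s : E, s * s = 1)
    (hker : ∀ m : M, (∀ s : E, m • s = s) → orderOf m ∣ 8) (hM : Nat.card M = 168) :
    (∀ a b : E, a ≠ 1 → b ≠ 1 → ∃ m : M, m • a = b) ∧
    (∀ V : Subgroup E, Nat.card V = 4 →
      ∃ m : M, (∀ v ∈ V, m • v ∈ V) ∧ ∀ v ∈ V, v ≠ 1 → m • v ≠ v) ∧
    (∀ V W : Subgroup E, Nat.card V = 4 → Nat.card W = 4 → ∃ m : M, ∀ v ∈ V, m • v ∈ W) := by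
  haveI : Fact (Nat.Prime 7) := ⟨by norm_num⟩
  haveI : Fact (Nat.Prime 3) := ⟨by norm_num⟩
  obtain ⟨x, hx⟩ := exists_prime_orderOf_dvd_card' (G := M) 7 (by rw [hM]; norm_num)
  obtain ⟨y, hy⟩ := exists_prime_orderOf_dvd_card' (G := M) 3 (by rw [hM]; norm_num)
  obtain ⟨V₀, hV₀, hinv, hmove⟩ := exists_four_of_order_three hE hexp hker y hy
  have key : ∀ V : Subgroup E, Nat.card V = 4 →
      ∃ m : M, (∀ v ∈ V₀, m • v ∈ V) ∧ (∀ w ∈ V, m⁻¹ • w ∈ V₀) := by
    intro V hV
    obtain ⟨p, hp⟩ := exists_zpowers_map_four hE hexp hker x hx V₀ V hV₀ hV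
    refine ⟨(p : M), hp, ?_⟩
    haveI : Finite V := Nat.finite_of_card_ne_zero (by rw [hV]; norm_num)
    let f : V₀ → V := fun v => ⟨(p : M) • (v : E), hp v v.2⟩
    have hinj : Function.Injective f := by
      intro a b hab
      have h1 : (p : M) • (a : E) = (p : M) • (b : E) := congrArg Subtype.val hab
      exact Subtype.ext (MulAction.injective (p : M) h1)
    have hbij := hinj.bijective_of_nat_card_le (by rw [hV₀, hV])
    intro w hw
    obtain ⟨v, hv⟩ := hbij.2 ⟨w, hw⟩
    have h2 : (p : M) • (v : E) = w := congrArg Subtype.val hv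
    rw [← h2, inv_smul_smul]
    exact v.2
  refine ⟨?_, ?_, ?_⟩
  · intro a b ha hb
    obtain ⟨p, hp⟩ := exists_zpowers_smul_eq hE hker x hx a b ha hb
    exact ⟨(p : M), hp⟩
  · intro V hV
    obtain ⟨m, hm1, hm2⟩ := key V hV
    refine ⟨m * y * m⁻¹, ?_, ?_⟩
    · intro v hv
      rw [mul_smul, mul_smul]
      exact hm1 _ (hinv _ (hm2 v hv))
    · intro v hv hv1 hfix
      rw [mul_smul, mul_smul] at hfix
      have h1 : m • (y • m⁻¹ • v) = m • (m⁻¹ • v) := by rw [hfix, smul_inv_smul]
      have h2 : y • m⁻¹ • v = m⁻¹ • v := MulAction.injective m h1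
      have h3 : m⁻¹ • v = 1 := by
        by_contra h
        exact hmove _ (hm2 v hv) h h2
      apply hv1
      have h4 : m • (m⁻¹ • v) = m • (1 : E) := by rw [h3]
      rw [smul_inv_smul, smul_one] at h4
      exact h4
  · intro V W hV hW
    obtain ⟨m₁, hm1, hm1'⟩ := key V hV
    obtain ⟨m₂, hm2, hm2'⟩ := key W hW
    refine ⟨m₂ * m₁⁻¹, fun v hv => ?_⟩
    rw [mul_smul]
    exact hm2 _ (hm1' v hv)

end Core

section Transfer

open scoped Pointwise

variable {G : Type*} [Group G] [Finite G]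

/-- a `2`-subgroup can be conjugated into a given Sylow `2`-subgroup -/
theorem exists_conj_mem_sylow (S : Sylow 2 G) (P : Subgroup G) (hP : IsPGroup 2 P) :
    ∃ g : G, ∀ v ∈ P, g * v * g⁻¹ ∈ (S : Subgroup G) := by
  haveI : Fact (Nat.Prime 2) := ⟨Nat.prime_two⟩
  obtain ⟨Q, hQ⟩ := hP.exists_le_sylow
  obtain ⟨g, hg⟩ := MulAction.exists_smul_eq G Q S
  refine ⟨g, fun v hv => ?_⟩
  have h1 : v ∈ (Q : Subgroup G) := hQ hv
  have h2 : MulAut.conj g • v ∈ MulAut.conj g • (Q : Subgroup G) :=
    Subgroup.smul_mem_pointwise_smul v (MulAut.conj g) (Q : Subgroup G) h1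
  rw [← Sylow.coe_subgroup_smul, hg] at h2
  simpa [MulAut.smul_def] using h2

/-- a finite subgroup mapped into itself by a conjugation is normalized -/
theorem mem_normalizer_of_conj_mem (V : Subgroup G) (g : G) (h : ∀ v ∈ V, g * v * g⁻¹ ∈ V) :
    g ∈ Subgroup.normalizer (V : Set G) := by
  rw [Subgroup.mem_set_normalizer_iff]
  intro w
  refine ⟨fun hw => h w hw, fun hw => ?_⟩
  let f : V → V := fun v => ⟨g * v * g⁻¹, h v v.2⟩
  have hinj : Function.Injective f := by
    intro a b hab
    have h1 : g * (a : G) * g⁻¹ = g * (b : G) * g⁻¹ := congrArg Subtype.val hab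
    exact Subtype.ext (mul_left_cancel (mul_right_cancel h1))
  obtain ⟨v, hv⟩ := (Finite.injective_iff_surjective.mp hinj) ⟨g * w * g⁻¹, hw⟩
  have h2 : g * (v : G) * g⁻¹ = g * w * g⁻¹ := congrArg Subtype.val hv
  have h3 : (v : G) = w := mul_left_cancel (mul_right_cancel h2)
  rw [← h3]
  exact v.2

/-- pulling back a subgroup of order `4` conjugated into `S` -/
theorem exists_four_in (S : Subgroup G) (V : Subgroup G) (hV : Nat.card V = 4) (g : G)
    (hg : ∀ v ∈ V, g * v * g⁻¹ ∈ S) :
    ∃ V' : Subgroup S, Nat.card V' = 4 ∧ (∀ s : S, s ∈ V' ↔ g⁻¹ * (s : G) * g ∈ V) := by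
  let f : S →* G := (MulAut.conj g⁻¹).toMonoidHom.comp S.subtype
  have hf : ∀ s : S, f s = g⁻¹ * (s : G) * g := by
    intro s
    simp [f]
  refine ⟨V.comap f, ?_, fun s => ?_⟩
  · rw [← hV]
    refine Nat.card_congr
      { toFun := fun w => ⟨f w, w.2⟩
        invFun := fun v => ⟨⟨g * v * g⁻¹, hg v v.2⟩, ?_⟩
        left_inv := ?_
        right_inv := ?_ }
    · rw [Subgroup.mem_comap, hf]
      simp only [mul_assoc, inv_mul_cancel_left, inv_mul_cancel, mul_one]
      exact v.2
    · intro w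
      apply Subtype.ext
      apply Subtype.ext
      simp only [hf, mul_assoc, mul_inv_cancel_left, mul_inv_cancel, mul_one]
    · intro v
      apply Subtype.ext
      simp only [hf, mul_assoc, inv_mul_cancel_left, inv_mul_cancel, mul_one]
  · rw [Subgroup.mem_comap, hf]

theorem smul_coe_normalizer (H : Subgroup G) (m : Subgroup.normalizer (H : Set G)) (s : H) :
    ((m • s : H) : G) = (m : G) * (s : G) * (m : G)⁻¹ := rfl

/-- P1: fusion in a group whose Sylow 2-subgroup is elementary abelian of order 8,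
self-centralising, with normaliser of order 168 -/
theorem P1_sylow_eight (S : Sylow 2 G)
    (hcard : Nat.card S = 8) (hexp : ∀ x ∈ S, x * x = 1)
    (hC : Subgroup.centralizer ((S : Subgroup G) : Set G) = S)
    (hN : Nat.card (Subgroup.normalizer ((S : Subgroup G) : Set G)) = 168) :
    (∀ a b : G, orderOf a = 2 → orderOf b = 2 → ∃ g : G, g * a * g⁻¹ = b) ∧
    (∀ V : Subgroup G, Nat.card V = 4 →
      ∃ g ∈ Subgroup.normalizer (V : Set G), ∀ v ∈ V, v ≠ 1 → g * v * g⁻¹ ≠ v) ∧
    (∀ V W : Subgroup G, Nat.card V = 4 → Nat.card W = 4 →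
      ∃ g : G, W = V.map (MulAut.conj g).toMonoidHom) := by
  haveI : Fact (Nat.Prime 2) := ⟨Nat.prime_two⟩
  have hE : Nat.card (S : Subgroup G) = 8 := hcard
  have hexp' : ∀ s : (S : Subgroup G), s * s = 1 := fun s => Subtype.ext (hexp s s.2)
  have hker : ∀ m : (Subgroup.normalizer ((S : Subgroup G) : Set G)),
      (∀ s : (S : Subgroup G), m • s = s) → orderOf m ∣ 8 := by
    intro m hm
    have hmem : (m : G) ∈ Subgroup.centralizer ((S : Subgroup G) : Set G) := by
      rw [Subgroup.mem_centralizer_iff]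
      intro h hh
      have h1 := congrArg Subtype.val (hm ⟨h, hh⟩)
      rw [smul_coe_normalizer] at h1
      have h2 : (m : G) * h * (m : G)⁻¹ = h := h1
      rw [mul_inv_eq_iff_eq_mul] at h2
      exact h2.symm
    rw [hC] at hmem
    have h8 : (⟨m, hmem⟩ : (S : Subgroup G)) ^ 8 = 1 := by
      rw [← hE]
      exact pow_card_eq_one'
    apply orderOf_dvd_of_pow_eq_one
    apply Subtype.ext
    have h9 := congrArg Subtype.val h8
    simpa using h9
  obtain ⟨hA, hB, hCc⟩ := core hE hexp' hker hN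
  refine ⟨?_, ?_, ?_⟩
  · -- involutions are conjugate
    intro a b ha hb
    have hPa : IsPGroup 2 (Subgroup.zpowers a) :=
      IsPGroup.of_card (n := 1) (by rw [Nat.card_zpowers, ha, pow_one])
    have hPb : IsPGroup 2 (Subgroup.zpowers b) :=
      IsPGroup.of_card (n := 1) (by rw [Nat.card_zpowers, hb, pow_one])
    obtain ⟨g₁, hg₁⟩ := exists_conj_mem_sylow S _ hPa
    obtain ⟨g₂, hg₂⟩ := exists_conj_mem_sylow S _ hPb
    have ha1 : a ≠ 1 := by
      rintro rfl
      rw [orderOf_one] at ha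
      omega
    have hb1 : b ≠ 1 := by
      rintro rfl
      rw [orderOf_one] at hb
      omega
    have ha' := hg₁ a (Subgroup.mem_zpowers a)
    have hb' := hg₂ b (Subgroup.mem_zpowers b)
    obtain ⟨m, hm⟩ := hA ⟨g₁ * a * g₁⁻¹, ha'⟩ ⟨g₂ * b * g₂⁻¹, hb'⟩
      (by
        intro h
        apply ha1
        have h1 : g₁ * a * g₁⁻¹ = 1 := congrArg Subtype.val h
        rw [mul_inv_eq_one] at h1
        exact mul_left_cancel (h1.trans (mul_one g₁).symm))
      (by
        intro h
        apply hb1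
        have h1 : g₂ * b * g₂⁻¹ = 1 := congrArg Subtype.val h
        rw [mul_inv_eq_one] at h1
        exact mul_left_cancel (h1.trans (mul_one g₂).symm))
    have hm' : (m : G) * (g₁ * a * g₁⁻¹) * (m : G)⁻¹ = g₂ * b * g₂⁻¹ := congrArg Subtype.val hm
    refine ⟨g₂⁻¹ * (m : G) * g₁, ?_⟩
    have : g₂⁻¹ * (m : G) * g₁ * a * (g₂⁻¹ * (m : G) * g₁)⁻¹ =
        g₂⁻¹ * ((m : G) * (g₁ * a * g₁⁻¹) * (m : G)⁻¹) * g₂ := by group
    rw [this, hm']
    group
  · -- four-groups: an element of the normalizer moving every involution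
    intro V hV
    have hPV : IsPGroup 2 V := IsPGroup.of_card (n := 2) (by rw [hV]; norm_num)
    obtain ⟨g₀, hg₀⟩ := exists_conj_mem_sylow S V hPV
    obtain ⟨V', hV', hmemV'⟩ := exists_four_in (S : Subgroup G) V hV g₀ hg₀
    obtain ⟨m, hm1, hm2⟩ := hB V' hV'
    have hconj : ∀ v ∈ V, ∃ hv : g₀ * v * g₀⁻¹ ∈ (S : Subgroup G),
        (⟨g₀ * v * g₀⁻¹, hv⟩ : (S : Subgroup G)) ∈ V' := by
      intro v hv
      refine ⟨hg₀ v hv, ?_⟩
      rw [hmemV']
      have : g₀⁻¹ * (g₀ * v * g₀⁻¹) * g₀ = v := by group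
      show g₀⁻¹ * (g₀ * v * g₀⁻¹) * g₀ ∈ V
      rw [this]
      exact hv
    refine ⟨g₀⁻¹ * (m : G) * g₀, ?_, ?_⟩
    · apply mem_normalizer_of_conj_mem
      intro v hv
      obtain ⟨hvS, hvV'⟩ := hconj v hv
      have h1 := hm1 _ hvV'
      rw [hmemV', smul_coe_normalizer] at h1
      have : g₀⁻¹ * (m : G) * g₀ * v * (g₀⁻¹ * (m : G) * g₀)⁻¹ =
          g₀⁻¹ * ((m : G) * (g₀ * v * g₀⁻¹) * (m : G)⁻¹) * g₀ := by group
      rw [this]
      exact h1
    · intro v hv hv1 hfix
      obtain ⟨hvS, hvV'⟩ := hconj v hv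
      apply hm2 _ hvV'
      · intro h
        apply hv1
        have h1 : g₀ * v * g₀⁻¹ = 1 := congrArg Subtype.val h
        rw [mul_inv_eq_one] at h1
        exact mul_left_cancel (h1.trans (mul_one g₀).symm)
      · apply Subtype.ext
        rw [smul_coe_normalizer]
        show (m : G) * (g₀ * v * g₀⁻¹) * (m : G)⁻¹ = g₀ * v * g₀⁻¹
        have : (m : G) * (g₀ * v * g₀⁻¹) * (m : G)⁻¹ =
            g₀ * (g₀⁻¹ * (m : G) * g₀ * v * (g₀⁻¹ * (m : G) * g₀)⁻¹) * g₀⁻¹ := by group
        rw [this, hfix]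
  · -- four-groups are conjugate
    intro V W hV hW
    have hPV : IsPGroup 2 V := IsPGroup.of_card (n := 2) (by rw [hV]; norm_num)
    have hPW : IsPGroup 2 W := IsPGroup.of_card (n := 2) (by rw [hW]; norm_num)
    obtain ⟨g₁, hg₁⟩ := exists_conj_mem_sylow S V hPV
    obtain ⟨g₂, hg₂⟩ := exists_conj_mem_sylow S W hPW
    obtain ⟨V', hV', hmemV'⟩ := exists_four_in (S : Subgroup G) V hV g₁ hg₁
    obtain ⟨W', hW', hmemW'⟩ := exists_four_in (S : Subgroup G) W hW g₂ hg₂
    obtain ⟨m, hm⟩ := hCc V' W' hV' hW'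
    refine ⟨g₂⁻¹ * (m : G) * g₁, ?_⟩
    symm
    haveI : Finite W := Nat.finite_of_card_ne_zero (by rw [hW]; norm_num)
    apply Subgroup.eq_of_le_of_card_ge
    · rintro _ ⟨v, hv, rfl⟩
      have hvV' : (⟨g₁ * v * g₁⁻¹, hg₁ v hv⟩ : (S : Subgroup G)) ∈ V' := by
        rw [hmemV']
        have : g₁⁻¹ * (g₁ * v * g₁⁻¹) * g₁ = v := by group
        show g₁⁻¹ * (g₁ * v * g₁⁻¹) * g₁ ∈ V
        rw [this]
        exact hv
      have h1 := hm _ hvV'
      rw [hmemW', smul_coe_normalizer] at h1
      have : (MulAut.conj (g₂⁻¹ * (m : G) * g₁)).toMonoidHom v =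
          g₂⁻¹ * ((m : G) * (g₁ * v * g₁⁻¹) * (m : G)⁻¹) * g₂ := by
        simp only [MulEquiv.coe_toMonoidHom, MulAut.conj_apply]
        group
      rw [this]
      exact h1
    · rw [Subgroup.card_map_of_injective (MulAut.conj _).injective, hV, hW]

end Transfer

end Cfsg.Agent.Helper4.ReeP1
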