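import Mathlib

set_option autoImplicit false
set_option linter.unusedSectionVars false
set_option linter.unusedVariables false
set_option linter.style.haveILetI false

/-!
# Sharply 4-transitive groups (Tits' argument)

A sharply 4-transitive action (no finiteness assumed) has finite degree `4, 5, 6` or `11`.
-/

namespace Cfsg.Agent.Helper4.Sharp4

open MulAction

section Basic

variable {G Ω : Type*} [Group G] [MulAction G Ω]

/-- Four pairwise distinct points. -/
def D4 (a b c d : Ω) : Prop := a ≠ b ∧ a ≠ c ∧ a ≠ d ∧ b ≠ c ∧ b ≠ d ∧ c ≠ d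

theorem d4_injective {a b c d : Ω} (h : D4 a b c d) : Function.Injective ![a, b, c, d] := by
  obtain ⟨h1, h2, h3, h4, h5, h6⟩ := h
  intro i j hij
  fin_cases i <;> fin_cases j <;> simp_all

/-- The embedding attached to four distinct points. -/
def emb4 {a b c d : Ω} (h : D4 a b c d) : Fin 4 ↪ Ω := ⟨![a, b, c, d], d4_injective h⟩

/-- Elementwise sharpness. -/
def Sharp (G Ω : Type*) [Group G] [MulAction G Ω] : Prop :=
  ∀ (g : G) (a b c d : Ω), D4 a b c d → g • a = a → g • b = b → g • c = c → g • d = d → g = 1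

/-- Elementwise 4-transitivity. -/
def Trans4 (G Ω : Type*) [Group G] [MulAction G Ω] : Prop :=
  ∀ (a b c d a' b' c' d' : Ω), D4 a b c d → D4 a' b' c' d' →
    ∃ g : G, g • a = a' ∧ g • b = b' ∧ g • c = c' ∧ g • d = d'

theorem sharp_of_stabilizer (hsharp : ∀ x : Fin 4 ↪ Ω, stabilizer G x = ⊥) : Sharp G Ω := by
  intro g a b c d h ha hb hc hd
  have hmem : g ∈ stabilizer G (emb4 h) := by
    rw [mem_stabilizer_iff]
    ext i
    rw [Function.Embedding.smul_apply]
    fin_cases i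
    · exact ha
    · exact hb
    · exact hc
    · exact hd
  rw [hsharp (emb4 h), Subgroup.mem_bot] at hmem
  exact hmem

theorem trans4_of_pretransitive (h4 : IsMultiplyPretransitive G Ω 4) : Trans4 G Ω := by
  intro a b c d a' b' c' d' h h'
  obtain ⟨g, hg⟩ := h4.exists_smul_eq (emb4 h) (emb4 h')
  refine ⟨g, ?_, ?_, ?_, ?_⟩
  · have := congrArg (fun e : Fin 4 ↪ Ω => e 0) hg
    exact this
  · have := congrArg (fun e : Fin 4 ↪ Ω => e 1) hg
    exact this
  · have := congrArg (fun e : Fin 4 ↪ Ω => e 2) hg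
    exact this
  · have := congrArg (fun e : Fin 4 ↪ Ω => e 3) hg
    exact this

theorem exists_d4 (hne : Nonempty (Fin 4 ↪ Ω)) : ∃ a b c d : Ω, D4 a b c d := by
  obtain ⟨e⟩ := hne
  refine ⟨e 0, e 1, e 2, e 3, ?_, ?_, ?_, ?_, ?_, ?_⟩ <;>
  · intro h
    have := e.injective h
    revert this
    decide

variable (hs : Sharp G Ω)
include hs

/-- Two elements agreeing on four distinct points are equal. -/
theorem eq_of_agree (g h : G) {a b c d : Ω} (hd : D4 a b c d) (h1 : g • a = h • a)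
    (h2 : g • b = h • b) (h3 : g • c = h • c) (h4 : g • d = h • d) : g = h := by
  have : h⁻¹ * g = 1 := hs (h⁻¹ * g) a b c d hd (by rw [mul_smul, h1, inv_smul_smul])
    (by rw [mul_smul, h2, inv_smul_smul]) (by rw [mul_smul, h3, inv_smul_smul])
    (by rw [mul_smul, h4, inv_smul_smul])
  rw [inv_mul_eq_one] at this
  exact this.symm

end Basic

section Tits

variable {G Ω : Type*} [Group G] [MulAction G Ω]
variable (hs : Sharp G Ω) (ht : Trans4 G Ω)
variable {p1 p2 p3 p4 : Ω} (hD : D4 p1 p2 p3 p4)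
variable {x y : G} (hx1 : x • p1 = p2) (hx2 : x • p2 = p1) (hx3 : x • p3 = p3) (hx4 : x • p4 = p4)
  (hy1 : y • p1 = p1) (hy2 : y • p2 = p2) (hy3 : y • p3 = p4) (hy4 : y • p4 = p3)

include hs hD hx1 hx2 hx3 hx4 in
theorem xx : x * x = 1 :=
  eq_of_agree hs (x * x) 1 hD (by rw [mul_smul, hx1, hx2, one_smul])
    (by rw [mul_smul, hx2, hx1, one_smul]) (by rw [mul_smul, hx3, hx3, one_smul])
    (by rw [mul_smul, hx4, hx4, one_smul])

include hs hD hy1 hy2 hy3 hy4 in
theorem yy : y * y = 1 :=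
  eq_of_agree hs (y * y) 1 hD (by rw [mul_smul, hy1, hy1, one_smul])
    (by rw [mul_smul, hy2, hy2, one_smul]) (by rw [mul_smul, hy3, hy4, one_smul])
    (by rw [mul_smul, hy4, hy3, one_smul])

include hs hD hx1 hx2 hx3 hx4 hy1 hy2 hy3 hy4 in
theorem xy_comm : x * y = y * x :=
  eq_of_agree hs (x * y) (y * x) hD (by rw [mul_smul, mul_smul, hy1, hx1, hy2])
    (by rw [mul_smul, mul_smul, hy2, hx2, hy1]) (by rw [mul_smul, mul_smul, hy3, hx3, hx4, hy3])
    (by rw [mul_smul, mul_smul, hy4, hx4, hx3, hy4])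

include hs hD hx1 hx2 hx3 hx4 hy1 hy2 hy3 hy4 in
/-- A further fixed point of `x` is fixed by `y`. -/
theorem fix_x_sub (q : Ω) (hq : x • q = q) (hq3 : q ≠ p3) (hq4 : q ≠ p4) : y • q = q := by
  by_contra hyq
  have hxyq : x • (y • q) = y • q := by
    rw [← mul_smul, xy_comm hs hD hx1 hx2 hx3 hx4 hy1 hy2 hy3 hy4, mul_smul, hq]
  have hyyq : y • (y • q) = q := by
    rw [← mul_smul, yy hs hD hy1 hy2 hy3 hy4, one_smul]
  have hd : D4 p3 p4 q (y • q) := by
    refine ⟨hD.2.2.2.2.2, Ne.symm hq3, ?_, Ne.symm hq4, ?_, Ne.symm hyq⟩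
    · intro h
      apply hq4
      rw [← hyyq, ← h, hy3]
    · intro h
      apply hq3
      rw [← hyyq, ← h, hy4]
  have := hs x p3 p4 q (y • q) hd hx3 hx4 hq hxyq
  rw [this, one_smul] at hx1
  exact hD.1 hx1

include hs hD hx1 hx2 hx3 hx4 hy1 hy2 hy3 hy4 in
/-- A further fixed point of `y` is fixed by `x`. -/
theorem fix_y_sub (q : Ω) (hq : y • q = q) (hq1 : q ≠ p1) (hq2 : q ≠ p2) : x • q = q := by
  by_contra hxq
  have hyxq : y • (x • q) = x • q := by
    rw [← mul_smul, ← xy_comm hs hD hx1 hx2 hx3 hx4 hy1 hy2 hy3 hy4, mul_smul, hq]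
  have hxxq : x • (x • q) = q := by
    rw [← mul_smul, xx hs hD hx1 hx2 hx3 hx4, one_smul]
  have hd : D4 p1 p2 q (x • q) := by
    refine ⟨hD.1, Ne.symm hq1, ?_, Ne.symm hq2, ?_, Ne.symm hxq⟩
    · intro h
      apply hq2
      rw [← hxxq, ← h, hx1]
    · intro h
      apply hq1
      rw [← hxxq, ← h, hx2]
  have := hs y p1 p2 q (x • q) hd hy1 hy2 hq hyxq
  rw [this, one_smul] at hy3
  exact hD.2.2.2.2.2 hy3

include hs hD hx1 hx2 hx3 hx4 hy1 hy2 hy3 hy4 in
theorem xy_ne_one : x * y ≠ 1 := by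
  intro h
  have : (x * y) • p1 = p1 := by rw [h, one_smul]
  rw [mul_smul, hy1, hx1] at this
  exact hD.1 this.symm

include hs hD hx1 hx2 hx3 hx4 hy1 hy2 hy3 hy4 in
/-- The fixed points of `x * y` are at most three. -/
theorem encard_fix_xy : {q : Ω | (x * y) • q = q}.encard ≤ 3 := by
  by_contra hcon
  push Not at hcon
  have h4 : (4 : ℕ∞) ≤ {q : Ω | (x * y) • q = q}.encard := by
    have : (3 : ℕ∞) + 1 ≤ {q : Ω | (x * y) • q = q}.encard := Order.add_one_le_of_lt hcon
    convert this using 1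
    norm_num
  obtain ⟨t, hts, htc⟩ := Set.exists_subset_encard_eq h4
  rw [Set.encard_eq_four] at htc
  obtain ⟨a, b, c, d, hab, hac, had, hbc, hbd, hcd, rfl⟩ := htc
  have ha : (x * y) • a = a := hts (by simp)
  have hb : (x * y) • b = b := hts (by simp)
  have hc : (x * y) • c = c := hts (by simp)
  have hd : (x * y) • d = d := hts (by simp)
  exact xy_ne_one hs hD hx1 hx2 hx3 hx4 hy1 hy2 hy3 hy4
    (hs (x * y) a b c d ⟨hab, hac, had, hbc, hbd, hcd⟩ ha hb hc hd)

include hs hD hx1 hx2 hx3 hx4 hy1 hy2 hy3 hy4 in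
/-- Outside the exceptional set, `x` has no fixed points. -/
theorem x_moves (a : Ω) (h3 : a ≠ p3) (h4 : a ≠ p4) (hxy : (x * y) • a ≠ a) : x • a ≠ a := by
  intro h
  apply hxy
  rw [mul_smul, fix_x_sub hs hD hx1 hx2 hx3 hx4 hy1 hy2 hy3 hy4 a h h3 h4, h]

include hs hD hx1 hx2 hx3 hx4 hy1 hy2 hy3 hy4 in
/-- Outside the exceptional set, `y` has no fixed points. -/
theorem y_moves (a : Ω) (h1 : a ≠ p1) (h2 : a ≠ p2) (hxy : (x * y) • a ≠ a) : y • a ≠ a := by
  intro h
  apply hxy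
  rw [mul_smul, h, fix_y_sub hs hD hx1 hx2 hx3 hx4 hy1 hy2 hy3 hy4 a h h1 h2]

include hs hD hx1 hx2 hx3 hx4 hy1 hy2 hy3 hy4 in
/-- A regular orbit of the four-group. -/
theorem d4_orbit (a : Ω) (h1 : a ≠ p1) (h2 : a ≠ p2) (h3 : a ≠ p3) (h4 : a ≠ p4)
    (hxy : (x * y) • a ≠ a) : D4 a (x • a) (y • a) ((x * y) • a) := by
  have hxa := x_moves hs hD hx1 hx2 hx3 hx4 hy1 hy2 hy3 hy4 a h3 h4 hxy
  have hya := y_moves hs hD hx1 hx2 hx3 hx4 hy1 hy2 hy3 hy4 a h1 h2 hxy
  have hxx := xx hs hD hx1 hx2 hx3 hx4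
  have hyy := yy hs hD hy1 hy2 hy3 hy4
  have hc := xy_comm hs hD hx1 hx2 hx3 hx4 hy1 hy2 hy3 hy4
  refine ⟨Ne.symm hxa, Ne.symm hya, Ne.symm hxy, ?_, ?_, ?_⟩
  · -- x a ≠ y a
    intro h
    apply hxy
    have : x • (x • a) = x • (y • a) := by rw [h]
    rw [← mul_smul, hxx, one_smul, ← mul_smul] at this
    exact this.symm
  · -- x a ≠ xy a
    intro h
    apply hya
    rw [mul_smul] at h
    exact (smul_left_cancel x h).symm
  · -- y a ≠ xy a
    intro h
    apply hxa
    rw [hc, mul_smul] at h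
    exact (smul_left_cancel y h).symm

include hs hD hx1 hx2 hx3 hx4 hy1 hy2 hy3 hy4 in
/-- An element commuting with `x` and `y` lies in the four-group. -/
theorem mem_four_of_commute (g : G) (hgx : g * x = x * g) (hgy : g * y = y * g) :
    g = 1 ∨ g = x ∨ g = y ∨ g = x * y := by
  have hxx := xx hs hD hx1 hx2 hx3 hx4
  have hyy := yy hs hD hy1 hy2 hy3 hy4
  -- g p3 ∈ {p3, p4}
  have key34 : ∀ q : Ω, x • q = q → y • q ≠ q → (g • q = p3 ∨ g • q = p4) := by
    intro q hq hyq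
    have h1 : x • (g • q) = g • q := by rw [← mul_smul, ← hgx, mul_smul, hq]
    have h2 : y • (g • q) ≠ g • q := by
      intro h
      apply hyq
      rw [← mul_smul, ← hgy, mul_smul] at h
      exact smul_left_cancel g h
    by_contra hcon
    push Not at hcon
    exact h2 (fix_x_sub hs hD hx1 hx2 hx3 hx4 hy1 hy2 hy3 hy4 (g • q) h1 hcon.1 hcon.2)
  have key12 : ∀ q : Ω, y • q = q → x • q ≠ q → (g • q = p1 ∨ g • q = p2) := by
    intro q hq hxq
    have h1 : y • (g • q) = g • q := by rw [← mul_smul, ← hgy, mul_smul, hq]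
    have h2 : x • (g • q) ≠ g • q := by
      intro h
      apply hxq
      rw [← mul_smul, ← hgx, mul_smul] at h
      exact smul_left_cancel g h
    by_contra hcon
    push Not at hcon
    exact h2 (fix_y_sub hs hD hx1 hx2 hx3 hx4 hy1 hy2 hy3 hy4 (g • q) h1 hcon.1 hcon.2)
  have g3 := key34 p3 hx3 (by rw [hy3]; exact Ne.symm hD.2.2.2.2.2)
  have g4 := key34 p4 hx4 (by rw [hy4]; exact hD.2.2.2.2.2)
  have g1 := key12 p1 hy1 (by rw [hx1]; exact Ne.symm hD.1)
  have g2 := key12 p2 hy2 (by rw [hx2]; exact hD.1)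
  have inj : ∀ {a b : Ω}, a ≠ b → g • a ≠ g • b := fun hab h => hab (smul_left_cancel g h)
  have n12 := inj hD.1
  have n34 := inj hD.2.2.2.2.2
  rcases g1 with g1 | g1 <;> rcases g2 with g2 | g2 <;> rcases g3 with g3 | g3 <;>
    rcases g4 with g4 | g4
  all_goals first
    | (exfalso; rw [g1, g2] at n12; exact n12 rfl)
    | (exfalso; rw [g3, g4] at n34; exact n34 rfl)
    | skip
  · left
    exact eq_of_agree hs g 1 hD (by rw [g1, one_smul]) (by rw [g2, one_smul])
      (by rw [g3, one_smul]) (by rw [g4, one_smul])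
  · right; right; left
    exact eq_of_agree hs g y hD (by rw [g1, hy1]) (by rw [g2, hy2])
      (by rw [g3, hy3]) (by rw [g4, hy4])
  · right; left
    exact eq_of_agree hs g x hD (by rw [g1, hx1]) (by rw [g2, hx2])
      (by rw [g3, hx3]) (by rw [g4, hx4])
  · right; right; right
    exact eq_of_agree hs g (x * y) hD (by rw [g1, mul_smul, hy1, hx1])
      (by rw [g2, mul_smul, hy2, hx2]) (by rw [g3, mul_smul, hy3, hx4])
      (by rw [g4, mul_smul, hy4, hx3])

include hs ht hD hx1 hx2 hx3 hx4 hy1 hy2 hy3 hy4 in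
/-- All points outside the exceptional set lie in one orbit of the four-group. -/
theorem mem_orbit (a b : Ω) (ha1 : a ≠ p1) (ha2 : a ≠ p2) (ha3 : a ≠ p3) (ha4 : a ≠ p4)
    (haxy : (x * y) • a ≠ a) (hb1 : b ≠ p1) (hb2 : b ≠ p2) (hb3 : b ≠ p3) (hb4 : b ≠ p4)
    (hbxy : (x * y) • b ≠ b) : b = a ∨ b = x • a ∨ b = y • a ∨ b = (x * y) • a := by
  have hxx := xx hs hD hx1 hx2 hx3 hx4
  have hyy := yy hs hD hy1 hy2 hy3 hy4
  have hc := xy_comm hs hD hx1 hx2 hx3 hx4 hy1 hy2 hy3 hy4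
  have hda := d4_orbit hs hD hx1 hx2 hx3 hx4 hy1 hy2 hy3 hy4 a ha1 ha2 ha3 ha4 haxy
  have hdb := d4_orbit hs hD hx1 hx2 hx3 hx4 hy1 hy2 hy3 hy4 b hb1 hb2 hb3 hb4 hbxy
  obtain ⟨g, g1, g2, g3, g4⟩ := ht _ _ _ _ _ _ _ _ hda hdb
  have hxxa : ∀ q : Ω, x • (x • q) = q := fun q => by rw [← mul_smul, hxx, one_smul]
  have hyya : ∀ q : Ω, y • (y • q) = q := fun q => by rw [← mul_smul, hyy, one_smul]
  have hxxy : ∀ q : Ω, x • ((x * y) • q) = y • q := fun q => by
    rw [mul_smul, hxxa]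
  have hyxy : ∀ q : Ω, y • ((x * y) • q) = x • q := fun q => by
    rw [hc, mul_smul, hyya]
  have hxy' : ∀ q : Ω, x • (y • q) = (x * y) • q := fun q => by rw [mul_smul]
  have hyx' : ∀ q : Ω, y • (x • q) = (x * y) • q := fun q => by rw [hc, mul_smul]
  have hgx : g * x = x * g := by
    apply eq_of_agree hs _ _ hda
    · rw [mul_smul g x, mul_smul x g, g2, g1]
    · rw [mul_smul g x, mul_smul x g, hxxa, g1, g2, hxxa]
    · rw [mul_smul g x, mul_smul x g, hxy', g4, g3, hxy']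
    · rw [mul_smul g x, mul_smul x g, hxxy, g3, g4, hxxy]
  have hgy : g * y = y * g := by
    apply eq_of_agree hs _ _ hda
    · rw [mul_smul g y, mul_smul y g, g3, g1]
    · rw [mul_smul g y, mul_smul y g, hyx', g4, g2, hyx']
    · rw [mul_smul g y, mul_smul y g, hyya, g1, g3, hyya]
    · rw [mul_smul g y, mul_smul y g, hyxy, g2, g4, hyxy]
  rcases mem_four_of_commute hs hD hx1 hx2 hx3 hx4 hy1 hy2 hy3 hy4 g hgx hgy with h | h | h | h
  · left; rw [← g1, h, one_smul]
  · right; left; rw [← g1, h]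
  · right; right; left; rw [← g1, h]
  · right; right; right; rw [← g1, h]

end Tits

section Bound

variable {G Ω : Type*} [Group G] [MulAction G Ω]

/-- Tits' bound: a sharply 4-transitive action has at most 11 points. -/
theorem encard_le (hs : Sharp G Ω) (ht : Trans4 G Ω) (hne : ∃ a b c d : Ω, D4 a b c d) :
    (Set.univ : Set Ω).encard ≤ 11 := by
  obtain ⟨p1, p2, p3, p4, hD⟩ := hne
  have hD' : D4 p2 p1 p3 p4 := ⟨Ne.symm hD.1, hD.2.2.2.1, hD.2.2.2.2.1, hD.2.1, hD.2.2.1,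
    hD.2.2.2.2.2⟩
  have hD'' : D4 p1 p2 p4 p3 := ⟨hD.1, hD.2.2.1, hD.2.1, hD.2.2.2.2.1, hD.2.2.2.1,
    Ne.symm hD.2.2.2.2.2⟩
  obtain ⟨x, hx1, hx2, hx3, hx4⟩ := ht _ _ _ _ _ _ _ _ hD hD'
  obtain ⟨y, hy1, hy2, hy3, hy4⟩ := ht _ _ _ _ _ _ _ _ hD hD''
  have hF := encard_fix_xy hs hD hx1 hx2 hx3 hx4 hy1 hy2 hy3 hy4
  have hP : ({p1, p2, p3, p4} : Set Ω).encard ≤ 4 := by
    calc ({p1, p2, p3, p4} : Set Ω).encard
        ≤ ({p2, p3, p4} : Set Ω).encard + 1 := Set.encard_insert_le _ _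
      _ ≤ (({p3, p4} : Set Ω).encard + 1) + 1 := by gcongr; exact Set.encard_insert_le _ _
      _ ≤ ((({p4} : Set Ω).encard + 1) + 1) + 1 := by gcongr; exact Set.encard_insert_le _ _
      _ = 4 := by rw [Set.encard_singleton]; norm_num
  by_cases hex : ∃ a : Ω, a ≠ p1 ∧ a ≠ p2 ∧ a ≠ p3 ∧ a ≠ p4 ∧ (x * y) • a ≠ a
  · obtain ⟨a, ha1, ha2, ha3, ha4, haxy⟩ := hex
    have hΓ : ({a, x • a, y • a, (x * y) • a} : Set Ω).encard ≤ 4 := by
      calc ({a, x • a, y • a, (x * y) • a} : Set Ω).encard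
          ≤ ({x • a, y • a, (x * y) • a} : Set Ω).encard + 1 := Set.encard_insert_le _ _
        _ ≤ (({y • a, (x * y) • a} : Set Ω).encard + 1) + 1 := by
            gcongr; exact Set.encard_insert_le _ _
        _ ≤ ((({(x * y) • a} : Set Ω).encard + 1) + 1) + 1 := by
            gcongr; exact Set.encard_insert_le _ _
        _ = 4 := by rw [Set.encard_singleton]; norm_num
    have hsub : (Set.univ : Set Ω) ⊆ ({p1, p2, p3, p4} ∪ {q : Ω | (x * y) • q = q}) ∪
        {a, x • a, y • a, (x * y) • a} := by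
      intro b _
      by_cases hb : b = p1 ∨ b = p2 ∨ b = p3 ∨ b = p4
      · left; left
        simpa using hb
      by_cases hbxy : (x * y) • b = b
      · left; right
        exact hbxy
      push Not at hb
      right
      have := mem_orbit hs ht hD hx1 hx2 hx3 hx4 hy1 hy2 hy3 hy4 a b ha1 ha2 ha3 ha4 haxy
        hb.1 hb.2.1 hb.2.2.1 hb.2.2.2 hbxy
      simpa using this
    calc (Set.univ : Set Ω).encard
        ≤ (({p1, p2, p3, p4} ∪ {q : Ω | (x * y) • q = q}) ∪
          {a, x • a, y • a, (x * y) • a} : Set Ω).encard := Set.encard_le_encard hsub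
      _ ≤ (({p1, p2, p3, p4} : Set Ω) ∪ {q : Ω | (x * y) • q = q}).encard +
          ({a, x • a, y • a, (x * y) • a} : Set Ω).encard := Set.encard_union_le _ _
      _ ≤ (({p1, p2, p3, p4} : Set Ω).encard + {q : Ω | (x * y) • q = q}.encard) +
          ({a, x • a, y • a, (x * y) • a} : Set Ω).encard := by
            gcongr; exact Set.encard_union_le _ _
      _ ≤ (4 + 3) + 4 := by gcongr
      _ = 11 := by norm_num
  · push Not at hex
    have hsub : (Set.univ : Set Ω) ⊆ ({p1, p2, p3, p4} ∪ {q : Ω | (x * y) • q = q}) := by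
      intro b _
      by_cases hb : b = p1 ∨ b = p2 ∨ b = p3 ∨ b = p4
      · left
        simpa using hb
      push Not at hb
      right
      exact hex b hb.1 hb.2.1 hb.2.2.1 hb.2.2.2
    calc (Set.univ : Set Ω).encard
        ≤ (({p1, p2, p3, p4} : Set Ω) ∪ {q : Ω | (x * y) • q = q}).encard :=
          Set.encard_le_encard hsub
      _ ≤ ({p1, p2, p3, p4} : Set Ω).encard + {q : Ω | (x * y) • q = q}.encard :=
          Set.encard_union_le _ _
      _ ≤ 4 + 3 := by gcongr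
      _ ≤ 11 := by norm_num

theorem finite_and_card_le (hs : Sharp G Ω) (ht : Trans4 G Ω)
    (hne : ∃ a b c d : Ω, D4 a b c d) : Finite Ω ∧ Nat.card Ω ≤ 11 := by
  have h := encard_le hs ht hne
  have hfin : (Set.univ : Set Ω).Finite := Set.finite_of_encard_le_coe (k := 11) (by exact_mod_cast h)
  have hF : Finite Ω := Set.finite_univ_iff.mp hfin
  refine ⟨hF, ?_⟩
  rw [← Set.ncard_univ]
  rw [← hfin.cast_ncard_eq] at h
  exact_mod_cast h

end Bound

section Count

variable {G Ω : Type*} [Group G] [MulAction G Ω] [Fintype Ω] [DecidableEq Ω]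

/-- Number of fixed points. -/
def fixCard (g : G) : ℕ := (Finset.univ.filter (fun q : Ω => g • q = q)).card

theorem fixCard_conj (g u : G) : fixCard (Ω := Ω) (g * u * g⁻¹) = fixCard (Ω := Ω) u := by
  unfold fixCard
  have : Finset.univ.filter (fun q : Ω => (g * u * g⁻¹) • q = q) =
      (Finset.univ.filter (fun q : Ω => u • q = q)).image (fun q => g • q) := by
    ext q
    simp only [Finset.mem_filter, Finset.mem_univ, true_and, Finset.mem_image]
    constructor
    · intro h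
      refine ⟨g⁻¹ • q, ?_, smul_inv_smul g q⟩
      have h' : g⁻¹ • ((g * u * g⁻¹) • q) = g⁻¹ • q := by rw [h]
      rwa [mul_smul, mul_smul, inv_smul_smul] at h'
    · rintro ⟨r, hr, rfl⟩
      rw [mul_smul, mul_smul, inv_smul_smul, hr]
  rw [this, Finset.card_image_of_injective _ (MulAction.injective g)]

theorem exists_d4_of_card {s : Finset Ω} (h : 4 ≤ s.card) :
    ∃ a ∈ s, ∃ b ∈ s, ∃ c ∈ s, ∃ d ∈ s, D4 a b c d := by
  have hne : s.Nonempty := Finset.card_pos.mp (by omega)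
  obtain ⟨a, ha⟩ := hne
  have h3 : 2 < (s.erase a).card := by rw [Finset.card_erase_of_mem ha]; omega
  obtain ⟨b, c, d, hb, hc, hd, hbc, hbd, hcd⟩ := Finset.two_lt_card_iff.mp h3
  rw [Finset.mem_erase] at hb hc hd
  exact ⟨a, ha, b, hb.2, c, hc.2, d, hd.2, Ne.symm hb.1, Ne.symm hc.1, Ne.symm hd.1,
    hbc, hbd, hcd⟩

theorem fixCard_le (hs : Sharp G Ω) (g : G) (hg : g ≠ 1) : fixCard (Ω := Ω) g ≤ 3 := by
  by_contra hcon
  push Not at hcon
  obtain ⟨a, ha, b, hb, c, hc, d, hd, hD⟩ :=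
    exists_d4_of_card (s := Finset.univ.filter (fun q : Ω => g • q = q)) hcon
  simp only [Finset.mem_filter, Finset.mem_univ, true_and] at ha hb hc hd
  exact hg (hs g a b c d hD ha hb hc hd)

/-- The number of fixed points of an involution has the parity of the degree. -/
theorem fixCard_parity (g : G) (hg : g * g = 1) :
    fixCard (Ω := Ω) g % 2 = Fintype.card Ω % 2 := by
  classical
  unfold fixCard
  -- the moved points are paired up by `g`
  have hsplit : Fintype.card Ω = (Finset.univ.filter (fun q : Ω => g • q = q)).card +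
      (Finset.univ.filter (fun q : Ω => ¬ g • q = q)).card := by
    rw [Finset.card_filter_add_card_filter_not, Finset.card_univ]
  have heven : 2 ∣ (Finset.univ.filter (fun q : Ω => ¬ g • q = q)).card := by
    rw [← ZMod.natCast_eq_zero_iff]
    have h := Finset.sum_involution (s := Finset.univ.filter (fun q : Ω => ¬ g • q = q))
      (f := fun _ => (1 : ZMod 2)) (fun q _ => g • q) (fun _ _ => by decide)
      (fun q hq _ => by
        simp only [Finset.mem_filter, Finset.mem_univ, true_and] at hq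
        exact hq)
      (fun q hq => by
        simp only [Finset.mem_filter, Finset.mem_univ, true_and] at hq ⊢
        intro h
        exact hq (smul_left_cancel g h))
      (fun q _ => by rw [← mul_smul, hg, one_smul])
    rw [Finset.sum_const, nsmul_eq_mul, mul_one] at h
    exact h
  obtain ⟨k, hk⟩ := heven
  omega

/-- The involutions containing the 2-cycle `(p1 p2)`: existence, uniqueness and conjugacy. -/
theorem inv_facts (hs : Sharp G Ω) (ht : Trans4 G Ω) {p1 p2 : Ω} (h12 : p1 ≠ p2) :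
    ∃ Φ : Ω × Ω → G, (∀ p q : Ω, D4 p1 p2 p q →
        Φ (p, q) • p1 = p2 ∧ Φ (p, q) • p2 = p1 ∧ Φ (p, q) • p = q ∧ Φ (p, q) • q = p) ∧
      (∀ p q : Ω, D4 p1 p2 p q → ∀ u : G, u • p1 = p2 → u • p2 = p1 → u • p = q → u • q = p →
        u = Φ (p, q)) ∧
      (∀ p q : Ω, D4 p1 p2 p q → Φ (p, q) * Φ (p, q) = 1) ∧
      (∀ p q p' q' : Ω, D4 p1 p2 p q → D4 p1 p2 p' q' →
        fixCard (Ω := Ω) (Φ (p', q')) = fixCard (Ω := Ω) (Φ (p, q))) := by
  classical
  have hswap : ∀ p q : Ω, D4 p1 p2 p q → D4 p2 p1 q p := fun p q h =>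
    ⟨Ne.symm h.1, h.2.2.2.2.1, h.2.2.2.1, h.2.2.1, h.2.1, Ne.symm h.2.2.2.2.2⟩
  have hex : ∀ pq : Ω × Ω, D4 p1 p2 pq.1 pq.2 →
      ∃ u : G, u • p1 = p2 ∧ u • p2 = p1 ∧ u • pq.1 = pq.2 ∧ u • pq.2 = pq.1 :=
    fun pq h => ht _ _ _ _ _ _ _ _ h (hswap _ _ h)
  choose! Φ hΦ using hex
  have huniq : ∀ p q : Ω, D4 p1 p2 p q → ∀ u : G, u • p1 = p2 → u • p2 = p1 → u • p = q →
      u • q = p → u = Φ (p, q) := by
    intro p q h u h1 h2 h3 h4
    obtain ⟨k1, k2, k3, k4⟩ := hΦ (p, q) h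
    exact eq_of_agree hs u _ h (by rw [h1, k1]) (by rw [h2, k2]) (by rw [h3, k3]) (by rw [h4, k4])
  refine ⟨Φ, fun p q h => hΦ (p, q) h, huniq, ?_, ?_⟩
  · intro p q h
    obtain ⟨k1, k2, k3, k4⟩ := hΦ (p, q) h
    exact eq_of_agree hs _ 1 h (by rw [mul_smul, k1, k2, one_smul])
      (by rw [mul_smul, k2, k1, one_smul]) (by rw [mul_smul, k3, k4, one_smul])
      (by rw [mul_smul, k4, k3, one_smul])
  · intro p q p' q' h h'
    obtain ⟨k1, k2, k3, k4⟩ := hΦ (p, q) h
    obtain ⟨g, g1, g2, g3, g4⟩ := ht _ _ _ _ _ _ _ _ h h'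
    have hg1 : g⁻¹ • p1 = p1 := by rw [inv_smul_eq_iff, g1]
    have hg2 : g⁻¹ • p2 = p2 := by rw [inv_smul_eq_iff, g2]
    have hg3 : g⁻¹ • p' = p := by rw [inv_smul_eq_iff, g3]
    have hg4 : g⁻¹ • q' = q := by rw [inv_smul_eq_iff, g4]
    have : g * Φ (p, q) * g⁻¹ = Φ (p', q') := by
      apply huniq p' q' h'
      · rw [mul_smul, mul_smul, hg1, k1, g2]
      · rw [mul_smul, mul_smul, hg2, k2, g1]
      · rw [mul_smul, mul_smul, hg3, k3, g4]
      · rw [mul_smul, mul_smul, hg4, k4, g3]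
    rw [← this, fixCard_conj]

/-- Counting the involutions containing a given 2-cycle. -/
theorem count_dvd (hs : Sharp G Ω) (ht : Trans4 G Ω) {p1 p2 p3 p4 : Ω} (hD : D4 p1 p2 p3 p4)
    {x : G} (hx1 : x • p1 = p2) (hx2 : x • p2 = p1) (hx3 : x • p3 = p3) (hx4 : x • p4 = p4)
    (hn : 6 ≤ Fintype.card Ω) :
    (Fintype.card Ω - 2 - fixCard (Ω := Ω) x) ∣ (Fintype.card Ω - 2) * (Fintype.card Ω - 3) := by
  classical
  obtain ⟨Φ, hΦ, huniq, hinv, hconj⟩ := inv_facts hs ht hD.1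
  set n := Fintype.card Ω with hn_def
  set S : Finset Ω := (Finset.univ.erase p1).erase p2 with hS
  have hmemS : ∀ q : Ω, q ∈ S ↔ q ≠ p2 ∧ q ≠ p1 := by
    intro q
    simp [hS]
  have hScard : S.card = n - 2 := by
    rw [hS, Finset.card_erase_of_mem, Finset.card_erase_of_mem (Finset.mem_univ _),
      Finset.card_univ]
    · rfl
    · rw [Finset.mem_erase]
      exact ⟨Ne.symm hD.1, Finset.mem_univ _⟩
  have hx_ne : x ≠ 1 := by
    intro h
    rw [h, one_smul] at hx1
    exact hD.1 hx1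
  have hxx : x * x = 1 := xx hs hD hx1 hx2 hx3 hx4
  -- the pairs
  have hmemA : ∀ pq : Ω × Ω, pq ∈ S.offDiag ↔ D4 p1 p2 pq.1 pq.2 := by
    intro pq
    rw [Finset.mem_offDiag, hmemS, hmemS]
    constructor
    · rintro ⟨⟨a2, a1⟩, ⟨b2, b1⟩, hab⟩
      exact ⟨hD.1, Ne.symm a1, Ne.symm b1, Ne.symm a2, Ne.symm b2, hab⟩
    · rintro ⟨_, a1, b1, a2, b2, hab⟩
      exact ⟨⟨Ne.symm a2, Ne.symm a1⟩, ⟨Ne.symm b2, Ne.symm b1⟩, hab⟩
  -- `x` is one of the involutions
  obtain ⟨p, hp1, hp2, hp3, hp4, hxp⟩ :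
      ∃ p : Ω, p ≠ p1 ∧ p ≠ p2 ∧ p ≠ p3 ∧ p ≠ p4 ∧ x • p ≠ p := by
    by_contra hcon
    push Not at hcon
    have hcard : 2 ≤ ((((Finset.univ.erase p1).erase p2).erase p3).erase p4 : Finset Ω).card := by
      have e1 : p4 ∈ (((Finset.univ.erase p1).erase p2).erase p3 : Finset Ω) := by
        simp [Ne.symm hD.2.2.1, Ne.symm hD.2.2.2.2.1, Ne.symm hD.2.2.2.2.2]
      have e2 : p3 ∈ ((Finset.univ.erase p1).erase p2 : Finset Ω) := by
        simp [Ne.symm hD.2.1, Ne.symm hD.2.2.2.1]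
      have e3 : p2 ∈ (Finset.univ.erase p1 : Finset Ω) := by
        simp [Ne.symm hD.1]
      rw [Finset.card_erase_of_mem e1, Finset.card_erase_of_mem e2, Finset.card_erase_of_mem e3,
        Finset.card_erase_of_mem (Finset.mem_univ _), Finset.card_univ]
      omega
    obtain ⟨r, hr, s', hs', hrs⟩ := Finset.one_lt_card.mp
      (show 1 < ((((Finset.univ.erase p1).erase p2).erase p3).erase p4 : Finset Ω).card by omega)
    simp only [Finset.mem_erase, Finset.mem_univ, and_true] at hr hs'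
    have hxr := hcon r hr.2.2.2 hr.2.2.1 hr.2.1 hr.1
    have hxs := hcon s' hs'.2.2.2 hs'.2.2.1 hs'.2.1 hs'.1
    exact hx_ne (hs x p3 p4 r s' ⟨hD.2.2.2.2.2, Ne.symm hr.2.1, Ne.symm hs'.2.1, Ne.symm hr.1,
      Ne.symm hs'.1, hrs⟩ hx3 hx4 hxr hxs)
  have hxxp : x • (x • p) = p := by rw [← mul_smul, hxx, one_smul]
  have hDp : D4 p1 p2 p (x • p) := by
    refine ⟨hD.1, Ne.symm hp1, ?_, Ne.symm hp2, ?_, Ne.symm hxp⟩
    · intro h
      apply hp2
      rw [← hxxp, ← h, hx1]
    · intro h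
      apply hp1
      rw [← hxxp, ← h, hx2]
  have hxΦ : x = Φ (p, x • p) := huniq p (x • p) hDp x hx1 hx2 rfl hxxp
  -- the fibres
  have hfiber : ∀ u ∈ S.offDiag.image Φ,
      (S.offDiag.filter (fun pq => Φ pq = u)).card = n - 2 - fixCard (Ω := Ω) x := by
    intro u hu
    rw [Finset.mem_image] at hu
    obtain ⟨⟨p0, q0⟩, hpq0, rfl⟩ := hu
    rw [hmemA] at hpq0
    obtain ⟨k1, k2, k3, k4⟩ := hΦ p0 q0 hpq0
    have huu := hinv p0 q0 hpq0
    set u := Φ (p0, q0) with hu_def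
    have hfu : fixCard (Ω := Ω) u = fixCard (Ω := Ω) x := by
      rw [hxΦ]
      exact hconj p (x • p) p0 q0 hDp hpq0
    have huup : ∀ r : Ω, u • (u • r) = r := fun r => by rw [← mul_smul, huu, one_smul]
    have himg : S.offDiag.filter (fun pq => Φ pq = u) =
        (S.filter (fun r => ¬ u • r = r)).image (fun r => (r, u • r)) := by
      ext ⟨a, b⟩
      simp only [Finset.mem_filter, Finset.mem_image, Prod.mk.injEq]
      constructor
      · rintro ⟨hab, hΦab⟩
        rw [hmemA] at hab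
        obtain ⟨l1, l2, l3, l4⟩ := hΦ a b hab
        rw [hΦab] at l3
        refine ⟨a, ⟨?_, ?_⟩, rfl, l3⟩
        · rw [hmemS]
          exact ⟨Ne.symm hab.2.2.2.1, Ne.symm hab.2.1⟩
        · rw [l3]
          exact Ne.symm hab.2.2.2.2.2
      · rintro ⟨r, ⟨hrS, hur⟩, rfl, rfl⟩
        rw [hmemS] at hrS
        have hDr : D4 p1 p2 r (u • r) := by
          refine ⟨hD.1, Ne.symm hrS.2, ?_, Ne.symm hrS.1, ?_, Ne.symm hur⟩
          · intro h
            apply hrS.1
            rw [← huup r, ← h, k1]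
          · intro h
            apply hrS.2
            rw [← huup r, ← h, k2]
        refine ⟨(hmemA _).mpr hDr, ?_⟩
        exact (huniq r (u • r) hDr u k1 k2 rfl (huup r)).symm
    rw [himg, Finset.card_image_of_injective _ (fun a b hab => by
      simp only [Prod.mk.injEq] at hab
      exact hab.1)]
    have hsplit := Finset.card_filter_add_card_filter_not (s := S) (fun r => u • r = r)
    have hfixS : S.filter (fun r => u • r = r) = Finset.univ.filter (fun r : Ω => u • r = r) := by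
      ext r
      simp only [Finset.mem_filter, Finset.mem_univ, true_and, hmemS]
      constructor
      · exact fun h => h.2
      · intro h
        refine ⟨⟨?_, ?_⟩, h⟩
        · intro h2
          rw [h2, k2] at h
          exact hD.1 h
        · intro h1
          rw [h1, k1] at h
          exact hD.1 h.symm
    rw [hfixS] at hsplit
    unfold fixCard at hfu
    rw [hfu] at hsplit
    unfold fixCard
    rw [← hScard]
    omega
  have hsum := Finset.card_eq_sum_card_fiberwise (f := Φ) (s := S.offDiag)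
    (t := S.offDiag.image Φ) (fun pq h => Finset.mem_image_of_mem Φ h)
  rw [Finset.sum_congr rfl hfiber, Finset.sum_const, smul_eq_mul, Finset.offDiag_card, hScard]
    at hsum
  have h23 : (n - 2) * (n - 3) = (n - 2) * (n - 2) - (n - 2) := by
    have : n - 2 = (n - 3) + 1 := by omega
    rw [this, Nat.mul_succ, Nat.add_sub_cancel]
  rw [h23, hsum]
  exact Dvd.intro_left _ rfl

/-- There is no sharply 4-transitive group of degree 7. -/
theorem card_ne_seven (hs : Sharp G Ω) (ht : Trans4 G Ω) : Fintype.card Ω ≠ 7 := by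
  classical
  intro h7
  obtain ⟨p1, _, p2, _, p, _, q, _, hD⟩ :=
    exists_d4_of_card (s := (Finset.univ : Finset Ω)) (by rw [Finset.card_univ]; omega)
  obtain ⟨Φ, hΦ, huniq, hinv, hconj⟩ := inv_facts hs ht hD.1
  -- every such involution fixes exactly three points
  have hfix3 : ∀ a b : Ω, D4 p1 p2 a b → fixCard (Ω := Ω) (Φ (a, b)) = 3 := by
    intro a b hab
    obtain ⟨k1, k2, k3, k4⟩ := hΦ a b hab
    have hne : Φ (a, b) ≠ 1 := by
      intro h
      rw [h, one_smul] at k1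
      exact hD.1 k1
    have hle := fixCard_le hs (Φ (a, b)) hne
    have hpar := fixCard_parity (Ω := Ω) (Φ (a, b)) (hinv a b hab)
    rw [h7] at hpar
    -- at least two fixed points: use `count_dvd`-free argument via parity and the bound
    have hge : 2 ≤ fixCard (Ω := Ω) (Φ (a, b)) := by
      -- the moved points number at most ... ; we use conjugacy with an involution fixing 2 points
      obtain ⟨c, hc, d, hd, hcd⟩ : ∃ c ∈ (((Finset.univ.erase p1).erase p2 : Finset Ω)),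
          ∃ d ∈ (((Finset.univ.erase p1).erase p2 : Finset Ω)), c ≠ d := by
        apply Finset.one_lt_card.mp
        have e3 : p2 ∈ (Finset.univ.erase p1 : Finset Ω) := by
          simp [Ne.symm hD.1]
        rw [Finset.card_erase_of_mem e3, Finset.card_erase_of_mem (Finset.mem_univ _),
          Finset.card_univ, h7]
        norm_num
      simp only [Finset.mem_erase, Finset.mem_univ, and_true] at hc hd
      have hD' : D4 p1 p2 c d := ⟨hD.1, Ne.symm hc.2, Ne.symm hd.2, Ne.symm hc.1, Ne.symm hd.1, hcd⟩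
      have hD'' : D4 p2 p1 c d := ⟨Ne.symm hD.1, Ne.symm hc.1, Ne.symm hd.1, Ne.symm hc.2,
        Ne.symm hd.2, hcd⟩
      obtain ⟨x, hx1, hx2, hx3, hx4⟩ := ht _ _ _ _ _ _ _ _ hD' hD''
      have hx_ne : x ≠ 1 := by
        intro h
        rw [h, one_smul] at hx1
        exact hD.1 hx1
      have hxx : x * x = 1 := xx hs hD' hx1 hx2 hx3 hx4
      -- a moved point of x outside p1 p2
      obtain ⟨r, hr1, hr2, hr3, hr4, hxr⟩ :
          ∃ r : Ω, r ≠ p1 ∧ r ≠ p2 ∧ r ≠ c ∧ r ≠ d ∧ x • r ≠ r := by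
        by_contra hcon
        push Not at hcon
        have hcard : 2 ≤ ((((Finset.univ.erase p1).erase p2).erase c).erase d : Finset Ω).card := by
          have e1 : d ∈ (((Finset.univ.erase p1).erase p2).erase c : Finset Ω) := by
            simp [hd.1, hd.2, Ne.symm hcd]
          have e2 : c ∈ ((Finset.univ.erase p1).erase p2 : Finset Ω) := by
            simp [hc.1, hc.2]
          have e3 : p2 ∈ (Finset.univ.erase p1 : Finset Ω) := by
            simp [Ne.symm hD.1]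
          rw [Finset.card_erase_of_mem e1, Finset.card_erase_of_mem e2,
            Finset.card_erase_of_mem e3, Finset.card_erase_of_mem (Finset.mem_univ _),
            Finset.card_univ]
          omega
        obtain ⟨r, hr, s', hs', hrs⟩ := Finset.one_lt_card.mp
          (show 1 < ((((Finset.univ.erase p1).erase p2).erase c).erase d : Finset Ω).card by
            omega)
        simp only [Finset.mem_erase, Finset.mem_univ, and_true] at hr hs'
        have hxr := hcon r hr.2.2.2 hr.2.2.1 hr.2.1 hr.1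
        have hxs := hcon s' hs'.2.2.2 hs'.2.2.1 hs'.2.1 hs'.1
        exact hx_ne (hs x c d r s' ⟨hcd, Ne.symm hr.2.1, Ne.symm hs'.2.1, Ne.symm hr.1,
          Ne.symm hs'.1, hrs⟩ hx3 hx4 hxr hxs)
      have hxxr : x • (x • r) = r := by rw [← mul_smul, hxx, one_smul]
      have hDr : D4 p1 p2 r (x • r) := by
        refine ⟨hD.1, Ne.symm hr1, ?_, Ne.symm hr2, ?_, Ne.symm hxr⟩
        · intro h
          apply hr2
          rw [← hxxr, ← h, hx1]
        · intro h
          apply hr1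
          rw [← hxxr, ← h, hx2]
      have hxΦ : x = Φ (r, x • r) := huniq r (x • r) hDr x hx1 hx2 rfl hxxr
      rw [hconj r (x • r) a b hDr hab, ← hxΦ]
      unfold fixCard
      apply Finset.one_lt_card.mpr
      exact ⟨c, by simp [hx3], d, by simp [hx4], hcd⟩
    omega
  -- so it moves exactly the four points p1 p2 a b
  have hfixes : ∀ a b : Ω, D4 p1 p2 a b → ∀ r : Ω, r ≠ p1 → r ≠ p2 → r ≠ a → r ≠ b →
      Φ (a, b) • r = r := by
    intro a b hab r hr1 hr2 hra hrb
    obtain ⟨k1, k2, k3, k4⟩ := hΦ a b hab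
    by_contra hr
    have h3 := hfix3 a b hab
    unfold fixCard at h3
    have hsub : Finset.univ.filter (fun t : Ω => Φ (a, b) • t = t) ⊆
        ((((((Finset.univ : Finset Ω).erase p1).erase p2).erase a).erase b).erase r) := by
      intro t ht'
      simp only [Finset.mem_filter, Finset.mem_univ, true_and] at ht'
      simp only [Finset.mem_erase, Finset.mem_univ, and_true]
      refine ⟨?_, ?_, ?_, ?_, ?_⟩
      · rintro rfl; exact hr ht'
      · rintro rfl
        rw [k4] at ht'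
        exact hab.2.2.2.2.2 ht'
      · rintro rfl
        rw [k3] at ht'
        exact hab.2.2.2.2.2 ht'.symm
      · rintro rfl
        rw [k2] at ht'
        exact hD.1 ht'
      · rintro rfl
        rw [k1] at ht'
        exact hD.1 ht'.symm
    have hcard := Finset.card_le_card hsub
    have e0 : r ∈ ((((Finset.univ.erase p1).erase p2).erase a).erase b : Finset Ω) := by
      simp [hr1, hr2, hra, hrb]
    have e1 : b ∈ (((Finset.univ.erase p1).erase p2).erase a : Finset Ω) := by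
      simp [Ne.symm hab.2.2.1, Ne.symm hab.2.2.2.2.1, Ne.symm hab.2.2.2.2.2]
    have e2 : a ∈ ((Finset.univ.erase p1).erase p2 : Finset Ω) := by
      simp [Ne.symm hab.2.1, Ne.symm hab.2.2.2.1]
    have e3 : p2 ∈ (Finset.univ.erase p1 : Finset Ω) := by
      simp [Ne.symm hD.1]
    rw [Finset.card_erase_of_mem e0, Finset.card_erase_of_mem e1, Finset.card_erase_of_mem e2,
      Finset.card_erase_of_mem e3, Finset.card_erase_of_mem (Finset.mem_univ _),
      Finset.card_univ, h7, h3] at hcard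
    omega
  -- three further points
  have hcard3 : 2 < ((((Finset.univ.erase p1).erase p2).erase p).erase q : Finset Ω).card := by
    have e1 : q ∈ (((Finset.univ.erase p1).erase p2).erase p : Finset Ω) := by
      simp [Ne.symm hD.2.2.1, Ne.symm hD.2.2.2.2.1, Ne.symm hD.2.2.2.2.2]
    have e2 : p ∈ ((Finset.univ.erase p1).erase p2 : Finset Ω) := by
      simp [Ne.symm hD.2.1, Ne.symm hD.2.2.2.1]
    have e3 : p2 ∈ (Finset.univ.erase p1 : Finset Ω) := by
      simp [Ne.symm hD.1]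
    rw [Finset.card_erase_of_mem e1, Finset.card_erase_of_mem e2, Finset.card_erase_of_mem e3,
      Finset.card_erase_of_mem (Finset.mem_univ _), Finset.card_univ, h7]
    norm_num
  obtain ⟨q', r, s', hq', hr, hs', hq'r, hq's, hrs⟩ := Finset.two_lt_card_iff.mp hcard3
  simp only [Finset.mem_erase, Finset.mem_univ, and_true] at hq' hr hs'
  have hD2 : D4 p1 p2 p q' := ⟨hD.1, hD.2.1, Ne.symm hq'.2.2.2, hD.2.2.2.1, Ne.symm hq'.2.2.1,
    Ne.symm hq'.2.1⟩
  obtain ⟨k1, k2, k3, k4⟩ := hΦ p q hD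
  obtain ⟨l1, l2, l3, l4⟩ := hΦ p q' hD2
  have hr_u := hfixes p q hD r hr.2.2.2 hr.2.2.1 hr.2.1 hr.1
  have hs_u := hfixes p q hD s' hs'.2.2.2 hs'.2.2.1 hs'.2.1 hs'.1
  have hr_u' := hfixes p q' hD2 r hr.2.2.2 hr.2.2.1 hr.2.1 (Ne.symm hq'r)
  have hs_u' := hfixes p q' hD2 s' hs'.2.2.2 hs'.2.2.1 hs'.2.1 (Ne.symm hq's)
  have heq : Φ (p, q) = Φ (p, q') :=
    eq_of_agree hs _ _ ⟨hD.1, Ne.symm hr.2.2.2, Ne.symm hs'.2.2.2, Ne.symm hr.2.2.1,
      Ne.symm hs'.2.2.1, hrs⟩ (by rw [k1, l1]) (by rw [k2, l2]) (by rw [hr_u, hr_u'])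
      (by rw [hs_u, hs_u'])
  rw [heq, l3] at k3
  exact hq'.1 k3

theorem arith (n f : ℕ) (h6 : 6 ≤ n) (h11 : n ≤ 11) (h7 : n ≠ 7) (hf2 : 2 ≤ f) (hf3 : f ≤ 3)
    (hpar : f % 2 = n % 2) (hdvd : (n - 2 - f) ∣ (n - 2) * (n - 3)) : n = 6 ∨ n = 11 := by
  interval_cases n <;> interval_cases f <;> omega

end Count

section Main

variable {G Ω : Type*} [Group G] [MulAction G Ω]

/-- Elementwise form of the main theorem. -/
theorem card_mem_of_sharp (hs : Sharp G Ω) (ht : Trans4 G Ω) (hd4 : ∃ a b c d : Ω, D4 a b c d) :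
    Finite Ω ∧ (Nat.card Ω = 4 ∨ Nat.card Ω = 5 ∨ Nat.card Ω = 6 ∨ Nat.card Ω = 11) := by
  classical
  obtain ⟨hfin, hle⟩ := finite_and_card_le hs ht hd4
  refine ⟨hfin, ?_⟩
  letI : Fintype Ω := Fintype.ofFinite Ω
  rw [Nat.card_eq_fintype_card] at hle ⊢
  obtain ⟨p1, p2, p3, p4, hD⟩ := hd4
  have h4le : 4 ≤ Fintype.card Ω := by
    have := Fintype.card_le_of_injective _ (d4_injective hD)
    simpa using this
  by_cases h6 : 6 ≤ Fintype.card Ω
  · have hD' : D4 p2 p1 p3 p4 := ⟨Ne.symm hD.1, hD.2.2.2.1, hD.2.2.2.2.1, hD.2.1, hD.2.2.1,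
      hD.2.2.2.2.2⟩
    obtain ⟨x, hx1, hx2, hx3, hx4⟩ := ht _ _ _ _ _ _ _ _ hD hD'
    have hx_ne : x ≠ 1 := by
      intro h
      rw [h, one_smul] at hx1
      exact hD.1 hx1
    have hdvd := count_dvd hs ht hD hx1 hx2 hx3 hx4 h6
    have hf3 := fixCard_le hs x hx_ne
    have hpar := fixCard_parity (Ω := Ω) x (xx hs hD hx1 hx2 hx3 hx4)
    have hf2 : 2 ≤ fixCard (Ω := Ω) x := by
      unfold fixCard
      apply Finset.one_lt_card.mpr
      exact ⟨p3, by simp [hx3], p4, by simp [hx4], hD.2.2.2.2.2⟩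
    have h7 := card_ne_seven (G := G) (Ω := Ω) hs ht
    rcases arith _ _ h6 hle h7 hf2 hf3 hpar hdvd with h | h
    · right; right; left; exact h
    · right; right; right; exact h
  · push Not at h6
    omega

/-- **Tits–Jordan**: a sharply 4-transitive action (no finiteness assumed) has degree
`4, 5, 6` or `11`. -/
theorem card_mem (h4 : IsMultiplyPretransitive G Ω 4)
    (hsharp : ∀ x : Fin 4 ↪ Ω, stabilizer G x = ⊥) (hne : Nonempty (Fin 4 ↪ Ω)) :
    Finite Ω ∧ (Nat.card Ω = 4 ∨ Nat.card Ω = 5 ∨ Nat.card Ω = 6 ∨ Nat.card Ω = 11) :=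
  card_mem_of_sharp (sharp_of_stabilizer hsharp) (trans4_of_pretransitive h4) (exists_d4 hne)

end Main

end Cfsg.Agent.Helper4.Sharp4
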