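import Mathlib

set_option autoImplicit false

/-!
# Sharpness passes to point stabilizers
-/

namespace Cfsg.Agent.Helper4.SharpStab

open MulAction SubMulAction

variable {G α : Type*} [Group G] [MulAction G α]

/-- If only the identity fixes `n + 1` distinct points, then in the stabilizer of `a` only the
identity fixes `n` distinct points other than `a`. -/
theorem sharp_ofStabilizer {n : ℕ} (hsharp : ∀ x : Fin n.succ ↪ α, stabilizer G x = ⊥) (a : α)
    (x : Fin n ↪ ofStabilizer G a) : stabilizer (stabilizer G a) x = ⊥ := by
  ext g
  rw [mem_stabilizer_iff, Subgroup.mem_bot]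
  constructor
  · intro hg
    have hmem : (g : G) ∈ stabilizer G (ofStabilizer.snoc x) := by
      rw [mem_stabilizer_iff]
      ext i
      rw [Function.Embedding.smul_apply]
      rcases Fin.eq_castSucc_or_eq_last i with ⟨j, rfl⟩ | rfl
      · rw [ofStabilizer.snoc_castSucc]
        have := congrArg (fun e : Fin n ↪ ofStabilizer G a => ((e j : ofStabilizer G a) : α)) hg
        exact this
      · rw [ofStabilizer.snoc_last]
        exact g.2
    rw [hsharp, Subgroup.mem_bot] at hmem
    exact Subtype.ext hmem
  · rintro rfl
    exact one_smul _ _

end Cfsg.Agent.Helper4.SharpStab
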