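import Mathlib
import Cfsg.Agent.Helper4.Sharp3
import Cfsg.Agent.Helper4.Sharp4
import Cfsg.Agent.Helper4.SharpStab

set_option autoImplicit false
set_option linter.style.haveILetI false
set_option linter.unusedSectionVars false

/-!
# No sharply 6-transitive group of degree 13

The elements of order five containing a given 5-cycle and fixing a further point would
partition the eight remaining points into triples.
-/

namespace Cfsg.Agent.Helper4.Sharp6

open MulAction

variable {G Ω : Type*} [Group G] [MulAction G Ω]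

theorem eq_of_smul_eq {n : ℕ} (hsharp : ∀ x : Fin n ↪ Ω, stabilizer G x = ⊥) (x : Fin n ↪ Ω)
    (g h : G) (hgh : g • x = h • x) : g = h := by
  have : h⁻¹ * g ∈ stabilizer G x := by
    rw [mem_stabilizer_iff, mul_smul, hgh, inv_smul_smul]
  rw [hsharp, Subgroup.mem_bot, inv_mul_eq_one] at this
  exact this.symm

/-- A nonidentity element fixes fewer than `n` points. -/
theorem card_fixedBy_lt {n : ℕ} [Finite Ω] (hsharp : ∀ x : Fin n ↪ Ω, stabilizer G x = ⊥)
    (g : G) (hg : g ≠ 1) : Nat.card (fixedBy Ω g) < n := by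
  classical
  by_contra hcon
  push Not at hcon
  letI : Fintype (fixedBy Ω g) := Fintype.ofFinite _
  have hne : Nonempty (Fin n ↪ fixedBy Ω g) := by
    rw [Function.Embedding.nonempty_iff_card_le, Fintype.card_fin, ← Nat.card_eq_fintype_card]
    exact hcon
  obtain ⟨e⟩ := hne
  let x : Fin n ↪ Ω := e.trans (Function.Embedding.subtype _)
  have hmem : g ∈ stabilizer G x := by
    rw [mem_stabilizer_iff]
    ext i
    rw [Function.Embedding.smul_apply]
    exact (e i).2
  rw [hsharp, Subgroup.mem_bot] at hmem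
  exact hg hmem

theorem not_sharp6_thirteen [Finite Ω] (h6 : IsMultiplyPretransitive G Ω 6)
    (hsharp : ∀ x : Fin 6 ↪ Ω, stabilizer G x = ⊥) (hcard : Nat.card Ω = 13) : False := by
  classical
  letI : Fintype Ω := Fintype.ofFinite Ω
  have hcard' : Fintype.card Ω = 13 := by rw [← Nat.card_eq_fintype_card, hcard]
  -- a 5-tuple
  have hne5 : Nonempty (Fin 5 ↪ Ω) := by
    rw [Function.Embedding.nonempty_iff_card_le, Fintype.card_fin, hcard']
    norm_num
  obtain ⟨c⟩ := hne5
  let σ : Equiv.Perm (Fin 5) := finRotate 5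
  let c' : Fin 5 ↪ Ω := σ.toEmbedding.trans c
  have hrange : Set.range c' = Set.range c := by
    ext q
    constructor
    · rintro ⟨i, rfl⟩
      exact ⟨σ i, rfl⟩
    · rintro ⟨i, rfl⟩
      exact ⟨σ.symm i, by simp [c']⟩
  -- the elements
  have hex : ∀ r : {r : Ω // r ∉ Set.range c}, ∃ z : G,
      (∀ i : Fin 5, z • c i = c (σ i)) ∧ z • r.1 = r.1 := by
    intro r
    have hr' : r.1 ∉ Set.range c' := by rw [hrange]; exact r.2
    obtain ⟨z, hz⟩ := h6.exists_smul_eq (Fin.Embedding.snoc c r.2) (Fin.Embedding.snoc c' hr')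
    refine ⟨z, fun i => ?_, ?_⟩
    · have := congrArg (fun e : Fin 6 ↪ Ω => e i.castSucc) hz
      simp only [Function.Embedding.smul_apply] at this
      rw [Fin.Embedding.snoc_castSucc, Fin.Embedding.snoc_castSucc] at this
      exact this
    · have := congrArg (fun e : Fin 6 ↪ Ω => e (Fin.last 5)) hz
      simp only [Function.Embedding.smul_apply] at this
      rw [Fin.Embedding.snoc_last, Fin.Embedding.snoc_last] at this
      exact this
  choose z hzc hzr using hex
  -- uniqueness
  have huniq : ∀ (r : {r : Ω // r ∉ Set.range c}) (g : G),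
      (∀ i : Fin 5, g • c i = c (σ i)) → g • r.1 = r.1 → g = z r := by
    intro r g hg1 hg2
    apply eq_of_smul_eq hsharp (Fin.Embedding.snoc c r.2)
    ext i
    rw [Function.Embedding.smul_apply, Function.Embedding.smul_apply]
    rcases Fin.eq_castSucc_or_eq_last i with ⟨j, rfl⟩ | rfl
    · rw [Fin.Embedding.snoc_castSucc, hg1, hzc]
    · rw [Fin.Embedding.snoc_last, hg2, hzr]
  -- order five
  have hz5 : ∀ r, z r ^ 5 = 1 := by
    intro r
    apply eq_of_smul_eq hsharp (Fin.Embedding.snoc c r.2)
    ext i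
    rw [Function.Embedding.smul_apply, Function.Embedding.smul_apply, one_smul]
    rcases Fin.eq_castSucc_or_eq_last i with ⟨j, rfl⟩ | rfl
    · rw [Fin.Embedding.snoc_castSucc]
      simp only [pow_succ, pow_zero, one_mul, mul_smul, hzc]
      congr 1
      revert j
      decide
    · rw [Fin.Embedding.snoc_last]
      simp only [pow_succ, pow_zero, one_mul, mul_smul, hzr]
  have hz1 : ∀ r, z r ≠ 1 := by
    intro r h
    have := hzc r 0
    rw [h, one_smul] at this
    have := c.injective this
    revert this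
    decide
  have hord : ∀ r, orderOf (z r) = 5 := by
    intro r
    haveI : Fact (Nat.Prime 5) := ⟨by norm_num⟩
    exact orderOf_eq_prime (hz5 r) (hz1 r)
  -- three fixed points
  have hfix3 : ∀ r, Nat.card (fixedBy Ω (z r)) = 3 := by
    intro r
    haveI : Fact (Nat.Prime 5) := ⟨by norm_num⟩
    have hmod := Cfsg.Agent.Helper4.card_modEq_card_fixedBy_of_orderOf_prime (Ω := Ω) 5 (z r)
      (hord r)
    have hlt := card_fixedBy_lt hsharp (z r) (hz1 r)
    rw [hcard] at hmod
    unfold Nat.ModEq at hmod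
    omega
  -- the fibres of `z`
  have hfiber : ∀ g ∈ (Finset.univ : Finset {r : Ω // r ∉ Set.range c}).image z,
      ((Finset.univ : Finset {r : Ω // r ∉ Set.range c}).filter (fun s => z s = g)).card = 3 := by
    intro g hg
    rw [Finset.mem_image] at hg
    obtain ⟨r, _, rfl⟩ := hg
    rw [← hfix3 r, Nat.card_eq_fintype_card, Fintype.card_subtype]
    apply Finset.card_bij (fun s _ => s.1)
    · intro s hs
      simp only [Finset.mem_filter, Finset.mem_univ, true_and] at hs ⊢
      rw [mem_fixedBy, ← hs]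
      exact hzr s
    · intro s _ t _ hst
      exact Subtype.ext hst
    · intro q hq
      simp only [Finset.mem_filter, Finset.mem_univ, true_and] at hq
      rw [mem_fixedBy] at hq
      have hqc : q ∉ Set.range c := by
        rintro ⟨i, rfl⟩
        rw [hzc] at hq
        have hi : σ i = i := c.injective hq
        have hno : ∀ j : Fin 5, (finRotate 5) j ≠ j := by decide
        exact hno i hi
      refine ⟨⟨q, hqc⟩, ?_, rfl⟩
      simp only [Finset.mem_filter, Finset.mem_univ, true_and]
      exact (huniq ⟨q, hqc⟩ (z r) (hzc r) hq).symm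
  have hsum := Finset.card_eq_sum_card_fiberwise (f := z)
    (s := (Finset.univ : Finset {r : Ω // r ∉ Set.range c}))
    (t := (Finset.univ : Finset {r : Ω // r ∉ Set.range c}).image z)
    (fun r h => Finset.mem_image_of_mem z h)
  rw [Finset.sum_congr rfl hfiber, Finset.sum_const, smul_eq_mul, Finset.card_univ] at hsum
  have hT : Fintype.card {r : Ω // r ∉ Set.range c} = 8 := by
    rw [Fintype.card_subtype_compl, hcard']
    have : Fintype.card {x // x ∈ Set.range c} = 5 := by
      rw [← Set.toFinset_card, Set.toFinset_range, Finset.card_image_of_injective _ c.injective]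
      simp
    rw [this]
  omega

/-- Passing to a point stabilizer. -/
theorem step {n : ℕ} [Finite Ω] (hpre : IsMultiplyPretransitive G Ω (n + 1))
    (hsharp : ∀ x : Fin (n + 1) ↪ Ω, stabilizer G x = ⊥) (hn : n + 1 ≤ Nat.card Ω) :
    ∃ a : Ω, IsMultiplyPretransitive (stabilizer G a) (SubMulAction.ofStabilizer G a) n ∧
      (∀ x : Fin n ↪ SubMulAction.ofStabilizer G a, stabilizer (stabilizer G a) x = ⊥) ∧
      Nat.card (SubMulAction.ofStabilizer G a) = Nat.card Ω - 1 := by
  have hne0 : Nonempty Ω := by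
    rw [← Finite.card_pos_iff]
    omega
  obtain ⟨a⟩ := hne0
  have hpre1 : IsPretransitive G Ω := by
    have : IsMultiplyPretransitive G Ω 1 :=
      isMultiplyPretransitive_of_le (n := n + 1) (by omega) hn
    exact is_one_pretransitive_iff.mp this
  exact ⟨a, SubMulAction.ofStabilizer.isMultiplyPretransitive.mp hpre,
    Cfsg.Agent.Helper4.SharpStab.sharp_ofStabilizer hsharp a,
    SubMulAction.nat_card_ofStabilizer_eq G a⟩

theorem nonempty_emb {n : ℕ} [Finite Ω] (hn : n ≤ Nat.card Ω) : Nonempty (Fin n ↪ Ω) := by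
  letI : Fintype Ω := Fintype.ofFinite Ω
  rw [Function.Embedding.nonempty_iff_card_le, Fintype.card_fin, ← Nat.card_eq_fintype_card]
  exact hn

/-- Degrees of sharply 5-transitive actions. -/
theorem sharp5_card [Finite Ω] (h5 : IsMultiplyPretransitive G Ω 5)
    (hsharp : ∀ x : Fin 5 ↪ Ω, stabilizer G x = ⊥) (hn : 5 ≤ Nat.card Ω) :
    Nat.card Ω = 5 ∨ Nat.card Ω = 6 ∨ Nat.card Ω = 7 ∨ Nat.card Ω = 12 := by
  obtain ⟨a, h4, hs4, hc⟩ := step (n := 4) h5 hsharp hn
  obtain ⟨_, h⟩ := Cfsg.Agent.Helper4.Sharp4.card_mem h4 hs4 (nonempty_emb (by omega))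
  omega

/-- Degrees of sharply 6-transitive actions. -/
theorem sharp6_card [Finite Ω] (h6 : IsMultiplyPretransitive G Ω 6)
    (hsharp : ∀ x : Fin 6 ↪ Ω, stabilizer G x = ⊥) (hn : 6 ≤ Nat.card Ω) :
    Nat.card Ω = 6 ∨ Nat.card Ω = 7 ∨ Nat.card Ω = 8 := by
  obtain ⟨a, h5, hs5, hc⟩ := step (n := 5) h6 hsharp hn
  have h := sharp5_card h5 hs5 (by omega)
  have h13 : Nat.card Ω ≠ 13 := fun h13 => not_sharp6_thirteen h6 hsharp h13
  omega

universe u v

/-- Degrees of sharply `k`-transitive actions, `k ≥ 6`. -/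
theorem sharpk_card (k : ℕ) (hk : 6 ≤ k) : ∀ (G : Type u) (Ω : Type v) [Group G] [MulAction G Ω]
    [Finite Ω], IsMultiplyPretransitive G Ω k → (∀ x : Fin k ↪ Ω, stabilizer G x = ⊥) →
    k ≤ Nat.card Ω → (Nat.card Ω = k ∨ Nat.card Ω = k + 1 ∨ Nat.card Ω = k + 2) := by
  induction k, hk using Nat.le_induction with
  | base =>
    intro G Ω _ _ _ h6 hsharp hn
    exact sharp6_card h6 hsharp hn
  | succ k hk ih =>
    intro G Ω _ _ _ hpre hsharp hn
    obtain ⟨a, hk', hsk, hc⟩ := step (n := k) hpre hsharp hn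
    have h := ih (stabilizer G a) (SubMulAction.ofStabilizer G a) hk' hsk (by omega)
    omega

end Cfsg.Agent.Helper4.Sharp6
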