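import Mathlib
import Cfsg.Prelude.Def_GeometricClasses
import Cfsg.Agent.Helper2.S5886.Defs
import Cfsg.Agent.Helper2.S5664.Defs

/-! # S5664 (driver helper2), piece SIEGEL (helper4): the `K`-Siegel element. -/

set_option autoImplicit false

namespace Cfsg.Agent.S5664P

open Cfsg.Agent.S5886P

variable {F K V : Type*} [Field F] [Field K] [Algebra F K]
  [AddCommGroup V] [Module F V] [Module K V] [IsScalarTower F K V]

namespace SIEGEL

/-- the nilpotent part `x ↦ B x u • v + B x v • u` -/
noncomputable def N (B : V →ₗ[K] V →ₗ[K] K) (v u : V) : V →ₗ[K] V :=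
  (B.flip u).smulRight v + (B.flip v).smulRight u

theorem N_apply (B : V →ₗ[K] V →ₗ[K] K) (v u x : V) :
    N B v u x = B x u • v + B x v • u := by
  simp only [N, LinearMap.add_apply, LinearMap.smulRight_apply, LinearMap.flip_apply]

theorem skew (B : V →ₗ[K] V →ₗ[K] K) (hB : IsAltND B) (x y : V) : B x y = - B y x := by
  have h := hB.alt (x + y)
  simp only [map_add, LinearMap.add_apply, hB.alt x, hB.alt y] at h
  linear_combination h

theorem B_N_left (B : V →ₗ[K] V →ₗ[K] K) (v u x y : V) :
    B (N B v u x) y = B x u * B v y + B x v * B u y := by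
  rw [N_apply]
  simp only [map_add, map_smul, LinearMap.add_apply, LinearMap.smul_apply, smul_eq_mul]

theorem B_N_right (B : V →ₗ[K] V →ₗ[K] K) (v u x y : V) :
    B x (N B v u y) = B y u * B x v + B y v * B x u := by
  rw [N_apply]
  simp only [map_add, map_smul, smul_eq_mul]

theorem N_N (B : V →ₗ[K] V →ₗ[K] K) (hB : IsAltND B) (v u : V) (huv : B u v = 0) (x : V) :
    N B v u (N B v u x) = 0 := by
  have hvu : B v u = 0 := by rw [skew B hB, huv, neg_zero]
  rw [N_apply B v u (N B v u x), B_N_left, B_N_left, hB.alt, hB.alt, hvu, huv]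
  simp

end SIEGEL

/-- SIEGEL (M) -/
theorem SIEGEL (B : V →ₗ[K] V →ₗ[K] K) (hB : IsAltND B) (v u : V) (huv : B u v = 0) :
    ∃ g ∈ SpK F B, ∀ x, g x = x + B x u • v + B x v • u := by
  have hvu : B v u = 0 := by rw [SIEGEL.skew B hB, huv, neg_zero]
  let f : V →ₗ[F] V := (LinearMap.id + SIEGEL.N B v u).restrictScalars F
  let f' : V →ₗ[F] V := (LinearMap.id - SIEGEL.N B v u).restrictScalars F
  have hf : ∀ x, f x = x + SIEGEL.N B v u x := fun x => rfl
  have hf' : ∀ x, f' x = x - SIEGEL.N B v u x := fun x => rfl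
  have h1 : f.comp f' = LinearMap.id := by
    apply LinearMap.ext
    intro x
    rw [LinearMap.comp_apply, hf, hf', map_sub, SIEGEL.N_N B hB v u huv, LinearMap.id_apply]
    abel
  have h2 : f'.comp f = LinearMap.id := by
    apply LinearMap.ext
    intro x
    rw [LinearMap.comp_apply, hf, hf', map_add, SIEGEL.N_N B hB v u huv, LinearMap.id_apply]
    abel
  refine ⟨LinearEquiv.ofLinear f f' h1 h2, ⟨?_, ?_⟩, ?_⟩
  · intro k x
    show f (k • x) = k • f x
    rw [hf, hf, map_smul, smul_add]
  · intro x y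
    show B (f x) (f y) = B x y
    rw [hf, hf]
    simp only [map_add, LinearMap.add_apply]
    rw [SIEGEL.B_N_right, SIEGEL.B_N_left, SIEGEL.B_N_left, SIEGEL.B_N_right, SIEGEL.B_N_right,
      hB.alt, hB.alt, huv, hvu, SIEGEL.skew B hB v y, SIEGEL.skew B hB u y]
    ring
  · intro x
    show f x = x + B x u • v + B x v • u
    rw [hf, SIEGEL.N_apply, add_assoc]

end Cfsg.Agent.S5664P
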