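import Cfsg.Agent.Helper12.S5683Lib

set_option autoImplicit false
set_option linter.unusedSectionVars false
set_option linter.unusedVariables false

/-! S5683 piece RATCOORD (helper4; driver helper12): the coefficients of a rational vector in terms of `F`-independent
rational vectors lie in `F₀` (apply an `F₀`-linear retraction `F → F₀` coordinatewise). -/

namespace Cfsg.Agent.S5683P

open Matrix Cfsg.Agent.Helper28.Sg Cfsg.Agent.Helper28.Spin Cfsg.Agent.Helper12.OrthGen
  Cfsg.Agent.S2614

variable {F : Type*} [Field F] {m : ℕ}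

namespace RATCOORD

/-- an `F₀`-linear retraction `F → F₀` -/
theorem exists_retraction (F₀ : Subfield F) :
    ∃ lam : F → F, (∀ c, lam c ∈ F₀) ∧ (∀ a ∈ F₀, lam a = a) ∧
      (∀ a ∈ F₀, ∀ c, lam (c * a) = lam c * a) ∧ (∀ c d, lam (c + d) = lam c + lam d) := by
  have hinj : LinearMap.ker (Algebra.linearMap ↥F₀ F) = ⊥ := by
    rw [LinearMap.ker_eq_bot]
    exact Subtype.coe_injective
  obtain ⟨g, hg⟩ := LinearMap.exists_leftInverse_of_injective (Algebra.linearMap ↥F₀ F) hinj
  refine ⟨fun c => ((g c : ↥F₀) : F), fun c => (g c).2, ?_, ?_, ?_⟩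
  · intro a ha
    have h1 := LinearMap.congr_fun hg ⟨a, ha⟩
    rw [LinearMap.comp_apply, LinearMap.id_apply] at h1
    have h2 : (Algebra.linearMap ↥F₀ F) ⟨a, ha⟩ = a := rfl
    rw [h2] at h1
    show ((g a : ↥F₀) : F) = a
    rw [h1]
  · intro a ha c
    have h1 : c * a = (⟨a, ha⟩ : ↥F₀) • c := by
      rw [Subfield.smul_def, smul_eq_mul, mul_comm]
    show ((g (c * a) : ↥F₀) : F) = ((g c : ↥F₀) : F) * a
    rw [h1, map_smul, smul_eq_mul, Subfield.coe_mul, mul_comm]
  · intro c d
    show ((g (c + d) : ↥F₀) : F) = ((g c : ↥F₀) : F) + ((g d : ↥F₀) : F)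
    rw [map_add, Subfield.coe_add]

end RATCOORD

/-- RATCOORD: the coefficients of a rational vector in terms of `F`-independent rational vectors lie
in `F₀` (apply an `F₀`-linear retraction `F → F₀` coordinatewise). -/
theorem RATCOORD.coeff_mem {ι κ : Type} [Fintype κ] (F₀ : Subfield F) (y : κ → ι → F)
    (hy : ∀ k, Rat F₀ (y k)) (hind : LinearIndependent F y) (c : κ → F)
    (hx : Rat F₀ (∑ k, c k • y k)) : ∀ k, c k ∈ F₀ := by
  classical
  obtain ⟨lam, hmem, hfix, hmul, hadd⟩ := RATCOORD.exists_retraction F₀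
  have hzero : lam 0 = 0 := hfix 0 F₀.zero_mem
  have hsum : ∀ (s : Finset κ) (f : κ → F), lam (∑ k ∈ s, f k) = ∑ k ∈ s, lam (f k) := by
    intro s f
    induction s using Finset.induction_on with
    | empty => simpa using hzero
    | insert a s ha ih => rw [Finset.sum_insert ha, Finset.sum_insert ha, hadd, ih]
  have hkey : ∑ k, (c k - lam (c k)) • y k = 0 := by
    funext i
    have h1 : (∑ k, c k • y k) i = ∑ k, c k * y k i := by
      rw [Finset.sum_apply]
      rfl
    have h2 : lam (∑ k, c k * y k i) = ∑ k, c k * y k i := by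
      rw [← h1]
      exact hfix _ (hx i)
    rw [hsum] at h2
    have h3 : ∀ k, lam (c k * y k i) = lam (c k) * y k i := fun k => hmul _ (hy k i) _
    simp only [h3] at h2
    rw [Finset.sum_apply, Pi.zero_apply]
    simp only [Pi.smul_apply, smul_eq_mul, sub_mul]
    rw [Finset.sum_sub_distrib, h2, sub_self]
  have h := Fintype.linearIndependent_iff.1 hind _ hkey
  intro k
  have hk := h k
  rw [sub_eq_zero] at hk
  rw [hk]
  exact hmem _

end Cfsg.Agent.S5683P
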