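import Cfsg.Agent.Helper12.S5702Defs2

set_option autoImplicit false
set_option linter.unusedSectionVars false
set_option linter.unusedVariables false

/-! # S5702 piece TENS (driver helper12): the elements of `D = ⟨R_π(F₀), E(v,w)⟩` fix `p`, fix `(π + ⟨v,w⟩)^⊥`
pointwise and act on `(π + ⟨v,w⟩)/p` as a `2 × 2` matrix tensor `1`. -/

namespace Cfsg.Agent.S5702P

open Matrix Cfsg.Agent.Helper28.Sg Cfsg.Agent.Helper28.Spin Cfsg.Agent.Helper12.OrthGen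
  Cfsg.Agent.S5683P

variable {F : Type*} [Field F] {m : ℕ} {a b : F}

namespace TENS

/-- the three properties of TENS -/
def PP (κ : Fin 3 → Fin m) (v w : Idx m → F) (d : OG m F a b) : Prop :=
  mt (QfMinus m F a b) d *ᵥ lin3 κ (xi3 κ v ⨯₃ xi3 κ w) = lin3 κ (xi3 κ v ⨯₃ xi3 κ w) ∧
    FixW κ v w d ∧ Tens κ v w (lin3 κ (xi3 κ v ⨯₃ xi3 κ w)) d

theorem xi3_Jmap (κ : Fin 3 → Fin m) (v w x : Idx m → F) :
    xi3 κ (Jmap a b v w x) =
      B (QfMinus m F a b) x v • xi3 κ w - B (QfMinus m F a b) x w • xi3 κ v := by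
  funext k
  simp [xi3, Jmap]

theorem sieg_mulVec (v w : Idx m → F) (hv : QfMinus m F a b v = 0) (hw : QfMinus m F a b w = 0)
    (hvw : B (QfMinus m F a b) v w = 0) (x : Idx m → F) :
    mt (QfMinus m F a b) (siegO (QfMinus m F a b) v w hv hvw) *ᵥ x = x + Jmap a b v w x := by
  rw [siegO_mulVec, hw, zero_mul, zero_smul, sub_zero]
  unfold Jmap
  rw [B_comm _ v x, B_comm _ w x]
  abel

theorem B_Jmap_left (v w : Idx m → F) (hv : QfMinus m F a b v = 0) (hw : QfMinus m F a b w = 0)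
    (hvw : B (QfMinus m F a b) v w = 0) (x : Idx m → F) :
    B (QfMinus m F a b) (Jmap a b v w x) v = 0 ∧ B (QfMinus m F a b) (Jmap a b v w x) w = 0 := by
  have hvv : B (QfMinus m F a b) v v = 0 := B_self_of_singular _ hv
  have hww : B (QfMinus m F a b) w w = 0 := B_self_of_singular _ hw
  have hwv : B (QfMinus m F a b) w v = 0 := by rw [B_comm]; exact hvw
  unfold Jmap
  simp only [B, QuadraticMap.polar_sub_left, QuadraticMap.polar_smul_left, smul_eq_mul]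
  simp only [B] at hvv hww hwv hvw
  rw [hvv, hww, hwv, hvw]
  simp

theorem Jmap_Jmap (v w : Idx m → F) (hv : QfMinus m F a b v = 0) (hw : QfMinus m F a b w = 0)
    (hvw : B (QfMinus m F a b) v w = 0) (x : Idx m → F) :
    Jmap a b v w (Jmap a b v w x) = 0 := by
  obtain ⟨h1, h2⟩ := B_Jmap_left v w hv hw hvw x
  show B (QfMinus m F a b) (Jmap a b v w x) v • w - B (QfMinus m F a b) (Jmap a b v w x) w • v = 0
  rw [h1, h2]
  simp

theorem Jmap_p (κ : Fin 3 → Fin m) (v w : Idx m → F) :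
    Jmap a b v w (lin3 κ (xi3 κ v ⨯₃ xi3 κ w)) = 0 := by
  unfold Jmap
  rw [B_lin3, B_lin3, dotProduct_comm, dot_self_cross, dotProduct_comm _ (xi3 κ w), dot_cross_self]
  simp

theorem Jmap_add (v w x y : Idx m → F) :
    Jmap a b v w (x + y) = Jmap a b v w x + Jmap a b v w y := by
  unfold Jmap
  simp only [B, QuadraticMap.polar_add_left, add_smul]
  abel

theorem Jmap_smul (v w : Idx m → F) (c : F) (x : Idx m → F) :
    Jmap a b v w (c • x) = c • Jmap a b v w x := by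
  unfold Jmap
  simp only [B, QuadraticMap.polar_smul_left, smul_eq_mul, smul_sub, smul_smul]

theorem cross_zero' (t : Fin 3 → F) : t ⨯₃ (0 : Fin 3 → F) = 0 := map_zero _

theorem lin3_sub' (κ : Fin 3 → Fin m) (c c' : Fin 3 → F) :
    lin3 κ (c - c') = lin3 κ c - lin3 κ c' := by
  have : c - c' = c + (-1 : F) • c' := by
    rw [neg_one_smul, sub_eq_add_neg]
  rw [this, lin3_add, lin3_smul, neg_one_smul, sub_eq_add_neg]

theorem PP_one (κ : Fin 3 → Fin m) (v w : Idx m → F) : PP (a := a) (b := b) κ v w 1 := by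
  refine ⟨mt_one_mulVec _ _, fun x _ _ _ => mt_one_mulVec _ _, 1, 0, 0, 1, fun c => ⟨0, ?_⟩,
    fun c => ⟨0, ?_⟩⟩
  · rw [mt_one_mulVec]; simp
  · rw [mt_one_mulVec]; simp

theorem PP_mul (κ : Fin 3 → Fin m) (v w : Idx m → F) {d₁ d₂ : OG m F a b}
    (h₁ : PP κ v w d₁) (h₂ : PP κ v w d₂) : PP κ v w (d₁ * d₂) := by
  obtain ⟨p₁, f₁, α₁, β₁, γ₁, δ₁, t₁, u₁⟩ := h₁
  obtain ⟨p₂, f₂, α₂, β₂, γ₂, δ₂, t₂, u₂⟩ := h₂
  refine ⟨?_, ?_, α₂ * α₁ + γ₂ * β₁, β₂ * α₁ + δ₂ * β₁, α₂ * γ₁ + γ₂ * δ₁, β₂ * γ₁ + δ₂ * δ₁,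
    ?_, ?_⟩
  · rw [mt_mul_mulVec, p₂, p₁]
  · intro x hx hvx hwx
    rw [mt_mul_mulVec, f₂ x hx hvx hwx, f₁ x hx hvx hwx]
  · intro c
    obtain ⟨s₂, e₂⟩ := t₂ c
    obtain ⟨s₁, e₁⟩ := t₁ c
    obtain ⟨s₁', e₁'⟩ := u₁ c
    refine ⟨α₂ * s₁ + γ₂ * s₁' + s₂, ?_⟩
    rw [mt_mul_mulVec, e₂, Matrix.mulVec_add, Matrix.mulVec_add, Matrix.mulVec_smul,
      Matrix.mulVec_smul, Matrix.mulVec_smul, e₁, e₁', p₁]
    module
  · intro c
    obtain ⟨s₂, e₂⟩ := u₂ c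
    obtain ⟨s₁, e₁⟩ := t₁ c
    obtain ⟨s₁', e₁'⟩ := u₁ c
    refine ⟨β₂ * s₁ + δ₂ * s₁' + s₂, ?_⟩
    rw [mt_mul_mulVec, e₂, Matrix.mulVec_add, Matrix.mulVec_add, Matrix.mulVec_smul,
      Matrix.mulVec_smul, Matrix.mulVec_smul, e₁, e₁', p₁]
    module

theorem PP_pow (κ : Fin 3 → Fin m) (v w : Idx m → F) {d : OG m F a b}
    (h : PP κ v w d) (n : ℕ) : PP κ v w (d ^ n) := by
  induction n with
  | zero => rw [pow_zero]; exact PP_one κ v w
  | succ n ih => rw [pow_succ]; exact PP_mul κ v w ih h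

theorem PP_inv [Finite F] (κ : Fin 3 → Fin m) (v w : Idx m → F) {d : OG m F a b}
    (h : PP κ v w d) : PP κ v w d⁻¹ := by
  have hfin : IsOfFinOrder d := isOfFinOrder_of_finite d
  have hpos : 0 < orderOf d := hfin.orderOf_pos
  have e : d⁻¹ = d ^ (orderOf d - 1) := by
    apply inv_eq_of_mul_eq_one_right
    rw [← pow_succ', Nat.sub_add_cancel hpos, pow_orderOf_eq_one]
  rw [e]
  exact PP_pow κ v w h _

theorem PP_sieg (κ : Fin 3 → Fin m) (v w : Idx m → F) (hv : QfMinus m F a b v = 0)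
    (hw : QfMinus m F a b w = 0) (hvw : B (QfMinus m F a b) v w = 0) :
    PP κ v w (siegO (QfMinus m F a b) v w hv hvw) := by
  refine ⟨?_, ?_, 1, 0, 1, 1, fun c => ⟨0, ?_⟩, fun c => ⟨0, ?_⟩⟩
  · rw [sieg_mulVec v w hv hw hvw, Jmap_p, add_zero]
  · intro x _ hvx hwx
    rw [sieg_mulVec v w hv hw hvw]
    unfold Jmap
    rw [B_comm _ x v, B_comm _ x w, hvx, hwx]
    simp
  · rw [sieg_mulVec v w hv hw hvw]; simp
  · rw [sieg_mulVec v w hv hw hvw, Jmap_Jmap v w hv hw hvw]; simp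

theorem PP_rho (κ : Fin 3 → Fin m) (hκ : Function.Injective κ) (v w : Idx m → F)
    (t : Fin 3 → F) : PP κ v w (rho a b κ t) := by
  refine ⟨?_, ?_, 1, -(t ⬝ᵥ (xi3 κ v ⨯₃ xi3 κ w)), 0, 1, fun c => ⟨0, ?_⟩,
    fun c => ⟨t ⬝ᵥ c, ?_⟩⟩
  · rw [rho_mulVec κ hκ, xi3_lin3, cross_zero', lin3_zero, add_zero]
  · intro x hx _ _
    rw [rho_mulVec κ hκ, hx, cross_zero', lin3_zero, add_zero]
  · rw [rho_mulVec κ hκ, xi3_lin3, cross_zero', lin3_zero, add_zero]; simp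
  · rw [rho_mulVec κ hκ, xi3_Jmap, B_lin3, B_lin3]
    have e : (c ⬝ᵥ xi3 κ v) • xi3 κ w - (c ⬝ᵥ xi3 κ w) • xi3 κ v =
        (xi3 κ v ⨯₃ xi3 κ w) ⨯₃ c := by
      rw [cross_cross_eq_smul_sub_smul, dotProduct_comm c, dotProduct_comm c]
    rw [e, cross_cross_eq_smul_sub_smul', lin3_sub', lin3_smul, lin3_smul]
    rw [dotProduct_comm (xi3 κ v ⨯₃ xi3 κ w) t]
    module

end TENS

/-- TENS: every element of `D = ⟨R_π(F₀), E(v,w)⟩` fixes `p`, fixes `(π + ⟨v,w⟩)^⊥` pointwise and acts on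
`(π + ⟨v,w⟩)/p` as a `2 × 2` matrix tensor `1`. -/
theorem TENS.all [Finite F] (F₀ : Subfield F) (κ : Fin 3 → Fin m) (hκ : Function.Injective κ)
    (v w : Idx m → F) (hv : QfMinus m F a b v = 0) (hw : QfMinus m F a b w = 0)
    (hvw : B (QfMinus m F a b) v w = 0) (d : OG m F a b)
    (hd : d ∈ Dgrp F₀ κ (siegO (QfMinus m F a b) v w hv hvw)) :
    mt (QfMinus m F a b) d *ᵥ lin3 κ (xi3 κ v ⨯₃ xi3 κ w) = lin3 κ (xi3 κ v ⨯₃ xi3 κ w) ∧
      FixW κ v w d ∧ Tens κ v w (lin3 κ (xi3 κ v ⨯₃ xi3 κ w)) d := by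
  -- the subgroup of the elements with the three properties
  let N : Subgroup (OG m F a b) :=
    { carrier := {d | TENS.PP κ v w d}
      mul_mem' := fun h₁ h₂ => TENS.PP_mul κ v w h₁ h₂
      one_mem' := TENS.PP_one κ v w
      inv_mem' := fun h => TENS.PP_inv κ v w h }
  have hle : Dgrp F₀ κ (siegO (QfMinus m F a b) v w hv hvw) ≤ N := by
    unfold Dgrp
    apply sup_le
    · unfold Rgrp
      rw [Subgroup.closure_le]
      rintro g ⟨t, -, rfl⟩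
      exact TENS.PP_rho κ hκ v w t
    · rw [Subgroup.zpowers_le]
      exact TENS.PP_sieg κ v w hv hw hvw
  exact hle hd

end Cfsg.Agent.S5702P
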