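import Mathlib

set_option autoImplicit false

/-! Shared definitions for S2282, the coordinate model: on `K^(2k+5)` with the alternating
anti-diagonal Hermitian form `hJ x y = ∑ i, (-1)^i x_i σ(y_{rev i})` we define

* the truncated shift `SS` (`ε_j ↦ ε_{j-1}` for `2 ≤ j ≤ 2k+3`, 0-based),
* the Cayley transform `Up μ = (1 + μ S) (1 - σ μ S)⁻¹`, a regular unipotent isometry of the middle
  `2k+3` coordinates (when `μ + σ μ = 1`),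
* the root element `X1 a` (`ε_1 ↦ ε_1 + a ε_0`, `ε_L ↦ ε_L + σ a ε_B`) and `UU μ a = X1 a * Up μ`,
* the element `KkG s t` acting on the corner coordinates `0, 1, B = 2k+3, L = 2k+4`.

Only definitions and `rfl`-lemmas live here. -/

namespace Cfsg.Agent.Helper4.SUn

open Matrix

variable {K : Type*} [Field K]

/-- index `0` -/
def i0 (k : ℕ) : Fin (2 * k + 5) := ⟨0, by omega⟩
/-- index `1` -/
def i1 (k : ℕ) : Fin (2 * k + 5) := ⟨1, by omega⟩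
/-- the middle index `k + 2` -/
def iM (k : ℕ) : Fin (2 * k + 5) := ⟨k + 2, by omega⟩
/-- the index `k + 3` -/
def iM1 (k : ℕ) : Fin (2 * k + 5) := ⟨k + 3, by omega⟩
/-- the last but one index `2k + 3` -/
def iB (k : ℕ) : Fin (2 * k + 5) := ⟨2 * k + 3, by omega⟩
/-- the last index `2k + 4` -/
def iL (k : ℕ) : Fin (2 * k + 5) := ⟨2 * k + 4, by omega⟩

@[simp] theorem i0_val (k : ℕ) : ((i0 k : Fin (2 * k + 5)) : ℕ) = 0 := rfl
@[simp] theorem i1_val (k : ℕ) : ((i1 k : Fin (2 * k + 5)) : ℕ) = 1 := rfl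
@[simp] theorem iM_val (k : ℕ) : ((iM k : Fin (2 * k + 5)) : ℕ) = k + 2 := rfl
@[simp] theorem iM1_val (k : ℕ) : ((iM1 k : Fin (2 * k + 5)) : ℕ) = k + 3 := rfl
@[simp] theorem iB_val (k : ℕ) : ((iB k : Fin (2 * k + 5)) : ℕ) = 2 * k + 3 := rfl
@[simp] theorem iL_val (k : ℕ) : ((iL k : Fin (2 * k + 5)) : ℕ) = 2 * k + 4 := rfl

/-- the basis vector `ε_i` -/
def ε (k : ℕ) (i : Fin (2 * k + 5)) : Fin (2 * k + 5) → K := Pi.single i 1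

/-- the alternating anti-diagonal Hermitian form -/
def hJ (σ : K →+* K) (k : ℕ) (x y : Fin (2 * k + 5) → K) : K :=
  ∑ i : Fin (2 * k + 5), (-1 : K) ^ (i : ℕ) * x i * σ (y i.rev)

/-- the truncated shift: `ε_j ↦ ε_{j-1}` for `2 ≤ j ≤ 2k+3` -/
def SS (k : ℕ) : Matrix (Fin (2 * k + 5)) (Fin (2 * k + 5)) K :=
  Matrix.of fun i j => if (j : ℕ) = i + 1 ∧ 1 ≤ (i : ℕ) ∧ (j : ℕ) ≤ 2 * k + 3 then 1 else 0

/-- `1 - σ μ S` -/
def AA (σ : K →+* K) (k : ℕ) (μ : K) : Matrix (Fin (2 * k + 5)) (Fin (2 * k + 5)) K :=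
  1 - σ μ • SS k

/-- `1 + μ S` -/
def BB (k : ℕ) (μ : K) : Matrix (Fin (2 * k + 5)) (Fin (2 * k + 5)) K :=
  1 + μ • SS k

/-- the geometric sum `∑_t (ν S)^t = (1 - ν S)⁻¹` -/
def GS (k : ℕ) (ν : K) : Matrix (Fin (2 * k + 5)) (Fin (2 * k + 5)) K :=
  ∑ t ∈ Finset.range (2 * k + 5), ν ^ t • SS k ^ t

/-- the Cayley transform `(1 + μ S)(1 - σ μ S)⁻¹` -/
def Up (σ : K →+* K) (k : ℕ) (μ : K) : Matrix (Fin (2 * k + 5)) (Fin (2 * k + 5)) K :=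
  BB k μ * GS k (σ μ)

/-- its inverse `(1 - σ μ S)(1 + μ S)⁻¹` -/
def Upinv (σ : K →+* K) (k : ℕ) (μ : K) : Matrix (Fin (2 * k + 5)) (Fin (2 * k + 5)) K :=
  AA σ k μ * GS k (-μ)

/-- the root element `ε_1 ↦ ε_1 + a ε_0`, `ε_L ↦ ε_L + σ a ε_B` -/
def X1 (σ : K →+* K) (k : ℕ) (a : K) : Matrix (Fin (2 * k + 5)) (Fin (2 * k + 5)) K :=
  1 + Matrix.single (i0 k) (i1 k) a + Matrix.single (iB k) (iL k) (σ a)

/-- its inverse -/
def X1inv (σ : K →+* K) (k : ℕ) (a : K) : Matrix (Fin (2 * k + 5)) (Fin (2 * k + 5)) K :=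
  1 - Matrix.single (i0 k) (i1 k) a - Matrix.single (iB k) (iL k) (σ a)

/-- the regular unipotent element -/
def UU (σ : K →+* K) (k : ℕ) (μ a : K) : Matrix (Fin (2 * k + 5)) (Fin (2 * k + 5)) K :=
  X1 σ k a * Up σ k μ

/-- its inverse -/
def UUinv (σ : K →+* K) (k : ℕ) (μ a : K) : Matrix (Fin (2 * k + 5)) (Fin (2 * k + 5)) K :=
  Upinv σ k μ * X1inv σ k a

/-- the corner element: `ε_0 ↦ -ε_B - s ε_L`, `ε_1 ↦ ε_L`, `ε_B ↦ -ε_0 - t ε_1`, `ε_L ↦ ε_1`,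
all other basis vectors fixed -/
def KkG (k : ℕ) (s t : K) : Matrix (Fin (2 * k + 5)) (Fin (2 * k + 5)) K :=
  1 - Matrix.single (i0 k) (i0 k) 1 - Matrix.single (i1 k) (i1 k) 1 - Matrix.single (iB k) (iB k) 1
    - Matrix.single (iL k) (iL k) 1
    + Matrix.single (iB k) (i0 k) (-1) + Matrix.single (iL k) (i0 k) (-s)
    + Matrix.single (iL k) (i1 k) 1
    + Matrix.single (i0 k) (iB k) (-1) + Matrix.single (i1 k) (iB k) (-t)
    + Matrix.single (i1 k) (iL k) 1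

/-- the conjugating element `k`, with `s = a⁻¹`, `t = (σ a)⁻¹` -/
def Kk (σ : K →+* K) (k : ℕ) (a : K) : Matrix (Fin (2 * k + 5)) (Fin (2 * k + 5)) K :=
  KkG k a⁻¹ (σ a)⁻¹

/-- its inverse -/
def Kkinv (σ : K →+* K) (k : ℕ) (a : K) : Matrix (Fin (2 * k + 5)) (Fin (2 * k + 5)) K :=
  KkG k (σ a)⁻¹ a⁻¹

/-- `z⁻¹ = k u⁻¹ k⁻¹` -/
def Zinv (σ : K →+* K) (k : ℕ) (μ a : K) : Matrix (Fin (2 * k + 5)) (Fin (2 * k + 5)) K :=
  Kk σ k a * UUinv σ k μ a * Kkinv σ k a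

/-- `z = k u k⁻¹` -/
def ZZ (σ : K →+* K) (k : ℕ) (μ a : K) : Matrix (Fin (2 * k + 5)) (Fin (2 * k + 5)) K :=
  Kk σ k a * UU σ k μ a * Kkinv σ k a

/-- the vector `w_g = -β (ε_{k+3} - σ μ ε_{k+2})` of the seed `g = Sg e1 w_g c_g` -/
def wg (σ : K →+* K) (k : ℕ) (μ β : K) : Fin (2 * k + 5) → K :=
  -β • (ε k (iM1 k) - σ μ • ε k (iM k))

/-- preservation of `hJ` -/
def PresJ (σ : K →+* K) (k : ℕ) (M : Matrix (Fin (2 * k + 5)) (Fin (2 * k + 5)) K) : Prop :=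
  ∀ x y, hJ σ k (M *ᵥ x) (M *ᵥ y) = hJ σ k x y

end Cfsg.Agent.Helper4.SUn
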