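import Cfsg.Agent.Helper12.SzTDefs

/-! SZT piece COV: integration of a class function over the conjugates of `A \ 1`. -/

set_option autoImplicit false

namespace Cfsg.Agent.SZT

open Cfsg Cfsg.Agent.Helper11.SCTI
open scoped Classical ComplexConjugate

universe u

variable {G : Type u} [Group G] [Fintype G]

/-- the conjugators of `g` into `A` form a coset of the normaliser -/
theorem COV.card_conjugators {A : Subgroup G} (hA : SC A) (g : G) (hg1 : g ≠ 1) (h₀ : G)
    (hh₀ : h₀ * g * h₀⁻¹ ∈ A) :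
    Nat.card {h : G // h * g * h⁻¹ ∈ A} = Nat.card (Subgroup.normalizer (A : Set G)) := by
  have hne : h₀ * g * h₀⁻¹ ≠ 1 := by
    intro h1
    apply hg1
    have := congrArg (fun z => h₀⁻¹ * z * h₀) h1
    simpa [mul_assoc] using this
  refine Nat.card_congr
    { toFun := fun h => ⟨h.1 * h₀⁻¹, ?_⟩
      invFun := fun n => ⟨n.1 * h₀, ?_⟩
      left_inv := ?_
      right_inv := ?_ }
  · apply hA.mem_normalizer hh₀ hne
    have e : h.1 * h₀⁻¹ * (h₀ * g * h₀⁻¹) * (h.1 * h₀⁻¹)⁻¹ = h.1 * g * h.1⁻¹ := by group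
    rw [e]
    exact h.2
  · have e : n.1 * h₀ * g * (n.1 * h₀)⁻¹ = n.1 * (h₀ * g * h₀⁻¹) * n.1⁻¹ := by group
    rw [e]
    exact (Subgroup.mem_normalizer_iff.mp n.2 _).mp hh₀
  · intro h
    apply Subtype.ext
    show h.1 * h₀⁻¹ * h₀ = h.1
    group
  · intro n
    apply Subtype.ext
    show n.1 * h₀ * h₀⁻¹ = n.1
    group

theorem COV.cov_iff (A : Subgroup G) (g : G) :
    (∃ a ∈ A, a ≠ 1 ∧ IsConj a g) ↔ g ≠ 1 ∧ ∃ h : G, h * g * h⁻¹ ∈ A := by
  constructor
  · rintro ⟨a, ha, ha1, hc⟩
    obtain ⟨c, hc⟩ := isConj_iff.mp hc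
    refine ⟨?_, c⁻¹, ?_⟩
    · rintro rfl
      apply ha1
      have := congrArg (fun z => c⁻¹ * z * c) hc
      simpa [mul_assoc] using this
    · rw [← hc]
      have e : c⁻¹ * (c * a * c⁻¹) * c⁻¹⁻¹ = a := by group
      rw [e]
      exact ha
  · rintro ⟨hg1, h, hh⟩
    refine ⟨h * g * h⁻¹, hh, ?_, ?_⟩
    · intro h1
      apply hg1
      have := congrArg (fun z => h⁻¹ * z * h) h1
      simpa [mul_assoc] using this
    · rw [isConj_iff]
      refine ⟨h⁻¹, ?_⟩
      group

/-- A10 -/
theorem sum_cov {A : Subgroup G} (hA : SC A) (F : G → ℂ) (hF : IsClassFunction G F) :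
    ∑ g : G, (if ∃ a ∈ A, a ≠ 1 ∧ IsConj a g then F g else 0) =
      (Nat.card G : ℂ) / (Nat.card (Subgroup.normalizer (A : Set G)) : ℂ) *
        ∑ x : A, if x = 1 then 0 else F (x : G) := by
  have hN0 : (Nat.card (Subgroup.normalizer (A : Set G)) : ℂ) ≠ 0 := by
    exact_mod_cast Nat.card_pos.ne'
  -- the double sum
  have key : (Nat.card (Subgroup.normalizer (A : Set G)) : ℂ) *
      ∑ g : G, (if ∃ a ∈ A, a ≠ 1 ∧ IsConj a g then F g else 0) =
      (Nat.card G : ℂ) * ∑ x : A, if x = 1 then 0 else F (x : G) := by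
    have h1 : (Nat.card (Subgroup.normalizer (A : Set G)) : ℂ) *
        ∑ g : G, (if ∃ a ∈ A, a ≠ 1 ∧ IsConj a g then F g else 0) =
        ∑ g : G, ∑ h : G, (if g ≠ 1 ∧ h * g * h⁻¹ ∈ A then F g else 0) := by
      rw [Finset.mul_sum]
      refine Finset.sum_congr rfl (fun g _ => ?_)
      by_cases hg : ∃ a ∈ A, a ≠ 1 ∧ IsConj a g
      · rw [if_pos hg]
        obtain ⟨hg1, h₀, hh₀⟩ := (COV.cov_iff A g).mp hg
        have hc := COV.card_conjugators hA g hg1 h₀ hh₀
        rw [← hc, Nat.card_eq_fintype_card, Fintype.card_subtype]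
        rw [Finset.card_eq_sum_ones, Finset.sum_filter]
        push_cast
        rw [Finset.sum_mul]
        refine Finset.sum_congr rfl (fun h _ => ?_)
        by_cases hh : h * g * h⁻¹ ∈ A
        · rw [if_pos hh, if_pos ⟨hg1, hh⟩, one_mul]
        · rw [if_neg hh, if_neg (fun hx => hh hx.2), zero_mul]
      · rw [if_neg hg, mul_zero]
        symm
        refine Finset.sum_eq_zero (fun h _ => ?_)
        rw [if_neg]
        rintro ⟨hg1, hh⟩
        exact hg ((COV.cov_iff A g).mpr ⟨hg1, h, hh⟩)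
    rw [h1, Finset.sum_comm]
    have h2 : ∀ h : G, ∑ g : G, (if g ≠ 1 ∧ h * g * h⁻¹ ∈ A then F g else 0) =
        ∑ x : A, if x = 1 then 0 else F (x : G) := by
      intro h
      -- reindex g = h⁻¹ g' h
      have e1 : ∑ g : G, (if g ≠ 1 ∧ h * g * h⁻¹ ∈ A then F g else 0) =
          ∑ g' : G, (if g' ≠ 1 ∧ g' ∈ A then F g' else 0) := by
        refine Fintype.sum_equiv (MulAut.conj h).toEquiv _ _ (fun g => ?_)
        show _ = if h * g * h⁻¹ ≠ 1 ∧ h * g * h⁻¹ ∈ A then F (h * g * h⁻¹) else 0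
        have hiff : g ≠ 1 ↔ h * g * h⁻¹ ≠ 1 := by
          constructor
          · intro hg1 h1
            apply hg1
            have := congrArg (fun z => h⁻¹ * z * h) h1
            simpa [mul_assoc] using this
          · rintro hne rfl
            apply hne
            group
        rw [hF g h]
        by_cases hc : g ≠ 1 ∧ h * g * h⁻¹ ∈ A
        · rw [if_pos hc, if_pos ⟨hiff.mp hc.1, hc.2⟩]
        · rw [if_neg hc, if_neg (fun hx => hc ⟨hiff.mpr hx.1, hx.2⟩)]
      rw [e1]
      -- sum over G with membership = sum over the subtype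
      have e2 : ∑ g' : G, (if g' ≠ 1 ∧ g' ∈ A then F g' else 0) =
          ∑ g' : G, (if g' ∈ A then (if g' = 1 then 0 else F g') else 0) := by
        refine Finset.sum_congr rfl (fun g' _ => ?_)
        by_cases hm : g' ∈ A
        · by_cases h1 : g' = 1
          · rw [if_neg (fun hx => hx.1 h1), if_pos hm, if_pos h1]
          · rw [if_pos ⟨h1, hm⟩, if_pos hm, if_neg h1]
        · rw [if_neg (fun hx => hm hx.2), if_neg hm]
      rw [e2, ← Finset.sum_filter]
      have e3 : ∑ x : A, (if x = 1 then 0 else F (x : G)) =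
          ∑ x : A, (fun g' : G => if g' = 1 then 0 else F g') (x : G) := by
        refine Finset.sum_congr rfl (fun x _ => ?_)
        by_cases hx : x = 1
        · rw [if_pos hx]
          show _ = if (x : G) = 1 then 0 else F (x : G)
          rw [if_pos (by rw [hx]; rfl)]
        · rw [if_neg hx]
          show _ = if (x : G) = 1 then 0 else F (x : G)
          rw [if_neg (fun h1 : (x : G) = 1 => hx (Subtype.ext h1))]
      rw [e3]
      exact (Finset.sum_subtype (Finset.univ.filter (fun g' : G => g' ∈ A))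
        (by intro x; simp) (fun g' : G => if g' = 1 then 0 else F g'))
    rw [Finset.sum_congr rfl (fun h _ => h2 h), Finset.sum_const, Finset.card_univ,
      nsmul_eq_mul, Nat.card_eq_fintype_card]
  rw [div_mul_eq_mul_div, eq_div_iff hN0, mul_comm]
  exact key

end Cfsg.Agent.SZT
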