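import Cfsg.Agent.Helper12.SZTTYPES
import Cfsg.Agent.Helper4.SZTCOV

/-! SZT piece CLASSFUN: integration of a class function over the partition into types. -/

set_option autoImplicit false

namespace Cfsg.Agent.SZT

open Cfsg Cfsg.Agent.Helper11.SCTI Cfsg.Agent.Helper24
open scoped Classical ComplexConjugate

universe u

variable {G : Type u} [Group G] [Fintype G]

namespace Cfg

variable (C : Cfg G)

theorem CLASSFUN_pointwise (F : G → ℂ) (g : G) :
    F g = (if g = 1 then F g else 0) + (if orderOf g = 2 then F g else 0) +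
      (if orderOf g = 4 then F g else 0) +
      (if ∃ a ∈ C.A0, a ≠ 1 ∧ IsConj a g then F g else 0) +
      (if ∃ a ∈ C.A1, a ≠ 1 ∧ IsConj a g then F g else 0) +
      (if ∃ a ∈ C.A2, a ≠ 1 ∧ IsConj a g then F g else 0) := by
  have hT0 : (∃ a ∈ C.A0, a ≠ 1 ∧ IsConj a g) ↔ C.T0 g := Iff.rfl
  have hT1 : (∃ a ∈ C.A1, a ≠ 1 ∧ IsConj a g) ↔ C.T1 g := Iff.rfl
  have hT2 : (∃ a ∈ C.A2, a ≠ 1 ∧ IsConj a g) ↔ C.T2 g := Iff.rfl
  simp only [hT0, hT1, hT2]
  rcases C.cases g with h | h | h | h | h | h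
  · have o1 : orderOf g = 1 := by rw [h]; exact orderOf_one
    have n2 : orderOf g ≠ 2 := by rw [o1]; decide
    have n4 : orderOf g ≠ 4 := by rw [o1]; decide
    have n0 : ¬ C.T0 g := fun hx => (C.T0_odd hx).1 h
    have n1 : ¬ C.T1 g := fun hx => (C.T1_odd hx).1 h
    have n2' : ¬ C.T2 g := fun hx => (C.T2_odd hx).1 h
    rw [if_pos h, if_neg n2, if_neg n4, if_neg n0, if_neg n1, if_neg n2']
    ring
  · have n1 : g ≠ 1 := by
      rintro rfl
      rw [orderOf_one] at h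
      exact absurd h (by decide)
    have n4 : orderOf g ≠ 4 := by rw [h]; decide
    have n0 : ¬ C.T0 g := fun hx => (C.T0_odd hx).2.1 h
    have n1' : ¬ C.T1 g := fun hx => (C.T1_odd hx).2.1 h
    have n2' : ¬ C.T2 g := fun hx => (C.T2_odd hx).2.1 h
    rw [if_neg n1, if_pos h, if_neg n4, if_neg n0, if_neg n1', if_neg n2']
    ring
  · have n1 : g ≠ 1 := by
      rintro rfl
      rw [orderOf_one] at h
      exact absurd h (by decide)
    have n2 : orderOf g ≠ 2 := by rw [h]; decide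
    have n0 : ¬ C.T0 g := fun hx => (C.T0_odd hx).2.2 h
    have n1' : ¬ C.T1 g := fun hx => (C.T1_odd hx).2.2 h
    have n2' : ¬ C.T2 g := fun hx => (C.T2_odd hx).2.2 h
    rw [if_neg n1, if_neg n2, if_pos h, if_neg n0, if_neg n1', if_neg n2']
    ring
  · obtain ⟨a1, a2, a4⟩ := C.T0_odd h
    rw [if_neg a1, if_neg a2, if_neg a4, if_pos h, if_neg (C.not_T0_T1 h), if_neg (C.not_T0_T2 h)]
    ring
  · obtain ⟨a1, a2, a4⟩ := C.T1_odd h
    rw [if_neg a1, if_neg a2, if_neg a4, if_neg (fun hx => C.not_T0_T1 hx h), if_pos h,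
      if_neg (C.not_T1_T2 h)]
    ring
  · obtain ⟨a1, a2, a4⟩ := C.T2_odd h
    rw [if_neg a1, if_neg a2, if_neg a4, if_neg (fun hx => C.not_T0_T2 hx h),
      if_neg (fun hx => C.not_T1_T2 hx h), if_pos h]
    ring

theorem sum_classFun (F : G → ℂ) (hF : IsClassFunction G F) :
    ∑ g, F g = F 1 + ∑ g, (if orderOf g = 2 then F g else 0) +
      ∑ g, (if orderOf g = 4 then F g else 0) +
      (Nat.card G : ℂ) / (Nat.card (Subgroup.normalizer (C.A0 : Set G)) : ℂ) *
        ∑ x : C.A0, (if x = 1 then 0 else F (x : G)) +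
      (Nat.card G : ℂ) / (Nat.card (Subgroup.normalizer (C.A1 : Set G)) : ℂ) *
        ∑ x : C.A1, (if x = 1 then 0 else F (x : G)) +
      (Nat.card G : ℂ) / (Nat.card (Subgroup.normalizer (C.A2 : Set G)) : ℂ) *
        ∑ x : C.A2, (if x = 1 then 0 else F (x : G)) := by
  rw [← sum_cov C.sc_A0 F hF, ← sum_cov C.sc_A1 F hF, ← sum_cov C.sc_A2 F hF]
  have h1 : F 1 = ∑ g : G, (if g = 1 then F g else 0) := by
    rw [Finset.sum_ite_eq' Finset.univ (1 : G) F, if_pos (Finset.mem_univ _)]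
  rw [h1, ← Finset.sum_add_distrib, ← Finset.sum_add_distrib, ← Finset.sum_add_distrib,
    ← Finset.sum_add_distrib, ← Finset.sum_add_distrib]
  exact Finset.sum_congr rfl (fun g _ => C.CLASSFUN_pointwise F g)

end Cfg

end Cfsg.Agent.SZT
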