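import Cfsg.Agent.Helper12.SZTTYPES
import Cfsg.Agent.Helper18.SZTORB
import Cfsg.Agent.Helper24.SZTORBIND
import Cfsg.Agent.Helper4.SZTCOV

/-! SZT piece SUMPHI: generic integration of the class functions `phi`. -/

set_option autoImplicit false
set_option linter.unusedVariables false

namespace Cfsg.Agent.SZT

open Cfsg Cfsg.Agent.Helper11.SCTI Cfsg.Agent.Helper24
open scoped Classical ComplexConjugate

universe u

variable {G : Type u} [Group G] [Fintype G]

theorem SUMPHI.orb_zero (A : Subgroup G) (θ : A →* ℂˣ) (g : G)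
    (h : ¬ ∃ a ∈ A, a ≠ 1 ∧ IsConj a g) : orbSum A θ g = 0 :=
  orbSum_eq_zero A θ g (fun a ha ha1 hc => h ⟨a, ha, ha1, hc⟩)

theorem SUMPHI.base_zero {A : Subgroup G} (hodd : Odd (Nat.card A)) (d s t : ℂ) (g : G)
    (h : ∃ a ∈ A, a ≠ 1 ∧ IsConj a g) : base d s t g = 0 := by
  obtain ⟨h1, h2, h4⟩ := types_odd hodd h
  unfold base
  rw [if_neg h1, if_neg h2, if_neg h4]
  ring

theorem SUMPHI.sum_ite_const (p : G → Prop) [DecidablePred p] (c : ℂ) :
    ∑ g : G, (if p g then c else 0) = (Nat.card {g : G // p g} : ℂ) * c := by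
  rw [← Finset.sum_filter, Finset.sum_const, nsmul_eq_mul, Nat.card_eq_fintype_card,
    Fintype.card_subtype]

theorem SUMPHI.sum_ite_one (c : ℂ) : ∑ g : G, (if g = 1 then c else 0) = c := by
  rw [Finset.sum_ite_eq' Finset.univ (1 : G) (fun _ => c), if_pos (Finset.mem_univ _)]

theorem SUMPHI.base_mul (d s t d' s' t' : ℂ) (g : G) :
    base d s t g * conj (base d' s' t' g) =
      (if g = 1 then d * conj d' else 0) + (if orderOf g = 2 then s * conj s' else 0) +
        (if orderOf g = 4 then t * conj t' else 0) := by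
  unfold base
  by_cases h1 : g = 1
  · have o1 : orderOf g = 1 := by rw [h1]; exact orderOf_one
    have n2 : orderOf g ≠ 2 := by rw [o1]; decide
    have n4 : orderOf g ≠ 4 := by rw [o1]; decide
    simp only [if_pos h1, if_neg n2, if_neg n4, add_zero]
  · by_cases h2 : orderOf g = 2
    · have n4 : orderOf g ≠ 4 := by rw [h2]; decide
      simp only [if_neg h1, if_pos h2, if_neg n4, add_zero, zero_add]
    · by_cases h4 : orderOf g = 4
      · simp only [if_neg h1, if_neg h2, if_pos h4, zero_add]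
      · simp only [if_neg h1, if_neg h2, if_neg h4, add_zero, map_zero, mul_zero]

theorem SUMPHI.sum_base (d s t : ℂ) :
    ∑ g : G, base d s t g = d + (Nat.card {g : G // orderOf g = 2} : ℂ) * s +
        (Nat.card {g : G // orderOf g = 4} : ℂ) * t := by
  unfold base
  rw [Finset.sum_add_distrib, Finset.sum_add_distrib, SUMPHI.sum_ite_one,
    SUMPHI.sum_ite_const (fun g : G => orderOf g = 2) s,
    SUMPHI.sum_ite_const (fun g : G => orderOf g = 4) t]

theorem SUMPHI.isClassFunction_orbSum (A : Subgroup G) (θ : A →* ℂˣ) :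
    IsClassFunction G (orbSum A θ) := fun g h => orbSum_conj A θ g h

/-- D1 generic: sum of a `phi` over the group -/
theorem sum_phi {A : Subgroup G} (hA : SC A) (hodd : Odd (Nat.card A)) (d s t ε : ℂ)
    (θ : A →* ℂˣ) :
    ∑ g : G, phi d s t ε A θ g =
      d + (Nat.card {g : G // orderOf g = 2} : ℂ) * s +
        (Nat.card {g : G // orderOf g = 4} : ℂ) * t +
        ε * ((Nat.card G : ℂ) / (Nat.card (Subgroup.normalizer (A : Set G)) : ℂ)) *
          ∑ x : A, if x = 1 then 0 else indA A θ x := by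
  unfold phi
  rw [Finset.sum_add_distrib, SUMPHI.sum_base, ← Finset.mul_sum]
  have h1 : ∑ g : G, orbSum A θ g =
      ∑ g : G, (if ∃ a ∈ A, a ≠ 1 ∧ IsConj a g then orbSum A θ g else 0) := by
    refine Finset.sum_congr rfl (fun g _ => ?_)
    by_cases hc : ∃ a ∈ A, a ≠ 1 ∧ IsConj a g
    · rw [if_pos hc]
    · rw [if_neg hc, SUMPHI.orb_zero A θ g hc]
  rw [h1, sum_cov hA _ (SUMPHI.isClassFunction_orbSum A θ)]
  have h2 : ∑ x : A, (if x = 1 then 0 else orbSum A θ (x : G)) =
      ∑ x : A, if x = 1 then 0 else indA A θ x := by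
    refine Finset.sum_congr rfl (fun x _ => ?_)
    by_cases hx : x = 1
    · rw [if_pos hx, if_pos hx]
    · rw [if_neg hx, if_neg hx, orbSum_eq_indA hA θ x hx]
  rw [h2]
  ring

/-- D1 generic: inner product of two `phi`s for the same `A` -/
theorem classInner_phi {A : Subgroup G} (hA : SC A) (hodd : Odd (Nat.card A))
    (d s t ε d' s' t' ε' : ℂ) (θ θ' : A →* ℂˣ) :
    classInner (phi d s t ε A θ) (phi d' s' t' ε' A θ') =
      (Nat.card G : ℂ)⁻¹ * (d * conj d' +
        (Nat.card {g : G // orderOf g = 2} : ℂ) * (s * conj s') +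
        (Nat.card {g : G // orderOf g = 4} : ℂ) * (t * conj t')) +
      ε * conj ε' * (Nat.card (Subgroup.normalizer (A : Set G)) : ℂ)⁻¹ *
        ∑ x : A, if x = 1 then 0 else indA A θ x * conj (indA A θ' x) := by
  have hG0 : (Nat.card G : ℂ) ≠ 0 := by exact_mod_cast Nat.card_pos.ne'
  set F : G → ℂ := fun g => orbSum A θ g * conj (orbSum A θ' g) with hFdef
  have hF : IsClassFunction G F := by
    intro g h
    show orbSum A θ (h * g * h⁻¹) * conj (orbSum A θ' (h * g * h⁻¹)) = _
    rw [orbSum_conj, orbSum_conj]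
  have hpt : ∀ g : G, phi d s t ε A θ g * conj (phi d' s' t' ε' A θ' g) =
      base d s t g * conj (base d' s' t' g) +
        ε * conj ε' * (if ∃ a ∈ A, a ≠ 1 ∧ IsConj a g then F g else 0) := by
    intro g
    unfold phi
    by_cases hc : ∃ a ∈ A, a ≠ 1 ∧ IsConj a g
    · rw [if_pos hc, SUMPHI.base_zero hodd d s t g hc, SUMPHI.base_zero hodd d' s' t' g hc]
      simp only [zero_add, map_zero, map_mul, zero_mul, hFdef]
      ring
    · rw [if_neg hc, SUMPHI.orb_zero A θ g hc, SUMPHI.orb_zero A θ' g hc]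
      simp only [mul_zero, add_zero]
  unfold classInner
  rw [Finset.sum_congr rfl (fun g _ => hpt g), Finset.sum_add_distrib, ← Finset.mul_sum,
    sum_cov hA F hF]
  have h1 : ∑ g : G, base d s t g * conj (base d' s' t' g) =
      d * conj d' + (Nat.card {g : G // orderOf g = 2} : ℂ) * (s * conj s') +
        (Nat.card {g : G // orderOf g = 4} : ℂ) * (t * conj t') := by
    rw [Finset.sum_congr rfl (fun g _ => SUMPHI.base_mul d s t d' s' t' g),
      Finset.sum_add_distrib, Finset.sum_add_distrib, SUMPHI.sum_ite_one,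
      SUMPHI.sum_ite_const (fun g : G => orderOf g = 2) (s * conj s'),
      SUMPHI.sum_ite_const (fun g : G => orderOf g = 4) (t * conj t')]
  have h2 : ∑ x : A, (if x = 1 then 0 else F (x : G)) =
      ∑ x : A, if x = 1 then 0 else indA A θ x * conj (indA A θ' x) := by
    refine Finset.sum_congr rfl (fun x _ => ?_)
    by_cases hx : x = 1
    · rw [if_pos hx, if_pos hx]
    · rw [if_neg hx, if_neg hx]
      show orbSum A θ (x : G) * conj (orbSum A θ' (x : G)) = _
      rw [orbSum_eq_indA hA θ x hx, orbSum_eq_indA hA θ' x hx]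
  rw [h1, h2]
  field_simp

end Cfsg.Agent.SZT
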