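import Mathlib
import Cfsg.Agent.Helper7.K2M.Defs
import Cfsg.Agent.Helper13.K2MSPDefs
import Cfsg.Agent.Helper4.K2MQB
import Cfsg.Agent.Helper13.K2MSPSING
import Cfsg.Agent.Helper18.K2MSPCORE

set_option autoImplicit false
set_option linter.unusedSectionVars false
set_option linter.unusedVariables false

/-! # S5694, `k = 2` minus blocks, chapter SPREAD (driver helper13), piece SP-SWAP (helper4):
two-block singular vectors on free blocks of `z` are good. -/

namespace Cfsg.Agent.K2M

open Matrix Cfsg.Agent.OC2P Cfsg.Agent.Helper28.Sg Cfsg.Agent.Helper28.Spin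
  Cfsg.Agent.Helper12.OrthGen

variable {F : Type*} [Field F] [Fintype F] {t : ℕ} {Q : QuadraticForm F (Fin t × Fin 2 → F)}
  {q : QuadraticForm F (Fin 2 → F)}

/-- SPSWAP (M) -/
theorem SPSWAP (bm : BM Q q) (ht : 7 ≤ t) {H : Subgroup (OG Q)} (hH : HasMO H)
    {z : Fin t × Fin 2 → F} (hz : Q z = 0) (hz0 : z ≠ 0) (I : Finset (Fin t))
    (hzI : SuppIn I z) (hgood : SP.Good H I z) {l l' : Fin t} (hl : l ∉ I) (hl' : l' ∉ I)
    (hll' : l ≠ l') (y y' : Fin 2 → F) :
    SP.Good H ({l, l'} : Finset (Fin t)) (binj l y + binj l' y') := by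
  classical
  intro hu₁
  -- `u₁ ∈ Rad H z`, hence `z ∈ Rad H u₁`
  have h1 : binj l y + binj l' y' ∈ Rad H z hz :=
    (Rad H z hz).add_mem (hgood hz l hl y) (hgood hz l' hl' y')
  have h2 : z ∈ Rad H (binj l y + binj l' y') hu₁ := Rad_swap hu₁ h1
  -- a nonzero component of `z`
  have h3 : ∃ i, bproj i z ≠ 0 := by
    by_contra hcon
    push Not at hcon
    apply hz0
    apply QB.ext
    intro i
    rw [hcon i, QB.bproj_zero]
  obtain ⟨i, hi⟩ := h3
  have hiI : i ∈ I := by
    by_contra hni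
    exact hi (hzI i hni)
  have hi' : i ∉ ({l, l'} : Finset (Fin t)) := by
    simp only [Finset.mem_insert, Finset.mem_singleton, not_or]
    constructor
    · rintro rfl; exact hl hiI
    · rintro rfl; exact hl' hiI
  have hcard : ({l, l'} : Finset (Fin t)).card + 3 ≤ t := by
    have : ({l, l'} : Finset (Fin t)).card ≤ 2 := Finset.card_le_two
    omega
  exact SPCORE bm hH hu₁ ({l, l'} : Finset (Fin t)) hcard (SPSING.suppIn y y') hi' h2 hi hu₁

end Cfsg.Agent.K2M
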