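import Mathlib
import Cfsg.Agent.Helper13.S2276Defs

set_option autoImplicit false

/-! # S2276 piece SYMM (helper4): `Good` is symmetric. -/

namespace Cfsg.Agent.S2276P

open Equiv Equiv.Perm

/-- SYMM [S]: `y * x = x⁻¹ * (x * y) * x` has the same order; `{y, x} = {x, y}`. -/
theorem SYMM.main {α : Type*} {p : ℕ} {x y : Perm α} (h : Good p x y) : Good p y x := by
  obtain ⟨h1, h2⟩ := h
  refine ⟨?_, ?_⟩
  · have hsc : SemiconjBy y (x * y) (y * x) := by
      unfold SemiconjBy
      rw [mul_assoc]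
    rw [← SemiconjBy.orderOf_eq y hsc]; exact h1
  · rw [Set.pair_comm]; exact h2

end Cfsg.Agent.S2276P
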