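import Mathlib
import Cfsg.Prelude.Def_Classical
import Cfsg.Agent.Helper13.S2496Defs

/-! S2496 piece ISODIAG (driver helper13; helper4): a diagonal isometry of the model is a torus
element. -/

set_option autoImplicit false

namespace Cfsg.Agent.S2496P

variable {F K : Type*} [Field F] [Fintype F] [Field K] [Algebra F K] [Finite K] {p : ℕ}
  [Fact p.Prime] [CharP F p] [CharP K p] {f q : ℕ}

namespace ISODIAG

/-- the trace form of `K / F` is nondegenerate -/
theorem eq_zero_of_trace' (x : K) (h : ∀ y, Algebra.trace F K (x * y) = 0) : x = 0 := by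
  apply (traceForm_nondegenerate F K).1 x
  intro y
  rw [Algebra.traceForm_apply]
  exact h y

end ISODIAG

open ISODIAG

/-- ISODIAG: a diagonal isometry is a torus element -/
theorem isom_diag (a b : K) (X : K × K →ₗ[F] K × K) (hX : ∀ u, X u = (a * u.1, b * u.2))
    (hiso : ∀ u v, mform F K p f (X u) (X v) = mform F K p f u v) :
    b ≠ 0 ∧ X = tor F K p f b := by
  have key : a * frob K p f b - 1 = 0 := by
    apply eq_zero_of_trace' (F := F)
    intro x
    have h := hiso (x, 0) (0, 1)
    rw [hX, hX] at h
    unfold mform at h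
    simp only [mul_zero, map_zero, zero_mul, add_zero, mul_one, map_one] at h
    rw [sub_mul, one_mul, map_sub, sub_eq_zero, ← h]
    congr 1
    ring
  have hab : a * frob K p f b = 1 := sub_eq_zero.mp key
  have hb : b ≠ 0 := by
    rintro rfl
    rw [map_zero, mul_zero] at hab
    exact zero_ne_one hab
  refine ⟨hb, ?_⟩
  apply LinearMap.ext
  intro u
  rw [hX, tor_apply, eq_inv_of_mul_eq_one_left hab]

end Cfsg.Agent.S2496P
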