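import Mathlib
import Cfsg.Agent.S3276
import Cfsg.Agent.S0520
import Cfsg.Agent.Helper3.V4Count7
import Cfsg.Agent.Helper3.KleinFour
import Cfsg.Agent.Helper9.Burnside

set_option autoImplicit false
set_option linter.style.haveILetI false
set_option linter.unusedSectionVars false
set_option linter.unusedVariables false

/-!
# Groups with an involution whose centralizer is a four-group
-/

namespace Cfsg.Agent.Helper4.V4Cent

open Subgroup

variable {G : Type*} [Group G] [Finite G]

/-- hypotheses on the involution `x` -/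
structure Hx (x : G) : Prop where
  ord : orderOf x = 2
  card : Nat.card ↥(centralizer ({x} : Set G)) = 4
  exp : ∀ c ∈ centralizer ({x} : Set G), c ^ 2 = 1

variable {x : G}

theorem mem_V {c : G} : c ∈ centralizer ({x} : Set G) ↔ c * x = x * c := by
  rw [mem_centralizer_singleton_iff, eq_comm]

theorem Hx.sq (H : Hx x) : x * x = 1 := by
  rw [← pow_two, ← H.ord]; exact pow_orderOf_eq_one x

theorem Hx.ne_one (H : Hx x) : x ≠ 1 := by
  intro h
  have := H.ord
  rw [h, orderOf_one] at this
  norm_num at this

theorem Hx.self_mem (H : Hx x) : x ∈ centralizer ({x} : Set G) := mem_V.mpr rfl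

theorem Hx.sq_of_mem (H : Hx x) {c : G} (hc : c ∈ centralizer ({x} : Set G)) : c * c = 1 := by
  rw [← pow_two]; exact H.exp c hc

theorem Hx.inv_of_mem (H : Hx x) {c : G} (hc : c ∈ centralizer ({x} : Set G)) : c⁻¹ = c :=
  inv_eq_of_mul_eq_one_left (H.sq_of_mem hc)

theorem Hx.comm (H : Hx x) {a b : G} (ha : a ∈ centralizer ({x} : Set G))
    (hb : b ∈ centralizer ({x} : Set G)) : a * b = b * a := by
  have h1 := H.sq_of_mem (mul_mem ha hb)
  have h2 : a * b = (a * b)⁻¹ := (H.inv_of_mem (mul_mem ha hb)).symm
  rw [h2, mul_inv_rev, H.inv_of_mem ha, H.inv_of_mem hb]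

/-- the elements of the centralizer -/
theorem Hx.elements (H : Hx x) {w : G} (hw : w ∈ centralizer ({x} : Set G)) (hw1 : w ≠ 1)
    (hwx : w ≠ x) : ∀ v ∈ centralizer ({x} : Set G), v = 1 ∨ v = x ∨ v = w ∨ v = x * w := by
  have hxw : x * w = w * x := (mem_V.mp hw).symm
  let Kl := Cfsg.Agent.Helper3.kleinOf x w H.sq (H.sq_of_mem hw) hxw
  have hle : Kl ≤ centralizer ({x} : Set G) :=
    Cfsg.Agent.Helper3.kleinOf_le H.self_mem hw
  have hcard : Nat.card Kl = 4 :=
    Cfsg.Agent.Helper3.card_kleinOf H.ne_one hw1 (Ne.symm hwx)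
  have heq : Kl = centralizer ({x} : Set G) :=
    Subgroup.eq_of_le_of_card_ge hle (by rw [hcard, H.card])
  intro v hv
  rw [← heq] at hv
  exact Cfsg.Agent.Helper3.mem_kleinOf.mp hv

theorem Hx.orderOf_of_mem (H : Hx x) {w : G} (hw : w ∈ centralizer ({x} : Set G)) (hw1 : w ≠ 1) :
    orderOf w = 2 :=
  orderOf_eq_prime (by rw [pow_two]; exact H.sq_of_mem hw) hw1

theorem conj_mem_of_mem_normalizer {g : G} (hg : g ∈ normalizer ((centralizer ({x} : Set G)) : Set G))
    {v : G} (hv : v ∈ centralizer ({x} : Set G)) : g * v * g⁻¹ ∈ centralizer ({x} : Set G) :=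
  (mem_normalizer_iff.mp hg v).mp hv

theorem mem_of_conj_mem_normalizer {g : G}
    (hg : g ∈ normalizer ((centralizer ({x} : Set G)) : Set G))
    {v : G} (hv : g * v * g⁻¹ ∈ centralizer ({x} : Set G)) : v ∈ centralizer ({x} : Set G) :=
  (mem_normalizer_iff.mp hg v).mpr hv

/-- an element normalizing `V` and fixing `x` lies in `V` -/
theorem conj_x_ne (H : Hx x) {g : G} (hgV : g ∉ centralizer ({x} : Set G)) : g * x * g⁻¹ ≠ x := by
  intro h
  apply hgV
  rw [mem_V]
  calc g * x = g * x * g⁻¹ * g := by rw [inv_mul_cancel_right]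
    _ = x * g := by rw [h]

/-- Case I: an element of `N(V) \ V` fixing an involution of `V` -/
theorem caseI (H : Hx x)
    (hne : ∀ E : Subgroup G, E.Normal → Cfsg.IsElementaryAbelian 2 E →
      Nat.card ↥E ≠ 2 ∧ Nat.card ↥E ≠ 4)
    {g : G} (hgN : g ∈ normalizer ((centralizer ({x} : Set G)) : Set G))
    (hgV : g ∉ centralizer ({x} : Set G)) {w : G} (hw : w ∈ centralizer ({x} : Set G))
    (hw1 : w ≠ 1) (hgw : g * w * g⁻¹ = w) : False := by
  have hwx : w ≠ x := by
    rintro rfl
    exact conj_x_ne H hgV hgw
  have hel := H.elements hw hw1 hwx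
  have hxw : x * w = w * x := (mem_V.mp hw).symm
  -- g x g⁻¹ = x w
  have hgx : g * x * g⁻¹ = x * w := by
    rcases hel _ (conj_mem_of_mem_normalizer hgN H.self_mem) with h | h | h | h
    · exfalso
      have : x = 1 := by
        have := congrArg (fun t => g⁻¹ * t * g) h
        simpa [mul_assoc] using this
      exact H.ne_one this
    · exact absurd h (conj_x_ne H hgV)
    · exfalso
      rw [← hgw] at h
      have : x = w := by
        have := congrArg (fun t => g⁻¹ * t * g) h
        simpa [mul_assoc] using this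
      exact hwx this.symm
    · exact h
  have how : orderOf w = 2 := H.orderOf_of_mem hw hw1
  -- x and w are not conjugate
  have hnc : ¬ IsConj x w := by
    intro hc
    obtain ⟨c, hc⟩ := isConj_iff.mp hc
    have hle : centralizer ({x} : Set G) ≤ centralizer ({w} : Set G) := by
      intro v hv
      rw [mem_centralizer_singleton_iff]
      exact H.comm hv hw
    have hcard : Nat.card ↥(centralizer ({w} : Set G)) ≤ 4 := by
      rw [← H.card]
      refine Nat.card_le_card_of_injective
        (fun a : centralizer ({w} : Set G) => (⟨c⁻¹ * a.1 * c, ?_⟩ : centralizer ({x} : Set G))) ?_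
      · have ha : a.1 * w = w * a.1 := mem_centralizer_singleton_iff.mp a.2
        rw [mem_V]
        calc c⁻¹ * a.1 * c * x = c⁻¹ * (a.1 * (c * x * c⁻¹)) * c := by group
          _ = c⁻¹ * ((c * x * c⁻¹) * a.1) * c := by rw [hc, ha]
          _ = x * (c⁻¹ * a.1 * c) := by group
      · intro a b hab
        have := congrArg Subtype.val hab
        simp only at this
        apply Subtype.ext
        have h2 := congrArg (fun t => c * t * c⁻¹) this
        simpa [mul_assoc] using h2
    have heq := Subgroup.eq_of_le_of_card_ge hle (by rw [H.card]; exact hcard)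
    apply hgV
    rw [heq, mem_centralizer_singleton_iff]
    calc g * w = g * w * g⁻¹ * g := by rw [inv_mul_cancel_right]
      _ = w * g := by rw [hgw]
  -- the centralizer of x w
  have hCxw : ∀ a : G, Commute a (x * w) → a ∈ centralizer ({x} : Set G) := by
    intro a ha
    have h1 : g⁻¹ * a * g ∈ centralizer ({x} : Set G) := by
      rw [mem_V]
      have ha' : a * (g * x * g⁻¹) = (g * x * g⁻¹) * a := by rw [hgx]; exact ha
      calc g⁻¹ * a * g * x = g⁻¹ * (a * (g * x * g⁻¹)) * g := by group
        _ = g⁻¹ * ((g * x * g⁻¹) * a) * g := by rw [ha']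
        _ = x * (g⁻¹ * a * g) := by group
    have h2 := conj_mem_of_mem_normalizer hgN h1
    have h3 : g * (g⁻¹ * a * g) * g⁻¹ = a := by group
    rwa [h3] at h2
  have hstar : ∀ u : G, orderOf u = 2 → Commute u x → ∀ k : G,
      Commute (k * w * k⁻¹) u → Commute (k * w * k⁻¹) w := by
    intro u hu hux k hk
    have huV : u ∈ centralizer ({x} : Set G) := mem_V.mpr hux
    have hu1 : u ≠ 1 := by
      rintro rfl
      rw [orderOf_one] at hu
      norm_num at hu
    rcases hel u huV with h | h | h | h
    · exact absurd h hu1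
    · subst h
      exact H.comm (mem_V.mpr hk) hw
    · subst h
      exact hk
    · subst h
      exact H.comm (hCxw _ hk) hw
  obtain ⟨hY1, hY2, hY3⟩ := Cfsg.Agent.S3276.result x w H.ord how hxw hnc hstar
  have hYn : (normalClosure ({w} : Set G)).Normal := normalClosure_normal
  have hwY : w ∈ normalClosure ({w} : Set G) := subset_normalClosure rfl
  have hcases := hne _ hYn hY2
  by_cases hxY : x ∈ normalClosure ({w} : Set G)
  · -- Y = V
    have hYV : normalClosure ({w} : Set G) ≤ centralizer ({x} : Set G) := by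
      intro a ha
      rw [mem_V]
      have := hY2.1.is_comm.comm (⟨a, ha⟩ : normalClosure ({w} : Set G)) ⟨x, hxY⟩
      exact congrArg Subtype.val this
    have hVY : centralizer ({x} : Set G) ≤ normalClosure ({w} : Set G) := by
      intro v hv
      rcases hel v hv with h | h | h | h
      · rw [h]; exact one_mem _
      · rw [h]; exact hxY
      · rw [h]; exact hwY
      · rw [h]; exact mul_mem hxY hwY
    have : normalClosure ({w} : Set G) = centralizer ({x} : Set G) := le_antisymm hYV hVY
    apply hcases.2
    rw [this, H.card]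
  · have hxwY : x * w ∉ normalClosure ({w} : Set G) := by
      intro h
      apply hxY
      have := mul_mem h hwY
      rwa [mul_assoc, H.sq_of_mem hw, mul_one] at this
    have hle4 : Nat.card ↥(normalClosure ({w} : Set G)) ≤ 4 := by
      apply hY3
      intro u huY hu hux
      have huV : u ∈ centralizer ({x} : Set G) := mem_V.mpr hux
      have hu1 : u ≠ 1 := by
        rintro rfl
        rw [orderOf_one] at hu
        norm_num at hu
      rcases hel u huV with h | h | h | h
      · exact absurd h hu1
      · rw [h] at huY; exact absurd huY hxY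
      · exact h
      · rw [h] at huY; exact absurd huY hxwY
    haveI : Fact (Nat.Prime 2) := ⟨Nat.prime_two⟩
    have hp : IsPGroup 2 ↥(normalClosure ({w} : Set G)) := by
      intro a
      refine ⟨1, ?_⟩
      rw [pow_one]
      apply Subtype.ext
      exact hY2.2 a.1 a.2
    obtain ⟨n, hn⟩ := IsPGroup.iff_card.mp hp
    have hgt : 1 < Nat.card ↥(normalClosure ({w} : Set G)) := by
      rw [Finite.one_lt_card_iff_nontrivial]
      exact ⟨⟨⟨w, hwY⟩, 1, fun h => hw1 (congrArg Subtype.val h)⟩⟩
    rw [hn] at hle4 hgt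
    have hn12 : n = 1 ∨ n = 2 := by
      have h3 : n < 3 := by
        by_contra h3
        have : 2 ^ 3 ≤ 2 ^ n := Nat.pow_le_pow_right (by norm_num) (by omega)
        omega
      have h0 : n ≠ 0 := by
        rintro rfl
        norm_num at hgt
      omega
    rcases hn12 with rfl | rfl
    · exact hcases.1 (by rw [hn]; norm_num)
    · exact hcases.2 (by rw [hn]; norm_num)

end Cfsg.Agent.Helper4.V4Cent
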