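import Mathlib
import Cfsg.Agent.Helper4.V4CentA

set_option autoImplicit false
set_option linter.style.haveILetI false
set_option linter.unusedSectionVars false
set_option linter.unusedVariables false

/-!
# Groups with an involution whose centralizer is a four-group, II
-/

namespace Cfsg.Agent.Helper4.V4Cent

open Subgroup

variable {G : Type*} [Group G] [Finite G] {x : G}

/-- the fixed-point-free hypothesis of Case II -/
def Fpf (x : G) : Prop :=
  ∀ g : G, g ∈ normalizer ((centralizer ({x} : Set G)) : Set G) → g ∉ centralizer ({x} : Set G) →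
    ∀ w ∈ centralizer ({x} : Set G), w ≠ 1 → g * w * g⁻¹ ≠ w

/-- in Case II an element of `N(V) \ V` acts as a 3-cycle -/
theorem three_cycle (H : Hx x) (hF : Fpf x) {g : G}
    (hgN : g ∈ normalizer ((centralizer ({x} : Set G)) : Set G))
    (hgV : g ∉ centralizer ({x} : Set G)) :
    g * x * g⁻¹ ∈ centralizer ({x} : Set G) ∧ g * x * g⁻¹ ≠ 1 ∧ g * x * g⁻¹ ≠ x ∧
      g * (g * x * g⁻¹) * g⁻¹ = x * (g * x * g⁻¹) ∧ g ^ 3 ∈ centralizer ({x} : Set G) := by
  set a := g * x * g⁻¹ with ha
  have haV : a ∈ centralizer ({x} : Set G) := conj_mem_of_mem_normalizer hgN H.self_mem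
  have ha1 : a ≠ 1 := by
    intro h
    have : x = 1 := by
      have := congrArg (fun t => g⁻¹ * t * g) h
      simpa [ha, mul_assoc] using this
    exact H.ne_one this
  have hax : a ≠ x := hF g hgN hgV x H.self_mem H.ne_one
  have hel := H.elements haV ha1 hax
  set b := g * a * g⁻¹ with hb
  have hbV : b ∈ centralizer ({x} : Set G) := conj_mem_of_mem_normalizer hgN haV
  have hba : b ≠ a := hF g hgN hgV a haV ha1
  have hb1 : b ≠ 1 := by
    intro h
    have : a = 1 := by
      have := congrArg (fun t => g⁻¹ * t * g) h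
      simpa [hb, mul_assoc] using this
    exact ha1 this
  have hxa : x * a = a * x := (mem_V.mp haV).symm
  have hbx : b ≠ x := by
    intro h
    have hxaV : x * a ∈ centralizer ({x} : Set G) := mul_mem H.self_mem haV
    have hxa1 : x * a ≠ 1 := by
      intro h1
      apply hax
      have : a = x⁻¹ := (eq_inv_of_mul_eq_one_right h1)
      rw [this, H.inv_of_mem H.self_mem]
    apply hF g hgN hgV (x * a) hxaV hxa1
    calc g * (x * a) * g⁻¹ = a * b := by rw [hb, ha]; group
      _ = a * x := by rw [h]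
      _ = x * a := hxa.symm
  have hbxa : b = x * a := by
    rcases hel b hbV with h | h | h | h
    · exact absurd h hb1
    · exact absurd h hbx
    · exact absurd h hba
    · exact h
  refine ⟨haV, ha1, hax, hbxa, ?_⟩
  rw [mem_V]
  have h3 : g ^ 3 * x * (g ^ 3)⁻¹ = x := by
    calc g ^ 3 * x * (g ^ 3)⁻¹ = g * b * g⁻¹ := by
          rw [hb, ha]
          simp only [pow_succ, pow_zero, one_mul, mul_inv_rev, mul_assoc]
      _ = g * (x * a) * g⁻¹ := by rw [hbxa]
      _ = a * b := by rw [hb, ha]; group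
      _ = a * (x * a) := by rw [hbxa]
      _ = x * (a * a) := by rw [← mul_assoc, ← hxa, mul_assoc]
      _ = x := by rw [H.sq_of_mem haV, mul_one]
  calc g ^ 3 * x = g ^ 3 * x * (g ^ 3)⁻¹ * g ^ 3 := by rw [inv_mul_cancel_right]
    _ = x * g ^ 3 := by rw [h3]

/-- in Case II the four-group is a Sylow 2-subgroup -/
theorem sylow_eq (H : Hx x) (hF : Fpf x) (P : Sylow 2 G)
    (hVP : centralizer ({x} : Set G) ≤ (P : Subgroup G)) :
    (P : Subgroup G) = centralizer ({x} : Set G) := by
  by_contra hne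
  obtain ⟨t, htP, htV, htN⟩ := Cfsg.Agent.S0520.exists_normalizer_mem P.2 hVP (Ne.symm hne)
  have h3 := (three_cycle H hF htN htV).2.2.2.2
  obtain ⟨k, hk⟩ := (P.2 ⟨t, htP⟩)
  have hk' : t ^ (2 ^ k) = 1 := by
    have := congrArg Subtype.val hk
    simpa using this
  have hcop : Nat.Coprime 3 (orderOf t) := by
    have hdvd : orderOf t ∣ 2 ^ k := orderOf_dvd_of_pow_eq_one hk'
    have : Nat.Coprime 3 (2 ^ k) := Nat.Coprime.pow_right k (by norm_num)
    exact Nat.Coprime.coprime_dvd_right hdvd this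
  obtain ⟨m, hm⟩ := exists_pow_eq_self_of_coprime hcop
  apply htV
  rw [← hm]
  exact pow_mem h3 m

/-- every element of order two is conjugate into a given Sylow 2-subgroup -/
theorem exists_conj_mem_sylow (P : Sylow 2 G) {t : G} (ht : orderOf t = 2) :
    ∃ k : G, k * t * k⁻¹ ∈ (P : Subgroup G) := by
  haveI : Fact (Nat.Prime 2) := ⟨Nat.prime_two⟩
  have hp : IsPGroup 2 (zpowers t) := by
    apply IsPGroup.of_card (n := 1)
    rw [Nat.card_zpowers, ht, pow_one]
  obtain ⟨Q, hQ⟩ := hp.exists_le_sylow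
  obtain ⟨k, hk⟩ := MulAction.exists_smul_eq G Q P
  refine ⟨k, ?_⟩
  have htQ : t ∈ (Q : Subgroup G) := hQ (mem_zpowers t)
  rw [← hk, Sylow.coe_subgroup_smul]
  exact ⟨t, htQ, by simp [MulAut.smul_def]⟩

end Cfsg.Agent.Helper4.V4Cent
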