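import Mathlib

/-!
# The number of ring automorphisms of a finite field
-/

set_option autoImplicit false
set_option linter.style.haveILetI false

namespace Cfsg.Agent.Helper4.P1Gal

open Equiv

variable {K : Type*} [Field K] [Fintype K]

/-- A finite field with `r ^ n` elements has exactly `n` ring automorphisms. -/
theorem card_ringEquiv (r n : ℕ) [hr : Fact r.Prime] [CharP K r] (hK : Fintype.card K = r ^ n) :
    Nat.card (K ≃+* K) = n := by
  letI : Algebra (ZMod r) K := ZMod.algebra K r
  have hcomm : ∀ (f : K ≃+* K) (x : ZMod r), f (algebraMap (ZMod r) K x) = algebraMap (ZMod r) K x := by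
    intro f x
    have := Subsingleton.elim ((f : K →+* K).comp (algebraMap (ZMod r) K)) (algebraMap (ZMod r) K)
    exact RingHom.congr_fun this x
  let e : (K ≃+* K) ≃ (K ≃ₐ[ZMod r] K) :=
    { toFun := fun f => AlgEquiv.ofRingEquiv (f := f) (hcomm f)
      invFun := fun g => g.toRingEquiv
      left_inv := fun f => by ext x; rfl
      right_inv := fun g => by ext x; rfl }
  rw [Nat.card_congr e, IsGalois.card_aut_eq_finrank]
  have h1 : r ^ Module.finrank (ZMod r) K = Nat.card K :=
    FiniteField.pow_finrank_eq_natCard r K
  rw [Nat.card_eq_fintype_card, hK] at h1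
  exact Nat.pow_right_injective hr.out.two_le h1

/-- A group of permutations of a finite field consisting of ring automorphisms has order
dividing the number of ring automorphisms. -/
theorem card_dvd_of_ringAut (H : Subgroup (Perm K))
    (hH : ∀ h ∈ H, (∀ y c : K, h (y + c) = h y + h c) ∧ ∀ y c : K, h (y * c) = h y * h c) :
    Nat.card H ∣ Nat.card (K ≃+* K) := by
  let ψ : H →* RingAut K :=
    { toFun := fun h => { (h : Perm K) with map_mul' := (hH h h.2).2, map_add' := (hH h h.2).1 }
      map_one' := by ext x; rfl
      map_mul' := fun a b => by ext x; rfl }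
  have hinj : Function.Injective ψ := by
    intro a b hab
    apply Subtype.ext
    ext x
    have := congrArg (fun f : RingAut K => f x) hab
    exact this
  exact Subgroup.card_dvd_of_injective ψ hinj

end Cfsg.Agent.Helper4.P1Gal
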