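import Mathlib

/-!
# Transport of `PGL₂` and `PSL₂` along ring isomorphisms
-/

set_option autoImplicit false

namespace Cfsg.Agent.Helper4.P1Congr

/-- `PGL_n` of isomorphic rings. -/
noncomputable def pglCongr {n : Type*} [Fintype n] [DecidableEq n] {R S : Type*} [CommRing R]
    [CommRing S] (e : R ≃+* S) :
    Matrix.ProjGenLinGroup n R ≃* Matrix.ProjGenLinGroup n S where
  toFun := Matrix.ProjGenLinGroup.map e.toRingHom
  invFun := Matrix.ProjGenLinGroup.map e.symm.toRingHom
  left_inv x := by
    rw [← MonoidHom.comp_apply, ← Matrix.ProjGenLinGroup.map_comp]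
    have : e.symm.toRingHom.comp e.toRingHom = RingHom.id R := by
      ext r; simp
    rw [this, Matrix.ProjGenLinGroup.map_id]; rfl
  right_inv x := by
    rw [← MonoidHom.comp_apply, ← Matrix.ProjGenLinGroup.map_comp]
    have : e.toRingHom.comp e.symm.toRingHom = RingHom.id S := by
      ext r; simp
    rw [this, Matrix.ProjGenLinGroup.map_id]; rfl
  map_mul' := map_mul _

/-- `SL_n` of isomorphic rings. -/
noncomputable def slCongr {n : Type*} [Fintype n] [DecidableEq n] {R S : Type*} [CommRing R]
    [CommRing S] (e : R ≃+* S) :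
    Matrix.SpecialLinearGroup n R ≃* Matrix.SpecialLinearGroup n S where
  toFun := Matrix.SpecialLinearGroup.map e.toRingHom
  invFun := Matrix.SpecialLinearGroup.map e.symm.toRingHom
  left_inv x := by
    apply Subtype.ext
    ext i j
    show e.symm (e ((x : Matrix n n R) i j)) = _
    simp
  right_inv x := by
    apply Subtype.ext
    ext i j
    show e (e.symm ((x : Matrix n n S) i j)) = _
    simp
  map_mul' := map_mul _

theorem map_center_of_mulEquiv {G H : Type*} [Group G] [Group H] (E : G ≃* H) :
    (Subgroup.center G).map E.toMonoidHom = Subgroup.center H := by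
  ext y
  constructor
  · rintro ⟨x, hx, rfl⟩
    have hx : x ∈ Subgroup.center G := hx
    rw [Subgroup.mem_center_iff] at hx ⊢
    intro h
    obtain ⟨g, rfl⟩ := E.surjective h
    change E g * E x = E x * E g
    rw [← map_mul, ← map_mul, hx g]
  · intro hy
    refine ⟨E.symm y, ?_, by simp⟩
    rw [Subgroup.mem_center_iff] at hy
    change E.symm y ∈ Subgroup.center G
    rw [Subgroup.mem_center_iff]
    intro g
    apply E.injective
    rw [map_mul, map_mul, E.apply_symm_apply]
    exact hy (E g)

/-- `PSL_n` of isomorphic rings. -/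
noncomputable def pslCongr {n : Type*} [Fintype n] [DecidableEq n] {R S : Type*} [CommRing R]
    [CommRing S] (e : R ≃+* S) :
    Matrix.ProjectiveSpecialLinearGroup n R ≃* Matrix.ProjectiveSpecialLinearGroup n S :=
  QuotientGroup.congr _ _ (slCongr e) (map_center_of_mulEquiv (slCongr e))

end Cfsg.Agent.Helper4.P1Congr
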