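import Mathlib

/-!
# Coordinates for a permutation of prime order `p` on `p + 1` points
-/

set_option autoImplicit false

namespace Cfsg.Agent.Helper4.P1Coord

open Equiv

variable {α : Type*} [Fintype α] [DecidableEq α]

/-- A permutation of prime order `p` on `p + 1` points is a `p`-cycle with exactly one fixed
point `a`, and the remaining points can be labelled by `ZMod p` so that the permutation acts as
`i ↦ i + 1`. -/
theorem exists_coords {p : ℕ} [hp : Fact p.Prime] (hα : Fintype.card α = p + 1) (x : Perm α)
    (hx : orderOf x = p) :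
    ∃ (a : α) (j : ZMod p → α), x a = a ∧ Function.Injective j ∧ (∀ i, j i ≠ a) ∧
      (∀ y, y ≠ a → ∃ i, j i = y) ∧ ∀ i, x (j i) = j (i + 1) := by
  classical
  have hp2 := hp.out.two_le
  have hxprime : (orderOf x).Prime := by rw [hx]; exact hp.out
  obtain ⟨n, hn⟩ := Perm.cycleType_prime_order hxprime
  rw [hx] at hn
  have hsum : x.support.card = (n + 1) * p := by
    rw [← Perm.sum_cycleType, hn, Multiset.sum_replicate, smul_eq_mul]
  have hle : x.support.card ≤ p + 1 := by
    rw [← hα]; exact Finset.card_le_univ _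
  have hn0 : n = 0 := by
    by_contra h
    have : 2 * p ≤ (n + 1) * p := Nat.mul_le_mul_right p (by omega)
    omega
  subst hn0
  have hsupp : x.support.card = p := by rw [hsum]; ring
  have hcyc : x.IsCycle := by
    rw [← Perm.card_cycleType_eq_one, hn]; simp
  have hcompl : (x.support)ᶜ.card = 1 := by
    rw [Finset.card_compl, hα, hsupp]; omega
  obtain ⟨a, ha⟩ := Finset.card_eq_one.mp hcompl
  have haS : a ∉ x.support := by
    have : a ∈ (x.support)ᶜ := by rw [ha]; exact Finset.mem_singleton_self a
    exact Finset.mem_compl.mp this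
  have hxa : x a = a := by
    rwa [Perm.mem_support, not_not] at haS
  have hmemS : ∀ y, y ≠ a → y ∈ x.support := by
    intro y hy
    by_contra h
    have : y ∈ (x.support)ᶜ := Finset.mem_compl.mpr h
    rw [ha, Finset.mem_singleton] at this
    exact hy this
  obtain ⟨b₀, hb₀⟩ : ∃ b₀, b₀ ∈ x.support := by
    apply Finset.card_pos.mp
    rw [hsupp]; omega
  have hb₀' : x b₀ ≠ b₀ := Perm.mem_support.mp hb₀
  have hxp : x ^ p = 1 := by rw [← hx]; exact pow_orderOf_eq_one x
  refine ⟨a, fun i => (x ^ i.val) b₀, hxa, ?_, ?_, ?_, ?_⟩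
  · intro i i' h
    simp only at h
    have hi' : i'.val < p := ZMod.val_lt i'
    have hi : i.val < p := ZMod.val_lt i
    have h2 : (x ^ (i.val + (p - i'.val))) b₀ = b₀ := by
      rw [add_comm, pow_add, Perm.mul_apply, h, ← Perm.mul_apply, ← pow_add,
        Nat.sub_add_cancel hi'.le, hxp, Perm.one_apply]
    have h3 : x ^ (i.val + (p - i'.val)) = 1 := (hcyc.pow_eq_one_iff' hb₀').mpr h2
    have h4 : p ∣ i.val + (p - i'.val) := by
      have := orderOf_dvd_of_pow_eq_one h3
      rwa [hx] at this
    apply ZMod.val_injective p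
    obtain ⟨c, hc⟩ := h4
    have hc1 : c = 1 := by
      have h5 : p * c < p * 2 := by
        rw [← hc]; omega
      have h6 : c < 2 := Nat.lt_of_mul_lt_mul_left h5
      have h7 : 0 < p * c := by rw [← hc]; omega
      have h8 : 0 < c := Nat.pos_of_mul_pos_left h7 |> fun _ => by
        rcases Nat.eq_zero_or_pos c with h0 | h0
        · rw [h0, mul_zero] at h7; omega
        · exact h0
      omega
    rw [hc1, mul_one] at hc
    omega
  · intro i h
    simp only at h
    apply haS
    rw [← h]
    exact Perm.pow_apply_mem_support.mpr hb₀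
  · intro y hy
    have hyS := hmemS y hy
    obtain ⟨k, hk⟩ := hcyc.exists_pow_eq hb₀' (Perm.mem_support.mp hyS)
    refine ⟨(k : ZMod p), ?_⟩
    simp only
    have hmod := pow_mod_orderOf x k
    rw [hx] at hmod
    rw [ZMod.val_natCast, hmod]
    exact hk
  · intro i
    simp only
    rw [← Perm.mul_apply, ← pow_succ']
    congr 1
    have : (i + 1).val = (i.val + 1) % p := by
      rw [ZMod.val_add]
      congr 2
      haveI : Fact (1 < p) := ⟨hp.out.one_lt⟩
      exact ZMod.val_one p
    have hmod := pow_mod_orderOf x (i.val + 1)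
    rw [hx] at hmod
    rw [this, hmod]

end Cfsg.Agent.Helper4.P1Coord
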