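import Mathlib
import Cfsg.Agent.Helper4.P1Coord
import Cfsg.Agent.Helper4.ConstStab

/-!
# Transitive groups of degree `p + 1` and order `(p + 1) p d`, `d < p`: local structure
-/

set_option autoImplicit false
set_option linter.unusedSectionVars false
set_option linter.style.haveILetI false

namespace Cfsg.Agent.Helper4.P1Perm

open Equiv MulAction

section Coord

variable {α : Type*} [Fintype α] [DecidableEq α] {p : ℕ} [hp : Fact p.Prime]
  (x : Perm α) (a : α) (j : ZMod p → α)

theorem pow_apply_j (hxj : ∀ i, x (j i) = j (i + 1)) (n : ℕ) (i : ZMod p) :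
    (x ^ n) (j i) = j (i + n) := by
  induction n generalizing i with
  | zero => simp
  | succ n ih =>
    rw [pow_succ, Perm.mul_apply, hxj, ih]
    congr 1
    push_cast
    ring

theorem pow_apply_a (hxa : x a = a) (n : ℕ) : (x ^ n) a = a := by
  induction n with
  | zero => simp
  | succ n ih => rw [pow_succ, Perm.mul_apply, hxa, ih]

theorem pow_eq_one_iff (hx : orderOf x = p) (n : ℕ) : x ^ n = 1 ↔ (n : ZMod p) = 0 := by
  rw [ZMod.natCast_eq_zero_iff, ← hx, orderOf_dvd_iff_pow_eq_one]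

theorem eq_pow_of_translate (hxa : x a = a) (hcov : ∀ y, y ≠ a → ∃ i, j i = y)
    (hxj : ∀ i, x (j i) = j (i + 1)) (g : Perm α) (hga : g a = a) (c : ZMod p)
    (hg : ∀ i, g (j i) = j (i + c)) : g = x ^ c.val := by
  ext y
  by_cases hy : y = a
  · rw [hy, hga, pow_apply_a x a hxa]
  · obtain ⟨i, rfl⟩ := hcov y hy
    rw [hg, pow_apply_j x j hxj, ZMod.natCast_zmod_val]

/-- An element conjugating `x` to a power of `x` acts affinely. -/
theorem affine_of_conj (hx : orderOf x = p) (hxa : x a = a) (hj : Function.Injective j)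
    (hja : ∀ i, j i ≠ a) (hcov : ∀ y, y ≠ a → ∃ i, j i = y)
    (hxj : ∀ i, x (j i) = j (i + 1)) (g : Perm α) (k : ℕ) (hg : g * x * g⁻¹ = x ^ k) :
    g a = a ∧ (k : ZMod p) ≠ 0 ∧ ∃ c, ∀ i, g (j i) = j ((k : ZMod p) * i + c) := by
  have hp1 := hp.out.one_lt
  have hx1 : x ≠ 1 := by
    intro h
    rw [h, orderOf_one] at hx
    omega
  have hk0 : (k : ZMod p) ≠ 0 := by
    intro h
    rw [← pow_eq_one_iff x hx] at h
    rw [h] at hg
    apply hx1
    have : x = g⁻¹ * 1 * g := by rw [← hg]; group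
    rw [this]; group
  have hgx : ∀ y, g (x y) = (x ^ k) (g y) := by
    intro y
    rw [← hg]
    simp
  have hga : g a = a := by
    by_contra hne
    obtain ⟨i₀, hi₀⟩ := hcov (g a) hne
    have h1 := hgx a
    rw [hxa, ← hi₀, pow_apply_j x j hxj] at h1
    have := hj h1
    apply hk0
    have h2 : i₀ + (k : ZMod p) = i₀ + 0 := by rw [add_zero]; exact this.symm
    exact add_left_cancel h2
  refine ⟨hga, hk0, ?_⟩
  have hg0 : g (j 0) ≠ a := by
    intro h
    rw [← hga] at h
    exact hja 0 (g.injective h)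
  obtain ⟨c, hc⟩ := hcov _ hg0
  refine ⟨c, ?_⟩
  have hgpow : ∀ (n : ℕ) y, g ((x ^ n) y) = ((x ^ k) ^ n) (g y) := by
    intro n
    induction n with
    | zero => intro y; simp
    | succ n ih =>
      intro y
      rw [pow_succ, Perm.mul_apply, ih, hgx, pow_succ, Perm.mul_apply]
  intro i
  have hi : j i = (x ^ i.val) (j 0) := by
    rw [pow_apply_j x j hxj, zero_add, ZMod.natCast_zmod_val]
  rw [hi, hgpow, ← hc, ← pow_mul, pow_apply_j x j hxj]
  congr 1
  push_cast
  rw [ZMod.natCast_zmod_val]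
  ring

end Coord


section Abstract

/-- In a group of order `p * d` with `d < p` every subgroup of order `p` is normal. -/
theorem normal_of_card_prime_mul {K : Type*} [Group K] [Finite K] {p d : ℕ} [hp : Fact p.Prime]
    (hK : Nat.card K = p * d) (hd0 : 0 < d) (hdp : d < p) (Q : Subgroup K)
    (hQ : Nat.card Q = p) : Q.Normal := by
  classical
  have hpd : ¬ p ∣ d := fun h => by
    have := Nat.le_of_dvd hd0 h
    omega
  have hQp : IsPGroup p Q := IsPGroup.of_card (n := 1) (by rw [hQ, pow_one])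
  obtain ⟨S, hQS⟩ := hQp.exists_le_sylow
  have hScard : Nat.card S = p := by
    rw [Sylow.card_eq_multiplicity, hK, Nat.factorization_mul hp.out.ne_zero hd0.ne']
    simp [hp.out.factorization_self, Nat.factorization_eq_zero_of_not_dvd hpd]
  have hQS' : Q = (S : Subgroup K) :=
    Subgroup.eq_of_le_of_card_ge hQS (by rw [hScard, hQ])
  have hidx : (S : Subgroup K).index = d := by
    have := (S : Subgroup K).card_mul_index
    rw [hScard, hK] at this
    exact Nat.eq_of_mul_eq_mul_left hp.out.pos this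
  have h1 : Nat.card (Sylow p K) ≡ 1 [MOD p] := card_sylow_modEq_one p K
  have h2 : Nat.card (Sylow p K) ∣ d := by
    rw [← hidx]; exact S.card_dvd_index
  have h3 : Nat.card (Sylow p K) ≤ d := Nat.le_of_dvd hd0 h2
  have h4 : Nat.card (Sylow p K) = 1 := by
    have h5 : Nat.card (Sylow p K) % p = 1 % p := h1
    rw [Nat.mod_eq_of_lt (by omega), Nat.mod_eq_of_lt hp.out.one_lt] at h5
    exact h5
  have : Subsingleton (Sylow p K) := (Nat.card_eq_one_iff_unique.mp h4).1
  rw [hQS']
  exact S.normal_of_subsingleton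

end Abstract

section Group

variable {α : Type*} [Fintype α] [DecidableEq α]

/-- The standing data. -/
structure Data (G : Subgroup (Perm α)) (p d : ℕ) where
  x : Perm α
  a : α
  j : ZMod p → α
  hxG : x ∈ G
  hx : orderOf x = p
  hxa : x a = a
  hj : Function.Injective j
  hja : ∀ i, j i ≠ a
  hcov : ∀ y, y ≠ a → ∃ i, j i = y
  hxj : ∀ i, x (j i) = j (i + 1)
  hcard : Nat.card G = (p + 1) * p * d
  hd0 : 0 < d
  hdp : d < p
  htrans : IsPretransitive G α
  hα : Fintype.card α = p + 1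

variable {G : Subgroup (Perm α)} {p d : ℕ} [hp : Fact p.Prime]

theorem exists_data (hα : Fintype.card α = p + 1) [ht : IsPretransitive G α]
    (hG : Nat.card G = (p + 1) * p * d) (hd : d < p) : Nonempty (Data G p d) := by
  classical
  have hd0 : 0 < d := by
    rcases Nat.eq_zero_or_pos d with h | h
    · rw [h, mul_zero] at hG
      have := Nat.card_pos (α := G)
      omega
    · exact h
  have hdvd : p ∣ Nat.card G := by
    rw [hG]; exact Dvd.dvd.mul_right (Dvd.intro_left _ rfl) d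
  obtain ⟨x, hx⟩ := exists_prime_orderOf_dvd_card' p hdvd
  have hx' : orderOf (x : Perm α) = p := by rw [Subgroup.orderOf_coe]; exact hx
  obtain ⟨a, j, hxa, hj, hja, hcov, hxj⟩ := P1Coord.exists_coords hα (x : Perm α) hx'
  exact ⟨⟨x, a, j, x.2, hx', hxa, hj, hja, hcov, hxj, hG, hd0, hd, ht, hα⟩⟩

namespace Data

theorem pts (D : Data G p d) (y : α) : y = D.a ∨ ∃ i, y = D.j i := by
  by_cases h : y = D.a
  · exact Or.inl h
  · obtain ⟨i, hi⟩ := D.hcov y h
    exact Or.inr ⟨i, hi.symm⟩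

theorem pow_mem (D : Data G p d) (n : ℕ) : D.x ^ n ∈ G := G.pow_mem D.hxG n

theorem stab_card (D : Data G p d) : Nat.card (stabilizer G D.a) = p * d := by
  haveI := D.htrans
  have h1 : (stabilizer G D.a).index = p + 1 := by
    rw [MulAction.index_stabilizer_of_transitive, Nat.card_eq_fintype_card, D.hα]
  have h2 := (stabilizer G D.a).card_mul_index
  rw [h1, D.hcard] at h2
  have : Nat.card (stabilizer G D.a) * (p + 1) = (p * d) * (p + 1) := by rw [h2]; ring
  exact Nat.eq_of_mul_eq_mul_right (by omega) this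

/-- Elements of the point stabiliser normalise `⟨x⟩`. -/
theorem stab_normalizes (D : Data G p d) (g : Perm α) (hg : g ∈ G) (hga : g D.a = D.a) :
    ∃ k : ℕ, g * D.x * g⁻¹ = D.x ^ k := by
  classical
  let K := stabilizer G D.a
  have hxK : (⟨D.x, D.hxG⟩ : G) ∈ K := by
    rw [mem_stabilizer_iff]; exact D.hxa
  have hgK : (⟨g, hg⟩ : G) ∈ K := by
    rw [mem_stabilizer_iff]; exact hga
  let x' : K := ⟨⟨D.x, D.hxG⟩, hxK⟩
  let g' : K := ⟨⟨g, hg⟩, hgK⟩
  have hx'ord : orderOf x' = p := by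
    have h1 : orderOf ((x' : G) : Perm α) = p := D.hx
    rw [Subgroup.orderOf_coe, Subgroup.orderOf_coe] at h1
    exact h1
  have hQcard : Nat.card (Subgroup.zpowers x') = p := by
    rw [Nat.card_zpowers, hx'ord]
  have hnorm : (Subgroup.zpowers x').Normal :=
    normal_of_card_prime_mul D.stab_card D.hd0 D.hdp _ hQcard
  have hmem : g' * x' * g'⁻¹ ∈ Subgroup.zpowers x' :=
    hnorm.conj_mem x' (Subgroup.mem_zpowers x') g'
  have hfin : IsOfFinOrder x' := isOfFinOrder_of_finite x'
  rw [← mem_powers_iff_mem_zpowers] at hmem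
  obtain ⟨k, hk⟩ := hmem
  refine ⟨k, ?_⟩
  have := congrArg (fun z : K => ((z : G) : Perm α)) hk
  simp only at this
  rw [eq_comm]
  simpa using this

/-- Elements of the point stabiliser act affinely. -/
theorem stab_affine (D : Data G p d) (g : Perm α) (hg : g ∈ G) (hga : g D.a = D.a) :
    ∃ κ c : ZMod p, κ ≠ 0 ∧ ∀ i, g (D.j i) = D.j (κ * i + c) := by
  obtain ⟨k, hk⟩ := D.stab_normalizes g hg hga
  obtain ⟨-, hk0, c, hc⟩ := affine_of_conj D.x D.a D.j D.hx D.hxa D.hj D.hja D.hcov D.hxj g k hk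
  exact ⟨k, c, hk0, hc⟩

/-- An element of the point stabiliser fixing two further points is trivial. -/
theorem eq_one_of_fix (D : Data G p d) (g : Perm α) (hg : g ∈ G) (hga : g D.a = D.a) (i i' : ZMod p) (hii' : i ≠ i')
    (hi : g (D.j i) = D.j i) (hi' : g (D.j i') = D.j i') : g = 1 := by
  obtain ⟨κ, c, hκ, hgc⟩ := D.stab_affine g hg hga
  have h1 := D.hj ((hgc i).symm.trans hi)
  have h2 := D.hj ((hgc i').symm.trans hi')
  have h3 : (κ - 1) * (i - i') = 0 := by linear_combination h1 - h2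
  have h4 : κ = 1 := by
    rcases mul_eq_zero.mp h3 with h | h
    · exact sub_eq_zero.mp h
    · exact absurd (sub_eq_zero.mp h) hii'
  have h5 : c = 0 := by
    rw [h4] at h1
    linear_combination h1
  ext y
  rcases D.pts y with rfl | ⟨i, rfl⟩
  · rw [hga]; rfl
  · rw [hgc, h4, h5]; simp

theorem two_trans (D : Data G p d) : IsMultiplyPretransitive G α 2 := by
  haveI := D.htrans
  rw [is_two_pretransitive_iff]
  intro u v u' v' huv huv'
  obtain ⟨g₁, hg₁⟩ := exists_smul_eq G u D.a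
  obtain ⟨g₂, hg₂⟩ := exists_smul_eq G u' D.a
  have h1 : g₁ • v ≠ D.a := by
    rw [← hg₁]; intro h; exact huv (smul_left_cancel g₁ h).symm
  have h2 : g₂ • v' ≠ D.a := by
    rw [← hg₂]; intro h; exact huv' (smul_left_cancel g₂ h).symm
  obtain ⟨i, hi⟩ := D.hcov _ h1
  obtain ⟨i', hi'⟩ := D.hcov _ h2
  let n : ℕ := (i' - i).val
  have hn : (D.x ^ n) (D.j i) = D.j i' := by
    rw [pow_apply_j D.x D.j D.hxj, ZMod.natCast_zmod_val]; congr 1; ring
  refine ⟨g₂⁻¹ * ⟨D.x ^ n, D.pow_mem n⟩ * g₁, ?_, ?_⟩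
  · rw [mul_smul, mul_smul, hg₁]
    have : (⟨D.x ^ n, D.pow_mem n⟩ : G) • D.a = D.a := pow_apply_a D.x D.a D.hxa n
    rw [this, ← hg₂, inv_smul_smul]
  · rw [mul_smul, mul_smul, ← hi]
    have : (⟨D.x ^ n, D.pow_mem n⟩ : G) • D.j i = D.j i' := hn
    rw [this, hi', inv_smul_smul]

/-- No non-identity element fixes three points. -/
theorem eq_one_of_fix_three (D : Data G p d) (g : Perm α) (hg : g ∈ G) (u v w : α) (huv : u ≠ v) (huw : u ≠ w)
    (hvw : v ≠ w) (hu : g u = u) (hv : g v = v) (hw : g w = w) : g = 1 := by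
  have h2 := D.two_trans
  rw [is_two_pretransitive_iff] at h2
  have ha0 : D.a ≠ D.j 0 := (D.hja 0).symm
  obtain ⟨t, htu, htv⟩ := h2 huv ha0
  -- conjugate
  have htw : t • w ≠ D.a := by
    rw [← htu]; intro h; exact huw (smul_left_cancel t h).symm
  obtain ⟨i, hi⟩ := D.hcov _ htw
  have hi0 : i ≠ 0 := by
    intro h
    rw [h, ← htv] at hi
    exact hvw (smul_left_cancel t hi)
  have hconj : (t : Perm α) * g * (t : Perm α)⁻¹ = 1 := by
    refine D.eq_one_of_fix _ (G.mul_mem (G.mul_mem t.2 hg) (G.inv_mem t.2)) ?_ 0 i hi0.symm ?_ ?_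
    · rw [Perm.mul_apply, Perm.mul_apply, ← htu]
      show (t : Perm α) (g ((t : Perm α)⁻¹ ((t : Perm α) u))) = (t : Perm α) u
      rw [Perm.inv_def, Equiv.symm_apply_apply, hu]
    · rw [Perm.mul_apply, Perm.mul_apply, ← htv]
      show (t : Perm α) (g ((t : Perm α)⁻¹ ((t : Perm α) v))) = (t : Perm α) v
      rw [Perm.inv_def, Equiv.symm_apply_apply, hv]
    · rw [Perm.mul_apply, Perm.mul_apply, hi]
      show (t : Perm α) (g ((t : Perm α)⁻¹ ((t : Perm α) w))) = (t : Perm α) w
      rw [Perm.inv_def, Equiv.symm_apply_apply, hw]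
  have : g = (t : Perm α)⁻¹ * 1 * (t : Perm α) := by rw [← hconj]; group
  rw [this]; group

end Data

end Group

end Cfsg.Agent.Helper4.P1Perm
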