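import Mathlib
import Cfsg.Agent.Helper4.P1Perm
import Cfsg.Agent.Helper4.P1Congr
import Cfsg.Agent.S0730
import Cfsg.Agent.S0727

/-!
# Transitive groups of degree `p + 1` and order `(p + 1) p (p - 1)`
-/

set_option autoImplicit false
set_option linter.unusedSectionVars false
set_option linter.style.haveILetI false

namespace Cfsg.Agent.Helper4.P1Perm

open Equiv MulAction

variable {α : Type*} [Fintype α] [DecidableEq α] {G : Subgroup (Perm α)} {p d : ℕ}
  [hp : Fact p.Prime]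

namespace Data

theorem sharp3 (D : Data G p d) (e : Fin 3 ↪ α) : stabilizer G e = ⊥ := by
  rw [eq_bot_iff]
  intro g hg
  rw [mem_stabilizer_iff] at hg
  rw [Subgroup.mem_bot]
  have hfix : ∀ i, (g : Perm α) (e i) = e i := by
    intro i
    have := congrArg (fun f : Fin 3 ↪ α => f i) hg
    exact this
  apply Subtype.ext
  refine D.eq_one_of_fix_three g g.2 (e 0) (e 1) (e 2) ?_ ?_ ?_ (hfix 0) (hfix 1) (hfix 2)
  · intro h; exact absurd (e.injective h) (by decide)
  · intro h; exact absurd (e.injective h) (by decide)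
  · intro h; exact absurd (e.injective h) (by decide)

theorem three_trans (D : Data G p d) (hd : d = p - 1) : IsMultiplyPretransitive G α 3 := by
  have hp2 := hp.out.two_le
  have hcardE : Nat.card (Fin 3 ↪ α) = (p + 1) * p * (p - 1) := by
    rw [Nat.card_eq_fintype_card, Fintype.card_embedding_eq, Fintype.card_fin, D.hα]
    simp [Nat.descFactorial]
    ring
  have hne : Nonempty (Fin 3 ↪ α) := by
    rw [← Fintype.card_pos_iff, ← Nat.card_eq_fintype_card, hcardE]
    have : 0 < p - 1 := by omega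
    positivity
  obtain ⟨e₀⟩ := hne
  have h1 := MulAction.index_stabilizer G e₀
  rw [D.sharp3 e₀, Subgroup.index_bot, D.hcard, hd, ← hcardE] at h1
  have h2 : orbit G e₀ = Set.univ := (Set.eq_univ_iff_ncard _).mpr h1.symm
  rw [isMultiplyPretransitive_iff]
  intro x y
  have hx : x ∈ orbit G e₀ := by rw [h2]; trivial
  have hy : y ∈ orbit G e₀ := by rw [h2]; trivial
  obtain ⟨g₁, rfl⟩ := hx
  obtain ⟨g₂, rfl⟩ := hy
  refine ⟨g₂ * g₁⁻¹, ?_⟩
  show (g₂ * g₁⁻¹) • (g₁ • e₀) = g₂ • e₀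
  ext i
  simp only [Function.Embedding.smul_apply]
  rw [mul_smul, inv_smul_smul]

/-- The case `d = p - 1`: the group is `PGL(2, p)`. -/
theorem pgl_of_d (D : Data G p d) (hodd : p ≠ 2) (hd : d = p - 1) :
    Nonempty (G ≃* Matrix.ProjGenLinGroup (Fin 2) (ZMod p)) := by
  have hα : Fintype.card α = p ^ 1 + 1 := by rw [pow_one, D.hα]
  obtain ⟨F, hF, hFt, hFc, ⟨e⟩⟩ :=
    Cfsg.Agent.S0730.result hp.out hodd odd_one hα G (D.three_trans hd) D.sharp3
  rw [pow_one] at hFc
  let ρ : ZMod p ≃+* F := ZMod.ringEquivOfPrime F hp.out hFc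
  exact ⟨e.trans (P1Congr.pglCongr ρ.symm)⟩

/-- The case `p = 2`. -/
theorem pgl_of_two (D : Data G p d) (hp2 : p = 2) (hd : d = p - 1) :
    Nonempty (G ≃* Matrix.ProjGenLinGroup (Fin 2) (ZMod p)) := by
  subst hp2
  have hα : Fintype.card α = 2 ^ 1 + 1 := by rw [pow_one, D.hα]
  obtain ⟨F, hF, hFt, hFc, ⟨e⟩⟩ :=
    Cfsg.Agent.S0727.result le_rfl hα G (D.three_trans hd) D.sharp3
  rw [pow_one] at hFc
  let ρ : ZMod 2 ≃+* F := ZMod.ringEquivOfPrime F Nat.prime_two hFc
  exact ⟨e.trans (P1Congr.pglCongr ρ.symm)⟩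

end Data

end Cfsg.Agent.Helper4.P1Perm
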