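import Mathlib
import Cfsg.Prelude.Def_Perm
import Cfsg.Agent.Helper4.NearField

/-!
# A finite near-field with commutative multiplication is a field
-/

set_option autoImplicit false
set_option linter.unusedSectionVars false
set_option linter.style.haveILetI false

namespace Cfsg.Agent.Helper4.P1Field

open Cfsg Cfsg.Agent.Helper4

variable {F : Type*} [inst : NearField F]

theorem nf_add_comm' [Finite F] (x y : F) : x + y = y + x := by
  obtain ⟨p, j, -, -, -, h, -⟩ := nf_finite_structure (F := F)
  exact h x y

/-- A finite near-field with commutative multiplication is a field (same operations). -/
@[reducible] noncomputable def fieldOfComm [Finite F] (hcomm : ∀ a b : F, a * b = b * a) :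
    Field F :=
  { inst.toAddGroup, inst.toMonoid with
    add_comm := nf_add_comm'
    left_distrib := fun a b c => by
      rw [hcomm a (b + c), NearField.right_distrib, hcomm b a, hcomm c a]
    right_distrib := NearField.right_distrib
    zero_mul := nf_zero_mul
    mul_zero := NearField.mul_zero
    mul_comm := hcomm
    inv := fun a => by
      classical
      exact if h : a = 0 then 0 else Classical.choose (NearField.exists_inv a h)
    exists_pair_ne := ⟨0, 1, NearField.zero_ne_one⟩
    mul_inv_cancel := fun a ha => by
      simp only [dif_neg ha]
      exact (Classical.choose_spec (NearField.exists_inv a ha)).1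
    inv_zero := by simp
    nnqsmul := _
    qsmul := _ }

end Cfsg.Agent.Helper4.P1Field
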