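import Mathlib
import Cfsg.Prelude.Def_Perm
import Cfsg.Agent.Helper4.Sharp2NF
import Cfsg.Agent.Helper4.NearField
import Cfsg.Agent.Helper4.P1Field

/-!
# A group with a normal sharply doubly transitive subgroup of degree `p + 1` is semi-affine
-/

set_option autoImplicit false
set_option linter.unusedSectionVars false
set_option linter.style.haveILetI false

namespace Cfsg.Agent.Helper4.P1Affine

open Equiv MulAction Cfsg Cfsg.Agent.Helper4 Cfsg.Agent.Helper4.P1Field

section NF

variable {α : Type*} [Fintype α] [DecidableEq α] [inst : NearField α]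

/-- If the affine group of a near-field has a point stabiliser of prime order, multiplication
is commutative. -/
theorem nf_comm_of_prime {p : ℕ} (hp : p.Prime) (D : Subgroup (Perm α))
    (hmem : ∀ σ : Perm α, σ ∈ D ↔ ∃ a b : α, a ≠ 0 ∧ ∀ x : α, σ x = x * a + b)
    (hD0 : Nat.card (stabilizer D (0 : α)) = p) (a b : α) : a * b = b * a := by
  classical
  by_cases ha : a = 0
  · rw [ha, nf_zero_mul, NearField.mul_zero]
  by_cases hb : b = 0
  · rw [hb, nf_zero_mul, NearField.mul_zero]
  haveI : Fact p.Prime := ⟨hp⟩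
  have hcyc : IsCyclic (stabilizer D (0 : α)) := isCyclic_of_prime_card hD0
  obtain ⟨g, hg⟩ := hcyc.exists_generator
  have hmemD : ∀ m : α, ∀ hm : m ≠ 0, nfAffineMap m 0 hm ∈ D := fun m hm =>
    (hmem _).mpr ⟨m, 0, hm, fun _ => rfl⟩
  have hstab : ∀ m : α, ∀ hm : m ≠ 0,
      (⟨nfAffineMap m 0 hm, hmemD m hm⟩ : D) ∈ stabilizer D (0 : α) := by
    intro m hm
    rw [mem_stabilizer_iff]
    show nfAffineMap m 0 hm 0 = 0
    show (0 : α) * m + 0 = 0
    rw [nf_zero_mul, add_zero]
  let A : stabilizer D (0 : α) := ⟨_, hstab a ha⟩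
  let B : stabilizer D (0 : α) := ⟨_, hstab b hb⟩
  have hAB : A * B = B * A := by
    obtain ⟨i, hi⟩ := Subgroup.mem_zpowers_iff.mp (hg A)
    obtain ⟨k, hk⟩ := Subgroup.mem_zpowers_iff.mp (hg B)
    rw [← hi, ← hk, ← zpow_add, ← zpow_add, add_comm]
  have h1 := congrArg (fun z : stabilizer D (0 : α) => ((z : D) : Perm α) 1) hAB
  simp only [A, B, Subgroup.coe_mul, Perm.mul_apply] at h1
  have e1 : ∀ (m : α) (hm : m ≠ 0) (y : α), nfAffineMap m 0 hm y = y * m := by
    intro m hm y
    show y * m + 0 = y * m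
    rw [add_zero]
  rw [e1, e1, e1, e1, one_mul, one_mul] at h1
  exact h1.symm

end NF


section FieldAff

variable {K : Type*} [Field K]

/-- The affine group `x ↦ x * a + b` of a field. -/
def affSub (K : Type*) [Field K] : Subgroup (Perm K) where
  carrier := {σ | ∃ a b : K, a ≠ 0 ∧ ∀ x : K, σ x = x * a + b}
  one_mem' := ⟨1, 0, one_ne_zero, fun x => by simp⟩
  mul_mem' := by
    rintro σ τ ⟨a, b, ha, hσ⟩ ⟨c, d, hc, hτ⟩
    refine ⟨c * a, d * a + b, mul_ne_zero hc ha, fun x => ?_⟩
    rw [Perm.mul_apply, hτ, hσ]; ring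
  inv_mem' := by
    rintro σ ⟨a, b, ha, hσ⟩
    refine ⟨a⁻¹, -b * a⁻¹, inv_ne_zero ha, fun x => ?_⟩
    apply σ.injective
    rw [Perm.inv_def, Equiv.apply_symm_apply, hσ]
    field_simp
    ring

theorem mem_affSub (σ : Perm K) :
    σ ∈ affSub K ↔ ∃ a b : K, a ≠ 0 ∧ ∀ x : K, σ x = x * a + b := Iff.rfl

/-- The map `x ↦ x * a + b`. -/
def affMap (a b : K) (ha : a ≠ 0) : Perm K where
  toFun x := x * a + b
  invFun y := (y - b) * a⁻¹
  left_inv x := by
    show (x * a + b - b) * a⁻¹ = x
    rw [add_sub_cancel_right, mul_assoc, mul_inv_cancel₀ ha, mul_one]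
  right_inv y := by
    show (y - b) * a⁻¹ * a + b = y
    rw [mul_assoc, inv_mul_cancel₀ ha, mul_one, sub_add_cancel]

@[simp] theorem affMap_apply (a b : K) (ha : a ≠ 0) (x : K) : affMap a b ha x = x * a + b := rfl

theorem affMap_mem (a b : K) (ha : a ≠ 0) : affMap a b ha ∈ affSub K :=
  ⟨a, b, ha, fun _ => rfl⟩

/-- A permutation normalising the affine group and fixing `0` and `1` is a ring automorphism. -/
theorem ringAut_of_normalizes (g : Perm K) (hg : ∀ h ∈ affSub K, g * h * g⁻¹ ∈ affSub K)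
    (h0 : g 0 = 0) (h1 : g 1 = 1) :
    (∀ y c : K, g (y + c) = g y + g c) ∧ ∀ y c : K, g (y * c) = g y * g c := by
  have hinv0 : g⁻¹ 0 = 0 := by
    rw [Perm.inv_def, Equiv.symm_apply_eq, h0]
  have hinv1 : g⁻¹ 1 = 1 := by
    rw [Perm.inv_def, Equiv.symm_apply_eq, h1]
  have hconj : ∀ (h : Perm K) (y : K), g (h y) = (g * h * g⁻¹) (g y) := by
    intro h y
    simp [Perm.mul_apply]
  constructor
  · intro y c
    obtain ⟨a', b', ha', hh⟩ := hg _ (affMap_mem (1 : K) c one_ne_zero)
    have hb' : b' = g c := by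
      have := hh 0
      rw [Perm.mul_apply, Perm.mul_apply, hinv0, affMap_apply] at this
      simp only [zero_mul, zero_add] at this
      exact this.symm
    have ha1 : a' = 1 := by
      by_cases hc : c = 0
      · have := hh 1
        rw [Perm.mul_apply, Perm.mul_apply, hinv1, affMap_apply, hc] at this
        simp only [one_mul, add_zero] at this
        rw [h1, hb', hc, h0, add_zero] at this
        exact this.symm
      · by_contra hne
        have hne' : (1 : K) - a' ≠ 0 := sub_ne_zero.mpr (Ne.symm hne)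
        set x₀ : K := b' / (1 - a') with hx₀
        have hfix : (g * affMap (1 : K) c one_ne_zero * g⁻¹) x₀ = x₀ := by
          rw [hh, hx₀]
          field_simp
          ring
        rw [Perm.mul_apply, Perm.mul_apply, affMap_apply, mul_one] at hfix
        have h2 : g⁻¹ x₀ + c = g⁻¹ x₀ := by
          apply g.injective
          rw [hfix, Perm.inv_def, Equiv.apply_symm_apply]
        exact hc (by linear_combination h2)
    have := hconj (affMap (1 : K) c one_ne_zero) y
    rw [affMap_apply, mul_one, hh, ha1, mul_one, hb'] at this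
    exact this
  · intro y c
    by_cases hc : c = 0
    · rw [hc, mul_zero, h0, mul_zero]
    obtain ⟨a', b', ha', hh⟩ := hg _ (affMap_mem c (0 : K) hc)
    have hb' : b' = 0 := by
      have := hh 0
      rw [Perm.mul_apply, Perm.mul_apply, hinv0, affMap_apply] at this
      simp only [zero_mul, zero_add, add_zero] at this
      rw [h0] at this
      exact this.symm
    have ha1 : a' = g c := by
      have := hh 1
      rw [Perm.mul_apply, Perm.mul_apply, hinv1, affMap_apply] at this
      simp only [one_mul, add_zero] at this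
      rw [hb', add_zero] at this
      exact this.symm
    have := hconj (affMap c (0 : K) hc) y
    rw [affMap_apply, add_zero, hh, ha1, hb', add_zero] at this
    exact this

/-- A permutation normalising the affine group of a field is semi-affine. -/
theorem semiaffine_of_normalizes (g : Perm K) (hg : ∀ h ∈ affSub K, g * h * g⁻¹ ∈ affSub K) :
    ∃ (m b : K) (φ : K ≃+* K), m ≠ 0 ∧ ∀ x : K, g x = m * φ x + b := by
  set b : K := g 0 with hb
  set m : K := g 1 - b with hm
  have hm0 : m ≠ 0 := by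
    rw [hm, hb]
    intro h
    have := g.injective (sub_eq_zero.mp h)
    exact one_ne_zero this
  set A : Perm K := affMap m b hm0 with hA
  have hAmem : A ∈ affSub K := affMap_mem m b hm0
  set g₂ : Perm K := A⁻¹ * g with hg₂
  have hg₂n : ∀ h ∈ affSub K, g₂ * h * g₂⁻¹ ∈ affSub K := by
    intro h hh
    have e : g₂ * h * g₂⁻¹ = A⁻¹ * (g * h * g⁻¹) * A := by rw [hg₂]; group
    rw [e]
    exact (affSub K).mul_mem ((affSub K).mul_mem ((affSub K).inv_mem hAmem) (hg h hh)) hAmem
  have hAg₂ : ∀ x, g x = g₂ x * m + b := by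
    intro x
    have : g x = A (g₂ x) := by
      rw [hg₂, Perm.mul_apply, Perm.inv_def, Equiv.apply_symm_apply]
    rw [this, hA, affMap_apply]
  have h0 : g₂ 0 = 0 := by
    have := hAg₂ 0
    rw [← hb] at this
    have h2 : g₂ 0 * m = 0 := by linear_combination -this
    rcases mul_eq_zero.mp h2 with h | h
    · exact h
    · exact absurd h hm0
  have h1 : g₂ 1 = 1 := by
    have := hAg₂ 1
    have h2 : (g₂ 1 - 1) * m = 0 := by rw [hm]; linear_combination -this
    rcases mul_eq_zero.mp h2 with h | h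
    · exact sub_eq_zero.mp h
    · exact absurd h hm0
  obtain ⟨hadd, hmul⟩ := ringAut_of_normalizes g₂ hg₂n h0 h1
  let φ : K ≃+* K := { g₂ with map_mul' := hmul, map_add' := hadd }
  refine ⟨m, b, φ, hm0, fun x => ?_⟩
  rw [hAg₂ x, mul_comm]
  rfl

/-- Transport of a semi-affine map along a ring isomorphism. -/
theorem semiaffine_transport {K' : Type*} [Field K'] (ρ : K ≃+* K') (g : Perm K) (m b : K)
    (φ : K ≃+* K) (hm : m ≠ 0) (hg : ∀ x : K, g x = m * φ x + b) :
    ρ.toEquiv.symm.trans (g.trans ρ.toEquiv) ∈ Cfsg.semiaffineGroup K' := by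
  have hρm : ρ m ≠ 0 := by
    intro h
    exact hm ((map_eq_zero_iff ρ ρ.injective).mp h)
  refine ⟨Units.mk0 (ρ m) hρm, ρ b, ρ.symm.trans (φ.trans ρ), fun y => ?_⟩
  show ρ (g (ρ.symm y)) = ρ m * ρ (φ (ρ.symm y)) + ρ b
  rw [hg, map_add, map_mul]

end FieldAff

end Cfsg.Agent.Helper4.P1Affine
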