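import Mathlib
import Cfsg.Prelude.Def_Perm
import Cfsg.Agent.Helper4.P1Affine
import Cfsg.Agent.Helper4.P1Gal

/-!
# Groups of degree `p + 1` with a normal sharply doubly transitive subgroup
-/

set_option autoImplicit false
set_option linter.unusedSectionVars false
set_option linter.style.haveILetI false

namespace Cfsg.Agent.Helper4.P1Affine

open Equiv MulAction Cfsg Cfsg.Agent.Helper4 Cfsg.Agent.Helper4.P1Field

/-- If `G = D H₀` with `D ∩ H₀ = 1` then `|G| = |D| |H₀|`. -/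
theorem card_eq_mul_of_factor {Γ : Type*} [Group Γ] (G D H₀ : Subgroup Γ) (hDG : D ≤ G)
    (hHG : H₀ ≤ G) (hdisj : ∀ g, g ∈ D → g ∈ H₀ → g = 1)
    (hprod : ∀ g ∈ G, ∃ h ∈ D, ∃ k ∈ H₀, g = h * k) :
    Nat.card G = Nat.card D * Nat.card H₀ := by
  rw [← Nat.card_prod]
  symm
  let f : D × H₀ → G := fun x => ⟨x.1.1 * x.2.1, G.mul_mem (hDG x.1.2) (hHG x.2.2)⟩
  refine Nat.card_congr (Equiv.ofBijective f ⟨?_, ?_⟩)
  · rintro ⟨⟨h, hh⟩, ⟨k, hk⟩⟩ ⟨⟨h', hh'⟩, ⟨k', hk'⟩⟩ hf
    have hf' : h * k = h' * k' := congrArg (fun z : G => (z : Γ)) hf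
    have h1 : h'⁻¹ * h = k' * k⁻¹ := by
      have : h'⁻¹ * (h * k) * k⁻¹ = h'⁻¹ * (h' * k') * k⁻¹ := by rw [hf']
      have e1 : h'⁻¹ * (h * k) * k⁻¹ = h'⁻¹ * h := by group
      have e2 : h'⁻¹ * (h' * k') * k⁻¹ = k' * k⁻¹ := by group
      rw [e1, e2] at this
      exact this
    have h2 : h'⁻¹ * h = 1 :=
      hdisj _ (D.mul_mem (D.inv_mem hh') hh) (by rw [h1]; exact H₀.mul_mem hk' (H₀.inv_mem hk))
    have h3 : h = h' := by
      have := inv_mul_eq_one.mp h2
      exact this.symm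
    subst h3
    have h4 : k = k' := mul_left_cancel hf'
    subst h4
    rfl
  · rintro ⟨g, hg⟩
    obtain ⟨h, hh, k, hk, rfl⟩ := hprod g hg
    exact ⟨⟨⟨h, hh⟩, ⟨k, hk⟩⟩, rfl⟩

variable {α : Type*} [Fintype α] [DecidableEq α]

theorem semiaffine_of_normal_sharp2 {p : ℕ} (hp : p.Prime) (hp2 : p ≠ 2)
    (hα : Fintype.card α = p + 1) (G D : Subgroup (Perm α)) (hDG : D ≤ G)
    (hnorm : ∀ g ∈ G, ∀ h ∈ D, g * h * g⁻¹ ∈ D)
    (h2t : IsMultiplyPretransitive D α 2)
    (hs : ∀ (g : D) (x y : α), x ≠ y → g • x = x → g • y = y → g = 1) :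
    ∃ q : ℕ, q.Prime ∧ p + 1 = 2 ^ q ∧ ∃ e : α ≃ GaloisField 2 q,
      (∀ g ∈ G, e.symm.trans (g.trans e) ∈ Cfsg.semiaffineGroup (GaloisField 2 q)) ∧
      ∀ dd : ℕ, Nat.card G = (p + 1) * p * dd → dd ∣ q := by
  classical
  have hp2' := hp.two_le
  have hn : 2 ≤ Fintype.card α := by omega
  obtain ⟨-, -, -, -, hDcard⟩ := sharp2_fpf_subgroup h2t hs hn
  obtain ⟨N, hmem⟩ := sharp2_nearfield D h2t hs hn
  letI := N
  -- the point stabiliser has order `p`
  have htrans : IsPretransitive D α := by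
    have : IsMultiplyPretransitive D α 1 :=
      isMultiplyPretransitive_of_le (n := 2) (by norm_num) (by
        rw [Nat.card_eq_fintype_card]
        exact_mod_cast hn)
    exact is_one_pretransitive_iff.mp this
  have hD0 : Nat.card (stabilizer D (0 : α)) = p := by
    have h1 : (stabilizer D (0 : α)).index = p + 1 := by
      rw [MulAction.index_stabilizer_of_transitive, Nat.card_eq_fintype_card, hα]
    have h2 := (stabilizer D (0 : α)).card_mul_index
    rw [h1, hDcard, hα] at h2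
    have : Nat.card (stabilizer D (0 : α)) * (p + 1) = p * (p + 1) := by
      rw [h2]; simp; ring
    exact Nat.eq_of_mul_eq_mul_right (by omega) this
  have hcomm := nf_comm_of_prime hp D hmem hD0
  letI F : Field α := fieldOfComm hcomm
  have hDeq : D = affSub α := by
    ext σ
    exact hmem σ
  -- the characteristic
  obtain ⟨r, hchar, n, hr, hcard⟩ := FiniteField.card' α
  rw [hα] at hcard
  have hpodd : Odd p := hp.odd_of_ne_two hp2
  have hr2 : r = 2 := by
    have heven : 2 ∣ r ^ (n : ℕ) := by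
      rw [← hcard]
      obtain ⟨k, hk⟩ := hpodd
      exact ⟨k + 1, by omega⟩
    have := (Nat.Prime.dvd_of_dvd_pow Nat.prime_two heven)
    exact ((Nat.prime_dvd_prime_iff_eq Nat.prime_two hr).mp this).symm
  subst hr2
  set q : ℕ := (n : ℕ) with hq
  have hq0 : q ≠ 0 := n.pos.ne'
  have hpq : p = 2 ^ q - 1 := by omega
  have hq1 : q ≠ 1 := by
    intro h
    rw [h] at hpq
    omega
  have hqprime : q.Prime := by
    have : (2 ^ q - 1).Prime := by rw [← hpq]; exact hp
    exact (Nat.prime_of_pow_sub_one_prime hq1 this).2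
  haveI : Fact (Nat.Prime 2) := ⟨Nat.prime_two⟩
  haveI : Fintype (GaloisField 2 q) := Fintype.ofFinite _
  have hcardGF : Fintype.card α = Fintype.card (GaloisField 2 q) := by
    rw [hα, hcard, ← Nat.card_eq_fintype_card, GaloisField.card 2 q hq0]
  let ρ : α ≃+* GaloisField 2 q := FiniteField.ringEquivOfCardEq hcardGF
  refine ⟨q, hqprime, hcard, ρ.toEquiv, ?_, ?_⟩
  · intro g hg
    have hgn : ∀ h ∈ affSub α, g * h * g⁻¹ ∈ affSub α := by
      intro h hh
      rw [← hDeq] at hh ⊢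
      exact hnorm g hg h hh
    obtain ⟨m, b, φ, hm, hgφ⟩ := semiaffine_of_normalizes g hgn
    exact semiaffine_transport ρ g m b φ hm hgφ
  · intro dd hdd
    -- the stabiliser of `0` and `1`
    let H₀ : Subgroup (Perm α) := G ⊓ (stabilizer (Perm α) (0 : α) ⊓ stabilizer (Perm α) (1 : α))
    have hH₀ : ∀ h ∈ H₀, (∀ y c : α, h (y + c) = h y + h c) ∧ ∀ y c : α, h (y * c) = h y * h c := by
      rintro h ⟨hhG, hh0, hh1⟩
      have hgn : ∀ k ∈ affSub α, h * k * h⁻¹ ∈ affSub α := by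
        intro k hk
        rw [← hDeq] at hk ⊢
        exact hnorm h hhG k hk
      exact ringAut_of_normalizes h hgn hh0 hh1
    have hdvd := P1Gal.card_dvd_of_ringAut H₀ hH₀
    haveI : Fact (Nat.Prime 2) := ⟨Nat.prime_two⟩
    rw [P1Gal.card_ringEquiv 2 q (by rw [hα, hcard])] at hdvd
    -- `|G| = |D| |H₀|`
    have hfac : Nat.card G = Nat.card D * Nat.card H₀ := by
      refine card_eq_mul_of_factor G D H₀ hDG inf_le_left ?_ ?_
      · rintro g hgD ⟨-, hg0, hg1⟩
        have := hs ⟨g, hgD⟩ 0 1 (zero_ne_one) hg0 hg1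
        exact congrArg (fun z : D => (z : Perm α)) this
      · intro g hg
        have h2 := h2t
        rw [is_two_pretransitive_iff] at h2
        have hne : g 0 ≠ g 1 := fun h => zero_ne_one (g.injective h)
        obtain ⟨h, hh0, hh1⟩ := h2 (zero_ne_one (α := α)) hne
        refine ⟨h, h.2, (h : Perm α)⁻¹ * g, ⟨G.mul_mem (G.inv_mem (hDG h.2)) hg, ?_, ?_⟩, by group⟩
        · show ((h : Perm α)⁻¹ * g) • (0 : α) = 0
          rw [Perm.smul_def, Perm.mul_apply, Perm.inv_def, Equiv.symm_apply_eq]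
          exact hh0.symm
        · show ((h : Perm α)⁻¹ * g) • (1 : α) = 1
          rw [Perm.smul_def, Perm.mul_apply, Perm.inv_def, Equiv.symm_apply_eq]
          exact hh1.symm
    rw [hfac, hDcard, hα] at hdd
    have : Nat.card H₀ = dd := by
      have h3 : (p + 1) * (p + 1 - 1) * Nat.card H₀ = (p + 1) * p * dd := hdd
      rw [Nat.add_sub_cancel] at h3
      exact Nat.eq_of_mul_eq_mul_left (Nat.mul_pos (by omega) hp.pos) h3
    rw [← this]
    exact hdvd

end Cfsg.Agent.Helper4.P1Affine
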