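import Mathlib

/-!
# Arithmetic lemmas for the degrees of characters in the principal `p`-block of a group of
order `(p + 1) p d`.
-/

set_option autoImplicit false

namespace Cfsg.Agent.Helper4.P1Arith

theorem not_dvd_of_modEq {p n : ℕ} (hp : p.Prime) {s : ℤ} (hs : s = 1 ∨ s = -1)
    (hmod : (n : ℤ) ≡ s [ZMOD p]) : ¬ p ∣ n := by
  intro hdvd
  have h0 : (n : ℤ) ≡ 0 [ZMOD p] := by
    rw [Int.modEq_zero_iff_dvd]
    exact_mod_cast hdvd
  have h1 : (s : ℤ) ≡ 0 [ZMOD p] := hmod.symm.trans h0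
  rw [Int.modEq_zero_iff_dvd] at h1
  have hp2 := hp.two_le
  rcases hs with rfl | rfl
  · have := Int.le_of_dvd one_pos h1
    omega
  · rw [dvd_neg] at h1
    have := Int.le_of_dvd one_pos h1
    omega

theorem dvd_of_dvd_card {p d n : ℕ} (hp : p.Prime) (hn : n ∣ (p + 1) * p * d) (hpn : ¬ p ∣ n) :
    n ∣ (p + 1) * d := by
  have hcop : Nat.Coprime n p := (Nat.Prime.coprime_iff_not_dvd hp).2 hpn |>.symm
  have : n ∣ p * ((p + 1) * d) := by
    have e : (p + 1) * p * d = p * ((p + 1) * d) := by ring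
    rwa [e] at hn
  exact hcop.dvd_of_dvd_mul_left this

/-- A degree congruent to `-1`. -/
theorem arith_neg {p d n : ℕ} (hp : p.Prime) (hd0 : 0 < d) (hdp : d < p) (hdd : d ∣ p - 1)
    (hn : n ∣ (p + 1) * p * d) (hn0 : 0 < n) (hmod : (n : ℤ) ≡ -1 [ZMOD p]) :
    d = p - 1 ∨ 2 * d = p - 1 := by
  have hp2 := hp.two_le
  have hpn : ¬ p ∣ n := not_dvd_of_modEq hp (Or.inr rfl) hmod
  obtain ⟨m, hm⟩ := dvd_of_dvd_card hp hn hpn
  -- `p ∣ n + 1`
  have hpn1 : p ∣ n + 1 := by
    have h := hmod.symm.dvd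
    have e : ((n : ℤ) - -1) = ((n + 1 : ℕ) : ℤ) := by push_cast; ring
    rw [e] at h
    exact_mod_cast h
  have hnge : p ≤ n + 1 := Nat.le_of_dvd (by omega) hpn1
  -- `p ∣ d + m`
  have hpdm : p ∣ d + m := by
    have h1 : p ∣ (n + 1) * m := Dvd.dvd.mul_right hpn1 m
    have e : (n + 1) * m = p * d + (d + m) := by
      have : (n + 1) * m = n * m + m := by ring
      rw [this, ← hm]; ring
    rw [e] at h1
    exact (Nat.dvd_add_right (Dvd.intro d rfl)).1 h1
  have hdm : p ≤ d + m := Nat.le_of_dvd (by omega) hpdm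
  -- the inequality
  obtain ⟨c, hc⟩ := hdd
  have hc0 : 0 < c := by
    rcases Nat.eq_zero_or_pos c with h | h
    · rw [h, mul_zero] at hc; omega
    · exact h
  have hpe : p = d * c + 1 := by omega
  have hmge : d * c + 1 ≤ d + m := by omega
  have hnge' : d * c ≤ n := by omega
  have key : (d * c + 1 - d) * (d * c) ≤ (p + 1) * d := by
    rw [hm]
    calc (d * c + 1 - d) * (d * c) ≤ m * n := Nat.mul_le_mul (by omega) hnge'
      _ = n * m := mul_comm _ _
  have hc2 : c ≤ 2 := by
    by_contra hcon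
    push Not at hcon
    have h3 : 3 ≤ c := hcon
    -- `d*c + 1 - d ≥ 2*d + 1`
    have h1 : 2 * d + 1 ≤ d * c + 1 - d := by
      have : 3 * d ≤ d * c := by
        calc 3 * d = d * 3 := by ring
          _ ≤ d * c := Nat.mul_le_mul_left d h3
      omega
    have h2 : (2 * d + 1) * (d * c) ≤ (p + 1) * d := le_trans (Nat.mul_le_mul_right _ h1) key
    rw [hpe] at h2
    -- `(2d+1) d c ≤ (dc + 2) d`
    have h4 : (2 * d + 1) * c ≤ d * c + 2 := by
      have : ((2 * d + 1) * c) * d ≤ (d * c + 2) * d := by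
        calc ((2 * d + 1) * c) * d = (2 * d + 1) * (d * c) := by ring
          _ ≤ (d * c + 1 + 1) * d := h2
          _ = (d * c + 2) * d := by ring
      exact Nat.le_of_mul_le_mul_right this hd0
    have h5 : (2 * d + 1) * c = 2 * (d * c) + c := by ring
    have h6 : 1 ≤ d * c := Nat.mul_pos hd0 hc0
    omega
  interval_cases c
  · left; omega
  · right; omega

/-- A degree congruent to `1`. -/
theorem arith_pos {p d n : ℕ} (hp : p.Prime) (hd0 : 0 < d) (hdp : d < p)
    (hn : n ∣ (p + 1) * p * d) (hn0 : 0 < n) (hmod : (n : ℤ) ≡ 1 [ZMOD p]) :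
    n = 1 ∨ n = p + 1 := by
  have hp2 := hp.two_le
  have hpn : ¬ p ∣ n := not_dvd_of_modEq hp (Or.inl rfl) hmod
  obtain ⟨m, hm⟩ := dvd_of_dvd_card hp hn hpn
  have hpn1 : p ∣ n - 1 := by
    have h := hmod.symm.dvd
    have e : ((n : ℤ) - 1) = ((n - 1 : ℕ) : ℤ) := by
      rw [Nat.cast_sub hn0]; simp
    rw [e] at h
    exact_mod_cast h
  by_cases hn1 : n = 1
  · exact Or.inl hn1
  right
  have hnge : p ≤ n - 1 := Nat.le_of_dvd (by omega) hpn1
  have hm0 : 0 < m := by
    rcases Nat.eq_zero_or_pos m with h | h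
    · rw [h, mul_zero] at hm
      have : 0 < (p + 1) * d := Nat.mul_pos (by omega) hd0
      omega
    · exact h
  have hmd : m ≤ d := by
    by_contra hcon
    push Not at hcon
    have : (p + 1) * d < n * m := by
      calc (p + 1) * d < (p + 1) * m := Nat.mul_lt_mul_of_pos_left hcon (by omega)
        _ ≤ n * m := Nat.mul_le_mul_right m (by omega)
    omega
  have hpdm : p ∣ d - m := by
    have h1 : p ∣ (n - 1) * m := Dvd.dvd.mul_right hpn1 m
    have e : (n - 1) * m + m = p * d + d := by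
      have : (n - 1) * m + m = n * m := by
        have : n = (n - 1) + 1 := by omega
        conv_rhs => rw [this]
        ring
      rw [this, ← hm]; ring
    have e2 : (n - 1) * m = p * d + (d - m) := by omega
    rw [e2] at h1
    exact (Nat.dvd_add_right (Dvd.intro d rfl)).1 h1
  have hdm0 : d - m = 0 := Nat.eq_zero_of_dvd_of_lt hpdm (by omega)
  have hmeq : m = d := by omega
  rw [hmeq] at hm
  have := Nat.eq_of_mul_eq_mul_right hd0 hm
  omega

/-- The exceptional degree. -/
theorem arith_exc {p d y k : ℕ} (hp : p.Prime) (hd0 : 0 < d) (hdp : d < p)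
    (hy : y ∣ (p + 1) * p * d) (hyk : y = d + k * p) (hsq : y ^ 2 ≤ (p + 1) * p * d) : k = 0 := by
  have hp2 := hp.two_le
  have hpy : ¬ p ∣ y := by
    intro h
    rw [hyk] at h
    have : p ∣ d := (Nat.dvd_add_left (Dvd.intro_left k rfl)).1 h
    have := Nat.le_of_dvd hd0 this
    omega
  obtain ⟨m, hm⟩ := dvd_of_dvd_card hp hy hpy
  have hm0 : 0 < m := by
    rcases Nat.eq_zero_or_pos m with h | h
    · rw [h, mul_zero] at hm
      have : 0 < (p + 1) * d := Nat.mul_pos (by omega) hd0
      omega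
    · exact h
  -- `p ∣ (m - 1) * d`
  have hpm : p ∣ m - 1 := by
    have h1 : (p : ℤ) ∣ ((m : ℤ) - 1) * d := by
      have e : ((m : ℤ) - 1) * d = p * ((d : ℤ) - k * m) := by
        have hmZ : ((p : ℤ) + 1) * d = ((d : ℤ) + k * p) * m := by
          have := congrArg (fun t : ℕ => (t : ℤ)) hm
          simp only [hyk] at this
          push_cast at this
          exact this
        linear_combination (-1 : ℤ) * hmZ
      rw [e]
      exact Dvd.intro _ rfl
    have h2 : (p : ℤ) ∣ ((m - 1 : ℕ) : ℤ) * d := by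
      rw [Nat.cast_sub hm0]
      simpa using h1
    have h3 : p ∣ (m - 1) * d := by exact_mod_cast h2
    rcases (Nat.Prime.dvd_mul hp).1 h3 with h | h
    · exact h
    · have := Nat.le_of_dvd hd0 h
      omega
  by_cases hm1 : m = 1
  · exfalso
    rw [hm1, mul_one] at hm
    rw [← hm] at hsq
    have h1 : (p + 1) * d ≤ p := by
      have : ((p + 1) * d) * ((p + 1) * d) ≤ p * ((p + 1) * d) := by
        calc ((p + 1) * d) * ((p + 1) * d) = ((p + 1) * d) ^ 2 := by ring
          _ ≤ (p + 1) * p * d := hsq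
          _ = p * ((p + 1) * d) := by ring
      exact Nat.le_of_mul_le_mul_right this (Nat.mul_pos (by omega) hd0)
    have h2 : p + 1 ≤ (p + 1) * d := Nat.le_mul_of_pos_right _ hd0
    omega
  · have hmge : p + 1 ≤ m := by
      have : p ≤ m - 1 := Nat.le_of_dvd (by omega) hpm
      omega
    have hyd : y ≤ d := by
      have : y * (p + 1) ≤ d * (p + 1) := by
        calc y * (p + 1) ≤ y * m := Nat.mul_le_mul_left y hmge
          _ = (p + 1) * d := hm.symm
          _ = d * (p + 1) := mul_comm _ _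
      exact Nat.le_of_mul_le_mul_right this (by omega)
    rw [hyk] at hyd
    have hkp : k * p = 0 := by omega
    rcases Nat.mul_eq_zero.1 hkp with h | h
    · exact h
    · omega

end Cfsg.Agent.Helper4.P1Arith
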