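import Mathlib
import Cfsg.Agent.Helper15.BrP2
import Cfsg.Agent.Helper4.P1Arith

/-!
# Groups of order `(p + 1) p d` with a self-centralising Sylow `p`-subgroup of order `p`

Using Brauer's description of the principal `p`-block (S4441) we show: `d = p - 1`, or
`2 d = p - 1`, or the group has at least `d` linear characters.
-/

set_option autoImplicit false
set_option linter.style.haveILetI false

namespace Cfsg.Agent.Helper4.P1Deg

open Cfsg Cfsg.Agent.Helper24 Cfsg.Agent.Helper5 Subgroup Cfsg.Agent.Helper4.P1Arith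

universe u

theorem deg_dichotomy {G : Type u} [Group G] [Finite G] (p : ℕ) [hp : Fact p.Prime]
    (hodd : p ≠ 2) (P : Sylow p G) (hP : Nat.card P = p) (d : ℕ)
    (he : (centralizer ((P : Subgroup G) : Set G)).relIndex
      (normalizer ((P : Subgroup G) : Set G)) = d)
    (hd0 : 0 < d) (hdp : d < p) (hdd : d ∣ p - 1)
    (hG : Nat.card G = (p + 1) * p * d) :
    d = p - 1 ∨ 2 * d = p - 1 ∨ d ≤ (commutator G).index := by
  classical
  have : Fintype G := Fintype.ofFinite G
  have : Fintype (IrrCharacter G) := Fintype.ofFinite _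
  have hp2 := hp.out.two_le
  obtain ⟨M, hM⟩ := exists_isPModular p hp.out
  obtain ⟨X, Y, hB, hdisj, hX, hY, εX, ε, hXp, hε, hYd, hYagree, hYreg⟩ :=
    Cfsg.Agent.S4441.result p M hM hodd P hP d he
  have hXfin : X.Finite := Set.toFinite X
  have hp1 : ¬ p ∣ orderOf (1 : G) := by
    rw [orderOf_one]
    exact hp.out.one_lt.ne' ∘ Nat.dvd_one.mp
  have htrivB : trivIrr G ∈ principalBlock M G :=
    Cfsg.Agent.Helper5.CC.trivIrr_mem_principalBlock (hM.2.1.isPrime)
  have htriv1 : irrDeg (trivIrr G) = 1 := (irrDeg_eq_one_iff _).mpr (trivIrr_apply 1)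
  have hdegdvd : ∀ χ : IrrCharacter G, irrDeg χ ∣ (p + 1) * p * d := by
    intro χ
    rw [← hG]
    exact irrDeg_dvd_card χ
  have hidx : 1 ≤ (commutator G).index :=
    Nat.one_le_iff_ne_zero.mpr Subgroup.index_ne_zero_of_finite
  rw [hB] at htrivB
  rcases htrivB with htX | htY
  swap
  · -- the trivial character is exceptional
    have h := hYd _ htY
    rw [charDegree_irr, htriv1] at h
    rcases hε with rfl | rfl
    · -- `1 ≡ d`
      right; right
      have h2 := h.symm.dvd
      have e : (((1 : ℕ) : ℤ) - 1 * (d : ℤ)) = -((d - 1 : ℕ) : ℤ) := by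
        rw [Nat.cast_sub hd0]; push_cast; ring
      rw [e, dvd_neg] at h2
      have h3 : p ∣ d - 1 := by exact_mod_cast h2
      have : d - 1 = 0 := Nat.eq_zero_of_dvd_of_lt h3 (by omega)
      have hd1 : d = 1 := by omega
      rw [hd1]; exact hidx
    · -- `1 ≡ -d`
      left
      have h2 := h.symm.dvd
      have e : (((1 : ℕ) : ℤ) - -1 * (d : ℤ)) = ((d + 1 : ℕ) : ℤ) := by push_cast; ring
      rw [e] at h2
      have h3 : p ∣ d + 1 := by exact_mod_cast h2
      have := Nat.le_of_dvd (by omega) h3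
      omega
  -- the trivial character is non-exceptional
  by_cases hneg : ∃ χ ∈ X, εX χ = -1
  · obtain ⟨χ, hχ, hs⟩ := hneg
    have h := (hXp χ hχ).2.1
    rw [charDegree_irr, hs] at h
    rcases arith_neg hp.out hd0 hdp hdd (hdegdvd χ) (irrDeg_pos χ) h with h1 | h1
    · exact Or.inl h1
    · exact Or.inr (Or.inl h1)
  push Not at hneg
  right; right
  have hsign : ∀ χ ∈ X, εX χ = 1 := by
    intro χ hχ
    rcases (hXp χ hχ).1 with h | h
    · exact h
    · exact absurd h (hneg χ hχ)
  have hdeg : ∀ χ ∈ X, irrDeg χ = 1 ∨ irrDeg χ = p + 1 := by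
    intro χ hχ
    have h := (hXp χ hχ).2.1
    rw [charDegree_irr, hsign χ hχ] at h
    exact arith_pos hp.out hd0 hdp (hdegdvd χ) (irrDeg_pos χ) h
  -- an exceptional character
  have hYne : 0 < Nat.card Y := by
    rw [hY]
    exact Nat.div_pos (Nat.le_of_dvd (by omega) hdd) hd0
  have : Nonempty Y := (Nat.card_pos_iff.mp hYne).1
  obtain ⟨⟨θ, hθ⟩⟩ := this
  have hreg := hYreg θ hθ 1 hp1
  rw [finsum_mem_eq_finite_toFinset_sum _ hXfin] at hreg
  have hXcard : hXfin.toFinset.card = d := by
    rw [← Set.ncard_eq_toFinset_card X hXfin, ← Nat.card_coe_set_eq, hX]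
  -- the big characters
  set K := hXfin.toFinset.filter (fun χ => irrDeg χ = p + 1) with hK
  have hsum : ∑ χ ∈ hXfin.toFinset, irrDeg χ = d + K.card * p := by
    have h1 : ∀ χ ∈ hXfin.toFinset, irrDeg χ = 1 + (if irrDeg χ = p + 1 then p else 0) := by
      intro χ hχ
      rw [Set.Finite.mem_toFinset] at hχ
      rcases hdeg χ hχ with h | h
      · rw [h]; simp
      · rw [h]; simp; ring
    rw [Finset.sum_congr rfl h1, Finset.sum_add_distrib, Finset.sum_const, smul_eq_mul, mul_one,
      hXcard, ← Finset.sum_filter, Finset.sum_const, smul_eq_mul]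
  have hregZ : ε * (irrDeg θ : ℤ) = ((d + K.card * p : ℕ) : ℤ) := by
    have h2 : (ε : ℂ) * (irrDeg θ : ℂ) = ((d + K.card * p : ℕ) : ℂ) := by
      rw [← hsum, ← irrDeg_spec θ, hreg]
      push_cast
      refine Finset.sum_congr rfl ?_
      intro χ hχ
      rw [Set.Finite.mem_toFinset] at hχ
      rw [hsign χ hχ, irrDeg_spec]
      simp
    exact_mod_cast h2
  have hθpos := irrDeg_pos θ
  have hε1 : ε = 1 := by
    rcases hε with h | h
    · exact h
    · exfalso
      rw [h] at hregZ
      have : (0 : ℤ) ≤ ((d + K.card * p : ℕ) : ℤ) := Int.natCast_nonneg _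
      have h3 : (0 : ℤ) < (irrDeg θ : ℤ) := by exact_mod_cast hθpos
      linarith
  rw [hε1, one_mul] at hregZ
  have hy : irrDeg θ = d + K.card * p := by exact_mod_cast hregZ
  have hsq : irrDeg θ ^ 2 ≤ (p + 1) * p * d := by
    rw [← hG, ← sum_irrDeg_sq (G := G)]
    exact Finset.single_le_sum (f := fun χ : IrrCharacter G => irrDeg χ ^ 2)
      (fun _ _ => Nat.zero_le _) (Finset.mem_univ θ)
  have hK0 : K.card = 0 := arith_exc hp.out hd0 hdp (hdegdvd θ) hy hsq
  have hall : ∀ χ ∈ X, irrDeg χ = 1 := by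
    intro χ hχ
    rcases hdeg χ hχ with h | h
    · exact h
    · exfalso
      have : χ ∈ K := by
        rw [hK, Finset.mem_filter, Set.Finite.mem_toFinset]
        exact ⟨hχ, h⟩
      rw [Finset.card_eq_zero] at hK0
      rw [hK0] at this
      exact absurd this (Finset.notMem_empty _)
  -- count the linear characters
  rw [← card_linear_irr, ← hX]
  let f : X → {χ : IrrCharacter G // (χ : G → ℂ) 1 = 1} :=
    fun x => ⟨x.1, (irrDeg_eq_one_iff _).mp (hall x.1 x.2)⟩
  have hf : Function.Injective f := by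
    intro a b hab
    apply Subtype.ext
    exact congrArg (fun z : {χ : IrrCharacter G // (χ : G → ℂ) 1 = 1} => (z : IrrCharacter G)) hab
  exact Nat.card_le_card_of_injective f hf

end Cfsg.Agent.Helper4.P1Deg
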