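import Mathlib
import Cfsg.Agent.Helper4.P1Deg
import Cfsg.Agent.Helper4.P1Perm

/-!
# Transitive groups of degree `p + 1` and order `(p + 1) p d`: the character-theoretic dichotomy
-/

set_option autoImplicit false
set_option linter.unusedSectionVars false
set_option linter.style.haveILetI false

namespace Cfsg.Agent.Helper4.P1Perm

open Equiv MulAction

variable {α : Type*} [Fintype α] [DecidableEq α] {G : Subgroup (Perm α)} {p d : ℕ}
  [hp : Fact p.Prime]

namespace Data

/-- The element `x` as an element of `G`. -/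
def x₀ (D : Data G p d) : G := ⟨D.x, D.hxG⟩

theorem orderOf_x₀ (D : Data G p d) : orderOf D.x₀ = p := by
  have h : orderOf ((D.x₀ : G) : Perm α) = p := D.hx
  rwa [Subgroup.orderOf_coe] at h

theorem card_zpowers_x₀ (D : Data G p d) : Nat.card (Subgroup.zpowers D.x₀) = p := by
  rw [Nat.card_zpowers, D.orderOf_x₀]

theorem not_dvd_d (D : Data G p d) : ¬ p ∣ d := fun h => by
  have := Nat.le_of_dvd D.hd0 h
  have := D.hdp
  omega

theorem factorization_card (D : Data G p d) : (Nat.card G).factorization p = 1 := by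
  have hp2 := hp.out.two_le
  have h1 : ¬ p ∣ p + 1 := by
    intro h
    have : p ∣ 1 := (Nat.dvd_add_right (dvd_refl p)).mp h
    have := Nat.le_of_dvd one_pos this
    omega
  rw [D.hcard, Nat.factorization_mul (by positivity) D.hd0.ne',
    Nat.factorization_mul (by omega) hp.out.ne_zero]
  simp [hp.out.factorization_self, Nat.factorization_eq_zero_of_not_dvd h1,
    Nat.factorization_eq_zero_of_not_dvd D.not_dvd_d]

/-- The Sylow `p`-subgroup generated by `x`. -/
theorem exists_sylow (D : Data G p d) :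
    ∃ P : Sylow p G, (P : Subgroup G) = Subgroup.zpowers D.x₀ := by
  have hQp : IsPGroup p (Subgroup.zpowers D.x₀) :=
    IsPGroup.of_card (n := 1) (by rw [D.card_zpowers_x₀, pow_one])
  obtain ⟨S, hQS⟩ := hQp.exists_le_sylow
  refine ⟨S, ?_⟩
  have hScard : Nat.card S = p := by
    rw [Sylow.card_eq_multiplicity, D.factorization_card, pow_one]
  exact (Subgroup.eq_of_le_of_card_ge hQS (by rw [hScard, D.card_zpowers_x₀])).symm

theorem conj_pow_mem (D : Data G p d) (g : G) (hg : g ∈ stabilizer G D.a) (h : G)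
    (hh : h ∈ Subgroup.zpowers D.x₀) : g * h * g⁻¹ ∈ Subgroup.zpowers D.x₀ := by
  have hga : (g : Perm α) D.a = D.a := hg
  obtain ⟨k, hk⟩ := D.stab_normalizes g g.2 hga
  have hk' : g * D.x₀ * g⁻¹ = D.x₀ ^ k := by
    apply Subtype.ext
    exact hk
  rw [← mem_powers_iff_mem_zpowers] at hh
  obtain ⟨n, rfl⟩ := hh
  have : g * D.x₀ ^ n * g⁻¹ = (g * D.x₀ * g⁻¹) ^ n := by
    rw [conj_pow]
  rw [this, hk']
  exact Subgroup.pow_mem _ (Subgroup.pow_mem _ (Subgroup.mem_zpowers _) k) n

theorem normalizer_eq (D : Data G p d) :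
    Subgroup.normalizer ((Subgroup.zpowers D.x₀ : Subgroup G) : Set G) = stabilizer G D.a := by
  apply le_antisymm
  · intro g hg
    rw [Subgroup.mem_normalizer_iff] at hg
    have h1 : g * D.x₀ * g⁻¹ ∈ Subgroup.zpowers D.x₀ := (hg D.x₀).mp (Subgroup.mem_zpowers _)
    rw [← mem_powers_iff_mem_zpowers] at h1
    obtain ⟨k, hk⟩ := h1
    have hk' : (g : Perm α) * D.x * (g : Perm α)⁻¹ = D.x ^ k := by
      have := congrArg (fun z : G => (z : Perm α)) hk
      simp only at this
      rw [eq_comm]
      simpa [x₀] using this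
    have := (affine_of_conj D.x D.a D.j D.hx D.hxa D.hj D.hja D.hcov D.hxj g k hk').1
    rw [mem_stabilizer_iff]
    exact this
  · intro g hg
    rw [Subgroup.mem_normalizer_iff]
    intro h
    constructor
    · intro hh
      exact D.conj_pow_mem g hg h hh
    · intro hh
      have := D.conj_pow_mem g⁻¹ (Subgroup.inv_mem _ hg) _ hh
      have e : g⁻¹ * (g * h * g⁻¹) * g⁻¹⁻¹ = h := by group
      rwa [e] at this

theorem centralizer_eq (D : Data G p d) :
    Subgroup.centralizer ((Subgroup.zpowers D.x₀ : Subgroup G) : Set G) =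
      Subgroup.zpowers D.x₀ := by
  apply le_antisymm
  · intro g hg
    rw [Subgroup.mem_centralizer_iff] at hg
    have h1 : D.x₀ * g = g * D.x₀ := hg D.x₀ (Subgroup.mem_zpowers _)
    have hk' : (g : Perm α) * D.x * (g : Perm α)⁻¹ = D.x ^ 1 := by
      have := congrArg (fun z : G => (z : Perm α)) h1
      simp only [x₀, Subgroup.coe_mul] at this
      rw [pow_one, ← this]
      group
    obtain ⟨hga, -, c, hc⟩ :=
      affine_of_conj D.x D.a D.j D.hx D.hxa D.hj D.hja D.hcov D.hxj g 1 hk'
    have h2 : (g : Perm α) = D.x ^ c.val := by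
      refine eq_pow_of_translate D.x D.a D.j D.hxa D.hcov D.hxj g hga c ?_
      intro i
      rw [hc]; congr 1; push_cast; ring
    have h3 : g = D.x₀ ^ c.val := by
      apply Subtype.ext
      rw [h2]; rfl
    rw [h3]
    exact Subgroup.pow_mem _ (Subgroup.mem_zpowers _) _
  · intro g hg
    rw [Subgroup.mem_centralizer_iff]
    intro h hh
    have hh' : h ∈ Subgroup.zpowers D.x₀ := hh
    rw [Subgroup.mem_zpowers_iff] at hg hh'
    obtain ⟨m, rfl⟩ := hg
    obtain ⟨n, rfl⟩ := hh'
    rw [← zpow_add, ← zpow_add, add_comm]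

theorem relIndex_eq (D : Data G p d) :
    (Subgroup.centralizer ((Subgroup.zpowers D.x₀ : Subgroup G) : Set G)).relIndex
      (Subgroup.normalizer ((Subgroup.zpowers D.x₀ : Subgroup G) : Set G)) = d := by
  rw [D.centralizer_eq, D.normalizer_eq]
  have hle : Subgroup.zpowers D.x₀ ≤ stabilizer G D.a := by
    rw [← D.normalizer_eq]; exact Subgroup.le_normalizer
  have h := Subgroup.relIndex_mul_relIndex (⊥ : Subgroup G) (Subgroup.zpowers D.x₀)
    (stabilizer G D.a) bot_le hle
  rw [Subgroup.relIndex_bot_left, Subgroup.relIndex_bot_left, D.card_zpowers_x₀, D.stab_card] at h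
  exact Nat.eq_of_mul_eq_mul_left hp.out.pos h

theorem d_dvd (D : Data G p d) : d ∣ p - 1 := by
  have key := Subgroup.card_dvd_of_injective _
    (QuotientGroup.kerLift_injective (Subgroup.zpowers D.x₀).normalizerMonoidHom)
  rw [Subgroup.normalizerMonoidHom_ker, ← Subgroup.index, ← Subgroup.relIndex, D.relIndex_eq] at key
  have hcyc : IsCyclic (Subgroup.zpowers D.x₀) := inferInstance
  rw [hcyc.card_mulAut, D.card_zpowers_x₀, Nat.totient_prime hp.out] at key
  exact key

/-- The dichotomy from Brauer's theory. -/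
theorem dichotomy (D : Data G p d) (hodd : p ≠ 2) :
    d = p - 1 ∨ 2 * d = p - 1 ∨ d ≤ (commutator G).index := by
  obtain ⟨P, hP⟩ := D.exists_sylow
  have hPcard : Nat.card P = p := by
    have : Nat.card (P : Subgroup G) = p := by rw [hP, D.card_zpowers_x₀]
    exact this
  have he : (Subgroup.centralizer ((P : Subgroup G) : Set G)).relIndex
      (Subgroup.normalizer ((P : Subgroup G) : Set G)) = d := by
    rw [hP]; exact D.relIndex_eq
  exact P1Deg.deg_dichotomy p hodd P hPcard d he D.hd0 D.hdp D.d_dvd D.hcard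

end Data

end Cfsg.Agent.Helper4.P1Perm
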