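import Mathlib
import Cfsg.Prelude.Def_Perm
import Cfsg.Agent.Helper4.P1Main1
import Cfsg.Agent.Helper4.P1AffMain

/-!
# Transitive groups of degree `p + 1` and order `(p + 1) p d`: normal sharply 2-transitive subgroups
-/

set_option autoImplicit false
set_option linter.unusedSectionVars false
set_option linter.style.haveILetI false

namespace Cfsg.Agent.Helper4.P1Perm

open Equiv MulAction

variable {α : Type*} [Fintype α] [DecidableEq α] {G : Subgroup (Perm α)} {p d : ℕ}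
  [hp : Fact p.Prime]

/-- `G` has a sharply 2-transitive subgroup normalised by `Γ`. -/
def HasNS2 (Γ G : Subgroup (Perm α)) : Prop :=
  ∃ D₁ : Subgroup (Perm α), D₁ ≤ G ∧ (∀ g ∈ Γ, ∀ h ∈ D₁, g * h * g⁻¹ ∈ D₁) ∧
    IsMultiplyPretransitive D₁ α 2 ∧
    ∀ (g : D₁) (x y : α), x ≠ y → g • x = x → g • y = y → g = 1

theorem inv_apply_self' (f : Perm α) (x : α) : f⁻¹ (f x) = x := f.symm_apply_apply x

theorem apply_inv_self' (f : Perm α) (x : α) : f (f⁻¹ x) = x := f.apply_symm_apply x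

/-- 2-transitivity from a transitive subgroup and the `p`-cycle. -/
theorem two_trans_of (x : Perm α) (a : α) (j : ZMod p → α) (hxa : x a = a)
    (hcov : ∀ y, y ≠ a → ∃ i, j i = y) (hxj : ∀ i, x (j i) = j (i + 1))
    (K : Subgroup (Perm α)) (hxK : x ∈ K) (htr : ∀ u : α, ∃ n ∈ K, n u = a) :
    IsMultiplyPretransitive K α 2 := by
  rw [is_two_pretransitive_iff]
  intro u v u' v' huv huv'
  obtain ⟨g₁, hg₁K, hg₁⟩ := htr u
  obtain ⟨g₂, hg₂K, hg₂⟩ := htr u'
  have h1 : g₁ v ≠ a := by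
    rw [← hg₁]; intro h; exact huv (g₁.injective h).symm
  have h2 : g₂ v' ≠ a := by
    rw [← hg₂]; intro h; exact huv' (g₂.injective h).symm
  obtain ⟨i, hi⟩ := hcov _ h1
  obtain ⟨i', hi'⟩ := hcov _ h2
  let n : ℕ := (i' - i).val
  have hn : (x ^ n) (j i) = j i' := by
    rw [pow_apply_j x j hxj, ZMod.natCast_zmod_val]; congr 1; ring
  refine ⟨⟨g₂⁻¹ * x ^ n * g₁, K.mul_mem (K.mul_mem (K.inv_mem hg₂K) (K.pow_mem hxK n)) hg₁K⟩,
    ?_, ?_⟩
  · show (g₂⁻¹ * x ^ n * g₁) u = u'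
    rw [Perm.mul_apply, Perm.mul_apply, hg₁, pow_apply_a x a hxa, ← hg₂, inv_apply_self']
  · show (g₂⁻¹ * x ^ n * g₁) v = v'
    rw [Perm.mul_apply, Perm.mul_apply, ← hi, hn, hi', inv_apply_self']

namespace Data

/-- `x` fixes only `a`. -/
theorem x_fix (D : Data G p d) (y : α) (hy : D.x y = y) : y = D.a := by
  by_contra hne
  obtain ⟨i, rfl⟩ := D.hcov y hne
  rw [D.hxj] at hy
  have := D.hj hy
  have h1 : (1 : ZMod p) = 0 := by linear_combination this
  exact one_ne_zero h1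

/-- A subgroup containing `x` and normalised by `G` is transitive. -/
theorem trans_of_normal_mem (D : Data G p d) (N : Subgroup (Perm α))
    (hnorm : ∀ g ∈ G, ∀ h ∈ N, g * h * g⁻¹ ∈ N) (hxN : D.x ∈ N) :
    ∀ u : α, ∃ n ∈ N, n u = D.a := by
  haveI := D.htrans
  -- first: every point is an image of `j 0`
  have key : ∀ y : α, ∃ n ∈ N, n (D.j 0) = y := by
    have hj : ∀ i : ZMod p, ∃ n ∈ N, n (D.j 0) = D.j i := by
      intro i
      refine ⟨D.x ^ i.val, N.pow_mem hxN _, ?_⟩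
      rw [pow_apply_j D.x D.j D.hxj, ZMod.natCast_zmod_val, zero_add]
    intro y
    rcases D.pts y with rfl | ⟨i, rfl⟩
    · obtain ⟨t, ht⟩ := exists_smul_eq G D.a (D.j 0)
      have ht' : (t : Perm α) D.a = D.j 0 := ht
      set n₁ : Perm α := (t : Perm α) * D.x * (t : Perm α)⁻¹ with hn₁
      have hn₁N : n₁ ∈ N := hnorm t t.2 D.x hxN
      have hfix : n₁ (D.j 0) = D.j 0 := by
        rw [hn₁, Perm.mul_apply, Perm.mul_apply, ← ht', inv_apply_self', D.hxa]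
      have hmove : n₁ D.a ≠ D.a := by
        intro h
        rw [hn₁, Perm.mul_apply, Perm.mul_apply] at h
        have h2 : D.x ((t : Perm α)⁻¹ D.a) = (t : Perm α)⁻¹ D.a := by
          apply (t : Perm α).injective
          rw [h, apply_inv_self']
        have h3 := D.x_fix _ h2
        have h4 : D.a = (t : Perm α) D.a := by
          conv_lhs => rw [← apply_inv_self' (t : Perm α) D.a, h3]
        rw [ht'] at h4
        exact D.hja 0 h4.symm
      obtain ⟨i, hi⟩ := D.hcov _ hmove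
      obtain ⟨n₂, hn₂N, hn₂⟩ := hj i
      refine ⟨n₁⁻¹ * n₂, N.mul_mem (N.inv_mem hn₁N) hn₂N, ?_⟩
      rw [Perm.mul_apply, hn₂, hi, inv_apply_self']
    · exact hj i
  intro u
  obtain ⟨n₁, hn₁N, hn₁⟩ := key u
  obtain ⟨n₂, hn₂N, hn₂⟩ := key D.a
  refine ⟨n₂ * n₁⁻¹, N.mul_mem hn₂N (N.inv_mem hn₁N), ?_⟩
  rw [Perm.mul_apply, ← hn₁, inv_apply_self', hn₂]

/-- For `d = 1` the point stabiliser is `⟨x⟩`. -/
theorem stab_one (D : Data G p 1) (g : Perm α) (hg : g ∈ G) (hga : g D.a = D.a) :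
    ∃ n : ℕ, g = D.x ^ n := by
  have hle : Subgroup.zpowers D.x₀ ≤ stabilizer G D.a := by
    rw [← D.normalizer_eq]; exact Subgroup.le_normalizer
  have hcard : Nat.card (stabilizer G D.a) ≤ Nat.card (Subgroup.zpowers D.x₀) := by
    rw [D.stab_card, D.card_zpowers_x₀, mul_one]
  have heq := Subgroup.eq_of_le_of_card_ge hle hcard
  have hmem : (⟨g, hg⟩ : G) ∈ Subgroup.zpowers D.x₀ := by
    rw [heq, mem_stabilizer_iff]; exact hga
  rw [← mem_powers_iff_mem_zpowers] at hmem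
  obtain ⟨n, hn⟩ := hmem
  refine ⟨n, ?_⟩
  have := congrArg (fun z : G => (z : Perm α)) hn
  simp only [x₀, Subgroup.coe_pow] at this
  exact this.symm

/-- For `d = 1` the group is sharply 2-transitive. -/
theorem sharp_one (D : Data G p 1) (g : Perm α) (hg : g ∈ G) (u v : α) (huv : u ≠ v)
    (hu : g u = u) (hv : g v = v) : g = 1 := by
  haveI := D.htrans
  obtain ⟨t, ht⟩ := exists_smul_eq G u D.a
  have ht' : (t : Perm α) u = D.a := ht
  set g' : Perm α := (t : Perm α) * g * (t : Perm α)⁻¹ with hg'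
  have hg'G : g' ∈ G := G.mul_mem (G.mul_mem t.2 hg) (G.inv_mem t.2)
  have hg'a : g' D.a = D.a := by
    rw [hg', Perm.mul_apply, Perm.mul_apply, ← ht', inv_apply_self', hu]
  have htv : (t : Perm α) v ≠ D.a := by
    rw [← ht']; intro h; exact huv ((t : Perm α).injective h).symm
  obtain ⟨i, hi⟩ := D.hcov _ htv
  have hg'i : g' (D.j i) = D.j i := by
    rw [hg', Perm.mul_apply, Perm.mul_apply, hi, inv_apply_self', hv]
  obtain ⟨n, hn⟩ := D.stab_one g' hg'G hg'a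
  rw [hn, pow_apply_j D.x D.j D.hxj] at hg'i
  have h0 : (n : ZMod p) = 0 := by
    have := D.hj hg'i
    linear_combination this
  rw [← pow_eq_one_iff D.x D.hx] at h0
  rw [h0] at hn
  have : g = (t : Perm α)⁻¹ * g' * (t : Perm α) := by rw [hg']; group
  rw [this, hn]; group

end Data

/-- Conjugation invariance of the commutator subgroup. -/
theorem commutator_conj_mem (Γ G : Subgroup (Perm α))
    (hΓ : ∀ γ ∈ Γ, ∀ g ∈ G, γ * g * γ⁻¹ ∈ G) :
    ∀ γ ∈ Γ, ∀ h ∈ ⁅G, G⁆, γ * h * γ⁻¹ ∈ ⁅G, G⁆ := by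
  intro γ hγ h hh
  have h1 : (⁅G, G⁆).map (MulAut.conj γ).toMonoidHom ≤ ⁅G, G⁆ := by
    rw [Subgroup.map_commutator]
    have h2 : G.map (MulAut.conj γ).toMonoidHom ≤ G := by
      rintro _ ⟨g, hg, rfl⟩
      exact hΓ γ hγ g hg
    exact Subgroup.commutator_mono h2 h2
  have : γ * h * γ⁻¹ = (MulAut.conj γ).toMonoidHom h := by simp [MulAut.conj_apply]
  rw [this]; exact h1 (Subgroup.mem_map_of_mem _ hh)

namespace Data

/-- If `d ≥ 2` then `x` is a commutator. -/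
theorem x_mem_commutator (D : Data G p d) (hd2 : 2 ≤ d) : D.x ∈ ⁅G, G⁆ := by
  have hnle : ¬ (stabilizer G D.a ≤ Subgroup.zpowers D.x₀) := by
    intro hle
    have := Subgroup.card_le_of_le hle
    rw [D.stab_card, D.card_zpowers_x₀] at this
    have hp0 := hp.out.pos
    nlinarith
  obtain ⟨g, hgs, hgz⟩ := SetLike.not_le_iff_exists.mp hnle
  have hga : (g : Perm α) D.a = D.a := hgs
  obtain ⟨k, hk⟩ := D.stab_normalizes g g.2 hga
  set y : Perm α := D.x ^ k * D.x⁻¹ with hy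
  have hyC : y ∈ ⁅G, G⁆ := by
    have := Subgroup.commutator_mem_commutator g.2 D.hxG
    rw [commutatorElement_def, hk] at this
    exact this
  have hy1 : y ≠ 1 := by
    intro h1
    have hxk : D.x ^ k = D.x := by
      have : D.x ^ k = y * D.x := by rw [hy]; group
      rw [this, h1, one_mul]
    rw [hxk] at hk
    apply hgz
    rw [← D.centralizer_eq, Subgroup.mem_centralizer_iff]
    have hcomm : Commute g D.x₀ := by
      show g * D.x₀ = D.x₀ * g
      apply Subtype.ext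
      show (g : Perm α) * D.x = D.x * (g : Perm α)
      conv_rhs => rw [← hk]
      group
    intro h hh
    obtain ⟨n, rfl⟩ := Subgroup.mem_zpowers_iff.mp hh
    exact ((hcomm.zpow_right n).eq).symm
  have hyz : y ∈ Subgroup.zpowers D.x :=
    Subgroup.mul_mem _ (Subgroup.pow_mem _ (Subgroup.mem_zpowers _) _)
      (Subgroup.inv_mem _ (Subgroup.mem_zpowers _))
  have hcard : Nat.card (Subgroup.zpowers D.x) = p := by rw [Nat.card_zpowers, D.hx]
  have hz1 : (⟨y, hyz⟩ : Subgroup.zpowers D.x) ≠ 1 := by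
    intro h
    apply hy1
    exact congrArg Subtype.val h
  have hmem : (⟨D.x, Subgroup.mem_zpowers _⟩ : Subgroup.zpowers D.x) ∈
      Subgroup.zpowers (⟨y, hyz⟩ : Subgroup.zpowers D.x) :=
    mem_zpowers_of_prime_card hcard hz1
  obtain ⟨n, hn⟩ := Subgroup.mem_zpowers_iff.mp hmem
  have hn' : y ^ n = D.x := by
    have := congrArg Subtype.val hn
    simpa using this
  rw [← hn']
  exact Subgroup.zpow_mem _ hyC n

theorem hasNS2_of_le_index (D : Data G p d) (Γ : Subgroup (Perm α)) (hGΓ : G ≤ Γ)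
    (hΓ : ∀ γ ∈ Γ, ∀ g ∈ G, γ * g * γ⁻¹ ∈ G) (hd : d ≤ (commutator G).index) :
    HasNS2 Γ G := by
  by_cases hd1 : d = 1
  · subst hd1
    refine ⟨G, le_refl _, hΓ, D.two_trans, ?_⟩
    intro g u v huv hu hv
    apply Subtype.ext
    exact D.sharp_one g g.2 u v huv hu hv
  · have hd2 : 2 ≤ d := by have := D.hd0; omega
    have hxC : D.x ∈ ⁅G, G⁆ := D.x_mem_commutator hd2
    have hCG : ⁅G, G⁆ ≤ G := Subgroup.commutator_le.mpr (fun g₁ h₁ g₂ h₂ =>
      G.mul_mem (G.mul_mem (G.mul_mem h₁ h₂) (G.inv_mem h₁)) (G.inv_mem h₂))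
    have hCn := commutator_conj_mem Γ G hΓ
    have htr := D.trans_of_normal_mem ⁅G, G⁆ (fun g hg => hCn g (hGΓ hg)) hxC
    have htrans : IsPretransitive (⁅G, G⁆ : Subgroup (Perm α)) α := by
      refine ⟨fun u v => ?_⟩
      obtain ⟨n₁, hn₁, hn₁u⟩ := htr u
      obtain ⟨n₂, hn₂, hn₂v⟩ := htr v
      refine ⟨⟨n₂⁻¹ * n₁, Subgroup.mul_mem _ (Subgroup.inv_mem _ hn₂) hn₁⟩, ?_⟩
      show (n₂⁻¹ * n₁) u = v
      rw [Perm.mul_apply, hn₁u, ← hn₂v, inv_apply_self']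
    have hcard : Nat.card (⁅G, G⁆ : Subgroup (Perm α)) = (p + 1) * p * 1 := by
      have hp2 := hp.out.two_le
      have h1 : Nat.card (⁅G, G⁆ : Subgroup (Perm α)) = Nat.card (commutator G) := by
        rw [← Subgroup.map_subtype_commutator,
          Subgroup.card_map_of_injective (Subgroup.subtype_injective G)]
      have h2 : Nat.card (commutator G) * (commutator G).index = Nat.card G :=
        Subgroup.card_mul_index _
      rw [D.hcard, ← h1] at h2
      set c := Nat.card (⁅G, G⁆ : Subgroup (Perm α)) with hc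
      have hcpos : 0 < c := Nat.card_pos
      have hle : c ≤ (p + 1) * p := by
        have : c * d ≤ (p + 1) * p * d := by
          rw [← h2]; exact Nat.mul_le_mul_left c hd
        exact Nat.le_of_mul_le_mul_right this D.hd0
      have hdvd1 : (p + 1) ∣ c := by
        have h3 : (stabilizer (⁅G, G⁆ : Subgroup (Perm α)) D.a).index = p + 1 := by
          rw [MulAction.index_stabilizer_of_transitive, Nat.card_eq_fintype_card, D.hα]
        rw [← h3]
        exact Subgroup.index_dvd_card _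
      have hdvd2 : p ∣ c := by
        have h4 : orderOf (⟨D.x, hxC⟩ : (⁅G, G⁆ : Subgroup (Perm α))) = p := by
          have := Subgroup.orderOf_coe (⟨D.x, hxC⟩ : (⁅G, G⁆ : Subgroup (Perm α)))
          rw [← this]
          exact D.hx
        rw [← h4]
        exact orderOf_dvd_natCard _
      have hcop : Nat.Coprime (p + 1) p := by
        rw [Nat.coprime_comm]
        simp
      have hdvd : (p + 1) * p ∣ c := hcop.mul_dvd_of_dvd_of_dvd hdvd1 hdvd2
      have := Nat.le_of_dvd hcpos hdvd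
      omega
    let D' : Data (⁅G, G⁆ : Subgroup (Perm α)) p 1 :=
      ⟨D.x, D.a, D.j, hxC, D.hx, D.hxa, D.hj, D.hja, D.hcov, D.hxj, hcard, one_pos,
        hp.out.one_lt, htrans, D.hα⟩
    refine ⟨⁅G, G⁆, hCG, hCn, D'.two_trans, ?_⟩
    intro g u v huv hu hv
    apply Subtype.ext
    exact D'.sharp_one g g.2 u v huv hu hv

end Data

/-- The subgroup `N ⟨x⟩`. -/
def prodSub (N : Subgroup (Perm α)) (x : Perm α)
    (hZ : ∀ k : ℤ, ∀ n ∈ N, x ^ k * n * (x ^ k)⁻¹ ∈ N) : Subgroup (Perm α) where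
  carrier := {g | ∃ n ∈ N, ∃ k : ℤ, g = n * x ^ k}
  mul_mem' := by
    rintro _ _ ⟨n, hn, k, rfl⟩ ⟨n', hn', k', rfl⟩
    refine ⟨n * (x ^ k * n' * (x ^ k)⁻¹), N.mul_mem hn (hZ k n' hn'), k + k', ?_⟩
    rw [zpow_add]; group
  one_mem' := ⟨1, N.one_mem, 0, by simp⟩
  inv_mem' := by
    rintro _ ⟨n, hn, k, rfl⟩
    refine ⟨x ^ (-k) * n⁻¹ * (x ^ (-k))⁻¹, hZ (-k) _ (N.inv_mem hn), -k, ?_⟩
    group

theorem mem_prodSub (N : Subgroup (Perm α)) (x : Perm α)
    (hZ : ∀ k : ℤ, ∀ n ∈ N, x ^ k * n * (x ^ k)⁻¹ ∈ N) (g : Perm α) :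
    g ∈ prodSub N x hZ ↔ ∃ n ∈ N, ∃ k : ℤ, g = n * x ^ k := Iff.rfl

namespace Data

/-- A regular normal subgroup gives a normal sharply 2-transitive subgroup. -/
theorem hasNS2_of_regular (D : Data G p d) (N : Subgroup (Perm α)) (hNG : N ≤ G)
    (hnorm : ∀ g ∈ G, ∀ h ∈ N, g * h * g⁻¹ ∈ N) (htr : ∀ u : α, ∃ n ∈ N, n u = D.a)
    (hreg : ∀ n ∈ N, n D.a = D.a → n = 1) : HasNS2 G G := by
  have hZ : ∀ k : ℤ, ∀ n ∈ N, D.x ^ k * n * (D.x ^ k)⁻¹ ∈ N :=
    fun k n hn => hnorm (D.x ^ k) (G.zpow_mem D.hxG k) n hn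
  set D₁ := prodSub N D.x hZ with hD₁
  have hND : N ≤ D₁ := by
    intro n hn
    exact ⟨n, hn, 0, by simp⟩
  have hxD : D.x ∈ D₁ := ⟨1, N.one_mem, 1, by simp⟩
  have hDG : D₁ ≤ G := by
    rintro _ ⟨n, hn, k, rfl⟩
    exact G.mul_mem (hNG hn) (G.zpow_mem D.hxG k)
  have hnat : ∀ k : ℤ, ∃ m : ℕ, D.x ^ m = D.x ^ k := by
    intro k
    have h1 : D.x ^ k ∈ Subgroup.zpowers D.x := ⟨k, rfl⟩
    rw [← mem_powers_iff_mem_zpowers] at h1
    exact h1
  refine ⟨D₁, hDG, ?_, ?_, ?_⟩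
  · -- normality
    intro g hg h hh
    obtain ⟨n, hn, k, rfl⟩ := hh
    have e1 : g * (n * D.x ^ k) * g⁻¹ = (g * n * g⁻¹) * (g * D.x ^ k * g⁻¹) := by group
    rw [e1]
    refine D₁.mul_mem (hND (hnorm g hg n hn)) ?_
    obtain ⟨m', hm'N, hm'⟩ := htr (g D.a)
    set g' : Perm α := m' * g with hg'
    have hg'G : g' ∈ G := G.mul_mem (hNG hm'N) hg
    have hg'a : g' D.a = D.a := by rw [hg', Perm.mul_apply, hm']
    obtain ⟨k₁, hk₁⟩ := D.stab_normalizes g' hg'G hg'a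
    have e2 : g * D.x ^ k * g⁻¹ = m'⁻¹ * (g' * D.x * g'⁻¹) ^ k * m' := by
      rw [conj_zpow, hg']; group
    rw [e2, hk₁]
    exact D₁.mul_mem (D₁.mul_mem (D₁.inv_mem (hND hm'N)) (D₁.zpow_mem (D₁.pow_mem hxD _) _))
      (hND hm'N)
  · -- 2-transitivity
    refine two_trans_of D.x D.a D.j D.hxa D.hcov D.hxj D₁ hxD ?_
    intro u
    obtain ⟨n, hn, hnu⟩ := htr u
    exact ⟨n, hND hn, hnu⟩
  · -- sharpness
    intro g u v huv hu hv
    have hu' : (g : Perm α) u = u := hu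
    have hv' : (g : Perm α) v = v := hv
    obtain ⟨n₀, hn₀N, hn₀⟩ := htr u
    set g' : Perm α := n₀ * (g : Perm α) * n₀⁻¹ with hg'
    have hg'D : g' ∈ D₁ := D₁.mul_mem (D₁.mul_mem (hND hn₀N) g.2) (D₁.inv_mem (hND hn₀N))
    have hg'a : g' D.a = D.a := by
      rw [hg', Perm.mul_apply, Perm.mul_apply, ← hn₀, inv_apply_self', hu']
    have hnv : n₀ v ≠ D.a := by
      rw [← hn₀]; intro h; exact huv (n₀.injective h).symm
    obtain ⟨i, hi⟩ := D.hcov _ hnv
    have hg'i : g' (D.j i) = D.j i := by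
      rw [hg', Perm.mul_apply, Perm.mul_apply, hi, inv_apply_self', hv']
    obtain ⟨n, hn, k, hk⟩ := hg'D
    obtain ⟨m, hm⟩ := hnat k
    rw [← hm] at hk
    have hna : n D.a = D.a := by
      have := hg'a
      rw [hk, Perm.mul_apply, pow_apply_a D.x D.a D.hxa] at this
      exact this
    have hn1 := hreg n hn hna
    rw [hn1, one_mul] at hk
    rw [hk, pow_apply_j D.x D.j D.hxj] at hg'i
    have h0 : (m : ZMod p) = 0 := by
      have := D.hj hg'i
      linear_combination this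
    rw [← pow_eq_one_iff D.x D.hx] at h0
    rw [h0] at hk
    apply Subtype.ext
    have : (g : Perm α) = n₀⁻¹ * g' * n₀ := by rw [hg']; group
    rw [this, hk]
    simp

/-- A normal subgroup of index `m ∣ d`, `m ≥ 2`, gives a normal sharply 2-transitive subgroup
(when `2 d ≤ p - 1`). -/
theorem hasNS2_of_normal_index (D : Data G p d) (hodd : p ≠ 2) (N : Subgroup G) (hN : N.Normal)
    (m : ℕ) (hm : 2 ≤ m) (hidx : N.index = m) (hmd : m ∣ d) (h2d : 2 * d ≤ p - 1) :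
    HasNS2 G G := by
  have hp2 := hp.out.two_le
  set N' : Subgroup (Perm α) := N.map G.subtype with hN'
  have hN'G : N' ≤ G := Subgroup.map_subtype_le N
  have hnorm' : ∀ g ∈ G, ∀ h ∈ N', g * h * g⁻¹ ∈ N' := by
    rintro g hg _ ⟨h₀, hh₀, rfl⟩
    refine ⟨⟨g, hg⟩ * h₀ * ⟨g, hg⟩⁻¹, hN.conj_mem h₀ hh₀ _, rfl⟩
  -- `x ∈ N`
  have hd0 := D.hd0
  have hdp := D.hdp
  have hmp : m < p := lt_of_le_of_lt (Nat.le_of_dvd hd0 hmd) hdp
  have hcop : Nat.Coprime m p := by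
    apply Nat.Coprime.symm
    rw [Nat.Prime.coprime_iff_not_dvd hp.out]
    intro h
    have := Nat.le_of_dvd (by omega) h
    omega
  obtain ⟨u, -, hu⟩ := Nat.exists_mul_mod_eq_one_of_coprime hcop hp.out.one_lt
  have hx₀N : D.x₀ ∈ N := by
    haveI := hN
    have h1 : D.x₀ ^ m ∈ N := by rw [← hidx]; exact N.pow_index_mem D.x₀
    have h2 : (D.x₀ ^ m) ^ u = D.x₀ := by
      rw [← pow_mul, ← pow_mod_orderOf, D.orderOf_x₀, hu, pow_one]
    rw [← h2]
    exact N.pow_mem h1 u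
  have hxN' : D.x ∈ N' := ⟨D.x₀, hx₀N, rfl⟩
  obtain ⟨d₁, rfl⟩ := hmd
  have hd₁0 : 0 < d₁ := by
    rcases Nat.eq_zero_or_pos d₁ with h | h
    · rw [h, mul_zero] at hd0; omega
    · exact h
  have hcard : Nat.card N' = (p + 1) * p * d₁ := by
    have h1 : Nat.card N' = Nat.card N :=
      Subgroup.card_map_of_injective (Subgroup.subtype_injective G)
    have h2 := N.card_mul_index
    rw [hidx, D.hcard, ← h1] at h2
    have h3 : Nat.card N' * m = ((p + 1) * p * d₁) * m := by rw [h2]; ring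
    exact Nat.eq_of_mul_eq_mul_right (by omega) h3
  have htr := D.trans_of_normal_mem N' hnorm' hxN'
  have htrans : IsPretransitive N' α := by
    refine ⟨fun u v => ?_⟩
    obtain ⟨n₁, hn₁, hn₁u⟩ := htr u
    obtain ⟨n₂, hn₂, hn₂v⟩ := htr v
    refine ⟨⟨n₂⁻¹ * n₁, Subgroup.mul_mem _ (Subgroup.inv_mem _ hn₂) hn₁⟩, ?_⟩
    show (n₂⁻¹ * n₁) u = v
    rw [Perm.mul_apply, hn₁u, ← hn₂v, inv_apply_self']
  have hd₁p : d₁ < p := by nlinarith
  let D' : Data N' p d₁ :=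
    ⟨D.x, D.a, D.j, hxN', D.hx, D.hxa, D.hj, D.hja, D.hcov, D.hxj, hcard, hd₁0, hd₁p, htrans, D.hα⟩
  have hdich := D'.dichotomy hodd
  have hge : 2 * d₁ ≤ m * d₁ := Nat.mul_le_mul_right d₁ hm
  rcases hdich with h | h | h
  · omega
  · omega
  · obtain ⟨D₁, hD₁N, hD₁n, h2t, hs⟩ := D'.hasNS2_of_le_index G hN'G hnorm' h
    exact ⟨D₁, hD₁N.trans hN'G, hD₁n, h2t, hs⟩

/-- The semi-affine conclusion. -/
theorem third_of_hasNS2 (D : Data G p d) (hodd : p ≠ 2) (h : HasNS2 G G) :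
    ∃ q : ℕ, q.Prime ∧ p + 1 = 2 ^ q ∧ (d = 1 ∨ d = q) ∧ ∃ e : α ≃ GaloisField 2 q,
      ∀ g : G, (e.symm.trans (((g : Equiv.Perm α)).trans e)) ∈
        Cfsg.semiaffineGroup (GaloisField 2 q) := by
  obtain ⟨D₁, hDG, hnorm, h2t, hs⟩ := h
  obtain ⟨q, hq, hpq, e, he, hdd⟩ :=
    P1Affine.semiaffine_of_normal_sharp2 hp.out hodd D.hα G D₁ hDG hnorm h2t hs
  refine ⟨q, hq, hpq, ?_, e, fun g => he g g.2⟩
  exact (Nat.dvd_prime hq).mp (hdd d D.hcard)

end Data

end Cfsg.Agent.Helper4.P1Perm
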