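import Mathlib
import Cfsg.Prelude.Def_LieExceptional
import Cfsg.Agent.Helper4.P1Reg
import Cfsg.Agent.Helper17.Basic

/-!
# Transitive groups of degree `p + 1` and order `(p + 1) p d`, `2 d = p - 1`: Zassenhaus property
-/

set_option autoImplicit false
set_option linter.unusedSectionVars false
set_option linter.style.haveILetI false

namespace Cfsg.Agent.Helper4.P1Perm

open Equiv MulAction

variable {α : Type*} [Fintype α] [DecidableEq α] {G : Subgroup (Perm α)} {p d : ℕ}
  [hp : Fact p.Prime]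

namespace Data

theorem conj_mem_self (G : Subgroup (Perm α)) : ∀ γ ∈ G, ∀ g ∈ G, γ * g * γ⁻¹ ∈ G :=
  fun γ hγ g hg => G.mul_mem (G.mul_mem hγ hg) (G.inv_mem hγ)

/-- Without a normal sharply 2-transitive subgroup, `d ≥ 2`. -/
theorem two_le_d (D : Data G p d) (hR : ¬ HasNS2 G G) : 2 ≤ d := by
  by_contra hlt
  have hd1 : d = 1 := by have := D.hd0; omega
  apply hR
  refine D.hasNS2_of_le_index G le_rfl (conj_mem_self G) ?_
  rw [hd1]
  exact Nat.pos_of_ne_zero Subgroup.index_ne_zero_of_finite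

/-- The two-point stabiliser has order `d`. -/
theorem card_two_stab (D : Data G p d) :
    Nat.card ↥(stabilizer G D.a ⊓ stabilizer G (D.j 0)) = d := by
  have h := Cfsg.Agent.Helper17.card_orbitSet_mul_card_inf_stabilizer (stabilizer G D.a) (D.j 0)
  have hset : {u : α | ∃ s ∈ stabilizer G D.a, s • D.j 0 = u} = Set.range D.j := by
    ext u
    constructor
    · rintro ⟨s, hs, rfl⟩
      have hsa : (s : Perm α) D.a = D.a := hs
      have hne : (s : Perm α) (D.j 0) ≠ D.a := by
        intro h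
        rw [← hsa] at h
        exact D.hja 0 ((s : Perm α).injective h)
      obtain ⟨i, hi⟩ := D.hcov _ hne
      exact ⟨i, hi⟩
    · rintro ⟨i, rfl⟩
      refine ⟨⟨D.x ^ i.val, D.pow_mem _⟩, ?_, ?_⟩
      · rw [mem_stabilizer_iff]
        exact pow_apply_a D.x D.a D.hxa _
      · show (D.x ^ i.val) (D.j 0) = D.j i
        rw [pow_apply_j D.x D.j D.hxj, ZMod.natCast_zmod_val, zero_add]
  rw [hset, Nat.card_range_of_injective D.hj, Nat.card_zmod, D.stab_card] at h
  exact Nat.eq_of_mul_eq_mul_left hp.out.pos h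

/-- Elements of the two-point stabiliser act by multiplications. -/
theorem two_stab_mult (D : Data G p d) (g : Perm α) (hg : g ∈ G) (hga : g D.a = D.a)
    (hg0 : g (D.j 0) = D.j 0) : ∃ κ : ZMod p, κ ≠ 0 ∧ ∀ i, g (D.j i) = D.j (κ * i) := by
  obtain ⟨κ, c, hκ, hgc⟩ := D.stab_affine g hg hga
  have hc : c = 0 := by
    have := hgc 0
    rw [hg0, mul_zero, zero_add] at this
    exact (D.hj this).symm
  refine ⟨κ, hκ, fun i => ?_⟩
  rw [hgc, hc, add_zero]

/-- Powers of an affine map. -/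
theorem affine_pow (D : Data G p d) (g : Perm α) (κ c : ZMod p)
    (hgc : ∀ i, g (D.j i) = D.j (κ * i + c)) (n : ℕ) :
    ∃ c' : ZMod p, ∀ i, (g ^ n) (D.j i) = D.j (κ ^ n * i + c') := by
  induction n with
  | zero => exact ⟨0, fun i => by simp⟩
  | succ n ih =>
    obtain ⟨c', hc'⟩ := ih
    refine ⟨κ * c' + c, fun i => ?_⟩
    rw [pow_succ', Perm.mul_apply, hc', hgc]
    congr 1
    ring

/-- The multiplier of an element of the point stabiliser is a `d`-th root of unity. -/
theorem mult_pow_d (D : Data G p d) (g : Perm α) (hg : g ∈ G) (hga : g D.a = D.a)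
    (κ c : ZMod p) (hgc : ∀ i, g (D.j i) = D.j (κ * i + c)) : κ ^ d = 1 := by
  have h1 : (⟨⟨g, hg⟩, hga⟩ : stabilizer G D.a) ^ (p * d) = 1 := by
    rw [← D.stab_card]; exact pow_card_eq_one'
  have h2 : g ^ (p * d) = 1 := by
    have := congrArg (fun z : stabilizer G D.a => ((z : G) : Perm α)) h1
    simpa using this
  obtain ⟨c', hc'⟩ := D.affine_pow g κ c hgc (p * d)
  rw [h2] at hc'
  have e0 := D.hj (hc' 0)
  have e1 := D.hj (hc' 1)
  simp only [Perm.coe_one, id_eq, mul_zero, zero_add, mul_one] at e0 e1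
  have h3 : κ ^ (p * d) = 1 := by
    rw [← e0, add_zero] at e1
    exact e1.symm
  rw [pow_mul, ZMod.pow_card] at h3
  exact h3

/-- Every `d`-th root of unity is the multiplier of an element of the two-point stabiliser. -/
theorem exists_mult (D : Data G p d) (κ : ZMod p) (hκ : κ ^ d = 1) :
    ∃ h ∈ G, h D.a = D.a ∧ ∀ i, h (D.j i) = D.j (κ * i) := by
  classical
  have hd0 := D.hd0
  set H : Subgroup G := stabilizer G D.a ⊓ stabilizer G (D.j 0) with hH
  have hex : ∀ h : H, ∃ μ : ZMod p, μ ^ d = 1 ∧ ∀ i, ((h : G) : Perm α) (D.j i) = D.j (μ * i) := by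
    intro h
    have hha : ((h : G) : Perm α) D.a = D.a := h.2.1
    have hh0 : ((h : G) : Perm α) (D.j 0) = D.j 0 := h.2.2
    obtain ⟨μ, -, hμ⟩ := D.two_stab_mult _ (h : G).2 hha hh0
    refine ⟨μ, ?_, hμ⟩
    exact D.mult_pow_d _ (h : G).2 hha μ 0 (fun i => by rw [hμ, add_zero])
  choose f hf1 hf2 using hex
  let T := ↥(Polynomial.nthRootsFinset d (1 : ZMod p))
  let F : H → T := fun h => ⟨f h, (Polynomial.mem_nthRootsFinset hd0 _).mpr (hf1 h)⟩
  have hinj : Function.Injective F := by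
    intro h h' hhh'
    have hff : f h = f h' := congrArg Subtype.val hhh'
    apply Subtype.ext
    apply Subtype.ext
    ext y
    rcases D.pts y with rfl | ⟨i, rfl⟩
    · have hha : ((h : G) : Perm α) D.a = D.a := h.2.1
      have hha' : ((h' : G) : Perm α) D.a = D.a := h'.2.1
      rw [hha, hha']
    · rw [hf2, hf2, hff]
  have hcardT : Nat.card T ≤ Nat.card H := by
    rw [hH, D.card_two_stab, Nat.card_eq_fintype_card, Fintype.card_coe]
    calc (Polynomial.nthRootsFinset d (1 : ZMod p)).card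
        ≤ Multiset.card (Polynomial.nthRoots d (1 : ZMod p)) := by
          rw [Polynomial.nthRootsFinset_def]
          exact Multiset.toFinset_card_le _
      _ ≤ d := Polynomial.card_nthRoots d 1
  have hbij := hinj.bijective_of_nat_card_le hcardT
  obtain ⟨h, hh⟩ := hbij.2 ⟨κ, (Polynomial.mem_nthRootsFinset hd0 _).mpr hκ⟩
  have hfk : f h = κ := congrArg Subtype.val hh
  refine ⟨((h : G) : Perm α), (h : G).2, h.2.1, fun i => ?_⟩
  rw [hf2, hfk]

/-- Without a normal sharply 2-transitive subgroup, the group is a Zassenhaus group. -/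
theorem isZassenhaus (D : Data G p d) (hR : ¬ HasNS2 G G) : Cfsg.IsZassenhausGroup G α := by
  have hd2 := D.two_le_d hR
  refine ⟨inferInstance, D.two_trans, ?_, ?_, ?_⟩
  · intro g a b c hab hbc hac ha hb hc
    apply Subtype.ext
    exact D.eq_one_of_fix_three g g.2 a b c hab hac hbc ha hb hc
  · have hcard := D.card_two_stab
    have : Nontrivial ↥(stabilizer G D.a ⊓ stabilizer G (D.j 0)) := by
      rw [← Finite.one_lt_card_iff_nontrivial, hcard]; omega
    obtain ⟨h, hh⟩ := exists_ne (1 : ↥(stabilizer G D.a ⊓ stabilizer G (D.j 0)))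
    exact ⟨(h : G), fun h1 => hh (Subtype.ext h1), D.a, D.j 0, (D.hja 0).symm, h.2.1, h.2.2⟩
  · intro N hN htr
    by_contra hall
    push_neg at hall
    apply hR
    refine D.hasNS2_of_regular (N.map G.subtype) (Subgroup.map_subtype_le N) ?_ ?_ ?_
    · rintro g hg _ ⟨h₀, hh₀, rfl⟩
      exact ⟨⟨g, hg⟩ * h₀ * ⟨g, hg⟩⁻¹, hN.conj_mem h₀ hh₀ _, rfl⟩
    · intro u
      obtain ⟨n, hn⟩ := htr.exists_smul_eq u D.a
      exact ⟨((n : G) : Perm α), ⟨(n : G), n.2, rfl⟩, hn⟩
    · rintro _ ⟨n₀, hn₀, rfl⟩ hfix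
      have hmem : (⟨n₀, hn₀⟩ : N) ∈ stabilizer N D.a := by
        rw [mem_stabilizer_iff]
        exact hfix
      rw [hall D.a, Subgroup.mem_bot] at hmem
      have h1 : n₀ = 1 := congrArg Subtype.val hmem
      rw [h1]
      rfl

end Data

end Cfsg.Agent.Helper4.P1Perm
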