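import Mathlib
import Cfsg.Agent.Helper4.P1Zass
import Cfsg.Agent.Helper4.P1Congr
import Cfsg.Agent.Helper4.RecogPSL2
import Cfsg.Agent.S0742
import Cfsg.Agent.S0739
import Cfsg.Agent.S0740

/-!
# Transitive groups of degree `p + 1` and order `(p + 1) p d`, `2 d = p - 1`: `PSL(2, p)`
-/

set_option autoImplicit false
set_option linter.unusedSectionVars false
set_option linter.style.haveILetI false

namespace Cfsg.Agent.Helper4.P1Perm

open Equiv MulAction

variable {α : Type*} [Fintype α] [DecidableEq α] {G : Subgroup (Perm α)} {p d : ℕ}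
  [hp : Fact p.Prime]

namespace Data

/-- The even case, via the Zassenhaus theorem. -/
theorem psl_of_even (D : Data G p d) (h2d : 2 * d = p - 1) (hR : ¬ HasNS2 G G) (hev : Even d) :
    Nonempty (G ≃* Matrix.ProjectiveSpecialLinearGroup (Fin 2) (ZMod p)) := by
  have hZ := D.isZassenhaus hR
  have hab : D.a ≠ D.j 0 := (D.hja 0).symm
  have hcard := D.card_two_stab
  have hp2 := hp.out.two_le
  obtain ⟨p', f, K, hK, hKt, hp', hp'2, hKc, hαc, ⟨e⟩⟩ :=
    Cfsg.Agent.S0742.result hZ hab (by rw [hcard]; exact hev) (by rw [hcard, D.hα]; omega)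
  have hKp : Fintype.card K = p := by rw [hKc]; rw [D.hα] at hαc; omega
  let ρ : ZMod p ≃+* K := ZMod.ringEquivOfPrime K hp.out hKp
  exact ⟨e.trans (P1Congr.pslCongr ρ.symm)⟩

/-- The hypothesis of `S0739`: no normal `q`-complements. -/
theorem no_normal_compl (D : Data G p d) (hodd : p ≠ 2) (h2d : 2 * d = p - 1)
    (hR : ¬ HasNS2 G G) (hdo : Odd d) (q : ℕ) (hq : q.Prime) (hqd : q ∣ d) :
    ¬ ∃ N : Subgroup G, N.Normal ∧ N.index = q ^ (Nat.card G).factorization q := by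
  rintro ⟨N, hN, hidx⟩
  apply hR
  have hp2 := hp.out.two_le
  have hd0 := D.hd0
  have hdp := D.hdp
  have hq2 : q ≠ 2 := by
    rintro rfl
    exact (Nat.not_even_iff_odd.mpr hdo) (even_iff_two_dvd.mpr hqd)
  have hqp1 : ¬ q ∣ p + 1 := by
    intro h
    have h1 : q ∣ p - 1 := by rw [← h2d]; exact Dvd.dvd.mul_left hqd 2
    have h2 : q ∣ (p + 1) - (p - 1) := Nat.dvd_sub h h1
    have h3 : (p + 1) - (p - 1) = 2 := by omega
    rw [h3] at h2
    exact hq2 ((Nat.prime_dvd_prime_iff_eq hq Nat.prime_two).mp h2)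
  have hqp : ¬ q ∣ p := by
    intro h
    have h1 := (Nat.prime_dvd_prime_iff_eq hq hp.out).mp h
    have h2 := Nat.le_of_dvd hd0 hqd
    omega
  have hfac : (Nat.card G).factorization q = d.factorization q := by
    rw [D.hcard, Nat.factorization_mul (by positivity) hd0.ne',
      Nat.factorization_mul (by omega) hp.out.ne_zero]
    simp [Nat.factorization_eq_zero_of_not_dvd hqp1, Nat.factorization_eq_zero_of_not_dvd hqp]
  rw [hfac] at hidx
  have hmd : q ^ d.factorization q ∣ d := Nat.ordProj_dvd d q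
  have hk : 0 < d.factorization q := hq.factorization_pos_of_dvd hd0.ne' hqd
  have hm : 2 ≤ q ^ d.factorization q := by
    calc 2 ≤ q := hq.two_le
      _ = q ^ 1 := (pow_one q).symm
      _ ≤ q ^ d.factorization q := Nat.pow_le_pow_right hq.pos hk
  exact D.hasNS2_of_normal_index hodd N hN _ hm hidx hmd (by omega)

/-- The odd case, by direct recognition. -/
theorem psl_of_odd (D : Data G p d) (hodd : p ≠ 2) (h2d : 2 * d = p - 1)
    (hR : ¬ HasNS2 G G) (hdo : Odd d) :
    Nonempty (G ≃* Matrix.ProjectiveSpecialLinearGroup (Fin 2) (ZMod p)) := by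
  classical
  have hZ := D.isZassenhaus hR
  have hab : D.a ≠ D.j 0 := (D.hja 0).symm
  have hcard := D.card_two_stab
  have hp2 := hp.out.two_le
  have hd0 := D.hd0
  have hpd : p / 2 = d := by omega
  have hnil : ∀ q : ℕ, q.Prime → q ∣ Nat.card ↥(stabilizer G D.a ⊓ stabilizer G (D.j 0)) →
      ¬ ∃ N : Subgroup G, N.Normal ∧ N.index = q ^ (Nat.card G).factorization q := by
    intro q hq hqd
    rw [hcard] at hqd
    exact D.no_normal_compl hodd h2d hR hdo q hq hqd
  obtain ⟨-, -, hinv⟩ := Cfsg.Agent.S0739.result hZ hab (by rw [hcard]; exact hdo) hnil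
  obtain ⟨⟨s, hs2, hsa, hsb⟩, -, -⟩ := Cfsg.Agent.S0740.result hZ hab
  set σ : Perm α := (s : Perm α) with hσ
  have hσG : σ ∈ G := s.2
  have hσa : σ D.a = D.j 0 := hsa
  have hσ0 : σ (D.j 0) = D.a := hsb
  have hσsq : σ ^ 2 = 1 := by
    have h1 : s ^ 2 = 1 := by rw [← hs2]; exact pow_orderOf_eq_one s
    have := congrArg (fun z : G => (z : Perm α)) h1
    simpa using this
  have hσσ : ∀ y, σ (σ y) = y := by
    intro y
    have := congrArg (fun f : Perm α => f y) hσsq
    simpa [pow_two] using this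
  have h2ne : (2 : ZMod p) ≠ 0 := by
    intro h
    have h' : ((2 : ℕ) : ZMod p) = 0 := by exact_mod_cast h
    rw [ZMod.natCast_eq_zero_iff] at h'
    exact hodd ((Nat.prime_dvd_prime_iff_eq hp.out Nat.prime_two).mp h')
  have hneg1 : (-1 : ZMod p) ^ d = -1 := hdo.neg_one_pow
  have hroot0 : ∀ κ : ZMod p, κ ^ d = 1 → κ ≠ 0 := by
    rintro κ hκ rfl
    rw [zero_pow hd0.ne'] at hκ
    exact zero_ne_one hκ
  -- the key relation
  have hK : ∀ κ : ZMod p, κ ^ d = 1 → ∀ i t, σ (D.j i) = D.j t →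
      σ (D.j (κ * i)) = D.j (κ⁻¹ * t) := by
    intro κ hκ i t hit
    obtain ⟨h, hhG, hha, hhj⟩ := D.exists_mult κ hκ
    have hκ0 := hroot0 κ hκ
    have hh0 : h (D.j 0) = D.j 0 := by rw [hhj, mul_zero]
    have hmem : (⟨h, hhG⟩ : G) ∈ stabilizer G D.a ⊓ stabilizer G (D.j 0) := ⟨hha, hh0⟩
    have h1 := hinv s hsa hsb _ hmem
    have h2 : σ * h * σ⁻¹ = h⁻¹ := by
      have := congrArg (fun z : G => (z : Perm α)) h1
      simpa using this
    have h3 : σ * h = h⁻¹ * σ := by rw [← h2]; group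
    have h4 : σ (h (D.j i)) = h⁻¹ (σ (D.j i)) := by
      have := congrArg (fun f : Perm α => f (D.j i)) h3
      simpa using this
    rw [hhj, hit] at h4
    rw [h4, Perm.inv_eq_iff_eq, hhj, ← mul_assoc, mul_inv_cancel₀ hκ0, one_mul]
  have hτex : ∀ i : ZMod p, ∃ t : ZMod p, i ≠ 0 → (t ≠ 0 ∧ σ (D.j i) = D.j t) := by
    intro i
    by_cases hi : i = 0
    · exact ⟨0, fun h => absurd hi h⟩
    · have h1 : σ (D.j i) ≠ D.a := by
        intro h
        rw [← hσ0] at h
        exact hi (D.hj (σ.injective h))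
      obtain ⟨t, ht⟩ := D.hcov _ h1
      refine ⟨t, fun _ => ⟨?_, ht.symm⟩⟩
      rintro rfl
      rw [← hσa] at ht
      exact D.hja i (σ.injective ht).symm
  choose τ hτ using hτex
  have hK' : ∀ κ : ZMod p, κ ^ d = 1 → ∀ i, i ≠ 0 → τ (κ * i) = κ⁻¹ * τ i := by
    intro κ hκ i hi
    have hκ0 := hroot0 κ hκ
    have h1 := hK κ hκ i (τ i) (hτ i hi).2
    have h2 := (hτ (κ * i) (mul_ne_zero hκ0 hi)).2
    exact D.hj (h2.symm.trans h1)
  -- no fixed points
  have hnofix : ∀ y, σ y ≠ y := by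
    intro y hy
    haveI := D.htrans
    obtain ⟨g, hg⟩ := exists_smul_eq G y D.a
    have hg' : (g : Perm α) y = D.a := hg
    set σ' : Perm α := (g : Perm α) * σ * (g : Perm α)⁻¹ with hσ'
    have hσ'G : σ' ∈ G := G.mul_mem (G.mul_mem g.2 hσG) (G.inv_mem g.2)
    have hσ'a : σ' D.a = D.a := by
      rw [hσ', Perm.mul_apply, Perm.mul_apply, ← hg', inv_apply_self', hy]
    have h1 : (⟨⟨σ', hσ'G⟩, hσ'a⟩ : stabilizer G D.a) ^ (p * d) = 1 := by
      rw [← D.stab_card]; exact pow_card_eq_one'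
    have h2 : (⟨⟨σ', hσ'G⟩, hσ'a⟩ : stabilizer G D.a) ^ 2 = 1 := by
      apply Subtype.ext; apply Subtype.ext
      show σ' ^ 2 = 1
      rw [hσ', conj_pow, hσsq]; group
    have hcop : Nat.Coprime (p * d) 2 := by
      rw [Nat.coprime_two_right]
      exact (hp.out.odd_of_ne_two hodd).mul hdo
    have h3 := (pow_eq_one_iff_of_coprime hcop).mp ⟨h1, h2⟩
    have h4 : σ' = 1 := congrArg (fun z : stabilizer G D.a => ((z : G) : Perm α)) h3
    have h5 : σ = 1 := by
      have : σ = (g : Perm α)⁻¹ * σ' * (g : Perm α) := by rw [hσ']; group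
      rw [this, h4]; group
    rw [h5] at hσa
    exact hab hσa
  have h10 : (1 : ZMod p) ≠ 0 := one_ne_zero
  obtain ⟨hm0, hm⟩ := hτ 1 h10
  set m := τ 1 with hmdef
  have hmd : m ^ d = -1 := by
    rcases ZMod.pow_div_two_eq_neg_one_or_one p hm0 with h | h
    · exfalso
      rw [hpd] at h
      have ⟨e, he⟩ := hdo
      set κ := m ^ (e + 1) with hκdef
      have hκ2 : κ * κ = m := by
        rw [hκdef, ← pow_add]
        have : e + 1 + (e + 1) = d + 1 := by omega
        rw [this, pow_succ, h, one_mul]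
      have hκd : κ ^ d = 1 := by
        rw [hκdef, ← pow_mul, mul_comm, pow_mul, h, one_pow]
      have hκ0 := hroot0 κ hκd
      have h1 := hK' κ hκd 1 h10
      rw [mul_one] at h1
      have h2 : τ κ = κ := by
        rw [h1, ← hmdef, ← hκ2, ← mul_assoc, inv_mul_cancel₀ hκ0, one_mul]
      have h3 := (hτ κ hκ0).2
      rw [h2] at h3
      exact hnofix _ h3
    · rw [hpd] at h; exact h
  set μ : ZMod p := -m with hμdef
  have hμd : μ ^ d = 1 := by rw [hμdef, neg_pow, hneg1, hmd]; ring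
  have hμ0 : μ ≠ 0 := neg_ne_zero.mpr hm0
  have hτm : τ m = 1 := by
    have h1 := (hτ m hm0).2
    have h2 := hσσ (D.j 1)
    rw [hm] at h2
    exact D.hj (h1.symm.trans h2)
  have hne1 : (-1 : ZMod p) ≠ 0 := neg_ne_zero.mpr one_ne_zero
  have hτneg1 : τ (-1) = μ := by
    have h1 := hK' μ hμd (-1) hne1
    have h2 : μ * -1 = m := by rw [hμdef]; ring
    rw [h2, hτm] at h1
    have h3 := congrArg (fun z => μ * z) h1
    simp only [mul_one, mul_inv_cancel_left₀ hμ0] at h3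
    exact h3.symm
  obtain ⟨h, hhG, hha, hhj⟩ := D.exists_mult μ hμd
  set t' : Perm α := σ * h with ht'
  have ht'G : t' ∈ G := G.mul_mem hσG hhG
  have ht'a : t' D.a = D.j 0 := by rw [ht', Perm.mul_apply, hha, hσa]
  have ht'0 : t' (D.j 0) = D.a := by rw [ht', Perm.mul_apply, hhj, mul_zero, hσ0]
  have ht'x : ∀ i : ZMod p, i ≠ 0 → t' (D.j i) = D.j (-i⁻¹) := by
    intro i hi
    rw [ht', Perm.mul_apply, hhj, (hτ (μ * i) (mul_ne_zero hμ0 hi)).2, hK' μ hμd i hi]
    congr 1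
    rcases ZMod.pow_div_two_eq_neg_one_or_one p hi with h1 | h1
    · rw [hpd] at h1
      have h2 := hK' i h1 1 h10
      rw [mul_one] at h2
      rw [h2, ← hmdef, hμdef]
      field_simp
    · rw [hpd] at h1
      have h3 : (-i) ^ d = 1 := by rw [neg_pow, hneg1, h1]; ring
      have h2 := hK' (-i) h3 (-1) hne1
      have h4 : -i * -1 = i := by ring
      rw [h4, hτneg1] at h2
      rw [h2]
      field_simp
  have hB : ∀ g ∈ G, g D.a = D.a → ∃ a' b : ZMod p, a' ≠ 0 ∧ IsSquare a' ∧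
      ∀ x, g (D.j x) = D.j (a' * x + b) := by
    intro g hg hga
    obtain ⟨κ, c, hκ, hgc⟩ := D.stab_affine g hg hga
    refine ⟨κ, c, hκ, ?_, hgc⟩
    rw [ZMod.euler_criterion p hκ, hpd]
    exact D.mult_pow_d g hg hga κ c hgc
  have htrans : ∀ y, y ≠ D.a → ∃ g ∈ G, g D.a = D.a ∧ g (D.j 0) = y := by
    intro y hy
    obtain ⟨i, rfl⟩ := D.hcov y hy
    refine ⟨D.x ^ i.val, D.pow_mem _, pow_apply_a D.x D.a D.hxa _, ?_⟩
    rw [pow_apply_j D.x D.j D.hxj, ZMod.natCast_zmod_val, zero_add]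
  have hcardG : 2 * Nat.card G = Fintype.card (ZMod p) * (Fintype.card (ZMod p) ^ 2 - 1) := by
    rw [ZMod.card, D.hcard]
    obtain ⟨k, hk⟩ : ∃ k, p = k + 1 := ⟨p - 1, by omega⟩
    have hk2 : 2 * d = k := by omega
    have h1 : p ^ 2 - 1 = k * (k + 2) := by
      rw [hk]
      apply Nat.sub_eq_of_eq_add
      ring
    rw [h1]
    calc 2 * ((p + 1) * p * d) = (p + 1) * p * (2 * d) := by ring
      _ = (p + 1) * p * k := by rw [hk2]
      _ = p * (k * (k + 2)) := by rw [hk]; ring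
  exact RecogPSL2.nonempty_mulEquiv_psl G D.a D.j D.hj D.hja D.hcov h2ne hB t' ht'G ht'a ht'0
    ht'x htrans hcardG

end Data

end Cfsg.Agent.Helper4.P1Perm
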