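import Mathlib

set_option autoImplicit false
set_option linter.style.haveILetI false
set_option linter.unusedSectionVars false
set_option linter.unusedVariables false

/-!
# The Coxeter presentation of the symmetric group of degree 4

Three involutions `x, y, z` with `xyx = yxy`, `yzy = zyz`, `xz = zx` generate a group of order at
most 24, and such a triple in any group is the image of the adjacent transpositions of `S₄` under a
homomorphism.
-/

namespace Cfsg.Agent.Helper4.S4Coxeter

section Enum

variable {Γ : Type*} [Group Γ] (x y z : Γ)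

/-- Coset enumeration: every element of the group generated by `x, y, z` has the form `h * t`. -/
theorem coset_enum (hx : x * x = 1) (hy : y * y = 1) (hz : z * z = 1)
    (hxy : x * y * x = y * x * y) (hyz : y * z * y = z * y * z) (hxz : x * z = z * x)
    (g : Γ) (hg : g ∈ Subgroup.closure ({x, y, z} : Set Γ)) :
    ∃ h ∈ ({1, x, y, x * y, y * x, x * y * x} : Set Γ), ∃ t ∈ ({1, z, z * y, z * y * x} : Set Γ),
      g = h * t := by
  have hxi : x⁻¹ = x := inv_eq_of_mul_eq_one_left hx
  have hyi : y⁻¹ = y := inv_eq_of_mul_eq_one_left hy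
  have hzi : z⁻¹ = z := inv_eq_of_mul_eq_one_left hz
  -- cancellation rules
  have cx : ∀ w, x * (x * w) = w := fun w => by rw [← mul_assoc, hx, one_mul]
  have cy : ∀ w, y * (y * w) = w := fun w => by rw [← mul_assoc, hy, one_mul]
  have cz : ∀ w, z * (z * w) = w := fun w => by rw [← mul_assoc, hz, one_mul]
  have bxy : ∀ w, y * (x * (y * w)) = x * (y * (x * w)) := fun w => by
    rw [← mul_assoc, ← mul_assoc, ← hxy]; simp only [mul_assoc]
  have byz : ∀ w, z * (y * (z * w)) = y * (z * (y * w)) := fun w => by
    rw [← mul_assoc, ← mul_assoc, ← hyz]; simp only [mul_assoc]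
  have czx : ∀ w, z * (x * w) = x * (z * w) := fun w => by
    rw [← mul_assoc, ← hxz, mul_assoc]
  -- right multiplication of `H` by `x` and `y`
  have Hx : ∀ h ∈ ({1, x, y, x * y, y * x, x * y * x} : Set Γ),
      h * x ∈ ({1, x, y, x * y, y * x, x * y * x} : Set Γ) := by
    intro h hh
    simp only [Set.mem_insert_iff, Set.mem_singleton_iff] at hh ⊢
    rcases hh with rfl | rfl | rfl | rfl | rfl | rfl
    · right; left; rw [one_mul]
    · left; exact hx
    · right; right; right; right; left; rfl
    · right; right; right; right; right; rfl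
    · right; right; left; rw [mul_assoc, hx, mul_one]
    · right; right; right; left; rw [mul_assoc, hx, mul_one]
  have Hy : ∀ h ∈ ({1, x, y, x * y, y * x, x * y * x} : Set Γ),
      h * y ∈ ({1, x, y, x * y, y * x, x * y * x} : Set Γ) := by
    intro h hh
    simp only [Set.mem_insert_iff, Set.mem_singleton_iff] at hh ⊢
    rcases hh with rfl | rfl | rfl | rfl | rfl | rfl
    · right; right; left; rw [one_mul]
    · right; right; right; left; rfl
    · left; exact hy
    · right; left; rw [mul_assoc, hy, mul_one]
    · right; right; right; right; right; exact hxy.symm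
    · right; right; right; right; left; rw [hxy, mul_assoc, hy, mul_one]
  have key : ∀ g : Γ, g ∈ Subgroup.closure ({x, y, z} : Set Γ) →
      ∃ h ∈ ({1, x, y, x * y, y * x, x * y * x} : Set Γ),
        ∃ t ∈ ({1, z, z * y, z * y * x} : Set Γ), g = h * t := by
    intro g hg
    -- the step: right multiplication by a generator
    have step : ∀ (g : Γ) (w : Γ), w ∈ ({x, y, z} : Set Γ) →
        (∃ h ∈ ({1, x, y, x * y, y * x, x * y * x} : Set Γ),
          ∃ t ∈ ({1, z, z * y, z * y * x} : Set Γ), g = h * t) →
        ∃ h ∈ ({1, x, y, x * y, y * x, x * y * x} : Set Γ),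
          ∃ t ∈ ({1, z, z * y, z * y * x} : Set Γ), g * w = h * t := by
      rintro g w hw ⟨h, hh, t, ht, rfl⟩
      simp only [Set.mem_insert_iff, Set.mem_singleton_iff] at hw ht
      rcases hw with hw | hw | hw <;> rcases ht with ht | ht | ht | ht <;> rw [hw, ht]
      · exact ⟨h * x, Hx h hh, 1, by simp, by simp⟩
      · exact ⟨h * x, Hx h hh, z, by simp, by rw [mul_assoc, mul_assoc, hxz]⟩
      · exact ⟨h, hh, z * y * x, by simp, by simp only [mul_assoc]⟩
      · exact ⟨h, hh, z * y, by simp, by simp only [mul_assoc]; rw [hx, mul_one]⟩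
      · exact ⟨h * y, Hy h hh, 1, by simp, by simp⟩
      · exact ⟨h, hh, z * y, by simp, by simp only [mul_assoc]⟩
      · exact ⟨h, hh, z, by simp, by simp only [mul_assoc]; rw [hy, mul_one]⟩
      · refine ⟨h * x, Hx h hh, z * y * x, by simp, ?_⟩
        -- z y x y = x z y x
        have e : z * y * x * y = x * (z * y * x) := by
          calc z * y * x * y = z * (y * x * y) := by simp only [mul_assoc]
            _ = z * (x * y * x) := by rw [hxy]
            _ = z * x * (y * x) := by simp only [mul_assoc]
            _ = x * z * (y * x) := by rw [hxz]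
            _ = x * (z * y * x) := by simp only [mul_assoc]
        rw [mul_assoc h, e, ← mul_assoc]
      · exact ⟨h, hh, z, by simp, by simp⟩
      · exact ⟨h, hh, 1, by simp, by rw [mul_assoc, hz]⟩
      · refine ⟨h * y, Hy h hh, z * y, by simp, ?_⟩
        have e : z * y * z = y * (z * y) := by
          rw [← hyz]; simp only [mul_assoc]
        rw [mul_assoc h, e, ← mul_assoc]
      · refine ⟨h * y, Hy h hh, z * y * x, by simp, ?_⟩
        have e : z * y * x * z = y * (z * y * x) := by
          calc z * y * x * z = z * y * (x * z) := by simp only [mul_assoc]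
            _ = z * y * (z * x) := by rw [hxz]
            _ = z * y * z * x := by simp only [mul_assoc]
            _ = y * z * y * x := by rw [← hyz]
            _ = y * (z * y * x) := by simp only [mul_assoc]
        rw [mul_assoc h, e, ← mul_assoc]
    induction hg using Subgroup.closure_induction_right with
    | one => exact ⟨1, by simp, 1, by simp, by simp⟩
    | mul_right g hg w hw ih => exact step g w hw ih
    | mul_inv_cancel g hg w hw ih =>
      have hw' : w⁻¹ = w := by
        simp only [Set.mem_insert_iff, Set.mem_singleton_iff] at hw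
        rcases hw with rfl | rfl | rfl
        · exact hxi
        · exact hyi
        · exact hzi
      rw [hw']
      exact step g w hw ih
  exact key g hg

/-- The group generated by a Coxeter triple of type `A₃` has at most 24 elements. -/
theorem finite_and_card_le (hx : x * x = 1) (hy : y * y = 1) (hz : z * z = 1)
    (hxy : x * y * x = y * x * y) (hyz : y * z * y = z * y * z) (hxz : x * z = z * x)
    (htop : Subgroup.closure ({x, y, z} : Set Γ) = ⊤) : Finite Γ ∧ Nat.card Γ ≤ 24 := by
  classical
  set F : Finset Γ := Finset.image₂ (· * ·) ({1, x, y, x * y, y * x, x * y * x} : Finset Γ)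
    ({1, z, z * y, z * y * x} : Finset Γ) with hF
  have hall : ∀ g : Γ, g ∈ F := by
    intro g
    obtain ⟨h, hh, t, ht, rfl⟩ := coset_enum x y z hx hy hz hxy hyz hxz g (by rw [htop]; trivial)
    rw [hF, Finset.mem_image₂]
    refine ⟨h, ?_, t, ?_, rfl⟩
    · simpa using hh
    · simpa using ht
  have hfin : Finite Γ := by
    have : (Set.univ : Set Γ).Finite := F.finite_toSet.subset (fun g _ => hall g)
    exact Set.finite_univ_iff.mp this
  refine ⟨hfin, ?_⟩
  have h1 : Nat.card Γ ≤ F.card := by
    rw [← Set.ncard_univ, ← Set.ncard_coe_finset]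
    exact Set.ncard_le_ncard (fun g _ => hall g) F.finite_toSet
  have h2 : F.card ≤ 6 * 4 := by
    refine (Finset.card_image₂_le _ _ _).trans ?_
    exact Nat.mul_le_mul Finset.card_le_six Finset.card_le_four
  omega

end Enum

section Present

/-- The Coxeter relations of type `A₃` on three generators. -/
def rels : Set (FreeGroup (Fin 3)) :=
  {FreeGroup.of 0 * FreeGroup.of 0, FreeGroup.of 1 * FreeGroup.of 1, FreeGroup.of 2 * FreeGroup.of 2,
    FreeGroup.of 0 * FreeGroup.of 1 * FreeGroup.of 0 *
      (FreeGroup.of 1 * FreeGroup.of 0 * FreeGroup.of 1)⁻¹,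
    FreeGroup.of 1 * FreeGroup.of 2 * FreeGroup.of 1 *
      (FreeGroup.of 2 * FreeGroup.of 1 * FreeGroup.of 2)⁻¹,
    FreeGroup.of 0 * FreeGroup.of 2 * (FreeGroup.of 2 * FreeGroup.of 0)⁻¹}

/-- The Coxeter group of type `A₃` as a presented group. -/
abbrev Cox : Type := PresentedGroup rels

/-- The generators. -/
def X (i : Fin 3) : Cox := PresentedGroup.of i

theorem X_def (i : Fin 3) : X i = PresentedGroup.mk rels (FreeGroup.of i) := rfl

theorem rel_x : X 0 * X 0 = 1 := by
  have h := PresentedGroup.one_of_mem (rels := rels) (x := FreeGroup.of 0 * FreeGroup.of 0)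
    (by simp [rels])
  rw [map_mul] at h
  exact h

theorem rel_y : X 1 * X 1 = 1 := by
  have h := PresentedGroup.one_of_mem (rels := rels) (x := FreeGroup.of 1 * FreeGroup.of 1)
    (by simp [rels])
  rw [map_mul] at h
  exact h

theorem rel_z : X 2 * X 2 = 1 := by
  have h := PresentedGroup.one_of_mem (rels := rels) (x := FreeGroup.of 2 * FreeGroup.of 2)
    (by simp [rels])
  rw [map_mul] at h
  exact h

theorem rel_xy : X 0 * X 1 * X 0 = X 1 * X 0 * X 1 := by
  have h := PresentedGroup.one_of_mem (rels := rels)
    (x := FreeGroup.of 0 * FreeGroup.of 1 * FreeGroup.of 0 *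
      (FreeGroup.of 1 * FreeGroup.of 0 * FreeGroup.of 1)⁻¹) (by simp [rels])
  rw [map_mul, map_inv, mul_inv_eq_one] at h
  simp only [map_mul] at h
  exact h

theorem rel_yz : X 1 * X 2 * X 1 = X 2 * X 1 * X 2 := by
  have h := PresentedGroup.one_of_mem (rels := rels)
    (x := FreeGroup.of 1 * FreeGroup.of 2 * FreeGroup.of 1 *
      (FreeGroup.of 2 * FreeGroup.of 1 * FreeGroup.of 2)⁻¹) (by simp [rels])
  rw [map_mul, map_inv, mul_inv_eq_one] at h
  simp only [map_mul] at h
  exact h

theorem rel_xz : X 0 * X 2 = X 2 * X 0 := by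
  have h := PresentedGroup.one_of_mem (rels := rels)
    (x := FreeGroup.of 0 * FreeGroup.of 2 * (FreeGroup.of 2 * FreeGroup.of 0)⁻¹) (by simp [rels])
  rw [map_mul, map_inv, mul_inv_eq_one] at h
  simp only [map_mul] at h
  exact h

theorem closure_X : Subgroup.closure ({X 0, X 1, X 2} : Set Cox) = ⊤ := by
  have h := PresentedGroup.closure_range_of rels
  have hr : Set.range (PresentedGroup.of : Fin 3 → PresentedGroup rels) = {X 0, X 1, X 2} := by
    ext g
    simp only [Set.mem_range, Set.mem_insert_iff, Set.mem_singleton_iff]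
    constructor
    · rintro ⟨i, rfl⟩
      fin_cases i
      · left; rfl
      · right; left; rfl
      · right; right; rfl
    · rintro (rfl | rfl | rfl)
      · exact ⟨0, rfl⟩
      · exact ⟨1, rfl⟩
      · exact ⟨2, rfl⟩
  rw [hr] at h
  exact h

instance : Finite Cox :=
  (finite_and_card_le (X 0) (X 1) (X 2) rel_x rel_y rel_z rel_xy rel_yz rel_xz closure_X).1

theorem card_cox_le : Nat.card Cox ≤ 24 :=
  (finite_and_card_le (X 0) (X 1) (X 2) rel_x rel_y rel_z rel_xy rel_yz rel_xz closure_X).2

/-- Any Coxeter triple in a group receives a homomorphism from `Cox`. -/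
noncomputable def toGrp {G : Type*} [Group G] (a b c : G) (ha : a * a = 1) (hb : b * b = 1)
    (hc : c * c = 1) (hab : a * b * a = b * a * b) (hbc : b * c * b = c * b * c)
    (hac : a * c = c * a) : Cox →* G :=
  PresentedGroup.toGroup (f := ![a, b, c]) (by
    intro r hr
    simp only [rels, Set.mem_insert_iff, Set.mem_singleton_iff] at hr
    rcases hr with rfl | rfl | rfl | rfl | rfl | rfl
    · simpa using ha
    · simpa using hb
    · simpa using hc
    · simp only [map_mul, map_inv, FreeGroup.lift_apply_of, mul_inv_eq_one]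
      simpa using hab
    · simp only [map_mul, map_inv, FreeGroup.lift_apply_of, mul_inv_eq_one]
      simpa using hbc
    · simp only [map_mul, map_inv, FreeGroup.lift_apply_of, mul_inv_eq_one]
      simpa using hac)

theorem toGrp_X {G : Type*} [Group G] (a b c : G) (ha : a * a = 1) (hb : b * b = 1)
    (hc : c * c = 1) (hab : a * b * a = b * a * b) (hbc : b * c * b = c * b * c)
    (hac : a * c = c * a) :
    toGrp a b c ha hb hc hab hbc hac (X 0) = a ∧ toGrp a b c ha hb hc hab hbc hac (X 1) = b ∧
      toGrp a b c ha hb hc hab hbc hac (X 2) = c := by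
  refine ⟨?_, ?_, ?_⟩
  · exact PresentedGroup.toGroup.of _
  · exact PresentedGroup.toGroup.of _
  · exact PresentedGroup.toGroup.of _

/-- The canonical map to the symmetric group. -/
noncomputable def toPerm : Cox →* Equiv.Perm (Fin 4) :=
  toGrp (Equiv.swap 0 1) (Equiv.swap 1 2) (Equiv.swap 2 3) (by decide) (by decide) (by decide)
    (by decide) (by decide) (by decide)

theorem toPerm_X : toPerm (X 0) = Equiv.swap 0 1 ∧ toPerm (X 1) = Equiv.swap 1 2 ∧
    toPerm (X 2) = Equiv.swap 2 3 :=
  toGrp_X _ _ _ _ _ _ _ _ _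

theorem toPerm_surjective : Function.Surjective toPerm := by
  rw [← MonoidHom.mrange_eq_top, eq_top_iff, ← Equiv.Perm.mclosure_swap_castSucc_succ 3,
    Submonoid.closure_le]
  rintro σ ⟨i, rfl⟩
  fin_cases i
  · exact ⟨X 0, toPerm_X.1⟩
  · exact ⟨X 1, toPerm_X.2.1⟩
  · exact ⟨X 2, toPerm_X.2.2⟩

theorem toPerm_bijective : Function.Bijective toPerm := by
  apply toPerm_surjective.bijective_of_nat_card_le
  refine card_cox_le.trans ?_
  rw [Nat.card_perm, Nat.card_fin]
  decide

/-- `Cox` is the symmetric group of degree four. -/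
noncomputable def coxEquiv : Cox ≃* Equiv.Perm (Fin 4) := MulEquiv.ofBijective toPerm toPerm_bijective

/-- A Coxeter triple of type `A₃` in a group is the image of the adjacent transpositions of `S₄`. -/
theorem exists_hom {G : Type*} [Group G] (a b c : G) (ha : a * a = 1) (hb : b * b = 1)
    (hc : c * c = 1) (hab : a * b * a = b * a * b) (hbc : b * c * b = c * b * c)
    (hac : a * c = c * a) :
    ∃ φ : Equiv.Perm (Fin 4) →* G, φ (Equiv.swap 0 1) = a ∧ φ (Equiv.swap 1 2) = b ∧
      φ (Equiv.swap 2 3) = c := by
  refine ⟨(toGrp a b c ha hb hc hab hbc hac).comp coxEquiv.symm.toMonoidHom, ?_, ?_, ?_⟩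
  · have : coxEquiv.symm (Equiv.swap 0 1) = X 0 := by
      rw [MulEquiv.symm_apply_eq]; exact toPerm_X.1.symm
    simp only [MonoidHom.comp_apply, MulEquiv.coe_toMonoidHom, this]
    exact (toGrp_X a b c ha hb hc hab hbc hac).1
  · have : coxEquiv.symm (Equiv.swap 1 2) = X 1 := by
      rw [MulEquiv.symm_apply_eq]; exact toPerm_X.2.1.symm
    simp only [MonoidHom.comp_apply, MulEquiv.coe_toMonoidHom, this]
    exact (toGrp_X a b c ha hb hc hab hbc hac).2.1
  · have : coxEquiv.symm (Equiv.swap 2 3) = X 2 := by
      rw [MulEquiv.symm_apply_eq]; exact toPerm_X.2.2.symm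
    simp only [MonoidHom.comp_apply, MulEquiv.coe_toMonoidHom, this]
    exact (toGrp_X a b c ha hb hc hab hbc hac).2.2

end Present

section Injective

set_option maxRecDepth 100000 in
theorem normal_closure_aux : ∀ σ : Equiv.Perm (Fin 4), σ ≠ 1 → ∃ τ ρ : Equiv.Perm (Fin 4),
    τ * σ * τ⁻¹ * (ρ * σ⁻¹ * ρ⁻¹) = Equiv.swap 0 1 * Equiv.swap 2 3 := by
  decide +kernel

/-- A homomorphism from `S₄` not killing `(0 1)(2 3)` is injective. -/
theorem injective_of_ne_one {G : Type*} [Group G] (φ : Equiv.Perm (Fin 4) →* G)
    (h : φ (Equiv.swap 0 1 * Equiv.swap 2 3) ≠ 1) : Function.Injective φ := by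
  rw [injective_iff_map_eq_one]
  intro σ hσ
  by_contra hne
  obtain ⟨τ, ρ, hτρ⟩ := normal_closure_aux σ hne
  apply h
  rw [← hτρ]
  simp only [map_mul, map_inv, hσ, inv_one, mul_one, mul_inv_cancel]

end Injective

end Cfsg.Agent.Helper4.S4Coxeter
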