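import Mathlib
import Cfsg.Prelude.Def_GeometricClasses
import Cfsg.Prelude.Def_Classical
import Cfsg.Prelude.Def_LieClassical
import Cfsg.Agent.Helper7.OrthUni3
import Cfsg.Agent.Helper2.QuadGO

set_option autoImplicit false
open scoped MatrixGroups Matrix

/-! S5981 auxiliary: a non-degenerate quadratic form in function form as a Mathlib `QuadraticForm`;
non-singular forms in odd characteristic have non-degenerate polar forms. -/

namespace Cfsg.Agent.S5981P

namespace QFOF

/-- the function form as a `QuadraticForm` -/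
theorem exists_quadraticForm {F : Type*} [Field F] {ι : Type} [Fintype ι] [DecidableEq ι]
    (Q : (ι → F) → F) (hQ : Cfsg.Geo.IsNondegenerateQuadraticForm Q) :
    ∃ Q₁ : QuadraticForm F (ι → F), (∀ v, Q₁ v = Q v) ∧
      (QuadraticMap.polarBilin Q₁).Nondegenerate := by
  obtain ⟨Q₁, hQ₁⟩ : ∃ Q₁ : QuadraticForm F (ι → F), ∀ v, Q₁ v = Q v := by
    refine ⟨QuadraticMap.ofPolar Q ?_ ?_ ?_, fun v => rfl⟩
    · intro a x
      rw [hQ.smul, smul_eq_mul, pow_two]
    · intro x x' y
      exact hQ.polar_bilinear.add_left x x' y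
    · intro a x y
      rw [hQ.polar_bilinear.smul_left, smul_eq_mul]
  have hfun : (⇑Q₁ : (ι → F) → F) = Q := funext hQ₁
  refine ⟨Q₁, hQ₁, ?_, ?_⟩
  · intro x hx
    by_contra hx0
    obtain ⟨-, ⟨y, hy⟩⟩ := hQ.nondegenerate x hx0
    apply hy
    have := hx y
    rw [QuadraticMap.polarBilin_apply_apply, hfun] at this
    exact this
  · intro y hy
    by_contra hy0
    obtain ⟨⟨x, hx⟩, -⟩ := hQ.nondegenerate y hy0
    apply hx
    have := hy x
    rw [QuadraticMap.polarBilin_apply_apply, hfun] at this
    exact this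

/-- in odd characteristic a non-singular form has a non-degenerate polar form -/
theorem nondeg_of_nonSing {F : Type*} [Field F] (h2 : (2 : F) ≠ 0) {V : Type*} [AddCommGroup V]
    [Module F V] (Q : QuadraticForm F V) (h : Cfsg.Agent.Helper2.Quad.NonSing Q) :
    (QuadraticMap.polarBilin Q).Nondegenerate := by
  have key : ∀ v : V, (∀ w, QuadraticMap.polar Q v w = 0) → v = 0 := by
    intro v hv
    apply h v _ hv
    have h1 := hv v
    rw [QuadraticMap.polar_self] at h1
    rcases (by simpa [smul_eq_mul] using h1 : (2 : F) = 0 ∨ Q v = 0) with h3 | h3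
    · exact absurd h3 h2
    · exact h3
  refine ⟨?_, ?_⟩
  · intro x hx
    apply key
    intro w
    have := hx w
    rwa [QuadraticMap.polarBilin_apply_apply] at this
  · intro y hy
    apply key
    intro w
    have := hy w
    rw [QuadraticMap.polarBilin_apply_apply, QuadraticMap.polar_comm] at this
    exact this

end QFOF

end Cfsg.Agent.S5981P
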