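import Mathlib
import Cfsg.Prelude.Def_GeometricClasses
import Cfsg.Prelude.Def_Classical
import Cfsg.Prelude.Def_LieClassical
import Cfsg.Agent.Helper4.S5981QFOF
import Cfsg.Agent.Helper2.QuadPlus
import Cfsg.Agent.Helper2.QuadMinus
import Cfsg.Agent.S2620
import Cfsg.Agent.S2621

set_option autoImplicit false
open scoped MatrixGroups Matrix

/-! S5981 piece STDEVEN: a non-degenerate quadratic form in even dimension over a finite field of odd
order is a copy of the standard form of plus type or of one of minus type. -/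

namespace Cfsg.Agent.S5981P

namespace STDEVEN

open Cfsg.Agent.Helper7.OrthUni Cfsg.Agent.Helper2.Quad

/-- the Gram determinant of a `QuadraticForm` whose function is `Q₀`, in the form of S2620/S2621 -/
theorem gram_det_eq {F : Type*} [Field F] {ι : Type*} [Fintype ι] [DecidableEq ι]
    (Q₁ : QuadraticForm F (ι → F)) (Q₀ : (ι → F) → F) (h : ∀ v, Q₁ v = Q₀ v) :
    (gram Q₁).det = (Matrix.of (fun i j : ι =>
      QuadraticMap.polar Q₀ ((Pi.basisFun F ι) i) ((Pi.basisFun F ι) j))).det := by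
  have hfun : (⇑Q₁ : (ι → F) → F) = Q₀ := funext h
  rw [gram_eq_of, hfun]
  simp only [Pi.basisFun_apply]

/-- a non-degenerate `QuadraticForm` has a non-zero Gram determinant -/
theorem gram_det_ne_zero {F : Type*} [Field F] {ι : Type*} [Fintype ι] [DecidableEq ι]
    (Q₁ : QuadraticForm F (ι → F)) (h : (QuadraticMap.polarBilin Q₁).Nondegenerate) :
    (gram Q₁).det ≠ 0 := (nondeg_iff_det Q₁).1 h

/-- an anisotropic binary form -/
theorem exists_aniso {F : Type*} [Field F] [Fintype F] (h2 : (2 : F) ≠ 0) :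
    ∃ a b : F, Aniso a b := by
  have hchar : ringChar F ≠ 2 := by
    intro h
    apply h2
    have : ((2 : ℕ) : F) = 0 := by
      rw [← h]
      exact ringChar.Nat.cast_ringChar
    simpa using this
  obtain ⟨ν, hν⟩ := FiniteField.exists_nonsquare hchar
  refine ⟨0, -ν, ?_⟩
  intro z₁ z₂ h
  have h1 : z₁ ^ 2 = ν * z₂ ^ 2 := by linear_combination h
  by_cases hz : z₂ = 0
  · rw [hz] at h1
    simp only [ne_eq, OfNat.ofNat_ne_zero, not_false_eq_true, zero_pow, mul_zero] at h1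
    exact ⟨pow_eq_zero_iff (two_ne_zero) |>.1 h1, hz⟩
  · exfalso
    apply hν
    refine ⟨z₁ / z₂, ?_⟩
    field_simp
    linear_combination -h1

end STDEVEN

open STDEVEN Cfsg.Agent.Helper7.OrthUni Cfsg.Agent.Helper2.Quad in
/-- STDEVEN: a non-degenerate form in even dimension is a copy of a standard one of plus or minus type -/
theorem exists_std_even {F : Type*} [Field F] [Fintype F] (h2 : (2 : F) ≠ 0) (n m : ℕ)
    (hnm : n = 2 * m) (hm : 1 ≤ m) (Q : (Fin n → F) → F)
    (hQ : Cfsg.Geo.IsNondegenerateQuadraticForm Q) :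
    (∃ φ : (Fin n → F) ≃ₗ[F] (Fin m ⊕ Fin m → F), ∀ v, Cfsg.quadFormPlus m F (φ v) = Q v) ∨
    (∃ (a b : F) (φ : (Fin n → F) ≃ₗ[F] ((Fin (m - 1) ⊕ Fin (m - 1)) ⊕ Fin 2 → F)),
      (∀ z₁ z₂ : F, z₁ ^ 2 + a * z₁ * z₂ + b * z₂ ^ 2 = 0 → z₁ = 0 ∧ z₂ = 0) ∧
      ∀ v, Cfsg.quadFormMinus (m - 1) F a b (φ v) = Q v) := by
  classical
  obtain ⟨Q₁, hQ₁, hQ₁nd⟩ := QFOF.exists_quadraticForm Q hQ
  obtain ⟨a, b, hab⟩ := exists_aniso (F := F) h2
  have hodd : Odd (Fintype.card F) := by
    rcases Nat.even_or_odd (Fintype.card F) with he | ho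
    · exfalso
      obtain ⟨p, hp⟩ := CharP.exists F
      haveI := hp
      haveI : Fact p.Prime := ⟨CharP.char_is_prime F p⟩
      obtain ⟨k, hk, hcard⟩ := FiniteField.card F p
      rw [hcard] at he
      have hp2 : p = 2 := by
        have h2p : 2 ∣ p ^ (k : ℕ) := he.two_dvd
        have := (Nat.prime_dvd_prime_iff_eq Nat.prime_two hk).1 (Nat.prime_two.dvd_of_dvd_pow h2p)
        exact this.symm
      apply h2
      have : ((2 : ℕ) : F) = 0 := by rw [← hp2]; exact CharP.cast_eq_zero F p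
      simpa using this
    · exact ho
  -- the standard forms
  have hp_nd : (QuadraticMap.polarBilin (plusModel F m).Q).Nondegenerate :=
    QFOF.nondeg_of_nonSing h2 _ (plusModel F m).nonSing
  have hm_nd : (QuadraticMap.polarBilin (minusModel (m - 1) a b hab).Q).Nondegenerate :=
    QFOF.nondeg_of_nonSing h2 _ (minusModel (m - 1) a b hab).nonSing
  have hpf : ∀ v, (plusModel F m).Q v = Cfsg.quadFormPlus m F v := by
    intro v; rw [quadFormPlus_eq]
  have hmf : ∀ v, (minusModel (m - 1) a b hab).Q v = Cfsg.quadFormMinus (m - 1) F a b v := by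
    intro v; rw [quadFormMinus_eq (m - 1) a b hab]
  have hD := gram_det_ne_zero Q₁ hQ₁nd
  have hdp := gram_det_ne_zero _ hp_nd
  have hdm := gram_det_ne_zero _ hm_nd
  have hsp : IsSquare (gram (plusModel F m).Q).det ↔ Even (m * (Fintype.card F - 1) / 2) := by
    rw [gram_det_eq _ _ hpf]
    exact Cfsg.Agent.S2620.result rfl hodd hm (Pi.basisFun F (Fin m ⊕ Fin m))
  have hsm : IsSquare (gram (minusModel (m - 1) a b hab).Q).det ↔
      ¬ Even (m * (Fintype.card F - 1) / 2) := by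
    rw [gram_det_eq _ _ hmf]
    exact Cfsg.Agent.S2621.result rfl hodd hm a b hab (Pi.basisFun F _)
  have hcardp : Fintype.card (Fin n) = Fintype.card (Fin m ⊕ Fin m) := by
    simp only [Fintype.card_fin, Fintype.card_sum]; omega
  have hcardm : Fintype.card (Fin n) = Fintype.card ((Fin (m - 1) ⊕ Fin (m - 1)) ⊕ Fin 2) := by
    simp only [Fintype.card_fin, Fintype.card_sum]; omega
  have hplus : IsSquare ((gram Q₁).det * (gram (plusModel F m).Q).det) →
      ∃ φ : (Fin n → F) ≃ₗ[F] (Fin m ⊕ Fin m → F), ∀ v, Cfsg.quadFormPlus m F (φ v) = Q v := by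
    intro hsq
    obtain ⟨g, hg⟩ := exists_isometry_of_disc h2 Q₁ (plusModel F m).Q hQ₁nd hp_nd hcardp hsq
    exact ⟨g, fun v => by rw [← hpf, hg, hQ₁]⟩
  have hminus : IsSquare ((gram Q₁).det * (gram (minusModel (m - 1) a b hab).Q).det) →
      ∃ φ : (Fin n → F) ≃ₗ[F] ((Fin (m - 1) ⊕ Fin (m - 1)) ⊕ Fin 2 → F),
        ∀ v, Cfsg.quadFormMinus (m - 1) F a b (φ v) = Q v := by
    intro hsq
    obtain ⟨g, hg⟩ := exists_isometry_of_disc h2 Q₁ (minusModel (m - 1) a b hab).Q hQ₁nd hm_nd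
      hcardm hsq
    exact ⟨g, fun v => by rw [← hmf, hg, hQ₁]⟩
  have hmul_sq : ∀ x y : F, IsSquare x → IsSquare y → IsSquare (x * y) := by
    rintro x y ⟨s, rfl⟩ ⟨t, rfl⟩
    exact ⟨s * t, by ring⟩
  by_cases hE : Even (m * (Fintype.card F - 1) / 2)
  · by_cases hDs : IsSquare (gram Q₁).det
    · exact Or.inl (hplus (hmul_sq _ _ hDs (hsp.2 hE)))
    · right
      obtain ⟨φ, hφ⟩ := hminus (by
        rw [mul_comm, Cfsg.Agent.Helper13.isSquare_mul_nonsquare_iff hdm hDs, hsm]
        exact fun h => h hE)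
      exact ⟨a, b, φ, hab, hφ⟩
  · by_cases hDs : IsSquare (gram Q₁).det
    · right
      obtain ⟨φ, hφ⟩ := hminus (hmul_sq _ _ hDs (hsm.2 hE))
      exact ⟨a, b, φ, hab, hφ⟩
    · left
      apply hplus
      rw [mul_comm, Cfsg.Agent.Helper13.isSquare_mul_nonsquare_iff hdp hDs, hsp]
      exact hE

end Cfsg.Agent.S5981P
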