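import Mathlib
import Cfsg.Agent.Helper3.S4411Defs
import Cfsg.Agent.S0618
import Cfsg.Agent.Helper7.FFModule5

set_option autoImplicit false

/-! # S4411 board piece TF (helper4)

Thompson factorisation `Y = C_Y(Ω₁ Z(R)) N_Y(J(R))` in a `p`-solvable `{p,q}`-group with `O_{p'}(Y) = 1`,
`(p,q) ≠ (2,3), (3,2)`, from `Cfsg.Agent.S0618.result`. -/

namespace Cfsg.Agent.S4411P

open Cfsg

/-- Thompson factorisation in a `p`-solvable `{p,q}`-group, `(p,q) ≠ (2,3), (3,2)`, `O_{p'} = 1`. -/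
theorem TF {Y : Type*} [Group Y] [Finite Y] (p q : ℕ) [Fact p.Prime] [Fact q.Prime] (hpq : p ≠ q)
    (h23 : ¬ ((p = 2 ∧ q = 3) ∨ (p = 3 ∧ q = 2))) (hsol : Cfsg.IsPSolvable p Y) (hY : IsPQ p q Y)
    (hO : Cfsg.pPrimeCore p Y = ⊥) (R : Sylow p Y) (g : Y) :
    ∃ c ∈ Subgroup.centralizer
        (Cfsg.omegaOne p ((R : Subgroup Y) ⊓ Subgroup.centralizer ((R : Subgroup Y) : Set Y)) : Set Y),
      ∃ n ∈ Subgroup.normalizer (Cfsg.thompsonSubgroupOf p (R : Subgroup Y) : Set Y), g = c * n := by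
  by_cases hTF : Cfsg.IsThompsonFactorizable p Y
  · obtain ⟨x, hx, c, hc, n, hn, hg⟩ := hTF R g
    rw [hO, Subgroup.mem_bot] at hx
    refine ⟨c, hc, n, hn, ?_⟩
    rw [hg, hx, one_mul]
  · exfalso
    obtain ⟨hp23, E, -, -, -, hn, ⟨e⟩⟩ := Cfsg.Agent.S0618.result hsol hO hTF
    -- `|SL(2,p)|` divides `|Y|`
    have hcard : Nat.card (Matrix.SpecialLinearGroup (Fin 2) (ZMod p)) ∣ Nat.card Y := by
      rw [← Nat.card_congr e.toEquiv]
      exact (Subgroup.card_quotient_dvd_card _).trans (Subgroup.card_subgroup_dvd_card E)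
    rw [Cfsg.Agent.Helper7.card_SL2_zmod p] at hcard
    rcases hp23 with rfl | rfl
    · -- p = 2 : 3 ∣ |Y|
      have h3 : 3 ∣ Nat.card Y := Dvd.dvd.trans (by norm_num) hcard
      rcases hY 3 (by norm_num) h3 with h | h
      · omega
      · exact h23 (Or.inl ⟨rfl, h.symm⟩)
    · -- p = 3 : 2 ∣ |Y|
      have h2 : 2 ∣ Nat.card Y := Dvd.dvd.trans (by norm_num) hcard
      rcases hY 2 (by norm_num) h2 with h | h
      · omega
      · exact h23 (Or.inr ⟨rfl, h.symm⟩)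

end Cfsg.Agent.S4411P
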