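import Mathlib
import Cfsg.Agent.Helper4.S5033Defs
import Cfsg.Agent.Helper9.S5033GEN
import Cfsg.Agent.Helper25.S5033R0
import Cfsg.Agent.Helper25.S5033R1
import Cfsg.Agent.Helper3.S5033L2
import Cfsg.Agent.S5034

set_option autoImplicit false

/-! # S5033 piece DAGGER: step (†) of Claim 1. -/

namespace Cfsg.Agent.S5033P

open Cfsg
open scoped commutatorElement

variable {G : Type*} [Group G] {S : Set (Subgroup G)}

/-- if `N ⊴ G` contains a member of `S` then it meets it nontrivially. -/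
private theorem dagger_contra (H : Hyp S) {N : Subgroup G} (h : ∀ A ∈ S, N ⊓ A = ⊥)
    {E : Subgroup G} (hE : E ∈ S) (hle : E ≤ N) : False := by
  apply H.hS.ne_bot E hE
  have := h E hE
  rwa [inf_eq_right.mpr hle] at this

/-- DAGGER: step (†) of Claim 1. -/
theorem DAGGER (H : Hyp S) {N : Subgroup G} (hN : N.Normal) (h : ∀ A ∈ S, N ⊓ A = ⊥)
    {A D : Subgroup G} (hA : A ∈ S) (hD : D ∈ S) (hAD : ⁅A, D⁆ = ⊥) {n : G} (hn : n ∈ N) :
    ⁅conjBy A n, D⁆ = ⊥ := by
  have hA₁S : conjBy A n ∈ S := H.hS.conj_mem A hA n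
  have hcA₁ : IsMulCommutative (conjBy A n) := H.hS.commutative _ hA₁S
  have hcD : IsMulCommutative D := H.hS.commutative _ hD
  -- step 1: `⁅A₁, D⁆ ≤ N`
  have hle : ⁅conjBy A n, D⁆ ≤ N := by
    rw [Subgroup.commutator_le]
    rintro x ⟨a, ha, rfl⟩ d hd
    have had : a * d = d * a := by
      have h1 : A ≤ Subgroup.centralizer (D : Set G) :=
        Subgroup.commutator_eq_bot_iff_le_centralizer.mp hAD
      have h2 := Subgroup.mem_centralizer_iff.mp (h1 ha) d hd
      exact h2.symm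
    have hm : n * a * n⁻¹ * a⁻¹ ∈ N := by
      have : n * a * n⁻¹ * a⁻¹ = n * (a * n⁻¹ * a⁻¹) := by group
      rw [this]
      exact N.mul_mem hn (hN.conj_mem _ (N.inv_mem hn) a)
    have hkey : ⁅(MulAut.conj n).toMonoidHom a, d⁆ =
        (n * a * n⁻¹ * a⁻¹) * (d * (n * a * n⁻¹ * a⁻¹)⁻¹ * d⁻¹) := by
      simp only [MulEquiv.coe_toMonoidHom, MulAut.conj_apply, commutatorElement_def]
      have h3 : a * d * a⁻¹ = d := by rw [had]; group
      calc n * a * n⁻¹ * d * (n * a * n⁻¹)⁻¹ * d⁻¹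
          = n * a * n⁻¹ * a⁻¹ * (a * d * a⁻¹) * (a * n * a⁻¹ * n⁻¹) * d⁻¹ := by group
        _ = n * a * n⁻¹ * a⁻¹ * d * (a * n * a⁻¹ * n⁻¹) * d⁻¹ := by rw [h3]
        _ = _ := by group
    rw [hkey]
    exact N.mul_mem hm (hN.conj_mem _ (N.inv_mem hm) d)
  rcases H.hS.pair _ hA₁S D hD with hc | hr | hcc
  · exact hc
  · exfalso
    have hY' : ⁅conjBy A n ⊔ D, conjBy A n ⊔ D⁆ ≤ N := GEN.comm_le_normal hN hcA₁ hcD hle
    have hMle : N ⊓ (conjBy A n ⊔ D) ≤ conjBy A n ⊔ D := inf_le_right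
    have hMn : conjBy A n ⊔ D ≤ Subgroup.normalizer ((N ⊓ (conjBy A n ⊔ D) : Subgroup G) : Set G) := by
      intro y hy
      rw [Subgroup.mem_normalizer_iff]
      intro x
      constructor
      · rintro ⟨hx1, hx2⟩
        exact ⟨hN.conj_mem x hx1 y, Subgroup.mul_mem _ (Subgroup.mul_mem _ hy hx2) (Subgroup.inv_mem _ hy)⟩
      · rintro ⟨hx1, hx2⟩
        refine ⟨?_, ?_⟩
        · have := hN.conj_mem _ hx1 y⁻¹
          simpa [mul_assoc] using this
        · have := Subgroup.mul_mem _ (Subgroup.mul_mem _ (Subgroup.inv_mem _ hy) hx2) hy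
          simpa [mul_assoc] using this
    rcases R0.dichotomy hr hMle hMn with hMA | hMc
    · by_cases hdeg : IsDegenerateRootSet S
      · obtain ⟨e, heA, he1, heY⟩ := R1.exists_mem (H.h4 _ hA₁S D ⟨hD, hr⟩) hcA₁ hcD (H.h3 hdeg _ hA₁S)
        apply he1
        have : e ∈ N ⊓ conjBy A n := ⟨hY' heY, heA⟩
        rw [h _ hA₁S] at this
        exact this
      · obtain ⟨hcl, hnd⟩ := L2.nondegenerate H hdeg
        obtain ⟨⟨C, hCl, hCc⟩, -⟩ := Cfsg.Agent.S5034.result hcl hnd hA₁S ⟨hD, hr⟩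
        have hA₁C : conjBy A n ≤ Subgroup.centralizer (C : Set G) :=
          Subgroup.commutator_eq_bot_iff_le_centralizer.mp hCl.1.2.2
        have hA₁n : conjBy A n ≤ Subgroup.normalizer ((N ⊓ (conjBy A n ⊔ D) : Subgroup G) : Set G) :=
          le_sup_left.trans hMn
        apply dagger_contra H h hCc.2
        rw [Subgroup.commutator_le]
        intro d hd c hc
        have hdY : d ∈ N ⊓ (conjBy A n ⊔ D) ⊔ conjBy A n := by
          rw [hMA]; exact Subgroup.mem_sup_right hd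
        obtain ⟨m, hm, a', ha', rfl⟩ := GEN.mem_sup hA₁n hdY
        have hac : c * a' = a' * c := Subgroup.mem_centralizer_iff.mp (hA₁C ha') c hc
        have hkey : ⁅m * a', c⁆ = m * (c * m⁻¹ * c⁻¹) := by
          rw [commutatorElement_def]
          have h3 : a' * c * a'⁻¹ = c := by rw [← hac]; group
          calc m * a' * c * (m * a')⁻¹ * c⁻¹ = m * (a' * c * a'⁻¹) * m⁻¹ * c⁻¹ := by group
            _ = m * c * m⁻¹ * c⁻¹ := by rw [h3]
            _ = _ := by group
        rw [hkey]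
        exact N.mul_mem hm.1 (hN.conj_mem _ (N.inv_mem hm.1) c)
    · apply R0.not_class_two hr
      intro x hx
      exact hMc ⟨hY' hx, Subgroup.commutator_le_self _ hx⟩
  · exact (dagger_contra H h hcc.1 hle).elim

end Cfsg.Agent.S5033P
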