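import Mathlib
import Cfsg.Agent.Helper2.SU.Main
import Cfsg.Agent.Helper28.UnitMax

set_option autoImplicit false

/-! Shared definitions for S2283 (`SU_3(q)` is generated by two conjugate regular unipotent
elements): a hyperbolic frame `e1, e2, e3` of `K^3` for the standard Hermitian form, the root
elements `X α β` (centre `e1`) and `Y γ δ` (centre `e3`) as Siegel elements, and their action in
frame coordinates. -/

namespace Cfsg.Agent.Helper4.SU3G

open Matrix Cfsg.Agent.S2644 Cfsg.Agent.Helper2.SUGen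

variable {K : Type*} [Field K] {q : ℕ}

local notation "h" => Cfsg.hermForm 3 K q

/-- A hyperbolic frame: `e1, e3` isotropic with `h e1 e3 = 1`, `e2` a unit vector orthogonal to
both, and every vector expands in the frame. -/
structure Frame (K : Type*) [Field K] (q : ℕ) where
  e1 : Fin 3 → K
  e2 : Fin 3 → K
  e3 : Fin 3 → K
  h11 : Cfsg.hermForm 3 K q e1 e1 = 0
  h12 : Cfsg.hermForm 3 K q e1 e2 = 0
  h13 : Cfsg.hermForm 3 K q e1 e3 = 1
  h21 : Cfsg.hermForm 3 K q e2 e1 = 0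
  h22 : Cfsg.hermForm 3 K q e2 e2 = 1
  h23 : Cfsg.hermForm 3 K q e2 e3 = 0
  h31 : Cfsg.hermForm 3 K q e3 e1 = 1
  h32 : Cfsg.hermForm 3 K q e3 e2 = 0
  h33 : Cfsg.hermForm 3 K q e3 e3 = 0
  expand : ∀ z : Fin 3 → K, z = Cfsg.hermForm 3 K q z e3 • e1 + Cfsg.hermForm 3 K q z e2 • e2 +
    Cfsg.hermForm 3 K q z e1 • e3

namespace Frame

variable (B : Frame K q)

/-- The vector with frame coordinates `(a, b, c)`. -/
def vec (a b c : K) : Fin 3 → K := a • B.e1 + b • B.e2 + c • B.e3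

/-- The root element `e1 ↦ e1`, `e2 ↦ e2 - σ α e1`, `e3 ↦ e3 + α e2 + β e1`. -/
def X (α β : K) : Matrix (Fin 3) (Fin 3) K := Sg (q := q) B.e1 (α • B.e2) β

/-- The opposite root element `e3 ↦ e3`, `e2 ↦ e2 - σ γ e3`, `e1 ↦ e1 + γ e2 + δ e3`. -/
def Y (γ δ : K) : Matrix (Fin 3) (Fin 3) K := Sg (q := q) B.e3 (γ • B.e2) δ

theorem vec_e1 : B.vec 1 0 0 = B.e1 := by simp [vec]
theorem vec_e2 : B.vec 0 1 0 = B.e2 := by simp [vec]
theorem vec_e3 : B.vec 0 0 1 = B.e3 := by simp [vec]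

variable (D : Frob K q)

include D

theorem h_vec (a b c a' b' c' : K) :
    h (B.vec a b c) (B.vec a' b' c') = a * D.σ c' + b * D.σ b' + c * D.σ a' := by
  simp only [vec, h_add_left, h_smul_left, h_add_right D, h_smul_right D, B.h11, B.h12, B.h13,
    B.h21, B.h22, B.h23, B.h31, B.h32, B.h33]
  ring

theorem h_vec_e1 (a b c : K) : h (B.vec a b c) B.e1 = c := by
  rw [← B.vec_e1, h_vec B D]; simp

theorem h_vec_e2 (a b c : K) : h (B.vec a b c) B.e2 = b := by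
  rw [← B.vec_e2, h_vec B D]; simp

theorem h_vec_e3 (a b c : K) : h (B.vec a b c) B.e3 = a := by
  rw [← B.vec_e3, h_vec B D]; simp

theorem eq_vec (z : Fin 3 → K) : z = B.vec (h z B.e3) (h z B.e2) (h z B.e1) := B.expand z

theorem vec_inj {a b c a' b' c' : K} (hv : B.vec a b c = B.vec a' b' c') :
    a = a' ∧ b = b' ∧ c = c' := by
  refine ⟨?_, ?_, ?_⟩
  · rw [← h_vec_e3 B D a b c, hv, h_vec_e3 B D]
  · rw [← h_vec_e2 B D a b c, hv, h_vec_e2 B D]
  · rw [← h_vec_e1 B D a b c, hv, h_vec_e1 B D]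

theorem X_vec (α β a b c : K) :
    B.X α β *ᵥ B.vec a b c = B.vec (a - D.σ α * b + β * c) (b + α * c) c := by
  unfold X
  rw [Sg_mulVec, h_vec_e1 B D, h_smul_right D, h_vec_e2 B D]
  simp only [vec]
  module

theorem Y_vec (γ δ a b c : K) :
    B.Y γ δ *ᵥ B.vec a b c = B.vec a (b + γ * a) (c - D.σ γ * b + δ * a) := by
  unfold Y
  rw [Sg_mulVec, h_vec_e3 B D, h_smul_right D, h_vec_e2 B D]
  simp only [vec]
  module

theorem X_det (α β : K) : (B.X α β).det = 1 :=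
  Sg_det D _ _ _ B.h11 (by rw [h_smul_left, B.h21, mul_zero])

theorem Y_det (γ δ : K) : (B.Y γ δ).det = 1 :=
  Sg_det D _ _ _ B.h33 (by rw [h_smul_left, B.h23, mul_zero])

theorem X_pres {α β : K} (hc : β + D.σ β + α * D.σ α = 0) : Pres (q := q) (B.X α β) :=
  Sg_pres D _ _ _ B.h11 (by rw [h_smul_left, B.h21, mul_zero])
    (by rw [h_smul_left, h_smul_right D, B.h22, mul_one]; exact hc)

theorem Y_pres {γ δ : K} (hc : δ + D.σ δ + γ * D.σ γ = 0) : Pres (q := q) (B.Y γ δ) :=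
  Sg_pres D _ _ _ B.h33 (by rw [h_smul_left, B.h23, mul_zero])
    (by rw [h_smul_left, h_smul_right D, B.h22, mul_one]; exact hc)

/-- Two matrices agreeing on all frame-coordinate vectors are equal. -/
theorem mat_ext_vec {M M' : Matrix (Fin 3) (Fin 3) K}
    (H : ∀ a b c : K, M *ᵥ B.vec a b c = M' *ᵥ B.vec a b c) : M = M' := by
  apply mat_ext
  intro z
  rw [eq_vec B D z]
  exact H _ _ _

theorem X_mul (α β α' β' : K) :
    B.X α β * B.X α' β' = B.X (α + α') (β + β' - α' * D.σ α) := by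
  apply mat_ext_vec B D
  intro a b c
  rw [← mulVec_mulVec, X_vec B D, X_vec B D, X_vec B D]
  congr 1
  · rw [map_add]; ring
  · ring

theorem Y_mul (γ δ γ' δ' : K) :
    B.Y γ δ * B.Y γ' δ' = B.Y (γ + γ') (δ + δ' - γ' * D.σ γ) := by
  apply mat_ext_vec B D
  intro a b c
  rw [← mulVec_mulVec, Y_vec B D, Y_vec B D, Y_vec B D]
  congr 1
  · ring
  · rw [map_add]; ring

theorem X_zero : B.X (0 : K) 0 = 1 := by
  apply mat_ext_vec B D
  intro a b c
  rw [X_vec B D, one_mulVec]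
  congr 1 <;> simp

theorem Y_zero : B.Y (0 : K) 0 = 1 := by
  apply mat_ext_vec B D
  intro a b c
  rw [Y_vec B D, one_mulVec]
  congr 1 <;> simp

end Frame

/-- Membership of a matrix in a subgroup of `SU_3`. -/
def InH (H : Subgroup ↥(Cfsg.SU 3 K q)) (M : Matrix (Fin 3) (Fin 3) K) : Prop :=
  ∃ g ∈ H, toM K 3 q g = M

theorem InH_mul {H : Subgroup ↥(Cfsg.SU 3 K q)} {M M' : Matrix (Fin 3) (Fin 3) K}
    (hM : InH H M) (hM' : InH H M') : InH H (M * M') := by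
  obtain ⟨g, hg, rfl⟩ := hM
  obtain ⟨g', hg', rfl⟩ := hM'
  exact ⟨g * g', H.mul_mem hg hg', map_mul _ _ _⟩

theorem InH_one (H : Subgroup ↥(Cfsg.SU 3 K q)) : InH H (1 : Matrix (Fin 3) (Fin 3) K) :=
  ⟨1, H.one_mem, map_one _⟩

/-- If `M * M' = 1` and `M ∈ H` then `M' ∈ H`. -/
theorem InH_inv {H : Subgroup ↥(Cfsg.SU 3 K q)} {M M' : Matrix (Fin 3) (Fin 3) K}
    (hM : InH H M) (hinv : M * M' = 1) : InH H M' := by
  obtain ⟨g, hg, rfl⟩ := hM
  refine ⟨g⁻¹, H.inv_mem hg, ?_⟩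
  have h1 : toM K 3 q g * toM K 3 q g⁻¹ = 1 := by
    rw [← map_mul, mul_inv_cancel, map_one]
  have h2 : toM K 3 q g⁻¹ * toM K 3 q g = 1 := by
    rw [← map_mul, inv_mul_cancel, map_one]
  calc toM K 3 q g⁻¹ = toM K 3 q g⁻¹ * (toM K 3 q g * M') := by rw [hinv, Matrix.mul_one]
    _ = M' := by rw [← Matrix.mul_assoc, h2, Matrix.one_mul]

theorem InH_mk (H : Subgroup ↥(Cfsg.SU 3 K q)) (M : Matrix (Fin 3) (Fin 3) K) (hdet : M.det = 1)
    (hP : Pres (q := q) M) : InH H M ↔ mkSU M hdet hP ∈ H := by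
  constructor
  · rintro ⟨g, hg, hgM⟩
    have : g = mkSU M hdet hP := toM_injective (by rw [hgM, toM_mkSU])
    rwa [← this]
  · intro hm
    exact ⟨_, hm, toM_mkSU M hdet hP⟩

end Cfsg.Agent.Helper4.SU3G
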