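import Mathlib
import Cfsg.Agent.Helper5.ZasDefs
import Cfsg.Agent.Helper3.ZasBasic2
import Cfsg.Agent.Helper6.FrobSemidirect
import Cfsg.Agent.Helper1.FrobGroup
import Cfsg.Agent.Helper29.Sh3IdxB

/-!
# Bridge from a fixed-point-free linear `Setup` to the internal form of a Frobenius group
-/

set_option autoImplicit false
set_option linter.style.haveILetI false
set_option linter.unusedSectionVars false

namespace Cfsg.Agent.Helper5.Zas.Z10

open Cfsg.Agent.Helper5.Zas

variable {p : ℕ} [Fact p.Prime] {G : Type*} [Group G] [Finite G] {V : Type*} [AddCommGroup V]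
  [Module (ZMod p) V] [Finite V] [Nontrivial V]

/-- The group embeds into a finite group in which it acts fixed-point-freely by conjugation on
a nontrivial normal subgroup. -/
theorem exists_bridge (S : Setup p G V) [Nontrivial G] :
    ∃ (𝔊 : Type) (_ : Group 𝔊) (_ : Finite 𝔊) (K : Subgroup 𝔊) (ι : G →* 𝔊), K.Normal ∧ K ≠ ⊥ ∧
      Function.Injective ι ∧ ∀ g : G, g ≠ 1 → K ⊓ Subgroup.centralizer {ι g} = ⊥ := by
  letI : DistribMulAction G V := DistribMulAction.compHom V S.ρ
  have hsmul : ∀ (g : G) (v : V), g • v = S.ρ g v := fun _ _ => rfl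
  have hfpf : ∀ s : G, s ≠ 1 → ∀ v : V, s • v = v → v = 0 := by
    intro s hs v hv
    rw [hsmul] at hv
    exact S.fpf s hs v hv
  obtain ⟨L, iG, iF, H, hH, ⟨e⟩⟩ := Cfsg.Agent.Helper6.exists_frobenius_of_fpf' (S := G) (V := V) hfpf
  obtain ⟨N', hN', hn, -⟩ := Cfsg.Agent.S0035.result H hH
  refine ⟨L, iG, iF, N', H.subtype.comp e.toMonoidHom, hn,
    Cfsg.Agent.Helper1.FrobGroup.kernel_ne_bot hH hN', ?_, ?_⟩
  · intro a b hab
    apply e.injective
    apply Subtype.ext
    exact hab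
  · intro g hg
    apply Cfsg.Agent.Helper1.FrobGroup.fpf_form hH hN' _ (e g).2
    intro h1
    apply hg
    apply e.injective
    rw [map_one]
    exact Subtype.ext h1

/-- A subgroup with at most one subgroup of order three is solvable. -/
theorem solvable_of_setup (S : Setup p G V) (C : Subgroup G)
    (h3 : ∀ X Y : Subgroup G, X ≤ C → Y ≤ C → Nat.card X = 3 → Nat.card Y = 3 → X = Y) :
    Group.IsSolvable C := by
  rcases subsingleton_or_nontrivial G with hs | hnt
  · haveI : Subsingleton C := ⟨fun a b => Subtype.ext (Subsingleton.elim _ _)⟩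
    infer_instance
  obtain ⟨𝔊, iG, iF, K, ι, hKn, hK, hι, hfpf⟩ := exists_bridge S
  have hfpf' : ∀ h ∈ C.map ι, h ≠ 1 → K ⊓ Subgroup.centralizer {h} = ⊥ := by
    intro h hh h1
    obtain ⟨c, -, rfl⟩ := Subgroup.mem_map.mp hh
    apply hfpf c
    intro hc
    apply h1
    rw [hc, map_one]
  have hpull : ∀ X : Subgroup 𝔊, X ≤ C.map ι → X = (X.comap ι).map ι ∧ X.comap ι ≤ C ∧
      Nat.card (X.comap ι) = Nat.card X := by
    intro X hX
    have h1 : X = (X.comap ι).map ι := by
      rw [Subgroup.map_comap_eq, inf_of_le_right]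
      exact hX.trans (Subgroup.map_le_range ι C)
    refine ⟨h1, ?_, ?_⟩
    · intro g hg
      have h2 : ι g ∈ C.map ι := hX hg
      obtain ⟨c, hc, hcg⟩ := Subgroup.mem_map.mp h2
      rw [← hι hcg]
      exact hc
    · conv_rhs => rw [h1]
      exact (Subgroup.card_map_of_injective hι).symm
  have hT3 : ∀ X Y : Subgroup 𝔊, X ≤ C.map ι → Y ≤ C.map ι → Nat.card X = 3 → Nat.card Y = 3 →
      X = Y := by
    intro X Y hX hY hX3 hY3
    obtain ⟨hX1, hX2, hX4⟩ := hpull X hX
    obtain ⟨hY1, hY2, hY4⟩ := hpull Y hY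
    rw [hX1, hY1, h3 _ _ hX2 hY2 (by rw [hX4, hX3]) (by rw [hY4, hY3])]
  have hsol := Cfsg.Agent.Helper29.Sh3Idx.solvable_of_fpf hK (C.map ι) hfpf' hT3 (C.map ι) le_rfl
  exact Group.isSolvable_of_isSolvable_injective (f := (C.equivMapOfInjective ι hι).toMonoidHom)
    (C.equivMapOfInjective ι hι).injective

/-- A `q`-subgroup is cyclic or generalized quaternion. -/
theorem pgroup_of_setup (S : Setup p G V) {q : ℕ} [Fact q.Prime] (Q : Subgroup G)
    (hQ : IsPGroup q Q) :
    IsCyclic Q ∨ (q = 2 ∧ ∃ n : ℕ, Nonempty (Q ≃* QuaternionGroup (2 ^ n))) := by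
  rcases subsingleton_or_nontrivial G with hs | hnt
  · left
    haveI : Subsingleton Q := ⟨fun a b => Subtype.ext (Subsingleton.elim _ _)⟩
    exact isCyclic_of_subsingleton
  obtain ⟨𝔊, iG, iF, K, ι, hKn, hK, hι, hfpf⟩ := exists_bridge S
  have hfpf' : ∀ h ∈ Q.map ι, h ≠ 1 → K ⊓ Subgroup.centralizer {h} = ⊥ := by
    intro h hh h1
    obtain ⟨c, -, rfl⟩ := Subgroup.mem_map.mp hh
    apply hfpf c
    intro hc
    apply h1
    rw [hc, map_one]
  let e := Q.equivMapOfInjective ι hι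
  rcases Cfsg.Agent.Helper1.fpf_pgroup_cyclic_or_quaternion hK (Q.map ι) (hQ.map ι) hfpf' with
    h | ⟨h2, n, ⟨f⟩⟩
  · left
    exact isCyclic_of_surjective e.symm e.symm.surjective
  · right
    exact ⟨h2, n, ⟨e.trans f⟩⟩

end Cfsg.Agent.Helper5.Zas.Z10
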