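import Mathlib
import Cfsg.Agent.Helper4.ZasBridge

/-!
# Double covers of `A₄`, `A₅` inside a fixed-point-free group: Sylow 2-subgroups
-/

set_option autoImplicit false
set_option linter.style.haveILetI false
set_option linter.unusedSectionVars false

namespace Cfsg.Agent.Helper5.Zas.Z10

open Cfsg.Agent.Helper5.Zas

set_option maxRecDepth 100000 in
theorem alt5_pow_four : ∀ σ : Equiv.Perm (Fin 5), Equiv.Perm.sign σ = 1 → σ ^ 4 = 1 → σ ^ 2 = 1 := by
  decide

set_option maxRecDepth 100000 in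
theorem alt5_pow_six : ∀ σ : Equiv.Perm (Fin 5), Equiv.Perm.sign σ = 1 → σ ^ 6 = 1 →
    σ ^ 2 = 1 ∨ σ ^ 3 = 1 := by
  decide

set_option maxRecDepth 100000 in
theorem alt4_pow_four : ∀ σ : Equiv.Perm (Fin 4), Equiv.Perm.sign σ = 1 → σ ^ 4 = 1 → σ ^ 2 = 1 := by
  decide

set_option maxRecDepth 100000 in
theorem alt4_pow_six : ∀ σ : Equiv.Perm (Fin 4), Equiv.Perm.sign σ = 1 → σ ^ 6 = 1 →
    σ ^ 2 = 1 ∨ σ ^ 3 = 1 := by
  decide

theorem altn_pow_four {n : ℕ}
    (h : ∀ σ : Equiv.Perm (Fin n), Equiv.Perm.sign σ = 1 → σ ^ 4 = 1 → σ ^ 2 = 1)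
    (σ : alternatingGroup (Fin n)) (hσ : σ ^ 4 = 1) : σ ^ 2 = 1 := by
  apply Subtype.ext
  have h1 : (σ : Equiv.Perm (Fin n)) ^ 4 = 1 := by
    have := congrArg Subtype.val hσ
    simpa using this
  have := h σ.1 (Equiv.Perm.mem_alternatingGroup.mp σ.2) h1
  simpa using this

theorem altn_pow_six {n : ℕ}
    (h : ∀ σ : Equiv.Perm (Fin n), Equiv.Perm.sign σ = 1 → σ ^ 6 = 1 → σ ^ 2 = 1 ∨ σ ^ 3 = 1)
    (σ : alternatingGroup (Fin n)) (hσ : σ ^ 6 = 1) : σ ^ 2 = 1 ∨ σ ^ 3 = 1 := by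
  have h1 : (σ : Equiv.Perm (Fin n)) ^ 6 = 1 := by
    have := congrArg Subtype.val hσ
    simpa using this
  rcases h σ.1 (Equiv.Perm.mem_alternatingGroup.mp σ.2) h1 with h2 | h2
  · left
    apply Subtype.ext
    simpa using h2
  · right
    apply Subtype.ext
    simpa using h2

variable {p : ℕ} [Fact p.Prime] {G : Type*} [Group G] [Finite G] {V : Type*} [AddCommGroup V]
  [Module (ZMod p) V] [Finite V] [Nontrivial V]

/-- The hypotheses on a double cover `N → A_n` (`n = 4, 5`). -/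
structure Cover (N : Subgroup G) {n : ℕ} (π : N →* alternatingGroup (Fin n)) : Prop where
  ker2 : Nat.card π.ker = 2
  h4 : ∀ σ : alternatingGroup (Fin n), σ ^ 4 = 1 → σ ^ 2 = 1
  h6 : ∀ σ : alternatingGroup (Fin n), σ ^ 6 = 1 → σ ^ 2 = 1 ∨ σ ^ 3 = 1

variable {N : Subgroup G} {n : ℕ} {π : N →* alternatingGroup (Fin n)}

theorem Cover.mem_ker_of_invol (S : Setup p G V) (hc : Cover N π) {x : N} (hx : orderOf x = 2) :
    x ∈ π.ker := by
  haveI : Fact (Nat.Prime 2) := ⟨Nat.prime_two⟩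
  obtain ⟨z, hz⟩ := exists_prime_orderOf_dvd_card' (G := π.ker) 2 (by rw [hc.ker2])
  have h1 : orderOf (((z : N) : G)) = 2 := by
    rw [Subgroup.orderOf_coe, Subgroup.orderOf_coe, hz]
  have h2 : orderOf ((x : N) : G) = 2 := by rw [Subgroup.orderOf_coe, hx]
  have h3 := S.invol_unique h2 h1
  have h4 : x = (z : N) := Subtype.ext h3
  rw [h4]
  exact z.2

theorem Cover.sq_of_mem_ker (hc : Cover N π) {x : N} (hx : x ∈ π.ker) : x ^ 2 = 1 := by
  have h1 : (⟨x, hx⟩ : π.ker) ^ Nat.card π.ker = 1 := pow_card_eq_one'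
  rw [hc.ker2] at h1
  have := congrArg Subtype.val h1
  simpa using this

/-- No element of order `8`. -/
theorem Cover.orderOf_ne_eight (S : Setup p G V) (hc : Cover N π) (u : N) : orderOf u ≠ 8 := by
  intro hu
  have h1 : orderOf (u ^ 4) = 2 := by
    rw [orderOf_pow' u (by norm_num : (4 : ℕ) ≠ 0), hu]; rfl
  have h2 : u ^ 4 ∈ π.ker := hc.mem_ker_of_invol S h1
  have h3 : (π u) ^ 4 = 1 := by
    rw [← map_pow]
    exact h2
  have h4 := hc.h4 _ h3
  have h5 : u ^ 2 ∈ π.ker := by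
    rw [MonoidHom.mem_ker, map_pow]
    exact h4
  have h6 := hc.sq_of_mem_ker h5
  have h7 : u ^ 4 = 1 := by
    rw [← h6, ← pow_mul]
  have h8 := orderOf_dvd_of_pow_eq_one h7
  rw [hu] at h8
  omega

/-- No element of order `3` commutes with an element of order `4`. -/
theorem Cover.not_commute (S : Setup p G V) (hc : Cover N π) {c u : N} (hc3 : orderOf c = 3)
    (hu4 : orderOf u = 4) : c * u ≠ u * c := by
  intro hcomm
  have hcu : Commute c u := hcomm
  have hcomm' : Commute (π c) (π u) := hcu.map π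
  have hu2 : orderOf (u ^ 2) = 2 := by
    rw [orderOf_pow' u (by norm_num : (2 : ℕ) ≠ 0), hu4]; rfl
  have h1 : u ^ 2 ∈ π.ker := hc.mem_ker_of_invol S hu2
  have hτ2 : (π u) ^ 2 = 1 := by
    rw [← map_pow]; exact h1
  have hσ3 : (π c) ^ 3 = 1 := by
    rw [← map_pow, ← hc3, pow_orderOf_eq_one, map_one]
  have hρ6 : (π c * π u) ^ 6 = 1 := by
    rw [hcomm'.mul_pow]
    have e1 : (π c) ^ 6 = 1 := by
      rw [show (6 : ℕ) = 3 * 2 from rfl, pow_mul, hσ3, one_pow]
    have e2 : (π u) ^ 6 = 1 := by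
      rw [show (6 : ℕ) = 2 * 3 from rfl, pow_mul, hτ2, one_pow]
    rw [e1, e2, one_mul]
  rcases hc.h6 _ hρ6 with h2 | h3
  · -- `σ² = 1`
    rw [hcomm'.mul_pow, hτ2, mul_one] at h2
    have h4 : π c = 1 := by
      have : (π c) ^ 3 = (π c) ^ 2 * π c := pow_succ _ 2
      rw [hσ3, h2, one_mul] at this
      exact this.symm
    have h5 : c ∈ π.ker := h4
    have h6 := hc.sq_of_mem_ker h5
    have h7 := orderOf_dvd_of_pow_eq_one h6
    rw [hc3] at h7
    omega
  · -- `τ³ = 1`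
    rw [hcomm'.mul_pow, hσ3, one_mul] at h3
    have h4 : π u = 1 := by
      have : (π u) ^ 3 = (π u) ^ 2 * π u := pow_succ _ 2
      rw [h3, hτ2, one_mul] at this
      exact this.symm
    have h5 : u ∈ π.ker := h4
    have h6 := hc.sq_of_mem_ker h5
    have h7 := orderOf_dvd_of_pow_eq_one h6
    rw [hu4] at h7
    omega

/-- Subgroups of order `8` are quaternion. -/
theorem Cover.quaternion (S : Setup p G V) (hc : Cover N π) (Q : Subgroup G) (hQN : Q ≤ N)
    (hQ8 : Nat.card Q = 8) : Nonempty (Q ≃* QuaternionGroup 2) := by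
  haveI : Fact (Nat.Prime 2) := ⟨Nat.prime_two⟩
  have hQ : IsPGroup 2 Q := IsPGroup.of_card (n := 3) (by rw [hQ8]; norm_num)
  rcases pgroup_of_setup S Q hQ with hcyc | ⟨-, m, ⟨f⟩⟩
  · exfalso
    obtain ⟨g, hg⟩ := hcyc.exists_generator
    have h1 : orderOf g = 8 := by
      rw [orderOf_eq_card_of_forall_mem_zpowers hg, hQ8]
    have h2 : orderOf (⟨(g : G), hQN g.2⟩ : N) = 8 := by
      rw [Subgroup.orderOf_mk, Subgroup.orderOf_coe, h1]
    exact hc.orderOf_ne_eight S _ h2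
  · have hm : 2 ^ m = 2 := by
      haveI : NeZero (2 ^ m) := ⟨by positivity⟩
      have h1 : Nat.card Q = Nat.card (QuaternionGroup (2 ^ m)) := Nat.card_congr f.toEquiv
      rw [hQ8, Nat.card_eq_fintype_card, QuaternionGroup.card] at h1
      omega
    rw [hm] at f
    exact ⟨f⟩

/-- The centralizer of a subgroup of order `8` has no element of order `3`. -/
theorem Cover.centralizer_no_three (S : Setup p G V) (hc : Cover N π)
    (hD : ∀ g : G, orderOf g = 3 → g ∈ N) (U : Subgroup G) (hUN : U ≤ N) (hU8 : Nat.card U = 8)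
    (c : G) (hcC : c ∈ Subgroup.centralizer (U : Set G)) : orderOf c ≠ 3 := by
  intro hc3
  obtain ⟨f⟩ := hc.quaternion S U hUN hU8
  set u : U := f.symm (QuaternionGroup.a 1) with hu
  have hu4 : orderOf u = 4 := by
    rw [hu, MulEquiv.orderOf_eq, QuaternionGroup.orderOf_a_one]
  rw [Subgroup.mem_centralizer_iff] at hcC
  have h1 := hcC (u : G) u.2
  have hcN : c ∈ N := hD c hc3
  refine hc.not_commute S (c := ⟨c, hcN⟩) (u := ⟨(u : G), hUN u.2⟩) ?_ ?_ ?_
  · rw [Subgroup.orderOf_mk, hc3]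
  · rw [Subgroup.orderOf_mk, Subgroup.orderOf_coe, hu4]
  · apply Subtype.ext
    exact h1.symm

end Cfsg.Agent.Helper5.Zas.Z10
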