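import Mathlib
import Cfsg.Agent.Helper4.ZasCover
import Cfsg.Agent.Helper18.AutQ8
import Cfsg.Agent.Helper24.Burnside
import Cfsg.Agent.S3378

/-!
# A perfect fixed-point-free group is `SL(2,5)`, given the closure of the elements of order three
-/

set_option autoImplicit false
set_option linter.style.haveILetI false
set_option linter.unusedSectionVars false

namespace Cfsg.Agent.Helper5.Zas.Z10

open Cfsg.Agent.Helper5.Zas

variable {p : ℕ} [Fact p.Prime] {G : Type*} [Group G] [Finite G] {V : Type*} [AddCommGroup V]
  [Module (ZMod p) V] [Finite V] [Nontrivial V]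

theorem solvable_perm_four : Group.IsSolvable (Equiv.Perm (Fin 4)) := by
  apply Cfsg.Agent.Helper24.isSolvable_of_card_eq_prime_pow_mul 2 3 3 1 Nat.prime_two
    Nat.prime_three
  rw [Nat.card_eq_fintype_card, Fintype.card_perm, Fintype.card_fin]
  rfl

theorem solvable_mulAut_of_quaternion {Q : Type*} [Group Q] (f : Q ≃* QuaternionGroup 2) :
    Group.IsSolvable (MulAut Q) := by
  obtain ⟨e⟩ := Cfsg.Agent.Helper18.AutQ8.main
  haveI := solvable_perm_four
  exact Group.isSolvable_of_isSolvable_injective (f := ((MulAut.congr f).trans e).toMonoidHom)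
    ((MulAut.congr f).trans e).injective

/-- A perfect solvable group is trivial. -/
theorem subsingleton_of_perfect_solvable {H : Type*} [Group H] (hperf : commutator H = ⊤)
    (hsol : Group.IsSolvable H) : Subsingleton H := by
  by_contra hns
  rw [not_subsingleton_iff_nontrivial] at hns
  have := Group.IsSolvable.commutator_lt_top_of_nontrivial (G := H)
  rw [hperf] at this
  exact lt_irrefl _ this

variable {N : Subgroup G} {n : ℕ} {π : N →* alternatingGroup (Fin n)}

/-- The normalizer of a subgroup of order `8` of `N` is solvable. -/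
theorem Cover.normalizer_solvable (S : Setup p G V) (hc : Cover N π)
    (hD : ∀ g : G, orderOf g = 3 → g ∈ N) (U : Subgroup G) (hUN : U ≤ N) (hU8 : Nat.card U = 8) :
    Group.IsSolvable ↥(Subgroup.normalizer (U : Set G)) := by
  haveI : Fact (Nat.Prime 3) := ⟨Nat.prime_three⟩
  set M : Subgroup G := Subgroup.normalizer (U : Set G) with hM
  set C : Subgroup G := Subgroup.centralizer (U : Set G) with hC
  have hUM : U ≤ M := Subgroup.le_normalizer
  have hCM : C ≤ M := Subgroup.centralizer_le_normalizer _
  haveI hnorm : (U.subgroupOf M).Normal := Subgroup.normal_in_normalizer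
  -- the centralizer is solvable
  have hCsol : Group.IsSolvable C := by
    apply solvable_of_setup S C
    intro X Y hX _ hX3 _
    exfalso
    obtain ⟨x, hx⟩ := exists_prime_orderOf_dvd_card' (G := X) 3 (by rw [hX3])
    have h1 : orderOf (x : G) = 3 := by rw [Subgroup.orderOf_coe, hx]
    exact hc.centralizer_no_three S hD U hUN hU8 (x : G) (hX x.2) h1
  haveI hCsol' : Group.IsSolvable ↥(C.subgroupOf M) :=
    Group.isSolvable_of_isSolvable_injective
      (f := (Subgroup.subgroupOfEquivOfLe hCM).toMonoidHom) (Subgroup.subgroupOfEquivOfLe hCM).injective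
  -- the automorphism group
  obtain ⟨f⟩ := hc.quaternion S U hUN hU8
  haveI hAsol : Group.IsSolvable (MulAut ↥(U.subgroupOf M)) :=
    solvable_mulAut_of_quaternion ((Subgroup.subgroupOfEquivOfLe hUM).trans f)
  let φ : ↥M →* MulAut ↥(U.subgroupOf M) := MulAut.conjNormal
  refine Group.isSolvable_of_ker_le_range (C.subgroupOf M).subtype φ ?_
  intro m hm
  rw [Subgroup.range_subtype, Subgroup.mem_subgroupOf, hC, Subgroup.mem_centralizer_iff]
  intro u hu
  have h1 : φ m ⟨⟨u, hUM hu⟩, Subgroup.mem_subgroupOf.mpr hu⟩ =
      ⟨⟨u, hUM hu⟩, Subgroup.mem_subgroupOf.mpr hu⟩ := by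
    rw [MonoidHom.mem_ker] at hm
    rw [hm]
    rfl
  have h2 := congrArg (fun x : ↥(U.subgroupOf M) => ((x : ↥M) : G)) h1
  have h3 : (m : G) * u * (m : G)⁻¹ = u := by
    simpa [φ, MulAut.conjNormal_apply] using h2
  have : (m : G) * u = ((m : G) * u * (m : G)⁻¹) * (m : G) := by group
  rw [this, h3]

/-- Frattini: the subgroup generated by the elements of order three is everything. -/
theorem Cover.eq_top (S : Setup p G V) (hperf : commutator G = ⊤) (hc : Cover N π) [hNn : N.Normal]
    (hD : ∀ g : G, orderOf g = 3 → g ∈ N) (m : ℕ) (hN : Nat.card N = 8 * m) (hm : ¬ 2 ∣ m) :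
    N = ⊤ := by
  haveI : Fact (Nat.Prime 2) := ⟨Nat.prime_two⟩
  have hm0 : m ≠ 0 := fun h => hm (h ▸ dvd_zero 2)
  obtain ⟨P⟩ := (Sylow.nonempty : Nonempty (Sylow 2 N))
  have hP8 : Nat.card P = 8 := by
    rw [P.card_eq_multiplicity, hN, show (8 : ℕ) = 2 ^ 3 from rfl,
      Nat.factorization_mul (by norm_num) hm0, Nat.Prime.factorization_pow Nat.prime_two]
    simp [Nat.factorization_eq_zero_of_not_dvd hm]
  set U : Subgroup G := (P : Subgroup N).map N.subtype with hU
  have hUN : U ≤ N := Subgroup.map_subtype_le _
  have hU8 : Nat.card U = 8 := by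
    rw [hU, Subgroup.card_map_of_injective N.subtype_injective]
    exact hP8
  have hfrat : Subgroup.normalizer (U : Set G) ⊔ N = ⊤ := Sylow.normalizer_sup_eq_top P
  haveI hMsol := hc.normalizer_solvable S hD U hUN hU8
  -- the quotient is solvable and perfect
  let ψ : ↥(Subgroup.normalizer (U : Set G)) →* G ⧸ N :=
    (QuotientGroup.mk' N).comp (Subgroup.normalizer (U : Set G)).subtype
  have hψ : Function.Surjective ψ := by
    intro x
    obtain ⟨g, rfl⟩ := QuotientGroup.mk'_surjective N x
    have hg : g ∈ Subgroup.normalizer (U : Set G) ⊔ N := by rw [hfrat]; trivial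
    obtain ⟨y, hy, z, hz, rfl⟩ := Subgroup.mem_sup_of_normal_right.mp hg
    refine ⟨⟨y, hy⟩, ?_⟩
    show (QuotientGroup.mk' N) y = (QuotientGroup.mk' N) (y * z)
    have hz1 : (QuotientGroup.mk' N) z = 1 := (QuotientGroup.eq_one_iff z).mpr hz
    rw [map_mul, hz1, mul_one]
  have hQsol : Group.IsSolvable (G ⧸ N) := Group.isSolvable_of_surjective hψ
  have hQperf : commutator (G ⧸ N) = ⊤ := by
    have h1 : commutator (G ⧸ N) = Subgroup.map (QuotientGroup.mk' N) (commutator G) := by
      rw [commutator_def, commutator_def, Subgroup.map_commutator,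
        Subgroup.map_top_of_surjective _ (QuotientGroup.mk'_surjective N)]
    rw [h1, hperf, Subgroup.map_top_of_surjective _ (QuotientGroup.mk'_surjective N)]
  have hsub := subsingleton_of_perfect_solvable hQperf hQsol
  exact QuotientGroup.subgroup_eq_top_of_subsingleton N hsub

/-- The main theorem, given the structure of the subgroup generated by the elements of order
three. -/
theorem perfect_iso_sl25_aux (S : Setup p G V) (hperf : commutator G = ⊤) (hne : Nontrivial G)
    (hZ9 : (∃ x : G, ∀ g : G, orderOf g = 3 → g ∈ Subgroup.zpowers x) ∨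
      IsBinary (Subgroup.closure {g : G | orderOf g = 3})) :
    Nonempty (G ≃* Matrix.SpecialLinearGroup (Fin 2) (ZMod 5)) := by
  haveI : Fact (Nat.Prime 2) := ⟨Nat.prime_two⟩
  haveI : Fact (Nat.Prime 3) := ⟨Nat.prime_three⟩
  have hnotsol : ¬ Group.IsSolvable G := by
    intro hsol
    have := subsingleton_of_perfect_solvable hperf hsol
    exact not_subsingleton G this
  rcases hZ9 with ⟨x, hx⟩ | hB
  · -- at most one subgroup of order three: solvable
    exfalso
    apply hnotsol
    have hgen : ∀ X : Subgroup G, Nat.card X = 3 → ∃ a : G, orderOf a = 3 ∧ X = Subgroup.zpowers a := by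
      intro X hX3
      obtain ⟨a, ha⟩ := exists_prime_orderOf_dvd_card' (G := X) 3 (by rw [hX3])
      have h1 : orderOf (a : G) = 3 := by rw [Subgroup.orderOf_coe, ha]
      refine ⟨a, h1, ?_⟩
      symm
      apply Subgroup.eq_of_le_of_card_ge
      · rw [Subgroup.zpowers_le]; exact a.2
      · rw [Nat.card_zpowers, h1, hX3]
    have h3 : ∀ X Y : Subgroup G, X ≤ ⊤ → Y ≤ ⊤ → Nat.card X = 3 → Nat.card Y = 3 → X = Y := by
      intro X Y _ _ hX3 hY3
      obtain ⟨a, ha, rfl⟩ := hgen X hX3
      obtain ⟨b, hb, rfl⟩ := hgen Y hY3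
      obtain ⟨i, hi⟩ := Subgroup.mem_zpowers_iff.mp (hx a ha)
      obtain ⟨j, hj⟩ := Subgroup.mem_zpowers_iff.mp (hx b hb)
      have hcomm : a * b = b * a := by
        rw [← hi, ← hj]
        exact ((Commute.refl x).zpow_zpow i j).eq
      have hba := S.mem_zpowers_of_commute hcomm (by rw [ha, hb])
      symm
      apply Subgroup.eq_of_le_of_card_ge
      · rw [Subgroup.zpowers_le]; exact hba
      · rw [Nat.card_zpowers, Nat.card_zpowers, ha, hb]
    have hsol := solvable_of_setup S ⊤ h3
    exact Group.isSolvable_of_isSolvable_injective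
      (f := (Subgroup.topEquiv (G := G)).symm.toMonoidHom) (Subgroup.topEquiv (G := G)).symm.injective
  · -- the binary case
    set N : Subgroup G := Subgroup.closure {g : G | orderOf g = 3} with hN
    have hD : ∀ g : G, orderOf g = 3 → g ∈ N := fun g hg => Subgroup.subset_closure hg
    haveI hNn : N.Normal := by
      constructor
      intro x hx g
      induction hx using Subgroup.closure_induction with
      | mem y hy =>
        apply Subgroup.subset_closure
        show orderOf (g * y * g⁻¹) = 3
        have : g * y * g⁻¹ = MulAut.conj g y := by simp [MulAut.conj_apply]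
        rw [this, MulEquiv.orderOf_eq]
        exact hy
      | one => simp
      | mul y z _ _ hy hz =>
        have : g * (y * z) * g⁻¹ = (g * y * g⁻¹) * (g * z * g⁻¹) := by group
        rw [this]
        exact mul_mem hy hz
      | inv y _ hy =>
        have : g * y⁻¹ * g⁻¹ = (g * y * g⁻¹)⁻¹ := by group
        rw [this]
        exact inv_mem hy
    rcases hB with ⟨hcard, π, -, hker⟩ | ⟨hcard, π, -, hker⟩
    · -- order 24: solvable
      exfalso
      have hc : Cover N π := ⟨hker, altn_pow_four alt4_pow_four, altn_pow_six alt4_pow_six⟩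
      have htop := hc.eq_top S hperf hD 3 (by rw [hcard]) (by norm_num)
      apply hnotsol
      apply Cfsg.Agent.Helper24.isSolvable_of_card_eq_prime_pow_mul 2 3 3 1 Nat.prime_two
        Nat.prime_three
      have h1 : Nat.card G = Nat.card N := by
        rw [htop]; exact (Nat.card_congr Subgroup.topEquiv.toEquiv).symm
      rw [h1, hcard]
      rfl
    · -- order 120
      have hc : Cover N π := ⟨hker, altn_pow_four alt5_pow_four, altn_pow_six alt5_pow_six⟩
      have htop := hc.eq_top S hperf hD 15 (by rw [hcard]) (by norm_num)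
      have hG120 : Nat.card G = 120 := by
        rw [← hcard, htop]; exact (Nat.card_congr Subgroup.topEquiv.toEquiv).symm
      apply Cfsg.Agent.S3378.result.1 G hG120 hnotsol
      intro P
      have hP8 : Nat.card P = 8 := by
        rw [P.card_eq_multiplicity, hG120, show (120 : ℕ) = 2 ^ 3 * 15 from rfl,
          Nat.factorization_mul (by norm_num) (by norm_num),
          Nat.Prime.factorization_pow Nat.prime_two]
        simp [Nat.factorization_eq_zero_of_not_dvd (show ¬ 2 ∣ 15 by norm_num)]
      exact hc.quaternion S (P : Subgroup G) (by rw [htop]; exact le_top) hP8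

end Cfsg.Agent.Helper5.Zas.Z10
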