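import Mathlib
import Cfsg.Agent.Lead.CoprimeSylow
import Cfsg.Agent.Helper4.ZasPerfectAux
import Cfsg.Agent.Helper9.QuatSylowSL23

/-!
# Coprime automorphism groups of groups with cyclic / quaternion Sylow subgroups
(piece (AutFC) of S4118)

If `Q` normalises the solvable group `H`, `(|Q|, |H|) = 1`, every Sylow subgroup of `H` is cyclic or
generalised quaternion and `C_Q(H)` is solvable, then `Q` is solvable.
-/

set_option autoImplicit false

namespace Cfsg.Agent.Helper4.TIHall

/-- the automorphism group of a cyclic or generalised quaternion group is solvable -/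
theorem solvable_mulAut_of_cyclic_or_quat {P : Type*} [Group P] [Finite P]
    (h : IsCyclic P ∨ ∃ n : ℕ, Nonempty (P ≃* QuaternionGroup (2 ^ n))) :
    Group.IsSolvable (MulAut P) := by
  have hcyc : ∀ {R : Type _} [Group R] [IsCyclic R], Group.IsSolvable (MulAut R) := by
    intro R _ _
    have e := IsCyclic.mulAutMulEquiv R
    exact Group.isSolvable_of_isSolvable_injective (f := e.toMonoidHom) e.injective
  rcases h with h | ⟨n, ⟨e⟩⟩
  · exact hcyc
  · rcases Nat.lt_or_ge n 2 with hn | hn
    · interval_cases n
      · have : IsCyclic P := by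
          have := QuaternionGroup.quaternionGroup_one_isCyclic
          exact isCyclic_of_surjective e.symm e.symm.surjective
        exact hcyc
      · exact Cfsg.Agent.Helper5.Zas.Z10.solvable_mulAut_of_quaternion e
    · have hp := Cfsg.Agent.Helper9.isPGroup_mulAut_quaternion n hn
      have : NeZero (2 ^ n) := ⟨by positivity⟩
      haveI : Fact (Nat.Prime 2) := ⟨Nat.prime_two⟩
      have hnil : Group.IsNilpotent (MulAut (QuaternionGroup (2 ^ n))) := hp.isNilpotent
      have hsol : Group.IsSolvable (MulAut (QuaternionGroup (2 ^ n))) := inferInstance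
      exact Group.isSolvable_of_isSolvable_injective (f := (MulAut.congr e).toMonoidHom)
        (MulAut.congr e).injective

variable {G : Type*} [Group G]

/-- one step: if `K` normalises `P`, `Aut P` is solvable and `K ⊓ C(P)` is solvable then `K` is. -/
theorem solvable_step (K P : Subgroup G) (hKP : K ≤ Subgroup.normalizer (P : Set G))
    (hAut : Group.IsSolvable (MulAut P))
    (hker : Group.IsSolvable ↥(K ⊓ Subgroup.centralizer (P : Set G))) : Group.IsSolvable K := by
  let g : K →* MulAut P := P.normalizerMonoidHom.comp (Subgroup.inclusion hKP)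
  let f : ↥(K ⊓ Subgroup.centralizer (P : Set G)) →* K := Subgroup.inclusion inf_le_left
  apply Group.isSolvable_of_ker_le_range f g
  intro k hk
  rw [MonoidHom.mem_ker, MonoidHom.comp_apply, ← MonoidHom.mem_ker,
    Subgroup.normalizerMonoidHom_ker, Subgroup.mem_subgroupOf] at hk
  exact ⟨⟨k.1, k.2, hk⟩, rfl⟩

theorem solvable_of_le {K L : Subgroup G} (h : K ≤ L) (hL : Group.IsSolvable L) :
    Group.IsSolvable K :=
  Group.isSolvable_of_isSolvable_injective (f := Subgroup.inclusion h)
    (Subgroup.inclusion_injective h)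

variable [Finite G]

/-- **(AutFC)** -/
theorem isSolvable_of_coprime_normalizing (H Q : Subgroup G)
    (hQ : Q ≤ Subgroup.normalizer (H : Set G))
    (hcop : (Nat.card Q).Coprime (Nat.card H)) (hHsolv : Group.IsSolvable H)
    (hsyl : ∀ (p : ℕ) [Fact p.Prime] (P : Sylow p H),
      IsCyclic P ∨ ∃ n : ℕ, Nonempty (P ≃* QuaternionGroup (2 ^ n)))
    (hC : Group.IsSolvable ↥(Q ⊓ Subgroup.centralizer (H : Set G))) : Group.IsSolvable Q := by
  classical
  -- invariant Sylow subgroups
  have hex : ∀ p : ℕ, ∃ P : Subgroup G, p.Prime →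
      (Q ≤ Subgroup.normalizer (P : Set G) ∧ Group.IsSolvable (MulAut P) ∧ P ≤ H ∧
        p ^ (Nat.card H).factorization p ∣ Nat.card P) := by
    intro p
    by_cases hp : p.Prime
    · haveI : Fact p.Prime := ⟨hp⟩
      obtain ⟨P, hP⟩ := Cfsg.Agent.Lead.coprime_exists_invariant_sylow Q H hQ hcop
        (Or.inr hHsolv) p
      refine ⟨(P : Subgroup H).map H.subtype, fun _ => ⟨hP, ?_, Subgroup.map_subtype_le _, ?_⟩⟩
      · have e : ↥(P : Subgroup H) ≃* ↥((P : Subgroup H).map H.subtype) :=
          Subgroup.equivMapOfInjective _ _ H.subtype_injective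
        apply solvable_mulAut_of_cyclic_or_quat
        rcases hsyl p P with h | ⟨n, ⟨f⟩⟩
        · left
          exact isCyclic_of_surjective e e.surjective
        · right
          exact ⟨n, ⟨e.symm.trans f⟩⟩
      · have e : ↥(P : Subgroup H) ≃* ↥((P : Subgroup H).map H.subtype) :=
          Subgroup.equivMapOfInjective _ _ H.subtype_injective
        rw [← Nat.card_congr e.toEquiv, Sylow.card_eq_multiplicity]
    · exact ⟨⊥, fun h => absurd h hp⟩
  choose Pf hPf using hex
  -- induction over finite sets of primes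
  have hind : ∀ S : Finset ℕ, (∀ p ∈ S, p.Prime) →
      Group.IsSolvable ↥(Q ⊓ ⨅ p ∈ S, Subgroup.centralizer (Pf p : Set G)) →
      Group.IsSolvable Q := by
    intro S
    induction S using Finset.induction_on with
    | empty =>
      intro _ h
      exact solvable_of_le (le_inf le_rfl (by simp)) h
    | insert a S ha ih =>
      intro hS h
      have haP : a.Prime := hS a (Finset.mem_insert_self a S)
      apply ih (fun p hp => hS p (Finset.mem_insert_of_mem hp))
      apply solvable_step _ (Pf a) (inf_le_left.trans (hPf a haP).1) (hPf a haP).2.1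
      apply solvable_of_le _ h
      rw [Finset.iInf_insert]
      intro x hx
      exact ⟨hx.1.1, hx.2, hx.1.2⟩
  apply hind (Nat.card H).primeFactors (fun p hp => Nat.prime_of_mem_primeFactors hp)
  apply solvable_of_le _ hC
  -- the invariant Sylow subgroups generate `H`
  set J : Subgroup G := ⨆ p ∈ (Nat.card H).primeFactors, Pf p with hJ
  have hJH : J ≤ H := by
    rw [hJ]
    exact iSup₂_le fun p hp => (hPf p (Nat.prime_of_mem_primeFactors hp)).2.2.1
  have hcardH : Nat.card H ≠ 0 := Nat.card_pos.ne'
  have hcardJ : Nat.card J ≠ 0 := Nat.card_pos.ne'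
  have hdvd : Nat.card H ∣ Nat.card J := by
    rw [← Nat.factorization_prime_le_iff_dvd hcardH hcardJ]
    intro p hp
    by_cases hpH : p ∣ Nat.card H
    · have hmem : p ∈ (Nat.card H).primeFactors := Nat.mem_primeFactors.mpr ⟨hp, hpH, hcardH⟩
      have h1 : Pf p ≤ J := by
        rw [hJ]
        exact le_iSup₂_of_le p hmem le_rfl
      have h2 : p ^ (Nat.card H).factorization p ∣ Nat.card J :=
        (hPf p hp).2.2.2.trans (Subgroup.card_dvd_of_le h1)
      exact (hp.pow_dvd_iff_le_factorization hcardJ).mp h2
    · rw [Nat.factorization_eq_zero_of_not_dvd hpH]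
      exact Nat.zero_le _
  have hJeq : J = H :=
    Subgroup.eq_of_le_of_card_ge hJH (Nat.le_of_dvd Nat.card_pos hdvd)
  intro x hx
  refine ⟨hx.1, ?_⟩
  show x ∈ Subgroup.centralizer (H : Set G)
  rw [Subgroup.mem_centralizer_iff]
  have hle : J ≤ Subgroup.centralizer ({x} : Set G) := by
    rw [hJ]
    apply iSup₂_le
    intro p hp h hh
    have h1 : x ∈ Subgroup.centralizer (Pf p : Set G) := by
      have h3 : x ∈ ⨅ p ∈ (Nat.card H).primeFactors, Subgroup.centralizer (Pf p : Set G) := hx.2
      rw [Subgroup.mem_iInf] at h3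
      have h4 := h3 p
      rw [Subgroup.mem_iInf] at h4
      exact h4 hp
    rw [Subgroup.mem_centralizer_iff]
    intro y hy
    rw [Set.mem_singleton_iff] at hy
    subst hy
    exact (h1 h hh).symm
  intro h hh
  have h2 : h ∈ Subgroup.centralizer ({x} : Set G) := hle (hJeq ▸ hh)
  exact (h2 x rfl).symm

end Cfsg.Agent.Helper4.TIHall
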