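import Mathlib
import Cfsg.Agent.Helper13.SL25Pres
import Cfsg.Agent.Helper4.ZasPerfectAux

/-!
# `SL(2,5)` is perfect, hence not solvable (piece (SL) of S4118)
-/

set_option autoImplicit false

namespace Cfsg.Agent.Helper4.TIHall

open Cfsg.Agent.Helper13.SL25Pres

theorem closure_sl25 :
    Subgroup.closure ({X0, Y0, Z0} : Set (Matrix.SpecialLinearGroup (Fin 2) (ZMod 5))) = ⊤ := by
  have h1 := congrArg (Subgroup.map toSL) closure_P
  rw [MonoidHom.map_closure, Subgroup.map_top_of_surjective toSL toSL_surjective] at h1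
  rw [← h1]
  congr 1
  ext g
  simp only [Set.mem_image, Set.mem_insert_iff, Set.mem_singleton_iff]
  constructor
  · rintro (rfl | rfl | rfl)
    · exact ⟨gx, Or.inl rfl, toSL_gx⟩
    · exact ⟨gy, Or.inr (Or.inl rfl), toSL_gy⟩
    · exact ⟨gz, Or.inr (Or.inr rfl), toSL_gz⟩
  · rintro ⟨x, (rfl | rfl | rfl), rfl⟩
    · exact Or.inl toSL_gx
    · exact Or.inr (Or.inl toSL_gy)
    · exact Or.inr (Or.inr toSL_gz)

/-- an abelian group generated by `a, b, c` with `a³ = b⁵ = c² = 1`, `(ab)² = c` is trivial -/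
theorem abelian_relations {A : Type*} [CommGroup A] {a b c : A} (ha : a ^ 3 = 1) (hb : b ^ 5 = 1)
    (hc : c ^ 2 = 1) (hab : (a * b) ^ 2 = c) : a = 1 ∧ b = 1 ∧ c = 1 := by
  have h1 : a ^ 4 * b ^ 4 = 1 := by
    have : ((a * b) ^ 2) ^ 2 = 1 := by rw [hab, hc]
    rw [← pow_mul, mul_pow] at this
    exact this
  have h2 : a = b := by
    have h3 : a ^ 4 = a := by
      rw [pow_succ, ha, one_mul]
    have h4 : b ^ 4 = b⁻¹ := by
      rw [eq_inv_iff_mul_eq_one, ← pow_succ]
      exact hb
    rw [h3, h4, mul_inv_eq_one] at h1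
    exact h1
  subst h2
  have h5 : a = 1 := by
    have h6 : a ^ 6 = 1 := by
      rw [show 6 = 3 * 2 by norm_num, pow_mul, ha, one_pow]
    have h7 : a ^ 6 = a ^ 5 * a := pow_succ a 5
    rw [h7, hb, one_mul] at h6
    exact h6
  subst h5
  refine ⟨rfl, rfl, ?_⟩
  rw [← hab]
  simp

theorem commutator_sl25 : commutator (Matrix.SpecialLinearGroup (Fin 2) (ZMod 5)) = ⊤ := by
  set G := Matrix.SpecialLinearGroup (Fin 2) (ZMod 5)
  have key := abelian_relations (A := Abelianization G) (a := Abelianization.of X0)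
    (b := Abelianization.of Y0) (c := Abelianization.of Z0)
    (by rw [← map_pow, X0_pow, map_one]) (by rw [← map_pow, Y0_pow, map_one])
    (by rw [← map_pow, Z0_pow, map_one]) (by rw [← map_mul, ← map_pow, X0_Y0])
  have hker : ∀ g : G, Abelianization.of g = 1 → g ∈ commutator G := by
    intro g hg
    have : g ∈ (Abelianization.of : G →* Abelianization G).ker := hg
    rwa [Abelianization.ker_of] at this
  rw [eq_top_iff, ← closure_sl25, Subgroup.closure_le]
  rintro g (rfl | rfl | rfl)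
  · exact hker _ key.1
  · exact hker _ key.2.1
  · exact hker _ key.2.2

/-- **(SL)** -/
theorem not_isSolvable_sl25 :
    ¬ Group.IsSolvable (Matrix.SpecialLinearGroup (Fin 2) (ZMod 5)) := by
  intro h
  have := Cfsg.Agent.Helper5.Zas.Z10.subsingleton_of_perfect_solvable commutator_sl25 h
  exact Z0_ne (Subsingleton.elim _ _)

end Cfsg.Agent.Helper4.TIHall
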