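import Mathlib
import Cfsg.Agent.Helper4.ZasPerfectAux

/-!
# By-products of the proof of `perfect_iso_sl25` (piece Y1 of the Zassenhaus cluster)
-/

set_option autoImplicit false
set_option linter.style.haveILetI false
set_option linter.unusedSectionVars false

namespace Cfsg.Agent.Helper5.Zas

open Cfsg.Agent.Helper5.Zas.Z10

variable {p : ℕ} [Fact p.Prime] {G : Type*} [Group G] [Finite G] {V : Type*} [AddCommGroup V]
  [Module (ZMod p) V] [Finite V] [Nontrivial V]

/-- Sylow subgroups are cyclic or generalized quaternion. -/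
theorem sylow_of_setup (S : Setup p G V) (q : ℕ) [Fact q.Prime] (P : Sylow q G) :
    IsCyclic (P : Subgroup G) ∨
      (q = 2 ∧ ∃ n : ℕ, Nonempty ((P : Subgroup G) ≃* QuaternionGroup (2 ^ n))) :=
  pgroup_of_setup S (P : Subgroup G) P.isPGroup'

/-- If all elements of order three lie in one cyclic subgroup, the group is solvable. -/
theorem solvable_of_order_three_cyclic (S : Setup p G V)
    (h : ∃ x : G, ∀ g : G, orderOf g = 3 → g ∈ Subgroup.zpowers x) : Group.IsSolvable G := by
  haveI : Fact (Nat.Prime 3) := ⟨Nat.prime_three⟩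
  obtain ⟨x, hx⟩ := h
  have hgen : ∀ X : Subgroup G, Nat.card X = 3 →
      ∃ a : G, orderOf a = 3 ∧ X = Subgroup.zpowers a := by
    intro X hX3
    obtain ⟨a, ha⟩ := exists_prime_orderOf_dvd_card' (G := X) 3 (by rw [hX3])
    have h1 : orderOf (a : G) = 3 := by rw [Subgroup.orderOf_coe, ha]
    refine ⟨a, h1, ?_⟩
    symm
    apply Subgroup.eq_of_le_of_card_ge
    · rw [Subgroup.zpowers_le]; exact a.2
    · rw [Nat.card_zpowers, h1, hX3]
  have h3 : ∀ X Y : Subgroup G, X ≤ ⊤ → Y ≤ ⊤ → Nat.card X = 3 → Nat.card Y = 3 → X = Y := by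
    intro X Y _ _ hX3 hY3
    obtain ⟨a, ha, rfl⟩ := hgen X hX3
    obtain ⟨b, hb, rfl⟩ := hgen Y hY3
    obtain ⟨i, hi⟩ := Subgroup.mem_zpowers_iff.mp (hx a ha)
    obtain ⟨j, hj⟩ := Subgroup.mem_zpowers_iff.mp (hx b hb)
    have hcomm : a * b = b * a := by
      rw [← hi, ← hj]
      exact ((Commute.refl x).zpow_zpow i j).eq
    have hba := S.mem_zpowers_of_commute hcomm (by rw [ha, hb])
    symm
    apply Subgroup.eq_of_le_of_card_ge
    · rw [Subgroup.zpowers_le]; exact hba
    · rw [Nat.card_zpowers, Nat.card_zpowers, ha, hb]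
  have hsol := solvable_of_setup S ⊤ h3
  exact Group.isSolvable_of_isSolvable_injective
    (f := (Subgroup.topEquiv (G := G)).symm.toMonoidHom) (Subgroup.topEquiv (G := G)).symm.injective

/-- The subgroup generated by the elements of order three is normal. -/
theorem normal_closure_order_three :
    (Subgroup.closure {g : G | orderOf g = 3}).Normal := by
  constructor
  intro x hx g
  induction hx using Subgroup.closure_induction with
  | mem y hy =>
    apply Subgroup.subset_closure
    show orderOf (g * y * g⁻¹) = 3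
    have : g * y * g⁻¹ = MulAut.conj g y := by simp [MulAut.conj_apply]
    rw [this, MulEquiv.orderOf_eq]
    exact hy
  | one => simp
  | mul y z _ _ hy hz =>
    have : g * (y * z) * g⁻¹ = (g * y * g⁻¹) * (g * z * g⁻¹) := by group
    rw [this]
    exact mul_mem hy hz
  | inv y _ hy =>
    have : g * y⁻¹ * g⁻¹ = (g * y * g⁻¹)⁻¹ := by group
    rw [this]
    exact inv_mem hy

namespace Z10

variable {N : Subgroup G} {n : ℕ} {π : N →* alternatingGroup (Fin n)}

/-- Frattini: the quotient by `N` is solvable. -/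
theorem Cover.quotient_solvable (S : Setup p G V) (hc : Cover N π) [hNn : N.Normal]
    (hD : ∀ g : G, orderOf g = 3 → g ∈ N) (m : ℕ) (hN : Nat.card N = 8 * m) (hm : ¬ 2 ∣ m) :
    Group.IsSolvable (G ⧸ N) := by
  haveI : Fact (Nat.Prime 2) := ⟨Nat.prime_two⟩
  have hm0 : m ≠ 0 := fun h => hm (h ▸ dvd_zero 2)
  obtain ⟨P⟩ := (Sylow.nonempty : Nonempty (Sylow 2 N))
  have hP8 : Nat.card P = 8 := by
    rw [P.card_eq_multiplicity, hN, show (8 : ℕ) = 2 ^ 3 from rfl,
      Nat.factorization_mul (by norm_num) hm0, Nat.Prime.factorization_pow Nat.prime_two]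
    simp [Nat.factorization_eq_zero_of_not_dvd hm]
  set U : Subgroup G := (P : Subgroup N).map N.subtype with hU
  have hUN : U ≤ N := Subgroup.map_subtype_le _
  have hU8 : Nat.card U = 8 := by
    rw [hU, Subgroup.card_map_of_injective N.subtype_injective]
    exact hP8
  have hfrat : Subgroup.normalizer (U : Set G) ⊔ N = ⊤ := Sylow.normalizer_sup_eq_top P
  haveI hMsol := hc.normalizer_solvable S hD U hUN hU8
  let ψ : ↥(Subgroup.normalizer (U : Set G)) →* G ⧸ N :=
    (QuotientGroup.mk' N).comp (Subgroup.normalizer (U : Set G)).subtype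
  have hψ : Function.Surjective ψ := by
    intro x
    obtain ⟨g, rfl⟩ := QuotientGroup.mk'_surjective N x
    have hg : g ∈ Subgroup.normalizer (U : Set G) ⊔ N := by rw [hfrat]; trivial
    obtain ⟨y, hy, z, hz, rfl⟩ := Subgroup.mem_sup_of_normal_right.mp hg
    refine ⟨⟨y, hy⟩, ?_⟩
    show (QuotientGroup.mk' N) y = (QuotientGroup.mk' N) (y * z)
    have hz1 : (QuotientGroup.mk' N) z = 1 := (QuotientGroup.eq_one_iff z).mpr hz
    rw [map_mul, hz1, mul_one]
  exact Group.isSolvable_of_surjective hψ

end Z10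

/-- If the subgroup generated by the elements of order three is binary, it is normal with
solvable quotient. -/
theorem solvable_quotient_of_isBinary (S : Setup p G V)
    (hbin : IsBinary (Subgroup.closure {g : G | orderOf g = 3})) :
    ∃ hN : (Subgroup.closure {g : G | orderOf g = 3}).Normal,
      Group.IsSolvable (G ⧸ Subgroup.closure {g : G | orderOf g = 3}) := by
  haveI hNn : (Subgroup.closure {g : G | orderOf g = 3}).Normal := normal_closure_order_three
  refine ⟨hNn, ?_⟩
  have hD : ∀ g : G, orderOf g = 3 → g ∈ Subgroup.closure {g : G | orderOf g = 3} :=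
    fun g hg => Subgroup.subset_closure hg
  rcases hbin with ⟨hcard, π, -, hker⟩ | ⟨hcard, π, -, hker⟩
  · have hc : Cover _ π := ⟨hker, altn_pow_four alt4_pow_four, altn_pow_six alt4_pow_six⟩
    exact hc.quotient_solvable S hD 3 (by rw [hcard]) (by norm_num)
  · have hc : Cover _ π := ⟨hker, altn_pow_four alt5_pow_four, altn_pow_six alt5_pow_six⟩
    exact hc.quotient_solvable S hD 15 (by rw [hcard]) (by norm_num)

end Cfsg.Agent.Helper5.Zas
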