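import Mathlib
import Cfsg.Prelude.Def_FischerSpaces
import Cfsg.Agent.S5344

set_option autoImplicit false
set_option linter.style.haveILetI false
set_option linter.unusedSectionVars false
set_option linter.unusedVariables false

/-!
# Classes of 3-transpositions in which commuting is a perfect matching generate `S₄`
-/

namespace Cfsg.Agent.Helper4.ThreeTransS4

open Equiv

section

variable {G : Type*} [Group G] {D : Set G}

theorem swap_conj_aux : ∀ i j : Fin 4, i ≠ j →
    ∃ σ : Perm (Fin 4), σ * swap 0 1 * σ⁻¹ = swap i j := by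
  decide

/-- A homomorphism from `S₄` sending `(0 1)` into a conjugation-invariant set sends every
transposition into it. -/
theorem swap_mem (hconj : ∀ g : G, ∀ x ∈ D, g * x * g⁻¹ ∈ D) (φ : Perm (Fin 4) →* G)
    (h01 : φ (swap 0 1) ∈ D) (i j : Fin 4) (hij : i ≠ j) : φ (swap i j) ∈ D := by
  obtain ⟨σ, hσ⟩ := swap_conj_aux i j hij
  rw [← hσ, map_mul, map_mul, map_inv]
  exact hconj _ _ h01

/-- 3-strings give embedded copies of `S₄` all of whose transpositions lie in `D`. -/
theorem string_hom (hD : Cfsg.IsThreeTranspositionSet D)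
    (hconj : ∀ g : G, ∀ x ∈ D, g * x * g⁻¹ ∈ D) {x y x' : G} (hx : x ∈ D) (hy : y ∈ D)
    (hx' : x' ∈ D) (hne : x ≠ x') (hc : Commute x x') (h1 : ¬ Commute x y) (h2 : ¬ Commute y x') :
    ∃ φ : Perm (Fin 4) →* G, Function.Injective φ ∧ φ (swap 0 1) = x ∧ φ (swap 1 2) = y ∧
      φ (swap 2 3) = x' ∧ ∀ i j : Fin 4, i ≠ j → φ (swap i j) ∈ D := by
  obtain ⟨φ, hinj, e1, e2, e3⟩ := Cfsg.Agent.S5344.result hD hx hy hx' hne hc h1 h2
  exact ⟨φ, hinj, e1, e2, e3, swap_mem hconj φ (by rw [e1]; exact hx)⟩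

variable (hD : Cfsg.IsThreeTranspositionSet D) (hconj : ∀ g : G, ∀ x ∈ D, g * x * g⁻¹ ∈ D)
  (huniq : ∀ e ∈ D, ∀ y ∈ D, ∀ y' ∈ D, Commute e y → Commute e y' → y ≠ e → y' ≠ e → y = y')
  (hsame : ∀ e ∈ D, ∀ v ∈ D, Commute e v → ∀ y ∈ D, (Commute v y ↔ Commute e y))

include hD hconj huniq hsame

/-- If `d` commutes with the product of a commuting pair `s, s'` then it commutes with `s`. -/
theorem commute_of_commute_pair {d s s' : G} (hd : d ∈ D) (hs : s ∈ D) (hs' : s' ∈ D)
    (hne : s ≠ s') (hc : Commute s s') (hds : Commute d (s * s')) : Commute d s := by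
  by_contra hnc
  have hnc' : ¬ Commute d s' := by
    intro h
    apply hnc
    exact ((hsame s hs s' hs' hc d hd).mp h.symm).symm
  obtain ⟨φ, hinj, e1, e2, e3, -⟩ := string_hom hD hconj hs hd hs' hne hc
    (fun h => hnc h.symm) hnc'
  have h1 : φ (swap 1 2 * (swap 0 1 * swap 2 3)) = φ (swap 0 1 * swap 2 3 * swap 1 2) := by
    rw [map_mul, map_mul, map_mul, map_mul, e1, e2, e3]
    exact hds
  have h2 := hinj h1
  revert h2
  decide

/-- In an embedded `S₄` the images of disjoint transpositions are partners. -/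
theorem eq_of_commute_img (φ : Perm (Fin 4) →* G) (hinj : Function.Injective φ)
    (hmem : ∀ i j : Fin 4, i ≠ j → φ (swap i j) ∈ D) {i j k l : Fin 4} (hij : i ≠ j)
    (hkl : k ≠ l) (hdisj : Commute (swap i j) (swap k l)) (hne : swap i j ≠ swap k l)
    {y : G} (hy : y ∈ D) (hc : Commute (φ (swap i j)) y) : y = φ (swap i j) ∨ y = φ (swap k l) := by
  by_cases h : y = φ (swap i j)
  · exact Or.inl h
  · right
    apply huniq (φ (swap i j)) (hmem i j hij) y hy (φ (swap k l)) (hmem k l hkl) hc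
      (hdisj.map φ) h
    intro h'
    exact hne (hinj h').symm

end

section Facts

theorem F1 : (swap 0 1 : Perm (Fin 4)) * (swap 1 2 * swap 0 3) * swap 0 1 =
    (swap 0 1 * swap 2 3) * (swap 1 2 * swap 0 3) := by decide

theorem F2 : (swap 0 1 * swap 2 3 : Perm (Fin 4)) * (swap 1 2 * swap 0 3) =
    (swap 1 2 * swap 0 3) * (swap 0 1 * swap 2 3) := by decide

theorem F3 : (swap 0 1 * swap 2 3 : Perm (Fin 4)) * (swap 0 1 * swap 2 3) = 1 := by decide

theorem F4 : (swap 0 1 * swap 2 3 : Perm (Fin 4)) * (swap 1 2 * swap 0 3) =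
    swap 0 2 * swap 1 3 := by decide

theorem F5 : (swap 1 2 * swap 0 3 : Perm (Fin 4)) * (swap 1 2 * swap 0 3) = 1 := by decide

theorem disjoint_aux' : ∀ i j : Fin 4, i ≠ j → ∃ k l : Fin 4, k ≠ l ∧
    (swap i j * swap k l = swap k l * swap i j) ∧ swap i j ≠ swap k l := by
  decide

theorem disjoint_aux : ∀ i j : Fin 4, i ≠ j → ∃ k l : Fin 4, k ≠ l ∧
    Commute (swap i j) (swap k l) ∧ swap i j ≠ swap k l := disjoint_aux'

theorem C0123 : Commute (swap 0 1 : Perm (Fin 4)) (swap 2 3) :=
  show (swap 0 1 : Perm (Fin 4)) * swap 2 3 = swap 2 3 * swap 0 1 by decide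

theorem C1203 : Commute (swap 1 2 : Perm (Fin 4)) (swap 0 3) :=
  show (swap 1 2 : Perm (Fin 4)) * swap 0 3 = swap 0 3 * swap 1 2 by decide

theorem C0213 : Commute (swap 0 2 : Perm (Fin 4)) (swap 1 3) :=
  show (swap 0 2 : Perm (Fin 4)) * swap 1 3 = swap 1 3 * swap 0 2 by decide

end Facts

section Main

variable {G : Type*} [Group G] {D : Set G}
variable (hD : Cfsg.IsThreeTranspositionSet D) (hconj : ∀ g : G, ∀ x ∈ D, g * x * g⁻¹ ∈ D)
  (huniq : ∀ e ∈ D, ∀ y ∈ D, ∀ y' ∈ D, Commute e y → Commute e y' → y ≠ e → y' ≠ e → y = y')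
  (hsame : ∀ e ∈ D, ∀ v ∈ D, Commute e v → ∀ y ∈ D, (Commute v y ↔ Commute e y))
  (hpart : ∀ e ∈ D, ∃ e' ∈ D, e' ≠ e ∧ Commute e e')

include hD hconj huniq hsame hpart

/-- Every member of `D` is the image of a transposition of the embedded `S₄`. -/
theorem mem_swaps (φ : Perm (Fin 4) →* G) (hinj : Function.Injective φ)
    (hmem : ∀ i j : Fin 4, i ≠ j → φ (swap i j) ∈ D) {e : G} (he : e ∈ D) :
    ∃ i j : Fin 4, i ≠ j ∧ e = φ (swap i j) := by
  by_contra hcon
  push Not at hcon
  have hsq : ∀ x ∈ D, x * x = 1 := by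
    intro x hx
    have := pow_orderOf_eq_one x
    rw [hD.1 x hx, pow_two] at this
    exact this
  -- `e` commutes with no image of a transposition
  have hnc : ∀ i j : Fin 4, i ≠ j → ¬ Commute e (φ (swap i j)) := by
    intro i j hij hc
    obtain ⟨k, l, hkl, hdisj, hne⟩ := disjoint_aux i j hij
    rcases eq_of_commute_img hD hconj huniq hsame φ hinj hmem hij hkl hdisj hne he hc.symm with
      h | h
    · exact hcon i j hij h
    · exact hcon k l hkl h
  obtain ⟨e', he', hne', hce'⟩ := hpart e he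
  have hd : φ (swap 0 1) ∈ D := hmem 0 1 (by decide)
  have hd' : φ (swap 2 3) ∈ D := hmem 2 3 (by decide)
  have hb : φ (swap 1 2) ∈ D := hmem 1 2 (by decide)
  have hb' : φ (swap 0 3) ∈ D := hmem 0 3 (by decide)
  have hc : φ (swap 0 2) ∈ D := hmem 0 2 (by decide)
  have hc' : φ (swap 1 3) ∈ D := hmem 1 3 (by decide)
  have hdd' : φ (swap 0 1) ≠ φ (swap 2 3) := fun h => absurd (hinj h) (by decide)
  have hcdd' : Commute (φ (swap 0 1)) (φ (swap 2 3)) :=
    Commute.map C0123 φ
  have hbb' : φ (swap 1 2) ≠ φ (swap 0 3) := fun h => absurd (hinj h) (by decide)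
  have hcbb' : Commute (φ (swap 1 2)) (φ (swap 0 3)) :=
    Commute.map C1203 φ
  have hcc'ne : φ (swap 0 2) ≠ φ (swap 1 3) := fun h => absurd (hinj h) (by decide)
  have hccc' : Commute (φ (swap 0 2)) (φ (swap 1 3)) :=
    Commute.map C0213 φ
  -- the second copy of `S₄`, through `d, e, d'`
  obtain ⟨φ₂, hinj₂, f1, f2, f3, hmem₂⟩ := string_hom hD hconj hd he hd' hdd' hcdd'
    (fun h => hnc 0 1 (by decide) h.symm) (hnc 2 3 (by decide))
  have he'2 : e' = φ₂ (swap 0 3) := by
    have hc2 : Commute (φ₂ (swap 1 2)) e' := by rw [f2]; exact hce'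
    rcases eq_of_commute_img hD hconj huniq hsame φ₂ hinj₂ hmem₂ (i := 1) (j := 2) (k := 0)
      (l := 3) (by decide) (by decide) C1203 (by decide) he' hc2 with h | h
    · exact absurd (h.trans f2) hne'
    · exact h
  -- the third copy of `S₄`, through `b, e, b'`
  obtain ⟨φ₃, hinj₃, g1, g2, g3, hmem₃⟩ := string_hom hD hconj hb he hb' hbb' hcbb'
    (fun h => hnc 1 2 (by decide) h.symm) (hnc 0 3 (by decide))
  have he'3 : e' = φ₃ (swap 0 3) := by
    have hc2 : Commute (φ₃ (swap 1 2)) e' := by rw [g2]; exact hce'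
    rcases eq_of_commute_img hD hconj huniq hsame φ₃ hinj₃ hmem₃ (i := 1) (j := 2) (k := 0)
      (l := 3) (by decide) (by decide) C1203 (by decide) he' hc2 with h | h
    · exact absurd (h.trans g2) hne'
    · exact h
  -- abbreviations
  obtain ⟨d, hdef⟩ : ∃ d, d = φ (swap 0 1) := ⟨_, rfl⟩
  obtain ⟨d', hd'def⟩ : ∃ d', d' = φ (swap 2 3) := ⟨_, rfl⟩
  obtain ⟨b, hbdef⟩ : ∃ b, b = φ (swap 1 2) := ⟨_, rfl⟩
  obtain ⟨b', hb'def⟩ : ∃ b', b' = φ (swap 0 3) := ⟨_, rfl⟩
  obtain ⟨c, hcdef⟩ : ∃ c, c = φ (swap 0 2) := ⟨_, rfl⟩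
  obtain ⟨c', hc'def⟩ : ∃ c', c' = φ (swap 1 3) := ⟨_, rfl⟩
  rw [← hdef] at hd hdd' hcdd' f1
  rw [← hd'def] at hd' hdd' hcdd' f3
  rw [← hbdef] at hb hbb' hcbb' g1
  rw [← hb'def] at hb' hbb' hcbb' g3
  rw [← hcdef] at hc hcc'ne hccc'
  rw [← hc'def] at hc' hcc'ne hccc'
  -- identities in the first copy
  have a1 : d * (b * b') * d = d * d' * (b * b') := by
    have := congrArg φ F1
    simp only [map_mul] at this
    rw [← hdef, ← hd'def, ← hbdef, ← hb'def] at this
    exact this
  have a2 : d * d' * (b * b') = b * b' * (d * d') := by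
    have := congrArg φ F2
    simp only [map_mul] at this
    rw [← hdef, ← hd'def, ← hbdef, ← hb'def] at this
    exact this
  have a3 : d * d' * (d * d') = 1 := by
    have := congrArg φ F3
    simp only [map_mul, map_one] at this
    rw [← hdef, ← hd'def] at this
    exact this
  have a4 : d * d' * (b * b') = c * c' := by
    have := congrArg φ F4
    simp only [map_mul] at this
    rw [← hdef, ← hd'def, ← hbdef, ← hb'def, ← hcdef, ← hc'def] at this
    exact this
  have a5 : b * b' * (b * b') = 1 := by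
    have := congrArg φ F5
    simp only [map_mul, map_one] at this
    rw [← hbdef, ← hb'def] at this
    exact this
  -- identities in the second copy
  have b1 : d * (e * e') * d = d * d' * (e * e') := by
    have := congrArg φ₂ F1
    simp only [map_mul] at this
    rw [f1, f2, f3, ← he'2] at this
    exact this
  -- identities in the third copy
  have c2 : b * b' * (e * e') = e * e' * (b * b') := by
    have := congrArg φ₃ F2
    simp only [map_mul] at this
    rw [g1, g2, g3, ← he'3] at this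
    exact this
  have c4 : b * b' * (e * e') = φ₃ (swap 0 2) * φ₃ (swap 1 3) := by
    have := congrArg φ₃ F4
    simp only [map_mul] at this
    rw [g1, g2, g3, ← he'3] at this
    exact this
  have hs : φ₃ (swap 0 2) ∈ D := hmem₃ 0 2 (by decide)
  have hs' : φ₃ (swap 1 3) ∈ D := hmem₃ 1 3 (by decide)
  have hss' : φ₃ (swap 0 2) ≠ φ₃ (swap 1 3) := fun h => absurd (hinj₃ h) (by decide)
  have hcss' : Commute (φ₃ (swap 0 2)) (φ₃ (swap 1 3)) :=
    Commute.map C0213 φ₃
  obtain ⟨s, hsdef⟩ : ∃ s, s = φ₃ (swap 0 2) := ⟨_, rfl⟩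
  obtain ⟨s', hs'def⟩ : ∃ s', s' = φ₃ (swap 1 3) := ⟨_, rfl⟩
  rw [← hsdef] at hs hss' hcss' c4
  rw [← hs'def] at hs' hss' hcss' c4
  have hdsq : d * d = 1 := hsq d hd
  -- `d` commutes with `t_b t_e`
  have hcomm : Commute d (s * s') := by
    rw [← c4]
    have h1 : d * (b * b' * (e * e')) * d = b * b' * (e * e') := by
      calc d * (b * b' * (e * e')) * d
          = (d * (b * b') * d) * (d * (e * e') * d) := by
            simp only [mul_assoc]
            rw [← mul_assoc d d, hdsq, one_mul]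
        _ = d * d' * (b * b') * (d * d' * (e * e')) := by rw [a1, b1]
        _ = b * b' * (d * d' * (d * d')) * (e * e') := by rw [a2]; simp only [mul_assoc]
        _ = b * b' * (e * e') := by rw [a3, mul_one]
    have h2 : d * (b * b' * (e * e')) = b * b' * (e * e') * d := by
      calc d * (b * b' * (e * e')) = d * (b * b' * (e * e')) * (d * d) := by rw [hdsq, mul_one]
        _ = d * (b * b' * (e * e')) * d * d := by simp only [mul_assoc]
        _ = b * b' * (e * e') * d := by rw [h1]
    exact h2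
  have hds : Commute d s := commute_of_commute_pair hD hconj huniq hsame hd hs hs' hss' hcss' hcomm
  -- hence `{s, s'} = {d, d'}`
  have hpair : ∀ y ∈ D, Commute d y → y = d ∨ y = d' := by
    intro y hy hcy
    have := eq_of_commute_img hD hconj huniq hsame φ hinj hmem (i := 0) (j := 1) (k := 2)
      (l := 3) (by decide) (by decide) C0123 (by decide) hy (by rw [← hdef]; exact hcy)
    rw [← hdef, ← hd'def] at this
    exact this
  have hpair' : ∀ y ∈ D, Commute d' y → y = d ∨ y = d' := by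
    intro y hy hcy
    exact hpair y hy ((hsame d hd d' hd' hcdd' y hy).mp hcy)
  have hprod : s * s' = d * d' := by
    rcases hpair s hs hds with h | h
    · have h2 : Commute d s' := by rw [← h]; exact hcss'
      rcases hpair s' hs' h2 with h3 | h3
      · exact absurd (h.trans h3.symm) hss'
      · rw [h, h3]
    · have h2 : Commute d' s' := by rw [← h]; exact hcss'
      rcases hpair' s' hs' h2 with h3 | h3
      · rw [h, h3]; exact hcdd'.symm.eq
      · exact absurd (h.trans h3.symm) hss'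
  -- so `e e' = c c'`
  have hee' : e * e' = c * c' := by
    have h1 : b * b' * (e * e') = d * d' := by rw [c4, hprod]
    calc e * e' = b * b' * (b * b') * (e * e') := by rw [a5, one_mul]
      _ = b * b' * (b * b' * (e * e')) := by simp only [mul_assoc]
      _ = b * b' * (d * d') := by rw [h1]
      _ = c * c' := by rw [← a2, a4]
  have hcomm2 : Commute e (c * c') := by
    rw [← hee']
    exact (Commute.refl e).mul_right hce'
  have hec : Commute e c :=
    commute_of_commute_pair hD hconj huniq hsame he hc hc' hcc'ne hccc' hcomm2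
  rw [hcdef] at hec
  exact hnc 0 2 (by decide) hec

end Main

end Cfsg.Agent.Helper4.ThreeTransS4
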