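import Mathlib
import Cfsg.Prelude.Def_FischerSpaces
import Cfsg.Agent.Helper4.ThreeTransS4
import Cfsg.Agent.Helper16.BaerSuzuki
import Cfsg.Agent.Helper14.PCore

set_option autoImplicit false
set_option linter.style.haveILetI false
set_option linter.unusedSectionVars false
set_option linter.unusedVariables false

/-!
# 3-transpositions with the same commuting sets and the largest normal 2-subgroup
-/

namespace Cfsg.Agent.Helper4.ThreeTransO2

open Equiv

section Dihedral

variable {G : Type*} [Group G]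

/-- Two involutions whose product has 2-power order generate a 2-group. -/
theorem isPGroup_two_of_dihedral (x y : G) (hx : x * x = 1) (hy : y * y = 1) (k : ℕ)
    (hxy : (x * y) ^ (2 ^ k) = 1) : IsPGroup 2 (Subgroup.closure ({x, y} : Set G)) := by
  have hxi : x⁻¹ = x := inv_eq_of_mul_eq_one_left hx
  have hyi : y⁻¹ = y := inv_eq_of_mul_eq_one_left hy
  have key : ∀ g ∈ Subgroup.closure ({x, y} : Set G),
      (∃ i : ℤ, g = (x * y) ^ i) ∨ (∃ i : ℤ, g = (x * y) ^ i * x) := by
    intro g hg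
    have step : ∀ (g w : G), w ∈ ({x, y} : Set G) →
        ((∃ i : ℤ, g = (x * y) ^ i) ∨ (∃ i : ℤ, g = (x * y) ^ i * x)) →
        ((∃ i : ℤ, g * w = (x * y) ^ i) ∨ (∃ i : ℤ, g * w = (x * y) ^ i * x)) := by
      intro g w hw ih
      simp only [Set.mem_insert_iff, Set.mem_singleton_iff] at hw
      rcases ih with ⟨i, rfl⟩ | ⟨i, rfl⟩ <;> rcases hw with hw | hw <;> rw [hw]
      · exact Or.inr ⟨i, rfl⟩
      · right
        refine ⟨i - 1, ?_⟩
        rw [zpow_sub, zpow_one, mul_inv_rev, hxi, hyi, mul_assoc, mul_assoc, hx, mul_one]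
      · left
        exact ⟨i, by rw [mul_assoc, hx, mul_one]⟩
      · left
        refine ⟨i + 1, ?_⟩
        rw [zpow_add, zpow_one, mul_assoc]
    induction hg using Subgroup.closure_induction_right with
    | one => exact Or.inl ⟨0, by simp⟩
    | mul_right g hg w hw ih => exact step g w hw ih
    | mul_inv_cancel g hg w hw ih =>
      have hw' : w⁻¹ = w := by
        simp only [Set.mem_insert_iff, Set.mem_singleton_iff] at hw
        rcases hw with rfl | rfl
        · exact hxi
        · exact hyi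
      rw [hw']
      exact step g w hw ih
  -- conjugation by x inverts r
  have hconj : ∀ i : ℤ, x * (x * y) ^ i * x = ((x * y) ^ i)⁻¹ := by
    intro i
    have h1 : x * (x * y) ^ i * x⁻¹ = (x * (x * y) * x⁻¹) ^ i := by
      simp
    rw [hxi] at h1
    rw [h1]
    have h2 : x * (x * y) * x = (x * y)⁻¹ := by
      rw [mul_inv_rev, hxi, hyi, ← mul_assoc, hx, one_mul]
    rw [h2, inv_zpow]
  rintro ⟨g, hg⟩
  rcases key g hg with ⟨i, rfl⟩ | ⟨i, rfl⟩
  · refine ⟨k, ?_⟩
    apply Subtype.ext
    simp only [Subgroup.coe_pow, Subgroup.coe_one]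
    rw [← zpow_natCast, ← zpow_mul, mul_comm, zpow_mul, zpow_natCast, hxy, one_zpow]
  · refine ⟨1, ?_⟩
    apply Subtype.ext
    simp only [Subgroup.coe_pow, Subgroup.coe_one, pow_one]
    rw [pow_two]
    calc (x * y) ^ i * x * ((x * y) ^ i * x) = (x * y) ^ i * (x * (x * y) ^ i * x) := by
          simp only [mul_assoc]
      _ = 1 := by rw [hconj, mul_inv_cancel]

end Dihedral

section Pair

variable {G : Type*} [Group G] {D : Set G}

theorem commute_conj_iff (g x y : G) : Commute (g * x * g⁻¹) y ↔ Commute x (g⁻¹ * y * g) := by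
  have h1 : y = g * (g⁻¹ * y * g) * g⁻¹ := by group
  conv_lhs => rw [h1]
  exact Commute.conj_iff g

theorem sq_eq_one (hD : Cfsg.IsThreeTranspositionSet D) {x : G} (hx : x ∈ D) : x * x = 1 := by
  have := pow_orderOf_eq_one x
  rw [hD.1 x hx, pow_two] at this
  exact this

theorem F6 : (swap 2 3 * swap 0 1 : Perm (Fin 4)) * swap 1 2 * (swap 2 3 * swap 0 1)⁻¹ =
    swap 0 3 := by decide

theorem C1203' : Commute (swap 1 2 : Perm (Fin 4)) (swap 0 3) :=
  show (swap 1 2 : Perm (Fin 4)) * swap 0 3 = swap 0 3 * swap 1 2 by decide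

theorem F7 : (swap 1 2 * (swap 2 3 * swap 0 1) * (swap 1 2)⁻¹ : Perm (Fin 4)) * swap 2 3 *
    (swap 1 2 * (swap 2 3 * swap 0 1) * (swap 1 2)⁻¹)⁻¹ = swap 0 1 := by decide

variable (hD : Cfsg.IsThreeTranspositionSet D) (hconj : ∀ g : G, ∀ x ∈ D, g * x * g⁻¹ ∈ D)

include hD hconj

/-- Conjugating `e` by the product `a b` of a commuting pair with the same commuting sets gives an
element commuting with `e`. -/
theorem commute_conj_pair {a b e : G} (ha : a ∈ D) (hb : b ∈ D) (he : e ∈ D) (hab : b ≠ a)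
    (cab : Commute a b) (hbe : ¬ Commute b e) (hea : ¬ Commute e a) :
    Commute e (a * b * e * (a * b)⁻¹) := by
  obtain ⟨φ, hinj, e1, e2, e3, -⟩ := Cfsg.Agent.Helper4.ThreeTransS4.string_hom hD hconj hb he ha
    hab cab.symm hbe hea
  have h1 : a * b * e * (a * b)⁻¹ = φ (swap 0 3) := by
    rw [← F6, map_mul, map_mul, map_inv, map_mul, e1, e2, e3]
  rw [h1, ← e2]
  exact C1203'.map φ

/-- The key computation for Baer–Suzuki. -/
theorem pair_lemma {a b e f : G} (ha : a ∈ D) (hb : b ∈ D) (he : e ∈ D) (hf : f ∈ D)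
    (hab : b ≠ a) (hef : f ≠ e) (cab : Commute a b) (cef : Commute e f)
    (Va : ∀ y ∈ D, Commute b y ↔ Commute a y) (Ve : ∀ y ∈ D, Commute f y ↔ Commute e y) :
    ((a * b) * (e * f)) ^ 4 = 1 := by
  have ha2 := sq_eq_one hD ha
  have hb2 := sq_eq_one hD hb
  have he2 := sq_eq_one hD he
  have hf2 := sq_eq_one hD hf
  have p4 : ∀ x : G, x * x = 1 → x ^ 4 = 1 := by
    intro x hx
    rw [show 4 = 2 * 2 by norm_num, pow_mul, pow_two x, hx, one_pow]
  by_cases cae : Commute a e
  · have cbe : Commute b e := (Va e he).mpr cae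
    have caf : Commute a f := ((Ve a ha).mpr cae.symm).symm
    have cbf : Commute b f := (Va f hf).mpr caf
    have c1 : Commute (a * b) (e * f) := (cae.mul_right caf).mul_left (cbe.mul_right cbf)
    rw [c1.mul_pow, cab.mul_pow, cef.mul_pow, p4 a ha2, p4 b hb2, p4 e he2, p4 f hf2]
    simp
  · have cbe : ¬ Commute b e := fun h => cae ((Va e he).mp h)
    have caf : ¬ Commute a f := fun h => cae ((Ve a ha).mp h.symm).symm
    have cbf : ¬ Commute b f := fun h => caf ((Va f hf).mp h)
    obtain ⟨e1, he1def⟩ : ∃ e1, e1 = a * b * e * (a * b)⁻¹ := ⟨_, rfl⟩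
    obtain ⟨f1, hf1def⟩ : ∃ f1, f1 = a * b * f * (a * b)⁻¹ := ⟨_, rfl⟩
    have he1 : e1 ∈ D := by rw [he1def]; exact hconj _ _ he
    have hf1 : f1 ∈ D := by rw [hf1def]; exact hconj _ _ hf
    have cee1 : Commute e e1 := by
      rw [he1def]
      exact commute_conj_pair hD hconj ha hb he hab cab cbe (fun h => cae h.symm)
    have cff1 : Commute f f1 := by
      rw [hf1def]
      exact commute_conj_pair hD hconj ha hb hf hab cab cbf (fun h => caf h.symm)
    have cfe1 : Commute f e1 := (Ve e1 he1).mpr cee1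
    have cef1 : Commute e f1 := (Ve f1 hf1).mp cff1
    have ce1f1 : Commute e1 f1 := by
      rw [he1def, hf1def]
      exact (Commute.conj_iff (a * b)).mpr cef
    have he12 := sq_eq_one hD he1
    have hf12 := sq_eq_one hD hf1
    have hz1 : (a * b)⁻¹ = a * b := by
      apply inv_eq_of_mul_eq_one_left
      have := cab.mul_pow 2
      rw [pow_two, pow_two a, pow_two b, ha2, hb2, one_mul] at this
      exact this
    have hsq : (a * b * (e * f)) ^ 2 = e1 * f1 * (e * f) := by
      rw [pow_two, he1def, hf1def, hz1]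
      have hz : a * b * (a * b) = 1 := by
        have := inv_mul_cancel (a * b)
        rwa [hz1] at this
      calc a * b * (e * f) * (a * b * (e * f))
          = a * b * e * (1 : G) * f * (a * b) * (e * f) := by simp only [mul_assoc, one_mul]
        _ = a * b * e * (a * b * (a * b)) * f * (a * b) * (e * f) := by rw [hz]
        _ = a * b * e * (a * b) * (a * b * f * (a * b)) * (e * f) := by simp only [mul_assoc]
    rw [show 4 = 2 * 2 by norm_num, pow_mul, hsq]
    have c1 : Commute (e1 * f1) (e * f) :=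
      ((cee1.symm.mul_right cfe1.symm)).mul_left (cef1.symm.mul_right cff1.symm)
    rw [c1.mul_pow, ce1f1.mul_pow, cef.mul_pow, pow_two e1, pow_two f1, pow_two e, pow_two f,
      he12, hf12, he2, hf2]
    simp

end Pair

section Core

variable {G : Type*} [Group G] [Finite G] {D : Set G}
variable (hD : Cfsg.IsThreeTranspositionSet D) (hconj : ∀ g : G, ∀ x ∈ D, g * x * g⁻¹ ∈ D)

include hD hconj

/-- If `v ≠ d` commutes with exactly the same members of `D` as `d`, then `d v ∈ O₂(G)`. -/
theorem mul_mem_pCore {d v : G} (hd : d ∈ D) (hv : v ∈ D) (hne : v ≠ d)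
    (hV : ∀ y ∈ D, Commute v y ↔ Commute d y) : d * v ∈ Cfsg.pCore 2 G := by
  haveI : Fact (Nat.Prime 2) := ⟨Nat.prime_two⟩
  have cdv : Commute d v := ((hV d hd).mpr (Commute.refl d)).symm
  have hd2 := sq_eq_one hD hd
  have hv2 := sq_eq_one hD hv
  have hz2 : d * v * (d * v) = 1 := by
    have := cdv.mul_pow 2
    rw [pow_two, pow_two d, pow_two v, hd2, hv2, one_mul] at this
    exact this
  have hBS : d * v ∈ (⨅ P : Sylow 2 G, (P : Subgroup G) : Subgroup G) := by
    apply Cfsg.Agent.Helper16.baer_suzuki_elt 2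
    intro g
    have hconjz : g * (d * v) * g⁻¹ = (g * d * g⁻¹) * (g * v * g⁻¹) := by group
    apply isPGroup_two_of_dihedral _ _ hz2 _ 2
    · rw [hconjz]
      have hne' : g * v * g⁻¹ ≠ g * d * g⁻¹ := by
        intro h
        apply hne
        have : g⁻¹ * (g * v * g⁻¹) * g = g⁻¹ * (g * d * g⁻¹) * g := by rw [h]
        simpa [mul_assoc] using this
      have hV' : ∀ y ∈ D, Commute (g * v * g⁻¹) y ↔ Commute (g * d * g⁻¹) y := by
        intro y hy
        rw [commute_conj_iff, commute_conj_iff]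
        have hy' : g⁻¹ * y * g ∈ D := by
          have := hconj g⁻¹ y hy
          rwa [inv_inv] at this
        exact hV _ hy'
      exact pair_lemma hD hconj hd hv (hconj g d hd) (hconj g v hv) hne hne' cdv
        ((Commute.conj_iff g).mpr cdv) hV hV'
    · have : g * (d * v) * g⁻¹ * (g * (d * v) * g⁻¹) = g * (d * v * (d * v)) * g⁻¹ := by group
      rw [this, hz2, mul_one, mul_inv_cancel]
  exact Cfsg.Agent.Helper14.le_pCore 2 (Cfsg.Agent.Helper16.iInf_sylow_normal 2)
    (Cfsg.Agent.Helper16.iInf_sylow_isPGroup 2) hBS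

/-- ... and `v` is conjugate to `d` under `O₂(G)`, provided some member of `D` does not commute
with `d`. -/
theorem exists_conj_mem_pCore {d v a : G} (hd : d ∈ D) (hv : v ∈ D) (ha : a ∈ D) (hne : v ≠ d)
    (hV : ∀ y ∈ D, Commute v y ↔ Commute d y) (hda : ¬ Commute d a) :
    ∃ g ∈ Cfsg.pCore 2 G, v = g * d * g⁻¹ := by
  have cdv : Commute d v := ((hV d hd).mpr (Commute.refl d)).symm
  have hva : ¬ Commute v a := fun h => hda ((hV a ha).mp h)
  obtain ⟨φ, hinj, e1, e2, e3, -⟩ := Cfsg.Agent.Helper4.ThreeTransS4.string_hom hD hconj hv ha hd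
    hne cdv.symm hva (fun h => hda h.symm)
  refine ⟨a * (d * v) * a⁻¹, ?_, ?_⟩
  · exact (Cfsg.pCore_normal 2 G).conj_mem _ (mul_mem_pCore hD hconj hd hv hne hV) a
  · have h1 : a * (d * v) * a⁻¹ = φ (swap 1 2 * (swap 2 3 * swap 0 1) * (swap 1 2)⁻¹) := by
      rw [map_mul, map_mul, map_mul, map_inv, e1, e2, e3]
    rw [h1, ← e3, ← map_inv, ← map_mul, ← map_mul, F7, e1]

/-- Members of `D` congruent modulo `O₂(G)` commute with the same members of `D`. -/
theorem commute_of_mem_pCore {d v e : G} (hd : d ∈ D) (hv : v ∈ D) (he : e ∈ D)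
    (hz : d⁻¹ * v ∈ Cfsg.pCore 2 G) (hde : Commute d e) : Commute v e := by
  have hN : (Cfsg.pCore 2 G).Normal := Cfsg.pCore_normal 2 G
  have hNp : IsPGroup 2 (Cfsg.pCore 2 G) := Cfsg.Agent.Helper14.pCore_isPGroup 2
  have hd2 := sq_eq_one hD hd
  have hv2 := sq_eq_one hD hv
  have he2 := sq_eq_one hD he
  have hdi : d⁻¹ = d := inv_eq_of_mul_eq_one_left hd2
  have hvi : v⁻¹ = v := inv_eq_of_mul_eq_one_left hv2
  have hei : e⁻¹ = e := inv_eq_of_mul_eq_one_left he2
  -- an element of O₂(G) of order dividing 3 is trivial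
  have htriv : ∀ y ∈ Cfsg.pCore 2 G, y ^ 3 = 1 → y = 1 := by
    intro y hy h3
    obtain ⟨k, hk⟩ := hNp ⟨y, hy⟩
    have hk' : y ^ 2 ^ k = 1 := by
      have := congrArg Subtype.val hk
      simpa using this
    have h1 : orderOf y ∣ 2 ^ k := orderOf_dvd_of_pow_eq_one hk'
    have h2 : orderOf y ∣ 3 := orderOf_dvd_of_pow_eq_one h3
    have h3' : orderOf y ∣ Nat.gcd (2 ^ k) 3 := Nat.dvd_gcd h1 h2
    have hcop : Nat.gcd (2 ^ k) 3 = 1 := Nat.Coprime.pow_left k (by norm_num)
    rw [hcop, Nat.dvd_one] at h3'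
    exact orderOf_eq_one_iff.mp h3'
  -- involutions with (xy)² = 1 commute
  have hcomm2 : ∀ x y : G, x * x = 1 → y * y = 1 → (x * y) ^ 2 = 1 → Commute x y := by
    intro x y hx hy h
    have hxi : x⁻¹ = x := inv_eq_of_mul_eq_one_left hx
    have hyi : y⁻¹ = y := inv_eq_of_mul_eq_one_left hy
    rw [pow_two] at h
    have h1 : x * y = (x * y)⁻¹ := eq_inv_of_mul_eq_one_left h
    rw [mul_inv_rev, hxi, hyi] at h1
    exact h1
  rcases hD.2 e he v hv with h | h
  · exact (hcomm2 e v he2 hv2 h).symm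
  · -- (e v)³ = 1
    have hdec : e * v = (e * d) * (d⁻¹ * v) := by rw [hdi]; simp only [mul_assoc]; rw [← mul_assoc d d, hd2, one_mul]
    have hed2 : (e * d) ^ 2 = 1 := by
      have := hde.symm.mul_pow 2
      rw [pow_two e, pow_two d, he2, hd2, one_mul] at this
      exact this
    have hed3 : (e * d) ^ 3 ∈ Cfsg.pCore 2 G := by
      rw [← QuotientGroup.eq_one_iff]
      have h1 : ((e * v : G) : G ⧸ Cfsg.pCore 2 G) = ((e * d : G) : G ⧸ Cfsg.pCore 2 G) := by
        rw [hdec, QuotientGroup.mk_mul, (QuotientGroup.eq_one_iff _).mpr hz, mul_one]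
      have h2 : ((e * v : G) : G ⧸ Cfsg.pCore 2 G) ^ 3 = 1 := by
        rw [← QuotientGroup.mk_pow, h]; rfl
      rw [QuotientGroup.mk_pow, ← h1]
      exact h2
    have hed : e * d ∈ Cfsg.pCore 2 G := by
      have : (e * d) ^ 3 = e * d := by rw [pow_succ, hed2, one_mul]
      rwa [this] at hed3
    have hev : e * v ∈ Cfsg.pCore 2 G := by
      rw [hdec]; exact (Cfsg.pCore 2 G).mul_mem hed hz
    have h1 : e * v = 1 := htriv _ hev h
    have : v = e := by
      have h2 : e = v⁻¹ := eq_inv_of_mul_eq_one_left h1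
      rw [hvi] at h2
      exact h2.symm
    rw [this]

end Core

section Class

variable {G : Type*} [Group G] {D : Set G}

/-- In a generating conjugacy class with at least two members nobody commutes with everybody. -/
theorem exists_not_commute (hgen : Subgroup.closure D = ⊤)
    (hconjd : ∀ d ∈ D, ∀ e ∈ D, ∃ g : G, g * d * g⁻¹ = e) (hD2 : ∃ a ∈ D, ∃ b ∈ D, a ≠ b)
    {d : G} (hd : d ∈ D) : ∃ b ∈ D, ¬ Commute d b := by
  by_contra hall
  push Not at hall
  have hcen : ∀ g : G, g * d = d * g := by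
    intro g
    have hle : Subgroup.closure D ≤ Subgroup.centralizer ({d} : Set G) := by
      rw [Subgroup.closure_le]
      intro x hx
      rw [SetLike.mem_coe, Subgroup.mem_centralizer_iff]
      intro y hy
      rw [Set.mem_singleton_iff] at hy
      rw [hy]
      exact (hall x hx).eq
    have hg : g ∈ Subgroup.centralizer ({d} : Set G) := hle (by rw [hgen]; trivial)
    rw [Subgroup.mem_centralizer_iff] at hg
    exact (hg d rfl).symm
  have hall' : ∀ e ∈ D, e = d := by
    intro e he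
    obtain ⟨g, rfl⟩ := hconjd d hd e he
    rw [hcen g, mul_assoc, mul_inv_cancel, mul_one]
  obtain ⟨a, ha, b, hb, hab⟩ := hD2
  exact hab ((hall' a ha).trans (hall' b hb).symm)

end Class

end Cfsg.Agent.Helper4.ThreeTransO2
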