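import Mathlib
import Cfsg.Prelude.Def_FischerSpaces
import Cfsg.Agent.S5344
import Cfsg.Agent.Helper4.ThreeTransO2

set_option autoImplicit false
set_option linter.style.haveILetI false
set_option linter.unusedSectionVars false
set_option linter.unusedVariables false

/-!
# 3-transpositions with the same proper commuting sets (the relation θ)
-/

namespace Cfsg.Agent.Helper4.ThreeTransO3

open Cfsg.Agent.Helper4.ThreeTransO2

section Basic

variable {G : Type*} [Group G]

/-- The proper commuting partners of `x` in `D`. -/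
def Dset (D : Set G) (x : G) : Set G := {y : G | y ∈ D ∧ y ≠ x ∧ Commute x y}

/-- The relation θ: same proper commuting partners. -/
def Th (D : Set G) (x y : G) : Prop := Dset D x = Dset D y

variable {D : Set G}

theorem th_refl (x : G) : Th D x x := rfl

theorem th_symm {x y : G} (h : Th D x y) : Th D y x := h.symm

theorem th_trans {x y z : G} (h1 : Th D x y) (h2 : Th D y z) : Th D x z := h1.trans h2

variable (hconj : ∀ g : G, ∀ x ∈ D, g * x * g⁻¹ ∈ D)

include hconj in
theorem mem_conj_iff (g z : G) : g⁻¹ * z * g ∈ D ↔ z ∈ D := by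
  constructor
  · intro h
    have := hconj g _ h
    have e : g * (g⁻¹ * z * g) * g⁻¹ = z := by group
    rwa [e] at this
  · intro h
    have := hconj g⁻¹ z h
    rwa [inv_inv] at this

include hconj in
theorem mem_dset_conj_iff (g x z : G) :
    z ∈ Dset D (g * x * g⁻¹) ↔ g⁻¹ * z * g ∈ Dset D x := by
  unfold Dset
  simp only [Set.mem_ofPred_eq]
  rw [mem_conj_iff hconj g z, commute_conj_iff]
  constructor
  · rintro ⟨h1, h2, h3⟩
    refine ⟨h1, ?_, h3⟩
    intro h
    apply h2
    rw [← h]; group
  · rintro ⟨h1, h2, h3⟩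
    refine ⟨h1, ?_, h3⟩
    intro h
    apply h2
    rw [h]; group

include hconj in
theorem th_conj {x y : G} (h : Th D x y) (g : G) : Th D (g * x * g⁻¹) (g * y * g⁻¹) := by
  unfold Th
  ext z
  rw [mem_dset_conj_iff hconj, mem_dset_conj_iff hconj, h]

/-- Distinct θ-equivalent members do not commute. -/
theorem not_commute_of_th {x y : G} (hy : y ∈ D) (h : Th D x y) (hne : x ≠ y) :
    ¬ Commute x y := by
  intro hc
  have h1 : y ∈ Dset D x := ⟨hy, Ne.symm hne, hc⟩
  rw [h] at h1
  exact h1.2.1 rfl

/-- All or nothing: commutation between different θ-classes. -/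
theorem commute_of_th {x x' y y' : G} (hx' : x' ∈ D) (hy : y ∈ D)
    (h1 : Th D x x') (h2 : Th D y y') (hne : ¬ Th D x y) (hc : Commute x y) :
    Commute x' y' := by
  have hyx : y ≠ x := by
    rintro rfl
    exact hne (th_refl _)
  have h3 : y ∈ Dset D x := ⟨hy, hyx, hc⟩
  rw [h1] at h3
  have hx'y : x' ≠ y := fun h => h3.2.1 h.symm
  have h4 : x' ∈ Dset D y := ⟨hx', hx'y, h3.2.2.symm⟩
  rw [h2] at h4
  exact h4.2.2.symm

include hconj in
/-- A θ-class is closed under conjugation by its members. -/
theorem th_conj_self {x y : G} (h : Th D x y) : Th D (y * x * y⁻¹) x := by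
  have h1 := th_conj hconj h y
  have e : y * y * y⁻¹ = y := by group
  rw [e] at h1
  exact th_trans h1 (th_symm h)

end Basic

section Family

variable {G : Type*} [Group G] {D : Set G}
variable (hD : Cfsg.IsThreeTranspositionSet D) (hconj : ∀ g : G, ∀ x ∈ D, g * x * g⁻¹ ∈ D)
variable {ι : Type*} (R : ι → G) (hR : ∀ i, R i ∈ D)
  (H1 : ∀ i j, ∃ k, Th D (R j * R i * (R j)⁻¹) (R k))
  (H2 : ∀ i j, Th D (R i) (R j) ∨ ¬ Commute (R i) (R j))

/-- Membership in the union of the θ-classes of the `R i`. -/
def InE (D : Set G) (R : ι → G) (e : G) : Prop := e ∈ D ∧ ∃ i, Th D e (R i)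

include hD hconj hR H1 H2 in
theorem inE_conj {a b : G} (ha : InE D R a) (hb : InE D R b) : InE D R (b * a * b⁻¹) := by
  obtain ⟨haD, i, hai⟩ := ha
  obtain ⟨hbD, j, hbj⟩ := hb
  refine ⟨hconj b a haD, ?_⟩
  have h1 : Th D (b * a * b⁻¹) (b * R i * b⁻¹) := th_conj hconj hai b
  by_cases hth : Th D (R i) (R j)
  · -- same class
    refine ⟨i, ?_⟩
    have hab : Th D a b := th_trans hai (th_trans hth (th_symm hbj))
    exact th_trans (th_conj_self hconj hab) hai
  · -- different classes, not commuting
    have hnc : ¬ Commute (R i) (R j) := (H2 i j).resolve_left hth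
    have hbi : ¬ Commute b (R i) := by
      intro hc
      have : Commute (R j) (R i) := commute_of_th (hR j) (hR i) hbj (th_refl _)
        (fun h => hth (th_symm (th_trans (th_symm hbj) h))) hc
      exact hnc this.symm
    obtain ⟨hb2, hr2, hbr⟩ := Cfsg.Agent.S5344.braid_of_not_commute hD hbD (hR i) hbi
    have hbinv : b⁻¹ = b := inv_eq_of_mul_eq_one_left hb2
    have hrinv : (R i)⁻¹ = R i := inv_eq_of_mul_eq_one_left hr2
    have e : b * R i * b⁻¹ = R i * b * (R i)⁻¹ := by rw [hbinv, hrinv, hbr]
    have h2 : Th D (R i * b * (R i)⁻¹) (R i * R j * (R i)⁻¹) := th_conj hconj hbj (R i)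
    obtain ⟨k, hk⟩ := H1 j i
    refine ⟨k, ?_⟩
    rw [e] at h1
    exact th_trans h1 (th_trans h2 hk)

include hR H2 in
theorem eq_of_commute_of_inE {a b : G} (ha : InE D R a) (hb : InE D R b) (hc : Commute a b) :
    a = b := by
  obtain ⟨haD, i, hai⟩ := ha
  obtain ⟨hbD, j, hbj⟩ := hb
  by_cases hth : Th D (R i) (R j)
  · have hab : Th D a b := th_trans hai (th_trans hth (th_symm hbj))
    by_contra hne
    exact not_commute_of_th hbD hab hne hc
  · exfalso
    have hnc : ¬ Commute (R i) (R j) := (H2 i j).resolve_left hth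
    apply hnc
    exact commute_of_th (hR i) hbD hai hbj
      (fun h => hth (th_trans (th_symm hai) (th_trans h hbj))) hc

end Family

end Cfsg.Agent.Helper4.ThreeTransO3
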