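import Mathlib

set_option autoImplicit false

/-!
# Sylow subgroup times a subgroup of `p`-power index
-/

namespace Cfsg.Agent.Helper4.ZStarCor

/-- A Sylow `p`-subgroup and a subgroup of `p`-power index factorize the group. -/
theorem exists_mul_of_sylow_of_index_pow {N : Type*} [Group N] [Finite N] {p : ℕ} [Fact p.Prime]
    (Q : Sylow p N) (C : Subgroup N) (a : ℕ) (hC : C.index = p ^ a) :
    ∀ n : N, ∃ q ∈ Q, ∃ c ∈ C, n = q * c := by
  classical
  have hp : p.Prime := Fact.out
  let x₀ : N ⧸ C := QuotientGroup.mk 1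
  -- the stabilizer
  have hstab : ∀ q : (Q : Subgroup N), q ∈ MulAction.stabilizer (Q : Subgroup N) x₀ ↔ (q : N) ∈ C := by
    intro q
    rw [MulAction.mem_stabilizer_iff]
    change (QuotientGroup.mk ((q : N) * 1) : N ⧸ C) = QuotientGroup.mk 1 ↔ _
    rw [QuotientGroup.eq]
    simp
  -- the stabilizer is a p-group embedded in C
  have hcardstab : ∃ j, Nat.card (MulAction.stabilizer (Q : Subgroup N) x₀) = p ^ j ∧ p ^ j ∣ Nat.card C := by
    have h1 : IsPGroup p (MulAction.stabilizer (Q : Subgroup N) x₀) := Q.isPGroup'.to_subgroup _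
    obtain ⟨j, hj⟩ := IsPGroup.iff_card.mp h1
    refine ⟨j, hj, ?_⟩
    rw [← hj]
    -- embed into C
    let f : MulAction.stabilizer (Q : Subgroup N) x₀ →* C :=
      { toFun := fun q => ⟨((q : (Q : Subgroup N)) : N), (hstab q.1).mp q.2⟩
        map_one' := rfl
        map_mul' := fun _ _ => rfl }
    have hf : Function.Injective f := by
      intro q1 q2 h
      have := congrArg (fun c : C => (c : N)) h
      exact Subtype.ext (Subtype.ext this)
    exact Subgroup.card_dvd_of_injective f hf
  obtain ⟨j, hj, hjC⟩ := hcardstab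
  have horb : (MulAction.orbit (Q : Subgroup N) x₀).ncard *
      Nat.card (MulAction.stabilizer (Q : Subgroup N) x₀) = Nat.card (Q : Subgroup N) := by
    rw [← MulAction.index_stabilizer]; exact Subgroup.index_mul_card _
  have hQ : Nat.card (Q : Subgroup N) = p ^ (Nat.card N).factorization p := Q.card_eq_multiplicity
  have hN : Nat.card N = Nat.card C * p ^ a := by
    rw [← hC, mul_comm]; exact (Subgroup.index_mul_card C).symm
  have hCpos : Nat.card C ≠ 0 := Nat.card_pos.ne'
  have hfac : (Nat.card N).factorization p = (Nat.card C).factorization p + a := by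
    rw [hN, Nat.factorization_mul hCpos (pow_ne_zero _ hp.ne_zero)]
    simp [hp.factorization_self, Nat.factorization_pow]
  have hjle : j ≤ (Nat.card C).factorization p :=
    (hp.pow_dvd_iff_le_factorization hCpos).mp hjC
  -- orbit size
  have horb2 : (MulAction.orbit (Q : Subgroup N) x₀).ncard * p ^ j = p ^ ((Nat.card C).factorization p + a) := by
    rw [← hj, horb, hQ, hfac]
  have horb3 : p ^ a ≤ (MulAction.orbit (Q : Subgroup N) x₀).ncard := by
    have h1 : p ^ ((Nat.card C).factorization p + a) = p ^ ((Nat.card C).factorization p - j + a) * p ^ j := by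
      rw [← pow_add]; congr 1; omega
    rw [h1] at horb2
    have h2 := Nat.eq_of_mul_eq_mul_right (pow_pos hp.pos j) horb2
    rw [h2]
    exact Nat.pow_le_pow_right hp.pos (by omega)
  have hX : Nat.card (N ⧸ C) = p ^ a := by rw [← hC]; rfl
  have horb_univ : MulAction.orbit (Q : Subgroup N) x₀ = Set.univ := by
    have hfin : (Set.univ : Set (N ⧸ C)).Finite := Set.finite_univ
    apply Set.eq_of_subset_of_ncard_le (Set.subset_univ _) _ hfin
    rw [Set.ncard_univ, hX]
    exact horb3
  intro n
  have hn : (QuotientGroup.mk n : N ⧸ C) ∈ MulAction.orbit (Q : Subgroup N) x₀ := by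
    rw [horb_univ]; trivial
  obtain ⟨q, hq⟩ := hn
  have hq' : (QuotientGroup.mk ((q : N) * 1) : N ⧸ C) = QuotientGroup.mk n := hq
  rw [QuotientGroup.eq] at hq'
  refine ⟨q, q.2, _, hq', ?_⟩
  simp

end Cfsg.Agent.Helper4.ZStarCor
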