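import Mathlib
import Cfsg.Prelude.Def_Solvable
import Cfsg.Agent.Lead.CoprimeSylow
import Cfsg.Agent.Helper4.ZStarCorA

set_option autoImplicit false
set_option linter.style.haveILetI false

/-!
# A corollary of Glauberman's Z*-theorem: involutions whose products with their conjugates are
`p`-elements lie in `O_p(G)d`
-/

namespace Cfsg.Agent.Helper4.ZStarCor

/-- The statement of Glauberman's Z*-theorem for the group `G`, in the form of S0215. -/
def ZStarFor (G : Type*) [Group G] : Prop :=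
  ∀ (P : Sylow 2 G) (u : G), orderOf u = 2 → u ∈ P →
    (∀ g : G, g * u * g⁻¹ ∈ P → g * u * g⁻¹ = u) →
    ∃ N : Subgroup G, N.Normal ∧ Odd (Nat.card N) ∧ ∀ g : G, (u * g * u⁻¹ * g⁻¹) ∈ N

variable {G : Type*} [Group G] [Finite G]

theorem prime_pow_eq_one {p r k j : ℕ} (hp : p.Prime) (hr : r.Prime) (hrp : r ≠ p)
    (h : p ^ k = r ^ j) : p ^ k = 1 := by
  rcases Nat.eq_zero_or_pos k with rfl | hk
  · simp
  · exfalso
    have h1 : p ∣ r ^ j := by rw [← h]; exact dvd_pow_self p hk.ne'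
    have h2 : p ∣ r := hp.dvd_of_dvd_pow h1
    exact hrp ((Nat.prime_dvd_prime_iff_eq hp hr).mp h2).symm

theorem main (hZ : ZStarFor G) {p : ℕ} (hp : p.Prime) (hp2 : p ≠ 2)
    (d : G) (hd : orderOf d = 2)
    (hprod : ∀ a ∈ conjugatesOf d, ∀ b ∈ conjugatesOf d, ∃ k : ℕ, orderOf (a * b) = p ^ k) :
    ∀ a ∈ conjugatesOf d, ∀ b ∈ conjugatesOf d, a * b ∈ Cfsg.pCore p G := by
  classical
  haveI : Fact p.Prime := ⟨hp⟩
  haveI : Fact (Nat.Prime 2) := ⟨Nat.prime_two⟩
  have hdd : d * d = 1 := by rw [← sq, ← hd, pow_orderOf_eq_one]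
  have hdinv : d⁻¹ = d := inv_eq_of_mul_eq_one_right hdd
  have hconj : ∀ g : G, g * d * g⁻¹ ∈ conjugatesOf d := fun g => by
    change IsConj d _; exact isConj_iff.mpr ⟨g, rfl⟩
  have hself : d ∈ conjugatesOf d := mem_conjugatesOf_self
  have hconj' : ∀ a ∈ conjugatesOf d, ∃ g : G, a = g * d * g⁻¹ := by
    intro a ha
    have ha' : IsConj d a := ha
    rw [isConj_iff] at ha'
    obtain ⟨g, hg⟩ := ha'
    exact ⟨g, hg.symm⟩
  have hsq : ∀ a ∈ conjugatesOf d, a * a = 1 := by
    intro a ha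
    obtain ⟨g, rfl⟩ := hconj' a ha
    calc g * d * g⁻¹ * (g * d * g⁻¹) = g * (d * d) * g⁻¹ := by group
      _ = 1 := by rw [hdd]; group
  have hainv : ∀ a ∈ conjugatesOf d, a⁻¹ = a := fun a ha => inv_eq_of_mul_eq_one_right (hsq a ha)
  -- key: a product of two conjugates which is an `r`-element, `r ≠ p`, is trivial
  have hkey : ∀ r : ℕ, r.Prime → r ≠ p → ∀ a ∈ conjugatesOf d, ∀ b ∈ conjugatesOf d,
      (∃ j, orderOf (a * b) = r ^ j) → a * b = 1 := by
    intro r hr hrp a ha b hb ⟨j, hj⟩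
    obtain ⟨k, hk⟩ := hprod a ha b hb
    have h1 : p ^ k = 1 := prime_pow_eq_one hp hr hrp (hk.symm.trans hj)
    rw [h1] at hk
    exact orderOf_eq_one_iff.mp hk
  -- Step 1: a Sylow 2-subgroup containing d, in which d is isolated
  obtain ⟨P, hP⟩ : ∃ P : Sylow 2 G, Subgroup.zpowers d ≤ P := by
    apply IsPGroup.exists_le_sylow
    apply IsPGroup.of_card (n := 1)
    rw [Nat.card_zpowers, hd, pow_one]
  have hdP : d ∈ P := hP (Subgroup.mem_zpowers d)
  have hiso : ∀ g : G, g * d * g⁻¹ ∈ P → g * d * g⁻¹ = d := by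
    intro g hg
    have h1 : g * d * g⁻¹ * d ∈ (P : Subgroup G) := (P : Subgroup G).mul_mem hg hdP
    have h2 : ∃ j, orderOf (g * d * g⁻¹ * d) = 2 ^ j := by
      obtain ⟨k, hk⟩ := P.isPGroup' ⟨_, h1⟩
      have h3 : (g * d * g⁻¹ * d) ^ (2 ^ k) = 1 := by
        have := congrArg (fun x : (P : Subgroup G) => (x : G)) hk
        simpa using this
      exact (Nat.dvd_prime_pow Nat.prime_two).mp (orderOf_dvd_of_pow_eq_one h3) |>.imp fun _ h => h.2
    have h3 := hkey 2 Nat.prime_two (Ne.symm hp2) _ (hconj g) d hself h2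
    calc g * d * g⁻¹ = (g * d * g⁻¹ * d) * d⁻¹ := by group
      _ = d := by rw [h3, hdinv, one_mul]
  -- Step 2: Z*
  obtain ⟨N, hNn, hNodd, hNcomm⟩ := hZ P d hd hdP hiso
  -- Step 3
  have hN_mem : ∀ a ∈ conjugatesOf d, d * a ∈ N := by
    intro a ha
    obtain ⟨g, rfl⟩ := hconj' a ha
    have := hNcomm g
    rw [hdinv] at this
    have e : d * g * d * g⁻¹ = d * (g * d * g⁻¹) := by group
    rwa [e] at this
  -- Step 4: every conjugate of d is an N-conjugate
  have hNconj : ∀ a ∈ conjugatesOf d, ∃ z ∈ N, a = z * d * z⁻¹ := by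
    intro a ha
    set m := d * a with hm
    have hmN : m ∈ N := hN_mem a ha
    have hminv : d * m * d⁻¹ = m⁻¹ := by
      rw [hm, mul_inv_rev, hainv a ha, hdinv]
      calc d * (d * a) * d = (d * d) * a * d := by group
        _ = a * d := by rw [hdd, one_mul]
    have hodd : Odd (orderOf m) := by
      have h1 : orderOf m ∣ Nat.card N := by
        have := orderOf_dvd_natCard (⟨m, hmN⟩ : N)
        rwa [Subgroup.orderOf_mk] at this
      exact Odd.of_dvd_nat hNodd h1
    obtain ⟨t, ht⟩ := hodd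
    set z := m ^ (t + 1) with hz
    have hzN : z ∈ N := N.pow_mem hmN _
    have hzz : z * z = m := by
      rw [hz, ← pow_add]
      have : t + 1 + (t + 1) = orderOf m + 1 := by omega
      rw [this, pow_succ, pow_orderOf_eq_one, one_mul]
    have hzinv : d * z * d⁻¹ = z⁻¹ := by
      rw [hz, ← conj_pow, hminv, inv_pow]
    refine ⟨z⁻¹, N.inv_mem hzN, ?_⟩
    rw [inv_inv]
    have h1 : d * z = z⁻¹ * d := by
      calc d * z = (d * z * d⁻¹) * d := by group
        _ = z⁻¹ * d := by rw [hzinv]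
    calc a = (d * d) * a := by rw [hdd, one_mul]
      _ = d * m := by rw [hm]; group
      _ = d * (z * z) := by rw [hzz]
      _ = (d * z) * z := by group
      _ = z⁻¹ * d * z := by rw [h1]
  -- Step 5: invariant Sylow subgroups
  set A := Subgroup.zpowers d with hA
  have hAN : A ≤ Subgroup.normalizer (N : Set G) := by
    rw [Subgroup.normalizer_eq_top]; exact le_top
  have hcardA : Nat.card A = 2 := by rw [hA, Nat.card_zpowers, hd]
  have hcop : (Nat.card A).Coprime (Nat.card N) := by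
    rw [hcardA]; exact Nat.coprime_two_left.mpr hNodd
  have hsolv : Group.IsSolvable A ∨ Group.IsSolvable N := Or.inl inferInstance
  obtain ⟨Q, hQ⟩ := Cfsg.Agent.Lead.coprime_exists_invariant_sylow A N hAN hcop hsolv p
  have hdA : d ∈ A := Subgroup.mem_zpowers d
  -- Step 6: d centralizes invariant Sylow r-subgroups, r ≠ p
  have hcent : ∀ r : ℕ, r.Prime → r ≠ p → ∀ [Fact r.Prime] (R : Sylow r N),
      A ≤ Subgroup.normalizer (((R : Subgroup N).map N.subtype : Subgroup G) : Set G) →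
      ∀ x ∈ (R : Subgroup N), d * (x : G) * d⁻¹ = (x : G) := by
    intro r hr hrp _ R hR x hx
    have hxR : (x : G) ∈ (R : Subgroup N).map N.subtype := ⟨x, hx, rfl⟩
    have h1 : d * (x : G) * d⁻¹ ∈ (R : Subgroup N).map N.subtype :=
      (Subgroup.mem_normalizer_iff.mp (hR hdA) _).mp hxR
    have h2 : (x : G)⁻¹ * (d * (x : G) * d⁻¹) ∈ (R : Subgroup N).map N.subtype :=
      Subgroup.mul_mem _ (Subgroup.inv_mem _ hxR) h1
    obtain ⟨y, hyR, hy⟩ := h2
    have h3 : ∃ j, orderOf ((x : G)⁻¹ * (d * (x : G) * d⁻¹)) = r ^ j := by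
      obtain ⟨k, hk⟩ := R.isPGroup' ⟨y, hyR⟩
      have h4 : ((x : G)⁻¹ * (d * (x : G) * d⁻¹)) ^ (r ^ k) = 1 := by
        rw [← hy]
        have := congrArg (fun u : (R : Subgroup N) => ((u : N) : G)) hk
        simpa using this
      exact (Nat.dvd_prime_pow hr).mp (orderOf_dvd_of_pow_eq_one h4) |>.imp fun _ h => h.2
    have e : (x : G)⁻¹ * (d * (x : G) * d⁻¹) = d * ((d * (x : G)⁻¹) * d * (d * (x : G)⁻¹)⁻¹) := by
      calc (x : G)⁻¹ * (d * (x : G) * d⁻¹) = (d * d) * (x : G)⁻¹ * d * (x : G) * d⁻¹ := by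
            rw [hdd]; group
        _ = d * ((d * (x : G)⁻¹) * d * (d * (x : G)⁻¹)⁻¹) := by group
    rw [e] at h3
    have h5 := hkey r hr hrp d hself _ (hconj (d * (x : G)⁻¹)) h3
    rw [← e] at h5
    calc d * (x : G) * d⁻¹ = (x : G) * ((x : G)⁻¹ * (d * (x : G) * d⁻¹)) := by group
      _ = (x : G) := by rw [h5, mul_one]
  -- Step 7: the centralizer of d in N has p-power index
  set C' : Subgroup N := (Subgroup.centralizer ({d} : Set G)).subgroupOf N with hC'
  have hC'mem : ∀ x : N, x ∈ C' ↔ d * (x : G) * d⁻¹ = (x : G) := by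
    intro x
    rw [hC', Subgroup.mem_subgroupOf, Subgroup.mem_centralizer_iff]
    constructor
    · intro h
      have := h d rfl
      calc d * (x : G) * d⁻¹ = (x : G) * d * d⁻¹ := by rw [this]
        _ = (x : G) := by group
    · intro h y hy
      rw [Set.mem_singleton_iff] at hy
      subst hy
      calc y * (x : G) = (y * (x : G) * y⁻¹) * y := by group
        _ = (x : G) * y := by rw [h]
  have hindex : ∃ a : ℕ, C'.index = p ^ a := by
    refine ⟨_, Nat.eq_prime_pow_of_unique_prime_dvd (Subgroup.index_ne_zero_of_finite) ?_⟩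
    intro r hr hrdvd
    by_contra hrp
    haveI : Fact r.Prime := ⟨hr⟩
    obtain ⟨R, hR⟩ := Cfsg.Agent.Lead.coprime_exists_invariant_sylow A N hAN hcop hsolv r
    have hRC : (R : Subgroup N) ≤ C' := fun x hx => (hC'mem x).mpr (hcent r hr hrp R hR x hx)
    have h1 : C'.index ∣ (R : Subgroup N).index := Subgroup.index_dvd_of_le hRC
    exact R.not_dvd_index (hrdvd.trans h1)
  obtain ⟨a₀, ha₀⟩ := hindex
  have hfact := exists_mul_of_sylow_of_index_pow Q C' a₀ ha₀
  -- Step 9: d * a lies in Q for every conjugate a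
  set Qg : Subgroup G := (Q : Subgroup N).map N.subtype with hQg
  have hdQ : ∀ a ∈ conjugatesOf d, d * a ∈ Qg := by
    intro a ha
    obtain ⟨z, hzN, rfl⟩ := hNconj a ha
    obtain ⟨q, hq, c, hc, hzqc⟩ := hfact ⟨z, hzN⟩
    have hz : z = (q : G) * (c : G) := by
      have := congrArg (fun u : N => (u : G)) hzqc
      simpa using this
    have hcd : (c : G) * d * (c : G)⁻¹ = d := by
      have h0 := (hC'mem c).mp hc
      have h1 : d * (c : G) = (c : G) * d := by
        calc d * (c : G) = (d * (c : G) * d⁻¹) * d := by group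
          _ = (c : G) * d := by rw [h0]
      calc (c : G) * d * (c : G)⁻¹ = (d * (c : G)) * (c : G)⁻¹ := by rw [h1]
        _ = d := by group
    have hqQ : (q : G) ∈ Qg := ⟨q, hq, rfl⟩
    have h1 : d * (q : G) * d⁻¹ ∈ Qg := (Subgroup.mem_normalizer_iff.mp (hQ hdA) _).mp hqQ
    have e : d * (z * d * z⁻¹) = (d * (q : G) * d⁻¹) * (q : G)⁻¹ := by
      rw [hz]
      calc d * ((q : G) * (c : G) * d * ((q : G) * (c : G))⁻¹)
          = d * (q : G) * ((c : G) * d * (c : G)⁻¹) * (q : G)⁻¹ := by group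
        _ = d * (q : G) * d⁻¹ * (q : G)⁻¹ := by rw [hcd, hdinv]
    rw [e]
    exact Qg.mul_mem h1 (Qg.inv_mem hqQ)
  -- Step 10
  set S : Set G := {x | ∃ a ∈ conjugatesOf d, ∃ b ∈ conjugatesOf d, x = a * b} with hS
  have hSQ : S ⊆ (Qg : Set G) := by
    rintro x ⟨a, ha, b, hb, rfl⟩
    have e : a * b = (d * a)⁻¹ * (d * b) := by
      rw [mul_inv_rev, hainv a ha, hdinv]
      calc a * b = a * (d * d) * b := by rw [hdd, mul_one]
        _ = a * d * (d * b) := by group
    rw [e]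
    exact Qg.mul_mem (Qg.inv_mem (hdQ a ha)) (hdQ b hb)
  have hTQ : Subgroup.closure S ≤ Qg := (Subgroup.closure_le _).mpr hSQ
  have hTp : IsPGroup p (Subgroup.closure S) := by
    have h1 : IsPGroup p Qg := Q.isPGroup'.map _
    exact h1.to_le hTQ
  have hSconj : ∀ g : G, ∀ x ∈ S, g * x * g⁻¹ ∈ S := by
    rintro g x ⟨a, ha, b, hb, rfl⟩
    obtain ⟨u, rfl⟩ := hconj' a ha
    obtain ⟨v, rfl⟩ := hconj' b hb
    refine ⟨(g * u) * d * (g * u)⁻¹, hconj _, (g * v) * d * (g * v)⁻¹, hconj _, ?_⟩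
    group
  have hTn : (Subgroup.closure S).Normal := by
    constructor
    intro x hx g
    induction hx using Subgroup.closure_induction with
    | mem y hy => exact Subgroup.subset_closure (hSconj g y hy)
    | one => simp
    | mul y z _ _ hy hz =>
      have e : g * (y * z) * g⁻¹ = (g * y * g⁻¹) * (g * z * g⁻¹) := by group
      rw [e]; exact Subgroup.mul_mem _ hy hz
    | inv y _ hy =>
      have e : g * y⁻¹ * g⁻¹ = (g * y * g⁻¹)⁻¹ := by group
      rw [e]; exact Subgroup.inv_mem _ hy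
  intro a ha b hb
  have h1 : Subgroup.closure S ≤ Cfsg.pCore p G := le_sSup ⟨hTn, hTp⟩
  exact h1 (Subgroup.subset_closure ⟨a, ha, b, hb, rfl⟩)

end Cfsg.Agent.Helper4.ZStarCor
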