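import Mathlib
import Cfsg.Prelude.Def_FischerSpaces
import Cfsg.Agent.S5344
import Cfsg.Agent.S0215
import Cfsg.Agent.Helper4.ZStarCorB
import Cfsg.Agent.Helper14.PCore

set_option autoImplicit false
set_option linter.style.haveILetI false
set_option linter.unusedSectionVars false
set_option linter.unusedVariables false

/-!
# Width one sets of 3-transpositions generate `2 × (3-group)`
-/

namespace Cfsg.Agent.Helper4.ThreeTransO3

variable {G : Type*} [Group G] [Finite G] {D : Set G}

/-- A set of 3-transpositions closed under conjugation by its own members and without commuting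
pairs: all products of two members lie in one 3-subgroup. -/
theorem exists_three_group_of_width_one (hD : Cfsg.IsThreeTranspositionSet D) (E : Set G)
    (hED : E ⊆ D) (hEconj : ∀ a ∈ E, ∀ b ∈ E, b * a * b⁻¹ ∈ E)
    (hEw : ∀ a ∈ E, ∀ b ∈ E, Commute a b → a = b) :
    ∃ T : Subgroup G, IsPGroup 3 T ∧ ∀ a ∈ E, ∀ b ∈ E, a * b ∈ T := by
  classical
  rcases Set.eq_empty_or_nonempty E with hE | ⟨e₀, he₀⟩
  · refine ⟨⊥, IsPGroup.of_bot, ?_⟩
    intro a ha
    rw [hE] at ha
    exact absurd ha (Set.notMem_empty a)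
  set X : Subgroup G := Subgroup.closure E with hX
  have hEX : ∀ a ∈ E, a ∈ X := fun a ha => Subgroup.subset_closure ha
  have hsq : ∀ a ∈ E, a * a = 1 := by
    intro a ha
    rw [← sq, ← hD.1 a (hED ha), pow_orderOf_eq_one]
  have hinv : ∀ a ∈ E, a⁻¹ = a := fun a ha => inv_eq_of_mul_eq_one_right (hsq a ha)
  -- E is closed under conjugation by X
  have hXconj : ∀ g ∈ X, ∀ a ∈ E, g * a * g⁻¹ ∈ E := by
    intro g hg
    induction hg using Subgroup.closure_induction with
    | mem b hb => exact fun a ha => hEconj a ha b hb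
    | one => intro a ha; simpa using ha
    | mul y z _ _ hy hz =>
      intro a ha
      have e : y * z * a * (y * z)⁻¹ = y * (z * a * z⁻¹) * y⁻¹ := by group
      rw [e]
      exact hy _ (hz a ha)
    | inv y hyX hy =>
      intro a ha
      -- conjugation by y permutes the finite set E, hence so does conjugation by y⁻¹
      have hinj : Function.Injective (fun a : E => (⟨y * a * y⁻¹, hy a a.2⟩ : E)) := by
        intro a b hab
        have := congrArg Subtype.val hab
        simp only at this
        exact Subtype.ext (mul_left_cancel (mul_right_cancel this))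
      have hsurj := Finite.surjective_of_injective hinj
      obtain ⟨b, hb⟩ := hsurj ⟨a, ha⟩
      have hb' : y * b * y⁻¹ = a := congrArg Subtype.val hb
      have : y⁻¹ * a * y⁻¹⁻¹ = b := by rw [← hb']; group
      rw [this]
      exact b.2
  -- cubes
  have hcube : ∀ a ∈ E, ∀ b ∈ E, (a * b) ^ 3 = 1 := by
    intro a ha b hb
    rcases hD.2 a (hED ha) b (hED hb) with h | h
    · have hab : Commute a b := by
        change a * b = b * a
        have h1 : a * b * (a * b) = 1 := by rw [← sq]; exact h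
        calc a * b = a * b * (a * b) * (b⁻¹ * a⁻¹) := by group
          _ = b * a := by rw [h1, hinv a ha, hinv b hb, one_mul]
      rw [hEw a ha b hb hab, hsq b hb, one_pow]
    · exact h
  -- work in X
  let e' : X := ⟨e₀, hEX e₀ he₀⟩
  have hconjE : ∀ a : X, a ∈ conjugatesOf e' → (a : G) ∈ E := by
    intro a ha
    have ha' : IsConj e' a := ha
    rw [isConj_iff] at ha'
    obtain ⟨g, rfl⟩ := ha'
    exact hXconj g g.2 e₀ he₀
  have hEconjX : ∀ a : X, (a : G) ∈ E → a ∈ conjugatesOf e' := by
    intro a ha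
    change IsConj e' a
    rw [isConj_iff]
    by_cases hae : (a : G) = e₀
    · exact ⟨1, by apply Subtype.ext; simp [e', hae]⟩
    · refine ⟨⟨e₀ * a, X.mul_mem (hEX e₀ he₀) a.2⟩, ?_⟩
      apply Subtype.ext
      have h1 := hcube e₀ he₀ a ha
      have h2 : e₀ * a * (e₀ * a) * (e₀ * a) = 1 := by rw [← h1, pow_succ, pow_succ, pow_one]
      change e₀ * a * e₀ * (e₀ * (a : G))⁻¹ = a
      rw [mul_inv_rev, hinv e₀ he₀, hinv a ha]
      calc e₀ * a * e₀ * (a * e₀) = (e₀ * a * (e₀ * a) * (e₀ * a)) * (a : G)⁻¹ := by group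
        _ = a := by rw [h2, hinv a ha, one_mul]
  have he'ord : orderOf e' = 2 := by
    have : orderOf (e' : G) = 2 := hD.1 e₀ (hED he₀)
    rwa [Subgroup.orderOf_coe] at this
  have hprod : ∀ a ∈ conjugatesOf e', ∀ b ∈ conjugatesOf e', ∃ k : ℕ, orderOf (a * b) = 3 ^ k := by
    intro a ha b hb
    have h1 : ((a * b : X) : G) ^ 3 = 1 := hcube a (hconjE a ha) b (hconjE b hb)
    have h2 : orderOf ((a * b : X) : G) ∣ 3 ^ 1 := by
      rw [pow_one]; exact orderOf_dvd_of_pow_eq_one h1
    rw [Subgroup.orderOf_coe] at h2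
    obtain ⟨k, -, hk⟩ := (Nat.dvd_prime_pow Nat.prime_three).mp h2
    exact ⟨k, hk⟩
  have hmain := Cfsg.Agent.Helper4.ZStarCor.main (G := X)
    (fun P u hu huP hiso => Cfsg.Agent.S0215.result P u hu huP hiso)
    Nat.prime_three (by norm_num) e' he'ord hprod
  refine ⟨(Cfsg.pCore 3 X).map X.subtype, (Cfsg.Agent.Helper14.pCore_isPGroup 3).map _, ?_⟩
  intro a ha b hb
  have := hmain ⟨a, hEX a ha⟩ (hEconjX ⟨a, hEX a ha⟩ ha) ⟨b, hEX b hb⟩ (hEconjX ⟨b, hEX b hb⟩ hb)
  exact ⟨_, this, rfl⟩

end Cfsg.Agent.Helper4.ThreeTransO3
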