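import Mathlib
import Cfsg.Prelude.Def_FischerSpaces
import Cfsg.Agent.Helper4.ThreeTransO3A
import Cfsg.Agent.Helper4.ThreeTransO3B
import Cfsg.Agent.Helper4.S4Coxeter
import Cfsg.Agent.Helper16.BaerSuzuki

set_option autoImplicit false
set_option linter.style.haveILetI false
set_option linter.unusedSectionVars false
set_option linter.unusedVariables false
set_option linter.unusedSimpArgs false

/-!
# θ-equivalent 3-transpositions and the largest normal 3-subgroup
-/

namespace Cfsg.Agent.Helper4.ThreeTransO3

open Equiv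

section Pair

variable {G : Type*} [Group G]

/-- Two commuting elements with trivial cubes generate a 3-group. -/
theorem isPGroup_three_pair {u v : G} (hu : u ^ 3 = 1) (hv : v ^ 3 = 1) (huv : Commute u v) :
    IsPGroup 3 (Subgroup.closure ({u, v} : Set G)) := by
  have hz : ∀ z : G, z ^ 3 = 1 → IsPGroup 3 (Subgroup.zpowers z) := by
    intro z hz
    rintro ⟨y, hy⟩
    obtain ⟨k, rfl⟩ := Subgroup.mem_zpowers_iff.mp hy
    refine ⟨1, ?_⟩
    apply Subtype.ext
    simp only [pow_one, Subgroup.coe_pow, Subgroup.coe_one]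
    rw [← zpow_natCast, ← zpow_mul, mul_comm, zpow_mul, zpow_natCast, hz, one_zpow]
  have h1 : Subgroup.closure ({u, v} : Set G) = Subgroup.zpowers u ⊔ Subgroup.zpowers v := by
    rw [Subgroup.zpowers_eq_closure, Subgroup.zpowers_eq_closure, ← Subgroup.closure_union]
    rfl
  rw [h1]
  apply IsPGroup.to_sup_of_normal_right' (hz u hu) (hz v hv)
  rw [Subgroup.zpowers_le]
  rw [Subgroup.mem_normalizer_iff]
  intro h
  constructor
  · intro hh
    obtain ⟨k, rfl⟩ := Subgroup.mem_zpowers_iff.mp hh
    have : u * v ^ k * u⁻¹ = v ^ k := by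
      have := (huv.zpow_right k)
      calc u * v ^ k * u⁻¹ = v ^ k * u * u⁻¹ := by rw [this.eq]
        _ = v ^ k := by group
    rw [this]; exact hh
  · intro hh
    obtain ⟨k, hk⟩ := Subgroup.mem_zpowers_iff.mp hh
    have : h = v ^ k := by
      have h2 : u⁻¹ * (u * h * u⁻¹) * u = h := by group
      rw [← h2, ← hk]
      have := (huv.zpow_right k)
      calc u⁻¹ * v ^ k * u = u⁻¹ * (v ^ k * u) := by group
        _ = u⁻¹ * (u * v ^ k) := by rw [this.eq]
        _ = v ^ k := by group
    rw [this]; exact Subgroup.zpow_mem_zpowers v k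

end Pair

section Key

variable {G : Type*} [Group G] [Finite G] {D : Set G}
variable (hD : Cfsg.IsThreeTranspositionSet D) (hconj : ∀ g : G, ∀ x ∈ D, g * x * g⁻¹ ∈ D)

include hD in
theorem cube_of_not_commute {a b : G} (ha : a ∈ D) (hb : b ∈ D) (hab : ¬ Commute a b) :
    (a * b) ^ 3 = 1 := by
  obtain ⟨ha2, hb2, hbr⟩ := Cfsg.Agent.S5344.braid_of_not_commute hD ha hb hab
  calc (a * b) ^ 3 = (a * b * a) * (b * a * b) := by rw [pow_succ, pow_succ, pow_one]; group
    _ = (b * a * b) * (b * a * b) := by rw [hbr]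
    _ = b * a * (b * b) * a * b := by group
    _ = 1 := by rw [hb2, mul_one, mul_assoc b a a, ha2, mul_one, hb2]

include hD hconj in
/-- Key step for Baer–Suzuki. -/
theorem isPGroup_three_closure_pair {x w : G} (hx : x ∈ D) (hw : w ∈ D) (hth : Th D x w)
    (hne : x ≠ w) (g : G) :
    IsPGroup 3 (Subgroup.closure ({x * w, g * (x * w) * g⁻¹} : Set G)) := by
  set x' := g * x * g⁻¹ with hx'def
  set w' := g * w * g⁻¹ with hw'def
  have hx' : x' ∈ D := hconj g x hx
  have hw' : w' ∈ D := hconj g w hw
  have hth' : Th D x' w' := th_conj hconj hth g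
  have hne' : x' ≠ w' := by
    intro h
    apply hne
    have : g⁻¹ * x' * g = g⁻¹ * w' * g := by rw [h]
    rw [hx'def, hw'def] at this
    simpa [mul_assoc] using this
  have e : g * (x * w) * g⁻¹ = x' * w' := by rw [hx'def, hw'def]; group
  rw [e]
  -- a 3-group containing both products suffices
  have hfin : ∀ T : Subgroup G, IsPGroup 3 T → x * w ∈ T → x' * w' ∈ T →
      IsPGroup 3 (Subgroup.closure ({x * w, x' * w'} : Set G)) := by
    intro T hT h1 h2
    apply hT.to_le
    rw [Subgroup.closure_le]
    intro z hz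
    rcases hz with rfl | rfl
    · exact h1
    · exact h2
  by_cases hA : Th D x x'
  · -- Case A: one class
    let R : Unit → G := fun _ => x
    have hR : ∀ i, R i ∈ D := fun _ => hx
    have H1 : ∀ i j, ∃ k, Th D (R j * R i * (R j)⁻¹) (R k) := by
      intro i j
      refine ⟨(), ?_⟩
      have : R j * R i * (R j)⁻¹ = x := by change x * x * x⁻¹ = x; group
      rw [this]; exact th_refl _
    have H2 : ∀ i j, Th D (R i) (R j) ∨ ¬ Commute (R i) (R j) := fun _ _ => Or.inl (th_refl _)
    obtain ⟨T, hT, hTm⟩ := exists_three_group_of_width_one hD {e | InE D R e}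
      (fun e he => he.1)
      (fun a ha b hb => inE_conj hD hconj R hR H1 H2 ha hb)
      (fun a ha b hb hc => eq_of_commute_of_inE R hR H2 ha hb hc)
    have m1 : InE D R x := ⟨hx, (), th_refl _⟩
    have m2 : InE D R w := ⟨hw, (), th_symm hth⟩
    have m3 : InE D R x' := ⟨hx', (), th_symm hA⟩
    have m4 : InE D R w' := ⟨hw', (), th_trans (th_symm hth') (th_symm hA)⟩
    exact hfin T hT (hTm x m1 w m2) (hTm x' m3 w' m4)
  · by_cases hB : Commute x x'
    · -- Case B: commuting classes
      have hxw' : ¬ Th D x w' := fun h => hA (th_trans h (th_symm hth'))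
      have hwx' : ¬ Th D w x' := fun h => hA (th_trans hth h)
      have hww' : ¬ Th D w w' := fun h => hA (th_trans hth (th_trans h (th_symm hth')))
      have c1 : Commute x w' := commute_of_th hx hx' (th_refl x) hth' hA hB
      have c2 : Commute w x' := commute_of_th hw hx' hth (th_refl x') hA hB
      have c3 : Commute w w' := commute_of_th hw hx' hth hth' hA hB
      have hc : Commute (x * w) (x' * w') :=
        Commute.mul_left (Commute.mul_right hB c1) (Commute.mul_right c2 c3)
      have h1 := cube_of_not_commute hD hx hw (not_commute_of_th hw hth hne)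
      have h2 := cube_of_not_commute hD hx' hw' (not_commute_of_th hw' hth' hne')
      exact isPGroup_three_pair h1 h2 hc
    · -- Case C: a line of classes
      obtain ⟨hx2, hx'2, hbr⟩ := Cfsg.Agent.S5344.braid_of_not_commute hD hx hx' hB
      have hxi : x⁻¹ = x := inv_eq_of_mul_eq_one_left hx2
      have hx'i : x'⁻¹ = x' := inv_eq_of_mul_eq_one_left hx'2
      have r1 : ∀ t : G, x * (x * t) = t := fun t => by rw [← mul_assoc, hx2, one_mul]
      have r2 : ∀ t : G, x' * (x' * t) = t := fun t => by rw [← mul_assoc, hx'2, one_mul]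
      have r3 : ∀ t : G, x * (x' * (x * t)) = x' * (x * (x' * t)) := fun t => by
        rw [← mul_assoc, ← mul_assoc, hbr]; simp only [mul_assoc]
      have r3' : x * (x' * x) = x' * (x * x') := by
        have := r3 1; simpa using this
      let R : Fin 3 → G := ![x, x', x' * x * x'⁻¹]
      have hR : ∀ i, R i ∈ D := by
        intro i
        fin_cases i
        · exact hx
        · exact hx'
        · exact hconj x' x hx
      have eqs : ∀ i j : Fin 3, ∃ k, R j * R i * (R j)⁻¹ = R k := by
        intro i j
        fin_cases i <;> fin_cases j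
        · exact ⟨0, by change x * x * x⁻¹ = x; group⟩
        · exact ⟨2, rfl⟩
        · refine ⟨1, ?_⟩
          change x' * x * x'⁻¹ * x * (x' * x * x'⁻¹)⁻¹ = x'
          simp only [mul_inv_rev, inv_inv, hxi, hx'i, mul_assoc, r1, r2, r3, r3', hx2, hx'2, mul_one]
        · refine ⟨2, ?_⟩
          change x * x' * x⁻¹ = x' * x * x'⁻¹
          simp only [hxi, hx'i, mul_assoc, r3']
        · exact ⟨1, by change x' * x' * x'⁻¹ = x'; group⟩
        · refine ⟨0, ?_⟩
          change x' * x * x'⁻¹ * x' * (x' * x * x'⁻¹)⁻¹ = x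
          simp only [mul_inv_rev, inv_inv, hxi, hx'i, mul_assoc, r1, r2, r3, r3', hx2, hx'2, mul_one]
        · refine ⟨1, ?_⟩
          change x * (x' * x * x'⁻¹) * x⁻¹ = x'
          simp only [hxi, hx'i, mul_assoc, r1, r2, r3, r3', hx2, hx'2, mul_one]
        · refine ⟨0, ?_⟩
          change x' * (x' * x * x'⁻¹) * x'⁻¹ = x
          simp only [hxi, hx'i, mul_assoc, r1, r2, r3, r3', hx2, hx'2, mul_one]
        · exact ⟨2, by change x' * x * x'⁻¹ * (x' * x * x'⁻¹) * (x' * x * x'⁻¹)⁻¹ = x' * x * x'⁻¹; group⟩
      have H1 : ∀ i j, ∃ k, Th D (R j * R i * (R j)⁻¹) (R k) := by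
        intro i j
        obtain ⟨k, hk⟩ := eqs i j
        exact ⟨k, by rw [hk]; exact th_refl _⟩
      have e3 : x' * x * x'⁻¹ = x * x' * x⁻¹ := by
        simp only [hxi, hx'i, mul_assoc, r3']
      have n02 : ¬ Commute x (x' * x * x'⁻¹) := by
        rw [e3]
        intro h
        have h' : Commute (x * x * x⁻¹) (x * x' * x⁻¹) := by
          have : x * x * x⁻¹ = x := by group
          rw [this]; exact h
        exact hB ((Commute.conj_iff x).mp h')
      have n12 : ¬ Commute x' (x' * x * x'⁻¹) := by
        intro h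
        have h' : Commute (x' * x' * x'⁻¹) (x' * x * x'⁻¹) := by
          have : x' * x' * x'⁻¹ = x' := by group
          rw [this]; exact h
        exact hB ((Commute.conj_iff x').mp h').symm
      have H2 : ∀ i j, Th D (R i) (R j) ∨ ¬ Commute (R i) (R j) := by
        intro i j
        fin_cases i <;> fin_cases j
        · exact Or.inl (th_refl _)
        · exact Or.inr hB
        · exact Or.inr n02
        · exact Or.inr (fun h => hB h.symm)
        · exact Or.inl (th_refl _)
        · exact Or.inr n12
        · exact Or.inr (fun h => n02 h.symm)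
        · exact Or.inr (fun h => n12 h.symm)
        · exact Or.inl (th_refl _)
      obtain ⟨T, hT, hTm⟩ := exists_three_group_of_width_one hD {e | InE D R e}
        (fun e he => he.1)
        (fun a ha b hb => inE_conj hD hconj R hR H1 H2 ha hb)
        (fun a ha b hb hc => eq_of_commute_of_inE R hR H2 ha hb hc)
      have m1 : InE D R x := ⟨hx, 0, th_refl _⟩
      have m2 : InE D R w := ⟨hw, 0, th_symm hth⟩
      have m3 : InE D R x' := ⟨hx', 1, th_refl _⟩
      have m4 : InE D R w' := ⟨hw', 1, th_symm hth'⟩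
      exact hfin T hT (hTm x m1 w m2) (hTm x' m3 w' m4)

include hD hconj in
/-- θ-equivalent members have their product in `O₃(G)`. -/
theorem mul_mem_pCore_three {x w : G} (hx : x ∈ D) (hw : w ∈ D) (hth : Th D x w) (hne : x ≠ w) :
    x * w ∈ Cfsg.pCore 3 G := by
  haveI : Fact (Nat.Prime 3) := ⟨Nat.prime_three⟩
  have hBS : x * w ∈ (⨅ P : Sylow 3 G, (P : Subgroup G) : Subgroup G) := by
    apply Cfsg.Agent.Helper16.baer_suzuki_elt 3
    intro g
    exact isPGroup_three_closure_pair hD hconj hx hw hth hne g
  exact Cfsg.Agent.Helper14.le_pCore 3 (Cfsg.Agent.Helper16.iInf_sylow_normal 3)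
    (Cfsg.Agent.Helper16.iInf_sylow_isPGroup 3) hBS

end Key

end Cfsg.Agent.Helper4.ThreeTransO3
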