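import Mathlib
import Cfsg.Prelude.Def_FischerSpaces
import Cfsg.Agent.Helper4.ThreeTransO3C

set_option autoImplicit false
set_option linter.style.haveILetI false
set_option linter.unusedSectionVars false
set_option linter.unusedVariables false

/-!
# θ-classes are the orbits of `O₃(G)`
-/

namespace Cfsg.Agent.Helper4.ThreeTransO3

open Equiv

section

variable {G : Type*} [Group G] [Finite G] {D : Set G}
variable (hD : Cfsg.IsThreeTranspositionSet D) (hconj : ∀ g : G, ∀ x ∈ D, g * x * g⁻¹ ∈ D)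

theorem eq_one_of_sq_of_mem_pCore_three {z : G} (hz : z ∈ Cfsg.pCore 3 G) (h2 : z ^ 2 = 1) :
    z = 1 := by
  have hOp : IsPGroup 3 (Cfsg.pCore 3 G) := Cfsg.Agent.Helper14.pCore_isPGroup 3
  obtain ⟨k, hk⟩ := hOp ⟨z, hz⟩
  have h1 : z ^ (3 ^ k) = 1 := by
    have := congrArg (fun u : Cfsg.pCore 3 G => (u : G)) hk
    simpa using this
  have h3 : orderOf z ∣ Nat.gcd (3 ^ k) 2 :=
    Nat.dvd_gcd (orderOf_dvd_of_pow_eq_one h1) (orderOf_dvd_of_pow_eq_one h2)
  have h4 : Nat.gcd (3 ^ k) 2 = 1 := by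
    apply Nat.Coprime.pow_left; norm_num
  rw [h4, Nat.dvd_one, orderOf_eq_one_iff] at h3
  exact h3

include hD in
theorem exists_conj_of_mem {d w : G} (hd : d ∈ D) (hw : w ∈ D)
    (hz : d⁻¹ * w ∈ Cfsg.pCore 3 G) : ∃ g ∈ Cfsg.pCore 3 G, w = g * d * g⁻¹ := by
  have hd2 : d * d = 1 := ThreeTransO2.sq_eq_one hD hd
  have hw2 : w * w = 1 := ThreeTransO2.sq_eq_one hD hw
  have hdi : d⁻¹ = d := inv_eq_of_mul_eq_one_left hd2
  have hwi : w⁻¹ = w := inv_eq_of_mul_eq_one_left hw2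
  rw [hdi] at hz
  rcases hD.2 d hd w hw with h | h
  · have h1 := eq_one_of_sq_of_mem_pCore_three hz h
    have hwd : w = d := by
      calc w = (d * d) * w := by rw [hd2, one_mul]
        _ = d * (d * w) := by group
        _ = d := by rw [h1, mul_one]
    exact ⟨1, Subgroup.one_mem _, by rw [hwd]; group⟩
  · refine ⟨d * w, hz, ?_⟩
    rw [mul_inv_rev, hdi, hwi]
    have h2 : d * w * (d * w) * (d * w) = 1 := by rw [← h, pow_succ, pow_succ, pow_one]
    calc w = (d * w * (d * w) * (d * w)) * w := by rw [h2, one_mul]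
      _ = d * w * d * w * d * (w * w) := by group
      _ = d * w * d * (w * d) := by rw [hw2, mul_one]; group

/-- A 3-cycle and a conjugate with product a double transposition. -/
theorem s4_fact : ((swap 0 1 * swap 1 2 : Perm (Fin 4)) *
      (swap 2 3 * (swap 0 1 * swap 1 2) * (swap 2 3)⁻¹)) ^ 2 = 1 ∧
    (swap 0 1 * swap 1 2 : Perm (Fin 4)) *
      (swap 2 3 * (swap 0 1 * swap 1 2) * (swap 2 3)⁻¹) ≠ 1 := by
  decide

include hD hconj in
theorem dset_subset_of_conj {d : G} (hd : d ∈ D) {g : G} (hg : g ∈ Cfsg.pCore 3 G) :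
    Dset D d ⊆ Dset D (g * d * g⁻¹) := by
  have hN : (Cfsg.pCore 3 G).Normal := Cfsg.Agent.Helper14.pCore_normal 3
  set w := g * d * g⁻¹ with hwdef
  have hw : w ∈ D := hconj g d hd
  have hd2 : d * d = 1 := ThreeTransO2.sq_eq_one hD hd
  have hw2 : w * w = 1 := ThreeTransO2.sq_eq_one hD hw
  have hdi : d⁻¹ = d := inv_eq_of_mul_eq_one_left hd2
  have hn : d * w ∈ Cfsg.pCore 3 G := by
    have e : d * w = (d * g * d⁻¹) * g⁻¹ := by rw [hwdef, hdi]; group
    rw [e]
    exact Subgroup.mul_mem _ (hN.conj_mem g hg d) (Subgroup.inv_mem _ hg)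
  rintro y ⟨hyD, hyd, hcy⟩
  have hy2 : y * y = 1 := ThreeTransO2.sq_eq_one hD hyD
  by_cases hwd : w = d
  · rw [hwd]; exact ⟨hyD, hyd, hcy⟩
  · have hdw : ¬ Commute d w := by
      intro hc
      have h2 : (d * w) ^ 2 = 1 := by
        rw [hc.mul_pow, sq, sq, hd2, hw2, one_mul]
      have h1 := eq_one_of_sq_of_mem_pCore_three hn h2
      apply hwd
      calc w = (d * d) * w := by rw [hd2, one_mul]
        _ = d * (d * w) := by group
        _ = d := by rw [h1, mul_one]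
    obtain ⟨-, -, hbr1⟩ := Cfsg.Agent.S5344.braid_of_not_commute hD hd hw hdw
    have hwy : Commute w y := by
      by_contra hwy
      obtain ⟨-, -, hbr2⟩ := Cfsg.Agent.S5344.braid_of_not_commute hD hw hyD hwy
      obtain ⟨φ, h01, h12, h23⟩ := Cfsg.Agent.Helper4.S4Coxeter.exists_hom d w y hd2 hw2 hy2
        hbr1 hbr2 hcy.eq
      have hinj : Function.Injective φ := by
        apply Cfsg.Agent.Helper4.S4Coxeter.injective_of_ne_one
        rw [map_mul, h01, h23]
        intro h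
        apply hyd
        calc y = (d * d) * y := by rw [hd2, one_mul]
          _ = d * (d * y) := by group
          _ = d := by rw [h, mul_one]
      obtain ⟨hu2, hu1⟩ := s4_fact
      set u : Perm (Fin 4) := (swap 0 1 * swap 1 2 : Perm (Fin 4)) *
        (swap 2 3 * (swap 0 1 * swap 1 2) * (swap 2 3)⁻¹) with hu
      have hφu : φ u = (d * w) * (y * (d * w) * y⁻¹) := by
        rw [hu]
        simp only [map_mul, map_inv, h01, h12, h23]
      have hmem : φ u ∈ Cfsg.pCore 3 G := by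
        rw [hφu]
        exact Subgroup.mul_mem _ hn (hN.conj_mem _ hn y)
      have hsq : (φ u) ^ 2 = 1 := by rw [← map_pow, hu2, map_one]
      have h1 := eq_one_of_sq_of_mem_pCore_three hmem hsq
      apply hu1
      apply hinj
      rw [h1, map_one]
    refine ⟨hyD, ?_, hwy⟩
    rintro rfl
    exact hdw hcy

include hD hconj in
/-- The three descriptions of the θ-class of `d` agree. -/
theorem theta_class_eq {d : G} (hd : d ∈ D) :
    {w : G | w ∈ D ∧ Dset D d = Dset D w} = {w : G | w ∈ D ∧ d⁻¹ * w ∈ Cfsg.pCore 3 G} ∧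
    {w : G | w ∈ D ∧ Dset D d = Dset D w} = {w : G | ∃ g ∈ Cfsg.pCore 3 G, w = g * d * g⁻¹} := by
  have hd2 : d * d = 1 := ThreeTransO2.sq_eq_one hD hd
  have hdi : d⁻¹ = d := inv_eq_of_mul_eq_one_left hd2
  have hAB : ∀ w, (w ∈ D ∧ Dset D d = Dset D w) → (w ∈ D ∧ d⁻¹ * w ∈ Cfsg.pCore 3 G) := by
    rintro w ⟨hw, hth⟩
    refine ⟨hw, ?_⟩
    by_cases hne : d = w
    · rw [← hne, inv_mul_cancel]; exact Subgroup.one_mem _
    · rw [hdi]; exact mul_mem_pCore_three hD hconj hd hw hth hne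
  have hBC : ∀ w, (w ∈ D ∧ d⁻¹ * w ∈ Cfsg.pCore 3 G) → ∃ g ∈ Cfsg.pCore 3 G, w = g * d * g⁻¹ :=
    fun w ⟨hw, hz⟩ => exists_conj_of_mem hD hd hw hz
  have hCA : ∀ w, (∃ g ∈ Cfsg.pCore 3 G, w = g * d * g⁻¹) → (w ∈ D ∧ Dset D d = Dset D w) := by
    rintro w ⟨g, hg, rfl⟩
    refine ⟨hconj g d hd, ?_⟩
    apply Set.Subset.antisymm (dset_subset_of_conj hD hconj hd hg)
    have h1 := dset_subset_of_conj hD hconj (hconj g d hd) (Subgroup.inv_mem _ hg)
    have e : g⁻¹ * (g * d * g⁻¹) * g⁻¹⁻¹ = d := by group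
    rwa [e] at h1
  constructor
  · ext w
    exact ⟨fun h => hAB w h, fun h => hCA w (hBC w h)⟩
  · ext w
    exact ⟨fun h => hBC w (hAB w h), fun h => hCA w h⟩

end

end Cfsg.Agent.Helper4.ThreeTransO3
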