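import Mathlib
import Cfsg.Prelude.Def_FischerSpaces
import Cfsg.Prelude.Def_Local
import Cfsg.Agent.Helper4.ThreeTransO3D

set_option autoImplicit false
set_option linter.style.haveILetI false
set_option linter.unusedSectionVars false
set_option linter.unusedVariables false

/-!
# 3-transpositions acting on perfect normal subgroups
-/

namespace Cfsg.Agent.Helper4.ThreeTransFStar

open Subgroup
open scoped commutatorElement

section

variable {G : Type*} [Group G]

/-- The subgroup `[d, K]` generated by the products `d * (x d x⁻¹)`, `x ∈ K`. -/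
def commSub (d : G) (K : Subgroup G) : Subgroup G :=
  closure {z : G | ∃ x ∈ K, z = d * (x * d * x⁻¹)}

theorem mem_commSub {d : G} {K : Subgroup G} {x : G} (hx : x ∈ K) :
    d * (x * d * x⁻¹) ∈ commSub d K :=
  subset_closure ⟨x, hx, rfl⟩

theorem commSub_le {d : G} (hd2 : d * d = 1) {K : Subgroup G} [hK : K.Normal] :
    commSub d K ≤ K := by
  have hdi : d⁻¹ = d := inv_eq_of_mul_eq_one_left hd2
  unfold commSub
  rw [closure_le]
  rintro _ ⟨x, hx, rfl⟩
  have h1 : d * (x * d * x⁻¹) = (d * x * d⁻¹) * x⁻¹ := by rw [hdi]; group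
  rw [h1]
  exact K.mul_mem (hK.conj_mem x hx d) (K.inv_mem hx)

theorem conj_mem_commSub {d : G} (hd2 : d * d = 1) {K : Subgroup G} {y : G} (hy : y ∈ K) :
    ∀ n ∈ commSub d K, y * n * y⁻¹ ∈ commSub d K := by
  have hdi : d⁻¹ = d := inv_eq_of_mul_eq_one_left hd2
  have key : commSub d K ≤ (commSub d K).comap (MulAut.conj y).toMonoidHom := by
    unfold commSub
    rw [closure_le]
    rintro _ ⟨x, hx, rfl⟩
    show y * (d * (x * d * x⁻¹)) * y⁻¹ ∈ closure {z : G | ∃ x ∈ K, z = d * (x * d * x⁻¹)}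
    have h0 : (d * (y * d * y⁻¹))⁻¹ * (d * ((y * x) * d * (y * x)⁻¹)) =
        y * (d⁻¹ * (x * d * x⁻¹)) * y⁻¹ := by group
    have h1 : y * (d * (x * d * x⁻¹)) * y⁻¹ =
        (d * (y * d * y⁻¹))⁻¹ * (d * ((y * x) * d * (y * x)⁻¹)) := by
      rw [h0, hdi]
    rw [h1]
    exact mul_mem (inv_mem (subset_closure ⟨y, hy, rfl⟩))
      (subset_closure ⟨y * x, K.mul_mem hy hx, rfl⟩)
  intro n hn
  exact key hn

theorem le_normalizer_commSub {d : G} (hd2 : d * d = 1) {K : Subgroup G} :
    K ≤ normalizer (commSub d K : Set G) := by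
  intro y hy
  rw [mem_normalizer_iff]
  intro n
  constructor
  · exact conj_mem_commSub hd2 hy n
  · intro h
    have := conj_mem_commSub hd2 (K.inv_mem hy) _ h
    rw [inv_inv] at this
    have h2 : y⁻¹ * (y * n * y⁻¹) * y = n := by group
    rwa [h2] at this

/-- If `[d, K]` centralizes the perfect subgroup `K`, then `d` centralizes `K`. -/
theorem commute_of_commSub_le_centralizer {d : G} (hd2 : d * d = 1) {K : Subgroup G}
    (hperf : ⁅K, K⁆ = K) (hc : commSub d K ≤ centralizer (K : Set G)) :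
    ∀ y ∈ K, Commute d y := by
  have hdi : d⁻¹ = d := inv_eq_of_mul_eq_one_left hd2
  have h0 : ⁅K, zpowers d⁆ ≤ commSub d K := by
    rw [commutator_le]
    intro k hk z hz
    obtain ⟨i, rfl⟩ := mem_zpowers_iff.mp hz
    rcases Int.emod_two_eq_zero_or_one i with h | h
    · have : d ^ i = 1 := by
        have h2 : i = 2 * (i / 2) := by omega
        rw [h2, zpow_mul, zpow_ofNat, pow_two, hd2, one_zpow]
      rw [this, commutatorElement_one_right]
      exact one_mem _
    · have : d ^ i = d := by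
        have h2 : i = 2 * (i / 2) + 1 := by omega
        rw [h2, zpow_add, zpow_mul, zpow_ofNat, pow_two, hd2, one_zpow, one_mul, zpow_one]
      rw [this]
      have h3 : ⁅k, d⁆ = (d * (k * d * k⁻¹))⁻¹ := by
        rw [commutatorElement_def, mul_inv_rev, mul_inv_rev, mul_inv_rev, inv_inv, hdi]
        simp only [mul_assoc]
      rw [h3]
      exact inv_mem (mem_commSub hk)
  have h1 : ⁅⁅K, zpowers d⁆, K⁆ = ⊥ := by
    rw [commutator_eq_bot_iff_le_centralizer]
    exact h0.trans hc
  have h2 : ⁅⁅zpowers d, K⁆, K⁆ = ⊥ := by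
    rw [commutator_comm (zpowers d) K]
    exact h1
  have h3 : ⁅⁅K, K⁆, zpowers d⁆ = ⊥ := commutator_commutator_eq_bot_of_rotate h1 h2
  rw [hperf, commutator_eq_bot_iff_le_centralizer] at h3
  intro y hy
  have := h3 hy
  rw [mem_centralizer_iff] at this
  exact (this d (mem_zpowers d))
  
end

end Cfsg.Agent.Helper4.ThreeTransFStar
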