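import Mathlib
import Cfsg.Prelude.Def_FischerSpaces
import Cfsg.Prelude.Def_Local
import Cfsg.Agent.Helper4.ThreeTransFStarA

set_option autoImplicit false
set_option linter.style.haveILetI false
set_option linter.unusedSectionVars false
set_option linter.unusedVariables false

/-!
# 3-transpositions acting on perfect normal subgroups, II
-/

namespace Cfsg.Agent.Helper4.ThreeTransFStar

open Subgroup
open scoped commutatorElement

section

variable {G : Type*} [Group G]

theorem isPGroup_two_closure_of_commute (T : Set G) (h2 : ∀ t ∈ T, t * t = 1)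
    (hc : ∀ a ∈ T, ∀ b ∈ T, Commute a b) : IsPGroup 2 (closure T) := by
  have h1 : closure T ≤ centralizer T := by
    rw [closure_le]
    intro t ht
    rw [SetLike.mem_coe, mem_centralizer_iff]
    intro s hs
    exact (hc s hs t ht).eq
  have h3 : closure T ≤ centralizer (closure T : Set G) := by
    rw [closure_le]
    intro t ht
    rw [SetLike.mem_coe, mem_centralizer_iff]
    intro g hg
    have := h1 hg
    rw [mem_centralizer_iff] at this
    exact (this t ht).symm
  have h4 : ∀ g ∈ closure T, g * g = 1 := by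
    intro g hg
    induction hg using closure_induction with
    | mem x hx => exact h2 x hx
    | one => simp
    | mul x y hx hy ihx ihy =>
      have hxy : y * x = x * y := by
        have := h3 hx
        rw [mem_centralizer_iff] at this
        exact this y hy
      calc x * y * (x * y) = x * (y * x) * y := by simp only [mul_assoc]
        _ = x * (x * y) * y := by rw [hxy]
        _ = (x * x) * (y * y) := by simp only [mul_assoc]
        _ = 1 := by rw [ihx, ihy, one_mul]
    | inv x hx ih =>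
      rw [← mul_inv_rev, ih, inv_one]
  intro g
  refine ⟨1, ?_⟩
  apply Subtype.ext
  rw [pow_one, pow_two]
  exact h4 g.1 g.2

/-- If `d` commutes with all its `K`-conjugates then `[d, K]` is a 2-group. -/
theorem isPGroup_two_commSub {d : G} (hd2 : d * d = 1) {K : Subgroup G}
    (hall : ∀ x ∈ K, Commute d (x * d * x⁻¹)) : IsPGroup 2 (commSub d K) := by
  set T : Set G := {t : G | ∃ x ∈ K, t = x * d * x⁻¹} with hT
  have hdT : d ∈ T := ⟨1, K.one_mem, by simp⟩
  have hT2 : ∀ t ∈ T, t * t = 1 := by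
    rintro _ ⟨x, hx, rfl⟩
    have : x * d * x⁻¹ * (x * d * x⁻¹) = x * (d * d) * x⁻¹ := by group
    rw [this, hd2, mul_one, mul_inv_cancel]
  have hTc : ∀ a ∈ T, ∀ b ∈ T, Commute a b := by
    rintro _ ⟨x, hx, rfl⟩ _ ⟨y, hy, rfl⟩
    rw [ThreeTransO2.commute_conj_iff]
    have : x⁻¹ * (y * d * y⁻¹) * x = (x⁻¹ * y) * d * (x⁻¹ * y)⁻¹ := by group
    rw [this]
    exact hall _ (K.mul_mem (K.inv_mem hx) hy)
  have hle : commSub d K ≤ closure T := by
    unfold commSub
    rw [closure_le]
    rintro _ ⟨x, hx, rfl⟩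
    exact mul_mem (subset_closure hdT) (subset_closure ⟨x, hx, rfl⟩)
  exact (isPGroup_two_closure_of_commute T hT2 hTc).to_le hle

end

section

variable {G : Type*} [Group G] [Finite G] {D : Set G}

/-- If `d` commutes with none of its other `K`-conjugates then `[d, K]` is a 3-group. -/
theorem isPGroup_three_commSub (hD : Cfsg.IsThreeTranspositionSet D)
    (hconj : ∀ g : G, ∀ x ∈ D, g * x * g⁻¹ ∈ D) {d : G} (hd : d ∈ D) {K : Subgroup G}
    [hKn : K.Normal]
    (hall : ∀ x ∈ K, Commute d (x * d * x⁻¹) → x * d * x⁻¹ = d) :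
    IsPGroup 3 (commSub d K) := by
  have hd2 : d * d = 1 := ThreeTransO2.sq_eq_one hD hd
  have hdi : d⁻¹ = d := inv_eq_of_mul_eq_one_left hd2
  set T : Set G := {t : G | ∃ x ∈ K, t = x * d * x⁻¹} with hT
  have hdT : d ∈ T := ⟨1, K.one_mem, by simp⟩
  have hTD : T ⊆ D := by
    rintro _ ⟨x, hx, rfl⟩
    exact hconj x d hd
  have hTconj : ∀ a ∈ T, ∀ b ∈ T, b * a * b⁻¹ ∈ T := by
    rintro _ ⟨x, hx, rfl⟩ _ ⟨y, hy, rfl⟩
    refine ⟨y * (d * (y⁻¹ * x) * d⁻¹), K.mul_mem hy (hKn.conj_mem _ (K.mul_mem (K.inv_mem hy) hx) d), ?_⟩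
    group
  have hTw : ∀ a ∈ T, ∀ b ∈ T, Commute a b → a = b := by
    rintro _ ⟨x, hx, rfl⟩ _ ⟨y, hy, rfl⟩ hc
    rw [ThreeTransO2.commute_conj_iff] at hc
    have h1 : x⁻¹ * (y * d * y⁻¹) * x = (x⁻¹ * y) * d * (x⁻¹ * y)⁻¹ := by group
    rw [h1] at hc
    have h2 := hall _ (K.mul_mem (K.inv_mem hx) hy) hc
    have h3 : y * d * y⁻¹ = x * ((x⁻¹ * y) * d * (x⁻¹ * y)⁻¹) * x⁻¹ := by group
    rw [h3, h2]
  obtain ⟨T₃, hT₃, hmem⟩ := ThreeTransO3.exists_three_group_of_width_one hD T hTD hTconj hTw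
  have hle : commSub d K ≤ T₃ := by
    unfold commSub
    rw [closure_le]
    rintro _ ⟨x, hx, rfl⟩
    exact hmem d hdT _ ⟨x, hx, rfl⟩
  exact hT₃.to_le hle

/-- A 3-transposition `d` acting non-trivially on a perfect normal subgroup `K` whose normal
2- and 3-subgroups are central has `K`-conjugates of both kinds. -/
theorem exists_conj_of_not_commute (hD : Cfsg.IsThreeTranspositionSet D)
    (hconj : ∀ g : G, ∀ x ∈ D, g * x * g⁻¹ ∈ D) {d : G} (hd : d ∈ D) {K : Subgroup G}
    [hKn : K.Normal] (hperf : ⁅K, K⁆ = K)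
    (hK : ∀ N : Subgroup G, N ≤ K → K ≤ normalizer (N : Set G) → (IsPGroup 2 N ∨ IsPGroup 3 N) →
      N ≤ centralizer (K : Set G))
    (hnc : ¬ ∀ y ∈ K, Commute d y) :
    (∃ x ∈ K, x * d * x⁻¹ ≠ d ∧ Commute d (x * d * x⁻¹)) ∧
      (∃ x ∈ K, ¬ Commute d (x * d * x⁻¹)) := by
  have hd2 : d * d = 1 := ThreeTransO2.sq_eq_one hD hd
  constructor
  · by_contra hcon
    push Not at hcon
    apply hnc
    apply commute_of_commSub_le_centralizer hd2 hperf
    apply hK _ (commSub_le hd2) (le_normalizer_commSub hd2)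
    right
    apply isPGroup_three_commSub hD hconj hd
    intro x hx hc
    by_contra hne
    exact hcon x hx hne hc
  · by_contra hcon
    push Not at hcon
    apply hnc
    apply commute_of_commSub_le_centralizer hd2 hperf
    apply hK _ (commSub_le hd2) (le_normalizer_commSub hd2)
    left
    exact isPGroup_two_commSub hd2 hcon

end

end Cfsg.Agent.Helper4.ThreeTransFStar
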