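import Mathlib
import Cfsg.Prelude.Def_FischerSpaces
import Cfsg.Prelude.Def_Local
import Cfsg.Agent.Helper4.ThreeTransFStarB
import Cfsg.Agent.Helper7.FStar

set_option autoImplicit false
set_option linter.style.haveILetI false
set_option linter.unusedSectionVars false
set_option linter.unusedVariables false

/-!
# 3-transposition groups: the layer and the p-cores
-/

namespace Cfsg.Agent.Helper4.ThreeTransFStar

open Subgroup
open scoped commutatorElement

section

variable {G : Type*} [Group G] [Finite G]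

/-- Normal 2- and 3-subgroups of the layer are central in the layer. -/
theorem layer_hK (p : ℕ) [Fact p.Prime] (N : Subgroup G) (hle : N ≤ Cfsg.layer G)
    (hnorm : Cfsg.layer G ≤ normalizer (N : Set G)) (hp : IsPGroup p N) :
    N ≤ centralizer (Cfsg.layer G : Set G) := by
  have hsub : N.IsSubnormal := by
    refine IsSubnormal.step N (Cfsg.layer G) hle
      (Cfsg.Agent.Helper7.layer_normal G).isSubnormal ?_
    rw [normal_subgroupOf_iff_le_normalizer hle]
    exact hnorm
  have h1 : N ≤ Cfsg.pCore p G := Cfsg.Agent.Helper7.subnormal_pGroup_le_pCore hsub hp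
  have h2 : Cfsg.pCore p G ≤ Cfsg.fittingSubgroup G :=
    Cfsg.Agent.Helper7.pCore_le_fittingSubgroup p
  have h3 : Cfsg.fittingSubgroup G ≤ centralizer (Cfsg.layer G : Set G) := by
    rw [← commutator_eq_bot_iff_le_centralizer, commutator_comm]
    exact Cfsg.Agent.Helper7.layer_commutator_fitting
  exact h1.trans (h2.trans h3)

theorem layer_hK' (N : Subgroup G) (hle : N ≤ Cfsg.layer G)
    (hnorm : Cfsg.layer G ≤ normalizer (N : Set G)) (hp : IsPGroup 2 N ∨ IsPGroup 3 N) :
    N ≤ centralizer (Cfsg.layer G : Set G) := by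
  haveI : Fact (Nat.Prime 2) := ⟨Nat.prime_two⟩
  haveI : Fact (Nat.Prime 3) := ⟨Nat.prime_three⟩
  rcases hp with hp | hp
  · exact layer_hK 2 N hle hnorm hp
  · exact layer_hK 3 N hle hnorm hp

theorem commute_pCore_layer (p : ℕ) [Fact p.Prime] {n x : G} (hn : n ∈ Cfsg.pCore p G)
    (hx : x ∈ Cfsg.layer G) : Commute n x := by
  have h2 : Cfsg.pCore p G ≤ Cfsg.fittingSubgroup G :=
    Cfsg.Agent.Helper7.pCore_le_fittingSubgroup p
  have := (Cfsg.Agent.Helper7.commutator_eq_bot_iff_forall_commute.mp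
    Cfsg.Agent.Helper7.layer_commutator_fitting) x hx n (h2 hn)
  exact this.symm

theorem eq_one_of_cube_of_mem_pCore_two {z : G} (hz : z ∈ Cfsg.pCore 2 G) (h3 : z ^ 3 = 1) :
    z = 1 := by
  have hOp : IsPGroup 2 (Cfsg.pCore 2 G) := Cfsg.Agent.Helper14.pCore_isPGroup 2
  obtain ⟨k, hk⟩ := hOp ⟨z, hz⟩
  have h1 : z ^ (2 ^ k) = 1 := by
    have := congrArg (fun u : Cfsg.pCore 2 G => (u : G)) hk
    simpa using this
  have h3 : orderOf z ∣ Nat.gcd (2 ^ k) 3 :=
    Nat.dvd_gcd (orderOf_dvd_of_pow_eq_one h1) (orderOf_dvd_of_pow_eq_one h3)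
  have h4 : Nat.gcd (2 ^ k) 3 = 1 := by
    apply Nat.Coprime.pow_left; norm_num
  rw [h4, Nat.dvd_one, orderOf_eq_one_iff] at h3
  exact h3

end

section

variable {G : Type*} [Group G] [Finite G] {D : Set G}
variable (hD : Cfsg.IsThreeTranspositionSet D) (hconj : ∀ g : G, ∀ x ∈ D, g * x * g⁻¹ ∈ D)
  (hgen : Subgroup.closure D = ⊤) (hconjd : ∀ d ∈ D, ∀ e ∈ D, ∃ g : G, g * d * g⁻¹ = e)

include hgen hconjd in
/-- A normal subgroup centralized by one member of the class `D` is central. -/
theorem le_center_of_commute {N : Subgroup G} [hN : N.Normal] {d : G} (hd : d ∈ D)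
    (h : ∀ g ∈ N, Commute d g) : N ≤ center G := by
  intro g hg
  have h1 : D ⊆ (centralizer ({g} : Set G) : Set G) := by
    intro e he
    obtain ⟨k, rfl⟩ := hconjd d hd e he
    rw [SetLike.mem_coe, mem_centralizer_iff]
    intro y hy
    rw [Set.mem_singleton_iff] at hy
    subst hy
    have h2 := h (k⁻¹ * y * k) (by
      have := hN.conj_mem y hg k⁻¹
      rwa [inv_inv] at this)
    have h3 : Commute (k * d * k⁻¹) y := by
      rw [ThreeTransO2.commute_conj_iff]
      exact h2
    exact h3.eq.symm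
  have h2 : closure D ≤ centralizer ({g} : Set G) := (closure_le _).mpr h1
  rw [hgen] at h2
  rw [mem_center_iff]
  intro y
  have := h2 (mem_top y)
  rw [mem_centralizer_iff] at this
  exact (this g rfl).symm

include hgen hconjd in
theorem exists_conj_ne {N : Subgroup G} [hN : N.Normal] (hnc : ¬ N ≤ center G) {d : G}
    (hd : d ∈ D) : ∃ g ∈ N, g * d * g⁻¹ ≠ d := by
  by_contra hcon
  push Not at hcon
  apply hnc
  apply le_center_of_commute hgen hconjd hd
  intro g hg
  have := hcon g hg
  show d * g = g * d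
  calc d * g = (g * d * g⁻¹) * g := by rw [this]
    _ = g * d := by group

include hgen hconjd in
theorem not_commute_layer (hE : Cfsg.layer G ≠ ⊥) {d : G} (hd : d ∈ D) :
    ¬ ∀ y ∈ Cfsg.layer G, Commute d y := by
  intro h
  have h1 : Cfsg.layer G ≤ center G := le_center_of_commute hgen hconjd hd h
  have h2 : ⁅Cfsg.layer G, Cfsg.layer G⁆ = ⊥ := by
    rw [commutator_eq_bot_iff_le_centralizer]
    exact h1.trans (center_le_centralizer _)
  rw [Cfsg.Agent.Helper7.layer_commutator_eq] at h2
  exact hE h2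

include hD hconj hgen hconjd in
/-- If `O₂(G)` is not central then the layer is trivial. -/
theorem layer_eq_bot_of_two (hnc : ¬ Cfsg.pCore 2 G ≤ center G) {d : G} (hd : d ∈ D) :
    Cfsg.layer G = ⊥ := by
  haveI : Fact (Nat.Prime 2) := ⟨Nat.prime_two⟩
  by_contra hE
  have hd2 : d * d = 1 := ThreeTransO2.sq_eq_one hD hd
  have hdi : d⁻¹ = d := inv_eq_of_mul_eq_one_left hd2
  have hO2n : (Cfsg.pCore 2 G).Normal := Cfsg.Agent.Helper14.pCore_normal 2
  obtain ⟨g, hg, hne⟩ := exists_conj_ne hgen hconjd hnc hd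
  set e := g * d * g⁻¹ with he
  have heD : e ∈ D := hconj g d hd
  set n := d * e with hn
  have hnO : n ∈ Cfsg.pCore 2 G := by
    have h1 : n = (d * g * d⁻¹) * g⁻¹ := by rw [hn, he, hdi]; group
    rw [h1]
    exact mul_mem (hO2n.conj_mem g hg d) (inv_mem hg)
  have hn1 : n ≠ 1 := by
    intro h
    apply hne
    have : e = d⁻¹ := by
      rw [hn] at h
      exact (inv_eq_of_mul_eq_one_right h).symm
    rw [this, hdi]
  have hn2 : n ^ 2 = 1 := by
    rcases hD.2 d hd e heD with h | h
    · exact h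
    · exact absurd (eq_one_of_cube_of_mem_pCore_two hnO h) hn1
  have he2 : e * e = 1 := ThreeTransO2.sq_eq_one hD heD
  have hei : e⁻¹ = e := inv_eq_of_mul_eq_one_left he2
  have hde : Commute d e := by
    have h1 : d * e = (d * e)⁻¹ := by
      rw [pow_two] at hn2
      exact (inv_eq_of_mul_eq_one_left hn2).symm
    rw [mul_inv_rev, hdi, hei] at h1
    exact h1
  have hnd : Commute n d := by
    show d * e * d = d * (d * e)
    rw [mul_assoc, hde.symm.eq]
  have hnc' := not_commute_layer hgen hconjd hE hd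
  obtain ⟨-, ⟨x, hx, hxd⟩⟩ := exists_conj_of_not_commute hD hconj hd
    Cfsg.Agent.Helper7.layer_commutator_eq layer_hK' hnc'
  set f := x * d * x⁻¹ with hf
  have hfD : f ∈ D := hconj x d hd
  have hnx : Commute n x := commute_pCore_layer 2 hnO hx
  have hnf : Commute n f := (hnx.mul_right hnd).mul_right hnx.inv_right
  have hndf : Commute n (d * f) := hnd.mul_right hnf
  have hef : e * f = n * (d * f) := by
    have : e = d * n := by rw [hn, ← mul_assoc, hd2, one_mul]
    rw [this, ← hnd.eq, mul_assoc]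
  have hdf3 : (d * f) ^ 3 = 1 := by
    rcases hD.2 d hd f hfD with h | h
    · exfalso
      apply hxd
      have hf2 : f * f = 1 := ThreeTransO2.sq_eq_one hD hfD
      have hfi : f⁻¹ = f := inv_eq_of_mul_eq_one_left hf2
      have h1 : d * f = (d * f)⁻¹ := by
        rw [pow_two] at h
        exact (inv_eq_of_mul_eq_one_left h).symm
      rw [mul_inv_rev, hdi, hfi] at h1
      exact h1
    · exact h
  have hdf2 : (d * f) ^ 2 ≠ 1 := by
    intro h
    apply hxd
    have hf2 : f * f = 1 := ThreeTransO2.sq_eq_one hD hfD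
    have hfi : f⁻¹ = f := inv_eq_of_mul_eq_one_left hf2
    have h1 : d * f = (d * f)⁻¹ := by
      rw [pow_two] at h
      exact (inv_eq_of_mul_eq_one_left h).symm
    rw [mul_inv_rev, hdi, hfi] at h1
    exact h1
  rcases hD.2 e heD f hfD with h | h
  · rw [hef, hndf.mul_pow, hn2, one_mul] at h
    exact hdf2 h
  · rw [hef, hndf.mul_pow, hdf3, mul_one] at h
    have : n ^ 3 = n := by
      rw [pow_succ, hn2, one_mul]
    rw [this] at h
    exact hn1 h

include hD hconj hgen hconjd in
/-- If `O₃(G)` is not central then the layer is trivial. -/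
theorem layer_eq_bot_of_three (hnc : ¬ Cfsg.pCore 3 G ≤ center G) {d : G} (hd : d ∈ D) :
    Cfsg.layer G = ⊥ := by
  haveI : Fact (Nat.Prime 3) := ⟨Nat.prime_three⟩
  by_contra hE
  have hd2 : d * d = 1 := ThreeTransO2.sq_eq_one hD hd
  have hdi : d⁻¹ = d := inv_eq_of_mul_eq_one_left hd2
  have hO3n : (Cfsg.pCore 3 G).Normal := Cfsg.Agent.Helper14.pCore_normal 3
  obtain ⟨g, hg, hne⟩ := exists_conj_ne hgen hconjd hnc hd
  set w := g * d * g⁻¹ with hw
  have hwD : w ∈ D := hconj g d hd
  set m := d * w with hm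
  have hmO : m ∈ Cfsg.pCore 3 G := by
    have h1 : m = (d * g * d⁻¹) * g⁻¹ := by rw [hm, hw, hdi]; group
    rw [h1]
    exact mul_mem (hO3n.conj_mem g hg d) (inv_mem hg)
  have hm1 : m ≠ 1 := by
    intro h
    apply hne
    have : w = d⁻¹ := by
      rw [hm] at h
      exact (inv_eq_of_mul_eq_one_right h).symm
    rw [this, hdi]
  have hm2 : m ^ 2 ≠ 1 := fun h => hm1 (ThreeTransO3.eq_one_of_sq_of_mem_pCore_three hmO h)
  have hm3 : m ^ 3 = 1 := by
    rcases hD.2 d hd w hwD with h | h
    · exact absurd h hm2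
    · exact h
  have hnc' := not_commute_layer hgen hconjd hE hd
  obtain ⟨⟨x, hx, hxne, hxc⟩, -⟩ := exists_conj_of_not_commute hD hconj hd
    Cfsg.Agent.Helper7.layer_commutator_eq layer_hK' hnc'
  set f := x * d * x⁻¹ with hf
  have hfD : f ∈ D := hconj x d hd
  have hf2 : f * f = 1 := ThreeTransO2.sq_eq_one hD hfD
  set u := d * f with hu
  have huE : u ∈ Cfsg.layer G := commSub_le hd2 (mem_commSub hx)
  have hu2 : u ^ 2 = 1 := by
    rw [pow_two, hu]
    calc d * f * (d * f) = d * (f * d) * f := by simp only [mul_assoc]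
      _ = d * (d * f) * f := by rw [hxc.eq]
      _ = (d * d) * (f * f) := by simp only [mul_assoc]
      _ = 1 := by rw [hd2, hf2, one_mul]
  have hu1 : u ≠ 1 := by
    intro h
    apply hxne
    have : f = d⁻¹ := by
      rw [hu] at h
      exact (inv_eq_of_mul_eq_one_right h).symm
    rw [this, hdi]
  have hmx : Commute m x := commute_pCore_layer 3 hmO hx
  have hmu : Commute m u := commute_pCore_layer 3 hmO huE
  set w' := x * w * x⁻¹ with hw'
  have hw'D : w' ∈ D := hconj x w hwD
  have hdw' : d * w' = u * m := by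
    have h1 : w = d * m := by rw [hm, ← mul_assoc, hd2, one_mul]
    have h2 : x * m * x⁻¹ = m := by
      rw [← hmx.eq, mul_assoc, mul_inv_cancel, mul_one]
    calc d * w' = d * (x * (d * m) * x⁻¹) := by rw [hw', ← h1]
      _ = (d * (x * d * x⁻¹)) * (x * m * x⁻¹) := by group
      _ = u * m := by rw [h2]
  rcases hD.2 d hd w' hw'D with h | h
  · rw [hdw', hmu.symm.mul_pow, hu2, one_mul] at h
    exact hm2 h
  · rw [hdw', hmu.symm.mul_pow, hm3, mul_one] at h
    have : u ^ 3 = u := by
      rw [pow_succ, hu2, one_mul]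
    rw [this] at h
    exact hu1 h

include hgen hconjd in
/-- If all the `p`-cores are central then the layer is non-trivial. -/
theorem layer_ne_bot (hD2 : ∃ a ∈ D, ∃ b ∈ D, a ≠ b)
    (hall : ∀ p : ℕ, p.Prime → Cfsg.pCore p G ≤ center G) : Cfsg.layer G ≠ ⊥ := by
  intro hE
  have hF : Cfsg.fittingSubgroup G ≤ center G := by
    rw [Cfsg.Agent.Helper7.fittingSubgroup_eq_pCoreSup, Cfsg.Agent.Helper7.pCoreSup_le_iff]
    exact hall
  have hFs : Cfsg.generalizedFittingSubgroup G ≤ center G := by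
    unfold Cfsg.generalizedFittingSubgroup
    rw [hE, bot_sup_eq]
    exact hF
  have h1 : centralizer (Cfsg.generalizedFittingSubgroup G : Set G) = ⊤ := by
    rw [centralizer_eq_top_iff_subset]
    exact hFs
  have h2 := Cfsg.Agent.Helper7.centralizer_generalizedFitting_le (G := G)
  rw [h1] at h2
  have h3 : (⊤ : Subgroup G) ≤ center G := h2.trans hFs
  obtain ⟨a, ha, b, hb, hab⟩ := hD2
  obtain ⟨g, rfl⟩ := hconjd a ha b hb
  apply hab
  have : a ∈ center G := h3 (mem_top a)
  rw [mem_center_iff] at this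
  rw [this g, mul_assoc, mul_inv_cancel, mul_one]

end

end Cfsg.Agent.Helper4.ThreeTransFStar
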