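import Mathlib
import Cfsg.Prelude.Def_FischerSpaces
import Cfsg.Prelude.Def_Local
import Cfsg.Agent.Helper4.ThreeTransFStarC
import Cfsg.Agent.Helper7.Components
import Cfsg.Agent.Helper24.Burnside

set_option autoImplicit false
set_option linter.style.haveILetI false
set_option linter.unusedSectionVars false
set_option linter.unusedVariables false

/-!
# 3-transposition groups with central `O₂` and `O₃`: the layer is quasisimple
-/

namespace Cfsg.Agent.Helper4.ThreeTransFStar

open Subgroup
open scoped commutatorElement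

section Exponent

universe u

/-- A natural number whose prime divisors are among 2 and 3 is `2 ^ a * 3 ^ b`. -/
theorem eq_two_pow_mul_three_pow {n : ℕ} (hn : n ≠ 0)
    (h : ∀ p : ℕ, p.Prime → p ∣ n → p = 2 ∨ p = 3) : ∃ a b : ℕ, n = 2 ^ a * 3 ^ b := by
  obtain ⟨a, m, hm2, rfl⟩ := Nat.exists_eq_two_pow_mul_odd hn
  have hm0 : m ≠ 0 := by
    rintro rfl
    simp at hn
  obtain ⟨b, m', hm3, rfl⟩ := Nat.exists_eq_pow_mul_and_not_dvd hm0 3 (by norm_num)
  refine ⟨a, b, ?_⟩
  have hm1 : m' = 1 := by
    by_contra hne
    obtain ⟨p, hp, hpd⟩ := Nat.exists_prime_and_dvd hne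
    have hpn : p ∣ 2 ^ a * (3 ^ b * m') :=
      Dvd.dvd.mul_left (Dvd.dvd.mul_left hpd _) _
    rcases h p hp hpn with rfl | rfl
    · have : ¬ 2 ∣ 3 ^ b * m' := by
        rw [← Nat.not_even_iff_odd] at hm2
        rwa [even_iff_two_dvd] at hm2
      exact this (Dvd.dvd.mul_left hpd _)
    · exact hm3 hpd
  rw [hm1, mul_one]

/-- A finite group all of whose elements square or cube to the identity is solvable (Burnside). -/
theorem isSolvable_of_sq_or_cube {S : Type u} [Group S] [Finite S]
    (h : ∀ s : S, s ^ 2 = 1 ∨ s ^ 3 = 1) : Group.IsSolvable S := by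
  have hcard : ∃ a b : ℕ, Nat.card S = 2 ^ a * 3 ^ b := by
    apply eq_two_pow_mul_three_pow Nat.card_pos.ne'
    intro p hp hpd
    haveI : Fact p.Prime := ⟨hp⟩
    obtain ⟨s, hs⟩ := exists_prime_orderOf_dvd_card' p hpd
    rcases h s with h2 | h3
    · left
      have := orderOf_dvd_of_pow_eq_one h2
      rw [hs] at this
      exact (Nat.prime_dvd_prime_iff_eq hp Nat.prime_two).mp this
    · right
      have := orderOf_dvd_of_pow_eq_one h3
      rw [hs] at this
      exact (Nat.prime_dvd_prime_iff_eq hp Nat.prime_three).mp this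
  obtain ⟨a, b, hab⟩ := hcard
  exact Cfsg.Agent.Helper24.isSolvable_of_card_eq_prime_pow_mul 2 3 a b Nat.prime_two
    Nat.prime_three hab

end Exponent

section

variable {G : Type*} [Group G]

theorem commute_of_sq {a b : G} (ha : a * a = 1) (hb : b * b = 1) (h : (a * b) ^ 2 = 1) :
    Commute a b := by
  have hai : a⁻¹ = a := inv_eq_of_mul_eq_one_left ha
  have hbi : b⁻¹ = b := inv_eq_of_mul_eq_one_left hb
  have h1 : a * b = (a * b)⁻¹ := by
    rw [pow_two] at h
    exact (inv_eq_of_mul_eq_one_left h).symm
  rw [mul_inv_rev, hai, hbi] at h1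
  exact h1

theorem mem_normalizer_of_map_conj_eq {L : Subgroup G} {d : G}
    (h : L.map (MulAut.conj d).toMonoidHom = L) : d ∈ normalizer (L : Set G) := by
  rw [mem_normalizer_iff]
  intro x
  constructor
  · intro hx
    rw [← h]
    exact ⟨x, hx, rfl⟩
  · intro hx
    rw [← h] at hx
    obtain ⟨l, hl, hlx⟩ := hx
    have : l = x := by
      have h1 : d * l * d⁻¹ = d * x * d⁻¹ := hlx
      have h2 : d * l = d * x := mul_right_cancel h1
      exact mul_left_cancel h2
    rwa [← this]

end

section

variable {G : Type*} [Group G] [Finite G] {D : Set G}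
variable (hD : Cfsg.IsThreeTranspositionSet D) (hconj : ∀ g : G, ∀ x ∈ D, g * x * g⁻¹ ∈ D)
  (hgen : Subgroup.closure D = ⊤) (hconjd : ∀ d ∈ D, ∀ e ∈ D, ∃ g : G, g * d * g⁻¹ = e)

include hD hconj in
/-- Every 3-transposition normalizes every component. -/
theorem mem_normalizer_component {L : Subgroup G} (hL : Cfsg.IsComponent L) {d : G}
    (hd : d ∈ D) : d ∈ normalizer (L : Set G) := by
  by_contra hcon
  have hd2 : d * d = 1 := ThreeTransO2.sq_eq_one hD hd
  have hdi : d⁻¹ = d := inv_eq_of_mul_eq_one_left hd2
  set M := L.map (MulAut.conj d).toMonoidHom with hM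
  have hMc : Cfsg.IsComponent M := Cfsg.Agent.Helper7.isComponent_map_conj hL d
  have hne : L ≠ M := fun h => hcon (mem_normalizer_of_map_conj_eq h.symm)
  have hcomm := Cfsg.Agent.Helper7.components_commute hL hMc hne
  rw [Cfsg.Agent.Helper7.commutator_eq_bot_iff_forall_commute] at hcomm
  -- every element of `L` squares or cubes into the centre
  have key : ∀ x : L, x ^ 2 ∈ center L ∨ x ^ 3 ∈ center L := by
    intro x
    have hy : d * (x : G) * d⁻¹ ∈ M := ⟨x, x.2, rfl⟩
    set y := d * (x : G) * d⁻¹ with hy'
    have hxy : Commute (x : G) y := hcomm x x.2 y hy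
    have hz : d * ((x : G) * d * (x : G)⁻¹) = y * (x : G)⁻¹ := by
      rw [hy']
      conv_lhs => rw [← hdi]
      rw [hdi]
      group
    have hyx : Commute y (x : G)⁻¹ := hxy.symm.inv_right
    have hpow : ∀ k : ℕ, (d * ((x : G) * d * (x : G)⁻¹)) ^ k = 1 → x ^ k ∈ center L := by
      intro k hk
      rw [hz, hyx.mul_pow, inv_pow] at hk
      have h1 : y ^ k = (x : G) ^ k := by
        rw [mul_inv_eq_one] at hk
        exact hk
      have h2 : (x : G) ^ k ∈ M := by
        rw [← h1]
        exact pow_mem hy k
      rw [mem_center_iff]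
      intro l
      apply Subtype.ext
      have := hcomm l l.2 _ h2
      simpa using this
    rcases hD.2 d hd _ (hconj (x : G) d hd) with h | h
    · exact Or.inl (hpow 2 h)
    · exact Or.inr (hpow 3 h)
  have hsol : Group.IsSolvable (L ⧸ center L) := by
    apply isSolvable_of_sq_or_cube
    intro s
    induction s using QuotientGroup.induction_on with
    | H x =>
      rcases key x with h | h
      · left
        rw [← QuotientGroup.mk_pow, QuotientGroup.eq_one_iff]
        exact h
      · right
        rw [← QuotientGroup.mk_pow, QuotientGroup.eq_one_iff]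
        exact h
  have hsolL : Group.IsSolvable L := by
    haveI := hsol
    haveI : Group.IsSolvable (center L) :=
      Group.isSolvable_of_comm (fun a b => Subtype.ext ((mem_center_iff.mp a.2) b.1).symm)
    exact Group.isSolvable_of_ker_le_range (center L).subtype (QuotientGroup.mk' (center L))
      (by rw [QuotientGroup.ker_mk', range_subtype])
  exact Cfsg.Agent.Helper7.IsQuasisimple.not_isSolvable hL.2 hsolL

include hD hconj hgen in
theorem component_normal {L : Subgroup G} (hL : Cfsg.IsComponent L) : L.Normal := by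
  have h1 : D ⊆ (normalizer (L : Set G) : Set G) :=
    fun d hd => mem_normalizer_component hD hconj hL hd
  have h2 : closure D ≤ normalizer (L : Set G) := (closure_le _).mpr h1
  rw [hgen, top_le_iff] at h2
  exact normalizer_eq_top_iff.mp h2

/-- Normal 2- and 3-subgroups of a component are central in it. -/
theorem component_hK {L : Subgroup G} (hL : Cfsg.IsComponent L) (N : Subgroup G) (hle : N ≤ L)
    (hnorm : L ≤ normalizer (N : Set G)) (hp : IsPGroup 2 N ∨ IsPGroup 3 N) :
    N ≤ centralizer (L : Set G) := by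
  haveI : Fact (Nat.Prime 2) := ⟨Nat.prime_two⟩
  haveI : Fact (Nat.Prime 3) := ⟨Nat.prime_three⟩
  have hsub : N.IsSubnormal := by
    refine IsSubnormal.step N L hle hL.1 ?_
    rw [normal_subgroupOf_iff_le_normalizer hle]
    exact hnorm
  have h3 : Cfsg.fittingSubgroup G ≤ centralizer (L : Set G) := by
    rw [← commutator_eq_bot_iff_le_centralizer, commutator_comm]
    exact Cfsg.Agent.Helper7.component_commutator_fitting hL
  rcases hp with hp | hp
  · exact (Cfsg.Agent.Helper7.subnormal_pGroup_le_pCore hsub hp).trans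
      ((Cfsg.Agent.Helper7.pCore_le_fittingSubgroup 2).trans h3)
  · exact (Cfsg.Agent.Helper7.subnormal_pGroup_le_pCore hsub hp).trans
      ((Cfsg.Agent.Helper7.pCore_le_fittingSubgroup 3).trans h3)

include hgen hconjd in
theorem not_commute_component {L : Subgroup G} (hL : Cfsg.IsComponent L) [hLn : L.Normal]
    {d : G} (hd : d ∈ D) : ¬ ∀ y ∈ L, Commute d y := by
  intro h
  have h1 : L ≤ center G := le_center_of_commute hgen hconjd hd h
  have h2 : ⁅L, L⁆ = ⊥ := by
    rw [commutator_eq_bot_iff_le_centralizer]
    exact h1.trans (center_le_centralizer _)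
  rw [Cfsg.Agent.Helper7.IsComponent.commutator_eq hL] at h2
  exact Cfsg.Agent.Helper7.IsComponent.ne_bot hL h2

include hD hconj hgen hconjd in
/-- There is at most one component. -/
theorem component_unique {L L' : Subgroup G} (hL : Cfsg.IsComponent L)
    (hL' : Cfsg.IsComponent L') {d : G} (hd : d ∈ D) : L = L' := by
  by_contra hne
  have hd2 : d * d = 1 := ThreeTransO2.sq_eq_one hD hd
  have hdi : d⁻¹ = d := inv_eq_of_mul_eq_one_left hd2
  haveI hLn : L.Normal := component_normal hD hconj hgen hL
  haveI hLn' : L'.Normal := component_normal hD hconj hgen hL'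
  have hcomm := Cfsg.Agent.Helper7.components_commute hL hL' hne
  rw [Cfsg.Agent.Helper7.commutator_eq_bot_iff_forall_commute] at hcomm
  obtain ⟨⟨x, hx, hxne, hxc⟩, -⟩ := exists_conj_of_not_commute hD hconj hd
    (Cfsg.Agent.Helper7.IsComponent.commutator_eq hL) (component_hK hL)
    (not_commute_component hgen hconjd hL hd)
  obtain ⟨-, ⟨y, hy, hyc⟩⟩ := exists_conj_of_not_commute hD hconj hd
    (Cfsg.Agent.Helper7.IsComponent.commutator_eq hL') (component_hK hL')
    (not_commute_component hgen hconjd hL' hd)
  set f := x * d * x⁻¹ with hf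
  set f' := y * d * y⁻¹ with hf'
  have hfD : f ∈ D := hconj x d hd
  have hfD' : f' ∈ D := hconj y d hd
  have hf2 : f * f = 1 := ThreeTransO2.sq_eq_one hD hfD
  have hf2' : f' * f' = 1 := ThreeTransO2.sq_eq_one hD hfD'
  set u := d * f with hu
  set v := d * f' with hv
  have huL : u ∈ L := commSub_le hd2 (mem_commSub hx)
  have hvL : v ∈ L' := commSub_le hd2 (mem_commSub hy)
  have huv : Commute u v := hcomm u huL v hvL
  have hu2 : u ^ 2 = 1 := by
    rw [pow_two, hu]
    calc d * f * (d * f) = d * (f * d) * f := by simp only [mul_assoc]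
      _ = d * (d * f) * f := by rw [hxc.eq]
      _ = (d * d) * (f * f) := by simp only [mul_assoc]
      _ = 1 := by rw [hd2, hf2, one_mul]
  have hu1 : u ≠ 1 := by
    intro h
    apply hxne
    have : f = d⁻¹ := by
      rw [hu] at h
      exact (inv_eq_of_mul_eq_one_right h).symm
    rw [this, hdi]
  have hv2 : v ^ 2 ≠ 1 := fun h => hyc (commute_of_sq hd2 hf2' h)
  have hv3 : v ^ 3 = 1 := by
    rcases hD.2 d hd f' hfD' with h | h
    · exact absurd h hv2
    · exact h
  have hff' : f * f' = u * v := by
    have h1 : f = u * d := by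
      rw [hu, hxc.eq, mul_assoc, hd2, mul_one]
    have h2 : f' = d * v := by rw [hv, ← mul_assoc, hd2, one_mul]
    rw [h1, h2]
    calc u * d * (d * v) = u * (d * d) * v := by simp only [mul_assoc]
      _ = u * v := by rw [hd2, mul_one]
  rcases hD.2 f hfD f' hfD' with h | h
  · rw [hff', huv.mul_pow, hu2, one_mul] at h
    exact hv2 h
  · rw [hff', huv.mul_pow, hv3, mul_one] at h
    have : u ^ 3 = u := by rw [pow_succ, hu2, one_mul]
    rw [this] at h
    exact hu1 h

include hD hconj hgen hconjd in
theorem layer_eq_component {L : Subgroup G} (hL : Cfsg.IsComponent L) {d : G} (hd : d ∈ D) :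
    Cfsg.layer G = L := by
  apply le_antisymm
  · rw [Cfsg.Agent.Helper7.layer_le_iff]
    intro K hK
    rw [component_unique hD hconj hgen hconjd hK hL hd]
  · exact Cfsg.Agent.Helper7.IsComponent.le_layer hL

include hD hconj hgen hconjd in
/-- Two different commuting 3-transpositions have their product in the component. -/
theorem mul_mem_component {L : Subgroup G} (hL : Cfsg.IsComponent L) [hLn : L.Normal]
    {a b : G} (ha : a ∈ D) (hb : b ∈ D) (hab : Commute a b) : a * b ∈ L := by
  by_contra hnot
  have ha2 : a * a = 1 := ThreeTransO2.sq_eq_one hD ha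
  have hb2 : b * b = 1 := ThreeTransO2.sq_eq_one hD hb
  have hab2 : (a * b) ^ 2 = 1 := by
    rw [hab.mul_pow, pow_two, pow_two, ha2, hb2, one_mul]
  have hab3 : (a * b) ^ 3 = a * b := by rw [pow_succ, hab2, one_mul]
  -- `a` commutes with all `L`-conjugates of `b`
  have h1 : ∀ x ∈ L, Commute a (x * b * x⁻¹) := by
    intro x hx
    have hb' : x * b * x⁻¹ ∈ D := hconj x b hb
    have hb2' := ThreeTransO2.sq_eq_one hD hb'
    rcases hD.2 a ha _ hb' with h | h
    · exact commute_of_sq ha2 hb2' h
    · exfalso
      apply hnot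
      have hπ : (QuotientGroup.mk' L) (a * (x * b * x⁻¹)) = (QuotientGroup.mk' L) (a * b) := by
        have hx1 : (QuotientGroup.mk' L) x = 1 := by
          rw [← MonoidHom.mem_ker, QuotientGroup.ker_mk']; exact hx
        simp only [map_mul, map_inv, hx1, one_mul, inv_one, mul_one]
      have h3 : (QuotientGroup.mk' L) (a * b) = 1 := by
        have h4 := congrArg (QuotientGroup.mk' L) h
        rw [map_pow, hπ, ← map_pow, hab3, map_one] at h4
        exact h4
      rw [← MonoidHom.mem_ker, QuotientGroup.ker_mk'] at h3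
      exact h3
  have h2 : commSub b L ≤ centralizer ({a} : Set G) := by
    unfold commSub
    rw [closure_le]
    rintro _ ⟨x, hx, rfl⟩
    rw [SetLike.mem_coe, mem_centralizer_iff]
    intro y hy
    rw [Set.mem_singleton_iff] at hy
    subst hy
    exact (hab.mul_right (h1 x hx)).eq
  have h3 : commSub b L ≤ L := commSub_le hb2
  have h4 : L ≤ normalizer (commSub b L : Set G) := le_normalizer_commSub hb2
  haveI : ((commSub b L).subgroupOf L).Normal := by
    rw [normal_subgroupOf_iff_le_normalizer h3]
    exact h4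
  rcases Cfsg.Agent.Helper7.IsQuasisimple.normal_eq_top_or_le_center hL.2
    ((commSub b L).subgroupOf L) with h | h
  · -- `a` centralizes `L`
    apply not_commute_component hgen hconjd hL ha
    intro y hy
    have h5 : (⟨y, hy⟩ : L) ∈ (commSub b L).subgroupOf L := by rw [h]; trivial
    rw [mem_subgroupOf] at h5
    have h6 := h2 h5
    rw [mem_centralizer_iff] at h6
    exact h6 a rfl
  · -- `b` centralizes `L`
    apply not_commute_component hgen hconjd hL hb
    apply commute_of_commSub_le_centralizer hb2
      (Cfsg.Agent.Helper7.IsComponent.commutator_eq hL)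
    intro n hn
    rw [mem_centralizer_iff]
    intro l hl
    have h5 : (⟨n, h3 hn⟩ : L) ∈ center L := h (by rw [mem_subgroupOf]; exact hn)
    rw [mem_center_iff] at h5
    have := h5 ⟨l, hl⟩
    exact congrArg Subtype.val this

end

end Cfsg.Agent.Helper4.ThreeTransFStar
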