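import Mathlib
import Cfsg.Prelude.Def_FischerSpaces
import Cfsg.Prelude.Def_Local
import Cfsg.Agent.Helper4.ThreeTransFStarD
import Cfsg.Agent.Helper7.FStar

set_option autoImplicit false
set_option linter.style.haveILetI false
set_option linter.unusedSectionVars false
set_option linter.unusedVariables false

/-!
# Blocks of imprimitivity of a class of 3-transpositions
-/

namespace Cfsg.Agent.Helper4.ThreeTransPrim

open Subgroup

section Blocks

variable {G : Type*} [Group G]

/-- Conjugation by `g`. -/
def cj (g : G) : G → G := fun x => g * x * g⁻¹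

theorem cj_apply (g x : G) : cj g x = g * x * g⁻¹ := rfl

theorem cj_image_mul (g h : G) (B : Set G) : cj g '' (cj h '' B) = cj (g * h) '' B := by
  rw [Set.image_image]
  apply Set.image_congr
  intro x _
  simp only [cj_apply, mul_inv_rev, mul_assoc]

theorem cj_one_image (B : Set G) : cj (1 : G) '' B = B := by
  have : cj (1 : G) = id := by
    funext x
    simp [cj_apply]
  rw [this, Set.image_id]

theorem cj_injective (g : G) : Function.Injective (cj g) := by
  intro x y h
  simp only [cj_apply] at h
  exact mul_left_cancel (mul_right_cancel h)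

/-- The setwise stabilizer of `B` under conjugation. -/
def stab (B : Set G) : Subgroup G where
  carrier := {g | cj g '' B = B}
  one_mem' := cj_one_image B
  mul_mem' := by
    intro g h hg hh
    show cj (g * h) '' B = B
    have hg' : cj g '' B = B := hg
    have hh' : cj h '' B = B := hh
    rw [← cj_image_mul, hh', hg']
  inv_mem' := by
    intro g hg
    show cj g⁻¹ '' B = B
    have hg' : cj g '' B = B := hg
    have : cj g⁻¹ '' (cj g '' B) = B := by rw [cj_image_mul, inv_mul_cancel, cj_one_image]
    rw [hg'] at this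
    exact this

theorem mem_stab {B : Set G} {g : G} : g ∈ stab B ↔ cj g '' B = B := Iff.rfl

/-- Translates of a block are equal or disjoint. -/
theorem translate_eq_or_disjoint {B : Set G}
    (hB : ∀ g : G, cj g '' B = B ∨ Disjoint (cj g '' B) B) (g h : G) :
    cj g '' B = cj h '' B ∨ Disjoint (cj g '' B) (cj h '' B) := by
  have e : cj g '' B = cj h '' (cj (h⁻¹ * g) '' B) := by
    rw [cj_image_mul, mul_inv_cancel_left]
  rcases hB (h⁻¹ * g) with h1 | h1
  · left
    rw [e, h1]
  · right
    rw [e]
    exact (Set.disjoint_image_iff (cj_injective h)).mpr h1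

variable {D : Set G} (hD : Cfsg.IsThreeTranspositionSet D)
  (hconj : ∀ g : G, ∀ x ∈ D, g * x * g⁻¹ ∈ D)

include hD hconj in
/-- The product of two members of a block fixes every translate of the block. -/
theorem mul_fixes_translate {B : Set G} (hBD : B ⊆ D)
    (hB : ∀ g : G, cj g '' B = B ∨ Disjoint (cj g '' B) B) {a b : G} (ha : a ∈ B) (hb : b ∈ B)
    (g : G) : cj (a * b) '' (cj g '' B) = cj g '' B := by
  have F3 := translate_eq_or_disjoint hB
  -- members of the block fix it
  have F1 : ∀ x ∈ B, cj x '' B = B := by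
    intro x hx
    rcases hB x with h | h
    · exact h
    · exfalso
      have h1 : x ∈ cj x '' B := ⟨x, hx, by simp [cj_apply]⟩
      exact Set.disjoint_left.mp h h1 hx
  have hsq : ∀ x ∈ B, x * x = 1 := fun x hx => ThreeTransO2.sq_eq_one hD (hBD hx)
  obtain ⟨B', hB'⟩ : ∃ B', B' = cj g '' B := ⟨_, rfl⟩
  rw [← hB']
  have hB'blk : ∀ h : G, cj h '' B' = B' ∨ Disjoint (cj h '' B') B' := by
    intro h
    have := F3 (h * g) g
    rw [← cj_image_mul, ← hB'] at this
    exact this
  have hB'D : B' ⊆ D := by
    rw [hB']
    rintro _ ⟨x, hx, rfl⟩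
    exact hconj g x (hBD hx)
  have htr : ∀ x h : G, cj x '' B' = cj h '' B ∨ Disjoint (cj x '' B') (cj h '' B) := by
    intro x h
    have := F3 (x * g) h
    rw [← cj_image_mul, ← hB'] at this
    exact this
  rcases F3 g 1 with heq | hdisj
  · rw [cj_one_image, ← hB'] at heq
    rw [heq, ← cj_image_mul, F1 b hb, F1 a ha]
  · rw [cj_one_image, ← hB'] at hdisj
    have hne : B'.Nonempty := by
      rw [hB']
      exact ⟨cj g a, a, ha, rfl⟩
    obtain ⟨e, he⟩ := hne
    have heD : e ∈ D := hB'D he
    have S1 : ∀ x ∈ B, Commute x e → cj x '' B' = B' := by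
      intro x hx hc
      rcases hB'blk x with h | h
      · exact h
      · exfalso
        have h1 : e ∈ cj x '' B' := by
          refine ⟨e, he, ?_⟩
          rw [cj_apply, hc.eq, mul_inv_cancel_right]
        exact Set.disjoint_left.mp h h1 he
    have S2 : ∀ x ∈ B, ¬ Commute x e → cj x '' B' = cj e '' B := by
      intro x hx hc
      obtain ⟨hx2, he2, hbr⟩ := Cfsg.Agent.S5344.braid_of_not_commute hD (hBD hx) heD hc
      have hxi : x⁻¹ = x := inv_eq_of_mul_eq_one_left hx2
      have hei : e⁻¹ = e := inv_eq_of_mul_eq_one_left he2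
      rcases htr x e with h | h
      · exact h
      · exfalso
        have h1 : cj x e ∈ cj x '' B' := ⟨e, he, rfl⟩
        have h2 : cj x e ∈ cj e '' B := by
          refine ⟨x, hx, ?_⟩
          rw [cj_apply, cj_apply, hxi, hei, hbr]
        exact Set.disjoint_left.mp h h1 h2
    -- if a member of `B` commutes with `e` then `cj e` fixes `B`
    have S3 : ∀ x ∈ B, Commute x e → cj e '' B = B := by
      intro x hx hc
      rcases hB e with h | h
      · exact h
      · exfalso
        have h1 : x ∈ cj e '' B := by
          refine ⟨x, hx, ?_⟩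
          rw [cj_apply, ← hc.eq, mul_inv_cancel_right]
        exact Set.disjoint_left.mp h h1 hx
    -- mixed case is impossible
    have S4 : ∀ x ∈ B, ∀ y ∈ B, Commute x e → ¬ Commute y e → False := by
      intro x hx y hy hcx hcy
      have h1 : cj y '' B' = B := by rw [S2 y hy hcy, S3 x hx hcx]
      have h2 : cj y '' (cj y '' B') = B' := by
        rw [cj_image_mul, hsq y hy, cj_one_image]
      rw [h1, F1 y hy] at h2
      rw [← h2] at hdisj
      exact Set.disjoint_left.mp hdisj hx hx
    rw [← cj_image_mul]
    by_cases hca : Commute a e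
    · by_cases hcb : Commute b e
      · rw [S1 b hb hcb, S1 a ha hca]
      · exact (S4 a ha b hb hca hcb).elim
    · by_cases hcb : Commute b e
      · exact (S4 b hb a ha hcb hca).elim
      · rw [S2 b hb hcb, ← S2 a ha hca, cj_image_mul, hsq a ha, cj_one_image]

include hD hconj in
/-- Every conjugate of `a * b` (`a, b` in the block) stabilizes the block. -/
theorem normalClosure_le_stab {B : Set G} (hBD : B ⊆ D)
    (hB : ∀ g : G, cj g '' B = B ∨ Disjoint (cj g '' B) B) {a b : G} (ha : a ∈ B) (hb : b ∈ B) :
    normalClosure ({a * b} : Set G) ≤ stab B := by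
  unfold normalClosure
  rw [closure_le]
  intro x hx
  rw [Group.mem_conjugatesOfSet_iff] at hx
  obtain ⟨y, hy, hyx⟩ := hx
  rw [Set.mem_singleton_iff] at hy
  subst hy
  obtain ⟨g, rfl⟩ := isConj_iff.mp hyx
  rw [SetLike.mem_coe, mem_stab]
  have h1 := mul_fixes_translate hD hconj hBD hB ha hb g⁻¹
  have h2 : cj (g * (a * b) * g⁻¹) '' B = cj g '' (cj (a * b) '' (cj g⁻¹ '' B)) := by
    rw [cj_image_mul, cj_image_mul, mul_assoc]
  rw [h2, h1, cj_image_mul, mul_inv_cancel, cj_one_image]

end Blocks

end Cfsg.Agent.Helper4.ThreeTransPrim
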