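import Mathlib
import Cfsg.Prelude.Def_FischerSpaces
import Cfsg.Prelude.Def_Local
import Cfsg.Agent.Helper4.ThreeTransPrimA

set_option autoImplicit false
set_option linter.style.haveILetI false
set_option linter.unusedSectionVars false
set_option linter.unusedVariables false

/-!
# Normal subgroups of a group with `F*(G) = L Z(G)`, `L` quasisimple and `F(G) = Z(G)`
-/

namespace Cfsg.Agent.Helper4.ThreeTransPrim

open Subgroup

section Normal

universe u

variable {G : Type u} [Group G] [Finite G]

/-- If `F*(G) = L Z(G)` with `L` quasisimple normal and `F(G) = Z(G)`, then the centralizer of `L`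
is the centre. -/
theorem centralizer_le_center {L : Subgroup G} [hLn : L.Normal]
    (hF : Cfsg.generalizedFittingSubgroup G = L ⊔ center G)
    (hFit : Cfsg.fittingSubgroup G = center G) : centralizer (L : Set G) ≤ center G := by
  obtain ⟨C, hC⟩ : ∃ C : Subgroup G, C = centralizer (L : Set G) := ⟨_, rfl⟩
  rw [← hC]
  haveI hCn : C.Normal := by rw [hC]; infer_instance
  have hCL : ∀ x ∈ C, ∀ y ∈ L, y * x = x * y := by
    intro x hx y hy
    rw [hC, mem_centralizer_iff] at hx
    exact hx y hy
  have h1 : C ≤ L ⊔ center G := by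
    rw [← hF]
    refine le_trans ?_ Cfsg.Agent.Helper7.centralizer_generalizedFitting_le
    rw [hF]
    intro x hx
    have h2 : L ⊔ center G ≤ centralizer ({x} : Set G) := by
      apply sup_le
      · intro y hy
        rw [mem_centralizer_iff]
        intro z hz
        rw [Set.mem_singleton_iff] at hz
        subst hz
        exact (hCL z hx y hy).symm
      · exact center_le_centralizer _
    rw [mem_centralizer_iff]
    intro y hy
    have h3 := h2 hy
    rw [mem_centralizer_iff] at h3
    exact (h3 x rfl).symm
  have hcomm : ∀ x ∈ C, ∀ y ∈ C, x * y = y * x := by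
    intro x hx y hy
    have hx' := h1 hx
    rw [Cfsg.Agent.Helper7.mem_sup_of_le_normalizer (by
      rw [normalizer_eq_top_iff.mpr hLn]; exact le_top)] at hx'
    obtain ⟨l, hl, z, hz, rfl⟩ := hx'
    rw [mem_center_iff] at hz
    have h2 := hCL y hy l hl
    calc l * z * y = l * (z * y) := mul_assoc _ _ _
      _ = l * (y * z) := by rw [hz y]
      _ = (l * y) * z := (mul_assoc _ _ _).symm
      _ = (y * l) * z := by rw [h2]
      _ = y * (l * z) := mul_assoc _ _ _
  have hnil : Group.IsNilpotent C := by
    letI : CommGroup C :=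
      { (inferInstance : Group C) with
        mul_comm := fun a b => Subtype.ext (hcomm a.1 a.2 b.1 b.2) }
    infer_instance
  rw [← hFit]
  exact Cfsg.Agent.Helper7.le_fittingSubgroup hCn hnil

/-- A normal subgroup that is not central contains `L`. -/
theorem le_of_normal_of_not_le_center {L : Subgroup G} [hLn : L.Normal]
    (hL : Cfsg.IsQuasisimple L)
    (hF : Cfsg.generalizedFittingSubgroup G = L ⊔ center G)
    (hFit : Cfsg.fittingSubgroup G = center G) {M : Subgroup G} [hM : M.Normal]
    (hnc : ¬ M ≤ center G) : L ≤ M := by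
  by_contra hLM
  apply hnc
  rcases Cfsg.Agent.Helper7.IsQuasisimple.normal_eq_top_or_le_center hL (M.subgroupOf L) with h | h
  · exact absurd (subgroupOf_eq_top.mp h) hLM
  · have h1 : ⁅⁅M, L⁆, L⁆ = ⊥ := by
      rw [commutator_eq_bot_iff_le_centralizer]
      intro x hx
      have hx' := commutator_le_inf M L hx
      rw [mem_inf] at hx'
      have h2 : (⟨x, hx'.2⟩ : L) ∈ M.subgroupOf L := by
        rw [mem_subgroupOf]; exact hx'.1
      have h3 := h h2
      rw [mem_center_iff] at h3
      rw [mem_centralizer_iff]
      intro y hy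
      have := h3 ⟨y, hy⟩
      exact congrArg Subtype.val this
    have hperf : ⁅L, L⁆ = L := Subgroup.isPerfect_iff.1 hL.1
    have h2 : ⁅L, M⁆ = ⊥ := Cfsg.Agent.Helper7.commutator_eq_bot_of_perfect hperf h1
    rw [commutator_comm, commutator_eq_bot_iff_le_centralizer] at h2
    exact h2.trans (centralizer_le_center hF hFit)

end Normal

section NotCentral

variable {G : Type*} [Group G] [Finite G] {D : Set G}
variable (hD : Cfsg.IsThreeTranspositionSet D)
  (hgen : Subgroup.closure D = ⊤) (hconjd : ∀ d ∈ D, ∀ e ∈ D, ∃ g : G, g * d * g⁻¹ = e)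

include hD hgen hconjd in
/-- The product of two different members of `D` is not central. -/
theorem mul_not_mem_center (hD2 : ∃ a ∈ D, ∃ b ∈ D, a ≠ b) {a b : G} (ha : a ∈ D) (hb : b ∈ D)
    (hne : a ≠ b) : a * b ∉ center G := by
  intro hz
  rw [mem_center_iff] at hz
  have ha2 := ThreeTransO2.sq_eq_one hD ha
  have hb2 := ThreeTransO2.sq_eq_one hD hb
  obtain ⟨c, hc, hac⟩ := ThreeTransO2.exists_not_commute hgen hconjd hD2 ha
  have hc2 := ThreeTransO2.sq_eq_one hD hc
  have h3 : (a * c) ^ 3 = 1 := ThreeTransO3.cube_of_not_commute hD ha hc hac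
  -- `a` and `b` commute
  have hab : a * b = b * a := by
    have h1 := hz a
    -- a * (a * b) = a * b * a
    calc a * b = a * ((a * (a * b))) := by rw [← mul_assoc a a b, ha2, one_mul]
      _ = a * (a * b * a) := by rw [h1]
      _ = (a * a) * b * a := by simp only [mul_assoc]
      _ = b * a := by rw [ha2, one_mul]
  have hz2 : (a * b) * (a * b) = 1 := by
    calc (a * b) * (a * b) = a * (b * a) * b := by simp only [mul_assoc]
      _ = a * (a * b) * b := by rw [hab]
      _ = (a * a) * (b * b) := by simp only [mul_assoc]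
      _ = 1 := by rw [ha2, hb2, one_mul]
  have hbc : b * c = (a * b) * (a * c) := by
    calc b * c = (a * a) * b * c := by rw [ha2, one_mul]
      _ = a * (a * b) * c := by simp only [mul_assoc]
      _ = (a * b) * a * c := by rw [hz a]
      _ = (a * b) * (a * c) := by simp only [mul_assoc]
  have hcomm : Commute (a * b) (a * c) := (hz (a * c)).symm
  rcases hD.2 b hb c hc with h | h
  · rw [hbc, hcomm.mul_pow, pow_two (a * b), hz2, one_mul] at h
    -- (a c)^2 = 1 and (a c)^3 = 1
    have h1 : a * c = 1 := by
      rw [pow_succ, h, one_mul] at h3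
      exact h3
    apply hac
    have : c = a := by
      calc c = (a * a) * c := by rw [ha2, one_mul]
        _ = a * (a * c) := mul_assoc _ _ _
        _ = a := by rw [h1, mul_one]
    rw [this]
  · rw [hbc, hcomm.mul_pow, h3, mul_one] at h
    have h1 : (a * b) ^ 3 = a * b := by rw [pow_succ, pow_two, hz2, one_mul]
    rw [h1] at h
    apply hne
    have h5 : a = b⁻¹ := eq_inv_of_mul_eq_one_left h
    rw [h5]
    exact inv_eq_of_mul_eq_one_left hb2

end NotCentral

end Cfsg.Agent.Helper4.ThreeTransPrim
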