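import Mathlib
import Cfsg.Prelude.Def_FischerSpaces
import Cfsg.Prelude.Def_Local
import Cfsg.Agent.Helper4.ThreeTransPrimB
import Cfsg.Agent.S5349
import Cfsg.Agent.S5350

set_option autoImplicit false
set_option linter.style.haveILetI false
set_option linter.unusedSectionVars false
set_option linter.unusedVariables false

/-!
# Consequences of primitivity on a class of 3-transpositions
-/

namespace Cfsg.Agent.Helper4.ThreeTransPrim

open Subgroup

section EquivBlocks

variable {G : Type*} [Group G] {D : Set G}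
variable (hconj : ∀ g : G, ∀ x ∈ D, g * x * g⁻¹ ∈ D)

include hconj in
/-- Classes of a conjugation-invariant equivalence relation are blocks. -/
theorem block_of_invariant_rel (R : G → G → Prop) (hsymm : ∀ x y, R x y → R y x)
    (htrans : ∀ x y z, R x y → R y z → R x z)
    (hinv : ∀ g x y, R x y → R (g * x * g⁻¹) (g * y * g⁻¹)) (d : G) (g : G) :
    cj g '' {x | x ∈ D ∧ R d x} = {x | x ∈ D ∧ R d x} ∨
      Disjoint (cj g '' {x | x ∈ D ∧ R d x}) {x | x ∈ D ∧ R d x} := by
  by_cases hdis : Disjoint (cj g '' {x | x ∈ D ∧ R d x}) {x | x ∈ D ∧ R d x}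
  · exact Or.inr hdis
  left
  rw [Set.not_disjoint_iff] at hdis
  obtain ⟨y, ⟨x, ⟨hxD, hdx⟩, rfl⟩, ⟨hyD, hdy⟩⟩ := hdis
  rw [cj_apply] at hdy hyD
  have h1 : R d (g * d * g⁻¹) := htrans _ _ _ hdy (hsymm _ _ (hinv g d x hdx))
  apply Set.Subset.antisymm
  · rintro _ ⟨x', ⟨hx'D, hdx'⟩, rfl⟩
    exact ⟨hconj g x' hx'D, htrans _ _ _ h1 (hinv g d x' hdx')⟩
  · rintro z ⟨hzD, hdz⟩
    refine ⟨g⁻¹ * z * g, ⟨?_, ?_⟩, ?_⟩
    · have := hconj g⁻¹ z hzD
      rwa [inv_inv] at this
    · have h2 := hinv g⁻¹ d (g * d * g⁻¹) h1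
      have h3 := hinv g⁻¹ d z hdz
      rw [inv_inv] at h2 h3
      have e : g⁻¹ * (g * d * g⁻¹) * g = d := by group
      rw [e] at h2
      exact htrans _ _ _ (hsymm _ _ h2) h3
    · rw [cj_apply]; group

end EquivBlocks

section Prim

variable {G : Type*} [Group G] [Finite G] {D : Set G}

/-- A subgroup all of whose members centralize every member of a generating set is central. -/
theorem le_center_of_forall_conj (hgen : Subgroup.closure D = ⊤) {N : Subgroup G}
    (h : ∀ g ∈ N, ∀ d ∈ D, g * d * g⁻¹ = d) : N ≤ center G := by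
  intro g hg
  have h1 : closure D ≤ centralizer ({g} : Set G) := by
    rw [closure_le]
    intro d hd
    rw [SetLike.mem_coe, mem_centralizer_iff]
    intro y hy
    rw [Set.mem_singleton_iff] at hy
    subst hy
    have := h y hg d hd
    calc y * d = (y * d * y⁻¹) * y := by group
      _ = d * y := by rw [this]
  rw [hgen] at h1
  rw [mem_center_iff]
  intro x
  have := h1 (mem_top x)
  rw [mem_centralizer_iff] at this
  exact (this g rfl).symm

/-- Primitivity forces `O₂(G)` to be central. -/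
theorem pCore_two_le_center_of_primitive (hD : Cfsg.IsThreeTranspositionClass D)
    (hD2 : ∃ a ∈ D, ∃ b ∈ D, a ≠ b) (hprim : Cfsg.IsPrimitiveUnderConj D) :
    Cfsg.pCore 2 G ≤ center G := by
  have hDc := hD
  obtain ⟨hset, ⟨d₀, hd₀, hDeq⟩, hgen⟩ := hD
  have hmemD : ∀ x, x ∈ D ↔ IsConj d₀ x := fun x => by rw [hDeq]; rfl
  have hconj : ∀ g : G, ∀ x ∈ D, g * x * g⁻¹ ∈ D := by
    intro g x hx
    rw [hmemD] at hx ⊢
    exact hx.trans (isConj_iff.mpr ⟨g, rfl⟩)
  have hconjd : ∀ d ∈ D, ∀ e ∈ D, ∃ g : G, g * d * g⁻¹ = e := by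
    intro d hd e he
    rw [hmemD] at he hd
    exact isConj_iff.mp (hd.symm.trans he)
  apply le_center_of_forall_conj hgen
  intro g hg d hd
  obtain ⟨R, hR⟩ : ∃ R : G → G → Prop, R = fun x y => ∀ e ∈ D, Commute x e ↔ Commute y e :=
    ⟨_, rfl⟩
  have hsymm : ∀ x y, R x y → R y x := by
    intro x y h
    rw [hR] at h ⊢
    exact fun e he => (h e he).symm
  have htrans : ∀ x y z, R x y → R y z → R x z := by
    intro x y z h1 h2
    rw [hR] at h1 h2 ⊢
    exact fun e he => (h1 e he).trans (h2 e he)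
  have hinv : ∀ k x y, R x y → R (k * x * k⁻¹) (k * y * k⁻¹) := by
    intro k x y h
    rw [hR] at h ⊢
    intro e he
    rw [ThreeTransO2.commute_conj_iff, ThreeTransO2.commute_conj_iff]
    apply h
    have := hconj k⁻¹ e he
    rwa [inv_inv] at this
  have hblock := block_of_invariant_rel hconj R hsymm htrans hinv d
  have hBD : {x | x ∈ D ∧ R d x} ⊆ D := fun x hx => hx.1
  have hdB : d ∈ {x | x ∈ D ∧ R d x} := ⟨hd, by rw [hR]; exact fun e _ => Iff.rfl⟩
  have hwB : g * d * g⁻¹ ∈ {x | x ∈ D ∧ R d x} := by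
    have h1 := (Cfsg.Agent.S5349.result hDc hD2 hd).2
    have h2 : g * d * g⁻¹ ∈ {v : G | ∃ g ∈ Cfsg.pCore 2 G, v = g * d * g⁻¹} := ⟨g, hg, rfl⟩
    rw [← h1] at h2
    refine ⟨h2.1, ?_⟩
    rw [hR]
    exact fun e he => (h2.2 e he).symm
  rcases hprim.2.2 _ hBD hblock with h | h
  · exact h hwB hdB
  · exfalso
    obtain ⟨b, hb, hnc⟩ := ThreeTransO2.exists_not_commute hgen hconjd hD2 hd
    rw [← h] at hb
    have := hb.2
    rw [hR] at this
    apply hnc
    exact (this b hb.1).mpr (Commute.refl b)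

/-- Primitivity together with a commuting pair forces `O₃(G)` to be central. -/
theorem pCore_three_le_center_of_primitive (hD : Cfsg.IsThreeTranspositionClass D)
    (hw : ∃ a ∈ D, ∃ b ∈ D, a ≠ b ∧ Commute a b) (hprim : Cfsg.IsPrimitiveUnderConj D) :
    Cfsg.pCore 3 G ≤ center G := by
  have hDc := hD
  have hD2 : ∃ a ∈ D, ∃ b ∈ D, a ≠ b := by
    obtain ⟨a, ha, b, hb, hab, -⟩ := hw
    exact ⟨a, ha, b, hb, hab⟩
  obtain ⟨hset, ⟨d₀, hd₀, hDeq⟩, hgen⟩ := hD
  have hmemD : ∀ x, x ∈ D ↔ IsConj d₀ x := fun x => by rw [hDeq]; rfl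
  have hconj : ∀ g : G, ∀ x ∈ D, g * x * g⁻¹ ∈ D := by
    intro g x hx
    rw [hmemD] at hx ⊢
    exact hx.trans (isConj_iff.mpr ⟨g, rfl⟩)
  apply le_center_of_forall_conj hgen
  intro g hg d hd
  have hblock := block_of_invariant_rel hconj (ThreeTransO3.Th D)
    (fun x y h => ThreeTransO3.th_symm h) (fun x y z h1 h2 => ThreeTransO3.th_trans h1 h2)
    (fun k x y h => ThreeTransO3.th_conj hconj h k) d
  have hBD : {x | x ∈ D ∧ ThreeTransO3.Th D d x} ⊆ D := fun x hx => hx.1
  have hdB : d ∈ {x | x ∈ D ∧ ThreeTransO3.Th D d x} := ⟨hd, ThreeTransO3.th_refl d⟩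
  have hwB : g * d * g⁻¹ ∈ {x | x ∈ D ∧ ThreeTransO3.Th D d x} := by
    have h1 := (Cfsg.Agent.S5350.result hDc hD2 hd).2
    have h2 : g * d * g⁻¹ ∈ {w : G | ∃ g ∈ Cfsg.pCore 3 G, w = g * d * g⁻¹} := ⟨g, hg, rfl⟩
    rw [← h1] at h2
    exact ⟨h2.1, h2.2⟩
  rcases hprim.2.2 _ hBD hblock with h | h
  · exact h hwB hdB
  · exfalso
    obtain ⟨a, ha, b, hb, hab, hc⟩ := hw
    rw [← h] at ha hb
    have h3 : ThreeTransO3.Th D a b := ThreeTransO3.th_trans (ThreeTransO3.th_symm ha.2) hb.2
    have h4 : b ∈ ThreeTransO3.Dset D a := ⟨hb.1, fun h => hab h.symm, hc⟩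
    rw [h3] at h4
    exact h4.2.1 rfl

/-- Conjugation as a graph homomorphism of the commuting graph. -/
def conjHom (hconj : ∀ g : G, ∀ x ∈ D, g * x * g⁻¹ ∈ D) (g : G) :
    Cfsg.commutingGraph D →g Cfsg.commutingGraph D where
  toFun x := ⟨g * x.1 * g⁻¹, hconj g x.1 x.2⟩
  map_rel' := by
    intro a b h
    unfold Cfsg.commutingGraph at h ⊢
    rw [SimpleGraph.fromRel_adj] at h ⊢
    refine ⟨?_, ?_⟩
    · intro heq
      apply h.1
      have := congrArg Subtype.val heq
      simp only at this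
      exact Subtype.ext (mul_left_cancel (mul_right_cancel this))
    · have hc : Commute (a : G) (b : G) := by
        rcases h.2 with h' | h'
        · exact h'
        · exact h'.symm
      left
      show Commute (g * (a : G) * g⁻¹) (g * (b : G) * g⁻¹)
      exact Commute.conj_iff g |>.mpr hc

/-- Primitivity together with a commuting pair forces the commuting graph to be connected. -/
theorem connected_of_primitive (hconj : ∀ g : G, ∀ x ∈ D, g * x * g⁻¹ ∈ D)
    (hw : ∃ a ∈ D, ∃ b ∈ D, a ≠ b ∧ Commute a b) (hprim : Cfsg.IsPrimitiveUnderConj D) :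
    (Cfsg.commutingGraph D).Connected := by
  obtain ⟨R, hR⟩ : ∃ R : G → G → Prop, R = fun x y => ∃ (hx : x ∈ D) (hy : y ∈ D),
      (Cfsg.commutingGraph D).Reachable ⟨x, hx⟩ ⟨y, hy⟩ := ⟨_, rfl⟩
  have hsymm : ∀ x y, R x y → R y x := by
    intro x y h
    rw [hR] at h ⊢
    obtain ⟨hx, hy, h⟩ := h
    exact ⟨hy, hx, h.symm⟩
  have htrans : ∀ x y z, R x y → R y z → R x z := by
    intro x y z h1 h2
    rw [hR] at h1 h2 ⊢
    obtain ⟨hx, hy, h1⟩ := h1
    obtain ⟨hy', hz, h2⟩ := h2
    exact ⟨hx, hz, h1.trans h2⟩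
  have hinv : ∀ k x y, R x y → R (k * x * k⁻¹) (k * y * k⁻¹) := by
    intro k x y h
    rw [hR] at h ⊢
    obtain ⟨hx, hy, h⟩ := h
    exact ⟨hconj k x hx, hconj k y hy, h.map (conjHom hconj k)⟩
  obtain ⟨a, ha, b, hb, hab, hc⟩ := hw
  have hblock := block_of_invariant_rel hconj R hsymm htrans hinv a
  have hBD : {x | x ∈ D ∧ R a x} ⊆ D := fun x hx => hx.1
  have haB : a ∈ {x | x ∈ D ∧ R a x} := ⟨ha, by rw [hR]; exact ⟨ha, ha, SimpleGraph.Reachable.refl _⟩⟩
  have hbB : b ∈ {x | x ∈ D ∧ R a x} := by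
    refine ⟨hb, ?_⟩
    rw [hR]
    refine ⟨ha, hb, SimpleGraph.Adj.reachable ?_⟩
    unfold Cfsg.commutingGraph
    rw [SimpleGraph.fromRel_adj]
    exact ⟨fun h => hab (congrArg Subtype.val h), Or.inl hc⟩
  rcases hprim.2.2 _ hBD hblock with h | h
  · exact absurd (h haB hbB) hab
  · have hall : ∀ x (hx : x ∈ D), (Cfsg.commutingGraph D).Reachable ⟨a, ha⟩ ⟨x, hx⟩ := by
      intro x hx
      have hx' : x ∈ {x | x ∈ D ∧ R a x} := by rw [h]; exact hx
      have := hx'.2
      rw [hR] at this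
      obtain ⟨_, _, h⟩ := this
      exact h
    haveI : Nonempty D := ⟨⟨a, ha⟩⟩
    refine ⟨fun x y => ?_⟩
    exact (hall x.1 x.2).symm.trans (hall y.1 y.2)

/-- A normal subgroup containing all products `d * e` has index at most 2. -/
theorem index_le_two_of_forall_mul_mem (hgen : Subgroup.closure D = ⊤) {L : Subgroup G}
    [hLn : L.Normal] {d : G} (hd2 : d * d = 1) (hkey : ∀ e ∈ D, d * e ∈ L) : L.index ≤ 2 := by
  have hq : ∀ g : G, g ∈ L ∨ d * g ∈ L := by
    intro g
    have hg : g ∈ Subgroup.closure D := by rw [hgen]; trivial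
    induction hg using Subgroup.closure_induction with
    | mem x hx =>
      right
      exact hkey x hx
    | one => left; exact Subgroup.one_mem _
    | mul x y _ _ hx hy =>
      rcases hx with hx | hx
      · rcases hy with hy | hy
        · left; exact Subgroup.mul_mem _ hx hy
        · right
          have : d * (x * y) = (d * x * d⁻¹) * (d * y) := by group
          rw [this]
          exact Subgroup.mul_mem _ (hLn.conj_mem x hx d) hy
      · rcases hy with hy | hy
        · right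
          rw [← mul_assoc]
          exact Subgroup.mul_mem _ hx hy
        · left
          have hdi : d⁻¹ = d := inv_eq_of_mul_eq_one_left hd2
          have : x * y = d⁻¹ * (d * x) * d⁻¹⁻¹ * (d * y) := by
            rw [inv_inv, hdi]
            calc x * y = (d * d) * x * ((d * d) * y) := by rw [hd2, one_mul, one_mul]
              _ = d * (d * x) * d * (d * y) := by simp only [mul_assoc]
          rw [this]
          exact Subgroup.mul_mem _ (hLn.conj_mem _ hx d⁻¹) hy
    | inv x _ hx =>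
      rcases hx with hx | hx
      · left; exact Subgroup.inv_mem _ hx
      · right
        have hdi : d⁻¹ = d := inv_eq_of_mul_eq_one_left hd2
        have : d * x⁻¹ = d * (d * x)⁻¹ * d⁻¹ := by
          rw [mul_inv_rev, hdi]
          simp only [mul_assoc]
          rw [hd2, mul_one]
        rw [this]
        exact hLn.conj_mem _ (Subgroup.inv_mem _ hx) d
  have hsurj : Function.Surjective
      (fun b : Bool => if b then (QuotientGroup.mk d : G ⧸ L) else 1) := by
    intro q
    induction q using QuotientGroup.induction_on with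
    | H g =>
      rcases hq g with h | h
      · refine ⟨false, ?_⟩
        simp only [Bool.false_eq_true, if_false]
        exact ((QuotientGroup.eq_one_iff g).mpr h).symm
      · refine ⟨true, ?_⟩
        simp only [if_true]
        rw [QuotientGroup.eq]
        have hdi : d⁻¹ = d := inv_eq_of_mul_eq_one_left hd2
        rw [hdi]
        exact h
  have hcard := Nat.card_le_card_of_surjective _ hsurj
  have hb2 : Nat.card Bool = 2 := by rw [Nat.card_eq_fintype_card, Fintype.card_bool]
  rw [hb2] at hcard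
  exact hcard

end Prim

end Cfsg.Agent.Helper4.ThreeTransPrim
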