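import Cfsg.Agent.Helper29.OC2K.Main
import Cfsg.Agent.Helper17.OC2KC2Defs
import Cfsg.Agent.Helper17.OC2KC2PM
import Cfsg.Agent.Helper20.OC2KC2GEOPAIR

set_option autoImplicit false
set_option linter.unusedSectionVars false
set_option linter.unusedVariables false

/-! # OC2K chapter CHAR2, Part B (driver helper17), piece LOCB1 (helper4): localisation at a singular component. -/

namespace Cfsg.Agent.OC2K

open Matrix Cfsg.Agent.Helper28.Sg Cfsg.Agent.Helper28.Spin Cfsg.Agent.Helper12.OrthGen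
  Cfsg.Agent.S2614 Cfsg.Agent.S5683P Cfsg.Agent.Helper28.NDM

variable {F : Type*} [Field F] [Fintype F] {t k : ℕ} {ι : Type} [Fintype ι] [DecidableEq ι] {Q : QuadraticForm F (ι → F)} [QHyp Q] {D : Fin t → Submodule F (ι → F)}
  {M : Subgroup (OGq Q)}

/-- LOCB1 (M) -/
theorem C2.LOCB1.loc (hD : HD Q k D) (hk : 4 ≤ k) (hHM : HS D ≤ M) (hG1 : ¬ G1 M D)
    {v : ι → F} (hv : NPV M D v) {c : Fin t} (hvc : cmp D c v ≠ 0)
    (hQ : Q (cmp D c v) = 0) {y : ι → F} (hy : y ∈ Rad M v hv.Qv) :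
    ∃ s : F, cmp D c y = s • cmp D c v := by
  have ha : cmp D c v ∈ D c := CMP1.mem hD c v
  have haa : B (Q) (cmp D c v) (cmp D c v) = 0 := B_self_of_singular (Q) hQ
  have hav : B (Q) (cmp D c v) v = 0 := by rw [← CMP2.B_left hD ha v]; exact haa
  -- vectors of the block perpendicular to `a` are perpendicular to `v`
  have hperp : ∀ w ∈ D c, B (Q) (cmp D c v) w = 0 → B (Q) w v = 0 := by
    intro w hw h
    rw [← CMP2.B_left hD hw v, B_comm]
    exact h
  obtain ⟨w, hw, w', hw', haw, haw', hww'⟩ := C2.GEOPAIR.main hD hk ha hvc hQ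
  have h1 := C2.PM.polar hD hHM hG1 hv ha hw hw' hvc hQ haw haw' hav (hperp w hw haw)
    (hperp w' hw' haw') hy
  have hay : B (Q) (cmp D c v) y = 0 := by
    rcases mul_eq_zero.mp h1 with h | h
    · exact absurd h hww'
    · exact h
  apply GEOC.perp_perp (D c) (BLK.ndon hD c) ha hvc hQ (CMP1.mem hD c y)
  intro z hz haz
  rw [CMP2.B_left hD hz y]
  exact C2.PM.step1 hD hHM hG1 hv ha hz hvc hQ haz hav (hperp z hz haz) hy hay

end Cfsg.Agent.OC2K
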