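import Cfsg.Agent.Helper29.OC2K.Main
import Cfsg.Agent.Helper17.OC2KC2Defs
import Cfsg.Agent.Helper17.OC2KC2PM

set_option autoImplicit false
set_option linter.unusedSectionVars false
set_option linter.unusedVariables false

/-! # OC2K chapter CHAR2, Part B (driver helper17), piece LOCB2Q4 (helper4): the scalar trick for `card F ≠ 2`. -/

namespace Cfsg.Agent.OC2K

open Matrix Cfsg.Agent.Helper28.Sg Cfsg.Agent.Helper28.Spin Cfsg.Agent.Helper12.OrthGen
  Cfsg.Agent.S2614 Cfsg.Agent.S5683P Cfsg.Agent.Helper28.NDM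

variable {F : Type*} [Field F] [Fintype F] {t k : ℕ} {ι : Type} [Fintype ι] [DecidableEq ι] {Q : QuadraticForm F (ι → F)} [QHyp Q] {D : Fin t → Submodule F (ι → F)}
  {M : Subgroup (OGq Q)}

/-- a scalar different from `0` and `1` -/
theorem C2.LOCB2Q4.exists_scalar (hq : Fintype.card F ≠ 2) : ∃ s : F, s ≠ 0 ∧ s ≠ 1 := by
  classical
  by_contra hcon
  push Not at hcon
  have h1 : (Finset.univ : Finset F) ⊆ {0, 1} := by
    intro s _
    by_cases hs : s = 0
    · rw [hs]; exact Finset.mem_insert_self _ _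
    · rw [hcon s hs]; exact Finset.mem_insert_of_mem (Finset.mem_singleton_self _)
  have h2 := Finset.card_le_card h1
  rw [Finset.card_univ] at h2
  have h3 : ({0, 1} : Finset F).card ≤ 2 := Finset.card_le_two
  have h4 : 1 < Fintype.card F := Fintype.one_lt_card
  omega

/-- LOCB2Q4 (S-M) -/
theorem C2.LOCB2Q4.main (h2 : (2 : F) = 0) (hD : HD Q k D) (hq : Fintype.card F ≠ 2) (hHM : HS D ≤ M)
    (hG1 : ¬ G1 M D) {v : ι → F} (hv : NPV M D v) {c : Fin t} (hQ : Q (cmp D c v) ≠ 0) {y : ι → F}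
    (hy : y ∈ Rad M v hv.Qv) {x : ι → F} (hx : x ∈ D c) (hx0 : x ≠ 0) (hQx : Q x = 0)
    (hxa : B (Q) x (cmp D c v) = 0) : B (Q) x y = 0 := by
  have ha : cmp D c v ∈ D c := CMP1.mem hD c v
  have haa : B (Q) (cmp D c v) (cmp D c v) = 0 := by rw [B_self, h2, zero_mul]
  have hav : B (Q) (cmp D c v) v = 0 := by rw [← CMP2.B_left hD ha v]; exact haa
  have hxv : B (Q) x v = 0 := by rw [← CMP2.B_left hD hx v]; exact hxa
  obtain ⟨s, hs0, hs1⟩ := C2.LOCB2Q4.exists_scalar (F := F) hq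
  have h1 := C2.PM.scal hD hHM hG1 hv hx ha hx0 hQx hxa hxv hav hy s
  have h3 : s - s ^ 2 ≠ 0 := by
    have : s - s ^ 2 = s * (1 - s) := by ring
    rw [this]
    exact mul_ne_zero hs0 (sub_ne_zero.mpr (Ne.symm hs1))
  rcases mul_eq_zero.mp h1 with h4 | h4
  · exact absurd h4 h3
  · rcases mul_eq_zero.mp h4 with h5 | h5
    · exact absurd h5 hQ
    · exact h5

end Cfsg.Agent.OC2K
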