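import Mathlib
import Cfsg.Agent.Helper7.K2M.Defs2
import Cfsg.Agent.Helper4.K2MQB
import Cfsg.Agent.Helper19.K2MUNIV

set_option autoImplicit false
set_option linter.unusedSectionVars false
set_option linter.unusedVariables false

/-! # S5694, `k = 2` minus blocks (designer helper7), piece EXROT (helper4):
a second vector of the same norm, independent of and not orthogonal to `y` (`card F ≠ 3`). -/

namespace Cfsg.Agent.K2M

open Matrix Cfsg.Agent.OC2P Cfsg.Agent.Helper28.Sg Cfsg.Agent.Helper28.Spin
  Cfsg.Agent.Helper12.OrthGen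

variable {F : Type*} [Field F] [Fintype F] {t : ℕ} {Q : QuadraticForm F (Fin t × Fin 2 → F)}
  {q : QuadraticForm F (Fin 2 → F)}

namespace EXROT

omit [Fintype F] in
theorem single_ne_zero (i : Fin 2) : (Pi.single i (1 : F) : Fin 2 → F) ≠ 0 := by
  intro h
  have h1 := congrFun h i
  rw [Pi.single_eq_same, Pi.zero_apply] at h1
  exact one_ne_zero h1

omit [Fintype F] in
theorem comb_eq_zero {a b : F}
    (h : a • (Pi.single 0 (1 : F) : Fin 2 → F) - b • (Pi.single 1 (1 : F) : Fin 2 → F) = 0) :
    b = 0 ∧ a = 0 := by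
  have h0 := congrFun h 0
  have h1 := congrFun h 1
  simp at h0 h1
  exact ⟨h1, h0⟩

omit [Fintype F] in
/-- the kernel of `polar q y ·` on the plane is non-trivial -/
theorem exists_orth (q : QuadraticForm F (Fin 2 → F)) (y : Fin 2 → F) :
    ∃ d : Fin 2 → F, d ≠ 0 ∧ QuadraticMap.polar ⇑q y d = 0 := by
  classical
  by_cases hab : QuadraticMap.polar ⇑q y (Pi.single 0 (1 : F)) = 0 ∧
      QuadraticMap.polar ⇑q y (Pi.single 1 (1 : F)) = 0
  · exact ⟨Pi.single 1 (1 : F), single_ne_zero 1, hab.2⟩
  · refine ⟨QuadraticMap.polar ⇑q y (Pi.single 1 (1 : F)) • (Pi.single 0 (1 : F) : Fin 2 → F) -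
        QuadraticMap.polar ⇑q y (Pi.single 0 (1 : F)) • (Pi.single 1 (1 : F) : Fin 2 → F), ?_, ?_⟩
    · intro h
      exact hab (comb_eq_zero h)
    · rw [QuadraticMap.polar_sub_right, QuadraticMap.polar_smul_right,
        QuadraticMap.polar_smul_right, smul_eq_mul, smul_eq_mul]
      ring

omit [Fintype F] in
/-- reflect `y` in a good vector `y''` -/
theorem of_good {y y'' : Fin 2 → F} (hind : Indep2 (F := F) y y'')
    (hP : QuadraticMap.polar ⇑q y y'' ≠ 0) (hq'' : q y'' ≠ 0)
    (h3 : 2 * q y * q y'' ≠ QuadraticMap.polar ⇑q y y'' * QuadraticMap.polar ⇑q y y'') :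
    ∃ y' : Fin 2 → F, q y' = q y ∧ QuadraticMap.polar ⇑q y y' ≠ 0 ∧ Indep2 (F := F) y y' := by
  set P := QuadraticMap.polar ⇑q y y'' with hPdef
  set c : F := P / q y'' with hc
  have hc0 : c ≠ 0 := div_ne_zero hP hq''
  have hcq : c * q y'' = P := div_mul_cancel₀ _ hq''
  refine ⟨y + (-c) • y'', ?_, ?_, ?_⟩
  · rw [QuadraticMap.map_add (⇑q), QuadraticMap.map_smul, QuadraticMap.polar_smul_right,
      smul_eq_mul, smul_eq_mul, ← hPdef]
    linear_combination (c) * hcq
  · rw [QuadraticMap.polar_add_right, QuadraticMap.polar_smul_right, smul_eq_mul, ← hPdef,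
      polar_self']
    intro h
    apply h3
    have h4 : 2 * q y * q y'' = c * q y'' * P := by linear_combination (q y'') * h
    rw [h4, hcq]
  · intro a b hab
    have h1 : (a + b) • y + (-(b * c)) • y'' = 0 := by
      rw [← hab, smul_add, smul_smul, add_smul, mul_neg]
      abel
    obtain ⟨h5, h6⟩ := hind _ _ h1
    have hb : b = 0 := by
      rcases mul_eq_zero.mp (neg_eq_zero.mp h6) with h | h
      · exact h
      · exact absurd h hc0
    rw [hb, add_zero] at h5
    exact ⟨h5, hb⟩

end EXROT

/-- EXROT (M) -/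
theorem EXROT.main (bm : BM Q q) (hF : Fintype.card F ≠ 3) {y : Fin 2 → F} (hy : y ≠ 0) :
    ∃ y' : Fin 2 → F, q y' = q y ∧ QuadraticMap.polar ⇑q y y' ≠ 0 ∧ Indep2 (F := F) y y' := by
  classical
  have hqy : q y ≠ 0 := fun h => hy (bm.aniso _ h)
  by_cases h2 : (2 : F) = 0
  · -- characteristic two
    obtain ⟨y'', hy''⟩ := QB.exists_polar_ne bm hy
    have hyy : QuadraticMap.polar ⇑q y y = 0 := by rw [polar_self', h2, zero_mul]
    have hy''0 : y'' ≠ 0 := by
      rintro rfl
      rw [QuadraticMap.polar_zero_right] at hy''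
      exact zero_ne_one hy''
    apply EXROT.of_good (y'' := y'')
    · intro a b hab
      have h1 := congrArg (fun v => QuadraticMap.polar ⇑q y v) hab
      simp only [QuadraticMap.polar_add_right, QuadraticMap.polar_smul_right,
        QuadraticMap.polar_zero_right, smul_eq_mul, hy'', hyy, mul_zero, zero_add, mul_one] at h1
      rw [h1, zero_smul, add_zero] at hab
      rcases smul_eq_zero.mp hab with h | h
      · exact ⟨h, h1⟩
      · exact absurd h hy
    · rw [hy'']; exact one_ne_zero
    · exact fun h => hy''0 (bm.aniso _ h)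
    · rw [hy'', h2, zero_mul, zero_mul, mul_one]
      exact zero_ne_one
  · -- odd characteristic
    obtain ⟨d, hd0, hd⟩ := EXROT.exists_orth q y
    have hqd : q d ≠ 0 := fun h => hd0 (bm.aniso _ h)
    have hcard : 3 < Fintype.card F := by
      have h1 := UNIV.card_odd h2
      have h3 : 1 < Fintype.card F := Fintype.one_lt_card
      omega
    -- choose `s ≠ 0` with `s * s * q y ≠ q d`
    obtain ⟨s, hs0, hs⟩ : ∃ s : F, s ≠ 0 ∧ s * s * q y ≠ q d := by
      by_cases hex : ∃ s₀ : F, s₀ * s₀ * q y = q d
      · obtain ⟨s₀, hs₀⟩ := hex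
        obtain ⟨s, hs⟩ : ∃ s, s ∉ ({0, s₀, -s₀} : Finset F) := by
          by_contra hcon
          push Not at hcon
          have h1 : (Finset.univ : Finset F) ⊆ {0, s₀, -s₀} := fun x _ => hcon x
          have h3 := Finset.card_le_card h1
          rw [Finset.card_univ] at h3
          have h4 : ({0, s₀, -s₀} : Finset F).card ≤ 3 := Finset.card_le_three
          omega
        simp only [Finset.mem_insert, Finset.mem_singleton, not_or] at hs
        refine ⟨s, hs.1, fun h => ?_⟩
        have h5 : (s - s₀) * (s + s₀) = 0 := by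
          have h6 : (s * s - s₀ * s₀) * q y = 0 := by linear_combination h - hs₀
          rcases mul_eq_zero.mp h6 with h7 | h7
          · linear_combination h7
          · exact absurd h7 hqy
        rcases mul_eq_zero.mp h5 with h7 | h7
        · exact hs.2.1 (sub_eq_zero.mp h7)
        · exact hs.2.2 (eq_neg_of_add_eq_zero_left h7)
      · push Not at hex
        exact ⟨1, one_ne_zero, hex 1⟩
    have hP : QuadraticMap.polar ⇑q y (s • y + d) = s * (2 * q y) := by
      rw [QuadraticMap.polar_add_right, QuadraticMap.polar_smul_right, polar_self', hd, add_zero,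
        smul_eq_mul]
    have hq'' : q (s • y + d) = s * s * q y + q d := by
      rw [QuadraticMap.map_add (⇑q), QuadraticMap.map_smul, QuadraticMap.polar_smul_left, hd,
        smul_eq_mul, smul_eq_mul, mul_zero, add_zero]
    have hP0 : QuadraticMap.polar ⇑q y (s • y + d) ≠ 0 := by
      rw [hP]
      exact mul_ne_zero hs0 (mul_ne_zero h2 hqy)
    apply EXROT.of_good (y'' := s • y + d)
    · intro a b hab
      have h1 := congrArg (fun v => QuadraticMap.polar ⇑q y v) hab
      simp only [QuadraticMap.polar_add_right, QuadraticMap.polar_smul_right,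
        QuadraticMap.polar_zero_right, smul_eq_mul, hd, polar_self', mul_zero, add_zero] at h1
      have h3 : a + b * s = 0 := by
        have h4 : (a + b * s) * (2 * q y) = 0 := by linear_combination h1
        rcases mul_eq_zero.mp h4 with h5 | h5
        · exact h5
        · exact absurd h5 (mul_ne_zero h2 hqy)
      have h6 : b • d = 0 := by
        have h7 : a • y + b • (s • y + d) = (a + b * s) • y + b • d := by
          rw [smul_add, smul_smul, add_smul]
          abel
        rw [h7, h3, zero_smul, zero_add] at hab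
        exact hab
      rcases smul_eq_zero.mp h6 with h8 | h8
      · rw [h8, zero_mul, add_zero] at h3
        exact ⟨h3, h8⟩
      · exact absurd h8 hd0
    · exact hP0
    · intro h
      have h9 : s • y + d = 0 := bm.aniso _ h
      rw [h9, QuadraticMap.polar_zero_right] at hP0
      exact hP0 rfl
    · rw [hP, hq'']
      intro h
      have h10 : 2 * q y * (q d - s * s * q y) = 0 := by linear_combination h
      rcases mul_eq_zero.mp h10 with h11 | h11
      · exact (mul_ne_zero h2 hqy) h11
      · exact hs (sub_eq_zero.mp h11).symm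

end Cfsg.Agent.K2M
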