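import Mathlib
import Cfsg.Agent.Helper7.K2M.Defs2
import Cfsg.Agent.Helper4.K2MQB
import Cfsg.Agent.Helper19.K2MOMEGA
import Cfsg.Agent.Helper22.K2MCLS

set_option autoImplicit false
set_option linter.unusedSectionVars false
set_option linter.unusedVariables false

/-! # S5694, `k = 2` minus blocks (designer helper7), piece S-ENTRY (helper4):
without (P) some non-block vector is `H`-related to a block vector. -/

namespace Cfsg.Agent.K2M

open Matrix Cfsg.Agent.OC2P Cfsg.Agent.Helper28.Sg Cfsg.Agent.Helper28.Spin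
  Cfsg.Agent.Helper12.OrthGen

variable {F : Type*} [Field F] [Fintype F] {t : ℕ} {Q : QuadraticForm F (Fin t × Fin 2 → F)}
  {q : QuadraticForm F (Fin 2 → F)}

omit [Fintype F] in
theorem SENTRY.reflO_congr {w w' : Fin t × Fin 2 → F} (h : w = w') (hw : Q w ≠ 0) (hw' : Q w' ≠ 0) :
    reflO Q w hw = reflO Q w' hw' := by
  subst h
  rfl

/-- S-ENTRY (M) -/
theorem SENTRY.main (bm : BM Q q) (ht : 3 ≤ t) (hF : Fintype.card F ≠ 3) {H : Subgroup (OG Q)}
    (hH : HasMO H) (hP : ¬ PropP H) : ∃ a : Fin t × Fin 2 → F, InA H a ∧ ¬ IsBlk a := by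
  classical
  unfold PropP at hP
  push Not at hP
  obtain ⟨x, hxH, ⟨v, hvB, hQv, hxv⟩, hnS⟩ := hP
  -- CLS, contrapositive
  have h1 : ∃ (l : Fin t) (y : Fin 2 → F), IsSquare (q y * Q v) ∧
      ¬ IsBlk (mt Q x *ᵥ binj l y) := by
    by_contra hcon
    push Not at hcon
    exact hnS (CLS.main bm hF x hQv (fun l y hsq => hcon l y hsq))
  obtain ⟨l, y, ⟨s, hs⟩, hnb⟩ := h1
  have hy : y ≠ 0 := by
    rintro rfl
    apply hnb
    rw [QB.binj_zero, Matrix.mulVec_zero]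
    exact ⟨⟨0, by omega⟩, Submodule.zero_mem _⟩
  have hqy : q y ≠ 0 := fun h => hy (bm.aniso _ h)
  obtain ⟨j, hvj⟩ := hvB
  have hc'j : (s / Q v) • v ∈ Dblk F t 2 j := Submodule.smul_mem _ _ hvj
  have hQc' : Q ((s / Q v) • v) = q y := by
    rw [Q_smul]
    field_simp
    linear_combination (-1 : F) * hs
  have hxc' : mt Q x *ᵥ ((s / Q v) • v) = (s / Q v) • v := by
    rw [Matrix.mulVec_smul, hxv]
  have hc'b : (s / Q v) • v = binj j (bproj j ((s / Q v) • v)) := QB.mem_Dblk_iff'.mp hc'j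
  obtain ⟨y', hy'⟩ : ∃ y' : Fin 2 → F, y' = bproj j ((s / Q v) • v) := ⟨_, rfl⟩
  rw [← hy'] at hc'b
  have hqy' : q y' = q y := by rw [← QB.Q_binj bm j y', ← hc'b, hQc']
  have hb0 : Q (binj l y) ≠ 0 := by rw [QB.Q_binj bm]; exact hqy
  have hc0 : Q (binj j y') ≠ 0 := by rw [QB.Q_binj bm, hqy']; exact hqy
  have hpair := OMEGA.pair_mem bm ht hH l j y y' hb0 hc0 ⟨q y, by rw [hqy']⟩
  have hconj : x * (reflO Q (binj l y) hb0 * reflO Q (binj j y') hc0) * x⁻¹ ∈ H :=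
    H.mul_mem (H.mul_mem hxH hpair) (H.inv_mem hxH)
  have ha0 : Q (mt Q x *ᵥ binj l y) ≠ 0 := by rw [Q_isom]; exact hb0
  have hc0' : Q (mt Q x *ᵥ binj j y') ≠ 0 := by rw [Q_isom]; exact hc0
  have e1 : x * (reflO Q (binj l y) hb0 * reflO Q (binj j y') hc0) * x⁻¹ =
      reflO Q (mt Q x *ᵥ binj l y) ha0 * reflO Q (mt Q x *ᵥ binj j y') hc0' := by
    rw [reflO_conj Q x _ hb0 ha0, reflO_conj Q x _ hc0 hc0']
    group
  have hfix : mt Q x *ᵥ binj j y' = binj j y' := by rw [← hc'b]; exact hxc'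
  have e2 : reflO Q (mt Q x *ᵥ binj j y') hc0' = reflO Q (binj j y') hc0 :=
    SENTRY.reflO_congr hfix hc0' hc0
  rw [e1, e2] at hconj
  refine ⟨mt Q x *ᵥ binj l y, ⟨binj j y', ha0, hc0, ⟨j, binj_mem j y'⟩, ?_, hconj⟩, hnb⟩
  rw [Q_isom, QB.Q_binj bm, QB.Q_binj bm, hqy']

end Cfsg.Agent.K2M
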