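import Mathlib

set_option autoImplicit false
set_option linter.style.haveILetI false
set_option linter.unusedSectionVars false

namespace Cfsg.Agent.Helper4

open MulAction

/-- Criterion for multiple transitivity: if the pointwise stabiliser of every `j`-subset is
transitive on the complement and the degree is at least `j + 2`, the action is
`(j+1)`-transitive. -/
theorem isMultiplyPretransitive_of_fixing_transitive {G α : Type*} [Group G] [MulAction G α]
    [Fintype α] [DecidableEq α] (j : ℕ) (hj : j + 2 ≤ Fintype.card α)
    (h : ∀ T : Finset α, T.card = j → ∀ u v : α, u ∉ T → v ∉ T →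
      ∃ g : G, (∀ x ∈ T, g • x = x) ∧ g • u = v) :
    IsMultiplyPretransitive G α (j + 1) := by
  suffices H : ∀ i : ℕ, i ≤ j + 1 → IsMultiplyPretransitive G α i from H (j + 1) le_rfl
  intro i
  induction i with
  | zero => intro _; exact is_zero_pretransitive
  | succ i ih =>
    intro hi
    have ihi := ih (by omega)
    refine ⟨fun x y => ?_⟩
    set x' : Fin i ↪ α := Fin.castSuccEmb.trans x with hx'
    set y' : Fin i ↪ α := Fin.castSuccEmb.trans y with hy'
    obtain ⟨g, hg⟩ := ihi.exists_smul_eq x' y'
    have hgk : ∀ k : Fin i, g • x (Fin.castSucc k) = y (Fin.castSucc k) := by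
      intro k
      have := congrArg (fun f : Fin i ↪ α => f k) hg
      simpa [x', y', Function.Embedding.smul_apply] using this
    set u := g • x (Fin.last i) with hu
    set v := y (Fin.last i) with hv
    set S : Finset α := Finset.univ.image y' with hS
    have hScard : S.card = i := by
      rw [hS, Finset.card_image_of_injective _ y'.injective, Finset.card_univ, Fintype.card_fin]
    have huS : u ∉ S := by
      intro hmem
      rw [hS, Finset.mem_image] at hmem
      obtain ⟨k, _, hk⟩ := hmem
      have h1 : y' k = g • x (Fin.castSucc k) := (hgk k).symm
      rw [h1, hu] at hk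
      have h2 := x.injective (smul_left_cancel g hk)
      exact (Fin.castSucc_lt_last k).ne h2
    have hvS : v ∉ S := by
      intro hmem
      rw [hS, Finset.mem_image] at hmem
      obtain ⟨k, _, hk⟩ := hmem
      have h2 : Fin.castSucc k = Fin.last i := y.injective hk
      exact (Fin.castSucc_lt_last k).ne h2
    by_cases huv : u = v
    · refine ⟨g, ?_⟩
      ext k
      rw [Function.Embedding.smul_apply]
      rcases Fin.eq_castSucc_or_eq_last k with ⟨k', rfl⟩ | rfl
      · exact hgk k'
      · exact huv
    · -- choose T ⊇ S of card j avoiding u, v
      have hSsub : S ⊆ Finset.univ \ {u, v} := by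
        intro s hs
        rw [Finset.mem_sdiff]
        refine ⟨Finset.mem_univ _, ?_⟩
        rw [Finset.mem_insert, Finset.mem_singleton]
        rintro (rfl | rfl)
        · exact huS hs
        · exact hvS hs
      have hcard2 : j ≤ (Finset.univ \ ({u, v} : Finset α)).card := by
        rw [Finset.card_sdiff_of_subset (Finset.subset_univ _), Finset.card_univ,
          Finset.card_pair huv]
        omega
      obtain ⟨T, hST, hTsub, hTcard⟩ :=
        Finset.exists_subsuperset_card_eq hSsub (by rw [hScard]; omega) hcard2
      have huT : u ∉ T := by
        intro hmem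
        have := hTsub hmem
        simp at this
      have hvT : v ∉ T := by
        intro hmem
        have := hTsub hmem
        simp at this
      obtain ⟨k, hkT, hkuv⟩ := h T hTcard u v huT hvT
      refine ⟨k * g, ?_⟩
      ext m
      rw [Function.Embedding.smul_apply, mul_smul]
      rcases Fin.eq_castSucc_or_eq_last m with ⟨m', rfl⟩ | rfl
      · rw [hgk m']
        apply hkT
        apply hST
        rw [hS, Finset.mem_image]
        exact ⟨m', Finset.mem_univ _, rfl⟩
      · exact hkuv

end Cfsg.Agent.Helper4
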