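import Mathlib
import Cfsg.Agent.Helper7.S2481Defs
import Cfsg.Agent.Helper14.SLk.Defs
import Cfsg.Agent.Helper7.S2481STBASIC
import Cfsg.Agent.Helper7.S2481PDUAL
import Cfsg.Agent.Helper7.S2481DUALST

/-!
# S2481 Hermitian chapter, piece SEMIDET (driver helper7; helper4)

`a ↦ st a` induces a `σ`-semilinear ring isomorphism `F[X]/(p) → F[X]/(pdual p)` intertwining the
multiplications by `f` and by `st f`; hence `mulDet (pdual p) (st f) = σ (mulDet p f)`.
-/

set_option autoImplicit false

namespace Cfsg.Agent.S2481P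

open Polynomial DirectSum
open Cfsg.Agent.Helper2.Herm (cj)
open Cfsg.Agent.S2479P (mulDet)

namespace SEMIDET

/-- determinants of endomorphisms intertwined by a `σ`-semilinear bijection -/
theorem det_semilinear {F V V' : Type*} [Field F] [AddCommGroup V] [Module F V] [AddCommGroup V']
    [Module F V'] [Module.Finite F V] (σ : F →+* F) (hσ : ∀ x, σ (σ x) = x) (φ : V →+ V')
    (hφ : ∀ (c : F) (x : V), φ (c • x) = σ c • φ x) (hbij : Function.Bijective φ)
    (L : V →ₗ[F] V) (L' : V' →ₗ[F] V') (h : ∀ x, φ (L x) = L' (φ x)) :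
    LinearMap.det L' = σ (LinearMap.det L) := by
  classical
  set b := Module.finBasis F V with hb
  have hφsum : ∀ c : Fin (Module.finrank F V) → F,
      φ (∑ i, c i • b i) = ∑ i, σ (c i) • φ (b i) := by
    intro c
    rw [map_sum]
    exact Finset.sum_congr rfl fun i _ => hφ _ _
  have hli : LinearIndependent F (fun i => φ (b i)) := by
    rw [Fintype.linearIndependent_iff]
    intro g hg i
    have h1 : φ (∑ i, σ (g i) • b i) = 0 := by
      rw [hφsum]
      simp only [hσ]
      exact hg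
    have h2 : ∑ i, σ (g i) • b i = 0 := hbij.1 (by rw [h1, map_zero])
    have h3 := Fintype.linearIndependent_iff.mp b.linearIndependent _ h2 i
    rw [← hσ (g i), h3, map_zero]
  have hsp : ⊤ ≤ Submodule.span F (Set.range fun i => φ (b i)) := by
    intro y _
    obtain ⟨x, rfl⟩ := hbij.2 y
    rw [← b.sum_repr x, hφsum]
    exact Submodule.sum_mem _ fun i _ =>
      Submodule.smul_mem _ _ (Submodule.subset_span ⟨i, rfl⟩)
  set b' := Module.Basis.mk hli hsp with hb'
  have hb'i : ∀ i, b' i = φ (b i) := fun i => by rw [hb', Module.Basis.mk_apply]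
  have hmat : LinearMap.toMatrix b' b' L' = (LinearMap.toMatrix b b L).map σ := by
    ext i j
    rw [LinearMap.toMatrix_apply, Matrix.map_apply, LinearMap.toMatrix_apply, hb'i, ← h]
    conv_lhs => rw [← b.sum_repr (L (b j)), hφsum]
    have : (∑ i, σ (b.repr (L (b j)) i) • φ (b i)) =
        ∑ i, σ (b.repr (L (b j)) i) • b' i :=
      Finset.sum_congr rfl fun i _ => by rw [hb'i]
    rw [this, Module.Basis.repr_sum_self]
  rw [← LinearMap.det_toMatrix b', ← LinearMap.det_toMatrix b, hmat]
  exact (RingHom.map_det σ _).symm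

variable {F : Type*} [Field F]

/-- the `st`-semilinear map `F[X]/(p) → F[X]/(p')` induced by `st`, when `p' ∣ st p` -/
noncomputable def phi (σ : F →+* F) (N : ℕ) (p p' : F[X]) (hpp' : p' ∣ st σ N p) :
    (F[X] ⧸ Submodule.span F[X] {p}) →ₛₗ[st σ N] (F[X] ⧸ Submodule.span F[X] {p'}) :=
  Submodule.liftQ _ ((Submodule.mkQ (Submodule.span F[X] {p'})).comp
    (st σ N).toSemilinearMap) (by
      rw [Submodule.span_le]
      intro x hx
      rw [Set.mem_singleton_iff] at hx
      subst hx
      show (Submodule.mkQ (Submodule.span F[X] {p'})) (st σ N x) = 0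
      rw [Submodule.mkQ_apply, Submodule.Quotient.mk_eq_zero, Submodule.mem_span_singleton]
      obtain ⟨c, hc⟩ := hpp'
      exact ⟨c, by rw [smul_eq_mul, hc, mul_comm]⟩)

theorem phi_mk (σ : F →+* F) (N : ℕ) (p p' : F[X]) (hpp' : p' ∣ st σ N p) (r : F[X]) :
    phi σ N p p' hpp' (Submodule.Quotient.mk r) = Submodule.Quotient.mk (st σ N r) := rfl

theorem mk_eq_zero_iff (p r : F[X]) :
    (Submodule.Quotient.mk r : F[X] ⧸ Submodule.span F[X] {p}) = 0 ↔ p ∣ r := by
  rw [Submodule.Quotient.mk_eq_zero, Submodule.mem_span_singleton]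
  constructor
  · rintro ⟨c, hc⟩
    exact ⟨c, by rw [← hc, smul_eq_mul, mul_comm]⟩
  · rintro ⟨c, hc⟩
    exact ⟨c, by rw [hc, smul_eq_mul, mul_comm]⟩

end SEMIDET

namespace SEMIDET

variable {F : Type*} [Field F] [Fintype F] {q : ℕ}

theorem mulDet_st (hF : Fintype.card F = q ^ 2) (N : ℕ) (hN : 0 < N) (p : F[X]) (hp : p.Monic)
    (hirr : Irreducible p) (hpX : p ≠ X) (hpN : p ∣ X ^ N - 1) (f : F[X]) :
    mulDet (pdual (cj hF) p) (st (cj hF) N f) = cj hF (mulDet p f) := by
  classical
  set σ := cj hF with hσdef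
  have hσ : ∀ x, σ (σ x) = x := Cfsg.Agent.Helper2.Herm.cj_cj hF
  have h0 : p.coeff 0 ≠ 0 := PDUAL.coeff_zero_ne_zero p hp hirr hpX
  set p' := pdual σ p with hp'def
  have hp' : p'.Monic := PDUAL.pdual_monic σ p hp h0
  have h0' : p'.coeff 0 ≠ 0 := by
    rw [hp'def, PDUAL.pdual_coeff_zero σ p hp h0]
    exact inv_ne_zero ((map_ne_zero σ).2 h0)
  have hpp : pdual σ p' = p := PDUAL.pdual_pdual σ hσ p hp h0
  have hp'N : p' ∣ X ^ N - 1 := by
    have := DUALST.pdual_dvd σ N hN p hp h0 1 (by rwa [pow_one])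
    rwa [pow_one] at this
  have hd1 : p' ∣ st σ N p := by
    have := DUALST.pdual_dvd_st σ N hN p hp h0 1 (by rwa [pow_one])
    rwa [pow_one, pow_one] at this
  have hd2 : p ∣ st σ N p' := by
    have := DUALST.pdual_dvd_st σ N hN p' hp' h0' 1 (by rwa [pow_one])
    rwa [pow_one, pow_one, hpp] at this
  have hfin : Module.Finite F (F[X] ⧸ Submodule.span F[X] {p}) := hp.finite_adjoinRoot
  set Φ := phi σ N p p' hd1 with hΦ
  -- bijectivity
  have hinj : Function.Injective Φ := by
    rw [← LinearMap.ker_eq_bot, LinearMap.ker_eq_bot']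
    intro x hx
    induction x using Submodule.Quotient.induction_on with
    | _ r =>
      rw [hΦ, phi_mk, mk_eq_zero_iff] at hx
      rw [mk_eq_zero_iff]
      -- `p ∣ st p' ∣ st (st r)` and `st (st r) ≡ r`
      have h1 : p ∣ st σ N (st σ N r) := hd2.trans (map_dvd (st σ N) hx)
      have h2 : p ∣ st σ N (st σ N r) - r := hpN.trans (STBASIC.st_st σ hσ N hN r)
      have := dvd_sub h1 h2
      rwa [sub_sub_cancel] at this
  have hsurj : Function.Surjective Φ := by
    intro y
    induction y using Submodule.Quotient.induction_on with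
    | _ s =>
      refine ⟨Submodule.Quotient.mk (st σ N s), ?_⟩
      rw [hΦ, phi_mk, ← sub_eq_zero, ← Submodule.Quotient.mk_sub, mk_eq_zero_iff]
      exact hp'N.trans (STBASIC.st_st σ hσ N hN s)
  -- semilinearity over `F`
  have hsemi : ∀ (c : F) (x : F[X] ⧸ Submodule.span F[X] {p}), Φ (c • x) = σ c • Φ x := by
    intro c x
    have h1 : c • x = (C c : F[X]) • x := by
      rw [← algebraMap_eq, algebraMap_smul]
    have h2 : σ c • Φ x = (C (σ c) : F[X]) • Φ x := by
      rw [← algebraMap_eq, algebraMap_smul]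
    rw [h1, h2, map_smulₛₗ, STBASIC.st_C]
  have key := det_semilinear σ hσ Φ.toAddMonoidHom hsemi ⟨hinj, hsurj⟩
    ((LinearMap.lsmul F[X] (F[X] ⧸ Submodule.span F[X] {p}) f).restrictScalars F)
    ((LinearMap.lsmul F[X] (F[X] ⧸ Submodule.span F[X] {p'}) (st σ N f)).restrictScalars F)
    (fun x => by
      show Φ (f • x) = st σ N f • Φ x
      rw [map_smulₛₗ])
  exact key

end SEMIDET

end Cfsg.Agent.S2481P
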