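import Mathlib
import Cfsg.Agent.Helper7.S2481Defs
import Cfsg.Agent.Helper14.SLk.Defs
import Cfsg.Agent.Helper7.S2481STBASIC
import Cfsg.Agent.Helper7.S2481PDUAL
import Cfsg.Agent.Helper7.S2481DUALST
import Cfsg.Agent.Helper26.S2481FIELD
import Cfsg.Agent.Helper15.S2479BLOCKU
import Cfsg.Agent.Helper4.S2481SEMIDET
import Cfsg.Agent.Helper14.SLk.CENT

/-!
# S2481 Hermitian chapter, piece UNITPAIR (driver helper7; helper4)

A pair `f₁, f₂` with `st f₂ * f₁ ≡ 1 (mod p^e)`, `st f₁ * f₂ ≡ 1 (mod (pdual p)^e)` and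
`mulDet p f₁ * mulDet (pdual p) f₂ = c`, for `c^(q+1) = 1`.
-/

set_option autoImplicit false

namespace Cfsg.Agent.S2481P

open Polynomial DirectSum
open Cfsg.Agent.Helper2.Herm (cj)
open Cfsg.Agent.S2479P (mulDet)

namespace UNITPAIR

variable {F : Type*} [Field F] [Fintype F] {q : ℕ}

theorem mulDet_mul_right (f u w : F[X]) : mulDet f (u * w) = mulDet f u * mulDet f w := by
  rw [Cfsg.Agent.S2479P.BLOCKX.mulDet_eq_norm, Cfsg.Agent.S2479P.BLOCKX.mulDet_eq_norm,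
    Cfsg.Agent.S2479P.BLOCKX.mulDet_eq_norm, map_mul, map_mul]

theorem mulDet_congr (f u w : F[X]) (h : f ∣ u - w) : mulDet f u = mulDet f w := by
  rw [Cfsg.Agent.S2479P.BLOCKX.mulDet_eq_norm, Cfsg.Agent.S2479P.BLOCKX.mulDet_eq_norm,
    AdjoinRoot.mk_eq_mk.mpr h]

theorem mulDet_eq_zero_of_dvd (f u : F[X]) (hf : f.Monic) (hirr : Irreducible f) (h : f ∣ u) :
    mulDet f u = 0 := by
  haveI : Fact (Irreducible f) := ⟨hirr⟩
  haveI : Module.Finite F (AdjoinRoot f) := (AdjoinRoot.powerBasis' hf).finite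
  rw [Cfsg.Agent.S2479P.BLOCKX.mulDet_eq_norm, AdjoinRoot.mk_eq_zero.mpr h, Algebra.norm_zero]

theorem exists_unitary_pair (hF : Fintype.card F = q ^ 2) (N : ℕ) (hN : 0 < N) (p : F[X])
    (hp : p.Monic) (hirr : Irreducible p) (hpX : p ≠ X) (e : ℕ) (he : 1 ≤ e)
    (hpN : p ^ e ∣ X ^ N - 1) (c : F) (hc : c ^ (q + 1) = 1) :
    ∃ f₁ f₂ : F[X], p ^ e ∣ st (cj hF) N f₂ * f₁ - 1 ∧
      pdual (cj hF) p ^ e ∣ st (cj hF) N f₁ * f₂ - 1 ∧
      mulDet p f₁ * mulDet (pdual (cj hF) p) f₂ = c := by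
  classical
  set σ := cj hF with hσdef
  have hσ : ∀ x, σ (σ x) = x := Cfsg.Agent.Helper2.Herm.cj_cj hF
  have h0 : p.coeff 0 ≠ 0 := PDUAL.coeff_zero_ne_zero p hp hirr hpX
  set p' := pdual σ p with hp'def
  have hp' : p'.Monic := PDUAL.pdual_monic σ p hp h0
  have hp'irr : Irreducible p' := PDUAL.pdual_irreducible σ hσ p hp h0 hirr
  have h0' : p'.coeff 0 ≠ 0 := by
    rw [hp'def, PDUAL.pdual_coeff_zero σ p hp h0]
    exact inv_ne_zero ((map_ne_zero σ).2 h0)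
  have hpp : pdual σ p' = p := PDUAL.pdual_pdual σ hσ p hp h0
  have hp1N : p ∣ X ^ N - 1 := (dvd_pow_self p (by omega)).trans hpN
  have hp'N : p' ^ e ∣ X ^ N - 1 := DUALST.pdual_dvd σ N hN p hp h0 e hpN
  -- `b` and `f₁`
  obtain ⟨b, hb0, hbc⟩ := FIELD.exists_div_conj hF c hc
  obtain ⟨f₁, hf₁⟩ := Cfsg.Agent.S2479P.exists_mulDet_eq p hp hirr (Units.mk0 b hb0)
  rw [Units.val_mk0] at hf₁
  have hdet' : mulDet p' (st σ N f₁) = σ b := by
    rw [hp'def, SEMIDET.mulDet_st hF N hN p hp hirr hpX hp1N f₁, hf₁]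
  have hσb0 : σ b ≠ 0 := (map_ne_zero σ).2 hb0
  -- `p' ∤ st f₁`
  have hnd : ¬ p' ∣ st σ N f₁ := by
    intro hd
    rw [mulDet_eq_zero_of_dvd p' _ hp' hp'irr hd] at hdet'
    exact hσb0 hdet'.symm
  have hcop : IsCoprime (st σ N f₁) (p' ^ e) :=
    IsCoprime.pow_right ((Irreducible.coprime_iff_not_dvd hp'irr).2 hnd).symm
  obtain ⟨A, B, hAB⟩ := hcop
  -- `f₂ = A`
  have h2 : p' ^ e ∣ st σ N f₁ * A - 1 := by
    refine ⟨-B, ?_⟩
    have : st σ N f₁ * A - 1 = -(B * p' ^ e) := by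
      rw [← hAB]; ring
    rw [this]; ring
  refine ⟨f₁, A, ?_, h2, ?_⟩
  · -- apply `st`
    have h3 : st σ N (p' ^ e) ∣ st σ N (st σ N f₁ * A - 1) := map_dvd (st σ N) h2
    have h4 : p ^ e ∣ st σ N (p' ^ e) := by
      have := DUALST.pdual_dvd_st σ N hN p' hp' h0' e hp'N
      rwa [hpp] at this
    have h5 : p ^ e ∣ st σ N (st σ N f₁) * st σ N A - 1 := by
      have := h4.trans h3
      rwa [map_sub, map_mul, map_one] at this
    have h6 : p ^ e ∣ (st σ N (st σ N f₁) - f₁) * st σ N A :=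
      Dvd.dvd.mul_right (hpN.trans (STBASIC.st_st σ hσ N hN f₁)) _
    have := dvd_sub h5 h6
    have e1 : st σ N (st σ N f₁) * st σ N A - 1 - (st σ N (st σ N f₁) - f₁) * st σ N A =
        st σ N A * f₁ - 1 := by ring
    rwa [e1] at this
  · -- the determinant
    have h7 : p' ∣ st σ N f₁ * A - 1 := (dvd_pow_self p' (by omega)).trans h2
    have h8 : mulDet p' (st σ N f₁ * A) = 1 := by
      rw [mulDet_congr p' _ 1 h7, Cfsg.Agent.S2479P.mulDet_one_right]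
    rw [mulDet_mul_right, hdet'] at h8
    have h9 : mulDet p' A = (σ b)⁻¹ := eq_inv_of_mul_eq_one_right h8
    rw [hf₁, h9, ← hbc]
    rfl

end UNITPAIR

end Cfsg.Agent.S2481P
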