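import Mathlib
import Cfsg.Agent.Helper7.S2481Defs
import Cfsg.Agent.Helper14.SLk.Defs
import Cfsg.Agent.Helper7.S2481FRAMEKER

/-!
# S2481 Hermitian chapter, piece DIRECT (driver helper7; helper4)

A Hermitian frame on `⊤` gives `∑ e i deg p i = n` and the `F[X]`-module decomposition
`AEval' g ≃ ⨁ F[X]/(p i ^ e i)`.
-/

set_option autoImplicit false

namespace Cfsg.Agent.S2481P

open Polynomial DirectSum
open Cfsg.Agent.Helper2.Herm (cj)
open Cfsg.Agent.S2479P (mulDet)

universe u

namespace DIRECT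

variable {F : Type u} [Field F] [Fintype F] {n q : ℕ}

/-- `a • of v = of (a(g) v)` -/
theorem smul_of (g : Module.End F (Fin n → F)) (a : F[X]) (x : Fin n → F) :
    a • Module.AEval'.of g x = Module.AEval'.of g (aeval g a x) :=
  (Module.AEval.of_aeval_smul g a x).symm

/-- the component map `F[X]/(p^e) → AEval' g`, `[a] ↦ of (a(g) v)` -/
noncomputable def comp1 (g : Module.End F (Fin n → F)) (f : F[X]) (v : Fin n → F)
    (hv : aeval g f v = 0) : (F[X] ⧸ Submodule.span F[X] {f}) →ₗ[F[X]] Module.AEval' g :=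
  Submodule.liftQ _ (LinearMap.toSpanSingleton F[X] (Module.AEval' g) (Module.AEval'.of g v)) (by
    rw [Submodule.span_le]
    intro x hx
    rw [Set.mem_singleton_iff] at hx
    subst hx
    show LinearMap.toSpanSingleton F[X] (Module.AEval' g) (Module.AEval'.of g v) x = 0
    rw [LinearMap.toSpanSingleton_apply, smul_of, hv, map_zero])

theorem comp1_mk (g : Module.End F (Fin n → F)) (f : F[X]) (v : Fin n → F)
    (hv : aeval g f v = 0) (a : F[X]) :
    comp1 g f v hv (Submodule.Quotient.mk a) = Module.AEval'.of g (aeval g a v) := by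
  show LinearMap.toSpanSingleton F[X] (Module.AEval' g) (Module.AEval'.of g v) a = _
  rw [LinearMap.toSpanSingleton_apply, smul_of]

theorem frame_decomp (hF : Fintype.card F = q ^ 2) (N : ℕ) (hN : 0 < N)
    (g : Module.End F (Fin n → F)) (hg : IsIsom n q g) (hgN : g ^ N = 1)
    {ι : Type u} [Fintype ι] [DecidableEq ι] (p : ι → F[X]) (e : ι → ℕ) (dual : ι → ι)
    (v : ι → (Fin n → F)) (htd : IsTypeData (cj hF) p e dual)
    (hfr : HermFrame n q g ⊤ p e dual v) :
    ∑ i, e i * (p i).natDegree = n ∧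
    ∃ Φ : Module.AEval' g ≃ₗ[F[X]] ⨁ i, F[X] ⧸ Submodule.span F[X] {p i ^ e i},
      ∀ i (a : F[X]), Φ (Module.AEval'.of g (aeval g a (v i))) =
        DirectSum.lof F[X] ι (fun i => F[X] ⧸ Submodule.span F[X] {p i ^ e i}) i
          (Submodule.Quotient.mk a) := by
  classical
  -- the map `Ψ`
  set Ψ : (⨁ i, F[X] ⧸ Submodule.span F[X] {p i ^ e i}) →ₗ[F[X]] Module.AEval' g :=
    DirectSum.toModule F[X] ι (Module.AEval' g)
      (fun i => comp1 g (p i ^ e i) (v i) (hfr.ann i)) with hΨ
  have hΨlof : ∀ i (a : F[X]), Ψ (DirectSum.lof F[X] ι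
      (fun i => F[X] ⧸ Submodule.span F[X] {p i ^ e i}) i (Submodule.Quotient.mk a)) =
      Module.AEval'.of g (aeval g a (v i)) := by
    intro i a
    rw [hΨ, DirectSum.toModule_lof, comp1_mk]
  -- every element of the direct sum is `∑ lof i [a i]`
  have hrep : ∀ z : ⨁ i, F[X] ⧸ Submodule.span F[X] {p i ^ e i}, ∃ a : ι → F[X],
      z = ∑ i, DirectSum.lof F[X] ι (fun i => F[X] ⧸ Submodule.span F[X] {p i ^ e i}) i
        (Submodule.Quotient.mk (a i)) := by
    intro z
    have h1 : ∀ i, ∃ a : F[X], (Submodule.Quotient.mk a :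
        F[X] ⧸ Submodule.span F[X] {p i ^ e i}) = z i :=
      fun i => Submodule.Quotient.mk_surjective _ (z i)
    choose a ha using h1
    refine ⟨a, ?_⟩
    apply DFinsupp.ext
    intro j
    rw [DFinsupp.finsetSum_apply]
    rw [Finset.sum_eq_single j]
    · rw [DirectSum.lof_eq_of, DirectSum.of_eq_same, ha]
    · intro i _ hij
      rw [DirectSum.lof_eq_of, DirectSum.of_eq_of_ne _ _ _ hij.symm]
    · intro h; exact absurd (Finset.mem_univ j) h
  have hΨsum : ∀ a : ι → F[X], Ψ (∑ i, DirectSum.lof F[X] ι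
      (fun i => F[X] ⧸ Submodule.span F[X] {p i ^ e i}) i (Submodule.Quotient.mk (a i))) =
      Module.AEval'.of g (∑ i, aeval g (a i) (v i)) := by
    intro a
    rw [map_sum, map_sum]
    exact Finset.sum_congr rfl fun i _ => hΨlof i (a i)
  have hinj : Function.Injective Ψ := by
    rw [injective_iff_map_eq_zero]
    intro z hz
    obtain ⟨a, rfl⟩ := hrep z
    rw [hΨsum] at hz
    have h0 : ∑ i, aeval g (a i) (v i) = 0 := by
      have := congrArg (Module.AEval'.of g).symm hz
      rwa [LinearEquiv.symm_apply_apply, map_zero] at this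
    have hdvd := FRAMEKER.frame_indep hF N hN g hg hgN p e dual v ⊤ htd hfr a (by
      intro i b
      rw [h0]
      exact Cfsg.Agent.Helper2.Herm.hf_zero_left _)
    apply Finset.sum_eq_zero
    intro i _
    have : (Submodule.Quotient.mk (a i) : F[X] ⧸ Submodule.span F[X] {p i ^ e i}) = 0 := by
      rw [Submodule.Quotient.mk_eq_zero, Submodule.mem_span_singleton]
      obtain ⟨c, hc⟩ := hdvd i
      exact ⟨c, by rw [hc, smul_eq_mul, mul_comm]⟩
    rw [this, map_zero]
  have hsurj : Function.Surjective Ψ := by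
    intro y
    obtain ⟨x, rfl⟩ := (Module.AEval'.of g).surjective y
    obtain ⟨a, ha⟩ := (FRAMEKER.frame_mem g p e dual v ⊤ hfr x).1 Submodule.mem_top
    refine ⟨∑ i, DirectSum.lof F[X] ι (fun i => F[X] ⧸ Submodule.span F[X] {p i ^ e i}) i
      (Submodule.Quotient.mk (a i)), ?_⟩
    rw [hΨsum, ← ha]
  set Ψe := LinearEquiv.ofBijective Ψ ⟨hinj, hsurj⟩ with hΨe
  refine ⟨?_, Ψe.symm, ?_⟩
  · -- the dimension count
    have hfinq : ∀ i, Module.Finite F (F[X] ⧸ Submodule.span F[X] {p i ^ e i}) :=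
      fun i => ((htd.monic i).pow (e i)).finite_adjoinRoot
    have hΨF : ∀ (c : F) (z : ⨁ i, F[X] ⧸ Submodule.span F[X] {p i ^ e i}),
        Ψ (c • z) = c • Ψ z := by
      intro c z
      have h1 : c • z = (C c : F[X]) • z := by
        apply DFinsupp.ext
        intro i
        rw [DFinsupp.smul_apply, DFinsupp.smul_apply, ← algebraMap_eq, algebraMap_smul]
      have h2 : c • Ψ z = (C c : F[X]) • Ψ z := by
        rw [← algebraMap_eq, algebraMap_smul]
      rw [h1, h2, map_smul]
    let ΨF : (⨁ i, F[X] ⧸ Submodule.span F[X] {p i ^ e i}) ≃ₗ[F] Module.AEval' g :=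
      { Ψe.toAddEquiv with
        map_smul' := fun c z => hΨF c z }
    have h1 : Module.finrank F (⨁ i, F[X] ⧸ Submodule.span F[X] {p i ^ e i}) =
        Module.finrank F (Module.AEval' g) := ΨF.finrank_eq
    have h2 : Module.finrank F (Module.AEval' g) = n := by
      rw [← ((Module.AEval'.of g).restrictScalars F).finrank_eq, Module.finrank_fin_fun]
    have h3 : Module.finrank F (⨁ i, F[X] ⧸ Submodule.span F[X] {p i ^ e i}) =
        ∑ i, Module.finrank F (F[X] ⧸ Submodule.span F[X] {p i ^ e i}) := by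
      rw [(DirectSum.linearEquivFunOnFintype F ι
        (fun i => F[X] ⧸ Submodule.span F[X] {p i ^ e i})).finrank_eq, Module.finrank_pi_fintype]
    have h4 : ∀ i, Module.finrank F (F[X] ⧸ Submodule.span F[X] {p i ^ e i}) =
        e i * (p i).natDegree := by
      intro i
      have := finrank_quotient_span_eq_natDegree (K := F) (f := p i ^ e i)
      rw [natDegree_pow] at this
      exact this
    rw [← h2, ← h1, h3]
    exact (Finset.sum_congr rfl fun i _ => h4 i).symm
  · intro i a
    rw [LinearEquiv.symm_apply_eq]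
    exact (hΨlof i a).symm

end DIRECT

end Cfsg.Agent.S2481P
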