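import Mathlib
import Cfsg.Agent.Helper7.S2481Defs
import Cfsg.Agent.Helper14.SLk.Defs
import Cfsg.Agent.Helper7.S2481STBASIC
import Cfsg.Agent.Helper7.S2481PDUAL
import Cfsg.Agent.Helper7.S2481DUALST
import Cfsg.Agent.Helper21.S2481ADJ

/-!
# S2481 Hermitian chapter, piece PRIMORTH (driver helper7; helper4)

The primary components for `p` and `r`, `r ≠ pdual p`, are orthogonal.
-/

set_option autoImplicit false

namespace Cfsg.Agent.S2481P

open Polynomial DirectSum
open Cfsg.Agent.Helper2.Herm (cj)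
open Cfsg.Agent.S2479P (mulDet)

namespace PRIMORTH

variable {F : Type*} [Field F] [Fintype F] {n q : ℕ}

/-- `a(g) = b(g)` when `X^N - 1 ∣ a - b` -/
theorem aeval_congr (N : ℕ) (g : Module.End F (Fin n → F)) (hgN : g ^ N = 1) (a b : F[X])
    (h : (X ^ N - 1 : F[X]) ∣ a - b) : aeval g a = aeval g b := by
  have h1 := STBASIC.aeval_eq_zero_of_dvd N g hgN _ h
  rwa [map_sub, sub_eq_zero] at h1

theorem prim_orth (hF : Fintype.card F = q ^ 2) (N : ℕ) (hN : 0 < N)
    (g : Module.End F (Fin n → F)) (hg : IsIsom n q g) (hgN : g ^ N = 1)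
    (p r : F[X]) (hp : p.Monic) (hpirr : Irreducible p) (hpX : p ≠ X)
    (hr : r.Monic) (hrirr : Irreducible r) (hne : r ≠ pdual (cj hF) p) (k l : ℕ)
    (x y : Fin n → F) (hx : aeval g (p ^ k) x = 0) (hy : aeval g (r ^ l) y = 0) :
    Cfsg.hermForm n F q x y = 0 := by
  set σ := cj hF with hσdef
  have hσ : ∀ x, σ (σ x) = x := Cfsg.Agent.Helper2.Herm.cj_cj hF
  have h0 : p.coeff 0 ≠ 0 := PDUAL.coeff_zero_ne_zero p hp hpirr hpX
  set p' := pdual σ p with hp'def
  have hp' : p'.Monic := PDUAL.pdual_monic σ p hp h0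
  have hp'irr : Irreducible p' := PDUAL.pdual_irreducible σ hσ p hp h0 hpirr
  -- coprimality
  have hcop : IsCoprime (p' ^ k) (r ^ l) := by
    apply IsCoprime.pow
    rw [Irreducible.coprime_iff_not_dvd hp'irr]
    intro hdvd
    have hass : Associated p' r := hp'irr.associated_of_dvd hrirr hdvd
    exact hne (eq_of_monic_of_associated hp' hr hass).symm
  obtain ⟨A, B, hAB⟩ := hcop
  -- `y = (A p'^k)(g) y`
  have hy1 : y = aeval g (A * p' ^ k) y := by
    have h1 : aeval g (A * p' ^ k + B * r ^ l) y = y := by rw [hAB, map_one, Module.End.one_apply]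
    rw [map_add, LinearMap.add_apply, map_mul (aeval g) B, Module.End.mul_apply, hy, map_zero,
      add_zero] at h1
    exact h1.symm
  -- the unit `w'`
  obtain ⟨w, w', hww', hst⟩ := DUALST.exists_unit_mul σ N hN p h0
  have hd1 : (X ^ N - 1 : F[X]) ∣ p' - w' * st σ N p := by
    have : p' - w' * st σ N p = -(p' * (w * w' - 1)) - w' * (st σ N p - w * p') := by ring
    rw [this]
    exact dvd_sub (dvd_neg.mpr (Dvd.dvd.mul_left hww' _)) (Dvd.dvd.mul_left hst _)
  have hd2 : (X ^ N - 1 : F[X]) ∣ p' ^ k - (w' * st σ N p) ^ k :=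
    hd1.trans (sub_dvd_pow_sub_pow _ _ k)
  have hd3 : (X ^ N - 1 : F[X]) ∣ A * p' ^ k - A * (w' * st σ N p) ^ k := by
    rw [← mul_sub]
    exact Dvd.dvd.mul_left hd2 _
  have hy2 : aeval g (A * p' ^ k) y = aeval g (A * (w' * st σ N p) ^ k) y := by
    rw [aeval_congr N g hgN _ _ hd3]
  rw [hy1, hy2, ADJ.adj_right hF N hN g hg hgN]
  -- `st (A (w' st p)^k) ≡ st A (st w')^k p^k`
  have hd4 : (X ^ N - 1 : F[X]) ∣ st σ N (st σ N p) ^ k - p ^ k :=
    (STBASIC.st_st σ hσ N hN p).trans (sub_dvd_pow_sub_pow _ _ k)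
  have hd5 : (X ^ N - 1 : F[X]) ∣ st σ N (A * (w' * st σ N p) ^ k) -
      st σ N A * st σ N w' ^ k * p ^ k := by
    have : st σ N (A * (w' * st σ N p) ^ k) - st σ N A * st σ N w' ^ k * p ^ k =
        st σ N A * st σ N w' ^ k * (st σ N (st σ N p) ^ k - p ^ k) := by
      rw [map_mul, map_pow, map_mul, mul_pow]
      ring
    rw [this]
    exact Dvd.dvd.mul_left hd4 _
  have hx2 : aeval g (st σ N (A * (w' * st σ N p) ^ k)) x = 0 := by
    rw [aeval_congr N g hgN _ _ hd5, map_mul, Module.End.mul_apply, hx, map_zero]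
  rw [hx2]
  exact Cfsg.Agent.Helper2.Herm.hf_zero_left y

end PRIMORTH

end Cfsg.Agent.S2481P
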