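import Mathlib

set_option autoImplicit false
set_option linter.style.haveILetI false
set_option linter.unusedSectionVars false

/-!
# Minimal normal subgroups are direct powers of simple groups
-/

namespace Cfsg.Agent.Helper4

section Aux

/-- `(Fin m → T) × T ≃* (Fin (m + 1) → T)`. -/
def piSuccMulEquiv (T : Type*) [Group T] (m : ℕ) : ((Fin m → T) × T) ≃* (Fin (m + 1) → T) where
  toFun p := @Fin.cons m (fun _ => T) p.2 p.1
  invFun f := (fun i => f i.succ, f 0)
  left_inv p := by
    ext <;> simp
  right_inv f := by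
    funext i
    refine Fin.cases ?_ ?_ i <;> simp
  map_mul' p q := by
    funext i
    refine Fin.cases ?_ ?_ i <;> simp

variable {Γ : Type*} [Group Γ]

/-- Internal direct product of two disjoint normal subgroups. -/
theorem nonempty_prod_mulEquiv_sup (A B : Subgroup Γ) (hA : A.Normal) (hB : B.Normal)
    (hd : Disjoint A B) : Nonempty ((A × B) ≃* ↥(A ⊔ B)) := by
  have hcomm : ∀ (a : A) (b : B), Commute (A.subtype a) (B.subtype b) :=
    fun a b => Subgroup.commute_of_normal_of_disjoint A B hA hB hd a.1 b.1 a.2 b.2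
  set f : A × B →* Γ := MonoidHom.noncommCoprod A.subtype B.subtype hcomm with hf
  have hinj : Function.Injective f := by
    rw [hf, MonoidHom.noncommCoprod_injective]
    refine ⟨A.subtype_injective, B.subtype_injective, ?_⟩
    rw [Subgroup.range_subtype, Subgroup.range_subtype]
    exact hd
  have hrange : f.range = A ⊔ B := by
    rw [hf, MonoidHom.noncommCoprod_range, Subgroup.range_subtype, Subgroup.range_subtype]
  exact ⟨(MonoidHom.ofInjective hinj).trans (MulEquiv.subgroupCongr hrange)⟩

end Aux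

section Main

open scoped Pointwise

variable {Γ : Type*} [Group Γ] [Finite Γ] [Nontrivial Γ] {A : Type*} [Group A]

/-- A finite non-trivial group with no proper non-trivial normal subgroup invariant under a
group `A` of automorphisms is a direct power of a simple group. -/
theorem charSimple_iso_pi (φ : A →* MulAut Γ)
    (hchar : ∀ M : Subgroup Γ, M.Normal → (∀ a : A, M.map (φ a).toMonoidHom ≤ M) →
      M = ⊥ ∨ M = ⊤) :
    ∃ (T : Subgroup Γ) (m : ℕ), IsSimpleGroup T ∧ Nonempty (Γ ≃* (Fin (m + 1) → T)) := by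
  classical
  -- Step 1: a minimal normal subgroup
  let 𝒩 : Set (Subgroup Γ) := {K | K.Normal ∧ K ≠ ⊥}
  have h𝒩 : 𝒩.Nonempty := ⟨⊤, inferInstance, top_ne_bot⟩
  obtain ⟨T1, ⟨hT1n, hT1ne⟩, hT1min⟩ := wellFounded_lt.has_min 𝒩 h𝒩
  have hmin1 : ∀ K : Subgroup Γ, K.Normal → K ≤ T1 → K = ⊥ ∨ K = T1 := by
    intro K hK hle
    by_contra hcon
    push Not at hcon
    exact hT1min K ⟨hK, hcon.1⟩ (lt_of_le_of_ne hle hcon.2)
  -- the conjugates
  let Tc : A → Subgroup Γ := fun a => T1.map (φ a).toMonoidHom
  have hTcn : ∀ a, (Tc a).Normal := fun a => hT1n.map _ (φ a).surjective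
  have hTcmin : ∀ (a : A) (K : Subgroup Γ), K.Normal → K ≤ Tc a → K = ⊥ ∨ K = Tc a := by
    intro a K hK hle
    have h1 : (K.comap (φ a).toMonoidHom).Normal := hK.comap _
    have h2 : K.comap (φ a).toMonoidHom ≤ T1 := by
      intro x hx
      obtain ⟨y, hy, hxy⟩ := hle hx
      have : y = x := (φ a).injective hxy
      rw [← this]
      exact hy
    have h3 : (K.comap (φ a).toMonoidHom).map (φ a).toMonoidHom = K :=
      Subgroup.map_comap_eq_self_of_surjective (φ a).surjective K
    rcases hmin1 _ h1 h2 with h | h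
    · left
      rw [← h3, h, Subgroup.map_bot]
    · right
      rw [← h3, h]
  -- Step 3: a maximal direct product avoiding T1
  let 𝒮 : Set (Subgroup Γ) :=
    {M | M.Normal ∧ M ⊓ T1 = ⊥ ∧ ∃ m : ℕ, Nonempty (M ≃* (Fin m → T1))}
  have h𝒮 : 𝒮.Nonempty := ⟨⊥, inferInstance, bot_inf_eq _, 0, ⟨MulEquiv.ofUnique⟩⟩
  obtain ⟨M, ⟨hMn, hMT, m, ⟨eM⟩⟩, hMmax⟩ := wellFounded_gt.has_min 𝒮 h𝒮
  set M1 := M ⊔ T1 with hM1
  haveI := hMn
  haveI := hT1n
  have hM1n : M1.Normal := inferInstance
  have hall : ∀ a, Tc a ≤ M1 := by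
    intro a
    by_contra hnot
    haveI := hTcn a
    have hI : Tc a ⊓ M1 = ⊥ := by
      have hn : (Tc a ⊓ M1).Normal := inferInstance
      rcases hTcmin a _ hn inf_le_left with h | h
      · exact h
      · exfalso
        apply hnot
        rw [← h]
        exact inf_le_right
    have hMTa : Disjoint M (Tc a) := by
      rw [disjoint_iff, eq_bot_iff, ← hI]
      exact le_inf inf_le_right (inf_le_left.trans le_sup_left)
    obtain ⟨e1⟩ := nonempty_prod_mulEquiv_sup M (Tc a) hMn (hTcn a) hMTa
    have hM'n : (M ⊔ Tc a).Normal := inferInstance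
    have hM'T : (M ⊔ Tc a) ⊓ T1 = ⊥ := by
      rw [Subgroup.eq_bot_iff_forall]
      rintro x ⟨hx1, hx2⟩
      have hx1' : x ∈ (↑(M ⊔ Tc a) : Set Γ) := hx1
      rw [Subgroup.normal_mul] at hx1'
      obtain ⟨u, hu, t, ht, rfl⟩ := Set.mem_mul.mp hx1'
      have ht1 : t ∈ M1 := by
        have : t = u⁻¹ * (u * t) := by group
        rw [this]
        exact M1.mul_mem (M1.inv_mem (Subgroup.mem_sup_left hu)) (Subgroup.mem_sup_right hx2)
      have htI : t ∈ Tc a ⊓ M1 := ⟨ht, ht1⟩
      rw [hI, Subgroup.mem_bot] at htI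
      subst htI
      rw [mul_one] at hx2 ⊢
      have : u ∈ M ⊓ T1 := ⟨hu, hx2⟩
      rwa [hMT, Subgroup.mem_bot] at this
    have e2 : (M ⊔ Tc a : Subgroup Γ) ≃* (Fin (m + 1) → T1) :=
      e1.symm.trans ((MulEquiv.prodCongr eM ((φ a).subgroupMap T1).symm).trans
        (piSuccMulEquiv T1 m))
    have hmem : M ⊔ Tc a ∈ 𝒮 := ⟨hM'n, hM'T, m + 1, ⟨e2⟩⟩
    have hlt : M < M ⊔ Tc a := by
      refine lt_of_le_of_ne le_sup_left ?_
      intro h
      apply hnot
      calc Tc a ≤ M ⊔ Tc a := le_sup_right
        _ = M := h.symm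
        _ ≤ M1 := le_sup_left
    exact hMmax _ hmem hlt
  -- Step 5: M1 = ⊤
  have hM1top : M1 = ⊤ := by
    let R : Subgroup Γ := ⨆ a, Tc a
    haveI : ∀ a, (Tc a).Normal := hTcn
    have hRn : R.Normal := inferInstance
    have hRinv : ∀ b, R.map (φ b).toMonoidHom ≤ R := by
      intro b
      rw [Subgroup.map_iSup]
      apply iSup_le
      intro a
      have : (Tc a).map (φ b).toMonoidHom = Tc (b * a) := by
        simp only [Tc]
        rw [Subgroup.map_map]
        congr 1
        ext x
        simp [map_mul]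
      rw [this]
      exact le_iSup Tc (b * a)
    have hRne : R ≠ ⊥ := by
      intro h
      apply hT1ne
      have h0 : Tc 1 ≤ R := le_iSup Tc 1
      have h1 : Tc 1 = T1 := by
        simp only [Tc, map_one]
        ext x
        simp
      rw [h1, h] at h0
      exact le_bot_iff.mp h0
    rcases hchar R hRn hRinv with h | h
    · exact absurd h hRne
    · apply top_le_iff.mp
      rw [← h]
      exact iSup_le hall
  -- Step 6: the isomorphism
  have hMT1 : Disjoint M T1 := by rw [disjoint_iff]; exact hMT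
  obtain ⟨e1⟩ := nonempty_prod_mulEquiv_sup M T1 hMn hT1n hMT1
  have e3 : Γ ≃* (Fin (m + 1) → T1) :=
    (Subgroup.topEquiv.symm.trans (MulEquiv.subgroupCongr hM1top.symm)).trans
      (e1.symm.trans ((MulEquiv.prodCongr eM (MulEquiv.refl T1)).trans (piSuccMulEquiv T1 m)))
  refine ⟨T1, m, ?_, ⟨e3⟩⟩
  -- Step 7: T1 is simple
  haveI : Nontrivial T1 := (Subgroup.nontrivial_iff_ne_bot T1).mpr hT1ne
  refine ⟨fun K hK => ?_⟩
  -- K' = image of K in Γ is normal in Γ
  let K' : Subgroup Γ := K.map T1.subtype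
  have hK'le : K' ≤ T1 := Subgroup.map_subtype_le K
  have hK'n : K'.Normal := by
    have hnorm : M1 ≤ Subgroup.normalizer (K' : Set Γ) := by
      rw [hM1]
      apply sup_le
      · -- M centralises T1
        intro u hu
        rw [Subgroup.mem_normalizer_iff]
        intro x
        have hcomm : ∀ y ∈ T1, u * y * u⁻¹ = y := by
          intro y hy
          have := Subgroup.commute_of_normal_of_disjoint M T1 hMn hT1n hMT1 u y hu hy
          rw [this.eq, mul_inv_cancel_right]
        constructor
        · intro hx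
          rw [hcomm x (hK'le hx)]
          exact hx
        · intro hx
          have hxT : u * x * u⁻¹ ∈ T1 := hK'le hx
          have hxT' : x ∈ T1 := by
            have := hT1n.conj_mem _ hxT u⁻¹
            simpa [mul_assoc] using this
          rw [hcomm x hxT'] at hx
          exact hx
      · -- T1 normalises K'
        intro t ht
        rw [Subgroup.mem_normalizer_iff]
        intro x
        constructor
        · rintro ⟨k, hk, rfl⟩
          exact ⟨⟨t, ht⟩ * k * ⟨t, ht⟩⁻¹, hK.conj_mem k hk ⟨t, ht⟩, by simp⟩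
        · intro hx
          have hxT : t * x * t⁻¹ ∈ T1 := hK'le hx
          have hxT' : x ∈ T1 := by
            have := T1.mul_mem (T1.mul_mem (T1.inv_mem ht) hxT) ht
            simpa [mul_assoc] using this
          obtain ⟨k, hk, hkx⟩ := hx
          refine ⟨⟨x, hxT'⟩, ?_, rfl⟩
          have : (⟨x, hxT'⟩ : T1) = ⟨t, ht⟩⁻¹ * k * ⟨t, ht⟩⁻¹⁻¹ := by
            apply Subtype.ext
            simp only [Subgroup.coe_mul, Subgroup.coe_inv, inv_inv]
            have hkx' : (k : Γ) = t * x * t⁻¹ := hkx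
            rw [hkx']
            group
          rw [this]
          exact hK.conj_mem k hk _
    rw [hM1top] at hnorm
    exact Subgroup.normalizer_eq_top_iff.mp (top_le_iff.mp hnorm)
  rcases hmin1 K' hK'n hK'le with h | h
  · left
    rw [eq_bot_iff]
    intro k hk
    have : (k : Γ) ∈ K' := ⟨k, hk, rfl⟩
    rw [h, Subgroup.mem_bot] at this
    rw [Subgroup.mem_bot]
    exact Subtype.ext this
  · right
    rw [eq_top_iff]
    intro k _
    have : (k : Γ) ∈ K' := by rw [h]; exact k.2
    obtain ⟨k', hk', hkk'⟩ := this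
    have : k' = k := Subtype.ext hkk'
    rw [← this]
    exact hk'

end Main

end Cfsg.Agent.Helper4
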