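import Mathlib
import Cfsg.Agent.Helper14.S2863Defs

/-! Board `s2863pieces`, row PFIX (helper4): the core, with the rows PDECOMP, PCLE, PCENT as hypotheses. -/

set_option autoImplicit false
set_option linter.unusedVariables false
set_option linter.unusedSectionVars false

namespace Cfsg.Agent.S2863P

open Cfsg Subgroup
open Cfsg.Agent.Helper14 (cj)

section P
variable {G : Type*} [Group G] {L A C Y1 Y2 : Subgroup G}

/-- the elements of `L` that centralise `w` modulo the central subgroup `C` -/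
def PFIX_aux_St (L C : Subgroup G) (hC : C ≤ centralizer (L : Set G)) (w : G) : Subgroup G where
  carrier := {g | g ∈ L ∧ g * w * g⁻¹ * w⁻¹ ∈ C}
  one_mem' := by
    refine ⟨L.one_mem, ?_⟩
    simp
  mul_mem' := by
    rintro g k ⟨hg, hgc⟩ ⟨hk, hkc⟩
    refine ⟨L.mul_mem hg hk, ?_⟩
    have e : g * k * w * (g * k)⁻¹ * w⁻¹ = g * (k * w * k⁻¹ * w⁻¹) * g⁻¹ * (g * w * g⁻¹ * w⁻¹) := by group
    have hcomm : g * (k * w * k⁻¹ * w⁻¹) = (k * w * k⁻¹ * w⁻¹) * g :=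
      (mem_centralizer_iff.mp (hC hkc)) g hg
    rw [e, hcomm, mul_inv_cancel_right]
    exact C.mul_mem hkc hgc
  inv_mem' := by
    rintro g ⟨hg, hgc⟩
    refine ⟨L.inv_mem hg, ?_⟩
    have e : g⁻¹ * w * g⁻¹⁻¹ * w⁻¹ = g⁻¹ * (g * w * g⁻¹ * w⁻¹)⁻¹ * g := by group
    have hcomm : g * (g * w * g⁻¹ * w⁻¹)⁻¹ = (g * w * g⁻¹ * w⁻¹)⁻¹ * g :=
      (mem_centralizer_iff.mp (hC (C.inv_mem hgc))) g hg
    have h2 : g⁻¹ * (g * w * g⁻¹ * w⁻¹)⁻¹ * g = (g * w * g⁻¹ * w⁻¹)⁻¹ := by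
      rw [mul_assoc, ← hcomm, inv_mul_cancel_left]
    rw [e, h2]
    exact C.inv_mem hgc

theorem PFIX_aux_mem_St {L C : Subgroup G} {hC : C ≤ centralizer (L : Set G)} {w g : G} :
    g ∈ PFIX_aux_St L C hC w ↔ g ∈ L ∧ g * w * g⁻¹ * w⁻¹ ∈ C := Iff.rfl

/-- PFIX core. -/
theorem PFIX_aux_core (P : Pair L A C Y1 Y2)
    (hCle : C ≤ Y1 ⊓ A ∧ C ≤ Y2 ⊓ A ∧ C ≤ centralizer (L : Set G))
    (hcent : ∀ a ∈ A, (∀ l ∈ L, l * a * l⁻¹ * a⁻¹ ∈ C) → a ∈ C)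
    {t a : G} (ht : t ∈ Y1) (htA : t ∉ A) (ha : a ∈ A)
    (hdec : ∃ w1 ∈ Y1 ⊓ A, ∃ w2 ∈ Y2 ⊓ A, a = w1 * w2)
    (h : t * a * t⁻¹ * a⁻¹ ∈ C) : a ∈ Y1 ⊓ A := by
  obtain ⟨hC1, hC2, hCL⟩ := hCle
  obtain ⟨w1, hw1, w2, hw2, rfl⟩ := hdec
  have htL : t ∈ L := P.h1L ht
  have hw1L : w1 ∈ L := P.h1L hw1.1
  -- `[t, w2] ∈ C`
  have htw1 : t * w1 = w1 * t := P.comm1 t ht w1 hw1.1
  have e1 : t * w2 * t⁻¹ * w2⁻¹ = w1⁻¹ * (t * (w1 * w2) * t⁻¹ * (w1 * w2)⁻¹) * w1 := by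
    have : t * (w1 * w2) * t⁻¹ * (w1 * w2)⁻¹ = w1 * (t * w2 * t⁻¹ * w2⁻¹) * w1⁻¹ := by
      rw [← mul_assoc, htw1]; group
    rw [this]; group
  have hcw : w1 * (t * (w1 * w2) * t⁻¹ * (w1 * w2)⁻¹) = (t * (w1 * w2) * t⁻¹ * (w1 * w2)⁻¹) * w1 :=
    (mem_centralizer_iff.mp (hCL h)) w1 hw1L
  have htw2 : t * w2 * t⁻¹ * w2⁻¹ ∈ C := by
    rw [e1, mul_assoc, ← hcw, inv_mul_cancel_left]
    exact h
  -- the stabiliser of `w2` is `L`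
  have hSt : PFIX_aux_St L C hCL w2 = L := by
    by_contra hne
    have hY2 : Y2 ≤ PFIX_aux_St L C hCL w2 := by
      intro s hs
      refine ⟨P.h2L hs, ?_⟩
      have : s * w2 = w2 * s := P.comm2 s hs w2 hw2.1
      rw [this, mul_inv_cancel_right, mul_inv_cancel]
      exact C.one_mem
    have hle : PFIX_aux_St L C hCL w2 ≤ L := fun g hg => hg.1
    have := P.max2 _ hY2 hle hne
    exact P.sr1 t ht htA (this ⟨htL, htw2⟩)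
  have hw2C : w2 ∈ C := by
    apply hcent w2 hw2.2
    intro l hl
    have : l ∈ PFIX_aux_St L C hCL w2 := by rw [hSt]; exact hl
    exact this.2
  exact (Y1 ⊓ A).mul_mem hw1 (hC1 hw2C)

end P

end Cfsg.Agent.S2863P
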