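import Mathlib
import Cfsg.Agent.Helper14.S2863Defs
import Cfsg.Agent.Helper22.S2863PBASIC
import Cfsg.Agent.Helper4.S2863PFIXcore

/-! Board `s2863pieces`, row PCENT (hedge by helper4): `C_{A/C}(L) = 1`. -/

set_option autoImplicit false
set_option linter.unusedVariables false
set_option linter.unusedSectionVars false

namespace Cfsg.Agent.S2863P

open Cfsg Subgroup
open Cfsg.Agent.Helper14 (cj)

section P
variable {G : Type*} [Group G] {L A C Y1 Y2 : Subgroup G}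

/-- half of PCENT: an `L`-fixed (mod `C`) vector of `W1` lies in `C`. -/
theorem PCENT_aux_half (P : Pair L A C Y1 Y2) {w : G} (hw : w ∈ Y1 ⊓ A)
    (h : ∀ l ∈ L, l * w * l⁻¹ * w⁻¹ ∈ C) : w ∈ C := by
  obtain ⟨hC1, hC2, hCL⟩ := P.C_le
  obtain ⟨g, hg, hgY⟩ := P.swap
  have h1 : g * w * g⁻¹ ∈ Y2 := by
    rw [← hgY]
    exact ⟨w, hw.1, rfl⟩
  have h2 : g * w * g⁻¹ ∈ A := (mem_normalizer_iff.mp (P.hLA hg) w).mp hw.2
  have h3 : w ∈ Y2 ⊓ A := by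
    have e : w = (g * w * g⁻¹ * w⁻¹)⁻¹ * (g * w * g⁻¹) := by group
    rw [e]
    exact (Y2 ⊓ A).mul_mem ((Y2 ⊓ A).inv_mem (hC2 (h g hg))) ⟨h1, h2⟩
  rw [← P.hC]
  exact ⟨hw, h3⟩

/-- the `Y1`-part of an `L`-fixed vector is `L`-fixed -/
theorem PCENT_aux_part (P : Pair L A C Y1 Y2) {w1 w2 : G} (hw1 : w1 ∈ Y1 ⊓ A) (hw2 : w2 ∈ Y2 ⊓ A)
    (h : ∀ l ∈ L, l * (w1 * w2) * l⁻¹ * (w1 * w2)⁻¹ ∈ C) : ∀ l ∈ L, l * w1 * l⁻¹ * w1⁻¹ ∈ C := by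
  obtain ⟨hC1, hC2, hCL⟩ := P.C_le
  have hw2L : w2 ∈ L := P.h2L hw2.1
  have hY1 : Y1 ≤ PFIX_aux_St L C hCL w1 := by
    intro y hy
    refine ⟨P.h1L hy, ?_⟩
    have : y * w1 = w1 * y := P.comm1 y hy w1 hw1.1
    rw [this, mul_inv_cancel_right, mul_inv_cancel]
    exact C.one_mem
  have hY2 : Y2 ≤ PFIX_aux_St L C hCL w1 := by
    intro y hy
    refine ⟨P.h2L hy, ?_⟩
    have hyw : y * w2 = w2 * y := P.comm2 y hy w2 hw2.1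
    have e : y * (w1 * w2) * y⁻¹ * (w1 * w2)⁻¹ = y * w1 * y⁻¹ * w1⁻¹ := by
      have : y * (w1 * w2) * y⁻¹ = y * w1 * y⁻¹ * w2 := by
        have hyw' : w2 * y⁻¹ = y⁻¹ * w2 := by
          rw [eq_inv_mul_iff_mul_eq, ← mul_assoc, hyw, mul_inv_cancel_right]
        rw [← mul_assoc, mul_assoc (y * w1), hyw', ← mul_assoc]
      rw [this]; group
    rw [← e]
    exact h y (P.h2L hy)
  have hL : L ≤ PFIX_aux_St L C hCL w1 := by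
    have := sup_le hY1 hY2
    rwa [P.gen] at this
  intro l hl
  exact (hL hl).2

/-- PCENT : `C_{A/C}(L) = 1`. -/
theorem Pair.cent (P : Pair L A C Y1 Y2) {a : G} (ha : a ∈ A)
    (h : ∀ l ∈ L, l * a * l⁻¹ * a⁻¹ ∈ C) : a ∈ C := by
  obtain ⟨hC1, hC2, hCL⟩ := P.C_le
  obtain ⟨w1, hw1, w2, hw2, rfl⟩ := P.decomp ha
  have hw1L : w1 ∈ L := P.h1L hw1.1
  have hf1 := PCENT_aux_part P hw1 hw2 h
  have hw1C : w1 ∈ C := PCENT_aux_half P hw1 hf1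
  -- `w2` is `L`-fixed as well
  have hf2 : ∀ l ∈ L, l * w2 * l⁻¹ * w2⁻¹ ∈ C := by
    intro l hl
    have e : l * w2 * l⁻¹ * w2⁻¹ =
        w1⁻¹ * ((l * w1 * l⁻¹ * w1⁻¹)⁻¹ * (l * (w1 * w2) * l⁻¹ * (w1 * w2)⁻¹)) * w1 := by group
    have hc : (l * w1 * l⁻¹ * w1⁻¹)⁻¹ * (l * (w1 * w2) * l⁻¹ * (w1 * w2)⁻¹) ∈ C :=
      C.mul_mem (C.inv_mem (hf1 l hl)) (h l hl)
    have hcomm := (mem_centralizer_iff.mp (hCL hc)) w1 hw1L
    rw [e, mul_assoc, ← hcomm, inv_mul_cancel_left]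
    exact hc
  have hw2C : w2 ∈ C := PCENT_aux_half P.symm hw2 hf2
  exact C.mul_mem hw1C hw2C

end P

end Cfsg.Agent.S2863P
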