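import Mathlib
import Cfsg.Agent.Helper14.S2863Defs
import Cfsg.Agent.Helper22.S2863PBASIC
import Cfsg.Agent.Helper4.S2863PFIXcore
import Cfsg.Agent.Helper4.S2863PCENT

/-! Board `s2863pieces`, row PFIX (helper4): `C_{A/C}(t) = W1 / C` for `t ∈ Y1 ∖ A`. -/

set_option autoImplicit false
set_option linter.unusedVariables false
set_option linter.unusedSectionVars false

namespace Cfsg.Agent.S2863P

open Cfsg Subgroup
open Cfsg.Agent.Helper14 (cj)

section P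
variable {G : Type*} [Group G] {L A C Y1 Y2 : Subgroup G}

/-- PFIX : `C_{A/C}(t) = W1 / C` for `t ∈ Y1 ∖ A`.  (`a = w1 w2`, `[t, w2] ∈ C`; `R = ⟨t, Y2⟩` centralises `w2` mod `C`; `R ≠ L` is
impossible by `max2` and `sr1`; so `w2 ∈ C` by PCENT.) -/
theorem Pair.fix1 (P : Pair L A C Y1 Y2) {t a : G} (ht : t ∈ Y1) (htA : t ∉ A) (ha : a ∈ A)
    (h : t * a * t⁻¹ * a⁻¹ ∈ C) : a ∈ Y1 ⊓ A :=
  PFIX_aux_core P P.C_le (fun a ha hf => P.cent ha hf) ht htA ha (P.decomp ha) h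

end P

end Cfsg.Agent.S2863P
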