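import Mathlib
import Cfsg.Agent.Helper14.S2863Defs

/-! Board `s2863pieces`, row PSQ (helper4): the core, with the rows PCLE, PABEL, PDECOMP, PCOMM, PFIX, PPROD as hypotheses.
(The hypotheses `p ≠ 2`, `IsPGroup p A`, `hcen` of the row are not needed: `n = t s` inverts modulo `C` every vector fixed by
`h ≡ n²`, and then PCOMM + PFIX finish.) -/

set_option autoImplicit false
set_option linter.unusedVariables false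
set_option linter.unusedSectionVars false

namespace Cfsg.Agent.S2863P

open Cfsg Subgroup
open Cfsg.Agent.Helper14 (cj)

section P
variable {G : Type*} [Group G] {L A C Y1 Y2 : Subgroup G}

/-- `n` inverts modulo `C` the vectors fixed by `h = n² a0`. -/
theorem PSQ_aux_inv (hAL : A ≤ L) (hLA : L ≤ normalizer (A : Set G)) (hCL : C ≤ centralizer (L : Set G))
    (habel : ∀ a ∈ A, ∀ b ∈ A, a * b * a⁻¹ * b⁻¹ ∈ C)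
    {n a0 h : G} (hn : n ∈ L) (ha0 : a0 ∈ A) (hh : h = n ^ 2 * a0) (hprod : FPF A C n)
    {w : G} (hw : w ∈ A) (hfix : h * w * h⁻¹ * w⁻¹ ∈ C) : w * (n * w * n⁻¹) ∈ C := by
  have hhL : h ∈ L := by rw [hh]; exact L.mul_mem (L.pow_mem hn 2) (hAL ha0)
  have hu : n * w * n⁻¹ ∈ A := (mem_normalizer_iff.mp (hLA hn) w).mp hw
  have hv : n ^ 2 * w * (n ^ 2)⁻¹ ∈ A := (mem_normalizer_iff.mp (hLA (L.pow_mem hn 2)) w).mp hw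
  have hx : w * (n * w * n⁻¹) ∈ A := A.mul_mem hw hu
  apply hprod _ hx
  have hc1 : a0⁻¹ * w * a0⁻¹⁻¹ * w⁻¹ ∈ C := habel _ (A.inv_mem ha0) _ hw
  have hc1' : h * (a0⁻¹ * w * a0⁻¹⁻¹ * w⁻¹) * h⁻¹ = a0⁻¹ * w * a0⁻¹⁻¹ * w⁻¹ := by
    rw [(mem_centralizer_iff.mp (hCL hc1)) h hhL, mul_inv_cancel_right]
  have e : n * (w * (n * w * n⁻¹)) * n⁻¹ * (w * (n * w * n⁻¹))⁻¹ =
      ((n * w * n⁻¹) * (n ^ 2 * w * (n ^ 2)⁻¹) * (n * w * n⁻¹)⁻¹ * (n ^ 2 * w * (n ^ 2)⁻¹)⁻¹) *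
        (h * (a0⁻¹ * w * a0⁻¹⁻¹ * w⁻¹) * h⁻¹) * (h * w * h⁻¹ * w⁻¹) := by
    rw [hh]; group
  rw [e, hc1']
  exact C.mul_mem (C.mul_mem (habel _ hu _ hv) hc1) hfix

/-- PSQ core. -/
theorem PSQ_aux_core (P : Pair L A C Y1 Y2)
    (hCle : C ≤ Y1 ⊓ A ∧ C ≤ Y2 ⊓ A ∧ C ≤ centralizer (L : Set G))
    (habel : ∀ a ∈ A, ∀ b ∈ A, a * b * a⁻¹ * b⁻¹ ∈ C)
    (hdec : ∀ a ∈ A, ∃ w1 ∈ Y1 ⊓ A, ∃ w2 ∈ Y2 ⊓ A, a = w1 * w2)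
    (hcomm1 : ∀ y ∈ Y1, ∀ a ∈ A, y * a * y⁻¹ * a⁻¹ ∈ Y1 ⊓ A)
    (hcomm2 : ∀ y ∈ Y2, ∀ a ∈ A, y * a * y⁻¹ * a⁻¹ ∈ Y2 ⊓ A)
    (hfix1 : ∀ t ∈ Y1, t ∉ A → ∀ a ∈ A, t * a * t⁻¹ * a⁻¹ ∈ C → a ∈ Y1 ⊓ A)
    (hfix2 : ∀ s ∈ Y2, s ∉ A → ∀ a ∈ A, s * a * s⁻¹ * a⁻¹ ∈ C → a ∈ Y2 ⊓ A)
    {t s a0 h : G} (ht : t ∈ Y1) (htA : t ∉ A) (hs : s ∈ Y2) (hsA : s ∉ A) (ha0 : a0 ∈ A)
    (hprod : FPF A C (t * s))
    (hh : h = (t * s) ^ 2 * a0)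
    (hn1 : h ∈ normalizer (Y1 : Set G)) (hn2 : h ∈ normalizer (Y2 : Set G)) : FPF A C h := by
  obtain ⟨hC1, hC2, hCL⟩ := hCle
  have htL : t ∈ L := P.h1L ht
  have hsL : s ∈ L := P.h2L hs
  have hnL : t * s ∈ L := L.mul_mem htL hsL
  have hhL : h ∈ L := by rw [hh]; exact L.mul_mem (L.pow_mem hnL 2) (P.hAL ha0)
  have hhA : h ∈ normalizer (A : Set G) := P.hLA hhL
  intro a ha hfix
  obtain ⟨w1, hw1, w2, hw2, rfl⟩ := hdec a ha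
  have hw1L : w1 ∈ L := P.h1L hw1.1
  -- the conjugates
  have hw1' : h * w1 * h⁻¹ ∈ Y1 ⊓ A :=
    ⟨(mem_normalizer_iff.mp hn1 w1).mp hw1.1, (mem_normalizer_iff.mp hhA w1).mp hw1.2⟩
  have hw2' : h * w2 * h⁻¹ ∈ Y2 ⊓ A :=
    ⟨(mem_normalizer_iff.mp hn2 w2).mp hw2.1, (mem_normalizer_iff.mp hhA w2).mp hw2.2⟩
  -- `d = [h, w2] ∈ C`
  have hcw1 : w1 * (h * (w1 * w2) * h⁻¹ * (w1 * w2)⁻¹) = (h * (w1 * w2) * h⁻¹ * (w1 * w2)⁻¹) * w1 :=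
    (mem_centralizer_iff.mp (hCL hfix)) w1 hw1L
  have ed : h * w2 * h⁻¹ * w2⁻¹ =
      (h * w1 * h⁻¹)⁻¹ * w1 * (w1⁻¹ * (h * (w1 * w2) * h⁻¹ * (w1 * w2)⁻¹) * w1) := by group
  have ed' : w1⁻¹ * (h * (w1 * w2) * h⁻¹ * (w1 * w2)⁻¹) * w1 = h * (w1 * w2) * h⁻¹ * (w1 * w2)⁻¹ := by
    rw [mul_assoc, ← hcw1, inv_mul_cancel_left]
  have hd : h * w2 * h⁻¹ * w2⁻¹ ∈ C := by
    rw [← P.hC]
    refine ⟨?_, (Y2 ⊓ A).mul_mem hw2' ((Y2 ⊓ A).inv_mem hw2)⟩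
    rw [ed, ed']
    exact (Y1 ⊓ A).mul_mem ((Y1 ⊓ A).mul_mem ((Y1 ⊓ A).inv_mem hw1') hw1) (hC1 hfix)
  -- `[h, w1] ∈ C`
  have hcd : w1 * (h * w2 * h⁻¹ * w2⁻¹)⁻¹ = (h * w2 * h⁻¹ * w2⁻¹)⁻¹ * w1 :=
    (mem_centralizer_iff.mp (hCL (C.inv_mem hd))) w1 hw1L
  have he1 : h * w1 * h⁻¹ * w1⁻¹ =
      (h * (w1 * w2) * h⁻¹ * (w1 * w2)⁻¹) * (w1 * (h * w2 * h⁻¹ * w2⁻¹)⁻¹ * w1⁻¹) := by group
  have hd1 : h * w1 * h⁻¹ * w1⁻¹ ∈ C := by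
    rw [he1, hcd, mul_inv_cancel_right]
    exact C.mul_mem hfix (C.inv_mem hd)
  -- `n = t s` inverts `w1` and `w2` modulo `C`
  have hinv := fun w hw hf =>
    PSQ_aux_inv (C := C) P.hAL P.hLA hCL habel hnL ha0 hh hprod (w := w) hw hf
  have hi1 := hinv w1 hw1.2 hd1
  have hi2 := hinv w2 hw2.2 hd
  -- `w1 ∈ C`
  have hw1C : w1 ∈ C := by
    have htw : t * w1 = w1 * t := P.comm1 t ht w1 hw1.1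
    have htc : t * (w1 * (t * s * w1 * (t * s)⁻¹)) = (w1 * (t * s * w1 * (t * s)⁻¹)) * t :=
      (mem_centralizer_iff.mp (hCL hi1)) t htL
    have e1 : s * w1 * s⁻¹ * w1⁻¹ = w1⁻¹ * (w1 * (t * s * w1 * (t * s)⁻¹)) * w1⁻¹ := by
      have e2 : s * w1 * s⁻¹ = t⁻¹ * (w1⁻¹ * (w1 * (t * s * w1 * (t * s)⁻¹))) * t := by group
      have e3 : t⁻¹ * (w1⁻¹ * (w1 * (t * s * w1 * (t * s)⁻¹))) * t = w1⁻¹ * (w1 * (t * s * w1 * (t * s)⁻¹)) := by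
        have htw' : t⁻¹ * w1⁻¹ = w1⁻¹ * t⁻¹ := by
          rw [← mul_inv_rev, ← mul_inv_rev, htw]
        rw [← mul_assoc, htw', mul_assoc, mul_assoc, ← htc, inv_mul_cancel_left]
      rw [e2, e3]
    have hsw : s * w1 * s⁻¹ * w1⁻¹ ∈ C := by
      rw [← P.hC]
      refine ⟨?_, hcomm2 s hs w1 hw1.2⟩
      rw [e1]
      exact (Y1 ⊓ A).mul_mem ((Y1 ⊓ A).mul_mem ((Y1 ⊓ A).inv_mem hw1) (hC1 hi1)) ((Y1 ⊓ A).inv_mem hw1)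
    have := hfix2 s hs hsA w1 hw1.2 hsw
    rw [← P.hC]
    exact ⟨hw1, this⟩
  -- `w2 ∈ C`
  have hw2C : w2 ∈ C := by
    have hsw : s * w2 = w2 * s := P.comm2 s hs w2 hw2.1
    have e1 : t * w2 * t⁻¹ * w2⁻¹ = w2⁻¹ * (w2 * (t * s * w2 * (t * s)⁻¹)) * w2⁻¹ := by
      have : t * s * w2 * (t * s)⁻¹ = t * w2 * t⁻¹ := by
        rw [mul_assoc t s w2, hsw]; group
      rw [this]; group
    have htw : t * w2 * t⁻¹ * w2⁻¹ ∈ C := by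
      rw [← P.hC]
      refine ⟨hcomm1 t ht w2 hw2.2, ?_⟩
      rw [e1]
      exact (Y2 ⊓ A).mul_mem ((Y2 ⊓ A).mul_mem ((Y2 ⊓ A).inv_mem hw2) (hC2 hi2)) ((Y2 ⊓ A).inv_mem hw2)
    have := hfix1 t ht htA w2 hw2.2 htw
    rw [← P.hC]
    exact ⟨this, hw2⟩
  exact C.mul_mem hw1C hw2C

end P

end Cfsg.Agent.S2863P
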