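import Mathlib
import Cfsg.Agent.Helper14.S5559Defs

set_option autoImplicit false

/-!
# S5559 piece TRIVG (helper4): the group-theoretic part of TRIV

Words in `y₁, y₂` commute up to powers of the central element `c`; `t` inverts `y₁, y₂`.
Everything is done in the quotient by `⟨c⟩`, where `y₁, y₂` commute.
-/

namespace Cfsg.Agent.S5559P

/-- In a group where `T` is an involution inverting the commuting elements `Y1, Y2`:
for `g = Y1^i Y2^j`, `r = Y1^k Y2^l`, `a = r T r⁻¹` one has `a (g a g⁻¹) g g = 1`. -/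
theorem h4_trivg_comm {H : Type*} [Group H] (T Y1 Y2 : H) (hT : T * T = 1)
    (h1 : T * Y1 * T = Y1⁻¹) (h2 : T * Y2 * T = Y2⁻¹) (hc : Commute Y1 Y2) (i j k l : ℕ) :
    ((Y1 ^ k * Y2 ^ l) * T * (Y1 ^ k * Y2 ^ l)⁻¹) *
      ((Y1 ^ i * Y2 ^ j) * ((Y1 ^ k * Y2 ^ l) * T * (Y1 ^ k * Y2 ^ l)⁻¹) * (Y1 ^ i * Y2 ^ j)⁻¹)
      * ((Y1 ^ i * Y2 ^ j) * (Y1 ^ i * Y2 ^ j)) = 1 := by
  have hTinv : T⁻¹ = T := inv_eq_of_mul_eq_one_right hT
  have h1' : T * Y1 * T⁻¹ = Y1⁻¹ := by rw [hTinv]; exact h1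
  have h2' : T * Y2 * T⁻¹ = Y2⁻¹ := by rw [hTinv]; exact h2
  set R := Y1 ^ k * Y2 ^ l with hR
  set g := Y1 ^ i * Y2 ^ j with hg
  have hRg : Commute R g := by
    rw [hR, hg]
    have a1 : Commute (Y1 ^ k) (Y1 ^ i) := (Commute.refl Y1).pow_pow k i
    have a2 : Commute (Y1 ^ k) (Y2 ^ j) := hc.pow_pow k j
    have a3 : Commute (Y2 ^ l) (Y1 ^ i) := (hc.symm).pow_pow l i
    have a4 : Commute (Y2 ^ l) (Y2 ^ j) := (Commute.refl Y2).pow_pow l j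
    exact (a1.mul_right a2).mul_left (a3.mul_right a4)
  have hTg : T * g * T = g⁻¹ := by
    have e1 : T * Y1 ^ i * T⁻¹ = (Y1⁻¹) ^ i := by rw [← conj_pow, h1']
    have e2 : T * Y2 ^ j * T⁻¹ = (Y2⁻¹) ^ j := by rw [← conj_pow, h2']
    have e3 : T * g * T⁻¹ = (T * Y1 ^ i * T⁻¹) * (T * Y2 ^ j * T⁻¹) := by
      rw [hg]; group
    have e4 : g⁻¹ = (Y1⁻¹) ^ i * (Y2⁻¹) ^ j := by
      rw [hg, mul_inv_rev, inv_pow, inv_pow]
      exact (((hc.symm.pow_pow j i).inv_inv)).eq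
    rw [e4, ← e1, ← e2, ← e3, hTinv]
  have hRg' : R⁻¹ * g * R = g := by
    rw [mul_assoc, ← hRg.eq, ← mul_assoc, inv_mul_cancel, one_mul]
  have hRgi : R * g⁻¹ * R⁻¹ = g⁻¹ := by
    rw [(hRg.inv_right).eq, mul_assoc, mul_inv_cancel, mul_one]
  calc R * T * R⁻¹ * (g * (R * T * R⁻¹) * g⁻¹) * (g * g)
      = R * (T * (R⁻¹ * g * R) * T) * R⁻¹ * g := by group
    _ = R * (T * g * T) * R⁻¹ * g := by rw [hRg']
    _ = R * g⁻¹ * R⁻¹ * g := by rw [hTg]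
    _ = 1 := by rw [hRgi, inv_mul_cancel]

theorem TRIVG {G : Type*} [Group G] (t y₁ y₂ c : G) (ht2 : t * t = 1)
    (hi1 : t * y₁ * t = y₁⁻¹) (hi2 : t * y₂ * t = y₂⁻¹)
    (hc : y₁ * y₂ = c * (y₂ * y₁)) (hcz : ∀ g : G, c * g = g * c)
    (hind : ∀ i j : ℕ, y₁ ^ i * y₂ ^ j ∈ Subgroup.zpowers c → 3 ∣ i ∧ 3 ∣ j)
    (i j k l : ℕ) (hij : ¬ (3 ∣ i ∧ 3 ∣ j)) :
    (y₁ ^ k * y₂ ^ l) * t * (y₁ ^ k * y₂ ^ l)⁻¹ ≠
        (y₁ ^ i * y₂ ^ j) * ((y₁ ^ k * y₂ ^ l) * t * (y₁ ^ k * y₂ ^ l)⁻¹) * (y₁ ^ i * y₂ ^ j)⁻¹ ∧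
      ∃ m : ℤ, ((y₁ ^ k * y₂ ^ l) * t * (y₁ ^ k * y₂ ^ l)⁻¹) *
        ((y₁ ^ i * y₂ ^ j) * ((y₁ ^ k * y₂ ^ l) * t * (y₁ ^ k * y₂ ^ l)⁻¹) * (y₁ ^ i * y₂ ^ j)⁻¹) =
        (y₁ ^ i * y₂ ^ j)⁻¹ * (y₁ ^ i * y₂ ^ j)⁻¹ * c ^ m := by
  classical
  -- the central cyclic subgroup
  let N : Subgroup G := Subgroup.zpowers c
  have hN : N.Normal := by
    refine ⟨fun n hn g => ?_⟩
    obtain ⟨m, rfl⟩ := Subgroup.mem_zpowers_iff.mp hn
    have hcomm : Commute (c ^ m) g := (Commute.zpow_left (hcz g) m)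
    have : g * c ^ m * g⁻¹ = c ^ m := by
      rw [← hcomm.eq, mul_assoc, mul_inv_cancel, mul_one]
    rw [this]
    exact Subgroup.zpow_mem_zpowers c m
  let π : G →* G ⧸ N := QuotientGroup.mk' N
  have hπc : π c = 1 := by
    rw [QuotientGroup.mk'_apply, QuotientGroup.eq_one_iff]
    exact Subgroup.mem_zpowers c
  have hπmem : ∀ x : G, π x = 1 → x ∈ Subgroup.zpowers c := by
    intro x hx
    rw [QuotientGroup.mk'_apply, QuotientGroup.eq_one_iff] at hx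
    exact hx
  have hTT : π t * π t = 1 := by rw [← map_mul, ht2, map_one]
  have hY1 : π t * π y₁ * π t = (π y₁)⁻¹ := by rw [← map_mul, ← map_mul, hi1, map_inv]
  have hY2 : π t * π y₂ * π t = (π y₂)⁻¹ := by rw [← map_mul, ← map_mul, hi2, map_inv]
  have hcomm : Commute (π y₁) (π y₂) := by
    show π y₁ * π y₂ = π y₂ * π y₁
    rw [← map_mul, hc, map_mul, hπc, one_mul, map_mul]
  set r := y₁ ^ k * y₂ ^ l with hr
  set g := y₁ ^ i * y₂ ^ j with hg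
  set a := r * t * r⁻¹ with ha
  -- the key relation modulo `c`
  have hkey : π (a * (g * a * g⁻¹) * (g * g)) = 1 := by
    have := h4_trivg_comm (π t) (π y₁) (π y₂) hTT hY1 hY2 hcomm i j k l
    rw [ha, hr, hg]
    simpa only [map_mul, map_inv, map_pow] using this
  obtain ⟨m, hm⟩ := Subgroup.mem_zpowers_iff.mp (hπmem _ hkey)
  -- second claim
  have hsecond : a * (g * a * g⁻¹) = g⁻¹ * g⁻¹ * c ^ m := by
    have hcm : Commute (c ^ m) (g⁻¹ * g⁻¹) := Commute.zpow_left (hcz _) m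
    rw [← hcm.eq, hm]
    group
  refine ⟨?_, m, hsecond⟩
  -- first claim
  intro hab
  have haa : a * a = 1 := by
    rw [ha]
    calc r * t * r⁻¹ * (r * t * r⁻¹) = r * (t * t) * r⁻¹ := by group
      _ = 1 := by rw [ht2, mul_one, mul_inv_cancel]
  rw [← hab, haa] at hsecond
  -- so g * g = c ^ m
  have hgg : g * g = c ^ m := by
    have : (g * g) * (g⁻¹ * g⁻¹ * c ^ m) = g * g * 1 := by rw [← hsecond]
    rw [mul_one] at this
    rw [← this]; group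
  -- in the quotient `(π y₁)^(2i) (π y₂)^(2j) = π (g g) = 1`
  have hq : π (y₁ ^ (2 * i) * y₂ ^ (2 * j)) = 1 := by
    have h1 : π (g * g) = 1 := by
      rw [hgg, map_zpow, hπc, one_zpow]
    rw [map_mul, map_pow, map_pow]
    rw [hg, map_mul, map_mul, map_pow, map_pow] at h1
    have hcp : Commute (π y₁ ^ i) (π y₂ ^ j) := hcomm.pow_pow i j
    rw [← pow_two, hcp.mul_pow, ← pow_mul, ← pow_mul, mul_comm i 2, mul_comm j 2] at h1
    exact h1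
  obtain ⟨d1, d2⟩ := hind (2 * i) (2 * j) (hπmem _ hq)
  have c32 : Nat.Coprime 3 2 := by decide
  exact hij ⟨c32.dvd_of_dvd_mul_left d1, c32.dvd_of_dvd_mul_left d2⟩

end Cfsg.Agent.S5559P
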