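import Mathlib

set_option autoImplicit false

/-! S5075 (McLaughlin's theorem over `ZMod p`, `p` odd): common definitions and the calculus of
the incidence relation `InI G v φ` ("the transvection `x ↦ x + φ x • v` lies in `G`"). -/

namespace Cfsg.Agent.S5075P

variable {p : ℕ} {V : Type*} [AddCommGroup V] [Module (ZMod p) V]

/-- the (total) transvection `x ↦ x + φ x • v`; equal to `1` when `φ v ≠ 0` -/
noncomputable def tv (v : V) (φ : Module.Dual (ZMod p) V) : V ≃ₗ[ZMod p] V := by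
  classical exact if h : φ v = 0 then LinearEquiv.transvection h else 1

theorem tv_apply {v : V} {φ : Module.Dual (ZMod p) V} (h : φ v = 0) (x : V) :
    tv v φ x = x + φ x • v := by
  unfold tv
  rw [dif_pos h]
  rfl

theorem tv_of_ne {v : V} {φ : Module.Dual (ZMod p) V} (h : φ v ≠ 0) : tv v φ = 1 := by
  unfold tv
  rw [dif_neg h]

theorem tv_zero_left (φ : Module.Dual (ZMod p) V) : tv (0 : V) φ = 1 := by
  apply LinearEquiv.ext
  intro x
  rw [tv_apply (map_zero φ)]
  simp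

theorem tv_zero_right (v : V) : tv v (0 : Module.Dual (ZMod p) V) = 1 := by
  apply LinearEquiv.ext
  intro x
  rw [tv_apply (LinearMap.zero_apply v)]
  simp

theorem tv_mul_right {v : V} {φ ψ : Module.Dual (ZMod p) V} (hφ : φ v = 0) (hψ : ψ v = 0) :
    tv v φ * tv v ψ = tv v (φ + ψ) := by
  have h : (φ + ψ) v = 0 := by rw [LinearMap.add_apply, hφ, hψ, add_zero]
  apply LinearEquiv.ext
  intro x
  rw [LinearEquiv.mul_apply, tv_apply hψ, tv_apply hφ, tv_apply h, map_add, map_smul, hφ,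
    LinearMap.add_apply]
  simp only [smul_eq_mul, mul_zero, add_zero]
  rw [add_smul]
  abel

theorem tv_mul_left {v w : V} {φ : Module.Dual (ZMod p) V} (hv : φ v = 0) (hw : φ w = 0) :
    tv v φ * tv w φ = tv (v + w) φ := by
  have h : φ (v + w) = 0 := by rw [map_add, hv, hw, add_zero]
  apply LinearEquiv.ext
  intro x
  rw [LinearEquiv.mul_apply, tv_apply hw, tv_apply hv, tv_apply h, map_add, map_smul, hw]
  simp only [smul_eq_mul, mul_zero, add_zero]
  rw [smul_add]
  abel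

theorem tv_neg_right {v : V} {φ : Module.Dual (ZMod p) V} (hφ : φ v = 0) :
    (tv v φ)⁻¹ = tv v (-φ) := by
  have h : (-φ) v = 0 := by rw [LinearMap.neg_apply, hφ, neg_zero]
  apply inv_eq_of_mul_eq_one_right
  rw [tv_mul_right hφ h, add_neg_cancel, tv_zero_right]

theorem tv_conj (g : V ≃ₗ[ZMod p] V) (v : V) (φ : Module.Dual (ZMod p) V) :
    g * tv v φ * g⁻¹ = tv (g v) (φ ∘ₗ (g.symm : V →ₗ[ZMod p] V)) := by
  have e : (φ ∘ₗ (g.symm : V →ₗ[ZMod p] V)) (g v) = φ v := by
    simp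
  by_cases h : φ v = 0
  · apply LinearEquiv.ext
    intro x
    rw [LinearEquiv.mul_apply, LinearEquiv.mul_apply, tv_apply h, tv_apply (e.trans h),
      map_add, map_smul]
    simp only [LinearMap.coe_comp, LinearEquiv.coe_coe, Function.comp_apply]
    rw [show g⁻¹ x = g.symm x from rfl, LinearEquiv.apply_symm_apply]
  · rw [tv_of_ne h, tv_of_ne (by rw [e]; exact h), mul_one, mul_inv_cancel]

theorem tv_smul (c : ZMod p) (v : V) (φ : Module.Dual (ZMod p) V) :
    tv (c • v) φ = tv v (c • φ) := by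
  by_cases h : φ (c • v) = 0
  · have h' : (c • φ) v = 0 := by
      rw [LinearMap.smul_apply, smul_eq_mul, ← smul_eq_mul, ← map_smul]; exact h
    apply LinearEquiv.ext
    intro x
    rw [tv_apply h, tv_apply h', LinearMap.smul_apply, smul_eq_mul, mul_comm, mul_smul]
  · have h' : (c • φ) v ≠ 0 := by
      rw [LinearMap.smul_apply, smul_eq_mul, ← smul_eq_mul, ← map_smul]; exact h
    rw [tv_of_ne h, tv_of_ne h']

theorem tv_pow {v : V} {φ : Module.Dual (ZMod p) V} (hφ : φ v = 0) (n : ℕ) :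
    (tv v φ) ^ n = tv v (n • φ) := by
  induction n with
  | zero => rw [pow_zero, zero_smul, tv_zero_right]
  | succ n ih =>
    have h : (n • φ) v = 0 := by rw [LinearMap.smul_apply, hφ, smul_zero]
    rw [pow_succ, ih, tv_mul_right h hφ, succ_nsmul]

theorem tv_eq_one_iff [Fact p.Prime] {v : V} {φ : Module.Dual (ZMod p) V} (hφ : φ v = 0) :
    tv v φ = 1 ↔ v = 0 ∨ φ = 0 := by
  constructor
  · intro h
    by_contra hcon
    push Not at hcon
    obtain ⟨hv, hφ0⟩ := hcon
    obtain ⟨x, hx⟩ : ∃ x, φ x ≠ 0 := by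
      by_contra hall
      push Not at hall
      exact hφ0 (LinearMap.ext hall)
    have := congrArg (fun g : V ≃ₗ[ZMod p] V => g x) h
    simp only [LinearEquiv.coe_one, id_eq] at this
    rw [tv_apply hφ] at this
    have h2 : φ x • v = 0 := by simpa using this
    rcases smul_eq_zero.mp h2 with h3 | h3
    · exact hx h3
    · exact hv h3
  · rintro (h | h)
    · rw [h, tv_zero_left]
    · rw [h, tv_zero_right]

/-- conjugating by a transvection -/
theorem tv_conj_tv {w : V} {ψ : Module.Dual (ZMod p) V} (hψ : ψ w = 0) (v : V)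
    (φ : Module.Dual (ZMod p) V) :
    tv w ψ * tv v φ * (tv w ψ)⁻¹ = tv (v + ψ v • w) (φ - φ w • ψ) := by
  rw [tv_conj, tv_apply hψ]
  congr 1
  apply LinearMap.ext
  intro x
  have h : (-ψ) w = 0 := by rw [LinearMap.neg_apply, hψ, neg_zero]
  have e : ((tv w ψ).symm : V ≃ₗ[ZMod p] V) x = tv w (-ψ) x := by
    rw [← tv_neg_right hψ]; rfl
  simp only [LinearMap.coe_comp, LinearEquiv.coe_coe, Function.comp_apply, LinearMap.sub_apply,
    LinearMap.smul_apply, smul_eq_mul]
  rw [e, tv_apply h, map_add, map_smul, LinearMap.neg_apply, smul_eq_mul]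
  ring

/-- two transvections commute iff each centre lies on the other's axis -/
theorem tv_commute_iff [Fact p.Prime] {v w : V} {φ ψ : Module.Dual (ZMod p) V} (hφ : φ v = 0)
    (hψ : ψ w = 0) (hv : v ≠ 0) (hφ0 : φ ≠ 0) (hw : w ≠ 0) (hψ0 : ψ ≠ 0) :
    Commute (tv v φ) (tv w ψ) ↔ φ w = 0 ∧ ψ v = 0 := by
  have key : ∀ x, (tv v φ * tv w ψ) x = x + ψ x • w + φ x • v + (ψ x * φ w) • v := by
    intro x
    rw [LinearEquiv.mul_apply, tv_apply hψ, tv_apply hφ, map_add, map_smul, add_smul, smul_eq_mul]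
    abel
  have key' : ∀ x, (tv w ψ * tv v φ) x = x + ψ x • w + φ x • v + (φ x * ψ v) • w := by
    intro x
    rw [LinearEquiv.mul_apply, tv_apply hφ, tv_apply hψ, map_add, map_smul, add_smul, smul_eq_mul]
    abel
  constructor
  · intro hc
    have h1 : ∀ x, (ψ x * φ w) • v = (φ x * ψ v) • w := by
      intro x
      have := congrArg (fun g : V ≃ₗ[ZMod p] V => g x) hc.eq
      change (tv v φ * tv w ψ) x = (tv w ψ * tv v φ) x at this
      rw [key, key'] at this
      exact add_left_cancel this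
    obtain ⟨x, hx⟩ : ∃ x, ψ x ≠ 0 := by
      by_contra hall
      push Not at hall
      exact hψ0 (LinearMap.ext hall)
    obtain ⟨y, hy⟩ : ∃ y, φ y ≠ 0 := by
      by_contra hall
      push Not at hall
      exact hφ0 (LinearMap.ext hall)
    have hφw : φ w = 0 := by
      by_contra hne
      have h2 := h1 x
      have h3 : v = ((ψ x * φ w)⁻¹ * (φ x * ψ v)) • w := by
        rw [mul_smul, ← h2, smul_smul, inv_mul_cancel₀ (mul_ne_zero hx hne), one_smul]
      have h4 : φ v = ((ψ x * φ w)⁻¹ * (φ x * ψ v)) * φ w := by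
        conv_lhs => rw [h3, map_smul, smul_eq_mul]
      rw [hφ] at h4
      have h5 : ((ψ x * φ w)⁻¹ * (φ x * ψ v)) = 0 := by
        rcases mul_eq_zero.mp h4.symm with h | h
        · exact h
        · exact absurd h hne
      rw [h5, zero_smul] at h3
      exact hv h3
    refine ⟨hφw, ?_⟩
    have h2 := h1 y
    rw [hφw, mul_zero, zero_smul] at h2
    rcases smul_eq_zero.mp h2.symm with h | h
    · rcases mul_eq_zero.mp h with h' | h'
      · exact absurd h' hy
      · exact h'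
    · exact absurd h hw
  · rintro ⟨h1, h2⟩
    apply LinearEquiv.ext
    intro x
    rw [key, key', h1, h2, mul_zero, mul_zero, zero_smul, zero_smul]

/-! ### the incidence relation -/

/-- `InI G v φ`: `φ v = 0` and the transvection `x ↦ x + φ x • v` lies in `G` -/
def InI (G : Subgroup (V ≃ₗ[ZMod p] V)) (v : V) (φ : Module.Dual (ZMod p) V) : Prop :=
  φ v = 0 ∧ tv v φ ∈ G

variable {G : Subgroup (V ≃ₗ[ZMod p] V)}

theorem inI_zero_left (G : Subgroup (V ≃ₗ[ZMod p] V)) (φ : Module.Dual (ZMod p) V) :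
    InI G 0 φ := ⟨map_zero φ, by rw [tv_zero_left]; exact G.one_mem⟩

theorem inI_zero_right (G : Subgroup (V ≃ₗ[ZMod p] V)) (v : V) : InI G v 0 :=
  ⟨LinearMap.zero_apply v, by rw [tv_zero_right]; exact G.one_mem⟩

theorem InI.add_right {v : V} {φ ψ : Module.Dual (ZMod p) V} (h1 : InI G v φ) (h2 : InI G v ψ) :
    InI G v (φ + ψ) :=
  ⟨by rw [LinearMap.add_apply, h1.1, h2.1, add_zero], by
    rw [← tv_mul_right h1.1 h2.1]; exact G.mul_mem h1.2 h2.2⟩

theorem InI.neg_right {v : V} {φ : Module.Dual (ZMod p) V} (h1 : InI G v φ) : InI G v (-φ) :=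
  ⟨by rw [LinearMap.neg_apply, h1.1, neg_zero], by
    rw [← tv_neg_right h1.1]; exact G.inv_mem h1.2⟩

theorem InI.sub_right {v : V} {φ ψ : Module.Dual (ZMod p) V} (h1 : InI G v φ) (h2 : InI G v ψ) :
    InI G v (φ - ψ) := by
  rw [sub_eq_add_neg]; exact h1.add_right h2.neg_right

theorem InI.nsmul_right {v : V} {φ : Module.Dual (ZMod p) V} (h1 : InI G v φ) (n : ℕ) :
    InI G v (n • φ) :=
  ⟨by rw [LinearMap.smul_apply, h1.1, smul_zero], by
    rw [← tv_pow h1.1]; exact G.pow_mem h1.2 n⟩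

theorem InI.smul_right [Fact p.Prime] {v : V} {φ : Module.Dual (ZMod p) V} (h1 : InI G v φ)
    (c : ZMod p) : InI G v (c • φ) := by
  have h := h1.nsmul_right c.val
  have e : (c.val • φ : Module.Dual (ZMod p) V) = c • φ := by
    rw [← Nat.cast_smul_eq_nsmul (ZMod p), ZMod.natCast_zmod_val]
  rwa [e] at h

theorem InI.smul_swap {v : V} {φ : Module.Dual (ZMod p) V} (c : ZMod p) :
    InI G (c • v) φ ↔ InI G v (c • φ) := by
  unfold InI
  rw [tv_smul, LinearMap.smul_apply, map_smul]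

theorem InI.smul_left [Fact p.Prime] {v : V} {φ : Module.Dual (ZMod p) V} (h1 : InI G v φ)
    (c : ZMod p) : InI G (c • v) φ :=
  (InI.smul_swap c).mpr (h1.smul_right c)

theorem InI.add_left {v w : V} {φ : Module.Dual (ZMod p) V} (h1 : InI G v φ) (h2 : InI G w φ) :
    InI G (v + w) φ :=
  ⟨by rw [map_add, h1.1, h2.1, add_zero], by
    rw [← tv_mul_left h1.1 h2.1]; exact G.mul_mem h1.2 h2.2⟩

theorem InI.neg_left [Fact p.Prime] {v : V} {φ : Module.Dual (ZMod p) V} (h1 : InI G v φ) :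
    InI G (-v) φ := by
  have := h1.smul_left (-1)
  rwa [neg_smul, one_smul] at this

theorem InI.sub_left [Fact p.Prime] {v w : V} {φ : Module.Dual (ZMod p) V} (h1 : InI G v φ)
    (h2 : InI G w φ) : InI G (v - w) φ := by
  rw [sub_eq_add_neg]; exact h1.add_left h2.neg_left

/-- invariance under conjugation by elements of `G` -/
theorem InI.conj {v : V} {φ : Module.Dual (ZMod p) V} (h1 : InI G v φ) {g : V ≃ₗ[ZMod p] V}
    (hg : g ∈ G) : InI G (g v) (φ ∘ₗ (g.symm : V →ₗ[ZMod p] V)) :=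
  ⟨by simp [h1.1], by
    rw [← tv_conj]; exact G.mul_mem (G.mul_mem hg h1.2) (G.inv_mem hg)⟩

/-- invariance under conjugation by a transvection of `G` -/
theorem InI.conj_tv {v w : V} {φ ψ : Module.Dual (ZMod p) V} (h1 : InI G v φ) (h2 : InI G w ψ) :
    InI G (v + ψ v • w) (φ - φ w • ψ) := by
  refine ⟨?_, ?_⟩
  · simp only [map_add, map_smul, LinearMap.sub_apply, LinearMap.smul_apply, smul_eq_mul, h1.1,
      h2.1]
    ring
  · rw [← tv_conj_tv h2.1]
    exact G.mul_mem (G.mul_mem h2.2 h1.2) (G.inv_mem h2.2)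

/-- the basic commutator rule (R1): if `ψ v = 0` and `φ w ≠ 0` then the transvection with the
centre of the first and the axis of the second lies in `G`. -/
theorem InI.lemma1 [Fact p.Prime] {v w : V} {φ ψ : Module.Dual (ZMod p) V} (h1 : InI G v φ)
    (h2 : InI G w ψ) (hψv : ψ v = 0) (hφw : φ w ≠ 0) : InI G v ψ := by
  -- conjugate `(w, ψ)` by `tv v φ`
  have h3 : InI G (w + φ w • v) (ψ - ψ v • φ) := h2.conj_tv h1
  rw [hψv, zero_smul, sub_zero] at h3
  have h4 : InI G (φ w • v) ψ := by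
    have := h3.sub_left h2
    rwa [add_sub_cancel_left] at this
  have h5 := ((InI.smul_swap (φ w)).mp h4).smul_right (φ w)⁻¹
  rwa [smul_smul, inv_mul_cancel₀ hφw, one_smul] at h5

/-- an opposite pair -/
def Opp (G : Subgroup (V ≃ₗ[ZMod p] V)) (v : V) (φ : Module.Dual (ZMod p) V) (w : V)
    (ψ : Module.Dual (ZMod p) V) : Prop :=
  InI G v φ ∧ InI G w ψ ∧ φ w ≠ 0 ∧ ψ v ≠ 0

/-- nontrivial incidence -/
def InI0 (G : Subgroup (V ≃ₗ[ZMod p] V)) (v : V) (φ : Module.Dual (ZMod p) V) : Prop :=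
  InI G v φ ∧ v ≠ 0 ∧ φ ≠ 0

/-- the set of (nontrivial) transvections of `G` -/
def TV (G : Subgroup (V ≃ₗ[ZMod p] V)) : Set (V ≃ₗ[ZMod p] V) :=
  {t | ∃ v φ, InI0 G v φ ∧ t = tv v φ}

/-- the span of the centres of the transvections of `G` (`= [V, G]`) -/
def Wspan (G : Subgroup (V ≃ₗ[ZMod p] V)) : Submodule (ZMod p) V :=
  Submodule.span (ZMod p) {v | ∃ φ, InI0 G v φ}

/-- the intersection of the axes of the transvections of `G` (`= C_V(G)`) -/
def Uker (G : Subgroup (V ≃ₗ[ZMod p] V)) : Submodule (ZMod p) V where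
  carrier := {x | ∀ v φ, InI0 G v φ → φ x = 0}
  add_mem' := by
    intro a b ha hb v φ h
    rw [map_add, ha v φ h, hb v φ h, add_zero]
  zero_mem' := by
    intro v φ _
    exact map_zero φ
  smul_mem' := by
    intro c a ha v φ h
    rw [map_smul, ha v φ h, smul_zero]

theorem mem_Uker {G : Subgroup (V ≃ₗ[ZMod p] V)} {x : V} :
    x ∈ Uker G ↔ ∀ v φ, InI0 G v φ → φ x = 0 := Iff.rfl

/-- the hypotheses of the connected case: `G` is generated by its transvections, every
transvection of `G` has an opposite one in `G`, and the non-commuting graph on the transvections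
of `G` is connected (partition form). -/
structure Conn (G : Subgroup (V ≃ₗ[ZMod p] V)) : Prop where
  gen : G = Subgroup.closure (TV G)
  opp : ∀ v φ, InI0 G v φ → ∃ w ψ, InI G w ψ ∧ φ w ≠ 0 ∧ ψ v ≠ 0
  conn : ∀ P : V → Module.Dual (ZMod p) V → Prop,
    (∀ v φ w ψ, InI0 G v φ → InI0 G w ψ → P v φ → ¬ P w ψ → φ w = 0 ∧ ψ v = 0) →
    (∀ v φ, InI0 G v φ → P v φ) ∨ (∀ v φ, InI0 G v φ → ¬ P v φ)

/-- `SLfull G π`: `π` is a projection, and every transvection with centre in `range π` and axis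
containing `ker π` lies in `G` (so `G ⊇ SL(range π) × 1`). -/
structure SLfull (G : Subgroup (V ≃ₗ[ZMod p] V)) (π : V →ₗ[ZMod p] V) : Prop where
  idem : π ∘ₗ π = π
  full : ∀ (m : V) (μ : Module.Dual (ZMod p) V), π m = m → μ ∘ₗ π = μ → μ m = 0 → InI G m μ

/-- the vectors `d ∈ ker π` such that all transvections with centre `d` and axis `⊇ ker π` lie in
`G` -/
def DD [Fact p.Prime] (G : Subgroup (V ≃ₗ[ZMod p] V)) (π : V →ₗ[ZMod p] V) :
    Submodule (ZMod p) V where
  carrier := {d | π d = 0 ∧ ∀ μ : Module.Dual (ZMod p) V, μ ∘ₗ π = μ → InI G d μ}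
  add_mem' := by
    intro a b ha hb
    exact ⟨by rw [map_add, ha.1, hb.1, add_zero], fun μ hμ => (ha.2 μ hμ).add_left (hb.2 μ hμ)⟩
  zero_mem' := ⟨map_zero π, fun μ _ => inI_zero_left G μ⟩
  smul_mem' := by
    intro c a ha
    exact ⟨by rw [map_smul, ha.1, smul_zero], fun μ hμ => (ha.2 μ hμ).smul_left c⟩

/-- the functionals `ξ` killing `range π` such that all transvections with centre in `range π`
and axis `ker ξ` lie in `G` -/
def CC [Fact p.Prime] (G : Subgroup (V ≃ₗ[ZMod p] V)) (π : V →ₗ[ZMod p] V) :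
    Submodule (ZMod p) (Module.Dual (ZMod p) V) where
  carrier := {ξ | ξ ∘ₗ π = 0 ∧ ∀ m : V, π m = m → InI G m ξ}
  add_mem' := by
    intro a b ha hb
    exact ⟨by rw [LinearMap.add_comp, ha.1, hb.1, add_zero],
      fun m hm => (ha.2 m hm).add_right (hb.2 m hm)⟩
  zero_mem' := ⟨LinearMap.zero_comp π, fun m _ => inI_zero_right G m⟩
  smul_mem' := by
    intro c a ha
    exact ⟨by rw [LinearMap.smul_comp, ha.1, smul_zero], fun m hm => (ha.2 m hm).smul_right c⟩

theorem mem_DD [Fact p.Prime] {G : Subgroup (V ≃ₗ[ZMod p] V)} {π : V →ₗ[ZMod p] V} {d : V} :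
    d ∈ DD G π ↔ π d = 0 ∧ ∀ μ : Module.Dual (ZMod p) V, μ ∘ₗ π = μ → InI G d μ := Iff.rfl

theorem mem_CC [Fact p.Prime] {G : Subgroup (V ≃ₗ[ZMod p] V)} {π : V →ₗ[ZMod p] V}
    {ξ : Module.Dual (ZMod p) V} :
    ξ ∈ CC G π ↔ ξ ∘ₗ π = 0 ∧ ∀ m : V, π m = m → InI G m ξ := Iff.rfl

/-- `ker π ∩ ⋂_{ξ ∈ CC} ker ξ` -/
def UU [Fact p.Prime] (G : Subgroup (V ≃ₗ[ZMod p] V)) (π : V →ₗ[ZMod p] V) :
    Submodule (ZMod p) V where
  carrier := {x | π x = 0 ∧ ∀ ξ ∈ CC G π, ξ x = 0}
  add_mem' := by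
    intro a b ha hb
    exact ⟨by rw [map_add, ha.1, hb.1, add_zero],
      fun ξ hξ => by rw [map_add, ha.2 ξ hξ, hb.2 ξ hξ, add_zero]⟩
  zero_mem' := ⟨map_zero π, fun ξ _ => map_zero ξ⟩
  smul_mem' := by
    intro c a ha
    exact ⟨by rw [map_smul, ha.1, smul_zero], fun ξ hξ => by rw [map_smul, ha.2 ξ hξ, smul_zero]⟩

theorem mem_UU [Fact p.Prime] {G : Subgroup (V ≃ₗ[ZMod p] V)} {π : V →ₗ[ZMod p] V} {x : V} :
    x ∈ UU G π ↔ π x = 0 ∧ ∀ ξ ∈ CC G π, ξ x = 0 := Iff.rfl

/-- the symplectic case: all transvections have a one-dimensional space of axes per centre -/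
def DimL (G : Subgroup (V ≃ₗ[ZMod p] V)) : Prop :=
  ∀ v φ φ₂, InI0 G v φ → InI G v φ₂ → ∃ c : ZMod p, φ₂ = c • φ

/-- dual statement -/
def DimR (G : Subgroup (V ≃ₗ[ZMod p] V)) : Prop :=
  ∀ v v₂ φ, InI0 G v φ → InI G v₂ φ → ∃ c : ZMod p, v₂ = c • v

/-- `SPfull G π B`: `π` is a projection, `B` an alternating form factoring through `π` and
nondegenerate on `range π`, all symplectic transvections `x ↦ x + B m x • m`, `m ∈ range π`, lie
in `G`, and so does the involution `-1 ⊕ 1`. -/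
structure SPfull (G : Subgroup (V ≃ₗ[ZMod p] V)) (π : V →ₗ[ZMod p] V)
    (B : LinearMap.BilinForm (ZMod p) V) : Prop where
  idem : π ∘ₗ π = π
  alt : B.IsAlt
  Bπ : ∀ x y, B (π x) y = B x y
  nondeg : ∀ m, π m = m → (∀ y, B m y = 0) → m = 0
  full : ∀ m, π m = m → InI G m (B m)
  z : ∃ z ∈ G, ∀ x, z x = x - (2 : ZMod p) • π x

/-- the conclusion of the connected case -/
def ConclSL (G : Subgroup (V ≃ₗ[ZMod p] V)) : Prop :=
  ∀ x ∈ Wspan G, ∀ ξ : Module.Dual (ZMod p) V, (∀ u ∈ Uker G, ξ u = 0) → ξ x = 0 → InI G x ξ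

def ConclSp (G : Subgroup (V ≃ₗ[ZMod p] V)) : Prop :=
  ∃ B : LinearMap.BilinForm (ZMod p) V, B.IsAlt ∧ (∀ x, ∀ u ∈ Uker G, B x u = 0) ∧
    (∀ x ∈ Wspan G, (∀ y ∈ Wspan G, B x y = 0) → x = 0) ∧
    (∀ x ∈ Wspan G, InI G x (B x)) ∧
    (∀ v φ, InI0 G v φ → ∃ a : ZMod p, φ = a • B v)

/-! ### the non-commuting graph and its classes -/

/-- two pairs are adjacent when the transvections do not commute -/
def Adj (a b : V × Module.Dual (ZMod p) V) : Prop := ¬ (a.2 b.1 = 0 ∧ b.2 a.1 = 0)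

/-- reachability in the non-commuting graph on the nontrivial pairs of `H` -/
def Reach (H : Subgroup (V ≃ₗ[ZMod p] V)) (a b : V × Module.Dual (ZMod p) V) : Prop :=
  Relation.ReflTransGen (fun a b => InI0 H a.1 a.2 ∧ InI0 H b.1 b.2 ∧ Adj a b) a b

/-- the class of `(v₀, φ₀)` -/
def Cls (H : Subgroup (V ≃ₗ[ZMod p] V)) (v₀ : V) (φ₀ : Module.Dual (ZMod p) V) (v : V)
    (φ : Module.Dual (ZMod p) V) : Prop :=
  InI0 H v φ ∧ Reach H (v₀, φ₀) (v, φ)

/-- the subgroup generated by the transvections of a class -/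
def Gc (H : Subgroup (V ≃ₗ[ZMod p] V)) (v₀ : V) (φ₀ : Module.Dual (ZMod p) V) :
    Subgroup (V ≃ₗ[ZMod p] V) :=
  Subgroup.closure {t | ∃ v φ, Cls H v₀ φ₀ v φ ∧ t = tv v φ}

/-! ### conjugation by normalising elements, fixed points -/

/-- invariance under conjugation by elements normalising `G` -/
theorem InI.conj_normal {G : Subgroup (V ≃ₗ[ZMod p] V)} {v : V} {φ : Module.Dual (ZMod p) V}
    (h1 : InI G v φ) {g : V ≃ₗ[ZMod p] V} (hg : ∀ k ∈ G, g * k * g⁻¹ ∈ G) :
    InI G (g v) (φ ∘ₗ (g.symm : V →ₗ[ZMod p] V)) :=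
  ⟨by simp [h1.1], by rw [← tv_conj]; exact hg _ h1.2⟩

theorem InI0.conj_normal {G : Subgroup (V ≃ₗ[ZMod p] V)} {v : V} {φ : Module.Dual (ZMod p) V}
    (h1 : InI0 G v φ) {g : V ≃ₗ[ZMod p] V} (hg : ∀ k ∈ G, g * k * g⁻¹ ∈ G) :
    InI0 G (g v) (φ ∘ₗ (g.symm : V →ₗ[ZMod p] V)) := by
  refine ⟨h1.1.conj_normal hg, ?_, ?_⟩
  · intro h
    exact h1.2.1 (by simpa using h)
  · intro h
    apply h1.2.2
    apply LinearMap.ext
    intro x
    have := LinearMap.congr_fun h (g x)
    simpa using this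

/-- elements of a group generated by transvections fix the common kernel of the axes -/
theorem fix_of_mem_Uker {G : Subgroup (V ≃ₗ[ZMod p] V)} (hgen : G = Subgroup.closure (TV G))
    {g : V ≃ₗ[ZMod p] V} (hg : g ∈ G) {x : V} (hx : x ∈ Uker G) : g x = x := by
  rw [hgen] at hg
  induction hg using Subgroup.closure_induction with
  | mem t ht =>
    obtain ⟨v, φ, h, rfl⟩ := ht
    rw [tv_apply h.1.1, hx v φ h, zero_smul, add_zero]
  | one => rfl
  | mul a b _ _ ha hb => rw [LinearEquiv.mul_apply, hb, ha]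
  | inv a _ ha =>
    have : a⁻¹ (a x) = x := by
      rw [← LinearEquiv.mul_apply, inv_mul_cancel]; rfl
    rw [ha] at this
    exact this

/-- elements of a group generated by transvections move vectors inside `Wspan` -/
theorem sub_mem_Wspan {G : Subgroup (V ≃ₗ[ZMod p] V)} (hgen : G = Subgroup.closure (TV G))
    {g : V ≃ₗ[ZMod p] V} (hg : g ∈ G) (x : V) : g x - x ∈ Wspan G := by
  rw [hgen] at hg
  induction hg using Subgroup.closure_induction generalizing x with
  | mem t ht =>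
    obtain ⟨v, φ, h, rfl⟩ := ht
    rw [tv_apply h.1.1, add_sub_cancel_left]
    exact Submodule.smul_mem _ _ (Submodule.subset_span ⟨φ, h⟩)
  | one => simp
  | mul a b _ _ ha hb =>
    have : (a * b) x - x = (a (b x) - b x) + (b x - x) := by
      rw [LinearEquiv.mul_apply]; abel
    rw [this]
    exact Submodule.add_mem _ (ha _) (hb _)
  | inv a _ ha =>
    have e : a (a⁻¹ x) = x := by
      rw [← LinearEquiv.mul_apply, mul_inv_cancel]; rfl
    have := ha (a⁻¹ x)
    rw [e] at this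
    have h2 : a⁻¹ x - x = -(x - a⁻¹ x) := by abel
    rw [h2]
    exact Submodule.neg_mem _ this

end Cfsg.Agent.S5075P
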