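import Mathlib
import Cfsg.Agent.Helper15.S1983Defs

set_option autoImplicit false

/-!
# S1983 piece CLIFF (helper4): one Clifford step

`W` a finite commutative group on which `Γ` acts through `ρ`; `K ≤ H ≤ N_Γ(K)`; if every
`H`-invariant subgroup of `W` has an `H`-invariant complement then every `K`-invariant subgroup
has a `K`-invariant complement.
-/

namespace Cfsg.Agent.S1983P

namespace CLIFF

section General

variable {Γ W : Type*} [Group Γ] [Group W]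

/-- image of a subgroup under `ρ g` -/
def im (ρ : Γ →* MulAut W) (g : Γ) (D : Subgroup W) : Subgroup W :=
  D.map (ρ g).toMonoidHom

theorem mem_im {ρ : Γ →* MulAut W} {g : Γ} {D : Subgroup W} {w : W} :
    w ∈ im ρ g D ↔ ∃ x ∈ D, ρ g x = w := by
  unfold im
  rw [Subgroup.mem_map]
  rfl

theorem im_inv_im (ρ : Γ →* MulAut W) (g : Γ) (D : Subgroup W) :
    im ρ g⁻¹ (im ρ g D) = D := by
  ext w
  constructor
  · intro hw
    obtain ⟨x, hx, rfl⟩ := mem_im.mp hw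
    obtain ⟨y, hy, rfl⟩ := mem_im.mp hx
    have : ρ g⁻¹ (ρ g y) = y := by
      rw [← MulAut.mul_apply, ← map_mul, inv_mul_cancel, map_one, MulAut.one_apply]
    rw [this]; exact hy
  · intro hw
    refine mem_im.mpr ⟨ρ g w, mem_im.mpr ⟨w, hw, rfl⟩, ?_⟩
    rw [← MulAut.mul_apply, ← map_mul, inv_mul_cancel, map_one, MulAut.one_apply]

theorem im_im_inv (ρ : Γ →* MulAut W) (g : Γ) (D : Subgroup W) :
    im ρ g (im ρ g⁻¹ D) = D := by
  have := im_inv_im ρ g⁻¹ D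
  rwa [inv_inv] at this

theorem im_mono (ρ : Γ →* MulAut W) (g : Γ) {D E : Subgroup W} (h : D ≤ E) :
    im ρ g D ≤ im ρ g E :=
  Subgroup.map_mono h

theorem im_bot (ρ : Γ →* MulAut W) (g : Γ) : im ρ g (⊥ : Subgroup W) = ⊥ :=
  Subgroup.map_bot _

theorem invSub_im {ρ : Γ →* MulAut W} {K : Subgroup Γ} {g : Γ}
    (hg : g ∈ Subgroup.normalizer (K : Set Γ)) {D : Subgroup W} (hD : InvSub ρ K D) :
    InvSub ρ K (im ρ g D) := by
  intro k hk w hw
  obtain ⟨x, hx, rfl⟩ := mem_im.mp hw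
  have hginv : g⁻¹ ∈ Subgroup.normalizer (K : Set Γ) := Subgroup.inv_mem _ hg
  have hk' : g⁻¹ * k * g ∈ K := by
    have := (Subgroup.mem_normalizer_iff.mp hginv k).mp hk
    rwa [inv_inv] at this
  refine mem_im.mpr ⟨ρ (g⁻¹ * k * g) x, hD _ hk' x hx, ?_⟩
  rw [← MulAut.mul_apply, ← map_mul, ← MulAut.mul_apply, ← map_mul]
  congr 2
  group

theorem invSub_bot (ρ : Γ →* MulAut W) (K : Subgroup Γ) : InvSub ρ K (⊥ : Subgroup W) := by
  intro k _ w hw
  rw [Subgroup.mem_bot] at hw ⊢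
  rw [hw, map_one]

theorem invSub_inf {ρ : Γ →* MulAut W} {K : Subgroup Γ} {A B : Subgroup W}
    (hA : InvSub ρ K A) (hB : InvSub ρ K B) : InvSub ρ K (A ⊓ B) := by
  intro k hk w hw
  exact Subgroup.mem_inf.mpr ⟨hA k hk w (Subgroup.mem_inf.mp hw).1, hB k hk w (Subgroup.mem_inf.mp hw).2⟩

/-- `K`-atoms: minimal nontrivial `K`-invariant subgroups -/
def IsAt (ρ : Γ →* MulAut W) (K : Subgroup Γ) (D : Subgroup W) : Prop :=
  InvSub ρ K D ∧ D ≠ ⊥ ∧ ∀ E : Subgroup W, InvSub ρ K E → E ≤ D → E ≠ ⊥ → E = D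

theorem isAt_im {ρ : Γ →* MulAut W} {K : Subgroup Γ} {g : Γ}
    (hg : g ∈ Subgroup.normalizer (K : Set Γ)) {D : Subgroup W} (hD : IsAt ρ K D) :
    IsAt ρ K (im ρ g D) := by
  have hginv : g⁻¹ ∈ Subgroup.normalizer (K : Set Γ) := Subgroup.inv_mem _ hg
  refine ⟨invSub_im hg hD.1, ?_, ?_⟩
  · intro h
    apply hD.2.1
    rw [← im_inv_im ρ g D, h, im_bot]
  · intro E hE hle hne
    have h1 : InvSub ρ K (im ρ g⁻¹ E) := invSub_im hginv hE
    have h2 : im ρ g⁻¹ E ≤ D := by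
      have := im_mono ρ g⁻¹ hle
      rwa [im_inv_im] at this
    have h3 : im ρ g⁻¹ E ≠ ⊥ := by
      intro h
      apply hne
      rw [← im_im_inv ρ g E, h, im_bot]
    have := hD.2.2 _ h1 h2 h3
    rw [← this, im_im_inv]

theorem exists_at_le [Finite W] (ρ : Γ →* MulAut W) (K : Subgroup Γ) (C : Subgroup W)
    (hC : InvSub ρ K C) (hne : C ≠ ⊥) : ∃ D : Subgroup W, IsAt ρ K D ∧ D ≤ C := by
  classical
  let T := {D : Subgroup W // InvSub ρ K D ∧ D ≤ C ∧ D ≠ ⊥}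
  have : Nonempty T := ⟨⟨C, hC, le_rfl, hne⟩⟩
  obtain ⟨⟨D, hDK, hDC, hDne⟩, hmin⟩ := Finite.exists_min (fun t : T => Nat.card t.1)
  refine ⟨D, ⟨hDK, hDne, ?_⟩, hDC⟩
  intro E hE hle hEne
  have h := hmin ⟨E, hE, hle.trans hDC, hEne⟩
  exact Subgroup.eq_of_le_of_card_ge hle h

end General

section Comm

variable {Γ W : Type*} [Group Γ] [CommGroup W]

theorem invSub_sup {ρ : Γ →* MulAut W} {K : Subgroup Γ} {A B : Subgroup W}
    (hA : InvSub ρ K A) (hB : InvSub ρ K B) : InvSub ρ K (A ⊔ B) := by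
  intro k hk w hw
  obtain ⟨a, ha, b, hb, rfl⟩ := Subgroup.mem_sup.mp hw
  rw [map_mul]
  exact Subgroup.mul_mem _ (Subgroup.mem_sup_left (hA k hk a ha))
    (Subgroup.mem_sup_right (hB k hk b hb))

theorem step_comm [Finite W] (ρ : Γ →* MulAut W) (H K : Subgroup Γ) (hKH : K ≤ H)
    (hHK : H ≤ Subgroup.normalizer (K : Set Γ)) (hH : SSi ρ H) : SSi ρ K := by
  classical
  -- the socle
  let Sg : Subgroup W := ⨆ D : {D : Subgroup W // IsAt ρ K D}, D.1
  have hSgH : InvSub ρ H Sg := by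
    intro h hh w hw
    refine Subgroup.iSup_induction (fun D : {D : Subgroup W // IsAt ρ K D} => D.1)
      (C := fun x => ρ h x ∈ Sg) hw ?_ ?_ ?_
    · intro D x hx
      have hat : IsAt ρ K (im ρ h D.1) := isAt_im (hHK hh) D.2
      have hle : im ρ h D.1 ≤ Sg :=
        le_iSup (fun D : {D : Subgroup W // IsAt ρ K D} => D.1) ⟨_, hat⟩
      exact hle (mem_im.mpr ⟨x, hx, rfl⟩)
    · rw [map_one]; exact Subgroup.one_mem _
    · intro x y hx hy
      rw [map_mul]; exact Subgroup.mul_mem _ hx hy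
  obtain ⟨C, hCH, hinf, hsup⟩ := hH Sg hSgH
  have hCK : InvSub ρ K C := fun k hk w hw => hCH k (hKH hk) w hw
  have hCbot : C = ⊥ := by
    by_contra hne
    obtain ⟨D, hD, hDC⟩ := exists_at_le ρ K C hCK hne
    have hDS : D ≤ Sg := le_iSup (fun D : {D : Subgroup W // IsAt ρ K D} => D.1) ⟨D, hD⟩
    have hle : D ≤ Sg ⊓ C := le_inf hDS hDC
    rw [hinf] at hle
    exact hD.2.1 (le_bot_iff.mp hle)
  have hSgtop : Sg = ⊤ := by
    rw [hCbot, sup_bot_eq] at hsup; exact hsup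
  -- complements
  intro F hF
  let T := {F' : Subgroup W // InvSub ρ K F' ∧ F ⊓ F' = ⊥}
  have : Nonempty T := ⟨⟨⊥, invSub_bot ρ K, inf_bot_eq _⟩⟩
  obtain ⟨⟨F', hF'K, hFF'⟩, hmax⟩ := Finite.exists_max (fun t : T => Nat.card t.1)
  refine ⟨F', hF'K, hFF', ?_⟩
  by_contra htop
  have hex : ∃ D : Subgroup W, IsAt ρ K D ∧ ¬ D ≤ F ⊔ F' := by
    by_contra hall
    push Not at hall
    apply htop
    apply top_le_iff.mp
    rw [← hSgtop]
    exact iSup_le (fun D => hall D.1 D.2)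
  obtain ⟨D, hD, hDn⟩ := hex
  have hFF'K : InvSub ρ K (F ⊔ F') := invSub_sup hF hF'K
  have hDinf : D ⊓ (F ⊔ F') = ⊥ := by
    by_contra hne
    have h := hD.2.2 (D ⊓ (F ⊔ F')) (invSub_inf hD.1 hFF'K) inf_le_left hne
    apply hDn
    rw [← h]
    exact inf_le_right
  have hK'' : InvSub ρ K (F' ⊔ D) := invSub_sup hF'K hD.1
  have hinf'' : F ⊓ (F' ⊔ D) = ⊥ := by
    rw [eq_bot_iff]
    intro x hx
    obtain ⟨hxF, hxs⟩ := Subgroup.mem_inf.mp hx
    obtain ⟨f', hf', d, hd, rfl⟩ := Subgroup.mem_sup.mp hxs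
    have hdm : d ∈ D ⊓ (F ⊔ F') := by
      refine Subgroup.mem_inf.mpr ⟨hd, ?_⟩
      have hd' : d = (f' * d) * f'⁻¹ := by
        rw [mul_comm f' d, mul_inv_cancel_right]
      rw [hd']
      exact Subgroup.mul_mem _ (Subgroup.mem_sup_left hxF)
        (Subgroup.mem_sup_right (F'.inv_mem hf'))
    rw [hDinf, Subgroup.mem_bot] at hdm
    subst hdm
    rw [mul_one] at hxF ⊢
    have hmem : f' ∈ F ⊓ F' := Subgroup.mem_inf.mpr ⟨hxF, hf'⟩
    rw [hFF'] at hmem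
    exact hmem
  have hle := hmax ⟨F' ⊔ D, hK'', hinf''⟩
  have heq : F' = F' ⊔ D := Subgroup.eq_of_le_of_card_ge le_sup_left hle
  apply hDn
  have hDF' : D ≤ F' := by
    rw [heq]; exact le_sup_right
  exact hDF'.trans le_sup_right

end Comm

end CLIFF

theorem CLIFF.step {Γ W : Type*} [Group Γ] [Group W] [Finite W] (hc : ∀ a b : W, a * b = b * a)
    (ρ : Γ →* MulAut W) (H K : Subgroup Γ) (hKH : K ≤ H)
    (hHK : H ≤ Subgroup.normalizer (K : Set Γ)) (hH : SSi ρ H) : SSi ρ K := by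
  letI : CommGroup W := { (inferInstance : Group W) with mul_comm := hc }
  exact CLIFF.step_comm ρ H K hKH hHK hH

end Cfsg.Agent.S1983P
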