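import Mathlib
import Cfsg.Agent.Helper7.S5655.Defs
import Cfsg.Agent.Helper7.S5655.MonoLib
import Cfsg.Agent.Helper28.S5655QR
import Cfsg.Agent.Helper15.S5655BDefs
import Cfsg.Agent.Helper15.S5655BPLANE

/-! # S5655 `k = 1`, chapter (B) of helper15, piece SPREAD (helper4): `R_e` is transitive on the isotropic points of the
plane. -/

set_option autoImplicit false

namespace Cfsg.Agent.S5655K1

open Matrix
open Cfsg.Agent.S2644 Cfsg.Agent.Helper2.SUGen Cfsg.Agent.Helper28.SimMax Cfsg.Agent.MonoP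

variable {K : Type*} [Field K] {q n : ℕ}

local notation "h" => Cfsg.hermForm n K q
local notation "T" => Cfsg.unitaryTransvection n q

/-- SPREAD (S-M): `R_e` is transitive on the isotropic points of the plane: `r_e(s'/s)` maps `s • e + f` to `s' • e + f`
(`PD.re_comb`), `conj_T` (Helper28.S5658.Lib), `PD.unit_inv`, `MS_mul`. -/
theorem SPREAD.main (D : Frob K q) (H : Subgroup (Matrix.GeneralLinearGroup (Fin n) K))
    {e f : Fin n → K} {d ζ : K} (P : PD D e f d ζ) (hRe : HasR D H e) (s s' c : K)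
    (hs : s * D.σ s = -d) (hs' : s' * D.σ s' = -d) (hT : T (s • e + f) c ∈ MS H) :
    T (s' • e + f) c ∈ MS H := by
  have hs0 : s ≠ 0 := by
    rintro rfl
    rw [zero_mul] at hs
    exact P.hd0 (neg_eq_zero.mp hs.symm)
  have hσs0 : D.σ s ≠ 0 := σ_ne_zero D hs0
  set c' : K := s' / s - 1 with hc'
  have h1c : 1 + c' = s' / s := by rw [hc']; ring
  have hU : IsU D (1 + c') := by
    unfold IsU
    rw [h1c, map_div₀, div_mul_div_comm, hs, hs']
    exact div_self (neg_ne_zero.mpr P.hd0)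
  obtain ⟨hUinv, hmul, -⟩ := PD.unit_inv D e P.hee c' hU
  have hA : T e c' ∈ MS H := hRe c' hU
  have hA' : T e ((1 + c')⁻¹ - 1) ∈ MS H := hRe _ hUinv
  have hAP : Pres (q := q) (T e c') := PD.pres_unit D e P.hee c' hU
  have hconj := Cfsg.Agent.S5658P.conj_T D hAP hmul (s • e + f) c
  have hmem : T e c' * T (s • e + f) c * T e ((1 + c')⁻¹ - 1) ∈ MS H := MS_mul (MS_mul hA hT) hA'
  rw [hconj] at hmem
  have himg : T e c' *ᵥ (s • e + f) = s' • e + f := by
    have := P.re_comb c' s 1
    rw [one_smul] at this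
    rw [this, h1c, div_mul_cancel₀ _ hs0]
  rwa [himg] at hmem

end Cfsg.Agent.S5655K1
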