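import Mathlib
import Cfsg.Agent.Helper26.S5704GENDDefs

set_option autoImplicit false
set_option linter.unusedSectionVars false
set_option linter.unusedVariables false

/-! # S5704, chapter SEED, sub-chapter GEND (designer helper26), piece GECONJU (helper4):
conjugation of a `GE`-element by the root element `XU v s = t_{v,s} ⊗ 1`. -/

namespace Cfsg.Agent.S5704P

open Matrix Cfsg.Agent.S5637P Cfsg.Agent.S5704S Cfsg.Agent.Helper28.Sg

variable {F : Type*} [Field F] {n a b : ℕ} (e : Fin n ≃ Fin a × Fin b)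

theorem GEND.GECONJU.tv_add {m : ℕ} (G : Matrix (Fin m) (Fin m) F) (y : Fin m → F) (c : F)
    (w w' : Fin m → F) : tv G y c (w + w') = tv G y c w + tv G y c w' := by
  unfold tv
  rw [bf_add_left, mul_add, add_smul]
  abel

theorem GEND.GECONJU.tv_smul {m : ℕ} (G : Matrix (Fin m) (Fin m) F) (y : Fin m → F) (c r : F)
    (w : Fin m → F) : tv G y c (r • w) = r • tv G y c w := by
  unfold tv
  rw [bf_smul_left, smul_add, smul_smul]
  congr 2
  ring

theorem GEND.GECONJU.inv_tn {GU : Matrix (Fin a) (Fin a) F} (hU : IsSymp GU) (v : Fin a → F) (s : F)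
    (x : Fin a → F) (w : Fin b → F) :
    (((XU e GU v s)⁻¹ : GL (Fin n) F) : Matrix (Fin n) (Fin n) F) *ᵥ tn e x w =
      tn e (tv GU v (-s) x) w := by
  have h := XU_mulVec_tn_tv e hU v s (tv GU v (-s) x) w
  rw [tv_tv_neg hU] at h
  rw [← h, Matrix.mulVec_mulVec, ← Units.val_mul, inv_mul_cancel, Units.val_one, Matrix.one_mulVec]

/-- GECONJU (M) -/
theorem GEND.GECONJU.conj {GU : Matrix (Fin a) (Fin a) F} {GW : Matrix (Fin b) (Fin b) F}
    (hU : IsSymp GU) {u u' : Fin a → F} {z p : Fin b → F} {α β : F} {k : GL (Fin n) F}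
    (h : GE e GU GW u u' z p α β k) (v : Fin a → F) (s : F) :
    GE e GU GW (tv GU v s u) (tv GU v s u') z p α β (XU e GU v s * k * (XU e GU v s)⁻¹) := by
  intro x w
  rw [Units.val_mul, Units.val_mul, ← Matrix.mulVec_mulVec, ← Matrix.mulVec_mulVec,
    GEND.GECONJU.inv_tn e hU, h (tv GU v (-s) x) w, Matrix.mulVec_sub, Matrix.mulVec_add,
    Matrix.mulVec_smul, Matrix.mulVec_smul, XU_mulVec_tn_tv e hU, XU_mulVec_tn_tv e hU,
    XU_mulVec_tn_tv e hU, tv_tv_neg hU, GEND.GECONJU.tv_add, GEND.GECONJU.tv_add,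
    GEND.GECONJU.tv_smul, GEND.GECONJU.tv_smul, GEND.GECONJU.tv_smul, GEND.GECONJU.tv_smul,
    bf_tv_neg_left hU, bf_tv_neg_left hU]

end Cfsg.Agent.S5704P
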