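import Mathlib
import Cfsg.Agent.Helper15.S5704SEEDDefs2

/-! # S5704, chapter SEED (driver helper15), piece SLICE (helper4): the slice of a radical element is a matrix. -/

set_option autoImplicit false
set_option linter.unusedSectionVars false
set_option linter.unusedVariables false

namespace Cfsg.Agent.S5704P

open Matrix Cfsg.Agent.S5637P Cfsg.Agent.S5704S Cfsg.Agent.Helper28.Sg

variable {F : Type*} [Field F] {n a b : ℕ} (e : Fin n ≃ Fin a × Fin b)
variable {Q : QuadraticForm F (Fin n → F)} {GU : Matrix (Fin a) (Fin a) F}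
  {GW : Matrix (Fin b) (Fin b) F} {M : Subgroup (GL (Fin n) F)}

/-- SLICE (M) -/
theorem SLICE.main {z : Fin b → F} (hz : z ≠ 0) {g : GL (Fin n) F} (hrad : RadAt e GW z g)
    {w : Fin b → F} (hw : bf GW w z = 0) : ∃ Θ : Matrix (Fin a) (Fin a) F, Slice e z w Θ g := by
  choose f hf using fun u => hrad.2 u w hw
  have hinj := tn_left_injective (a := a) e hz
  have hadd : ∀ u u', f (u + u') = f u + f u' := by
    intro u u'
    apply hinj
    show tn e (f (u + u')) z = tn e (f u + f u') z
    rw [tn_add_left, ← hf, ← hf, ← hf, tn_add_left, Matrix.mulVec_add]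
    abel
  have hsmul : ∀ (c : F) u, f (c • u) = c • f u := by
    intro c u
    apply hinj
    show tn e (f (c • u)) z = tn e (c • f u) z
    rw [tn_smul_left, ← hf, ← hf, tn_smul_left, Matrix.mulVec_smul, smul_sub]
  let L : (Fin a → F) →ₗ[F] (Fin a → F) :=
    { toFun := f
      map_add' := hadd
      map_smul' := fun c u => by rw [RingHom.id_apply]; exact hsmul c u }
  refine ⟨LinearMap.toMatrix' L, fun u => ?_⟩
  rw [LinearMap.toMatrix'_mulVec]
  show _ = tn e u w + tn e (f u) z
  rw [← hf]
  abel

end Cfsg.Agent.S5704P
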