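import Mathlib
import Cfsg.Prelude.Def_GeometricClasses
import Cfsg.Agent.Helper24.S5704.Defs
import Cfsg.Agent.Helper17.S5704.STDefs

/-! # S5704, chapter STAR' (driver helper17), piece STISOPOL (helper4): an isometry preserves the polar form. -/

set_option autoImplicit false
set_option linter.unusedSectionVars false
set_option linter.unusedVariables false

namespace Cfsg.Agent.S5704P

open Matrix Cfsg.Agent.S5637P Cfsg.Agent.S5704S Cfsg.Agent.S5634P

variable {F : Type*} [Field F] {n a b : ℕ} (e : Fin n ≃ Fin a × Fin b)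

/-- STISOPOL (S) -/
theorem STISOPOL {Q : QuadraticForm F (Fin n → F)} {g : GL (Fin n) F}
    (hg : g ∈ Cfsg.isometryGroup F ⇑Q) (x x' : Fin n → F) :
    QuadraticMap.polar ⇑Q ((g : Matrix (Fin n) (Fin n) F) *ᵥ x)
      ((g : Matrix (Fin n) (Fin n) F) *ᵥ x') = QuadraticMap.polar ⇑Q x x' := by
  have h : ∀ u, Q ((g : Matrix (Fin n) (Fin n) F) *ᵥ u) = Q u := fun u => hg u u
  unfold QuadraticMap.polar
  rw [← Matrix.mulVec_add, h, h, h]

end Cfsg.Agent.S5704P
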