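import Mathlib
import Cfsg.Prelude.Def_FischerSpaces
import Cfsg.Prelude.Def_Local
import Cfsg.Agent.Helper4.ThreeTransPrimC
import Cfsg.Agent.S5351

set_option autoImplicit false
set_option linter.style.haveILetI false
set_option linter.unusedSectionVars false
set_option linter.unusedVariables false

/-!
# 3-transposition groups whose commutator subgroup is simple
-/

namespace Cfsg.Agent.Helper4.ThreeTransPrim

open Subgroup
open scoped commutatorElement

section General

variable {G : Type*} [Group G] [Finite G]

/-- A normal subgroup of index at most two contains the commutator subgroup. -/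
theorem commutator_le_of_index_le_two {L : Subgroup G} [hLn : L.Normal] (h : L.index ≤ 2) :
    commutator G ≤ L := by
  rw [commutator_def, Subgroup.commutator_le]
  intro x _ y _
  by_cases h1 : L.index = 1
  · rw [index_eq_one] at h1
    rw [h1]
    trivial
  · have h0 : L.index ≠ 0 := index_ne_zero_of_finite
    have hi2 : L.index = 2 := by omega
    rw [commutatorElement_def]
    simp only [mul_mem_iff_of_index_two hi2, inv_mem_iff]
    tauto

/-- A quasisimple group with trivial centre is simple. -/
theorem isSimpleGroup_of_center_eq_bot {H : Type*} [Group H] (hH : Cfsg.IsQuasisimple H)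
    (hc : center H = ⊥) : IsSimpleGroup H := by
  haveI := hH.2
  have e1 : H ⧸ center H ≃* H ⧸ (⊥ : Subgroup H) := QuotientGroup.quotientMulEquivOfEq hc
  have e2 : H ⧸ (⊥ : Subgroup H) ≃* H := QuotientGroup.quotientBot
  exact (e1.trans e2).symm.isSimpleGroup

/-- A normal subgroup of order two is central. -/
theorem le_center_of_card_eq_two {N : Subgroup G} [hN : N.Normal] (h : Nat.card N = 2) :
    N ≤ center G := by
  intro x hx
  rw [mem_center_iff]
  intro g
  by_cases hx1 : x = 1
  · rw [hx1, mul_one, one_mul]
  · rw [Nat.card_eq_two_iff' (1 : N)] at h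
    obtain ⟨y, -, hy⟩ := h
    have h1 : (⟨x, hx⟩ : N) = y := hy _ (fun h => hx1 (congrArg Subtype.val h))
    have h2 : (⟨g * x * g⁻¹, hN.conj_mem x hx g⟩ : N) = y := by
      apply hy
      intro h
      have := congrArg Subtype.val h
      simp only [OneMemClass.coe_one] at this
      apply hx1
      have : x = g⁻¹ * (g * x * g⁻¹) * g := by group
      rw [this, ‹g * x * g⁻¹ = 1›]
      group
    have h3 := congrArg Subtype.val (h2.trans h1.symm)
    simp only at h3
    calc g * x = (g * x * g⁻¹) * g := by group
      _ = x * g := by rw [h3]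

end General

section Class

variable {G : Type*} [Group G] [Finite G] {D : Set G}

/-- If `O₂(G)` and `O₃(G)` are central then the Fitting subgroup is the centre. -/
theorem fitting_eq_center (hD : Cfsg.IsThreeTranspositionClass D)
    (hD2 : ∃ a ∈ D, ∃ b ∈ D, a ≠ b) (h2 : Cfsg.pCore 2 G ≤ center G)
    (h3 : Cfsg.pCore 3 G ≤ center G) : Cfsg.fittingSubgroup G = center G := by
  have hall : ∀ p : ℕ, p.Prime → Cfsg.pCore p G ≤ Subgroup.center G := by
    intro p hp
    by_cases hp2 : p = 2
    · rw [hp2]; exact h2
    by_cases hp3 : p = 3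
    · rw [hp3]; exact h3
    apply (Cfsg.Agent.S5351.result hD hD2).1 p hp
    have := hp.two_le
    omega
  apply le_antisymm
  · rw [Cfsg.Agent.Helper7.fittingSubgroup_eq_pCoreSup, Cfsg.Agent.Helper7.pCoreSup_le_iff]
    exact hall
  · have hnil : Group.IsNilpotent (Subgroup.center G) := by
      letI : CommGroup (Subgroup.center G) :=
        { (inferInstance : Group (Subgroup.center G)) with
          mul_comm := fun a b => Subtype.ext ((Subgroup.mem_center_iff.mp a.2) b.1).symm }
      infer_instance
    exact Cfsg.Agent.Helper7.le_fittingSubgroup inferInstance hnil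

variable (hD : Cfsg.IsThreeTranspositionSet D)
  (hgen : Subgroup.closure D = ⊤) (hconjd : ∀ d ∈ D, ∀ e ∈ D, ∃ g : G, g * d * g⁻¹ = e)

include hD hconjd in
/-- Products of two members of the class lie in the commutator subgroup. -/
theorem mul_mem_commutator {d e : G} (hd : d ∈ D) (he : e ∈ D) : d * e ∈ commutator G := by
  obtain ⟨k, rfl⟩ := hconjd d hd e he
  have hdi : d⁻¹ = d := inv_eq_of_mul_eq_one_left (ThreeTransO2.sq_eq_one hD hd)
  have : d * (k * d * k⁻¹) = ⁅d, k⁆ := by
    rw [commutatorElement_def, hdi]
    simp only [mul_assoc]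
  rw [this, commutator_def]
  exact Subgroup.commutator_mem_commutator (mem_top _) (mem_top _)

include hD hgen hconjd in
theorem commutator_index_le_two {d : G} (hd : d ∈ D) : (commutator G).index ≤ 2 :=
  index_le_two_of_forall_mul_mem hgen (ThreeTransO2.sq_eq_one hD hd)
    (fun e he => mul_mem_commutator hD hconjd hd he)

include hD hconjd in
/-- With trivial centre and a commuting pair, a simple commutator subgroup is not abelian. -/
theorem not_comm_of_simple_commutator (hZ : center G = ⊥)
    (hw : ∃ a ∈ D, ∃ b ∈ D, a ≠ b ∧ Commute a b) (hS : IsSimpleGroup (commutator G)) :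
    ¬ ∀ x y : commutator G, x * y = y * x := by
  intro hcomm
  obtain ⟨a, ha, b, hb, hab, hc⟩ := hw
  have ha2 := ThreeTransO2.sq_eq_one hD ha
  have hb2 := ThreeTransO2.sq_eq_one hD hb
  have hmem : a * b ∈ commutator G := mul_mem_commutator hD hconjd ha hb
  have hne1 : a * b ≠ 1 := by
    intro h
    apply hab
    have h5 : a = b⁻¹ := eq_inv_of_mul_eq_one_left h
    rw [h5]
    exact inv_eq_of_mul_eq_one_left hb2
  have hsq : (a * b) * (a * b) = 1 := by
    calc (a * b) * (a * b) = a * (b * a) * b := by simp only [mul_assoc]
      _ = a * (a * b) * b := by rw [hc.eq]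
      _ = (a * a) * (b * b) := by simp only [mul_assoc]
      _ = 1 := by rw [ha2, hb2, one_mul]
  letI : CommGroup (commutator G) :=
    { (inferInstance : Group (commutator G)) with mul_comm := hcomm }
  have hprime : (Nat.card (commutator G)).Prime := IsSimpleGroup.prime_card
  have hord : orderOf (⟨a * b, hmem⟩ : commutator G) = 2 := by
    apply orderOf_eq_prime
    · rw [pow_two]
      exact Subtype.ext hsq
    · intro h
      exact hne1 (congrArg Subtype.val h)
  have hdvd : 2 ∣ Nat.card (commutator G) := by
    rw [← hord]
    exact orderOf_dvd_natCard _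
  have hcard : Nat.card (commutator G) = 2 :=
    ((Nat.prime_dvd_prime_iff_eq Nat.prime_two hprime).mp hdvd).symm
  have hle : commutator G ≤ center G := le_center_of_card_eq_two hcard
  rw [hZ] at hle
  exact hne1 ((mem_bot).mp (hle hmem))

/-- If the commutator subgroup is simple and not abelian, and the centre is trivial, then every
`O_p(G)` is trivial. -/
theorem pCore_eq_bot_of_simple_commutator (hZ : center G = ⊥) (hS : IsSimpleGroup (commutator G))
    (hnc : ¬ ∀ x y : commutator G, x * y = y * x) (p : ℕ) [Fact p.Prime] :
    Cfsg.pCore p G = ⊥ := by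
  haveI := hS
  have hnorm : ((Cfsg.pCore p G).subgroupOf (commutator G)).Normal := inferInstance
  rcases hnorm.eq_bot_or_eq_top with h | h
  · rw [subgroupOf_eq_bot, disjoint_iff] at h
    rw [eq_bot_iff, ← hZ]
    intro x hx
    rw [mem_center_iff]
    intro g
    have h1 : ⁅x, g⁆ ∈ Cfsg.pCore p G ⊓ commutator G := by
      refine ⟨?_, ?_⟩
      · rw [commutatorElement_def, mul_assoc, mul_assoc]
        rw [← mul_assoc g]
        exact Subgroup.mul_mem _ hx ((Cfsg.pCore_normal p G).conj_mem _ (Subgroup.inv_mem _ hx) g)
      · rw [commutator_def]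
        exact Subgroup.commutator_mem_commutator (mem_top _) (mem_top _)
    rw [h, mem_bot, commutatorElement_eq_one_iff_mul_comm] at h1
    exact h1.symm
  · exfalso
    rw [subgroupOf_eq_top] at h
    have hp : IsPGroup p (commutator G) := (Cfsg.Agent.Helper14.pCore_isPGroup p).to_le h
    haveI : Nontrivial (commutator G) := IsSimpleGroup.toNontrivial
    have hcn : Nontrivial (center (commutator G)) := hp.center_nontrivial
    have hcnorm : (center (commutator G)).Normal := inferInstance
    rcases hcnorm.eq_bot_or_eq_top with h' | h'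
    · exact (Subgroup.nontrivial_iff_ne_bot _).mp hcn h'
    · apply hnc
      intro x y
      have hx : x ∈ center (commutator G) := by rw [h']; trivial
      rw [mem_center_iff] at hx
      exact (hx y).symm

end Class

end Cfsg.Agent.Helper4.ThreeTransPrim
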