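import Mathlib
import Cfsg.Prelude.Def_FischerSpaces
import Cfsg.Prelude.Def_Local
import Cfsg.Agent.Helper4.ThreeTransPrimC

set_option autoImplicit false
set_option linter.style.haveILetI false
set_option linter.unusedSectionVars false
set_option linter.unusedVariables false

/-!
# Special subsets of a primitive class of 3-transpositions

A subset `B` of `D` with at least two members, closed under conjugation by its own members, such
that every member of `D` outside `B` commutes with all or with none of `B`, is all of `D` when the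
group acts primitively on `D` and the `V`- and `W`-relations are trivial.
-/

namespace Cfsg.Agent.Helper4.ThreeTransPrim

open Relation

section Comp

variable {G : Type*} [Group G]

/-- One step inside `B` along the relation `A`. -/
def stepRel (B : Set G) (A : G → G → Prop) (u v : G) : Prop := u ∈ B ∧ v ∈ B ∧ A u v

/-- The component of `x` in `B` for the relation `A`. -/
def comp (B : Set G) (A : G → G → Prop) (x : G) : Set G :=
  {y | ReflTransGen (stepRel B A) x y}

theorem mem_comp_self (B : Set G) (A : G → G → Prop) (x : G) : x ∈ comp B A x :=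
  ReflTransGen.refl

theorem comp_subset {B : Set G} {A : G → G → Prop} {x : G} (hx : x ∈ B) : comp B A x ⊆ B := by
  intro y hy
  induction hy with
  | refl => exact hx
  | tail _ hbc _ => exact hbc.2.1

theorem rtg_symm {B : Set G} {A : G → G → Prop} (hA : ∀ u v, A u v → A v u) {a b : G}
    (h : ReflTransGen (stepRel B A) a b) : ReflTransGen (stepRel B A) b a := by
  induction h with
  | refl => exact ReflTransGen.refl
  | tail _ hbc ih => exact ReflTransGen.head ⟨hbc.2.1, hbc.1, hA _ _ hbc.2.2⟩ ih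

theorem rtg_conj {B : Set G} {A : G → G → Prop}
    (hAinv : ∀ k u v, A u v → A (k * u * k⁻¹) (k * v * k⁻¹))
    (hS : ∀ x ∈ B, ∀ y ∈ B, x * y * x⁻¹ ∈ B) {k : G} (hk : k ∈ B) {a b : G}
    (h : ReflTransGen (stepRel B A) a b) :
    ReflTransGen (stepRel B A) (k * a * k⁻¹) (k * b * k⁻¹) := by
  induction h with
  | refl => exact ReflTransGen.refl
  | tail _ hbc ih =>
    exact ReflTransGen.tail ih ⟨hS k hk _ hbc.1, hS k hk _ hbc.2.1, hAinv k _ _ hbc.2.2⟩

/-- Connectedness of `B` for `A`. -/
def Conn (B : Set G) (A : G → G → Prop) : Prop :=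
  ∀ u ∈ B, ∀ v ∈ B, ReflTransGen (stepRel B A) u v

theorem conn_of_comp_eq {B : Set G} {A : G → G → Prop} (hA : ∀ u v, A u v → A v u) {x : G}
    (h : comp B A x = B) : Conn B A := by
  intro u hu v hv
  rw [← h] at hu hv
  exact (rtg_symm hA hu).trans hv

/-- A subset closed under steps and meeting a connected `B` contains `B`. -/
theorem subset_of_closed {B : Set G} {A : G → G → Prop} (hconn : Conn B A) (S : Set G)
    (hS : ∀ u ∈ S, ∀ v, stepRel B A u v → v ∈ S) {u₀ : G} (hu₀ : u₀ ∈ S) (hu₀B : u₀ ∈ B) :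
    B ⊆ S := by
  have key : ∀ v, ReflTransGen (stepRel B A) u₀ v → v ∈ S := by
    intro v h
    induction h with
    | refl => exact hu₀
    | tail _ hbc ih => exact hS _ ih _ hbc
  intro v hv
  exact key v (hconn u₀ hu₀B v hv)

end Comp

section Special

variable {G : Type*} [Group G] [Finite G]

/-- Special subsets. -/
structure IsSpecial (D B : Set G) : Prop where
  sub : B ⊆ D
  two : ∃ a ∈ B, ∃ b ∈ B, a ≠ b
  conj : ∀ x ∈ B, ∀ y ∈ B, x * y * x⁻¹ ∈ B
  an : ∀ z ∈ D, z ∉ B → (∀ y ∈ B, Commute z y) ∨ (∀ y ∈ B, ¬ Commute z y)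

/-- Commuting adjacency. -/
def Rc (u v : G) : Prop := u ≠ v ∧ Commute u v

/-- Non-commuting adjacency. -/
def Rn (u v : G) : Prop := ¬ Commute u v

theorem Rc_symm (u v : G) (h : Rc u v) : Rc v u := ⟨h.1.symm, h.2.symm⟩

theorem Rn_symm (u v : G) (h : Rn u v) : Rn v u := fun h' => h h'.symm

theorem Rc_conj (k u v : G) (h : Rc u v) : Rc (k * u * k⁻¹) (k * v * k⁻¹) := by
  refine ⟨?_, (Commute.conj_iff k).mpr h.2⟩
  intro heq
  exact h.1 (mul_left_cancel (mul_right_cancel heq))

theorem Rn_conj (k u v : G) (h : Rn u v) : Rn (k * u * k⁻¹) (k * v * k⁻¹) := by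
  intro h'
  exact h ((Commute.conj_iff k).mp h')

variable {D : Set G}

/-- A component with at least two members of a special set is special, given the all-or-none
property for members of `B` outside the component. -/
theorem isSpecial_comp {B : Set G} (A : G → G → Prop) (hAsymm : ∀ u v, A u v → A v u)
    (hAinv : ∀ k u v, A u v → A (k * u * k⁻¹) (k * v * k⁻¹)) (hB : IsSpecial D B) {x : G}
    (hx : x ∈ B) (h2 : ∃ y ∈ B, y ≠ x ∧ A x y)
    (hAN : ∀ z ∈ B, z ∉ comp B A x →
      (∀ y ∈ comp B A x, Commute z y) ∨ (∀ y ∈ comp B A x, ¬ Commute z y)) :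
    IsSpecial D (comp B A x) := by
  have hsub : comp B A x ⊆ B := comp_subset hx
  refine ⟨hsub.trans hB.sub, ?_, ?_, ?_⟩
  · obtain ⟨y, hy, hne, hA⟩ := h2
    exact ⟨x, mem_comp_self B A x, y, ReflTransGen.single ⟨hx, hy, hA⟩, hne.symm⟩
  · intro u hu v hv
    -- x → u → u x u⁻¹ → u v u⁻¹
    have huB := hsub hu
    have h1 : ReflTransGen (stepRel B A) (u * u * u⁻¹) (u * x * u⁻¹) :=
      rtg_conj hAinv hB.conj huB (rtg_symm hAsymm hu)
    have h2 : ReflTransGen (stepRel B A) (u * x * u⁻¹) (u * v * u⁻¹) :=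
      rtg_conj hAinv hB.conj huB hv
    rw [mul_inv_cancel_right] at h1
    exact (ReflTransGen.trans hu h1).trans h2
  · intro z hzD hz
    by_cases hzB : z ∈ B
    · exact hAN z hzB hz
    · rcases hB.an z hzD hzB with h | h
      · exact Or.inl fun y hy => h y (hsub hy)
      · exact Or.inr fun y hy => h y (hsub hy)

theorem isSpecial_comp_Rc {B : Set G} (hB : IsSpecial D B) {x : G} (hx : x ∈ B)
    (h2 : ∃ y ∈ B, y ≠ x ∧ Commute x y) : IsSpecial D (comp B Rc x) := by
  apply isSpecial_comp Rc Rc_symm Rc_conj hB hx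
  · obtain ⟨y, hy, hne, hc⟩ := h2
    exact ⟨y, hy, hne, hne.symm, hc⟩
  · intro z hzB hz
    right
    intro y hy hc
    apply hz
    have hyB : y ∈ B := comp_subset hx hy
    have hne : y ≠ z := fun h => hz (h ▸ hy)
    exact ReflTransGen.tail hy ⟨hyB, hzB, hne, hc.symm⟩

theorem isSpecial_comp_Rn {B : Set G} (hB : IsSpecial D B) {x : G} (hx : x ∈ B)
    (h2 : ∃ y ∈ B, ¬ Commute x y) : IsSpecial D (comp B Rn x) := by
  apply isSpecial_comp Rn Rn_symm Rn_conj hB hx
  · obtain ⟨y, hy, hc⟩ := h2
    refine ⟨y, hy, ?_, hc⟩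
    intro h
    apply hc
    rw [h]
  · intro z hzB hz
    left
    intro y hy
    by_contra hc
    apply hz
    have hyB : y ∈ B := comp_subset hx hy
    exact ReflTransGen.tail hy ⟨hyB, hzB, fun h => hc h.symm⟩

/-- The all-or-none property for translates. -/
theorem an_translate {B : Set G} (hconj : ∀ g : G, ∀ x ∈ D, g * x * g⁻¹ ∈ D)
    (hB : IsSpecial D B) (k : G) : ∀ z ∈ D, z ∉ cj k '' B →
    (∀ y ∈ cj k '' B, Commute z y) ∨ (∀ y ∈ cj k '' B, ¬ Commute z y) := by
  intro z hzD hz
  have hz'D : k⁻¹ * z * k ∈ D := by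
    have := hconj k⁻¹ z hzD
    rwa [inv_inv] at this
  have hz'B : k⁻¹ * z * k ∉ B := by
    intro h
    apply hz
    refine ⟨k⁻¹ * z * k, h, ?_⟩
    rw [cj_apply]; group
  have key : ∀ y : G, Commute z (k * y * k⁻¹) ↔ Commute (k⁻¹ * z * k) y := by
    intro y
    have h1 : z = k * (k⁻¹ * z * k) * k⁻¹ := by group
    conv_lhs => rw [h1]
    exact Commute.conj_iff k
  rcases hB.an _ hz'D hz'B with h | h
  · left
    rintro _ ⟨y, hy, rfl⟩
    rw [cj_apply, key]
    exact h y hy
  · right
    rintro _ ⟨y, hy, rfl⟩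
    rw [cj_apply, key]
    exact h y hy

/-- A special set connected for both adjacencies is a block. -/
theorem block_of_biconnected {B : Set G} (hconj : ∀ g : G, ∀ x ∈ D, g * x * g⁻¹ ∈ D)
    (hB : IsSpecial D B) (hcc : Conn B Rc) (hnc : Conn B Rn) (g : G) :
    cj g '' B = B ∨ Disjoint (cj g '' B) B := by
  by_cases hdis : Disjoint (cj g '' B) B
  · exact Or.inr hdis
  left
  by_contra hne
  rw [Set.not_disjoint_iff] at hdis
  obtain ⟨u₀, ⟨v₀, hv₀, hu₀eq⟩, hu₀B⟩ := hdis
  have hfin : B.Finite := Set.toFinite B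
  have hcard : ∀ k : G, (cj k '' B).ncard = B.ncard := fun k =>
    Set.ncard_image_of_injective B (cj_injective k)
  -- B is not contained in its translates
  have hns : ¬ B ⊆ cj g '' B := by
    intro h
    apply hne
    exact (Set.eq_of_subset_of_ncard_le h (le_of_eq (hcard g)) (Set.toFinite _)).symm
  have hns' : ¬ B ⊆ cj g⁻¹ '' B := by
    intro h
    have h1 : B = cj g⁻¹ '' B :=
      Set.eq_of_subset_of_ncard_le h (le_of_eq (hcard g⁻¹)) (Set.toFinite _)
    apply hne
    conv_lhs => rw [h1]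
    rw [cj_image_mul, mul_inv_cancel, cj_one_image]
  -- step (1): a member of the translate outside `B` not commuting with a member of `B`
  have h1 : ∃ b' ∈ cj g '' B, b' ∉ B ∧ ∃ y' ∈ B, ¬ Commute b' y' := by
    by_contra hcon
    push Not at hcon
    apply hns'
    -- the set of members of the translate by g⁻¹ is closed under Rn-steps
    have hv₀' : v₀ ∈ cj g⁻¹ '' B := by
      refine ⟨u₀, hu₀B, ?_⟩
      rw [← hu₀eq, cj_apply, cj_apply]; group
    apply subset_of_closed hnc (cj g⁻¹ '' B) _ hv₀' hv₀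
    intro u hu v hst
    by_contra hv
    obtain ⟨huB, hvB, hnc'⟩ := hst
    -- b' = g v g⁻¹ is in the translate, not in B
    have hb' : cj g v ∈ cj g '' B := ⟨v, hvB, rfl⟩
    have hb'B : cj g v ∉ B := by
      intro h
      apply hv
      refine ⟨cj g v, h, ?_⟩
      rw [cj_apply, cj_apply]; group
    obtain ⟨w, hw, hwu⟩ := hu
    have := hcon (cj g v) hb' hb'B w hw
    apply hnc'
    have h2 : Commute (cj g v) (cj g u) := by
      have : cj g u = w := by
        rw [← hwu, cj_apply, cj_apply]; group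
      rw [this]
      exact ‹Commute (cj g v) w›
    rw [cj_apply, cj_apply] at h2
    exact ((Commute.conj_iff g).mp h2).symm
  obtain ⟨b', hb', hb'B, y', hy', hby⟩ := h1
  have hb'D : b' ∈ D := by
    obtain ⟨w, hw, rfl⟩ := hb'
    exact hconj g w (hB.sub hw)
  -- step (2)
  have h2 : ∀ y ∈ B, ¬ Commute b' y := by
    rcases hB.an b' hb'D hb'B with h | h
    · exact absurd (h y' hy') hby
    · exact h
  -- step (3)
  have h3 : ∀ c ∈ B, c ∉ cj g '' B → ∀ y ∈ cj g '' B, ¬ Commute c y := by
    intro c hc hc'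
    rcases an_translate hconj hB g c (hB.sub hc) hc' with h | h
    · exact absurd (h b' hb').symm (h2 c hc)
    · exact h
  -- step (4)
  apply hns
  apply subset_of_closed hcc (cj g '' B) _ ⟨v₀, hv₀, hu₀eq⟩ hu₀B
  intro u hu v hst
  by_contra hv
  obtain ⟨huB, hvB, hne', hc⟩ := hst
  exact h3 v hvB hv u hu hc.symm

/-- Main theorem on special sets. -/
theorem special_eq (hconj : ∀ g : G, ∀ x ∈ D, g * x * g⁻¹ ∈ D)
    (hprim : Cfsg.IsPrimitiveUnderConj D)
    (hV : ∀ x ∈ D, ∀ y ∈ D, (∀ e ∈ D, Commute x e ↔ Commute y e) → x = y)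
    (hW : ∀ x ∈ D, ∀ y ∈ D, ThreeTransO3.Th D x y → x = y) :
    ∀ (n : ℕ) (B : Set G), IsSpecial D B → B.ncard = n → B = D := by
  intro n
  induction n using Nat.strong_induction_on with
  | _ n ih =>
    intro B hB hn
    -- a commuting pair in B
    have hc : ∃ x ∈ B, ∃ y ∈ B, y ≠ x ∧ Commute x y := by
      by_contra hcon
      push Not at hcon
      obtain ⟨a, ha, b, hb, hab⟩ := hB.two
      apply hab
      apply hW a (hB.sub ha) b (hB.sub hb)
      have key : ∀ s ∈ B, ∀ t ∈ B, ThreeTransO3.Dset D s ⊆ ThreeTransO3.Dset D t := by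
        intro s hs t ht y hy
        obtain ⟨hyD, hys, hsy⟩ := hy
        have hyB : y ∉ B := fun h => hcon s hs y h hys hsy
        refine ⟨hyD, fun h => hyB (h ▸ ht), ?_⟩
        rcases hB.an y hyD hyB with h | h
        · exact (h t ht).symm
        · exact absurd hsy.symm (h s hs)
      exact Set.Subset.antisymm (key a ha b hb) (key b hb a ha)
    obtain ⟨x, hx, y, hy, hyx, hxy⟩ := hc
    have hC := isSpecial_comp_Rc hB hx ⟨y, hy, hyx, hxy⟩
    have hCsub : comp B Rc x ⊆ B := comp_subset hx
    by_cases hCeq : comp B Rc x = B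
    swap
    · have hlt : (comp B Rc x).ncard < n := by
        rw [← hn]
        exact Set.ncard_lt_ncard (lt_of_le_of_ne hCsub hCeq) (Set.toFinite B)
      have := ih _ hlt _ hC rfl
      exact Set.Subset.antisymm hB.sub (this ▸ hCsub)
    have hcc : Conn B Rc := conn_of_comp_eq Rc_symm hCeq
    -- a non-commuting pair in B
    have hnc' : ∃ x ∈ B, ∃ y ∈ B, ¬ Commute x y := by
      by_contra hcon
      push Not at hcon
      obtain ⟨a, ha, b, hb, hab⟩ := hB.two
      apply hab
      apply hV a (hB.sub ha) b (hB.sub hb)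
      have key : ∀ s ∈ B, ∀ t ∈ B, ∀ e ∈ D, Commute s e → Commute t e := by
        intro s hs t ht e he hse
        by_cases heB : e ∈ B
        · exact hcon t ht e heB
        · rcases hB.an e he heB with h | h
          · exact (h t ht).symm
          · exact absurd hse.symm (h s hs)
      exact fun e he => ⟨key a ha b hb e he, key b hb a ha e he⟩
    obtain ⟨x', hx', y', hy', hxy'⟩ := hnc'
    have hN := isSpecial_comp_Rn hB hx' ⟨y', hy', hxy'⟩
    have hNsub : comp B Rn x' ⊆ B := comp_subset hx'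
    by_cases hNeq : comp B Rn x' = B
    swap
    · have hlt : (comp B Rn x').ncard < n := by
        rw [← hn]
        exact Set.ncard_lt_ncard (lt_of_le_of_ne hNsub hNeq) (Set.toFinite B)
      have := ih _ hlt _ hN rfl
      exact Set.Subset.antisymm hB.sub (this ▸ hNsub)
    have hnc : Conn B Rn := conn_of_comp_eq Rn_symm hNeq
    rcases hprim.2.2 B hB.sub (block_of_biconnected hconj hB hcc hnc) with h | h
    · exfalso
      obtain ⟨a, ha, b, hb, hab⟩ := hB.two
      exact hab (h ha hb)
    · exact h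

end Special

end Cfsg.Agent.Helper4.ThreeTransPrim
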