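import Cfsg.Agent.Helper16.FHBNDefs

set_option autoImplicit false

/-!
# Feit–Higman (S1142), piece E3: entries of alternating products of the chamber adjacency matrices
are the indicators of the Bruhat types.
-/

namespace Cfsg.Agent.Helper16.FH

open Cfsg Cfsg.Agent.Helper12.BNSt Cfsg.Agent.Helper14.ExchCox Matrix

variable {G : Type*} [Group G] (P : Cfsg.BNPair G)

namespace E3Aux

/-- the alternating list of generators -/
def altList (σ : Fin 2 → P.S) : ℕ → Fin 2 → List P.S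
  | 0, _ => []
  | k + 1, i => σ i :: altList σ k (1 - i)

theorem altList_length (σ : Fin 2 → P.S) : ∀ (k : ℕ) (i : Fin 2), (altList P σ k i).length = k
  | 0, _ => rfl
  | k + 1, i => by
    show (altList P σ k (1 - i)).length + 1 = k + 1
    rw [altList_length σ k (1 - i)]

theorem eq_of_out_inv_mul_mem {x y : G ⧸ P.B} (h : x.out⁻¹ * y.out ∈ P.B) : x = y := by
  rw [← QuotientGroup.out_eq' x, ← QuotientGroup.out_eq' y]
  exact QuotientGroup.eq.mpr h

variable [hN : ((P.B ⊓ P.N).subgroupOf P.N).Normal]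

theorem wp_altList (σ : Fin 2 → P.S) : ∀ (k : ℕ) (i : Fin 2),
    wp (sgen P) (altList P σ k i) = alt (wgen P σ) k i
  | 0, _ => rfl
  | k + 1, i => by
    show wp (sgen P) (σ i :: altList P σ k (1 - i)) = wgen P σ i * alt (wgen P σ) k (1 - i)
    rw [wp_cons, wp_altList σ k (1 - i)]
    rfl

theorem len_wgen (σ : Fin 2 → P.S) (n : ℕ)
    (hlen : ∀ k i, k ≤ n → len (sgen P) (alt (wgen P σ) k i) = k) (hn : 1 ≤ n) (i : Fin 2) :
    len (sgen P) (sgen P (σ i)) = 1 := by
  have h := hlen 1 i hn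
  have e : alt (wgen P σ) 1 i = sgen P (σ i) := by
    show wgen P σ i * 1 = sgen P (σ i)
    rw [mul_one]
    rfl
  rw [e] at h
  exact h

/-- composition of types along an alternating word -/
theorem typ_comp (σ : Fin 2 → P.S) (n : ℕ)
    (hlen : ∀ k i, k ≤ n → len (sgen P) (alt (wgen P σ) k i) = k) (k : ℕ) (hk : k + 1 ≤ n)
    (i : Fin 2) (x y z : G ⧸ P.B)
    (h1 : typ P (x.out⁻¹ * y.out) = sgen P (σ i))
    (h2 : typ P (y.out⁻¹ * z.out) = alt (wgen P σ) k (1 - i)) :
    typ P (x.out⁻¹ * z.out) = alt (wgen P σ) (k + 1) i := by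
  have e : x.out⁻¹ * z.out = (x.out⁻¹ * y.out) * (y.out⁻¹ * z.out) := by group
  have h2' : typ P (y.out⁻¹ * z.out) = wp (sgen P) (altList P σ k (1 - i)) := by
    rw [h2, wp_altList]
  have hl : len (sgen P) (typ P (x.out⁻¹ * y.out) * wp (sgen P) (altList P σ k (1 - i))) =
      len (sgen P) (typ P (x.out⁻¹ * y.out)) + (altList P σ k (1 - i)).length := by
    rw [h1, wp_altList, altList_length, len_wgen P σ n hlen (by omega) i]
    have h3 := hlen (k + 1) i hk
    have e3 : alt (wgen P σ) (k + 1) i = sgen P (σ i) * alt (wgen P σ) k (1 - i) := rfl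
    rw [e3] at h3
    rw [h3]
    omega
  rw [e, typ_mul_of_add P (altList P σ k (1 - i)) _ _ h2' hl, h1, wp_altList]
  rfl

/-- existence of the intermediate chamber -/
theorem exists_mid (σ : Fin 2 → P.S) (k : ℕ) (i : Fin 2) (x z : G ⧸ P.B)
    (h : typ P (x.out⁻¹ * z.out) = alt (wgen P σ) (k + 1) i) :
    ∃ y : G ⧸ P.B, typ P (x.out⁻¹ * y.out) = sgen P (σ i) ∧
      typ P (y.out⁻¹ * z.out) = alt (wgen P σ) k (1 - i) := by
  obtain ⟨n', hn', -, hw'⟩ := exists_rep_wp P (altList P σ k (1 - i))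
  rw [wp_altList] at hw'
  have hsN : ((σ i : P.S) : G) ∈ P.N := P.subset (σ i).2
  have hmem : ((σ i : P.S) : G) * n' ∈ P.N := P.N.mul_mem hsN hn'
  have h' : typ P (x.out⁻¹ * z.out) = QuotientGroup.mk ⟨((σ i : P.S) : G) * n', hmem⟩ := by
    rw [h]
    show wgen P σ i * alt (wgen P σ) k (1 - i) = _
    rw [← hw']
    rfl
  obtain ⟨b, hb, b', hb', hx⟩ := exists_eq_of_typ P hmem h'
  have hz : z.out = x.out * (b * (((σ i : P.S) : G) * n') * b') := by
    rw [← hx]; group
  obtain ⟨b'', hb''⟩ := QuotientGroup.mk_out_eq_mul P.B (x.out * b * ((σ i : P.S) : G))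
  refine ⟨((x.out * b * ((σ i : P.S) : G) : G) : G ⧸ P.B), ?_, ?_⟩
  · rw [hb'']
    have e : x.out⁻¹ * (x.out * b * ((σ i : P.S) : G) * (b'' : G)) =
        b * ((σ i : P.S) : G) * (b'' : G) := by group
    rw [e, typ_mul_right P _ b''.2, typ_mul_left P _ hb, typ_simple]
  · rw [hb'', hz]
    have e : (x.out * b * ((σ i : P.S) : G) * (b'' : G))⁻¹ *
        (x.out * (b * (((σ i : P.S) : G) * n') * b')) = (b'' : G)⁻¹ * n' * b' := by group
    rw [e, typ_mul_right P _ hb', typ_mul_left P _ (P.B.inv_mem b''.2), typ_of_mem_N P hn', hw']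

/-- uniqueness of the intermediate chamber -/
theorem mid_unique (σ : Fin 2 → P.S) (n : ℕ)
    (hlen : ∀ k i, k ≤ n → len (sgen P) (alt (wgen P σ) k i) = k) (k : ℕ) (hk : k + 1 ≤ n)
    (i : Fin 2) (x z y y' : G ⧸ P.B)
    (h1 : typ P (x.out⁻¹ * y.out) = sgen P (σ i))
    (h2 : typ P (y.out⁻¹ * z.out) = alt (wgen P σ) k (1 - i))
    (h1' : typ P (x.out⁻¹ * y'.out) = sgen P (σ i))
    (h2' : typ P (y'.out⁻¹ * z.out) = alt (wgen P σ) k (1 - i)) : y = y' := by
  have hg1 : typ P (y.out⁻¹ * x.out) = sgen P (σ i) := by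
    have e : y.out⁻¹ * x.out = (x.out⁻¹ * y.out)⁻¹ := by group
    rw [e, typ_inv, h1, sgen_inv]
  have hsN : ((σ i : P.S) : G) ∈ P.N := P.subset (σ i).2
  obtain ⟨b1, hb1, b2, hb2, hg⟩ := exists_eq_of_typ P hsN (hg1.trans (sgen_eq P (σ i)))
  have e : y.out⁻¹ * y'.out =
      b1 * (((σ i : P.S) : G) * (b2 * (x.out⁻¹ * y'.out))) := by
    have : y.out⁻¹ * y'.out = (y.out⁻¹ * x.out) * (x.out⁻¹ * y'.out) := by group
    rw [this, hg]; group
  have hcases := typ_simple_mul P (σ i) (b2 * (x.out⁻¹ * y'.out))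
  rw [typ_mul_left P _ hb2, h1'] at hcases
  have ht : typ P (y.out⁻¹ * y'.out) = typ P (((σ i : P.S) : G) * (b2 * (x.out⁻¹ * y'.out))) := by
    rw [e, typ_mul_left P _ hb1]
  rcases hcases with hc | hc
  · rw [hc, hyp_sgen.sq] at ht
    exact eq_of_out_inv_mul_mem P ((typ_eq_one_iff P).mp ht)
  · exfalso
    rw [hc] at ht
    have h3 := typ_comp P σ n hlen k hk i y y' z ht h2'
    rw [h2] at h3
    have l1 := hlen k (1 - i) (by omega)
    have l2 := hlen (k + 1) i hk
    rw [h3] at l1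
    omega

theorem main (σ : Fin 2 → P.S) (n : ℕ) [Fintype (G ⧸ P.B)] [DecidableEq (G ⧸ P.B)]
    (hlen : ∀ k i, k ≤ n → len (sgen P) (alt (wgen P σ) k i) = k) :
    ∀ (k : ℕ), k ≤ n → ∀ (i : Fin 2) (x y : G ⧸ P.B),
      (typ P (x.out⁻¹ * y.out) = alt (wgen P σ) k i → alt (adj P σ) k i x y = 1) ∧
      (typ P (x.out⁻¹ * y.out) ≠ alt (wgen P σ) k i → alt (adj P σ) k i x y = 0) := by
  classical
  intro k
  induction k with
  | zero =>
    intro _ i x y
    have e : alt (adj P σ) 0 i = 1 := rfl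
    have e' : alt (wgen P σ) 0 i = 1 := rfl
    rw [e, e', Matrix.one_apply]
    constructor
    · intro h
      rw [if_pos (eq_of_out_inv_mul_mem P ((typ_eq_one_iff P).mp h))]
    · intro h
      rw [if_neg]
      rintro rfl
      apply h
      rw [inv_mul_cancel]
      exact typ_one P
  | succ k ih =>
    intro hk i x z
    have ih' := ih (by omega) (1 - i)
    have e : alt (adj P σ) (k + 1) i = adj P σ i * alt (adj P σ) k (1 - i) := rfl
    rw [e, Matrix.mul_apply]
    have hterm : ∀ y : G ⧸ P.B,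
        ¬ (typ P (x.out⁻¹ * y.out) = sgen P (σ i) ∧
          typ P (y.out⁻¹ * z.out) = alt (wgen P σ) k (1 - i)) →
        adj P σ i x y * alt (adj P σ) k (1 - i) y z = 0 := by
      intro y hy
      by_cases hp : typ P (x.out⁻¹ * y.out) = sgen P (σ i)
      · have hq : typ P (y.out⁻¹ * z.out) ≠ alt (wgen P σ) k (1 - i) := fun hq => hy ⟨hp, hq⟩
        rw [(ih' y z).2 hq, mul_zero]
      · rw [adj_apply, if_neg hp, zero_mul]
    constructor
    · intro h
      obtain ⟨y0, hy0p, hy0q⟩ := exists_mid P σ k i x z h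
      rw [Finset.sum_eq_single y0]
      · rw [adj_apply, if_pos hy0p, (ih' y0 z).1 hy0q, mul_one]
      · intro y _ hne
        apply hterm
        rintro ⟨hp, hq⟩
        exact hne (mid_unique P σ n hlen k hk i x z y y0 hp hq hy0p hy0q)
      · intro h0
        exact absurd (Finset.mem_univ y0) h0
    · intro h
      apply Finset.sum_eq_zero
      intro y _
      apply hterm
      rintro ⟨hp, hq⟩
      exact h (typ_comp P σ n hlen k hk i x y z hp hq)

end E3Aux

variable [hN : ((P.B ⊓ P.N).subgroupOf P.N).Normal]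

theorem alt_adj [Finite G] [Fintype (G ⧸ P.B)] [DecidableEq (G ⧸ P.B)] (σ : Fin 2 → P.S) (n : ℕ)
    (hlen : ∀ k i, k ≤ n → len (sgen P) (alt (wgen P σ) k i) = k) (k : ℕ) (hk : k ≤ n)
    (i : Fin 2) (x y : G ⧸ P.B) [Decidable (typ P (x.out⁻¹ * y.out) = alt (wgen P σ) k i)] :
    alt (adj P σ) k i x y = if typ P (x.out⁻¹ * y.out) = alt (wgen P σ) k i then 1 else 0 := by
  have h := E3Aux.main P σ n hlen k hk i x y
  split_ifs with hc
  · exact h.1 hc
  · exact h.2 hc

end Cfsg.Agent.Helper16.FH
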