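import Mathlib
import Cfsg.Agent.Helper16.S3266Defs

set_option autoImplicit false

/-! S3266 piece C1: explicit common neighbour when `i ^ 2 = -1`; general identities for the pencil
`α A + β B + σ (AB - BA)` of trace-zero `2 × 2` matrices. -/

namespace Cfsg.Agent.Helper4.S3266C1

open Matrix Cfsg.Agent.S3266P

variable {F : Type*} [Field F]

/-- the pencil `α A + β B + σ (AB - BA)` -/
def pen (A B : M2 F) (α β σ : F) : M2 F := α • A + β • B + σ • (A * B - B * A)

theorem pen_trace (A B : M2 F) (hA : A.trace = 0) (hB : B.trace = 0) (α β σ : F) :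
    (pen A B α β σ).trace = 0 := by
  unfold pen
  rw [Matrix.trace_add, Matrix.trace_add, Matrix.trace_smul, Matrix.trace_smul, Matrix.trace_smul,
    Matrix.trace_sub, Matrix.trace_mul_comm B A, hA, hB]
  simp

theorem pen_det (A B : M2 F) (hA : A.trace = 0) (hB : B.trace = 0) (α β σ : F) :
    (pen A B α β σ).det = α ^ 2 * A.det + β ^ 2 * B.det - α * β * (A * B).trace
      + σ ^ 2 * (4 * A.det * B.det - (A * B).trace ^ 2) := by
  rw [Matrix.trace_fin_two] at hA hB
  have hA' : A 1 1 = -A 0 0 := by linear_combination hA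
  have hB' : B 1 1 = -B 0 0 := by linear_combination hB
  unfold pen
  simp only [Matrix.det_fin_two, Matrix.trace_fin_two, Matrix.mul_apply, Fin.sum_univ_two,
    Matrix.add_apply, Matrix.sub_apply, Matrix.smul_apply, smul_eq_mul, hA', hB']
  ring

theorem trace_mul_pen (A B : M2 F) (hA : A.trace = 0) (hB : B.trace = 0) (α β σ : F) :
    (A * pen A B α β σ).trace = -2 * α * A.det + β * (A * B).trace := by
  rw [Matrix.trace_fin_two] at hA hB
  have hA' : A 1 1 = -A 0 0 := by linear_combination hA
  have hB' : B 1 1 = -B 0 0 := by linear_combination hB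
  unfold pen
  simp only [Matrix.det_fin_two, Matrix.trace_fin_two, Matrix.mul_apply, Fin.sum_univ_two,
    Matrix.add_apply, Matrix.sub_apply, Matrix.smul_apply, smul_eq_mul, hA', hB']
  ring

theorem trace_pen_mul (A B : M2 F) (hA : A.trace = 0) (hB : B.trace = 0) (α β σ : F) :
    (pen A B α β σ * B).trace = α * (A * B).trace - 2 * β * B.det := by
  rw [Matrix.trace_fin_two] at hA hB
  have hA' : A 1 1 = -A 0 0 := by linear_combination hA
  have hB' : B 1 1 = -B 0 0 := by linear_combination hB
  unfold pen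
  simp only [Matrix.det_fin_two, Matrix.trace_fin_two, Matrix.mul_apply, Fin.sum_univ_two,
    Matrix.add_apply, Matrix.sub_apply, Matrix.smul_apply, smul_eq_mul, hA', hB']
  ring

end Cfsg.Agent.Helper4.S3266C1

namespace Cfsg.Agent.S3266P

open Matrix Cfsg.Agent.Helper4.S3266C1

variable {F : Type*} [Field F]

/-- C1 -/
theorem core_one (h2 : (2 : F) ≠ 0) (i : F) (hi : i ^ 2 = -1) (A B : M2 F)
    (hA : A.trace = 0) (hAd : A.det = 1) (hB : B.trace = 0) (hBd : B.det = 1)
    (h1 : (A * B).trace ≠ 2) :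
    ∃ C : M2 F, C.trace = 0 ∧ C.det = 1 ∧ (A * C).trace = -2 ∧ (C * B).trace = -2 := by
  set t := (A * B).trace with ht
  have hd : (2 : F) - t ≠ 0 := fun h => h1 (by linear_combination -h)
  refine ⟨pen A B (2 / (2 - t)) (2 / (2 - t)) (i / (2 - t)), pen_trace A B hA hB _ _ _, ?_, ?_, ?_⟩
  · rw [pen_det A B hA hB, hAd, hBd, ← ht]
    field_simp
    linear_combination (4 - t ^ 2) * hi
  · rw [trace_mul_pen A B hA hB, hAd, ← ht]
    field_simp
    ring
  · rw [trace_pen_mul A B hA hB, hBd, ← ht]
    field_simp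
    ring

end Cfsg.Agent.S3266P
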