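import Mathlib
import Cfsg.Agent.Helper16.S3266Defs
import Cfsg.Agent.Helper4.S3266C1

set_option autoImplicit false

/-! S3266 piece C3C: the explicit common neighbour for `q ≡ 3 (mod 4)`. -/

namespace Cfsg.Agent.Helper4.S3266C3C

variable {F : Type*} [Field F]

/-- the auxiliary parameters `u`, `r` -/
theorem exists_ur (hm1 : ¬ IsSquare (-1 : F)) (g e v s ψ l k : F) (he : e ^ 2 = 1 - g ^ 2)
    (he0 : e ≠ 0) (hv : v ^ 2 = 1 + s ^ 2) (h1 : ψ ^ 2 + l ^ 2 = -1)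
    (h3 : e ^ 2 * ψ ^ 2 + k ^ 2 = s ^ 2) :
    ∃ u r : F, g * u - e * l * r = v ∧ u ^ 2 - r ^ 2 = 1 ∧ r ≠ 0 := by
  have hw0 : g ^ 2 - e ^ 2 * l ^ 2 ≠ 0 := by
    intro hw
    apply hm1
    refine ⟨e * ψ, ?_⟩
    linear_combination -(e ^ 2) * h1 - hw + he
  have hvu : g * ((v * g + k * e * l) / (g ^ 2 - e ^ 2 * l ^ 2)) -
      e * l * ((v * e * l + k * g) / (g ^ 2 - e ^ 2 * l ^ 2)) = v := by
    field_simp
    ring
  have hur : ((v * g + k * e * l) / (g ^ 2 - e ^ 2 * l ^ 2)) ^ 2 -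
      ((v * e * l + k * g) / (g ^ 2 - e ^ 2 * l ^ 2)) ^ 2 = 1 := by
    field_simp
    linear_combination (g ^ 2 - e ^ 2 * l ^ 2) * (hv - h3 - he + e ^ 2 * h1)
  refine ⟨(v * g + k * e * l) / (g ^ 2 - e ^ 2 * l ^ 2),
    (v * e * l + k * g) / (g ^ 2 - e ^ 2 * l ^ 2), hvu, hur, ?_⟩
  intro hr
  rw [hr] at hvu hur
  apply hm1
  refine ⟨s / e, ?_⟩
  field_simp
  set u := (v * g + k * e * l) / (g ^ 2 - e ^ 2 * l ^ 2) with hu
  linear_combination hv + (g * u + v) * hvu - g ^ 2 * hur - he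

end Cfsg.Agent.Helper4.S3266C3C

namespace Cfsg.Agent.S3266P

open Matrix Cfsg.Agent.Helper4.S3266C1 Cfsg.Agent.Helper4.S3266C3C

variable {F : Type*} [Field F]

/-- C3C -/
theorem core_three_construct (h2 : (2 : F) ≠ 0) (hm1 : ¬ IsSquare (-1 : F)) (A B : M2 F)
    (hA : A.trace = 0) (hAd : A.det = 1) (hB : B.trace = 0) (hBd : B.det = 1)
    (g e v s ψ l k : F) (hg : (A * B).trace = -2 * g) (he : e ^ 2 = 1 - g ^ 2) (he0 : e ≠ 0)
    (hv : v ^ 2 = 1 + s ^ 2) (hs : s ≠ 0) (h1 : ψ ^ 2 + l ^ 2 = -1)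
    (h3 : e ^ 2 * ψ ^ 2 + k ^ 2 = s ^ 2) :
    ∃ (C : M2 F) (r : F), C.trace = 0 ∧ C.det = 1 ∧ r ≠ 0 ∧
      (A * C).trace ^ 2 - 4 = (2 * r) ^ 2 ∧ (C * B).trace ^ 2 - 4 = (2 * s) ^ 2 := by
  obtain ⟨u, r, hvu, hur, hr⟩ := exists_ur hm1 g e v s ψ l k he he0 hv h1 h3
  have htAC : (A * pen A B ((e * u + g * l * r) / e) (-(r * l / e)) (r * ψ / (2 * e))).trace
      = -2 * u := by
    rw [trace_mul_pen A B hA hB, hAd, hg]
    field_simp
    ring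
  have htCB : (pen A B ((e * u + g * l * r) / e) (-(r * l / e)) (r * ψ / (2 * e)) * B).trace
      = -2 * v := by
    rw [trace_pen_mul A B hA hB, hBd, hg]
    field_simp
    linear_combination (-l * r) * he - e * hvu
  refine ⟨pen A B ((e * u + g * l * r) / e) (-(r * l / e)) (r * ψ / (2 * e)), r,
    pen_trace A B hA hB _ _ _, ?_, hr, ?_, ?_⟩
  · rw [pen_det A B hA hB, hAd, hBd, hg]
    field_simp
    linear_combination 4 * ((e ^ 2) * hur + r ^ 2 * he + (1 - g ^ 2) * r ^ 2 * h1)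
  · rw [htAC]
    linear_combination 4 * hur
  · rw [htCB]
    linear_combination 4 * hv

end Cfsg.Agent.S3266P
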