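import Mathlib
import Cfsg.Agent.Helper16.S3266Defs

set_option autoImplicit false

/-! S3266 piece C3D: `-1` a nonsquare, `A`, `B` trace-zero of determinant one with
`tr(AB)^2 = 4` forces `B = ± A`. -/

namespace Cfsg.Agent.Helper4.S3266C3D

variable {F : Type*} [Field F]

theorem aux (hm1 : ¬ IsSquare (-1 : F)) (a b c x y z : F) (h1 : a ^ 2 + b * c = -1)
    (h2 : x ^ 2 + y * z = 0) (h3 : 2 * a * x + b * z + c * y = 0) : x = 0 ∧ y = 0 ∧ z = 0 := by
  have hb : b ≠ 0 := by
    intro hb
    apply hm1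
    refine ⟨a, ?_⟩
    rw [hb] at h1
    linear_combination -h1
  by_cases hy : y = 0
  · have hx : x = 0 := by
      rw [hy] at h2
      have : x ^ 2 = 0 := by linear_combination h2
      exact pow_eq_zero_iff (two_ne_zero) |>.mp this
    have hz : z = 0 := by
      rw [hx, hy] at h3
      have : b * z = 0 := by linear_combination h3
      rcases mul_eq_zero.mp this with h | h
      · exact absurd h hb
      · exact h
    exact ⟨hx, hy, hz⟩
  · exfalso
    apply hm1
    refine ⟨(b * x - a * y) / y, ?_⟩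
    have key : (b * x - a * y) ^ 2 = -y ^ 2 := by
      linear_combination y ^ 2 * h1 + b ^ 2 * h2 - b * y * h3
    field_simp
    linear_combination -key

end Cfsg.Agent.Helper4.S3266C3D

namespace Cfsg.Agent.S3266P

open Matrix Cfsg.Agent.Helper4.S3266C3D

variable {F : Type*} [Field F]

/-- C3D -/
theorem eq_or_neg_of_trace_sq (h2 : (2 : F) ≠ 0) (hm1 : ¬ IsSquare (-1 : F)) (A B : M2 F)
    (hA : A.trace = 0) (hAd : A.det = 1) (hB : B.trace = 0) (hBd : B.det = 1)
    (h : (A * B).trace ^ 2 = 4) : B = A ∨ B = -A := by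
  rw [Matrix.trace_fin_two] at hA hB
  have hA' : A 1 1 = -A 0 0 := by linear_combination hA
  have hB' : B 1 1 = -B 0 0 := by linear_combination hB
  rw [Matrix.det_fin_two, hA'] at hAd
  rw [Matrix.det_fin_two, hB'] at hBd
  have ht : (A * B).trace = 2 * A 0 0 * B 0 0 + A 0 1 * B 1 0 + A 1 0 * B 0 1 := by
    simp only [Matrix.trace_fin_two, Matrix.mul_apply, Fin.sum_univ_two, hA', hB']
    ring
  rw [ht] at h
  have h1 : A 0 0 ^ 2 + A 0 1 * A 1 0 = -1 := by linear_combination -hAd
  have hcases : (2 * A 0 0 * B 0 0 + A 0 1 * B 1 0 + A 1 0 * B 0 1 + 2) *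
      (2 * A 0 0 * B 0 0 + A 0 1 * B 1 0 + A 1 0 * B 0 1 - 2) = 0 := by
    linear_combination h
  rcases mul_eq_zero.mp hcases with hc | hc
  · left
    obtain ⟨hx, hy, hz⟩ := aux hm1 (A 0 0) (A 0 1) (A 1 0) (A 0 0 - B 0 0) (A 0 1 - B 0 1)
      (A 1 0 - B 1 0) h1 (by linear_combination -hAd - hBd - hc)
      (by linear_combination -2 * hAd - hc)
    ext i j
    fin_cases i <;> fin_cases j
    · show B 0 0 = A 0 0
      linear_combination -hx
    · show B 0 1 = A 0 1
      linear_combination -hy
    · show B 1 0 = A 1 0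
      linear_combination -hz
    · show B 1 1 = A 1 1
      rw [hA', hB']
      linear_combination hx
  · right
    obtain ⟨hx, hy, hz⟩ := aux hm1 (A 0 0) (A 0 1) (A 1 0) (A 0 0 + B 0 0) (A 0 1 + B 0 1)
      (A 1 0 + B 1 0) h1 (by linear_combination -hAd - hBd + hc)
      (by linear_combination -2 * hAd + hc)
    ext i j
    fin_cases i <;> fin_cases j
    · show B 0 0 = -A 0 0
      linear_combination hx
    · show B 0 1 = -A 0 1
      linear_combination hy
    · show B 1 0 = -A 1 0
      linear_combination hz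
    · show B 1 1 = -A 1 1
      rw [hA', hB']
      linear_combination -hx

end Cfsg.Agent.S3266P
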