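import Mathlib

set_option autoImplicit false

/-! S3501 pieces DERN and MINNORMAL (generic tools). -/

namespace Cfsg.Agent.S3501P

open MulAction

/-- DERN: if `N` is transitive, an element no `N`-conjugate of which fixes `a` is a derangement. -/
theorem DERN {G : Type*} [Group G] {Ω : Type*} [MulAction G Ω] (N : Subgroup G) [IsPretransitive N Ω]
    (a : Ω) (x : G) (h : ∀ n ∈ N, (n⁻¹ * x * n) • a ≠ a) : ∀ ω : Ω, x • ω ≠ ω := by
  intro ω hω
  obtain ⟨n, hn⟩ := exists_smul_eq N a ω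
  apply h n n.2
  have hn' : (n : G) • a = ω := hn
  rw [mul_smul, mul_smul, hn', hω, ← hn', inv_smul_smul]

/-- MINNORMAL: in a finite group every non-trivial normal subgroup contains a minimal normal subgroup. -/
theorem MINNORMAL {G : Type*} [Group G] [Finite G] (L : Subgroup G) [L.Normal] (hL : L ≠ ⊥) :
    ∃ N : Subgroup G, N.Normal ∧ N ≠ ⊥ ∧ N ≤ L ∧
      ∀ M : Subgroup G, M.Normal → M ≤ N → M = ⊥ ∨ M = N := by
  obtain ⟨N, hNL, ⟨hNn, hN⟩, hmin⟩ :=
    exists_minimal_le_of_wellFoundedLT (fun N : Subgroup G => N.Normal ∧ N ≠ ⊥) L ⟨inferInstance, hL⟩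
  refine ⟨N, hNn, hN, hNL, fun M hMn hMN => ?_⟩
  by_cases hM : M = ⊥
  · exact Or.inl hM
  · exact Or.inr (le_antisymm hMN (hmin ⟨hMn, hM⟩ hMN))

end Cfsg.Agent.S3501P
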