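import Mathlib
import Cfsg.Agent.Helper4.RegularNormal2
import Cfsg.Agent.S0696

set_option autoImplicit false
set_option linter.style.haveILetI false
set_option linter.unusedSectionVars false

/-!
# Jordan's theorem on normal subgroups of multiply transitive groups
-/

namespace Cfsg.Agent.Helper4.JordanNormal

open MulAction SubMulAction

universe u v

section Basic
variable {G : Type u} [Group G] {Ω : Type v} [MulAction G Ω]

/-- A nontrivial normal subgroup of a primitive faithful group is transitive. -/
theorem normal_isPretransitive [FaithfulSMul G Ω] (hprim : IsPreprimitive G Ω) (N : Subgroup G)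
    [N.Normal] (hN : N ≠ ⊥) : IsPretransitive N Ω := by
  apply IsQuasiPreprimitive.isPretransitive_of_normal (G := G)
  intro huniv
  apply hN
  rw [Subgroup.eq_bot_iff_forall]
  intro x hx
  apply FaithfulSMul.eq_of_smul_eq_smul (α := Ω)
  intro a
  have ha : a ∈ fixedPoints N Ω := by rw [huniv]; trivial
  rw [one_smul]
  exact ha ⟨x, hx⟩

instance faithful_ofStabilizer [FaithfulSMul G Ω] (a : Ω) :
    FaithfulSMul (stabilizer G a) (ofStabilizer G a) := by
  constructor
  intro g1 g2 h
  apply Subtype.ext
  apply FaithfulSMul.eq_of_smul_eq_smul (α := Ω)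
  intro x
  by_cases hx : x = a
  · rw [hx]
    have h1 := g1.2
    have h2 := g2.2
    rw [mem_stabilizer_iff] at h1 h2
    rw [h1, h2]
  · have := h ⟨x, hx⟩
    exact congrArg Subtype.val this

/-- Transfer of multiple transitivity from `N ⊓ G_a` acting on the complement of `a` (as a
subgroup of `G_a`) to the stabiliser of `a` in `N`. -/
theorem isMultiplyPretransitive_stabilizer_of_subgroupOf (N : Subgroup G) (a : Ω) (m : ℕ)
    (h : IsMultiplyPretransitive (N.subgroupOf (stabilizer G a)) (ofStabilizer G a) m) :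
    IsMultiplyPretransitive (stabilizer N a) (ofStabilizer N a) m := by
  let φ : N.subgroupOf (stabilizer G a) → stabilizer N a := fun x =>
    ⟨⟨((x : stabilizer G a) : G), Subgroup.mem_subgroupOf.mp x.2⟩, by
      rw [mem_stabilizer_iff]
      exact (x : stabilizer G a).2⟩
  let f : ofStabilizer G a →ₑ[φ] ofStabilizer N a :=
    { toFun := fun y => ⟨y.1, y.2⟩
      map_smul' := fun x y => rfl }
  have hf : Function.Surjective f := by
    intro y
    exact ⟨⟨y.1, y.2⟩, rfl⟩
  exact IsPretransitive.of_embedding hf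

theorem isMultiplyPretransitive_succ_of_subgroupOf (N : Subgroup G) (hNt : IsPretransitive N Ω)
    (a : Ω) (m : ℕ)
    (h : IsMultiplyPretransitive (N.subgroupOf (stabilizer G a)) (ofStabilizer G a) m) :
    IsMultiplyPretransitive N Ω (m + 1) :=
  ofStabilizer.isMultiplyPretransitive.mpr
    (isMultiplyPretransitive_stabilizer_of_subgroupOf N a m h)

end Basic

section Exclusion
variable {G : Type u} [Group G] {Ω : Type v} [MulAction G Ω]

/-- A transitive group all of whose point stabilisers are regular on the remaining points and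
of exponent two has degree at most three. -/
theorem false_of_stabilizers_regular_exp_two (N : Subgroup G)
    (hreg : ∀ b x y : Ω, x ≠ b → y ≠ b → ∃ j ∈ N, j • b = b ∧ j • x = y ∧ j * j = 1)
    (hsemi : ∀ j ∈ N, ∀ a x : Ω, x ≠ a → j • a = a → j • x = x → j = 1)
    (a b b' x : Ω) (hab : a ≠ b) (hab' : a ≠ b') (hax : a ≠ x) (hbb' : b ≠ b') (hbx : b ≠ x)
    (hb'x : b' ≠ x) : False := by
  obtain ⟨j, hjN, hjb, hja, hjj⟩ := hreg b a x hab hbx.symm
  obtain ⟨j', hj'N, hj'b, hj'a, hj'j'⟩ := hreg b' a x hab' hb'x.symm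
  have hjx : j • x = a := by rw [← hja, ← mul_smul, hjj, one_smul]
  have hj'x : j' • x = a := by rw [← hj'a, ← mul_smul, hj'j', one_smul]
  have hjinv : j⁻¹ = j := inv_eq_of_mul_eq_one_right hjj
  have hu : j⁻¹ * j' = 1 := by
    apply hsemi _ (N.mul_mem (N.inv_mem hjN) hj'N) a x hax.symm
    · rw [mul_smul, hj'a, hjinv, hjx]
    · rw [mul_smul, hj'x, hjinv, hja]
  have hjj' : j' = j := by
    rw [inv_mul_eq_one] at hu
    exact hu.symm
  rw [hjj'] at hj'b
  have hj1 : j = 1 := hsemi j hjN b b' hbb'.symm hjb hj'b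
  rw [hj1, one_smul] at hja
  exact hax hja

/-- Properties of the stabiliser of one point transfer to all points of a transitive group. -/
theorem hreg_of_point (N : Subgroup G) (hNt : IsPretransitive N Ω) (a : Ω)
    (hT : ∀ x y : Ω, x ≠ a → y ≠ a → ∃ g ∈ N, g • a = a ∧ g • x = y)
    (hX : ∀ g ∈ N, g • a = a → g * g = 1) :
    ∀ b x y : Ω, x ≠ b → y ≠ b → ∃ j ∈ N, j • b = b ∧ j • x = y ∧ j * j = 1 := by
  intro b x y hxb hyb
  obtain ⟨h, hh⟩ := hNt.exists_smul_eq a b
  have hh' : (h : G) • a = b := hh
  have hx' : (h : G)⁻¹ • x ≠ a := by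
    intro hc
    apply hxb
    rw [← hh', ← hc, smul_inv_smul]
  have hy' : (h : G)⁻¹ • y ≠ a := by
    intro hc
    apply hyb
    rw [← hh', ← hc, smul_inv_smul]
  obtain ⟨g, hgN, hga, hgx⟩ := hT _ _ hx' hy'
  refine ⟨(h : G) * g * (h : G)⁻¹, N.mul_mem (N.mul_mem h.2 hgN) (N.inv_mem h.2), ?_, ?_, ?_⟩
  · rw [mul_smul, mul_smul, ← hh', inv_smul_smul, hga]
  · rw [mul_smul, mul_smul, hgx, smul_inv_smul]
  · have := hX g hgN hga
    calc (h : G) * g * (h : G)⁻¹ * ((h : G) * g * (h : G)⁻¹)
        = (h : G) * (g * g) * (h : G)⁻¹ := by group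
      _ = 1 := by rw [this]; group

theorem hsemi_of_point (N : Subgroup G) (hNt : IsPretransitive N Ω) (a : Ω)
    (hS : ∀ g ∈ N, g • a = a → ∀ x : Ω, x ≠ a → g • x = x → g = 1) :
    ∀ j ∈ N, ∀ b x : Ω, x ≠ b → j • b = b → j • x = x → j = 1 := by
  intro j hjN b x hxb hjb hjx
  obtain ⟨h, hh⟩ := hNt.exists_smul_eq a b
  have hh' : (h : G) • a = b := hh
  have hx' : (h : G)⁻¹ • x ≠ a := by
    intro hc
    apply hxb
    rw [← hh', ← hc, smul_inv_smul]
  have h1 : (h : G)⁻¹ * j * (h : G) = 1 := by
    apply hS _ (N.mul_mem (N.mul_mem (N.inv_mem h.2) hjN) h.2) _ _ hx'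
    · rw [mul_smul, mul_smul, smul_inv_smul, hjx]
    · rw [mul_smul, mul_smul, hh', hjb, ← hh', inv_smul_smul]
  calc j = (h : G) * ((h : G)⁻¹ * j * (h : G)) * (h : G)⁻¹ := by group
    _ = 1 := by rw [h1]; group

end Exclusion

section Extract
variable {G : Type u} [Group G] {Ω : Type v} [MulAction G Ω] (N : Subgroup G) (a : Ω)

theorem hT_of_subgroupOf
    (ht : IsPretransitive (N.subgroupOf (stabilizer G a)) (ofStabilizer G a)) :
    ∀ x y : Ω, x ≠ a → y ≠ a → ∃ g ∈ N, g • a = a ∧ g • x = y := by
  intro x y hx hy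
  obtain ⟨g, hg⟩ := ht.exists_smul_eq (⟨x, hx⟩ : ofStabilizer G a) ⟨y, hy⟩
  refine ⟨((g : stabilizer G a) : G), Subgroup.mem_subgroupOf.mp g.2, (g : stabilizer G a).2, ?_⟩
  exact congrArg Subtype.val hg

theorem hX_of_subgroupOf (hexp : ∀ g ∈ N.subgroupOf (stabilizer G a), g * g = 1) :
    ∀ g ∈ N, g • a = a → g * g = 1 := by
  intro g hgN hga
  have := hexp ⟨g, hga⟩ (Subgroup.mem_subgroupOf.mpr hgN)
  exact congrArg Subtype.val this

theorem hS_of_subgroupOf
    (hsemi : ∀ g ∈ N.subgroupOf (stabilizer G a), ∀ y : ofStabilizer G a, g • y = y → g = 1) :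
    ∀ g ∈ N, g • a = a → ∀ x : Ω, x ≠ a → g • x = x → g = 1 := by
  intro g hgN hga x hx hgx
  have := hsemi ⟨g, hga⟩ (Subgroup.mem_subgroupOf.mpr hgN) ⟨x, hx⟩ (Subtype.ext hgx)
  exact congrArg Subtype.val this

/-- If `N ⊓ G_a` is trivial for one point `a` and `N` is a normal subgroup of the transitive group
`G`, then `N` is semiregular. -/
theorem semiregular_of_subgroupOf_eq_bot [N.Normal] [IsPretransitive G Ω]
    (h : N.subgroupOf (stabilizer G a) = ⊥) : ∀ g ∈ N, ∀ b : Ω, g • b = b → g = 1 := by
  intro g hgN b hgb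
  obtain ⟨h0, hh⟩ := exists_smul_eq G a b
  have hmem : h0⁻¹ * g * h0 ∈ N := by
    have := ‹N.Normal›.conj_mem g hgN h0⁻¹
    rwa [inv_inv] at this
  have hfix : (h0⁻¹ * g * h0) • a = a := by
    rw [mul_smul, mul_smul, hh, hgb, ← hh, inv_smul_smul]
  have h1 : (⟨h0⁻¹ * g * h0, hfix⟩ : stabilizer G a) ∈ N.subgroupOf (stabilizer G a) :=
    Subgroup.mem_subgroupOf.mpr hmem
  rw [h, Subgroup.mem_bot] at h1
  have h2 : h0⁻¹ * g * h0 = 1 := congrArg Subtype.val h1
  calc g = h0 * (h0⁻¹ * g * h0) * h0⁻¹ := by group
    _ = 1 := by rw [h2]; group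

end Extract

section Main

/-- The regular case: a regular normal subgroup of a `(j+3)`-transitive group of degree larger
than `j + 3` forces `j = 0`, and the subgroup has exponent two. -/
theorem regular_case {G : Type u} [Group G] {Ω : Type v} [MulAction G Ω] [Finite Ω] (j : ℕ)
    (hG : IsMultiplyPretransitive G Ω (j + 3)) (hdeg : j + 3 < Nat.card Ω)
    (N : Subgroup G) [N.Normal] (hNt : IsPretransitive N Ω)
    (hsemi : ∀ g ∈ N, ∀ b : Ω, g • b = b → g = 1) :
    j = 0 ∧ ∀ g ∈ N, g * g = 1 := by
  classical
  haveI : Fintype Ω := Fintype.ofFinite Ω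
  have hcard : Nat.card Ω = Fintype.card Ω := Nat.card_eq_fintype_card
  have hreg : ∀ x : Ω, stabilizer N x = ⊥ := by
    intro x
    rw [Subgroup.eq_bot_iff_forall]
    intro g hg
    apply Subtype.ext
    exact hsemi g.1 g.2 x hg
  have h3 : IsMultiplyPretransitive G Ω 3 :=
    isMultiplyPretransitive_of_le (n := j + 3) (by omega) (by omega)
  have h2p : IsMultiplyPreprimitive G Ω 2 := by
    apply isMultiplyPreprimitive_of_isMultiplyPretransitive_succ G Ω
    rw [ENat.card_eq_coe_fintype_card]
    exact_mod_cast (by omega : Nat.succ 2 ≤ Fintype.card Ω)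
  have hexp : ∀ g ∈ N, g * g = 1 := by
    rcases regular_normal_of_two_preprimitive N (by omega) h2p hNt hreg with
      h | ⟨_, hexp, _⟩
    · omega
    · intro g hg
      have := hexp g hg
      rwa [pow_two] at this
  refine ⟨?_, hexp⟩
  by_contra hj
  have h4 : IsMultiplyPretransitive G Ω 4 :=
    isMultiplyPretransitive_of_le (n := j + 3) (by omega) (by omega)
  have h3p : IsMultiplyPreprimitive G Ω 3 := by
    apply isMultiplyPreprimitive_of_isMultiplyPretransitive_succ G Ω
    rw [ENat.card_eq_coe_fintype_card]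
    exact_mod_cast (by omega : Nat.succ 3 ≤ Fintype.card Ω)
  rcases Cfsg.Agent.S0696.result (by omega) h3p N hNt hreg with h | h <;> omega

/-- Jordan's theorem on normal subgroups of multiply transitive groups, for abstract faithful
actions. -/
theorem jordan_normal_aux : ∀ (j : ℕ) (G : Type u) [Group G] (Ω : Type v) [MulAction G Ω]
    [Finite Ω] [FaithfulSMul G Ω], IsMultiplyPretransitive G Ω (j + 2) → j + 2 < Nat.card Ω →
    ∀ (N : Subgroup G) [N.Normal], N ≠ ⊥ →
    IsMultiplyPretransitive N Ω (j + 1) ∨
      (j = 1 ∧ (∀ g ∈ N, ∀ a : Ω, g • a = a → g = 1) ∧ ∀ g ∈ N, g * g = 1) := by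
  intro j
  induction j with
  | zero =>
    intro G _ Ω _ _ _ hG hdeg N _ hN
    left
    have hprim : IsPreprimitive G Ω := isPreprimitive_of_is_two_pretransitive hG
    rw [is_one_pretransitive_iff]
    exact normal_isPretransitive hprim N hN
  | succ j ih =>
    intro G _ Ω _ _ _ hG hdeg N _ hN
    classical
    have h2 : IsMultiplyPretransitive G Ω 2 :=
      isMultiplyPretransitive_of_le (n := j + 1 + 2) (by omega) (by omega)
    have hprim : IsPreprimitive G Ω := isPreprimitive_of_is_two_pretransitive h2
    have hNt : IsPretransitive N Ω := normal_isPretransitive hprim N hN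
    haveI : IsPretransitive G Ω := hprim.toIsPretransitive
    obtain ⟨a⟩ : Nonempty Ω := (Nat.card_pos_iff.mp (by omega)).1
    have hG' : IsMultiplyPretransitive (stabilizer G a) (ofStabilizer G a) (j + 2) :=
      ofStabilizer.isMultiplyPretransitive.mp hG
    have hdeg' : j + 2 < Nat.card (ofStabilizer G a) := by
      rw [nat_card_ofStabilizer_eq]
      omega
    by_cases hN' : N.subgroupOf (stabilizer G a) = ⊥
    · right
      have hsemi := semiregular_of_subgroupOf_eq_bot N a hN'
      obtain ⟨hj, hexp⟩ := regular_case j hG hdeg N hNt hsemi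
      exact ⟨by omega, hsemi, hexp⟩
    · haveI : (N.subgroupOf (stabilizer G a)).Normal := Subgroup.Normal.subgroupOf ‹N.Normal› _
      rcases ih (stabilizer G a) (ofStabilizer G a) hG' hdeg' (N.subgroupOf (stabilizer G a)) hN'
        with h | ⟨hj, hsemi', hexp'⟩
      · left
        exact isMultiplyPretransitive_succ_of_subgroupOf N hNt a (j + 1) h
      · exfalso
        have h2' : IsMultiplyPretransitive (stabilizer G a) (ofStabilizer G a) 2 :=
          isMultiplyPretransitive_of_le (n := j + 2) (by omega) (by omega)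
        have hprim' : IsPreprimitive (stabilizer G a) (ofStabilizer G a) :=
          isPreprimitive_of_is_two_pretransitive h2'
        have hNt' : IsPretransitive (N.subgroupOf (stabilizer G a)) (ofStabilizer G a) :=
          normal_isPretransitive hprim' _ hN'
        have hT := hT_of_subgroupOf N a hNt'
        have hX := hX_of_subgroupOf N a hexp'
        have hS := hS_of_subgroupOf N a hsemi'
        have hregAll := hreg_of_point N hNt a hT hX
        have hsemiAll := hsemi_of_point N hNt a hS
        haveI : Fintype (ofStabilizer G a) := Fintype.ofFinite _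
        have h3 : 2 < Fintype.card (ofStabilizer G a) := by
          rw [← Nat.card_eq_fintype_card]
          omega
        obtain ⟨b, b', x, hbb', hbx, hb'x⟩ := Fintype.two_lt_card_iff.mp h3
        exact false_of_stabilizers_regular_exp_two N hregAll hsemiAll a b.1 b'.1 x.1
          (Ne.symm b.2) (Ne.symm b'.2) (Ne.symm x.2)
          (fun h => hbb' (Subtype.ext h)) (fun h => hbx (Subtype.ext h))
          (fun h => hb'x (Subtype.ext h))

end Main

section Primitive

/-- Normal subgroups of multiply primitive groups, for abstract faithful actions. -/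
theorem primitive_normal_aux : ∀ (j : ℕ) (G : Type u) [Group G] (Ω : Type v) [MulAction G Ω]
    [Finite Ω] [FaithfulSMul G Ω], j + 1 ≤ Nat.card Ω → IsMultiplyPreprimitive G Ω (j + 1) →
    ¬ IsMultiplyPretransitive G Ω (Nat.card Ω - 1) →
    ∀ (H : Subgroup G) [H.Normal], (∃ g ∈ H, g ≠ 1 ∧ ∃ a : Ω, g • a = a) →
    IsMultiplyPretransitive H Ω (j + 1) := by
  intro j
  induction j with
  | zero =>
    intro G _ Ω _ _ _ hcard hG hnt H _ ⟨g, hgH, hg1, _⟩
    have hprim : IsPreprimitive G Ω := (is_one_preprimitive_iff G Ω).mp hG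
    have hH : H ≠ ⊥ := by
      intro h
      rw [h, Subgroup.mem_bot] at hgH
      exact hg1 hgH
    rw [is_one_pretransitive_iff]
    exact normal_isPretransitive hprim H hH
  | succ j ih =>
    intro G _ Ω _ _ _ hcard hG hnt H _ ⟨g, hgH, hg1, a, hga⟩
    classical
    haveI : Fintype Ω := Fintype.ofFinite Ω
    have hcardF : Nat.card Ω = Fintype.card Ω := Nat.card_eq_fintype_card
    have hGt : IsMultiplyPretransitive G Ω (j + 1 + 1) := hG.isMultiplyPretransitive
    have hcardE : ((j + 1 + 1 : ℕ) : ℕ∞) ≤ ENat.card Ω := by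
      rw [ENat.card_eq_coe_fintype_card]
      exact_mod_cast (by omega : j + 1 + 1 ≤ Fintype.card Ω)
    have h1p : IsMultiplyPreprimitive G Ω 1 :=
      isMultiplyPreprimitive_of_le G Ω hG (by omega) hcardE
    have hprim : IsPreprimitive G Ω := (is_one_preprimitive_iff G Ω).mp h1p
    haveI : IsPretransitive G Ω := hprim.toIsPretransitive
    have hH : H ≠ ⊥ := by
      intro h
      rw [h, Subgroup.mem_bot] at hgH
      exact hg1 hgH
    have hHt : IsPretransitive H Ω := normal_isPretransitive hprim H hH
    haveI : IsMultiplyPreprimitive G Ω (j + 1).succ := hG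
    have hG' : IsMultiplyPreprimitive (stabilizer G a) (ofStabilizer G a) (j + 1) :=
      isMultiplyPreprimitive_ofStabilizer G Ω
    have hcardΩ' : Nat.card (ofStabilizer G a) = Nat.card Ω - 1 := nat_card_ofStabilizer_eq G a
    have hcard' : j + 1 ≤ Nat.card (ofStabilizer G a) := by
      rw [hcardΩ']
      omega
    have hnt' : ¬ IsMultiplyPretransitive (stabilizer G a) (ofStabilizer G a)
        (Nat.card (ofStabilizer G a) - 1) := by
      intro h
      apply hnt
      rw [hcardΩ'] at h
      have : Nat.card Ω - 1 = (Nat.card Ω - 1 - 1) + 1 := by omega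
      rw [this]
      exact ofStabilizer.isMultiplyPretransitive.mpr h
    haveI : (H.subgroupOf (stabilizer G a)).Normal := Subgroup.Normal.subgroupOf ‹H.Normal› _
    have hH' : H.subgroupOf (stabilizer G a) ≠ ⊥ := by
      intro h
      have : (⟨g, hga⟩ : stabilizer G a) ∈ H.subgroupOf (stabilizer G a) :=
        Subgroup.mem_subgroupOf.mpr hgH
      rw [h, Subgroup.mem_bot] at this
      exact hg1 (congrArg Subtype.val this)
    haveI : Fintype (ofStabilizer G a) := Fintype.ofFinite _
    have hcardF' : Nat.card (ofStabilizer G a) = Fintype.card (ofStabilizer G a) :=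
      Nat.card_eq_fintype_card
    by_cases hB : ∀ g' ∈ H.subgroupOf (stabilizer G a), ∀ y : ofStabilizer G a,
        g' • y = y → g' = 1
    · -- the stabiliser in `H` is regular on the remaining points
      have hcardE' : ((j + 1 : ℕ) : ℕ∞) ≤ ENat.card (ofStabilizer G a) := by
        rw [ENat.card_eq_coe_fintype_card]
        exact_mod_cast (by omega : j + 1 ≤ Fintype.card (ofStabilizer G a))
      have h1p' : IsMultiplyPreprimitive (stabilizer G a) (ofStabilizer G a) 1 :=
        isMultiplyPreprimitive_of_le _ _ hG' (by omega) hcardE'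
      have hprim' : IsPreprimitive (stabilizer G a) (ofStabilizer G a) :=
        (is_one_preprimitive_iff _ _).mp h1p'
      have hHt' : IsPretransitive (H.subgroupOf (stabilizer G a)) (ofStabilizer G a) :=
        normal_isPretransitive hprim' _ hH'
      have hH2 : IsMultiplyPretransitive H Ω 2 :=
        isMultiplyPretransitive_succ_of_subgroupOf H hHt a 1 (is_one_pretransitive_iff.mpr hHt')
      rcases Nat.eq_zero_or_pos j with rfl | hj
      · exact hH2
      · exfalso
        have h2p' : IsMultiplyPreprimitive (stabilizer G a) (ofStabilizer G a) 2 :=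
          isMultiplyPreprimitive_of_le _ _ hG' (by omega) hcardE'
        have hreg' : ∀ y : ofStabilizer G a,
            stabilizer (H.subgroupOf (stabilizer G a)) y = ⊥ := by
          intro y
          rw [Subgroup.eq_bot_iff_forall]
          intro g' hg'
          apply Subtype.ext
          exact hB g'.1 g'.2 y hg'
        have hsmall : Nat.card Ω ≤ j + 3 → False := by
          intro hle
          apply hnt
          exact isMultiplyPretransitive_of_le (n := j + 1 + 1) (by omega) (by omega)
        rcases regular_normal_of_two_preprimitive (H.subgroupOf (stabilizer G a)) (by omega)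
          h2p' hHt' hreg' with h3 | ⟨_, hexp, _⟩
        · apply hsmall
          omega
        · by_cases hn4 : Nat.card Ω ≤ 3
          · exact hsmall (by omega)
          · have hexp' : ∀ g' ∈ H.subgroupOf (stabilizer G a), g' * g' = 1 := by
              intro g' hg'
              have := hexp g' hg'
              rwa [pow_two] at this
            have hT := hT_of_subgroupOf H a hHt'
            have hX := hX_of_subgroupOf H a hexp'
            have hS := hS_of_subgroupOf H a hB
            have hregAll := hreg_of_point H hHt a hT hX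
            have hsemiAll := hsemi_of_point H hHt a hS
            have h3 : 2 < Fintype.card (ofStabilizer G a) := by omega
            obtain ⟨b, b', x, hbb', hbx, hb'x⟩ := Fintype.two_lt_card_iff.mp h3
            exact false_of_stabilizers_regular_exp_two H hregAll hsemiAll a b.1 b'.1 x.1
              (Ne.symm b.2) (Ne.symm b'.2) (Ne.symm x.2)
              (fun h => hbb' (Subtype.ext h)) (fun h => hbx (Subtype.ext h))
              (fun h => hb'x (Subtype.ext h))
    · push Not at hB
      obtain ⟨g', hg'H, y, hg'y, hg'1⟩ := hB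
      have := ih (stabilizer G a) (ofStabilizer G a) hcard' hG' hnt'
        (H.subgroupOf (stabilizer G a)) ⟨g', hg'H, hg'1, y, hg'y⟩
      exact isMultiplyPretransitive_succ_of_subgroupOf H hHt a (j + 1) this

end Primitive

end Cfsg.Agent.Helper4.JordanNormal
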