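import Mathlib
import Cfsg.Agent.Helper4.JordanNormal
import Cfsg.Agent.Helper4.RegularNormal2
import Cfsg.Agent.Helper4.SharpStab

set_option autoImplicit false
set_option linter.style.haveILetI false
set_option linter.unusedSectionVars false
set_option linter.unusedVariables false

/-!
# Sharply 4-transitive groups of degree 11 and sharply 5-transitive groups of degree 12 are simple
-/

namespace Cfsg.Agent.Helper4.M11Simple

open MulAction

section PrimeDegree

variable {K α : Type*} [Group K] [MulAction K α]

/-- A subgroup of prime order `p` acting nontrivially on a set of `p` points is regular. -/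
theorem regular_of_card_prime [Finite K] [Fintype α] [FaithfulSMul K α] {p : ℕ} (hp : p.Prime)
    (hα : Fintype.card α = p) (P : Subgroup K) (hP : Nat.card P = p) :
    IsPretransitive P α ∧ ∀ b : α, ∀ τ ∈ P, τ • b = b → τ = 1 := by
  classical
  -- a nonidentity element
  have hnt : Nontrivial P := by
    rw [← Finite.one_lt_card_iff_nontrivial, hP]
    exact hp.one_lt
  obtain ⟨σ, hσ⟩ := exists_ne (1 : P)
  have hσ' : (σ : K) ≠ 1 := fun h => hσ (Subtype.ext h)
  obtain ⟨a, ha⟩ : ∃ a : α, (σ : K) • a ≠ a := by
    by_contra hcon
    push Not at hcon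
    apply hσ'
    apply FaithfulSMul.eq_of_smul_eq_smul (α := α)
    intro b
    rw [hcon b, one_smul]
  -- every orbit has p points or is a fixed point
  have horb : ∀ b : α, (orbit P b).ncard * Nat.card (stabilizer P b) = p := by
    intro b
    rw [← index_stabilizer, mul_comm, Subgroup.card_mul_index, hP]
  have hcases : ∀ b : α, (orbit P b).ncard = 1 ∨ (orbit P b).ncard = p := fun b =>
    (Nat.dvd_prime hp).mp (Dvd.intro _ (horb b))
  have horba : (orbit P a).ncard = p := by
    rcases hcases a with h | h
    · exfalso
      rw [Set.ncard_eq_one] at h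
      obtain ⟨c, hc⟩ := h
      have h1 : a ∈ orbit P a := mem_orbit_self a
      have h2 : σ • a ∈ orbit P a := mem_orbit a σ
      rw [hc, Set.mem_singleton_iff] at h1 h2
      apply ha
      change σ • a = a
      rw [h2, ← h1]
    · exact h
  have huniv : orbit P a = Set.univ := by
    rw [Set.eq_univ_iff_ncard, horba, Nat.card_eq_fintype_card, hα]
  have htrans : IsPretransitive P α := (isPretransitive_iff_orbit_eq_univ a).mpr huniv
  refine ⟨htrans, ?_⟩
  intro b τ hτ hτb
  have hb : (orbit P b).ncard = p := by
    rw [orbit_eq_univ, Set.ncard_univ, Nat.card_eq_fintype_card, hα]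
  have hst := horb b
  rw [hb] at hst
  have hst1 : Nat.card (stabilizer P b) = 1 := by
    have hp0 : 0 < p := hp.pos
    exact Nat.eq_of_mul_eq_mul_left hp0 (by rw [hst, mul_one])
  have hsub : Subsingleton (stabilizer P b) := (Nat.card_eq_one_iff_unique.mp hst1).1
  have hmem : (⟨τ, hτ⟩ : P) ∈ stabilizer P b := by
    rw [mem_stabilizer_iff]
    exact hτb
  have := Subsingleton.elim (⟨⟨τ, hτ⟩, hmem⟩ : stabilizer P b) 1
  have h2 := congrArg (fun x : stabilizer P b => ((x : P) : K)) this
  exact h2

/-- The normalizer of a subgroup of prime order `p` in a faithful group of degree `p` has order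
`p * r` with `r ∣ p - 1`. -/
theorem card_normalizer [Finite K] [Fintype α] [FaithfulSMul K α] {p : ℕ} (hp : p.Prime)
    (hα : Fintype.card α = p) (P : Subgroup K) (hP : Nat.card P = p) :
    ∃ r : ℕ, r ∣ p - 1 ∧ Nat.card (Subgroup.normalizer (P : Set K)) = p * r := by
  classical
  haveI : Fact p.Prime := ⟨hp⟩
  obtain ⟨htrans, hreg⟩ := regular_of_card_prime hp hα P hP
  have hne : Nonempty α := by
    rw [← Fintype.card_pos_iff, hα]
    exact hp.pos
  obtain ⟨a⟩ := hne
  -- the normalizer is transitive
  have hMtrans : IsPretransitive (Subgroup.normalizer (P : Set K)) α := by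
    constructor
    intro b c
    obtain ⟨τ, hτ⟩ := htrans.exists_smul_eq b c
    exact ⟨⟨τ, Subgroup.le_normalizer τ.2⟩, hτ⟩
  -- a nonidentity element of the normalizer fixes at most one point
  have hfix : ∀ m ∈ (Subgroup.normalizer (P : Set K)), m • a = a → ∀ b : α, b ≠ a → m • b = b → m = 1 := by
    intro m hm hma b hba hmb
    obtain ⟨τ, hτ⟩ := htrans.exists_smul_eq a b
    have hτ1 : τ ≠ 1 := by
      rintro rfl
      rw [one_smul] at hτ
      exact hba hτ.symm
    have hconj : m * τ * m⁻¹ ∈ P := (Subgroup.mem_normalizer_iff.mp hm τ).mp τ.2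
    have hma' : m⁻¹ • a = a := by rw [inv_smul_eq_iff, hma]
    have hτ' : (τ : K) • a = b := hτ
    have h1 : ((τ : K)⁻¹ * (m * τ * m⁻¹)) • a = a := by
      rw [mul_smul, mul_smul, mul_smul, hma', hτ', hmb, ← hτ', inv_smul_smul]
    have h2 := hreg a _ (P.mul_mem (P.inv_mem τ.2) hconj) h1
    have hcomm : m * τ = τ * m := by
      have : m * τ * m⁻¹ = τ := by
        rw [inv_mul_eq_one] at h2
        exact h2.symm
      exact mul_inv_eq_iff_eq_mul.mp this
    -- `m` commutes with all of `P`
    have hgen := zpowers_eq_top_of_prime_card (G := P) hP hτ1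
    have hcommP : ∀ ρ : P, m * (ρ : K) = ρ * m := by
      intro ρ
      have hρ : ρ ∈ Subgroup.zpowers τ := by rw [hgen]; trivial
      obtain ⟨k, rfl⟩ := Subgroup.mem_zpowers_iff.mp hρ
      have : Commute m ((τ : K)) := hcomm
      have := this.zpow_right k
      simpa using this.eq
    apply FaithfulSMul.eq_of_smul_eq_smul (α := α)
    intro c
    obtain ⟨ρ, hρ⟩ := htrans.exists_smul_eq a c
    have hρ' : (ρ : K) • a = c := hρ
    rw [one_smul, ← hρ', ← mul_smul, hcommP ρ, mul_smul, hma]
  -- orbit-stabilizer
  have hcard : Nat.card (stabilizer (Subgroup.normalizer (P : Set K)) a) * p = Nat.card (Subgroup.normalizer (P : Set K)) := by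
    rw [← Subgroup.card_mul_index (stabilizer (Subgroup.normalizer (P : Set K)) a), index_stabilizer_of_transitive,
      Nat.card_eq_fintype_card (α := α), hα]
  refine ⟨Nat.card (stabilizer (Subgroup.normalizer (P : Set K)) a), ?_, by rw [mul_comm]; exact hcard.symm⟩
  -- Burnside's lemma for the point stabilizer
  haveI : Finite (stabilizer (Subgroup.normalizer (P : Set K)) a) := inferInstance
  letI : Fintype (stabilizer (Subgroup.normalizer (P : Set K)) a) := Fintype.ofFinite _
  letI : Fintype (Quotient (orbitRel (stabilizer (Subgroup.normalizer (P : Set K)) a) α)) := Fintype.ofFinite _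
  have hB := sum_card_fixedBy_eq_card_orbits_mul_card_group (stabilizer (Subgroup.normalizer (P : Set K)) a) α
  have hterm : ∀ s : stabilizer (Subgroup.normalizer (P : Set K)) a,
      Fintype.card (fixedBy α s) = if s = 1 then p else 1 := by
    intro s
    split_ifs with hs
    · rw [hs, ← hα]
      apply Fintype.card_of_subtype Finset.univ
      intro x
      simp
    · apply Fintype.card_of_subtype {a}
      intro x
      rw [Finset.mem_singleton, mem_fixedBy]
      constructor
      · rintro rfl
        exact s.2
      · intro hx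
        by_contra hxa
        apply hs
        have := hfix ((s : (Subgroup.normalizer (P : Set K))) : K) (s : (Subgroup.normalizer (P : Set K))).2 s.2 x hxa hx
        exact Subtype.ext (Subtype.ext this)
  rw [Finset.sum_congr rfl (fun s _ => hterm s), Finset.sum_ite, Finset.sum_const,
    Finset.sum_const, Finset.filter_eq' Finset.univ (1 : stabilizer (Subgroup.normalizer (P : Set K)) a)] at hB
  simp only [Finset.mem_univ, if_true, Finset.card_singleton, smul_eq_mul, one_mul, mul_one]
    at hB
  have hcompl : (Finset.univ.filter (fun s : stabilizer (Subgroup.normalizer (P : Set K)) a => ¬ s = 1)).card =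
      Fintype.card (stabilizer (Subgroup.normalizer (P : Set K)) a) - 1 := by
    rw [Finset.filter_not, Finset.filter_eq' Finset.univ (1 : stabilizer (Subgroup.normalizer (P : Set K)) a)]
    simp only [Finset.mem_univ, if_true]
    rw [Finset.card_sdiff_of_subset (by simp), Finset.card_univ, Finset.card_singleton]
  rw [hcompl] at hB
  rw [Nat.card_eq_fintype_card]
  have hpos : 0 < Fintype.card (stabilizer (Subgroup.normalizer (P : Set K)) a) := Fintype.card_pos
  have hp1 : 1 ≤ p := hp.pos
  set k := Fintype.card (Quotient (orbitRel (stabilizer (Subgroup.normalizer (P : Set K)) a) α)) with hk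
  set c := Fintype.card (stabilizer (Subgroup.normalizer (P : Set K)) a) with hc
  have hk1 : 1 ≤ k := by
    by_contra hcon
    push Not at hcon
    have : k = 0 := by omega
    rw [this, zero_mul] at hB
    omega
  refine ⟨k - 1, ?_⟩
  have : (k - 1) * c = k * c - c := by
    rw [Nat.sub_mul, one_mul]
  rw [mul_comm, this, ← hB]
  omega

end PrimeDegree

section Order

variable {G α : Type*} [Group G] [MulAction G α]

theorem finite_of_faithful [FaithfulSMul G α] [Finite α] : Finite G :=
  Finite.of_injective (MulAction.toPermHom G α) MulAction.toPerm_injective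

/-- The order of a sharply `n`-transitive group. -/
theorem card_of_sharp [Fintype α] {n : ℕ} (hn : IsMultiplyPretransitive G α n)
    (hsharp : ∀ x : Fin n ↪ α, stabilizer G x = ⊥) (hne : Nonempty (Fin n ↪ α)) :
    Nat.card G = (Fintype.card α).descFactorial n := by
  obtain ⟨x0⟩ := hne
  have h := index_stabilizer_of_transitive G x0
  rw [hsharp x0, Subgroup.index_bot, Nat.card_eq_fintype_card (α := Fin n ↪ α),
    Fintype.card_embedding_eq, Fintype.card_fin] at h
  exact h

theorem factorization_7920 : (7920 : ℕ).factorization 11 = 1 := by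
  have h : (7920 : ℕ) = 11 * 720 := by norm_num
  rw [h, Nat.factorization_mul (by norm_num) (by norm_num)]
  simp only [Finsupp.coe_add, Pi.add_apply]
  rw [Nat.Prime.factorization_self (by norm_num),
    Nat.factorization_eq_zero_of_not_dvd (by norm_num)]

end Order

section Sylow11

variable {G α : Type*} [Group G] [MulAction G α] [FaithfulSMul G α] [Fintype α]

/-- In a faithful group of order 7920 and degree 11, a subgroup of order 11 has normalizer of
order 55. -/
theorem card_normalizer_eleven [Finite G] (hα : Fintype.card α = 11) (hG : Nat.card G = 7920)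
    (P : Subgroup G) (hP : Nat.card P = 11) :
    Nat.card (Subgroup.normalizer (P : Set G)) = 55 := by
  haveI : Fact (Nat.Prime 11) := ⟨by norm_num⟩
  have hpow : Nat.card P = 11 ^ (Nat.card G).factorization 11 := by
    rw [hG, factorization_7920, pow_one, hP]
  let P' : Sylow 11 G := Sylow.ofCard P hpow
  have hP' : (P' : Subgroup G) = P := Sylow.coe_ofCard P hpow
  obtain ⟨r, hr, hcard⟩ := card_normalizer (K := G) (α := α) (by norm_num : Nat.Prime 11) hα P hP
  have hmod := card_sylow_modEq_one 11 G
  rw [Sylow.card_eq_index_normalizer P'] at hmod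
  have hP'' : ((P' : Sylow 11 G) : Set G) = (P : Set G) := by rw [← Sylow.coe_coe, hP']
  rw [hP''] at hmod
  have hmul := Subgroup.card_mul_index (Subgroup.normalizer (P : Set G))
  rw [hcard, hG] at hmul
  have hr10 : r ≤ 10 := Nat.le_of_dvd (by norm_num) hr
  unfold Nat.ModEq at hmod
  set i := (Subgroup.normalizer (P : Set G)).index with hi
  rw [hcard]
  have hr0 : r ≠ 0 := by
    rintro rfl
    simp at hmul
  interval_cases r <;> omega

/-- A nontrivial normal subgroup of a sharply 4-transitive group of degree 11 is everything. -/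
theorem normal_eq_top (hα : Fintype.card α = 11) (h4 : IsMultiplyPretransitive G α 4)
    (hsharp : ∀ x : Fin 4 ↪ α, stabilizer G x = ⊥) (N : Subgroup G) [hN : N.Normal]
    (hbot : N ≠ ⊥) : N = ⊤ := by
  classical
  haveI : Finite G := finite_of_faithful (α := α)
  haveI : Fact (Nat.Prime 11) := ⟨by norm_num⟩
  have hne : Nonempty (Fin 4 ↪ α) := by
    rw [Function.Embedding.nonempty_iff_card_le, Fintype.card_fin, hα]
    norm_num
  have hG : Nat.card G = 7920 := by
    rw [card_of_sharp h4 hsharp hne, hα]
    rfl
  by_contra htop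
  -- primitivity
  have hcardα : Nat.card α = 11 := by rw [Nat.card_eq_fintype_card, hα]
  have h2 : IsMultiplyPretransitive G α 2 :=
    isMultiplyPretransitive_of_le (n := 4) (by norm_num) (by rw [hcardα]; norm_num)
  have h1 : IsMultiplyPretransitive G α 1 :=
    isMultiplyPretransitive_of_le (n := 4) (by norm_num) (by rw [hcardα]; norm_num)
  haveI hGt : IsPretransitive G α := is_one_pretransitive_iff.mp h1
  have hprim : IsPreprimitive G α := isPreprimitive_of_is_two_pretransitive h2
  have hNt : IsPretransitive N α := Cfsg.Agent.Helper4.JordanNormal.normal_isPretransitive hprim N hbot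
  have hneα : Nonempty α := by
    rw [← Fintype.card_pos_iff, hα]
    norm_num
  obtain ⟨a⟩ := hneα
  have hN11 : Nat.card (stabilizer N a) * 11 = Nat.card N := by
    rw [← Subgroup.card_mul_index (stabilizer N a), index_stabilizer_of_transitive, hcardα]
  have hNdvd : Nat.card N ∣ 7920 := by
    rw [← hG]
    exact Subgroup.card_subgroup_dvd_card N
  -- a Sylow 11-subgroup of N
  obtain ⟨Q⟩ : Nonempty (Sylow 11 N) := inferInstance
  have hQ : Nat.card Q = 11 := by
    obtain ⟨k, hk⟩ := (IsPGroup.iff_card (p := 11)).mp Q.isPGroup'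
    have h11 : 11 ∣ Nat.card Q := Q.dvd_card_of_dvd_card (Dvd.intro_left _ hN11)
    have hdvd : Nat.card Q ∣ 7920 := (Subgroup.card_subgroup_dvd_card (Q : Subgroup N)).trans hNdvd
    rw [hk] at h11 hdvd ⊢
    have hk1 : k ≠ 0 := by
      rintro rfl
      norm_num at h11
    have hk2 : k < 2 := by
      by_contra hcon
      push Not at hcon
      have : 11 ^ 2 ∣ 7920 := (pow_dvd_pow 11 hcon).trans hdvd
      norm_num at this
    have : k = 1 := by omega
    rw [this, pow_one]
  set Q' : Subgroup G := (Q : Subgroup N).map N.subtype with hQ'def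
  have hQ' : Nat.card Q' = 11 := by
    rw [hQ'def, Subgroup.card_map_of_injective N.subtype_injective]
    exact hQ
  have hnorm := card_normalizer_eleven (α := α) hα hG Q' hQ'
  have hfrat := Sylow.normalizer_sup_eq_top Q
  have hidx : N.index ∣ 55 := by
    rw [← Subgroup.relIndex_top_right, ← hfrat, Subgroup.relIndex_sup_right, ← hnorm]
    exact Subgroup.relIndex_dvd_card _ _
  have hmul := Subgroup.card_mul_index N
  rw [hG] at hmul
  have hidx_cases : N.index = 1 ∨ N.index = 5 := by
    have hle : N.index ≤ 55 := Nat.le_of_dvd (by norm_num) hidx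
    have h0 : N.index ≠ 0 := by
      intro h
      rw [h, mul_zero] at hmul
      norm_num at hmul
    set i := N.index with hi
    set c := Nat.card (stabilizer N a) with hc
    rw [← hN11] at hmul
    interval_cases i <;> omega
  rcases hidx_cases with h | h
  · exact htop (Subgroup.index_eq_one.mp h)
  · rw [h] at hmul
    have hNcard : Nat.card N = 1584 := by omega
    have hstab : Nat.card (stabilizer N a) = 144 := by omega
    -- a nonidentity element of N fixing a
    haveI : Nontrivial (stabilizer N a) := by
      rw [← Finite.one_lt_card_iff_nontrivial, hstab]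
      norm_num
    obtain ⟨s, hs⟩ := exists_ne (1 : stabilizer N a)
    have hsa : ((s : N) : G) • a = a := s.2
    have hs1 : ((s : N) : G) ≠ 1 := fun h => hs (Subtype.ext (Subtype.ext h))
    -- the stabilizer of a in G
    have h3' : IsMultiplyPretransitive (stabilizer G a) (SubMulAction.ofStabilizer G a) 3 :=
      SubMulAction.ofStabilizer.isMultiplyPretransitive.mp h4
    have hcard' : Nat.card (SubMulAction.ofStabilizer G a) = 10 := by
      rw [SubMulAction.nat_card_ofStabilizer_eq, hcardα]
    have h2' : IsMultiplyPretransitive (stabilizer G a) (SubMulAction.ofStabilizer G a) 2 :=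
      isMultiplyPretransitive_of_le (n := 3) (by norm_num) (by rw [hcard']; norm_num)
    have hprim' : IsPreprimitive (stabilizer G a) (SubMulAction.ofStabilizer G a) :=
      isPreprimitive_of_is_two_pretransitive h2'
    haveI : (N.subgroupOf (stabilizer G a)).Normal := Subgroup.Normal.subgroupOf hN _
    have hN'bot : N.subgroupOf (stabilizer G a) ≠ ⊥ := by
      intro h
      have hmem : (⟨((s : N) : G), hsa⟩ : stabilizer G a) ∈ N.subgroupOf (stabilizer G a) :=
        Subgroup.mem_subgroupOf.mpr (s : N).2
      rw [h, Subgroup.mem_bot] at hmem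
      exact hs1 (congrArg Subtype.val hmem)
    have hN't : IsPretransitive (N.subgroupOf (stabilizer G a)) (SubMulAction.ofStabilizer G a) :=
      Cfsg.Agent.Helper4.JordanNormal.normal_isPretransitive hprim' _ hN'bot
    have hN2 : IsMultiplyPretransitive N α 2 :=
      Cfsg.Agent.Helper4.JordanNormal.isMultiplyPretransitive_succ_of_subgroupOf N hNt a 1
        (is_one_pretransitive_iff.mpr hN't)
    have hne2 : Nonempty (Fin 2 ↪ α) := by
      rw [Function.Embedding.nonempty_iff_card_le, Fintype.card_fin, hα]
      norm_num
    obtain ⟨x0⟩ := hne2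
    have hidx2 := @index_stabilizer_of_transitive N (Fin 2 ↪ α) _ _ x0 hN2
    rw [Nat.card_eq_fintype_card (α := Fin 2 ↪ α), Fintype.card_embedding_eq, Fintype.card_fin,
      hα] at hidx2
    have hmul2 := Subgroup.card_mul_index (stabilizer N x0)
    rw [hidx2, hNcard] at hmul2
    have : (11 : ℕ).descFactorial 2 = 110 := rfl
    rw [this] at hmul2
    omega

/-- A sharply 4-transitive group of degree 11 is simple of order 7920. -/
theorem simple_sharp4_eleven (hα : Fintype.card α = 11) (h4 : IsMultiplyPretransitive G α 4)
    (hsharp : ∀ x : Fin 4 ↪ α, stabilizer G x = ⊥) : IsSimpleGroup G ∧ Nat.card G = 7920 := by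
  haveI : Finite G := finite_of_faithful (α := α)
  have hne : Nonempty (Fin 4 ↪ α) := by
    rw [Function.Embedding.nonempty_iff_card_le, Fintype.card_fin, hα]
    norm_num
  have hG : Nat.card G = 7920 := by
    rw [card_of_sharp h4 hsharp hne, hα]
    rfl
  refine ⟨?_, hG⟩
  haveI : Nontrivial G := by
    rw [← Finite.one_lt_card_iff_nontrivial, hG]
    norm_num
  refine ⟨fun N hN => ?_⟩
  by_cases hbot : N = ⊥
  · exact Or.inl hbot
  · exact Or.inr (normal_eq_top hα h4 hsharp N hbot)

end Sylow11

end Cfsg.Agent.Helper4.M11Simple
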