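import Mathlib
import Cfsg.Agent.Helper4.JordanCycle

set_option autoImplicit false
set_option linter.style.haveILetI false
set_option linter.unusedSectionVars false

/-!
# Jordan's bound on the minimal degree of a multiply transitive group
-/

namespace Cfsg.Agent.Helper4.MinDegree

open Equiv Equiv.Perm MulAction

variable {α : Type*} [Fintype α] [DecidableEq α]

/-- Subsets of the support of a permutation of any given size having at most one exit point. -/
theorem exists_segment (g : Perm α) (j : ℕ) (hj : j ≤ g.support.card) :
    ∃ F : Finset α, F ⊆ g.support ∧ F.card = j ∧ (F.filter fun x => g x ∉ F).card ≤ 1 := by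
  induction j with
  | zero => exact ⟨∅, Finset.empty_subset _, rfl, by simp⟩
  | succ j ih =>
    obtain ⟨F, hFS, hFc, hFe⟩ := ih (by omega)
    by_cases hex : ∃ z ∈ F, g z ∉ F
    · obtain ⟨z, hzF, hgz⟩ := hex
      have hexits : (F.filter fun x => g x ∉ F) = {z} := by
        apply Finset.eq_singleton_iff_unique_mem.mpr
        refine ⟨by rw [Finset.mem_filter]; exact ⟨hzF, hgz⟩, ?_⟩
        intro x hx
        have hzm : z ∈ F.filter fun x => g x ∉ F := by
          rw [Finset.mem_filter]; exact ⟨hzF, hgz⟩
        exact Finset.card_le_one.mp hFe x hx z hzm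
      refine ⟨insert (g z) F, ?_, ?_, ?_⟩
      · intro x hx
        rw [Finset.mem_insert] at hx
        rcases hx with rfl | hx
        · rw [Perm.apply_mem_support]; exact hFS hzF
        · exact hFS hx
      · rw [Finset.card_insert_of_notMem hgz, hFc]
      · apply Finset.card_le_one.mpr
        intro a ha b hb
        rw [Finset.mem_filter, Finset.mem_insert] at ha hb
        have key : ∀ x, (x = g z ∨ x ∈ F) → g x ∉ insert (g z) F → x = g z := by
          intro x hx hgx
          rcases hx with rfl | hx
          · rfl
          · exfalso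
            have hx2 : x ∈ F.filter fun x => g x ∉ F := by
              rw [Finset.mem_filter]
              exact ⟨hx, fun h => hgx (Finset.mem_insert_of_mem h)⟩
            rw [hexits, Finset.mem_singleton] at hx2
            apply hgx
            rw [hx2]
            exact Finset.mem_insert_self _ _
        rw [key a ha.1 ha.2, key b hb.1 hb.2]
    · push Not at hex
      obtain ⟨y, hyS, hyF⟩ : ∃ y ∈ g.support, y ∉ F := by
        apply Finset.exists_mem_notMem_of_card_lt_card
        omega
      refine ⟨insert y F, ?_, ?_, ?_⟩
      · intro x hx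
        rw [Finset.mem_insert] at hx
        rcases hx with rfl | hx
        · exact hyS
        · exact hFS hx
      · rw [Finset.card_insert_of_notMem hyF, hFc]
      · apply Finset.card_le_one.mpr
        have key : ∀ x, (x = y ∨ x ∈ F) → g x ∉ insert y F → x = y := by
          intro x hx hgx
          rcases hx with rfl | hx
          · rfl
          · exact absurd (Finset.mem_insert_of_mem (hex x hx)) hgx
        intro a ha b hb
        rw [Finset.mem_filter, Finset.mem_insert] at ha hb
        rw [key a ha.1 ha.2, key b hb.1 hb.2]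

/-- In a `k`-transitive group, some element fixes a given set of fewer than `k` points pointwise
and moves a further point to a prescribed one. -/
theorem exists_fix_move (G : Subgroup (Perm α)) {k : ℕ} (hkn : k ≤ Fintype.card α)
    (hG : IsMultiplyPretransitive G α k) (F : Finset α) (hF : F.card + 1 ≤ k) (y y' : α) (hy : y ∉ F) (hy' : y' ∉ F) :
    ∃ h ∈ G, (∀ x ∈ F, h x = x) ∧ h y = y' := by
  have hG' : IsMultiplyPretransitive G α (insert y F).card :=
    isMultiplyPretransitive_of_le (n := k) (by rw [Finset.card_insert_of_notMem hy]; exact hF)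
      (by rw [Nat.card_eq_fintype_card]; exact hkn)
  obtain ⟨h, hhG, hh⟩ := JordanCycle.exists_mem_agree_on G hG' (insert y F) rfl (swap y y')
  refine ⟨h, hhG, ?_, ?_⟩
  · intro x hx
    rw [hh x (Finset.mem_insert_of_mem hx)]
    apply swap_apply_of_ne_of_ne
    · rintro rfl; exact hy hx
    · rintro rfl; exact hy' hx
  · rw [hh y (Finset.mem_insert_self _ _), swap_apply_left]

theorem perm_apply_inv (σ : Perm α) (x : α) : σ (σ⁻¹ x) = x := by simp

theorem perm_inv_apply (σ : Perm α) (x : α) : σ⁻¹ (σ x) = x := by simp

/-- The support of the commutator `g⁻¹ * (h * g * h⁻¹)` when `h` fixes `F` pointwise. -/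
theorem support_comm_subset (g h : Perm α) (F : Finset α) (hFS : F ⊆ g.support)
    (hfix : ∀ x ∈ F, h x = x) :
    (g⁻¹ * (h * g * h⁻¹)).support ⊆
      (g.support \ (F.filter fun x => g x ∈ F)) ∪ ((g.support \ F).image h \ g.support) := by
  intro x hx
  rw [Perm.mem_support] at hx
  by_contra hcon
  rw [Finset.mem_union, not_or] at hcon
  obtain ⟨hc1, hc2⟩ := hcon
  have hval : (g⁻¹ * (h * g * h⁻¹)) x = g⁻¹ (h (g (h⁻¹ x))) := rfl
  rw [hval] at hx
  by_cases hxA : x ∈ F.filter fun x => g x ∈ F
  · rw [Finset.mem_filter] at hxA
    have h1 : h⁻¹ x = x := by rw [Perm.inv_eq_iff_eq]; exact (hfix x hxA.1).symm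
    rw [h1, hfix _ hxA.2, perm_inv_apply] at hx
    exact hx rfl
  · have hxS : x ∉ g.support := by
      intro h
      apply hc1
      rw [Finset.mem_sdiff]
      exact ⟨h, hxA⟩
    have hgx : g⁻¹ x = x := by
      rw [Perm.inv_eq_iff_eq]
      exact (Perm.notMem_support.mp hxS).symm
    by_cases hw : h⁻¹ x ∈ g.support
    · apply hc2
      rw [Finset.mem_sdiff]
      refine ⟨?_, hxS⟩
      rw [Finset.mem_image]
      refine ⟨h⁻¹ x, ?_, perm_apply_inv h x⟩
      rw [Finset.mem_sdiff]
      refine ⟨hw, ?_⟩
      intro hwF
      have h2 := hfix _ hwF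
      rw [perm_apply_inv] at h2
      rw [← h2] at hwF
      exact hxS (hFS hwF)
    · rw [Perm.notMem_support.mp hw, perm_apply_inv, hgx] at hx
      exact hx rfl

theorem card_support_comm_le (g h : Perm α) (F : Finset α) (hFS : F ⊆ g.support)
    (hfix : ∀ x ∈ F, h x = x) :
    (g⁻¹ * (h * g * h⁻¹)).support.card + F.card ≤
      g.support.card + (F.filter fun x => g x ∉ F).card +
        ((g.support \ F).image h \ g.support).card := by
  have h1 := Finset.card_le_card (support_comm_subset g h F hFS hfix)
  have h2 := Finset.card_union_le (g.support \ (F.filter fun x => g x ∈ F))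
    ((g.support \ F).image h \ g.support)
  have hAS : (F.filter fun x => g x ∈ F) ⊆ g.support := (Finset.filter_subset _ _).trans hFS
  have h3 := Finset.card_sdiff_of_subset hAS
  have h4 := Finset.card_filter_add_card_filter_not (s := F) (fun x => g x ∈ F)
  have h5 := Finset.card_le_card hAS
  omega

theorem card_new_le (g h : Perm α) (F : Finset α) (hFS : F ⊆ g.support) :
    ((g.support \ F).image h \ g.support).card + F.card ≤ g.support.card := by
  have h1 : ((g.support \ F).image h \ g.support).card ≤ (g.support \ F).card :=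
    (Finset.card_le_card Finset.sdiff_subset).trans Finset.card_image_le
  have h2 := Finset.card_sdiff_of_subset hFS
  have h3 := Finset.card_le_card hFS
  omega

theorem card_new_le' (g h : Perm α) (F : Finset α) (hFS : F ⊆ g.support) (y : α)
    (hyS : y ∈ g.support) (hyF : y ∉ F) (hhy : h y ∈ g.support) :
    ((g.support \ F).image h \ g.support).card + F.card + 1 ≤ g.support.card := by
  have h0 : (g.support \ F).image h \ g.support ⊆ ((g.support \ F).erase y).image h := by
    intro x hx
    rw [Finset.mem_sdiff, Finset.mem_image] at hx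
    obtain ⟨⟨w, hw, rfl⟩, hx2⟩ := hx
    rw [Finset.mem_image]
    refine ⟨w, ?_, rfl⟩
    rw [Finset.mem_erase]
    refine ⟨?_, hw⟩
    rintro rfl
    exact hx2 hhy
  have h1 : ((g.support \ F).image h \ g.support).card ≤ ((g.support \ F).erase y).card :=
    (Finset.card_le_card h0).trans Finset.card_image_le
  have hy : y ∈ g.support \ F := by rw [Finset.mem_sdiff]; exact ⟨hyS, hyF⟩
  have h2 := Finset.card_erase_of_mem hy
  have h3 := Finset.card_sdiff_of_subset hFS
  have h4 := Finset.card_le_card hFS
  have h5 : 0 < (g.support \ F).card := Finset.card_pos.mpr ⟨y, hy⟩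
  omega

theorem comm_ne_one_of_move_out (g h : Perm α) (y : α) (hyS : y ∈ g.support)
    (hhy : h y ∉ g.support) : g⁻¹ * (h * g * h⁻¹) ≠ 1 := by
  intro h1
  have h2 : (g⁻¹ * (h * g * h⁻¹)) (h y) = h y := by rw [h1]; rfl
  have hval : (g⁻¹ * (h * g * h⁻¹)) (h y) = g⁻¹ (h (g (h⁻¹ (h y)))) := rfl
  rw [hval, perm_inv_apply, Perm.inv_eq_iff_eq, Perm.notMem_support.mp hhy] at h2
  exact (Perm.mem_support.mp hyS) (h.injective h2)

theorem comm_ne_one_of_exit (g h : Perm α) (z : α) (hz : h z = z) (hgz : h (g z) ≠ g z) :
    g⁻¹ * (h * g * h⁻¹) ≠ 1 := by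
  intro h1
  have h2 : (g⁻¹ * (h * g * h⁻¹)) z = z := by rw [h1]; rfl
  have hval : (g⁻¹ * (h * g * h⁻¹)) z = g⁻¹ (h (g (h⁻¹ z))) := rfl
  have h3 : h⁻¹ z = z := by rw [Perm.inv_eq_iff_eq]; exact hz.symm
  rw [hval, h3, Perm.inv_eq_iff_eq] at h2
  exact hgz h2

theorem comm_mem (G : Subgroup (Perm α)) {g h : Perm α} (hg : g ∈ G) (hh : h ∈ G) :
    g⁻¹ * (h * g * h⁻¹) ∈ G :=
  G.mul_mem (G.inv_mem hg) (G.mul_mem (G.mul_mem hh hg) (G.inv_mem hh))

/-- Descent step: a non-identity element of support size between `4` and `2k - 3` in a
`k`-transitive group gives rise to a non-identity element of smaller support. -/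
theorem exists_smaller (G : Subgroup (Perm α)) {k : ℕ} (hk : 3 ≤ k) (hkn : k ≤ Fintype.card α)
    (hG : IsMultiplyPretransitive G α k) (g : Perm α) (hg : g ∈ G)
    (h4 : 4 ≤ g.support.card) (hsupp : g.support.card < 2 * k - 2) :
    ∃ u ∈ G, u ≠ 1 ∧ u.support.card < g.support.card := by
  classical
  by_cases hfull : g.support = Finset.univ
  · -- the support is everything: use any non-identity element with a fixed point
    have hn : 4 ≤ Fintype.card α := by rw [← Finset.card_univ, ← hfull]; exact h4
    obtain ⟨a, b, c, hab, hac, hbc⟩ : ∃ a b c : α, a ≠ b ∧ a ≠ c ∧ b ≠ c :=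
      Fintype.two_lt_card_iff.mp (by omega)
    obtain ⟨h, hhG, hfix, hmove⟩ := exists_fix_move G hkn hG {a}
      (by rw [Finset.card_singleton]; omega) b c
      (by rw [Finset.mem_singleton]; exact hab.symm) (by rw [Finset.mem_singleton]; exact hac.symm)
    refine ⟨h, hhG, ?_, ?_⟩
    · intro h1
      rw [h1] at hmove
      exact hbc hmove
    · have h1 : h.support ⊆ Finset.univ.erase a := by
        intro x hx
        rw [Finset.mem_erase]
        refine ⟨?_, Finset.mem_univ _⟩
        rintro rfl
        exact (Perm.mem_support.mp hx) (hfix x (Finset.mem_singleton_self x))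
      have h2 := Finset.card_le_card h1
      rw [Finset.card_erase_of_mem (Finset.mem_univ _), Finset.card_univ] at h2
      rw [hfull, Finset.card_univ]
      omega
  · obtain ⟨y', hy'⟩ : ∃ y', y' ∉ g.support := by
      by_contra hcon
      push Not at hcon
      exact hfull (Finset.eq_univ_iff_forall.mpr hcon)
    by_cases hmk : g.support.card ≤ k
    · -- small support: a direct construction
      obtain ⟨y, hyS⟩ : g.support.Nonempty := Finset.card_pos.mp (by omega)
      have hFS : g.support.erase y ⊆ g.support := Finset.erase_subset _ _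
      have hFc : (g.support.erase y).card + 1 = g.support.card :=
        Finset.card_erase_add_one hyS
      have hyF : y ∉ g.support.erase y := Finset.notMem_erase _ _
      have hy'F : y' ∉ g.support.erase y := fun h => hy' (hFS h)
      obtain ⟨h, hhG, hfix, hmove⟩ := exists_fix_move G hkn hG (g.support.erase y)
        (by omega) y y' hyF hy'F
      refine ⟨g⁻¹ * (h * g * h⁻¹), comm_mem G hg hhG,
        comm_ne_one_of_move_out g h y hyS (by rw [hmove]; exact hy'), ?_⟩
      have h1 := card_support_comm_le g h _ hFS hfix
      have h2 := card_new_le g h _ hFS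
      have h3 : ((g.support.erase y).filter fun x => g x ∉ g.support.erase y).card ≤ 1 := by
        apply Finset.card_le_one.mpr
        intro a ha b hb
        rw [Finset.mem_filter] at ha hb
        have key : ∀ x, x ∈ g.support.erase y → g x ∉ g.support.erase y → g x = y := by
          intro x hx hgx
          by_contra hne
          apply hgx
          rw [Finset.mem_erase]
          refine ⟨hne, ?_⟩
          rw [Perm.apply_mem_support]
          exact hFS hx
        exact g.injective ((key a ha.1 ha.2).trans (key b hb.1 hb.2).symm)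
      omega
    · push Not at hmk
      obtain ⟨F, hFS, hFc, hFe⟩ := exists_segment g (k - 1) (by omega)
      by_cases hex : ∃ z ∈ F, g z ∉ F
      · obtain ⟨z, hzF, hgz⟩ := hex
        have hyS : g z ∈ g.support := Perm.apply_mem_support.mpr (hFS hzF)
        have hcard : 1 < (g.support \ F).card := by
          rw [Finset.card_sdiff_of_subset hFS]
          omega
        obtain ⟨y'', hy''1, hy''2⟩ := Finset.exists_mem_ne hcard (g z)
        rw [Finset.mem_sdiff] at hy''1
        obtain ⟨h, hhG, hfix, hmove⟩ := exists_fix_move G hkn hG F (by omega) (g z) y''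
          hgz hy''1.2
        refine ⟨g⁻¹ * (h * g * h⁻¹), comm_mem G hg hhG,
          comm_ne_one_of_exit g h z (hfix z hzF) (by rw [hmove]; exact hy''2), ?_⟩
        have h1 := card_support_comm_le g h F hFS hfix
        have h2 := card_new_le' g h F hFS (g z) hyS hgz (by rw [hmove]; exact hy''1.1)
        omega
      · push Not at hex
        have h0 : (F.filter fun x => g x ∉ F) = ∅ :=
          Finset.filter_eq_empty_iff.mpr (fun x hx => not_not.mpr (hex x hx))
        obtain ⟨y, hyS, hyF⟩ : ∃ y ∈ g.support, y ∉ F := by
          apply Finset.exists_mem_notMem_of_card_lt_card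
          omega
        obtain ⟨h, hhG, hfix, hmove⟩ := exists_fix_move G hkn hG F (by omega) y y' hyF
          (fun h => hy' (hFS h))
        refine ⟨g⁻¹ * (h * g * h⁻¹), comm_mem G hg hhG,
          comm_ne_one_of_move_out g h y hyS (by rw [hmove]; exact hy'), ?_⟩
        have h1 := card_support_comm_le g h F hFS hfix
        have h2 := card_new_le g h F hFS
        rw [h0, Finset.card_empty] at h1
        omega

/-- Jordan: a `k`-transitive group (`k ≥ 3`) containing a non-identity element of support
smaller than `2k - 2` contains a non-identity element of support at most `3`. -/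
theorem exists_small_support (G : Subgroup (Perm α)) {k : ℕ} (hk : 3 ≤ k)
    (hkn : k ≤ Fintype.card α) (hG : IsMultiplyPretransitive G α k) :
    ∀ (m : ℕ) (g : Perm α), g ∈ G → g ≠ 1 → g.support.card = m → m < 2 * k - 2 →
      ∃ u ∈ G, u ≠ 1 ∧ u.support.card ≤ 3 := by
  intro m
  induction m using Nat.strong_induction_on with
  | _ m ih =>
    intro g hg hg1 hm hlt
    by_cases h3 : m ≤ 3
    · exact ⟨g, hg, hg1, by omega⟩
    · obtain ⟨u, huG, hu1, hlt'⟩ := exists_smaller G hk hkn hG g hg (by omega) (by omega)
      exact ih u.support.card (by omega) u huG hu1 rfl (by omega)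

/-- A `2`-transitive group containing a non-identity element of support at most `3` contains
the alternating group. -/
theorem alternatingGroup_le_of_small_support (G : Subgroup (Perm α))
    (hG : IsMultiplyPretransitive G α 2) (u : Perm α) (hu : u ∈ G) (hu1 : u ≠ 1)
    (hu3 : u.support.card ≤ 3) : alternatingGroup α ≤ G := by
  have hprim : IsPreprimitive G α := isPreprimitive_of_is_two_pretransitive hG
  have h0 : u.support.card ≠ 0 := fun h => hu1 (Perm.card_support_eq_zero.mp h)
  have h1 : u.support.card ≠ 1 := Perm.card_support_ne_one u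
  have h23 : u.support.card = 2 ∨ u.support.card = 3 := by omega
  rcases h23 with h2 | h3
  · have := subgroup_eq_top_of_isPreprimitive_of_isSwap_mem hprim u
      (Perm.card_support_eq_two.mp h2) hu
    rw [this]
    exact le_top
  · exact alternatingGroup_le_of_isPreprimitive_of_isThreeCycle_mem hprim
      (card_support_eq_three_iff.mp h3) hu

end Cfsg.Agent.Helper4.MinDegree
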