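import Mathlib

set_option autoImplicit false

namespace Cfsg.Agent.Helper4

open MulAction

/-- A finite `p`-subgroup acting linearly on a non-zero invariant subspace of a vector space in
characteristic `p` fixes a non-zero vector. -/
theorem exists_fixed_vector_of_pgroup {G : Type*} [Group G] {p : ℕ} [Fact p.Prime]
    (P : Subgroup G) [Finite P] (hP : IsPGroup p P)
    {K V : Type*} [Field K] [CharP K p] [AddCommGroup V] [Module K V]
    (ρ : Representation K G V) (W : Submodule K V)
    (hinv : ∀ g ∈ P, ∀ w ∈ W, ρ g w ∈ W) (hW : W ≠ ⊥) :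
    ∃ w ∈ W, w ≠ 0 ∧ ∀ g ∈ P, ρ g w = w := by
  classical
  have hp : p.Prime := Fact.out
  obtain ⟨w0, hw0W, hw0⟩ := (Submodule.ne_bot_iff W).mp hW
  have hpV : ∀ v : V, p • v = 0 := by
    intro v
    have : (p : K) = 0 := CharP.cast_eq_zero K p
    rw [← Nat.cast_smul_eq_nsmul K, this, zero_smul]
  set S : Set V := Set.range (fun g : P => ρ g.1 w0) with hS
  have hSfin : Finite S := Set.finite_range _
  set M : AddSubgroup V := AddSubgroup.closure S with hM
  have hMW : ∀ m ∈ M, m ∈ W := by
    intro m hm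
    have : M ≤ W.toAddSubgroup := by
      rw [hM, AddSubgroup.closure_le]
      rintro _ ⟨g, rfl⟩
      exact hinv g.1 g.2 w0 hw0W
    exact this hm
  have hw0M : w0 ∈ M := by
    apply AddSubgroup.subset_closure
    exact ⟨1, by simp⟩
  have hMinv : ∀ g ∈ P, ∀ m ∈ M, ρ g m ∈ M := by
    intro g hg m hm
    have hmap : M.map (ρ g).toAddMonoidHom ≤ M := by
      rw [hM, AddMonoidHom.map_closure, AddSubgroup.closure_le]
      rintro _ ⟨_, ⟨h, rfl⟩, rfl⟩
      apply AddSubgroup.subset_closure
      refine ⟨⟨g, hg⟩ * h, ?_⟩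
      simp [map_mul]
    exact hmap ⟨m, hm, rfl⟩
  -- finiteness of M
  haveI : AddGroup.FG M := AddGroup.closure_finite_fg S
  haveI : Module.Finite ℤ M := Module.Finite.iff_addGroup_fg.mpr inferInstance
  have htors : Module.IsTorsion ℤ M := by
    intro x
    refine ⟨⟨(p : ℤ), ?_⟩, ?_⟩
    · rw [mem_nonZeroDivisors_iff_ne_zero]
      exact_mod_cast hp.ne_zero
    · apply Subtype.ext
      simp only [Submonoid.mk_smul, Nat.cast_smul_eq_nsmul, AddSubgroup.coe_nsmul,
        ZeroMemClass.coe_zero]
      exact hpV _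
  haveI hMfin : Finite M := Module.finite_of_fg_torsion M htors
  -- the action of P on M
  letI act : MulAction P M :=
    { smul := fun g m => ⟨ρ g.1 m.1, hMinv g.1 g.2 m.1 m.2⟩
      one_smul := fun m => by
        apply Subtype.ext
        change ρ ((1 : P) : G) m.1 = m.1
        simp
      mul_smul := fun g h m => by
        apply Subtype.ext
        change ρ ((g * h : P) : G) m.1 = ρ g.1 (ρ h.1 m.1)
        simp [map_mul] }
  have hpM : p ∣ Nat.card M := by
    have h1 : addOrderOf (⟨w0, hw0M⟩ : M) = p := by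
      apply addOrderOf_eq_prime
      · apply Subtype.ext
        simp only [AddSubgroup.coe_nsmul, ZeroMemClass.coe_zero]
        exact hpV _
      · intro h
        exact hw0 (congrArg Subtype.val h)
    rw [← h1]
    exact addOrderOf_dvd_natCard _
  have h0fix : (0 : M) ∈ fixedPoints P M := by
    intro g
    apply Subtype.ext
    change ρ g.1 (0 : V) = 0
    simp
  obtain ⟨b, hb, hb0⟩ := hP.exists_fixed_point_of_prime_dvd_card_of_fixed_point M hpM h0fix
  refine ⟨b.1, hMW b.1 b.2, ?_, ?_⟩
  · intro h
    exact hb0 (Subtype.ext h.symm)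
  · intro g hg
    have := hb ⟨g, hg⟩
    exact congrArg Subtype.val this

end Cfsg.Agent.Helper4
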