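import Mathlib
import Cfsg.Prelude.Def_Perm

set_option autoImplicit false

namespace Cfsg.Agent.Helper4

open MulAction Cfsg

section
variable {G : Type*} [Group G] {K : Type*} [Field K]

theorem permRep_apply {Ω : Type*} [MulAction G Ω] (g : G) (v : Ω → K) (x : Ω) :
    permRep K G Ω g v x = v (g⁻¹ • x) := rfl

theorem permRep_single {Ω : Type*} [MulAction G Ω] [DecidableEq Ω] (g : G) (x : Ω) (c : K) :
    permRep K G Ω g (Pi.single x c) = Pi.single (g • x) c := by
  funext z
  rw [permRep_apply, Pi.single_apply, Pi.single_apply]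
  simp only [inv_smul_eq_iff]

variable {Ω₁ Ω₂ : Type*} [Fintype Ω₁] [Fintype Ω₂] [MulAction G Ω₁] [MulAction G Ω₂]

theorem toLin'_mem_invariants_iff [DecidableEq Ω₁] (A : Matrix Ω₂ Ω₁ K) :
    Matrix.toLin' A ∈ ((permRep K G Ω₁).linHom (permRep K G Ω₂)).invariants ↔
      ∀ (g : G) (y : Ω₂) (x : Ω₁), A (g • y) (g • x) = A y x := by
  rw [Representation.mem_invariants]
  constructor
  · intro h g y x
    have h1 := h g
    rw [Representation.linHom_apply] at h1
    have h2 := congrFun (LinearMap.congr_fun h1 (Pi.single (g • x) 1)) (g • y)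
    simp only [LinearMap.coe_comp, Function.comp_apply, permRep_single, permRep_apply,
      inv_smul_smul, Matrix.toLin'_apply, Matrix.mulVec_single_one, Matrix.col_apply] at h2
    exact h2.symm
  · intro h g
    rw [Representation.linHom_apply]
    apply (Pi.basisFun K Ω₁).ext
    intro x
    funext y
    simp only [Pi.basisFun_apply, LinearMap.coe_comp, Function.comp_apply, permRep_single,
      permRep_apply, Matrix.toLin'_apply, Matrix.mulVec_single_one, Matrix.col_apply]
    exact h g⁻¹ y x

/-- The matrix attached to a function on orbits of pairs. -/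
def orbitMatrix (c : orbitRel.Quotient G (Ω₁ × Ω₂) → K) : Matrix Ω₂ Ω₁ K :=
  Matrix.of fun y x => c (Quotient.mk'' (x, y))

theorem orbitMatrix_invariant (c : orbitRel.Quotient G (Ω₁ × Ω₂) → K) (g : G) (y : Ω₂) (x : Ω₁) :
    orbitMatrix c (g • y) (g • x) = orbitMatrix c y x := by
  unfold orbitMatrix
  simp only [Matrix.of_apply]
  congr 1
  rw [Quotient.eq'', orbitRel_apply]
  exact ⟨g, rfl⟩

/-- The linear map from functions on orbits of pairs to linear maps between permutation modules. -/
noncomputable def orbitLin [DecidableEq Ω₁] :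
    (orbitRel.Quotient G (Ω₁ × Ω₂) → K) →ₗ[K] ((Ω₁ → K) →ₗ[K] (Ω₂ → K)) where
  toFun c := Matrix.toLin' (orbitMatrix c)
  map_add' c d := by
    rw [← map_add]; congr 1
  map_smul' r c := by
    rw [RingHom.id_apply, ← map_smul]; congr 1

theorem orbitLin_injective [DecidableEq Ω₁] :
    Function.Injective (orbitLin (G := G) (K := K) (Ω₁ := Ω₁) (Ω₂ := Ω₂)) := by
  intro c d h
  have h1 : orbitMatrix c = orbitMatrix d := Matrix.toLin'.injective h
  funext q
  induction q using Quotient.inductionOn' with | h xy => ?_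
  obtain ⟨x, y⟩ := xy
  exact congrFun (congrFun h1 y) x

theorem range_orbitLin [DecidableEq Ω₁] :
    LinearMap.range (orbitLin (G := G) (K := K) (Ω₁ := Ω₁) (Ω₂ := Ω₂)) =
      ((permRep K G Ω₁).linHom (permRep K G Ω₂)).invariants := by
  apply le_antisymm
  · rintro _ ⟨c, rfl⟩
    change Matrix.toLin' (orbitMatrix c) ∈ _
    rw [toLin'_mem_invariants_iff]
    exact orbitMatrix_invariant c
  · intro f hf
    obtain ⟨A, rfl⟩ := Matrix.toLin'.surjective f
    rw [toLin'_mem_invariants_iff] at hf
    refine ⟨Quotient.lift (fun xy : Ω₁ × Ω₂ => A xy.2 xy.1) ?_, ?_⟩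
    · rintro ⟨x, y⟩ ⟨x', y'⟩ h
      have h' : (x, y) ∈ orbit G (x', y') := h
      obtain ⟨g, hg⟩ := h'
      simp only [Prod.smul_mk, Prod.mk.injEq] at hg
      simp only
      rw [← hg.1, ← hg.2, hf]
    · change Matrix.toLin' (orbitMatrix _) = _
      congr 1

theorem finrank_invariants_permRep :
    Module.finrank K ((permRep K G Ω₁).linHom (permRep K G Ω₂)).invariants =
      Nat.card (orbitRel.Quotient G (Ω₁ × Ω₂)) := by
  classical
  rw [← range_orbitLin, LinearMap.finrank_range_of_inj orbitLin_injective]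
  haveI : Finite (orbitRel.Quotient G (Ω₁ × Ω₂)) := Quotient.finite _
  haveI : Fintype (orbitRel.Quotient G (Ω₁ × Ω₂)) := Fintype.ofFinite _
  rw [Module.finrank_fintype_fun_eq_card, Nat.card_eq_fintype_card]

end

end Cfsg.Agent.Helper4
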