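import Mathlib

set_option autoImplicit false

namespace Cfsg.Agent.Helper4

open MulAction

/-- In a transitive action of prime power degree, a Sylow `p`-subgroup is transitive. -/
theorem sylow_isPretransitive {G Ω : Type*} [Group G] [Finite G] [MulAction G Ω]
    [IsPretransitive G Ω] {p f : ℕ} [Fact p.Prime] (hcard : Nat.card Ω = p ^ f)
    (P : Sylow p G) : IsPretransitive (P : Subgroup G) Ω := by
  classical
  have hp : p.Prime := Fact.out
  have hΩfin : Finite Ω := Nat.finite_of_card_ne_zero (by rw [hcard]; exact (pow_pos hp.pos f).ne')
  refine ⟨fun a b => ?_⟩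
  suffices h : orbit (P : Subgroup G) a = Set.univ by
    have hb : b ∈ orbit (P : Subgroup G) a := by rw [h]; trivial
    exact hb
  rw [Set.eq_univ_iff_ncard, hcard]
  set S : Subgroup (P : Subgroup G) := stabilizer (P : Subgroup G) a with hS
  have hidx : S.index = (orbit (P : Subgroup G) a).ncard := index_stabilizer _ a
  have hmul : Nat.card S * S.index = Nat.card (P : Subgroup G) := Subgroup.card_mul_index S
  obtain ⟨k, hk⟩ := (IsPGroup.iff_card (p := p)).mp (P.isPGroup'.to_subgroup S)
  have hSdvd : Nat.card S ∣ Nat.card (stabilizer G a) := by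
    have hle : S.map (P : Subgroup G).subtype ≤ stabilizer G a := by
      rintro _ ⟨s, hs, rfl⟩
      exact hs
    have := Subgroup.card_dvd_of_le hle
    rwa [Subgroup.card_map_of_injective (Subgroup.subtype_injective _)] at this
  have hG : Nat.card (stabilizer G a) * p ^ f = Nat.card G := by
    rw [← hcard, ← index_stabilizer_of_transitive G a]
    exact Subgroup.card_mul_index _
  have hP : Nat.card (P : Subgroup G) = p ^ (Nat.card G).factorization p := P.card_eq_multiplicity
  have hApos : Nat.card (stabilizer G a) ≠ 0 := Nat.card_pos.ne'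
  have hfac : (Nat.card G).factorization p = (Nat.card (stabilizer G a)).factorization p + f := by
    rw [← hG, Nat.factorization_mul hApos (pow_pos hp.pos f).ne', Nat.Prime.factorization_pow hp]
    simp [hp.factorization_self]
  have hkle : k ≤ (Nat.card (stabilizer G a)).factorization p := by
    rw [← hp.pow_dvd_iff_le_factorization hApos, ← hk]
    exact hSdvd
  have hidx' : S.index = p ^ ((Nat.card (stabilizer G a)).factorization p + f - k) := by
    have h1 : p ^ k * S.index = p ^ k * p ^ ((Nat.card (stabilizer G a)).factorization p + f - k) := by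
      rw [← pow_add, ← hk, hmul, hP, hfac]
      congr 1
      omega
    exact Nat.eq_of_mul_eq_mul_left (pow_pos hp.pos k) h1
  have hge : p ^ f ≤ (orbit (P : Subgroup G) a).ncard := by
    rw [← hidx, hidx']
    exact Nat.pow_le_pow_right hp.pos (by omega)
  have hle : (orbit (P : Subgroup G) a).ncard ≤ p ^ f := by
    rw [← hcard]
    exact Set.ncard_le_card _
  exact le_antisymm hle hge

end Cfsg.Agent.Helper4
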