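import Mathlib
import Cfsg.Prelude.Def_Perm
import Cfsg.Agent.Helper4.PermRep
import Cfsg.Agent.Helper4.SylowTrans
import Cfsg.Agent.Helper4.PGroupFixed

set_option autoImplicit false
set_option linter.style.haveILetI false
set_option linter.unusedSectionVars false

/-!
# The heart of a permutation module in characteristic `p` and degree `p ^ f`
-/

namespace Cfsg.Agent.Helper4

open MulAction Cfsg

section
variable {G : Type*} [Group G] {K : Type*} [Field K] {Ω : Type*} [Fintype Ω] [MulAction G Ω]

theorem sum_permRep (g : G) (v : Ω → K) : ∑ x, permRep K G Ω g v x = ∑ x, v x :=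
  Fintype.sum_equiv (MulAction.toPerm g⁻¹) _ _ (fun _ => rfl)

/-- An invariant linear functional on the permutation module of a transitive action is a
multiple of the coordinate sum. -/
theorem invariant_functional_eq [IsPretransitive G Ω] (φ : (Ω → K) →ₗ[K] K)
    (hφ : ∀ g v, φ (permRep K G Ω g v) = φ v) : ∃ μ : K, ∀ v, φ v = μ * ∑ x, v x := by
  classical
  rcases isEmpty_or_nonempty Ω with hΩ | ⟨⟨a⟩⟩
  · refine ⟨0, fun v => ?_⟩
    have : v = 0 := Subsingleton.elim _ _
    simp [this]
  · refine ⟨φ (Pi.single a 1), fun v => ?_⟩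
    have h1 : ∀ x, φ (Pi.single x 1) = φ (Pi.single a 1) := by
      intro x
      obtain ⟨g, rfl⟩ := exists_smul_eq G a x
      rw [← permRep_single, hφ]
    have h2 : ∀ i : Ω, (fun j => if i = j then (1 : K) else 0) = Pi.single i 1 := by
      intro i
      funext j
      rw [Pi.single_apply]
      simp only [eq_comm]
    rw [LinearMap.pi_apply_eq_sum_univ φ v, Finset.mul_sum]
    refine Finset.sum_congr rfl fun x _ => ?_
    rw [h2, h1, smul_eq_mul, mul_comm]

/-- In characteristic `p` and degree `p ^ f`, a proper invariant subspace of the permutation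
module of a transitive action lies in the sum-zero subspace. -/
theorem sum_eq_zero_of_invariant_ne_top [Finite G] [IsPretransitive G Ω] {p f : ℕ}
    [Fact p.Prime] [CharP K p] (hcard : Fintype.card Ω = p ^ f)
    (U : Submodule K (Ω → K)) (hU : ∀ g : G, ∀ u ∈ U, permRep K G Ω g u ∈ U) (hne : U ≠ ⊤) :
    ∀ u ∈ U, ∑ x, u x = 0 := by
  classical
  obtain ⟨P⟩ : Nonempty (Sylow p G) := inferInstance
  have hcard' : Nat.card Ω = p ^ f := by rw [Nat.card_eq_fintype_card, hcard]
  haveI hPtrans : IsPretransitive (P : Subgroup G) Ω := sylow_isPretransitive hcard' P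
  obtain ⟨φ, hφ0, hφU⟩ := Submodule.exists_le_ker_of_lt_top U (lt_top_iff_ne_top.mpr hne)
  -- the orthogonal complement
  let Uperp : Submodule K (Ω → K) :=
    { carrier := {w | ∀ u ∈ U, ∑ x, u x * w x = 0}
      add_mem' := by
        intro w₁ w₂ h₁ h₂ u hu
        simp only [Pi.add_apply, mul_add, Finset.sum_add_distrib, h₁ u hu, h₂ u hu, add_zero]
      zero_mem' := by
        intro u _
        simp
      smul_mem' := by
        intro c w hw u hu
        have : ∀ x, u x * (c • w) x = c * (u x * w x) := by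
          intro x
          simp only [Pi.smul_apply, smul_eq_mul]
          ring
        simp only [this, ← Finset.mul_sum, hw u hu, mul_zero] }
  have hmemperp : ∀ w, w ∈ Uperp ↔ ∀ u ∈ U, ∑ x, u x * w x = 0 := fun w => Iff.rfl
  have h2 : ∀ i : Ω, (fun j => if i = j then (1 : K) else 0) = Pi.single i 1 := by
    intro i
    funext j
    rw [Pi.single_apply]
    simp only [eq_comm]
  have hφsum : ∀ u, φ u = ∑ x, u x * φ (Pi.single x 1) := by
    intro u
    rw [LinearMap.pi_apply_eq_sum_univ φ u]
    refine Finset.sum_congr rfl fun x _ => ?_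
    rw [h2, smul_eq_mul]
  have hperp_ne : Uperp ≠ ⊥ := by
    intro hbot
    have hw0 : (fun x => φ (Pi.single x 1)) ∈ Uperp := by
      rw [hmemperp]
      intro u hu
      rw [← hφsum]
      exact hφU hu
    rw [hbot, Submodule.mem_bot] at hw0
    apply hφ0
    refine LinearMap.ext fun u => ?_
    rw [hφsum]
    have : ∀ x, φ (Pi.single x 1) = 0 := fun x => congrFun hw0 x
    simp [this]
  have hperp_inv : ∀ g ∈ (P : Subgroup G), ∀ w ∈ Uperp, permRep K G Ω g w ∈ Uperp := by
    intro g _ w hw
    rw [hmemperp] at hw ⊢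
    intro u hu
    have h3 := hw _ (hU g⁻¹ u hu)
    rw [← h3]
    refine Fintype.sum_equiv (MulAction.toPerm g⁻¹) _ _ (fun x => ?_)
    simp only [permRep_apply, MulAction.toPerm_apply, inv_inv, smul_inv_smul]
  obtain ⟨w, hwU, hw0, hwfix⟩ := exists_fixed_vector_of_pgroup (P : Subgroup G) P.isPGroup'
    (permRep K G Ω) Uperp hperp_inv hperp_ne
  -- w is constant
  have hwconst : ∀ x y, w x = w y := by
    intro x y
    obtain ⟨g, hg⟩ := exists_smul_eq (P : Subgroup G) x y
    have h4 := congrFun (hwfix g.1 g.2) y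
    rw [permRep_apply] at h4
    rw [← h4, ← hg]
    congr 1
    change x = g.1⁻¹ • (g.1 • x)
    rw [inv_smul_smul]
  obtain ⟨a, ha⟩ : ∃ a, w a ≠ 0 := by
    by_contra hcon
    push Not at hcon
    exact hw0 (funext hcon)
  intro u hu
  have h5 := (hmemperp w).mp hwU u hu
  have h6 : ∑ x, u x * w x = (∑ x, u x) * w a := by
    rw [Finset.sum_mul]
    refine Finset.sum_congr rfl fun x _ => ?_
    rw [hwconst x a]
  rw [h6] at h5
  rcases mul_eq_zero.mp h5 with h | h
  · exact h
  · exact absurd h ha

/-- The coordinate sum as a linear functional. -/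
def sumFunctional (K : Type*) [Field K] (Ω : Type*) [Fintype Ω] : (Ω → K) →ₗ[K] K where
  toFun v := ∑ x, v x
  map_add' v w := by simp [Finset.sum_add_distrib]
  map_smul' c v := by simp [Finset.mul_sum]

theorem sumFunctional_apply (v : Ω → K) : sumFunctional K Ω v = ∑ x, v x := rfl

theorem mem_permSumZero (v : Ω → K) :
    v ∈ (permSumZero K G Ω).toSubmodule ↔ ∑ x, v x = 0 := Iff.rfl

theorem mem_permConstants (v : Ω → K) :
    v ∈ (permConstants K G Ω).toSubmodule ↔ ∃ c : K, v = fun _ => c := by
  change v ∈ Submodule.span K {fun _ => (1 : K)} ↔ _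
  rw [Submodule.mem_span_singleton]
  constructor
  · rintro ⟨c, rfl⟩
    exact ⟨c, by funext x; simp⟩
  · rintro ⟨c, rfl⟩
    exact ⟨c, by funext x; simp⟩

theorem permRep_const (g : G) (c : K) : permRep K G Ω g (fun _ => c) = fun _ => c := rfl

/-- If the heart of the permutation module (degree `p ^ f`, characteristic `p`, transitive
action) has no trivial composition factor, then every equivariant endomorphism of the
permutation module is a combination of the identity and the all-ones matrix. -/
theorem equivariant_eq_of_heart [Finite G] [IsPretransitive G Ω] {p f : ℕ}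
    [Fact p.Prime] [CharP K p] (hf : 1 ≤ f) (hcard : Fintype.card Ω = p ^ f)
    (h : ∀ W W' : Subrepresentation (permRep K G Ω),
      (permConstants K G Ω).toSubmodule ≤ W.toSubmodule → W.toSubmodule < W'.toSubmodule →
      W'.toSubmodule ≤ (permSumZero K G Ω).toSubmodule →
      ∃ g : G, ∃ v ∈ W'.toSubmodule, permRep K G Ω g v - v ∉ W.toSubmodule)
    (θ : (Ω → K) →ₗ[K] (Ω → K))
    (hθ : ∀ g v, θ (permRep K G Ω g v) = permRep K G Ω g (θ v)) :
    ∃ c d : K, ∀ v x, θ v x = c * v x + d * ∑ y, v y := by
  classical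
  have hp : p.Prime := Fact.out
  set Cm := (permConstants K G Ω).toSubmodule with hCm
  set Sm := (permSumZero K G Ω).toSubmodule with hSm
  -- the degree vanishes in K
  have hcardK : (Fintype.card Ω : K) = 0 := by
    rw [hcard, CharP.cast_eq_zero_iff K p]
    exact dvd_pow_self p (by omega)
  have hCS : Cm ≤ Sm := by
    intro v hv
    rw [hCm, mem_permConstants] at hv
    obtain ⟨c, rfl⟩ := hv
    rw [hSm, mem_permSumZero]
    simp [hcardK]
  obtain ⟨a⟩ : Nonempty Ω := by
    rw [← Fintype.card_pos_iff, hcard]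
    exact pow_pos hp.pos f
  -- Step 2: θ preserves the coordinate sum up to a scalar
  obtain ⟨c, hc⟩ := invariant_functional_eq (G := G) ((sumFunctional K Ω).comp θ) (by
    intro g v
    simp only [LinearMap.comp_apply, sumFunctional_apply, hθ, sum_permRep])
  simp only [LinearMap.comp_apply, sumFunctional_apply] at hc
  set θ' : (Ω → K) →ₗ[K] (Ω → K) := θ - c • LinearMap.id with hθ'
  have hθ'app : ∀ v, θ' v = θ v - c • v := fun v => rfl
  have hθ'eq : ∀ g v, θ' (permRep K G Ω g v) = permRep K G Ω g (θ' v) := by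
    intro g v
    rw [hθ'app, hθ'app, hθ, map_sub, map_smul]
  have hθ'S : ∀ v, θ' v ∈ Sm := by
    intro v
    rw [hSm, mem_permSumZero, hθ'app]
    simp only [Pi.sub_apply, Pi.smul_apply, smul_eq_mul, Finset.sum_sub_distrib, ← Finset.mul_sum,
      hc, sub_self]
  -- the two subrepresentations
  let W' : Subrepresentation (permRep K G Ω) :=
    { toSubmodule := LinearMap.range θ' ⊔ Cm
      apply_mem_toSubmodule := by
        intro g v hv
        obtain ⟨y, ⟨u, rfl⟩, z, hz, rfl⟩ := Submodule.mem_sup.mp hv
        rw [map_add, ← hθ'eq]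
        exact Submodule.add_mem _ (Submodule.mem_sup_left ⟨_, rfl⟩)
          (Submodule.mem_sup_right ((permConstants K G Ω).apply_mem_toSubmodule g hz)) }
  let W : Subrepresentation (permRep K G Ω) :=
    { toSubmodule := Sm.map θ' ⊔ Cm
      apply_mem_toSubmodule := by
        intro g v hv
        obtain ⟨y, ⟨u, hu, rfl⟩, z, hz, rfl⟩ := Submodule.mem_sup.mp hv
        rw [map_add, ← hθ'eq]
        exact Submodule.add_mem _
          (Submodule.mem_sup_left ⟨_, (permSumZero K G Ω).apply_mem_toSubmodule g hu, rfl⟩)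
          (Submodule.mem_sup_right ((permConstants K G Ω).apply_mem_toSubmodule g hz)) }
  have hWW' : W.toSubmodule ≤ W'.toSubmodule := by
    apply sup_le_sup_right
    rintro _ ⟨u, _, rfl⟩
    exact ⟨u, rfl⟩
  have hW'S : W'.toSubmodule ≤ Sm := by
    apply sup_le _ hCS
    rintro _ ⟨u, rfl⟩
    exact hθ'S u
  have hCW : Cm ≤ W.toSubmodule := le_sup_right
  have hW'W : W'.toSubmodule ≤ W.toSubmodule := by
    by_contra hnot
    have hlt : W.toSubmodule < W'.toSubmodule := lt_of_le_not_ge hWW' hnot
    obtain ⟨g, v, hv, hgv⟩ := h W W' hCW hlt hW'S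
    apply hgv
    obtain ⟨y, ⟨u, rfl⟩, z, hz, rfl⟩ := Submodule.mem_sup.mp hv
    have hz' : permRep K G Ω g z = z := by
      rw [hCm, mem_permConstants] at hz
      obtain ⟨c0, rfl⟩ := hz
      rfl
    have : permRep K G Ω g (θ' u + z) - (θ' u + z) = θ' (permRep K G Ω g u - u) := by
      rw [map_add, hz', map_sub, hθ'eq]
      abel
    rw [this]
    refine Submodule.mem_sup_left ⟨_, ?_, rfl⟩
    change ∑ x, (permRep K G Ω g u - u) x = 0
    simp only [Pi.sub_apply, Finset.sum_sub_distrib, sum_permRep, sub_self]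
  -- the preimage of the constants is everything
  let U : Submodule K (Ω → K) := Cm.comap θ'
  have hUinv : ∀ g : G, ∀ u ∈ U, permRep K G Ω g u ∈ U := by
    intro g u hu
    change θ' _ ∈ Cm
    rw [hθ'eq]
    exact (permConstants K G Ω).apply_mem_toSubmodule g hu
  have hUtop : U = ⊤ := by
    by_contra hne
    have hUS := sum_eq_zero_of_invariant_ne_top hcard U hUinv hne
    have h1 : θ' (Pi.single a 1) ∈ W.toSubmodule :=
      hW'W (Submodule.mem_sup_left ⟨_, rfl⟩)
    obtain ⟨y, ⟨s, hs, rfl⟩, z, hz, hyz⟩ := Submodule.mem_sup.mp h1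
    have h2 : Pi.single a 1 - s ∈ U := by
      change θ' _ ∈ Cm
      rw [map_sub, ← hyz, add_sub_cancel_left]
      exact hz
    have h3 := hUS _ h2
    replace hs : ∑ x, s x = 0 := hs
    simp only [Pi.sub_apply, Finset.sum_sub_distrib, hs, sub_zero, Finset.sum_pi_single',
      Finset.mem_univ, if_true] at h3
    exact one_ne_zero h3
  have hθ'C : ∀ v, θ' v ∈ Cm := by
    intro v
    have : v ∈ U := by rw [hUtop]; trivial
    exact this
  -- the functional
  obtain ⟨d, hd⟩ := invariant_functional_eq (G := G) ((LinearMap.proj a).comp θ') (by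
    intro g v
    simp only [LinearMap.comp_apply, LinearMap.proj_apply, hθ'eq]
    have := hθ'C v
    rw [hCm, mem_permConstants] at this
    obtain ⟨c0, hc0⟩ := this
    rw [hc0]
    rfl)
  simp only [LinearMap.comp_apply, LinearMap.proj_apply] at hd
  refine ⟨c, d, fun v x => ?_⟩
  have h1 : θ v x = c * v x + θ' v x := by
    rw [hθ'app]
    simp
  have h2 : θ' v x = θ' v a := by
    have := hθ'C v
    rw [hCm, mem_permConstants] at this
    obtain ⟨c0, hc0⟩ := this
    rw [hc0]
  rw [h1, h2, hd]

end

end Cfsg.Agent.Helper4
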