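import Mathlib

set_option autoImplicit false
set_option linter.style.haveILetI false
set_option linter.unusedSectionVars false

/-!
# Functions on `ZMod p` as polynomial functions; translation-invariant subspaces
-/

namespace Cfsg.Agent.Helper4.PolyFun

open Polynomial Module

section
variable {p : ℕ} [Fact p.Prime] {K : Type*} [Field K] [CharP K p]

theorem cast_injective : Function.Injective (ZMod.cast : ZMod p → K) :=
  ZMod.castHom_injective (n := p) K

theorem cast_add (a b : ZMod p) : (ZMod.cast (a + b) : K) = ZMod.cast a + ZMod.cast b :=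
  map_add (ZMod.castHom (dvd_refl p) K) a b

theorem cast_sub (a b : ZMod p) : (ZMod.cast (a - b) : K) = ZMod.cast a - ZMod.cast b :=
  map_sub (ZMod.castHom (dvd_refl p) K) a b

theorem cast_mul (a b : ZMod p) : (ZMod.cast (a * b) : K) = ZMod.cast a * ZMod.cast b :=
  map_mul (ZMod.castHom (dvd_refl p) K) a b

theorem cast_one' : (ZMod.cast (1 : ZMod p) : K) = 1 :=
  map_one (ZMod.castHom (dvd_refl p) K)

theorem cast_zero' : (ZMod.cast (0 : ZMod p) : K) = 0 :=
  map_zero (ZMod.castHom (dvd_refl p) K)

/-- Evaluation of a polynomial at the points of the prime field. -/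
noncomputable def evalMap (p : ℕ) (K : Type*) [Field K] : K[X] →ₗ[K] (ZMod p → K) where
  toFun P j := P.eval (ZMod.cast j : K)
  map_add' P Q := by
    funext j
    simp
  map_smul' c P := by
    funext j
    simp

theorem evalMap_apply (P : K[X]) (j : ZMod p) : evalMap p K P j = P.eval (ZMod.cast j : K) := rfl

/-- A polynomial of degree less than `p` vanishing on the prime field is zero. -/
theorem eq_zero_of_evalMap_eq_zero (P : K[X]) (hdeg : P.degree < p) (h : evalMap p K P = 0) :
    P = 0 := by
  haveI : NeZero p := ⟨(Fact.out : p.Prime).ne_zero⟩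
  refine Polynomial.eq_zero_of_degree_lt_of_eval_index_eq_zero (v := fun j : ZMod p => (ZMod.cast j : K))
    (Finset.univ : Finset (ZMod p)) (cast_injective.injOn) ?_ ?_
  · rw [Finset.card_univ, ZMod.card]
    exact hdeg
  · intro j _
    exact congrFun h j

/-- The space of polynomial functions of degree less than `r`. -/
noncomputable def polyFun (p : ℕ) (K : Type*) [Field K] (r : ℕ) : Submodule K (ZMod p → K) :=
  (Polynomial.degreeLT K r).map (evalMap p K)

theorem mem_polyFun (r : ℕ) (f : ZMod p → K) :
    f ∈ polyFun p K r ↔ ∃ P : K[X], P.degree < r ∧ ∀ j : ZMod p, f j = P.eval (ZMod.cast j : K) := by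
  unfold polyFun
  rw [Submodule.mem_map]
  constructor
  · rintro ⟨P, hP, rfl⟩
    exact ⟨P, Polynomial.mem_degreeLT.mp hP, fun j => rfl⟩
  · rintro ⟨P, hP, hf⟩
    exact ⟨P, Polynomial.mem_degreeLT.mpr hP, funext fun j => (hf j).symm⟩

theorem polyFun_mono {r s : ℕ} (h : r ≤ s) : polyFun p K r ≤ polyFun p K s :=
  Submodule.map_mono (Polynomial.degreeLT_mono h)

theorem finrank_polyFun {r : ℕ} (hr : r ≤ p) : finrank K (polyFun p K r) = r := by
  have hinj : Function.Injective ((evalMap p K).domRestrict (Polynomial.degreeLT K r)) := by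
    rw [← LinearMap.ker_eq_bot, LinearMap.ker_eq_bot']
    intro P hP
    apply Subtype.ext
    apply eq_zero_of_evalMap_eq_zero (p := p) (P : K[X])
    · exact lt_of_lt_of_le (Polynomial.mem_degreeLT.mp P.2) (by exact_mod_cast hr)
    · exact hP
  have h1 : polyFun p K r = LinearMap.range ((evalMap p K).domRestrict (Polynomial.degreeLT K r)) := by
    rw [LinearMap.range_domRestrict]
    rfl
  rw [h1, LinearMap.finrank_range_of_inj hinj, (Polynomial.degreeLTEquiv K r).finrank_eq,
    Module.finrank_fin_fun]

theorem polyFun_top : polyFun p K p = ⊤ := by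
  haveI : NeZero p := ⟨(Fact.out : p.Prime).ne_zero⟩
  apply Submodule.eq_top_of_finrank_eq
  rw [finrank_polyFun le_rfl, Module.finrank_fintype_fun_eq_card, ZMod.card]

/-- The shift `f ↦ f (· - 1)`. -/
def shift (p : ℕ) (K : Type*) [Field K] : (ZMod p → K) →ₗ[K] (ZMod p → K) where
  toFun f j := f (j - 1)
  map_add' _ _ := rfl
  map_smul' _ _ := rfl

/-- The difference operator `f ↦ f (· - 1) - f`. -/
def diff (p : ℕ) (K : Type*) [Field K] : (ZMod p → K) →ₗ[K] (ZMod p → K) :=
  shift p K - LinearMap.id

theorem shift_apply (f : ZMod p → K) (j : ZMod p) : shift p K f j = f (j - 1) := rfl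

theorem diff_apply (f : ZMod p → K) (j : ZMod p) : diff p K f j = f (j - 1) - f j := rfl

theorem degree_comp_sub_lt (P : K[X]) (hP : P ≠ 0) :
    (P.comp (X - C 1) - P).degree < P.degree := by
  have hnd : (X - C (1 : K)).natDegree ≠ 0 := by
    rw [Polynomial.natDegree_X_sub_C]
    exact one_ne_zero
  have hlc : (P.comp (X - C 1)).leadingCoeff = P.leadingCoeff := by
    rw [Polynomial.leadingCoeff_comp hnd, Polynomial.leadingCoeff_X_sub_C, one_pow, mul_one]
  have hQ0 : P.comp (X - C 1) ≠ 0 := by
    intro h
    rw [h, Polynomial.leadingCoeff_zero] at hlc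
    exact hP (Polynomial.leadingCoeff_eq_zero.mp hlc.symm)
  have hdeg : (P.comp (X - C 1)).degree = P.degree := by
    rw [Polynomial.degree_eq_natDegree hQ0, Polynomial.degree_eq_natDegree hP,
      Polynomial.natDegree_comp, Polynomial.natDegree_X_sub_C, mul_one]
  have := Polynomial.degree_sub_lt_left hdeg hQ0 hlc
  rwa [hdeg] at this

theorem diff_mem_polyFun {r : ℕ} {f : ZMod p → K} (hf : f ∈ polyFun p K (r + 1)) :
    diff p K f ∈ polyFun p K r := by
  rw [mem_polyFun] at hf ⊢
  obtain ⟨P, hP, hf⟩ := hf
  refine ⟨P.comp (X - C 1) - P, ?_, ?_⟩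
  · by_cases hP0 : P = 0
    · subst hP0
      simp only [Polynomial.zero_comp, sub_zero, Polynomial.degree_zero]
      exact WithBot.bot_lt_coe r
    · have h1 := degree_comp_sub_lt P hP0
      rw [Polynomial.degree_eq_natDegree hP0] at hP h1
      have h2 : P.natDegree ≤ r := by
        have : P.natDegree < r + 1 := by exact_mod_cast hP
        omega
      exact lt_of_lt_of_le h1 (by exact_mod_cast h2)
  · intro j
    rw [diff_apply, hf, hf, cast_sub, cast_one']
    simp

theorem polyFun_zero : polyFun p K 0 = ⊥ := by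
  rw [eq_bot_iff]
  intro f hf
  rw [mem_polyFun] at hf
  obtain ⟨P, hP, hf⟩ := hf
  have hP0 : P = 0 := by
    rw [← Polynomial.degree_eq_bot]
    by_contra h
    have h0 : (0 : WithBot ℕ) ≤ P.degree := by
      rw [Polynomial.degree_eq_bot] at h
      exact Polynomial.zero_le_degree_iff.mpr h
    have : P.degree < (0 : WithBot ℕ) := by exact_mod_cast hP
    exact absurd (lt_of_le_of_lt h0 this) (lt_irrefl _)
  rw [Submodule.mem_bot]
  funext j
  rw [hf, hP0]
  simp

theorem diff_pow_polyFun (r : ℕ) : ∀ f ∈ polyFun p K r, (diff p K ^ r) f = 0 := by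
  induction r with
  | zero =>
    intro f hf
    rw [polyFun_zero, Submodule.mem_bot] at hf
    rw [hf, map_zero]
  | succ r ih =>
    intro f hf
    rw [pow_succ, Module.End.mul_apply]
    exact ih _ (diff_mem_polyFun hf)

theorem polyFun_le_ker (r : ℕ) : polyFun p K r ≤ LinearMap.ker (diff p K ^ r) := by
  intro f hf
  rw [LinearMap.mem_ker]
  exact diff_pow_polyFun r f hf

theorem const_of_diff_eq_zero (f : ZMod p → K) (h : diff p K f = 0) : ∀ j, f j = f 0 := by
  haveI : NeZero p := ⟨(Fact.out : p.Prime).ne_zero⟩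
  have h1 : ∀ j : ZMod p, f (j - 1) = f j := by
    intro j
    have := congrFun h j
    rw [diff_apply] at this
    exact sub_eq_zero.mp this
  have h2 : ∀ n : ℕ, f (n : ZMod p) = f 0 := by
    intro n
    induction n with
    | zero => simp
    | succ n ih =>
      rw [← ih, ← h1 ((n + 1 : ℕ) : ZMod p)]
      congr 1
      push_cast
      ring
  intro j
  rw [← ZMod.natCast_zmod_val j]
  exact h2 _

theorem finrank_ker_diff_le : finrank K (LinearMap.ker (diff p K)) ≤ 1 := by
  have hle : LinearMap.ker (diff p K) ≤ Submodule.span K {fun _ : ZMod p => (1 : K)} := by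
    intro f hf
    rw [LinearMap.mem_ker] at hf
    rw [Submodule.mem_span_singleton]
    refine ⟨f 0, ?_⟩
    funext j
    rw [const_of_diff_eq_zero f hf j]
    simp
  haveI : NeZero p := ⟨(Fact.out : p.Prime).ne_zero⟩
  refine (Submodule.finrank_mono hle).trans ?_
  exact (finrank_span_le_card _).trans (by simp)

end

section General
variable {K V : Type*} [Field K] [AddCommGroup V] [Module K V] [FiniteDimensional K V]

/-- If the kernel of `N` has dimension at most one, the kernel of `N ^ r` has dimension at most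
`r`. -/
theorem finrank_ker_pow_le (N : V →ₗ[K] V) (h1 : finrank K (LinearMap.ker N) ≤ 1) (r : ℕ) :
    finrank K (LinearMap.ker (N ^ r)) ≤ r := by
  induction r with
  | zero =>
    rw [pow_zero, Module.End.one_eq_id, LinearMap.ker_id, finrank_bot]
  | succ r ih =>
    set U := LinearMap.ker (N ^ (r + 1)) with hU
    let g : U →ₗ[K] V := (N ^ r).comp U.subtype
    have hrange : LinearMap.range g ≤ LinearMap.ker N := by
      rintro _ ⟨x, rfl⟩
      rw [LinearMap.mem_ker]
      have hx : (N ^ (r + 1)) (x : V) = 0 := x.2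
      rw [pow_succ', Module.End.mul_apply] at hx
      exact hx
    have hle : LinearMap.ker (N ^ r) ≤ U := by
      intro x hx
      rw [LinearMap.mem_ker] at hx
      rw [hU, LinearMap.mem_ker, pow_succ', Module.End.mul_apply, hx, map_zero]
    have hker : LinearMap.ker g = Submodule.comap U.subtype (LinearMap.ker (N ^ r)) := by
      ext x
      simp only [g, LinearMap.mem_ker, LinearMap.comp_apply, Submodule.mem_comap]
    have h2 := LinearMap.finrank_range_add_finrank_ker g
    rw [hker, (Submodule.comapSubtypeEquivOfLe hle).finrank_eq] at h2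
    have h3 := Submodule.finrank_mono hrange
    omega

/-- A locally nilpotent endomorphism of a space of dimension `r` satisfies `N ^ r = 0`. -/
theorem pow_finrank_eq_zero (N : V →ₗ[K] V) (h : ∀ v, ∃ n : ℕ, (N ^ n) v = 0) :
    N ^ finrank K V = 0 := by
  have h1 : N.charpoly = X ^ finrank K V := ((LinearMap.charpoly_nilpotent_tfae N).out 2 1).mp h
  simpa only [h1, map_pow, aeval_X] using N.aeval_self_charpoly

end General

section Main
variable {p : ℕ} [Fact p.Prime] {K : Type*} [Field K] [CharP K p]

theorem ker_diff_pow {r : ℕ} (hr : r ≤ p) :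
    LinearMap.ker (diff p K ^ r) = polyFun p K r := by
  haveI : NeZero p := ⟨(Fact.out : p.Prime).ne_zero⟩
  symm
  apply Submodule.eq_of_le_of_finrank_le (polyFun_le_ker r)
  have h1 : finrank K (LinearMap.ker (diff p K ^ r)) ≤ r :=
    finrank_ker_pow_le (diff p K) (finrank_ker_diff_le (p := p) (K := K)) r
  rw [finrank_polyFun hr]
  exact h1

theorem diff_pow_p_apply (f : ZMod p → K) : (diff p K ^ p) f = 0 := by
  apply diff_pow_polyFun p f
  rw [polyFun_top]
  trivial

/-- Translation-invariant subspaces are spaces of polynomial functions. -/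
theorem invariant_eq_polyFun (W : Submodule K (ZMod p → K))
    (hW : ∀ f ∈ W, (fun j => f (j - 1)) ∈ W) :
    finrank K W ≤ p ∧ W = polyFun p K (finrank K W) := by
  haveI : NeZero p := ⟨(Fact.out : p.Prime).ne_zero⟩
  have hrp : finrank K W ≤ p := by
    have := Submodule.finrank_le W
    rwa [Module.finrank_fintype_fun_eq_card, ZMod.card] at this
  refine ⟨hrp, ?_⟩
  have hW' : ∀ f ∈ W, diff p K f ∈ W := by
    intro f hf
    exact W.sub_mem (hW f hf) hf
  have hnil : ∀ w : W, ∃ n : ℕ, (((diff p K).restrict hW') ^ n) w = 0 := by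
    intro w
    refine ⟨p, ?_⟩
    rw [Module.End.pow_restrict p hW']
    apply Subtype.ext
    rw [LinearMap.coe_restrict_apply]
    exact diff_pow_p_apply _
  have h0 := pow_finrank_eq_zero ((diff p K).restrict hW') hnil
  have hle : W ≤ polyFun p K (finrank K W) := by
    intro w hw
    rw [← ker_diff_pow hrp, LinearMap.mem_ker]
    have h1 := congrArg (fun φ : W →ₗ[K] W => ((φ ⟨w, hw⟩ : W) : ZMod p → K)) h0
    simp only [LinearMap.zero_apply, ZeroMemClass.coe_zero] at h1
    rw [Module.End.pow_restrict _ hW', LinearMap.coe_restrict_apply] at h1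
    exact h1
  apply Submodule.eq_of_le_of_finrank_le hle
  rw [finrank_polyFun hrp]

end Main

end Cfsg.Agent.Helper4.PolyFun
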