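import Mathlib
import Cfsg.Agent.Helper4.PolyFun
import Cfsg.Agent.Helper4.PermHeart

set_option autoImplicit false
set_option linter.style.haveILetI false
set_option linter.unusedSectionVars false

/-!
# Permutation groups of prime degree: Burnside's theorem after P. Müller
-/

namespace Cfsg.Agent.Helper4.BurnsidePrime

open Polynomial Module Cfsg.Agent.Helper4.PolyFun

section KeyProp
variable {p : ℕ} [Fact p.Prime] {K : Type*} [Field K] [CharP K p]

/-- A map of `ZMod p` preserving (by composition) the space of polynomial functions of degree at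
most `d`, where `1 ≤ d ≤ (p - 1) / 2`, is affine. -/
theorem affine_of_preserves_polyFun {d : ℕ} (hd1 : 1 ≤ d) (hd2 : 2 * d ≤ p - 1)
    (γ : ZMod p → ZMod p) (hγ : γ 0 ≠ γ 1)
    (hpres : ∀ f ∈ polyFun p K (d + 1), (fun j => f (γ j)) ∈ polyFun p K (d + 1)) :
    ∀ x, γ x = (γ 1 - γ 0) * x + γ 0 := by
  have hp : p.Prime := Fact.out
  have hp2 := hp.two_le
  -- the coordinate function
  have hX : (fun j : ZMod p => (ZMod.cast j : K)) ∈ polyFun p K (d + 1) := by
    rw [mem_polyFun]
    refine ⟨X, ?_, fun j => by simp⟩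
    rw [degree_X]
    exact_mod_cast (by omega : 1 < d + 1)
  obtain ⟨Γ, hΓdeg, hΓ⟩ := (mem_polyFun _ _).mp (hpres _ hX)
  have hΓ0 : Γ ≠ 0 := by
    rintro rfl
    apply hγ
    apply cast_injective (K := K)
    rw [hΓ 0, hΓ 1]
    simp
  have he_le : Γ.natDegree ≤ d := by
    rw [Polynomial.degree_eq_natDegree hΓ0] at hΓdeg
    have : Γ.natDegree < d + 1 := by exact_mod_cast hΓdeg
    omega
  have he1 : 1 ≤ Γ.natDegree := by
    by_contra h
    have h0 : Γ.natDegree = 0 := by omega
    obtain ⟨c, hc⟩ := Polynomial.natDegree_eq_zero.mp h0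
    apply hγ
    apply cast_injective (K := K)
    rw [hΓ 0, hΓ 1, ← hc]
    simp
  -- the degree is one
  have he : Γ.natDegree = 1 := by
    by_contra hne
    have he2 : 2 ≤ Γ.natDegree := by omega
    set e := Γ.natDegree with hedef
    set i := d / e + 1 with hi
    have hi1 : d < i * e := by
      rw [hi, mul_comm]
      exact Nat.lt_mul_div_succ d (by omega)
    have hi2 : i * e ≤ 2 * d := by
      have h1 : d / e * e ≤ d := Nat.div_mul_le_self d e
      rw [hi, add_mul, one_mul]
      omega
    have hi3 : i ≤ d := by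
      have h1 : d / e ≤ d / 2 := Nat.div_le_div_left he2 (by norm_num)
      omega
    have hXi : (fun j : ZMod p => (ZMod.cast j : K) ^ i) ∈ polyFun p K (d + 1) := by
      rw [mem_polyFun]
      refine ⟨X ^ i, ?_, fun j => by simp⟩
      rw [degree_X_pow]
      exact_mod_cast (by omega : i < d + 1)
    obtain ⟨Q, hQdeg, hQ⟩ := (mem_polyFun _ _).mp (hpres _ hXi)
    have hpow : (Γ ^ i).natDegree = i * e := Polynomial.natDegree_pow Γ i
    have hdiff : Q - Γ ^ i = 0 := by
      apply eq_zero_of_evalMap_eq_zero (p := p)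
      · refine lt_of_le_of_lt (degree_sub_le _ _) (max_lt ?_ ?_)
        · exact lt_of_lt_of_le hQdeg (by exact_mod_cast (by omega : d + 1 ≤ p))
        · refine lt_of_le_of_lt Polynomial.degree_le_natDegree ?_
          rw [hpow]
          exact_mod_cast (by omega : i * e < p)
      · funext j
        rw [evalMap_apply]
        simp only [eval_sub, eval_pow, Pi.zero_apply]
        rw [← hQ, ← hΓ, sub_self]
    have hQeq : Q = Γ ^ i := sub_eq_zero.mp hdiff
    have hQd : Q.natDegree ≤ d := by
      by_cases hQ0 : Q = 0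
      · rw [hQ0]; simp
      · rw [Polynomial.degree_eq_natDegree hQ0] at hQdeg
        have : Q.natDegree < d + 1 := by exact_mod_cast hQdeg
        omega
    rw [hQeq, hpow] at hQd
    omega
  have hlin := Polynomial.eq_X_add_C_of_natDegree_le_one he.le
  intro x
  apply cast_injective (K := K)
  rw [cast_add, cast_mul, cast_sub, hΓ x, hΓ 1, hΓ 0, hlin]
  simp only [eval_add, eval_mul, eval_C, eval_X, cast_one', cast_zero']
  ring

end KeyProp

section Perp
variable {K : Type*} [Field K] {ι : Type*} [Fintype ι]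

/-- The pairing of functions against a subspace. -/
noncomputable def dotMap (U : Submodule K (ι → K)) : (ι → K) →ₗ[K] Module.Dual K U where
  toFun w :=
    { toFun := fun u => ∑ j, (u : ι → K) j * w j
      map_add' := by
        intro u v
        simp only [Submodule.coe_add, Pi.add_apply, add_mul, Finset.sum_add_distrib]
      map_smul' := by
        intro c u
        simp only [Submodule.coe_smul, Pi.smul_apply, smul_eq_mul, RingHom.id_apply,
          Finset.mul_sum, mul_assoc] }
  map_add' := by
    intro w v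
    ext u
    simp only [LinearMap.coe_mk, AddHom.coe_mk, Pi.add_apply, mul_add, Finset.sum_add_distrib,
      LinearMap.add_apply]
  map_smul' := by
    intro c w
    ext u
    simp only [LinearMap.coe_mk, AddHom.coe_mk, Pi.smul_apply, smul_eq_mul, RingHom.id_apply,
      LinearMap.smul_apply, Finset.mul_sum]
    refine Finset.sum_congr rfl fun j _ => ?_
    ring

theorem dotMap_apply (U : Submodule K (ι → K)) (w : ι → K) (u : U) :
    dotMap U w u = ∑ j, (u : ι → K) j * w j := rfl

/-- The orthogonal complement with respect to the standard pairing. -/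
noncomputable def perp (U : Submodule K (ι → K)) : Submodule K (ι → K) :=
  LinearMap.ker (dotMap U)

theorem mem_perp (U : Submodule K (ι → K)) (w : ι → K) :
    w ∈ perp U ↔ ∀ u ∈ U, ∑ j, u j * w j = 0 := by
  unfold perp
  rw [LinearMap.mem_ker]
  constructor
  · intro h u hu
    have := LinearMap.congr_fun h ⟨u, hu⟩
    exact this
  · intro h
    ext u
    exact h u u.2

theorem dotMap_surjective (U : Submodule K (ι → K)) : Function.Surjective (dotMap U) := by
  classical
  intro φ
  obtain ⟨ψ, hψ⟩ := LinearMap.exists_extend φ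
  refine ⟨fun j => ψ (Pi.single j 1), ?_⟩
  ext u
  rw [dotMap_apply, ← hψ, LinearMap.comp_apply, Submodule.subtype_apply,
    LinearMap.pi_apply_eq_sum_univ ψ (u : ι → K)]
  refine Finset.sum_congr rfl fun j _ => ?_
  have : (fun k => if j = k then (1 : K) else 0) = Pi.single j 1 := by
    funext k
    rw [Pi.single_apply]
    simp only [eq_comm]
  rw [this, smul_eq_mul]

theorem finrank_perp (U : Submodule K (ι → K)) :
    finrank K (perp U) + finrank K U = Fintype.card ι := by
  have h1 := LinearMap.finrank_range_add_finrank_ker (dotMap U)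
  rw [LinearMap.range_eq_top.mpr (dotMap_surjective U), finrank_top, Subspace.dual_finrank_eq,
    Module.finrank_fintype_fun_eq_card] at h1
  unfold perp
  omega

theorem perp_comp_mem (U : Submodule K (ι → K)) (σ : Equiv.Perm ι)
    (hU : ∀ u ∈ U, (fun j => u (σ.symm j)) ∈ U) :
    ∀ w ∈ perp U, (fun j => w (σ j)) ∈ perp U := by
  intro w hw
  rw [mem_perp] at hw ⊢
  intro u hu
  have h1 := hw _ (hU u hu)
  rw [← h1]
  symm
  refine Fintype.sum_equiv σ.symm _ _ (fun j => ?_)
  simp

end Perp

section ZModSide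
variable {p : ℕ} [Fact p.Prime] {K : Type*} [Field K] [CharP K p]

theorem affine_of_invariant_aux (Γ : Subgroup (Equiv.Perm (ZMod p)))
    (hshift : Equiv.addRight (1 : ZMod p) ∈ Γ) (W : Submodule K (ZMod p → K))
    (hW : ∀ γ ∈ Γ, ∀ f ∈ W, (fun j => f (γ j)) ∈ W)
    (h2 : 2 ≤ finrank K W) (h3 : 2 * (finrank K W - 1) ≤ p - 1) :
    ∀ γ ∈ Γ, ∀ x, γ x = (γ 1 - γ 0) * x + γ 0 := by
  have hsh : ∀ f ∈ W, (fun j => f (j - 1)) ∈ W := by
    intro f hf
    have h1 := hW _ (Γ.inv_mem hshift) f hf
    have h4 : (fun j => f ((Equiv.addRight (1 : ZMod p))⁻¹ j)) = fun j => f (j - 1) := by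
      funext j
      rw [Equiv.Perm.inv_def, Equiv.addRight_symm]
      simp [sub_eq_add_neg]
    rwa [h4] at h1
  obtain ⟨hrp, hWr⟩ := invariant_eq_polyFun W hsh
  intro γ hγ
  have hr : finrank K W = (finrank K W - 1) + 1 := by omega
  apply affine_of_preserves_polyFun (K := K) (d := finrank K W - 1) (by omega) h3 γ
  · intro h
    exact zero_ne_one (γ.injective h)
  · rw [← hr, ← hWr]
    exact hW γ hγ

/-- A permutation group on `ZMod p` containing the translation by one and preserving a subspace of
suitable dimension consists of affine maps. -/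
theorem affine_of_invariant (Γ : Subgroup (Equiv.Perm (ZMod p)))
    (hshift : Equiv.addRight (1 : ZMod p) ∈ Γ) (W : Submodule K (ZMod p → K))
    (hW : ∀ γ ∈ Γ, ∀ f ∈ W, (fun j => f (γ j)) ∈ W)
    (hr : (2 ≤ finrank K W ∧ 2 * (finrank K W - 1) ≤ p - 1) ∨
      (finrank K W + 2 ≤ p ∧ 2 * (p - finrank K W - 1) ≤ p - 1)) :
    ∀ γ ∈ Γ, ∀ x, γ x = (γ 1 - γ 0) * x + γ 0 := by
  haveI : NeZero p := ⟨(Fact.out : p.Prime).ne_zero⟩
  rcases hr with ⟨h2, h3⟩ | ⟨h2, h3⟩
  · exact affine_of_invariant_aux Γ hshift W hW h2 h3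
  · have hfr := finrank_perp W
    rw [ZMod.card] at hfr
    have hW' : ∀ γ ∈ Γ, ∀ f ∈ perp W, (fun j => f (γ j)) ∈ perp W := by
      intro γ hγ
      apply perp_comp_mem W γ
      intro u hu
      exact hW _ (Γ.inv_mem hγ) u hu
    apply affine_of_invariant_aux Γ hshift (perp W) hW'
    · omega
    · have : finrank K (perp W) = p - finrank K W := by omega
      rw [this]
      exact h3

end ZModSide

section Solvable
variable {p : ℕ} [Fact p.Prime]

/-- A group acting faithfully on `ZMod p` by affine maps is solvable. -/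
theorem isSolvable_of_affine {Γ : Type*} [Group Γ] (ρ : Γ →* Equiv.Perm (ZMod p))
    (hinj : Function.Injective ρ)
    (haff : ∀ g x, ρ g x = (ρ g 1 - ρ g 0) * x + ρ g 0) : Group.IsSolvable Γ := by
  let φ : Γ →* (ZMod p)ˣ :=
    { toFun := fun g => Units.mk0 (ρ g 1 - ρ g 0)
        (sub_ne_zero.mpr (fun h => one_ne_zero ((ρ g).injective h)))
      map_one' := by
        ext
        simp
      map_mul' := by
        intro g h
        ext
        simp only [Units.val_mk0, Units.val_mul, map_mul, Equiv.Perm.coe_mul,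
          Function.comp_apply]
        rw [haff g (ρ h 1), haff g (ρ h 0)]
        ring }
  have hφ : ∀ g, ((φ g : (ZMod p)ˣ) : ZMod p) = ρ g 1 - ρ g 0 := fun g => rfl
  haveI : Group.IsSolvable φ.ker := by
    apply Group.isSolvable_of_comm
    intro a b
    apply Subtype.ext
    apply hinj
    have ha : ρ a.1 1 - ρ a.1 0 = 1 := by
      have h1 := a.2
      rw [MonoidHom.mem_ker] at h1
      rw [← hφ, h1]
      rfl
    have hb : ρ b.1 1 - ρ b.1 0 = 1 := by
      have h1 := b.2
      rw [MonoidHom.mem_ker] at h1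
      rw [← hφ, h1]
      rfl
    ext x
    simp only [Subgroup.coe_mul, map_mul, Equiv.Perm.coe_mul, Function.comp_apply]
    rw [haff a.1 (ρ b.1 x), haff b.1 (ρ a.1 x), haff a.1 x, haff b.1 x, ha, hb]
    ring
  exact Group.isSolvable_of_ker_le_range φ.ker.subtype φ (by rw [Subgroup.range_subtype])

end Solvable

section Cycle
variable {p : ℕ} [Fact p.Prime] {α : Type*} [Fintype α] [DecidableEq α]

/-- A permutation of order `p` on `p` points is conjugate to the translation by one on
`ZMod p`. -/
theorem exists_equiv_zmod (hα : Fintype.card α = p) (τ : Equiv.Perm α) (hτ : orderOf τ = p) :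
    ∃ e : α ≃ ZMod p, ∀ x, e (τ x) = e x + 1 := by
  have hp : p.Prime := Fact.out
  haveI : NeZero p := ⟨hp.ne_zero⟩
  have hcyc : τ.IsCycle := by
    apply Equiv.Perm.isCycle_of_prime_order'
    · rw [hτ]; exact hp
    · rw [hτ, hα]
      have := hp.pos
      omega
  have hsupp : τ.support = Finset.univ := by
    apply Finset.eq_univ_of_card
    rw [← hcyc.orderOf, hτ, hα]
  have hmove : ∀ x, τ x ≠ x := by
    intro x
    rw [← Equiv.Perm.mem_support, hsupp]
    exact Finset.mem_univ x
  obtain ⟨a0⟩ : Nonempty α := by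
    rw [← Fintype.card_pos_iff, hα]
    exact hp.pos
  let ι : ZMod p → α := fun j => (τ ^ j.val) a0
  have hpow : ∀ n : ℕ, τ ^ (n % p) = τ ^ n := by
    intro n
    rw [← hτ]
    exact pow_mod_orderOf τ n
  have hsurj : Function.Surjective ι := by
    intro y
    obtain ⟨i, hi⟩ := hcyc.exists_pow_eq (hmove a0) (hmove y)
    refine ⟨(i : ZMod p), ?_⟩
    change (τ ^ ((i : ZMod p)).val) a0 = y
    rw [ZMod.val_natCast, hpow, hi]
  have hbij : Function.Bijective ι := by
    rw [Fintype.bijective_iff_surjective_and_card]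
    exact ⟨hsurj, by rw [ZMod.card, hα]⟩
  have hstep : ∀ j : ZMod p, ι (j + 1) = τ (ι j) := by
    intro j
    change (τ ^ (j + 1).val) a0 = τ ((τ ^ j.val) a0)
    rw [ZMod.val_add, hpow, pow_add, Equiv.Perm.mul_apply]
    have h1 : (1 : ZMod p).val = 1 := by
      haveI : Fact (1 < p) := ⟨hp.one_lt⟩
      exact ZMod.val_one p
    rw [h1, pow_one]
    have : ∀ m : ℕ, (τ ^ m) (τ a0) = τ ((τ ^ m) a0) := by
      intro m
      rw [← Equiv.Perm.mul_apply, ← Equiv.Perm.mul_apply, ← pow_succ, ← pow_succ']
    exact this _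
  refine ⟨(Equiv.ofBijective ι hbij).symm, fun x => ?_⟩
  obtain ⟨j, rfl⟩ := hsurj x
  rw [← hstep]
  have h2 : ∀ k, (Equiv.ofBijective ι hbij).symm (ι k) = k := by
    intro k
    exact (Equiv.ofBijective ι hbij).symm_apply_apply k
  rw [h2, h2]

end Cycle

section AlphaSide
variable {p : ℕ} [Fact p.Prime] {α : Type*} [Fintype α] [DecidableEq α]
  {K : Type*} [Field K] [CharP K p]

/-- A transitive permutation group of prime degree `p` preserving a subspace of suitable dimension
of the permutation module in characteristic `p` is solvable. -/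
theorem isSolvable_of_invariant_subspace (hα : Fintype.card α = p)
    (G : Subgroup (Equiv.Perm α)) [MulAction.IsPretransitive G α]
    (W : Submodule K (α → K)) (hW : ∀ g ∈ G, ∀ f ∈ W, (fun x => f (g x)) ∈ W)
    (hr : (2 ≤ finrank K W ∧ 2 * (finrank K W - 1) ≤ p - 1) ∨
      (finrank K W + 2 ≤ p ∧ 2 * (p - finrank K W - 1) ≤ p - 1)) :
    Group.IsSolvable G := by
  have hp : p.Prime := Fact.out
  obtain ⟨a0⟩ : Nonempty α := by
    rw [← Fintype.card_pos_iff, hα]
    exact hp.pos
  -- an element of order p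
  have hdvd : p ∣ Nat.card G := by
    have h1 : (MulAction.stabilizer G a0).index = Nat.card α :=
      MulAction.index_stabilizer_of_transitive G a0
    rw [Nat.card_eq_fintype_card, hα] at h1
    rw [← h1]
    exact Subgroup.index_dvd_card _
  obtain ⟨t, ht⟩ := exists_prime_orderOf_dvd_card' p hdvd
  have hτ : orderOf (t : Equiv.Perm α) = p := by
    rw [Subgroup.orderOf_coe, ht]
  obtain ⟨e, he⟩ := exists_equiv_zmod hα (t : Equiv.Perm α) hτ
  -- transport
  let ρ : G →* Equiv.Perm (ZMod p) := e.permCongrHom.toMonoidHom.comp G.subtype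
  have hρ : ∀ (g : G) (x : ZMod p), ρ g x = e ((g : Equiv.Perm α) (e.symm x)) := fun g x => rfl
  let Γ : Subgroup (Equiv.Perm (ZMod p)) := ρ.range
  have hshift : Equiv.addRight (1 : ZMod p) ∈ Γ := by
    refine ⟨t, ?_⟩
    ext x
    rw [hρ, he, Equiv.apply_symm_apply]
    rfl
  let W' : Submodule K (ZMod p → K) := W.map (LinearEquiv.funCongrLeft K K e.symm).toLinearMap
  have hfr : finrank K W' = finrank K W := LinearEquiv.finrank_map_eq _ W
  have hW' : ∀ γ ∈ Γ, ∀ f ∈ W', (fun j => f (γ j)) ∈ W' := by
    rintro _ ⟨g, rfl⟩ _ ⟨f, hf, rfl⟩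
    refine ⟨fun x => f ((g : Equiv.Perm α) x), hW g g.2 f hf, ?_⟩
    funext j
    simp only [LinearEquiv.coe_coe, LinearEquiv.funCongrLeft_apply, LinearMap.funLeft_apply, hρ,
      Equiv.symm_apply_apply]
  have haff := affine_of_invariant (K := K) Γ hshift W' hW' (by rw [hfr]; exact hr)
  apply isSolvable_of_affine ρ
  · intro g h hgh
    apply Subtype.ext
    exact e.permCongrHom.injective hgh
  · intro g x
    exact haff (ρ g) ⟨g, rfl⟩ x

end AlphaSide

section Heart
open Cfsg
variable {G : Type*} [Group G] {K : Type*} [Field K] {Ω : Type*} [Fintype Ω] [MulAction G Ω]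

theorem finrank_permConstants [Nonempty Ω] :
    finrank K (permConstants K G Ω).toSubmodule = 1 := by
  change finrank K (Submodule.span K {fun _ : Ω => (1 : K)}) = 1
  apply finrank_span_singleton
  intro h
  obtain ⟨a⟩ := ‹Nonempty Ω›
  exact one_ne_zero (congrFun h a)

theorem permSumZero_eq_perp :
    (permSumZero K G Ω).toSubmodule = perp (permConstants K G Ω).toSubmodule := by
  ext w
  rw [mem_perp, mem_permSumZero]
  constructor
  · intro h u hu
    rw [mem_permConstants] at hu
    obtain ⟨c, rfl⟩ := hu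
    rw [← Finset.mul_sum, h, mul_zero]
  · intro h
    have := h (fun _ => 1) ((mem_permConstants _).mpr ⟨1, rfl⟩)
    simpa using this

theorem finrank_permSumZero [Nonempty Ω] :
    finrank K (permSumZero K G Ω).toSubmodule + 1 = Fintype.card Ω := by
  rw [permSumZero_eq_perp, ← finrank_perp (permConstants K G Ω).toSubmodule,
    finrank_permConstants]

end Heart

end Cfsg.Agent.Helper4.BurnsidePrime
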