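import Mathlib
import Cfsg.Prelude.Def_Perm
import Cfsg.Agent.Helper4.PermRep
import Cfsg.Agent.Helper4.PermHeart

set_option autoImplicit false
set_option linter.style.haveILetI false
set_option linter.unusedSectionVars false

/-!
# Equivariant maps from the sum-zero functions to functions on unordered pairs
-/

namespace Cfsg.Agent.Helper4

open MulAction Cfsg

section
variable {G : Type*} [Group G] {K : Type*} [Field K] {Ω : Type*} [Fintype Ω] [DecidableEq Ω]
  [MulAction G Ω]

/-- The linear map attached to a matrix indexed by pairs and points. -/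
noncomputable def pairLin (B : Set.powersetCard Ω 2 → Ω → K) :
    (permSumZero K G Ω).toSubmodule →ₗ[K] (Set.powersetCard Ω 2 → K) where
  toFun v s := ∑ x, B s x * (v : Ω → K) x
  map_add' v w := by
    funext s
    simp only [Submodule.coe_add, Pi.add_apply, mul_add, Finset.sum_add_distrib]
  map_smul' c v := by
    funext s
    simp only [Submodule.coe_smul, Pi.smul_apply, smul_eq_mul, RingHom.id_apply, Finset.mul_sum]
    refine Finset.sum_congr rfl fun x _ => ?_
    ring

/-- The intertwining map attached to an invariant matrix indexed by pairs and points. -/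
noncomputable def pairMap (B : Set.powersetCard Ω 2 → Ω → K)
    (hB : ∀ (g : G) (s : Set.powersetCard Ω 2) (x : Ω), B (g • s) (g • x) = B s x) :
    Representation.IntertwiningMap (permSumZero K G Ω).toRepresentation
      (permRep K G (Set.powersetCard Ω 2)) :=
  LinearMap.intertwiningMap_of_isIntertwiningMap _ _ (pairLin (G := G) B) (by
    intro g v
    funext s
    change ∑ x, B s x * (v : Ω → K) (g⁻¹ • x) = ∑ x, B (g⁻¹ • s) x * (v : Ω → K) x
    refine Fintype.sum_equiv (MulAction.toPerm g⁻¹) _ _ (fun x => ?_)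
    simp only [MulAction.toPerm_apply]
    rw [← hB g (g⁻¹ • s) (g⁻¹ • x), smul_inv_smul, smul_inv_smul])

theorem pairMap_apply (B : Set.powersetCard Ω 2 → Ω → K)
    (hB : ∀ (g : G) (s : Set.powersetCard Ω 2) (x : Ω), B (g • s) (g • x) = B s x)
    (v : (permSumZero K G Ω).toSubmodule) (s : Set.powersetCard Ω 2) :
    pairMap B hB v s = ∑ x, B s x * (v : Ω → K) x := rfl

/-- Under the hypothesis of the statement, an invariant matrix with zero row sums has constant
rows. -/
theorem pair_rows_const
    (h : ∀ f : Representation.IntertwiningMap (permSumZero K G Ω).toRepresentation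
        (permRep K G (Set.powersetCard Ω 2)),
      (∀ v : (permSumZero K G Ω).toSubmodule,
        (v : Ω → K) ∈ (permConstants K G Ω).toSubmodule → f v = 0) → f = 0)
    (B : Set.powersetCard Ω 2 → Ω → K)
    (hB : ∀ (g : G) (s : Set.powersetCard Ω 2) (x : Ω), B (g • s) (g • x) = B s x)
    (hsum : ∀ s, ∑ x, B s x = 0) (s : Set.powersetCard Ω 2) (x y : Ω) : B s x = B s y := by
  have h0 : pairMap B hB = 0 := by
    apply h
    intro v hv
    rw [mem_permConstants] at hv
    obtain ⟨c, hc⟩ := hv
    funext s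
    rw [pairMap_apply, hc]
    simp only [← Finset.sum_mul, hsum, zero_mul]
    rfl
  have hmem : (Pi.single x 1 - Pi.single y 1 : Ω → K) ∈ (permSumZero K G Ω).toSubmodule := by
    rw [mem_permSumZero]
    simp only [Pi.sub_apply, Finset.sum_sub_distrib, Finset.sum_pi_single', Finset.mem_univ,
      if_true, sub_self]
  have h1 : pairMap B hB ⟨_, hmem⟩ s = 0 := by
    rw [h0]
    rfl
  rw [pairMap_apply] at h1
  simp only [Pi.sub_apply, mul_sub, Finset.sum_sub_distrib, Pi.single_apply, mul_ite, mul_one,
    mul_zero, Finset.sum_ite_eq', Finset.mem_univ, if_true] at h1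
  exact sub_eq_zero.mp h1

theorem mem_smul_pair_iff (g : G) (s : Set.powersetCard Ω 2) (x : Ω) :
    g • x ∈ ((g • s : Set.powersetCard Ω 2) : Finset Ω) ↔ x ∈ (s : Finset Ω) := by
  rw [Set.powersetCard.coe_smul, Finset.smul_mem_smul_finset_iff]

/-- In characteristic two the hypothesis fails as soon as there are three points. -/
theorem pair_char_two_false
    (h : ∀ f : Representation.IntertwiningMap (permSumZero K G Ω).toRepresentation
        (permRep K G (Set.powersetCard Ω 2)),
      (∀ v : (permSumZero K G Ω).toSubmodule,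
        (v : Ω → K) ∈ (permConstants K G Ω).toSubmodule → f v = 0) → f = 0)
    (h2 : (2 : K) = 0) (hcard : 3 ≤ Fintype.card Ω) : False := by
  obtain ⟨x, z, y, hxz, hxy, hzy⟩ := Fintype.two_lt_card_iff.mp hcard
  let B : Set.powersetCard Ω 2 → Ω → K := fun s x => if x ∈ (s : Finset Ω) then 1 else 0
  have hB : ∀ (g : G) (s : Set.powersetCard Ω 2) (x : Ω), B (g • s) (g • x) = B s x := by
    intro g s x
    simp only [B, mem_smul_pair_iff]
  have hsum : ∀ s, ∑ x, B s x = 0 := by
    intro s
    simp only [B]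
    rw [Finset.sum_boole]
    have : (Finset.univ.filter fun x => x ∈ (s : Finset Ω)) = (s : Finset Ω) := by
      ext x
      simp
    rw [this, Set.powersetCard.card_eq]
    exact_mod_cast h2
  let s0 : Set.powersetCard Ω 2 := ⟨{x, z}, Finset.card_pair hxz⟩
  have h1 := pair_rows_const h B hB hsum s0 x y
  have hx : x ∈ (s0 : Finset Ω) := by
    change x ∈ ({x, z} : Finset Ω)
    simp
  have hy : y ∉ (s0 : Finset Ω) := by
    change y ∉ ({x, z} : Finset Ω)
    simp [hxy.symm, hzy.symm]
  simp only [B, if_pos hx, if_neg hy] at h1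
  exact one_ne_zero h1

/-- In odd characteristic the hypothesis makes the setwise stabiliser of a pair transitive on the
remaining points. -/
theorem pair_stabilizer_transitive [IsPretransitive G (Set.powersetCard Ω 2)]
    (h : ∀ f : Representation.IntertwiningMap (permSumZero K G Ω).toRepresentation
        (permRep K G (Set.powersetCard Ω 2)),
      (∀ v : (permSumZero K G Ω).toSubmodule,
        (v : Ω → K) ∈ (permConstants K G Ω).toSubmodule → f v = 0) → f = 0)
    (h2 : (2 : K) ≠ 0) (s0 : Set.powersetCard Ω 2) (x0 y0 : Ω) (hx0 : x0 ∉ (s0 : Finset Ω)) (hy0 : y0 ∉ (s0 : Finset Ω)) :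
    ∃ g : G, g • s0 = s0 ∧ g • x0 = y0 := by
  classical
  let B0 : Set.powersetCard Ω 2 → Ω → K := fun s x => if x ∈ (s : Finset Ω) then 1 else 0
  have hB0 : ∀ (g : G) (s : Set.powersetCard Ω 2) (x : Ω), B0 (g • s) (g • x) = B0 s x := by
    intro g s x
    simp only [B0, mem_smul_pair_iff]
  have hsum0 : ∀ s, ∑ x, B0 s x = 2 := by
    intro s
    simp only [B0]
    rw [Finset.sum_boole]
    have : (Finset.univ.filter fun x => x ∈ (s : Finset Ω)) = (s : Finset Ω) := by
      ext x
      simp
    rw [this, Set.powersetCard.card_eq]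
    norm_num
  let B1 : Set.powersetCard Ω 2 → Ω → K :=
    fun s x => if ∃ g : G, g • s0 = s ∧ g • x0 = x then 1 else 0
  have hB1 : ∀ (g : G) (s : Set.powersetCard Ω 2) (x : Ω), B1 (g • s) (g • x) = B1 s x := by
    intro g s x
    have : (∃ k : G, k • s0 = g • s ∧ k • x0 = g • x) ↔ (∃ k : G, k • s0 = s ∧ k • x0 = x) := by
      constructor
      · rintro ⟨k, h1, h2⟩
        refine ⟨g⁻¹ * k, ?_, ?_⟩
        · rw [mul_smul, h1, inv_smul_smul]
        · rw [mul_smul, h2, inv_smul_smul]
      · rintro ⟨k, h1, h2⟩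
        refine ⟨g * k, ?_, ?_⟩
        · rw [mul_smul, h1]
        · rw [mul_smul, h2]
    simp only [B1, this]
  set d : K := ∑ x, B1 s0 x with hd
  have hsum1 : ∀ s, ∑ x, B1 s x = d := by
    intro s
    obtain ⟨k, rfl⟩ := exists_smul_eq G s0 s
    rw [hd]
    symm
    refine Fintype.sum_equiv (MulAction.toPerm k) _ _ (fun x => ?_)
    simp only [MulAction.toPerm_apply]
    rw [hB1]
  let B : Set.powersetCard Ω 2 → Ω → K := fun s x => d * B0 s x - 2 * B1 s x
  have hB : ∀ (g : G) (s : Set.powersetCard Ω 2) (x : Ω), B (g • s) (g • x) = B s x := by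
    intro g s x
    simp only [B, hB0, hB1]
  have hsum : ∀ s, ∑ x, B s x = 0 := by
    intro s
    simp only [B, Finset.sum_sub_distrib, ← Finset.mul_sum, hsum0, hsum1]
    ring
  have h1 := pair_rows_const h B hB hsum s0 x0 y0
  have h3 : B1 s0 x0 = 1 := by
    simp only [B1]
    rw [if_pos ⟨1, one_smul _ _, one_smul _ _⟩]
  simp only [B, B0, if_neg hx0, if_neg hy0, mul_zero, zero_sub, h3, mul_one] at h1
  by_contra hnot
  have h4 : B1 s0 y0 = 0 := by
    simp only [B1]
    rw [if_neg hnot]
  rw [h4, mul_zero, neg_zero, neg_eq_zero] at h1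
  exact h2 h1

open scoped Pointwise in
/-- Element form of `pair_stabilizer_transitive`. -/
theorem pair_stabilizer_transitive' [IsPretransitive G (Set.powersetCard Ω 2)]
    (h : ∀ f : Representation.IntertwiningMap (permSumZero K G Ω).toRepresentation
        (permRep K G (Set.powersetCard Ω 2)),
      (∀ v : (permSumZero K G Ω).toSubmodule,
        (v : Ω → K) ∈ (permConstants K G Ω).toSubmodule → f v = 0) → f = 0)
    (h2K : (2 : K) ≠ 0) (a b x y : Ω) (hab : a ≠ b) (hxa : x ≠ a) (hxb : x ≠ b) (hya : y ≠ a)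
    (hyb : y ≠ b) :
    ∃ g : G, ((g • a = a ∧ g • b = b) ∨ (g • a = b ∧ g • b = a)) ∧ g • x = y := by
  let s0 : Set.powersetCard Ω 2 := ⟨{a, b}, Finset.card_pair hab⟩
  have hxs : x ∉ (s0 : Finset Ω) := by
    change x ∉ ({a, b} : Finset Ω)
    simp [hxa, hxb]
  have hys : y ∉ (s0 : Finset Ω) := by
    change y ∉ ({a, b} : Finset Ω)
    simp [hya, hyb]
  obtain ⟨g, hg, hgx⟩ := pair_stabilizer_transitive h h2K s0 x y hxs hys
  refine ⟨g, ?_, hgx⟩
  have hg' : (g • ({a, b} : Finset Ω)) = {a, b} := by
    have h1 := congrArg (fun s : Set.powersetCard Ω 2 => (s : Finset Ω)) hg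
    simp only [Set.powersetCard.coe_smul] at h1
    exact h1
  have ha : g • a ∈ ({a, b} : Finset Ω) := by
    rw [← hg']
    exact Finset.smul_mem_smul_finset (by simp)
  have hb : g • b ∈ ({a, b} : Finset Ω) := by
    rw [← hg']
    exact Finset.smul_mem_smul_finset (by simp)
  simp only [Finset.mem_insert, Finset.mem_singleton] at ha hb
  have hne : g • a ≠ g • b := fun h => hab (MulAction.injective g h)
  rcases ha with ha | ha <;> rcases hb with hb | hb
  · exact absurd (ha.trans hb.symm) hne
  · left; exact ⟨ha, hb⟩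
  · right; exact ⟨ha, hb⟩
  · exact absurd (ha.trans hb.symm) hne

end

end Cfsg.Agent.Helper4
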