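import Mathlib
import Cfsg.Agent.Helper4.BurnsidePrime
import Cfsg.Agent.Helper4.JordanCycle
import Cfsg.Agent.Helper4.PermPairs
import Cfsg.Agent.S0674

set_option autoImplicit false
set_option linter.style.haveILetI false
set_option linter.unusedSectionVars false

/-!
# Transitive groups of prime degree whose Sylow normaliser has even order
-/

namespace Cfsg.Agent.Helper4.PrimeDegree3

open Equiv MulAction Cfsg.Agent.Helper4.BurnsidePrime

section
variable {p : ℕ} [Fact p.Prime] {α : Type*} [Fintype α] [DecidableEq α]

theorem card_dvd_factorial (hα : Fintype.card α = p) (G : Subgroup (Perm α)) :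
    Nat.card G ∣ p.factorial := by
  have h := Subgroup.card_subgroup_dvd_card G
  rwa [Nat.card_perm, Nat.card_eq_fintype_card (α := α), hα] at h

theorem prime_dvd_card (hα : Fintype.card α = p) (G : Subgroup (Perm α))
    [IsPretransitive G α] : p ∣ Nat.card G := by
  have hp : p.Prime := Fact.out
  obtain ⟨a0⟩ : Nonempty α := by
    rw [← Fintype.card_pos_iff, hα]
    exact hp.pos
  have h1 : (stabilizer G a0).index = Nat.card α := index_stabilizer_of_transitive G a0
  rw [Nat.card_eq_fintype_card, hα] at h1
  rw [← h1]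
  exact Subgroup.index_dvd_card _

theorem sylow_card (hα : Fintype.card α = p) (G : Subgroup (Perm α)) [IsPretransitive G α]
    (P : Sylow p G) : Nat.card P = p := by
  have hp : p.Prime := Fact.out
  obtain ⟨k, hk⟩ := IsPGroup.iff_card.mp P.isPGroup'
  have h1 : p ^ k ∣ p.factorial := by
    rw [← hk]
    exact (Subgroup.card_subgroup_dvd_card _).trans (card_dvd_factorial hα G)
  have hk1 : k ≤ 1 := by
    by_contra hk2
    push Not at hk2
    exact JordanCycle.sq_not_dvd_factorial hp ((pow_dvd_pow p hk2).trans h1)
  have hk0 : k ≠ 0 := by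
    rintro rfl
    rw [pow_zero] at hk
    have hbot : (P : Subgroup G) = ⊥ := Subgroup.card_eq_one.mp hk
    exact P.ne_bot_of_dvd_card (prime_dvd_card hα G) hbot
  have : k = 1 := by omega
  rw [hk, this, pow_one]

theorem stabilizer_card_eq (G : Subgroup (Perm α)) [IsPretransitive G α] (a b : α) :
    Nat.card (stabilizer G a) = Nat.card (stabilizer G b) := by
  have h1 := Subgroup.card_mul_index (stabilizer G a)
  have h2 := Subgroup.card_mul_index (stabilizer G b)
  rw [index_stabilizer_of_transitive] at h1 h2
  have hpos : 0 < Nat.card α := Nat.card_pos_iff.mpr ⟨⟨a⟩, inferInstance⟩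
  exact Nat.eq_of_mul_eq_mul_right hpos (h1.trans h2.symm)

end

section Setup
variable {p : ℕ} [Fact p.Prime] {α : Type*} [Fintype α] [DecidableEq α]

/-- Coordinates on a transitive group of odd prime degree whose Sylow normaliser has even order:
a `p`-element acting as the translation by one and an involution acting as a reflection. -/
theorem exists_setup (hα : Fintype.card α = p) (hp2 : p ≠ 2) (G : Subgroup (Perm α))
    [IsPretransitive G α] (P : Sylow p G)
    (heven : Even (Nat.card (Subgroup.normalizer ((P : Subgroup G) : Set G)))) :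
    ∃ (e : α ≃ ZMod p) (t s : G) (c : ZMod p), (∀ a, e (t • a) = e a + 1) ∧
      (∀ a, e (s • a) = - e a + c) ∧ orderOf s = 2 := by
  classical
  have hp : p.Prime := Fact.out
  haveI : NeZero p := ⟨hp.ne_zero⟩
  have hPcard := sylow_card hα G P
  -- a generator of P
  have hPne : (P : Subgroup G) ≠ ⊥ := P.ne_bot_of_dvd_card (prime_dvd_card hα G)
  obtain ⟨t, ht1⟩ := (Subgroup.ne_bot_iff_exists_ne_one).mp hPne
  have ht1' : (t : G) ≠ 1 := fun h => ht1 (Subtype.ext h)
  have htord : orderOf (t : G) = p := by
    have h1 : orderOf t ∣ p := by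
      have h2 : orderOf t ∣ Nat.card (P : Subgroup G) := orderOf_dvd_natCard t
      rwa [hPcard] at h2
    rw [Subgroup.orderOf_coe]
    rcases (Nat.dvd_prime hp).mp h1 with h | h
    · exact absurd (orderOf_eq_one_iff.mp h) ht1
    · exact h
  have hzp : Subgroup.zpowers (t : G) = P := by
    apply Subgroup.eq_of_le_of_card_ge
    · rw [Subgroup.zpowers_le]
      exact t.2
    · rw [Nat.card_zpowers, htord, hPcard]
  have htord' : orderOf ((t : G) : Perm α) = p := by
    rw [Subgroup.orderOf_coe, htord]
  obtain ⟨e, he⟩ := exists_equiv_zmod hα ((t : G) : Perm α) htord'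
  have het : ∀ a, e ((t : G) • a) = e a + 1 := fun a => he a
  have hetpow : ∀ (k : ℕ) a, e (((t : G) ^ k) • a) = e a + k := by
    intro k
    induction k with
    | zero => intro a; simp
    | succ k ih =>
      intro a
      rw [pow_succ, mul_smul, ih, het]
      push_cast
      ring
  -- the involution
  haveI : Fact (Nat.Prime 2) := ⟨Nat.prime_two⟩
  obtain ⟨s, hs⟩ := exists_prime_orderOf_dvd_card' 2 heven.two_dvd
  have hsord : orderOf (s : G) = 2 := by rw [Subgroup.orderOf_coe, hs]
  have hs2 : (s : G) * (s : G) = 1 := by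
    rw [← sq, ← hsord]
    exact pow_orderOf_eq_one _
  have hs1 : (s : G) ≠ 1 := by
    intro h
    rw [h, orderOf_one] at hsord
    norm_num at hsord
  have hconj : (s : G) * (t : G) * (s : G)⁻¹ ∈ (P : Subgroup G) :=
    (Subgroup.mem_normalizer_iff.mp s.2 (t : G)).mp t.2
  have hconj' : (s : G) * (t : G) * (s : G)⁻¹ ∈ Subgroup.zpowers (t : G) := by
    rw [hzp]
    exact hconj
  rw [← mem_powers_iff_mem_zpowers, Submonoid.mem_powers_iff] at hconj'
  obtain ⟨k, hk⟩ := hconj' 
  -- the action of s in coordinates
  let v : ZMod p → ZMod p := fun j => e ((s : G) • e.symm j)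
  have hvstep : ∀ j, v (j + 1) = v j + k := by
    intro j
    have h1 : e.symm (j + 1) = (t : G) • e.symm j := by
      rw [Equiv.symm_apply_eq, het, Equiv.apply_symm_apply]
    change e ((s : G) • e.symm (j + 1)) = e ((s : G) • e.symm j) + k
    rw [h1, ← hetpow k, hk]
    congr 1
    rw [← mul_smul, ← mul_smul]
    congr 1
    group
  have hvlin : ∀ j, v j = k * j + v 0 := by
    have h2 : ∀ n : ℕ, v (n : ZMod p) = k * n + v 0 := by
      intro n
      induction n with
      | zero => simp
      | succ n ih =>
        push_cast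
        rw [hvstep, ih]
        ring
    intro j
    have := h2 j.val
    rwa [ZMod.natCast_zmod_val] at this
  have hvv : ∀ j, v (v j) = j := by
    intro j
    change e ((s : G) • e.symm (e ((s : G) • e.symm j))) = j
    rw [Equiv.symm_apply_apply, ← mul_smul, hs2, one_smul, Equiv.apply_symm_apply]
  have h0 : (k : ZMod p) * v 0 + v 0 = 0 := by
    have := hvv 0
    rwa [hvlin (v 0)] at this
  have h1 : (k : ZMod p) * ((k : ZMod p) * 1 + v 0) + v 0 = 1 := by
    have := hvv 1
    rw [hvlin (v 1), hvlin 1] at this
    exact this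
  have hksq : ((k : ZMod p) - 1) * ((k : ZMod p) + 1) = 0 := by
    linear_combination h1 - h0
  have h20 : (2 : ZMod p) ≠ 0 := by
    intro h
    have h3 : ((2 : ℕ) : ZMod p) = 0 := by exact_mod_cast h
    rw [ZMod.natCast_eq_zero_iff] at h3
    have := (Nat.prime_dvd_prime_iff_eq hp Nat.prime_two).mp h3
    exact hp2 this
  have hkm1 : (k : ZMod p) = -1 := by
    rcases mul_eq_zero.mp hksq with h | h
    · exfalso
      have hk1 : (k : ZMod p) = 1 := sub_eq_zero.mp h
      rw [hk1] at h0
      have hv0 : v 0 = 0 := by
        have h4 : (2 : ZMod p) * v 0 = 0 := by linear_combination h0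
        rcases mul_eq_zero.mp h4 with h5 | h5
        · exact absurd h5 h20
        · exact h5
      apply hs1
      apply Subtype.ext
      apply Equiv.ext
      intro a
      have h5 := hvlin (e a)
      rw [hk1, hv0, one_mul, add_zero] at h5
      change e ((s : G) • e.symm (e a)) = e a at h5
      rw [Equiv.symm_apply_apply] at h5
      exact e.injective h5
    · exact eq_neg_of_add_eq_zero_left h
  refine ⟨e, (t : G), (s : G), v 0, het, ?_, hsord⟩
  intro a
  have h5 := hvlin (e a)
  change e ((s : G) • e.symm (e a)) = _ at h5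
  rw [Equiv.symm_apply_apply, hkm1] at h5
  rw [h5]
  ring

end Setup

section Conditions
open Cfsg
variable {p : ℕ} [Fact p.Prime] {α : Type*} [Fintype α] [DecidableEq α]

theorem two_ne_zero_of_ne_two (hp2 : p ≠ 2) : (2 : ZMod p) ≠ 0 := by
  have hp : p.Prime := Fact.out
  intro h
  have h3 : ((2 : ℕ) : ZMod p) = 0 := by exact_mod_cast h
  rw [ZMod.natCast_eq_zero_iff] at h3
  exact hp2 ((Nat.prime_dvd_prime_iff_eq hp Nat.prime_two).mp h3)

theorem even_stabilizer (hp2 : p ≠ 2) (G : Subgroup (Perm α))
    [IsPretransitive G α] (e : α ≃ ZMod p) (s : G) (c : ZMod p)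
    (hes : ∀ a, e (s • a) = - e a + c) (hsord : orderOf s = 2) :
    ∀ a : α, Even (Nat.card (stabilizer G a)) := by
  have h20 := two_ne_zero_of_ne_two hp2
  set a1 := e.symm (c * 2⁻¹) with ha1
  have hfix : s • a1 = a1 := by
    apply e.injective
    rw [hes, ha1, Equiv.apply_symm_apply]
    field_simp
    ring
  have hmem : s ∈ stabilizer G a1 := hfix
  have h2 : 2 ∣ Nat.card (stabilizer G a1) := by
    have := orderOf_dvd_natCard (⟨s, hmem⟩ : stabilizer G a1)
    rwa [Subgroup.orderOf_mk, hsord] at this
  intro a
  rw [stabilizer_card_eq G a a1]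
  exact (even_iff_two_dvd).mpr h2

end Conditions

section PairsCondition
open Cfsg
open scoped Pointwise
variable {p : ℕ} [Fact p.Prime] {α : Type*} [Fintype α] [DecidableEq α]

theorem sum_equiv_zmod (hp2 : p ≠ 2) (e : α ≃ ZMod p) : ∑ a, (e a : ZMod p) = 0 := by
  haveI : NeZero p := ⟨(Fact.out : p.Prime).ne_zero⟩
  have h20 := two_ne_zero_of_ne_two hp2
  have h1 : ∑ a, (e a : ZMod p) = ∑ j : ZMod p, j := Equiv.sum_comp e (fun j => j)
  have h2 : ∑ j : ZMod p, j = ∑ j : ZMod p, (-j) := (Equiv.sum_comp (Equiv.neg (ZMod p)) (fun j => j)).symm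
  rw [Finset.sum_neg_distrib] at h2
  have h3 : (2 : ZMod p) * ∑ j : ZMod p, j = 0 := by linear_combination h2
  rcases mul_eq_zero.mp h3 with h | h
  · exact absurd h h20
  · rw [h1, h]

/-- The module-theoretic hypothesis of the triple transitivity criterion holds for non-solvable
groups of prime degree with a reflection. -/
theorem pairs_condition (hα : Fintype.card α = p) (hp2 : p ≠ 2) (G : Subgroup (Perm α))
    [IsPretransitive G α] (hG : ¬ Group.IsSolvable G)
    (e : α ≃ ZMod p) (t s : G) (c : ZMod p) (het : ∀ a, e (t • a) = e a + 1)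
    (hes : ∀ a, e (s • a) = - e a + c)
    (f : Representation.IntertwiningMap (permSumZero (ZMod p) G α).toRepresentation
      (permRep (ZMod p) G (Set.powersetCard α 2)))
    (hf : ∀ v : (permSumZero (ZMod p) G α).toSubmodule,
      (v : α → ZMod p) ∈ (permConstants (ZMod p) G α).toSubmodule → f v = 0) : f = 0 := by
  classical
  have hp : p.Prime := Fact.out
  haveI : NeZero p := ⟨hp.ne_zero⟩
  have h20 := two_ne_zero_of_ne_two hp2
  have hcardK : ((Fintype.card α : ℕ) : ZMod p) = 0 := by
    rw [hα]
    exact ZMod.natCast_self p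
  have hCS : (permConstants (ZMod p) G α).toSubmodule ≤ (permSumZero (ZMod p) G α).toSubmodule := by
    intro v hv
    rw [mem_permConstants] at hv
    obtain ⟨c0, rfl⟩ := hv
    rw [mem_permSumZero]
    simp [hcardK]
  -- the kernel as a subrepresentation
  let Wk : Subrepresentation (permRep (ZMod p) G α) :=
    { toSubmodule := (LinearMap.ker f.toLinearMap).map (permSumZero (ZMod p) G α).toSubmodule.subtype
      apply_mem_toSubmodule := by
        rintro g _ ⟨w, hw, rfl⟩
        refine ⟨(permSumZero (ZMod p) G α).toRepresentation g w, ?_, rfl⟩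
        have hw' : f w = 0 := hw
        change f ((permSumZero (ZMod p) G α).toRepresentation g w) = 0
        rw [f.isIntertwining, hw', map_zero] }
  have hmemWk : ∀ v : α → ZMod p, v ∈ Wk.toSubmodule ↔
      ∃ h : v ∈ (permSumZero (ZMod p) G α).toSubmodule, f ⟨v, h⟩ = 0 := by
    intro v
    constructor
    · rintro ⟨w, hw, rfl⟩
      exact ⟨w.2, hw⟩
    · rintro ⟨h, hfv⟩
      exact ⟨⟨v, h⟩, hfv, rfl⟩
  have hCW : (permConstants (ZMod p) G α).toSubmodule ≤ Wk.toSubmodule := by
    intro v hv
    rw [hmemWk]
    exact ⟨hCS hv, hf ⟨v, hCS hv⟩ hv⟩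
  have hWS : Wk.toSubmodule ≤ (permSumZero (ZMod p) G α).toSubmodule := by
    intro v hv
    obtain ⟨h, -⟩ := (hmemWk v).mp hv
    exact h
  rcases Cfsg.Agent.S0674.result hα G hG Wk hCW hWS with hW | hW
  · -- the kernel is the constants: contradiction
    exfalso
    let x : α → ZMod p := fun a => e a
    have hxS : x ∈ (permSumZero (ZMod p) G α).toSubmodule := by
      rw [mem_permSumZero]
      exact sum_equiv_zmod hp2 e
    have hetinv : ∀ a, e (t⁻¹ • a) = e a - 1 := by
      intro a
      have := het (t⁻¹ • a)
      rw [smul_inv_smul] at this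
      rw [this]
      ring
    have hesinv : ∀ a, e (s⁻¹ • a) = - e a + c := by
      intro a
      have := hes (s⁻¹ • a)
      rw [smul_inv_smul] at this
      rw [this]
      ring
    have hetpow : ∀ (k : ℕ) a, e ((t ^ k) • a) = e a + k := by
      intro k
      induction k with
      | zero => intro a; simp
      | succ k ih =>
        intro a
        rw [pow_succ, mul_smul, ih, het]
        push_cast
        ring
    set F := f ⟨x, hxS⟩ with hF
    -- invariance under t
    have hconst : ∀ c0 : ZMod p, (fun _ : α => c0) ∈ (permConstants (ZMod p) G α).toSubmodule :=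
      fun c0 => (mem_permConstants _).mpr ⟨c0, rfl⟩
    have hFt : ∀ pr, F (t⁻¹ • pr) = F pr := by
      intro pr
      have h1 : (permSumZero (ZMod p) G α).toRepresentation t ⟨x, hxS⟩ =
          (⟨x, hxS⟩ : (permSumZero (ZMod p) G α).toSubmodule) +
            ⟨fun _ => -1, hCS (hconst (-1))⟩ := by
        apply Subtype.ext
        funext a
        change x (t⁻¹ • a) = x a + -1
        change e (t⁻¹ • a) = e a + -1
        rw [hetinv]
        ring
      have h2 := Representation.IntertwiningMap.isIntertwining _ _ f t ⟨x, hxS⟩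
      rw [h1, map_add, hf ⟨fun _ => -1, hCS (hconst (-1))⟩ (hconst (-1)), add_zero] at h2
      have h3 := congrFun h2 pr
      exact h3.symm
    have hFt' : ∀ pr, F (t • pr) = F pr := by
      intro pr
      have := hFt (t • pr)
      rw [inv_smul_smul] at this
      exact this.symm
    have hFtpow : ∀ (k : ℕ) pr, F ((t ^ k) • pr) = F pr := by
      intro k
      induction k with
      | zero => intro pr; simp
      | succ k ih =>
        intro pr
        rw [pow_succ, mul_smul, ih, hFt']
    have hFs : ∀ pr, F (s⁻¹ • pr) = - F pr := by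
      intro pr
      have h1 : (permSumZero (ZMod p) G α).toRepresentation s ⟨x, hxS⟩ =
          - (⟨x, hxS⟩ : (permSumZero (ZMod p) G α).toSubmodule) +
            ⟨fun _ => c, hCS (hconst c)⟩ := by
        apply Subtype.ext
        funext a
        change x (s⁻¹ • a) = - x a + c
        change e (s⁻¹ • a) = - e a + c
        rw [hesinv]
      have h2 := Representation.IntertwiningMap.isIntertwining _ _ f s ⟨x, hxS⟩
      rw [h1, map_add, map_neg, hf ⟨fun _ => c, hCS (hconst c)⟩ (hconst c), add_zero] at h2
      have h3 := congrFun h2 pr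
      exact h3.symm
    have hclaim : ∀ pr : Set.powersetCard α 2, ∃ i : ℕ, s⁻¹ • pr = (t ^ i) • pr := by
      intro pr
      obtain ⟨a, b, hab, hpr⟩ := Finset.card_eq_two.mp pr.2
      refine ⟨(c - e a - e b).val, ?_⟩
      apply Subtype.ext
      have h3 : ((s⁻¹ • pr : Set.powersetCard α 2) : Finset α) = s⁻¹ • (pr : Finset α) :=
        Set.powersetCard.coe_smul
      have h4 : (((t ^ (c - e a - e b).val) • pr : Set.powersetCard α 2) : Finset α) =
          (t ^ (c - e a - e b).val) • (pr : Finset α) := Set.powersetCard.coe_smul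
      refine h3.trans (Eq.trans ?_ h4.symm)
      have hpr' : (pr : Finset α) = {a, b} := hpr
      rw [hpr', Finset.smul_finset_insert, Finset.smul_finset_singleton,
        Finset.smul_finset_insert, Finset.smul_finset_singleton]
      have h1 : (t ^ (c - e a - e b).val) • a = s⁻¹ • b := by
        apply e.injective
        rw [hetpow, hesinv, ZMod.natCast_zmod_val]
        ring
      have h2 : (t ^ (c - e a - e b).val) • b = s⁻¹ • a := by
        apply e.injective
        rw [hetpow, hesinv, ZMod.natCast_zmod_val]
        ring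
      rw [h1, h2, Finset.pair_comm]
    have hFzero : ∀ pr, F pr = 0 := by
      intro pr
      obtain ⟨i, hi⟩ := hclaim pr
      have h1 := hFs pr
      rw [hi, hFtpow] at h1
      have h2 : (2 : ZMod p) * F pr = 0 := by linear_combination h1
      rcases mul_eq_zero.mp h2 with h | h
      · exact absurd h h20
      · exact h
    have hxW : x ∈ Wk.toSubmodule := by
      rw [hmemWk]
      exact ⟨hxS, funext hFzero⟩
    rw [hW, mem_permConstants] at hxW
    obtain ⟨c0, hc0⟩ := hxW
    have hconstx : ∀ a b : α, a = b := by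
      intro a b
      apply e.injective
      exact (congrFun hc0 a).trans (congrFun hc0 b).symm
    have : Fintype.card α ≤ 1 := Fintype.card_le_one_iff.mpr hconstx
    rw [hα] at this
    have := hp.two_le
    omega
  · -- the kernel is everything
    apply Representation.IntertwiningMap.ext
    apply LinearMap.ext
    intro v
    have hv : (v : α → ZMod p) ∈ Wk.toSubmodule := by
      rw [hW]
      exact v.2
    obtain ⟨h, hfv⟩ := (hmemWk _).mp hv
    exact hfv

end PairsCondition

section Small
variable {α : Type*} [Fintype α] [DecidableEq α]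

theorem isSolvable_of_card_two (hα : Fintype.card α = 2) (G : Subgroup (Perm α)) :
    Group.IsSolvable G := by
  haveI : Fact (Nat.Prime 2) := ⟨Nat.prime_two⟩
  have h1 : Nat.card G ∣ 2 := by
    have h2 := Subgroup.card_subgroup_dvd_card G
    rw [Nat.card_perm, Nat.card_eq_fintype_card (α := α), hα] at h2
    exact h2
  have hPG : IsPGroup 2 G := by
    rcases (Nat.dvd_prime Nat.prime_two).mp h1 with h | h
    · exact IsPGroup.of_card (n := 0) (by rw [h, pow_zero])
    · exact IsPGroup.of_card (n := 1) (by rw [h, pow_one])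
  haveI := hPG.isNilpotent
  infer_instance

end Small

end Cfsg.Agent.Helper4.PrimeDegree3
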