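import Mathlib
import Cfsg.Agent.S0675
import Cfsg.Agent.S0676
import Cfsg.Agent.Helper4.M11Simple
import Cfsg.Agent.Helper4.MinDegree
import Cfsg.Agent.Helper4.Sharp2
import Cfsg.Agent.Helper4.SharpStab
import Cfsg.Agent.Helper4.Sharp3
import Cfsg.Agent.Helper4.PrimeDegree3
import Cfsg.Agent.Helper4.JordanNormal

set_option autoImplicit false
set_option linter.style.haveILetI false
set_option linter.unusedSectionVars false

/-!
# Non-solvable transitive groups of degree seven
-/

namespace Cfsg.Agent.Helper4.DegreeSeven

open Equiv MulAction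

section General

variable {G α : Type*} [Group G] [MulAction G α] [Fintype α] [Finite G]

/-- A sharply doubly transitive finite action has prime power degree. -/
theorem sharp2_card_prime_pow (h2 : IsMultiplyPretransitive G α 2)
    (hs : ∀ (g : G) (x y : α), x ≠ y → g • x = x → g • y = y → g = 1)
    (hn : 2 ≤ Fintype.card α) : ∃ p k : ℕ, p.Prime ∧ Fintype.card α = p ^ k := by
  classical
  obtain ⟨N, hNnormal, hNmem, hNcard, hGcard⟩ :=
    Cfsg.Agent.Helper4.sharp2_fpf_subgroup h2 hs hn
  have := hNnormal
  have hreg : ∀ a : α, MulAction.stabilizer N a = ⊥ := by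
    intro a
    rw [Subgroup.eq_bot_iff_forall]
    intro g hg
    rcases (hNmem g.1).mp g.2 with h | h
    · exact Subtype.ext h
    · exact absurd hg (h a)
  have hne : Nonempty α := Fintype.card_pos_iff.mp (by omega)
  have htransN : MulAction.IsPretransitive N α := by
    obtain ⟨a0⟩ := hne
    have hinj : Function.Injective (fun g : N => g • a0) := by
      intro g h hgh
      have : h⁻¹ * g ∈ MulAction.stabilizer N a0 := by
        rw [MulAction.mem_stabilizer_iff, mul_smul]
        change h⁻¹ • (g • a0) = a0
        rw [show g • a0 = h • a0 from hgh, inv_smul_smul]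
      rw [hreg a0, Subgroup.mem_bot, inv_mul_eq_one] at this
      exact this.symm
    have hbij : Function.Bijective (fun g : N => g • a0) :=
      hinj.bijective_of_nat_card_le (by rw [hNcard, Nat.card_eq_fintype_card])
    refine ⟨fun x y => ?_⟩
    obtain ⟨gx, hgx⟩ := hbij.2 x
    obtain ⟨gy, hgy⟩ := hbij.2 y
    refine ⟨gy * gx⁻¹, ?_⟩
    rw [mul_smul, ← hgx]
    change gy • gx⁻¹ • gx • a0 = y
    rw [inv_smul_smul]
    exact hgy
  obtain ⟨p, hp, _, _, _, k, hk⟩ :=
    Cfsg.Agent.Helper4.regular_normal_elementary_abelian N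
      (by rw [Nat.card_eq_fintype_card]; exact hn) h2 htransN hreg
  rw [Nat.card_eq_fintype_card] at hk
  exact ⟨p, k, hp, hk⟩

theorem six_not_prime_pow (p k : ℕ) (hp : p.Prime) (h : 6 = p ^ k) : False := by
  have h2 : 2 ∣ p ^ k := by rw [← h]; norm_num
  have h3 : 3 ∣ p ^ k := by rw [← h]; norm_num
  have e2 := (Nat.prime_dvd_prime_iff_eq Nat.prime_two hp).mp (Nat.prime_two.dvd_of_dvd_pow h2)
  have e3 := (Nat.prime_dvd_prime_iff_eq Nat.prime_three hp).mp (Nat.prime_three.dvd_of_dvd_pow h3)
  omega

/-- There is no sharply triply transitive action on seven points. -/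
theorem not_sharp3_seven (hα : Fintype.card α = 7) (h3 : IsMultiplyPretransitive G α 3)
    (hsharp : ∀ x : Fin 3 ↪ α, stabilizer G x = ⊥) : False := by
  classical
  have hne : Nonempty α := Fintype.card_pos_iff.mp (by omega)
  obtain ⟨a⟩ := hne
  have hcardα : Nat.card α = 7 := by rw [Nat.card_eq_fintype_card, hα]
  have h1 : IsMultiplyPretransitive G α 1 :=
    isMultiplyPretransitive_of_le (n := 3) (by norm_num) (by rw [hcardα]; norm_num)
  haveI hGt : IsPretransitive G α := is_one_pretransitive_iff.mp h1
  have h2' : IsMultiplyPretransitive (stabilizer G a) (SubMulAction.ofStabilizer G a) 2 :=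
    SubMulAction.ofStabilizer.isMultiplyPretransitive.mp h3
  have hsharp' := Cfsg.Agent.Helper4.SharpStab.sharp_ofStabilizer (n := 2) hsharp a
  have hcard' : Nat.card (SubMulAction.ofStabilizer G a) = 6 := by
    rw [SubMulAction.nat_card_ofStabilizer_eq, Nat.card_eq_fintype_card, hα]
  haveI : Fintype (SubMulAction.ofStabilizer G a) := Fintype.ofFinite _
  rw [Nat.card_eq_fintype_card] at hcard'
  obtain ⟨p, k, hp, hk⟩ := sharp2_card_prime_pow h2'
    (fun g x y hxy hx hy => Cfsg.Agent.Helper4.eq_one_of_fix_two hsharp' g hxy hx hy)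
    (by rw [hcard']; norm_num)
  rw [hcard'] at hk
  exact six_not_prime_pow p k hp hk

end General

section Seven

variable {α : Type*} [Fintype α] [DecidableEq α]

/-- In a doubly transitive group of degree seven not containing the alternating group, only
the identity fixes four points. -/
theorem eq_one_of_fix_four (hα : Fintype.card α = 7) (G : Subgroup (Perm α))
    (h2 : IsMultiplyPretransitive G α 2) (hA : ¬ alternatingGroup α ≤ G)
    (g : Perm α) (hg : g ∈ G) (s : Finset α) (hs : 4 ≤ s.card) (hfix : ∀ x ∈ s, g x = x) :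
    g = 1 := by
  by_contra hne
  apply hA
  apply Cfsg.Agent.Helper4.MinDegree.alternatingGroup_le_of_small_support G h2 g hg hne
  have hsub : g.support ⊆ sᶜ := by
    intro x hx
    rw [Finset.mem_compl]
    intro hxs
    exact (Perm.mem_support.mp hx) (hfix x hxs)
  have := Finset.card_le_card hsub
  rw [Finset.card_compl, hα] at this
  omega

theorem mem_map_stabilizer (G : Subgroup (Perm α)) (x0 : Fin 2 ↪ α) (g : Perm α) :
    g ∈ (stabilizer G x0).map G.subtype ↔ g ∈ G ∧ g (x0 0) = x0 0 ∧ g (x0 1) = x0 1 := by
  rw [Subgroup.mem_map]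
  constructor
  · rintro ⟨y, hy, rfl⟩
    rw [mem_stabilizer_iff] at hy
    refine ⟨y.2, ?_, ?_⟩
    · exact DFunLike.congr_fun hy 0
    · exact DFunLike.congr_fun hy 1
  · rintro ⟨hg, h0, h1⟩
    refine ⟨⟨g, hg⟩, ?_, rfl⟩
    rw [mem_stabilizer_iff]
    ext i
    fin_cases i
    · exact h0
    · exact h1

/-- No element of order three fixes two points. -/
theorem no_order_three (hα : Fintype.card α = 7) (G : Subgroup (Perm α))
    (h2 : IsMultiplyPretransitive G α 2) (hA : ¬ alternatingGroup α ≤ G)
    (g : Perm α) (hg : g ∈ G) (ho : orderOf g = 3) (a b : α) (hab : a ≠ b) (ha : g a = a)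
    (hb : g b = b) : False := by
  haveI : Fact (Nat.Prime 3) := ⟨Nat.prime_three⟩
  have h1 := Cfsg.Agent.Helper4.card_modEq_card_fixedBy_of_orderOf_prime (Ω := α) 3 g ho
  set F : Finset α := Finset.univ.filter (fun x => g x = x) with hF
  have e : Nat.card (fixedBy α g) = F.card := by
    rw [Nat.card_eq_fintype_card, Fintype.card_subtype]
    rfl
  rw [e, Nat.card_eq_fintype_card, hα] at h1
  have hge : 2 ≤ F.card := by
    have hsub : ({a, b} : Finset α) ⊆ F := by
      intro x hx
      rw [Finset.mem_insert, Finset.mem_singleton] at hx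
      rw [hF, Finset.mem_filter]
      rcases hx with rfl | rfl
      · exact ⟨Finset.mem_univ _, ha⟩
      · exact ⟨Finset.mem_univ _, hb⟩
    have := Finset.card_le_card hsub
    rwa [Finset.card_pair hab] at this
  have hle : F.card ≤ 3 := by
    by_contra hcon
    push Not at hcon
    have h1' : g = 1 := eq_one_of_fix_four hα G h2 hA g hg F (by omega) (by
      intro x hx
      rw [hF, Finset.mem_filter] at hx
      exact hx.2)
    rw [h1', orderOf_one] at ho
    omega
  unfold Nat.ModEq at h1
  omega

/-- A 2-subgroup fixing two points has order at most four. -/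
theorem card_two_group_le (hα : Fintype.card α = 7) (G : Subgroup (Perm α))
    (h2 : IsMultiplyPretransitive G α 2) (hA : ¬ alternatingGroup α ≤ G)
    (K : Subgroup (Perm α)) (hKG : K ≤ G) (hK : IsPGroup 2 K) (a b : α) (hab : a ≠ b)
    (ha : ∀ k ∈ K, k a = a) (hb : ∀ k ∈ K, k b = b) : Nat.card K ≤ 4 := by
  haveI : Fact (Nat.Prime 2) := ⟨Nat.prime_two⟩
  have h1 := hK.card_modEq_card_fixedPoints α
  rw [Nat.card_eq_fintype_card, hα] at h1
  -- a third fixed point
  have hc : ∃ c : α, c ≠ a ∧ c ≠ b ∧ ∀ k ∈ K, k c = c := by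
    by_contra hcon
    push Not at hcon
    have hset : fixedPoints K α = {a, b} := by
      ext x
      rw [mem_fixedPoints, Set.mem_insert_iff, Set.mem_singleton_iff]
      constructor
      · intro hx
        by_contra hxab
        push Not at hxab
        obtain ⟨k, hk, hkx⟩ := hcon x hxab.1 hxab.2
        exact hkx (hx ⟨k, hk⟩)
      · rintro (rfl | rfl)
        · intro k; exact ha k.1 k.2
        · intro k; exact hb k.1 k.2
    rw [hset, Nat.card_coe_set_eq, Set.ncard_pair hab] at h1
    unfold Nat.ModEq at h1
    omega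
  obtain ⟨c, hca, hcb, hc⟩ := hc
  -- a fourth point
  have hd : ∃ d : α, d ≠ a ∧ d ≠ b ∧ d ≠ c := by
    by_contra hcon
    push Not at hcon
    have hsub : (Finset.univ : Finset α) ⊆ {a, b, c} := by
      intro x _
      rw [Finset.mem_insert, Finset.mem_insert, Finset.mem_singleton]
      by_cases hxa : x = a
      · exact Or.inl hxa
      · by_cases hxb : x = b
        · exact Or.inr (Or.inl hxb)
        · exact Or.inr (Or.inr (hcon x hxa hxb))
    have := Finset.card_le_card hsub
    rw [Finset.card_univ, hα] at this
    have h3 : ({a, b, c} : Finset α).card ≤ 3 := Finset.card_le_three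
    omega
  obtain ⟨d, hda, hdb, hdc⟩ := hd
  haveI : Fintype K := Fintype.ofFinite K
  let f : K → α := fun k => (k : Perm α) d
  have hinj : Function.Injective f := by
    intro k k' hkk
    have hmem : ((k' : Perm α)⁻¹ * (k : Perm α)) ∈ K := K.mul_mem (K.inv_mem k'.2) k.2
    have hfix : ∀ x ∈ ({a, b, c, d} : Finset α), ((k' : Perm α)⁻¹ * (k : Perm α)) x = x := by
      intro x hx
      rw [Finset.mem_insert, Finset.mem_insert, Finset.mem_insert, Finset.mem_singleton] at hx
      rw [Perm.mul_apply, Perm.inv_eq_iff_eq]
      rcases hx with rfl | rfl | rfl | rfl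
      · rw [ha k.1 k.2, ha k'.1 k'.2]
      · rw [hb k.1 k.2, hb k'.1 k'.2]
      · rw [hc k.1 k.2, hc k'.1 k'.2]
      · exact hkk
    have hcard4 : ({a, b, c, d} : Finset α).card = 4 := by
      rw [Finset.card_insert_of_notMem, Finset.card_insert_of_notMem,
        Finset.card_insert_of_notMem, Finset.card_singleton]
      · simp [Ne.symm hdc]
      · simp [Ne.symm hcb, Ne.symm hdb]
      · simp [hab, Ne.symm hca, Ne.symm hda]
    have h1' := eq_one_of_fix_four hα G h2 hA _ (hKG hmem) {a, b, c, d} (by omega) hfix
    rw [inv_mul_eq_one] at h1'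
    exact (Subtype.ext h1').symm
  have himg : Finset.univ.image f ⊆ ({a, b, c} : Finset α)ᶜ := by
    intro x hx
    rw [Finset.mem_image] at hx
    obtain ⟨k, _, rfl⟩ := hx
    rw [Finset.mem_compl, Finset.mem_insert, Finset.mem_insert, Finset.mem_singleton]
    rintro (h | h | h)
    · apply hda
      have := ha k.1 k.2
      exact (k : Perm α).injective (h.trans this.symm)
    · apply hdb
      have := hb k.1 k.2
      exact (k : Perm α).injective (h.trans this.symm)
    · apply hdc
      have := hc k.1 k.2
      exact (k : Perm α).injective (h.trans this.symm)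
  have hcard3 : ({a, b, c} : Finset α).card = 3 := by
    rw [Finset.card_insert_of_notMem, Finset.card_insert_of_notMem, Finset.card_singleton]
    · simp [Ne.symm hcb]
    · simp [hab, Ne.symm hca]
  have h5 := Finset.card_le_card himg
  rw [Finset.card_image_of_injective _ hinj, Finset.card_compl, hα, hcard3, Finset.card_univ]
    at h5
  rw [Nat.card_eq_fintype_card]
  omega

end Seven

section Main

variable {α : Type*} [Fintype α] [DecidableEq α]

/-- In a non-solvable transitive group of degree seven a Sylow 7-subgroup is not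
self-normalizing (Burnside's transfer theorem). -/
theorem normalizer_card_ne (hα : Fintype.card α = 7) (G : Subgroup (Perm α))
    [IsPretransitive G α] (hG : ¬ Group.IsSolvable G) (P : Sylow 7 G)
    (hN : Nat.card (Subgroup.normalizer ((P : Subgroup G) : Set G)) = 7) : False := by
  haveI : Fact (Nat.Prime 7) := ⟨by norm_num⟩
  have hP7 : Nat.card (P : Subgroup G) = 7 := Cfsg.Agent.Helper4.PrimeDegree3.sylow_card hα G P
  have hcardα : Nat.card α = 7 := by rw [Nat.card_eq_fintype_card, hα]
  have hprim : IsPreprimitive G α := IsPreprimitive.of_prime_card (by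
    rw [hcardα]; norm_num)
  -- the normalizer is `P`
  have hNP : Subgroup.normalizer ((P : Subgroup G) : Set G) = (P : Subgroup G) := by
    symm
    apply Subgroup.eq_of_le_of_card_ge Subgroup.le_normalizer
    rw [hN, hP7]
  -- `P` is commutative
  haveI : Fact (Nat.card (P : Subgroup G)).Prime := ⟨by rw [hP7]; norm_num⟩
  have hcyc : IsCyclic (P : Subgroup G) := isCyclic_of_prime_card hP7
  have hcomm : ∀ x ∈ (P : Subgroup G), ∀ y ∈ (P : Subgroup G), y * x = x * y := by
    intro x hx y hy
    obtain ⟨z, hz⟩ := hcyc
    obtain ⟨i, hi⟩ := hz ⟨x, hx⟩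
    obtain ⟨j, hj⟩ := hz ⟨y, hy⟩
    have hx' : x = ((z : G)) ^ i := by
      have := congrArg Subtype.val hi
      simpa using this.symm
    have hy' : y = ((z : G)) ^ j := by
      have := congrArg Subtype.val hj
      simpa using this.symm
    rw [hx', hy']
    exact (Commute.zpow_zpow_self (z : G) j i).eq
  have hle : Subgroup.normalizer ((P : Subgroup G) : Set G) ≤
      Subgroup.centralizer ((P : Subgroup G) : Set G) := by
    rw [hNP]
    intro x hx
    rw [Subgroup.mem_centralizer_iff]
    intro y hy
    exact hcomm x hx y hy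
  have hcomp := MonoidHom.ker_transferSylow_isComplement' P hle
  have hnd := MonoidHom.not_dvd_card_ker_transferSylow P hle
  set K := (MonoidHom.transferSylow P hle).ker with hK
  have hmul := hcomp.card_mul_card
  by_cases hbot : K = ⊥
  · rw [hbot, Subgroup.card_bot, one_mul, hP7] at hmul
    apply hG
    haveI : Fact (Nat.card G).Prime := ⟨by rw [← hmul]; norm_num⟩
    have hcycG : IsCyclic G := isCyclic_of_prime_card hmul.symm
    exact Group.isSolvable_of_comm (fun a b => hcycG.commGroup.mul_comm a b)
  · have hKt : IsPretransitive K α :=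
      Cfsg.Agent.Helper4.JordanNormal.normal_isPretransitive hprim K hbot
    obtain ⟨a⟩ : Nonempty α := Fintype.card_pos_iff.mp (by omega)
    apply hnd
    have h7 : (stabilizer K a).index = Nat.card α := index_stabilizer_of_transitive K a
    rw [hcardα] at h7
    rw [← h7]
    exact Subgroup.index_dvd_card _

/-- The order of a non-solvable transitive group of degree seven not containing the alternating
group is 168, and its Sylow 7-normalizers have order 21. -/
theorem card_eq (hα : Fintype.card α = 7) (G : Subgroup (Perm α))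
    [IsPretransitive G α] (hG : ¬ Group.IsSolvable G) (hA : ¬ alternatingGroup α ≤ G) :
    IsMultiplyPretransitive G α 2 ∧ Nat.card G = 168 ∧
      ∀ P : Sylow 7 G, Nat.card (Subgroup.normalizer ((P : Subgroup G) : Set G)) = 21 := by
  haveI : Fact (Nat.Prime 7) := ⟨by norm_num⟩
  have hcardα : Nat.card α = 7 := by rw [Nat.card_eq_fintype_card, hα]
  have h2 : IsMultiplyPretransitive G α 2 :=
    (Cfsg.Agent.S0675.result (by rw [hα]; norm_num) G).resolve_left hG
  refine ⟨h2, ?_⟩
  -- a pair of points
  have hne2 : Nonempty (Fin 2 ↪ α) := by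
    rw [Function.Embedding.nonempty_iff_card_le, Fintype.card_fin, hα]
    norm_num
  obtain ⟨x0⟩ := hne2
  have hidx2 := @index_stabilizer_of_transitive G (Fin 2 ↪ α) _ _ x0 h2
  rw [Nat.card_eq_fintype_card (α := Fin 2 ↪ α), Fintype.card_embedding_eq, Fintype.card_fin,
    hα, show (7 : ℕ).descFactorial 2 = 42 from rfl] at hidx2
  have hmul2 := Subgroup.card_mul_index (stabilizer G x0)
  rw [hidx2] at hmul2
  set H : Subgroup (Perm α) := (stabilizer G x0).map G.subtype with hH
  have hHcard : Nat.card H = Nat.card (stabilizer G x0) :=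
    Subgroup.card_map_of_injective G.subtype_injective
  set h := Nat.card (stabilizer G x0) with hh
  have hab : x0 0 ≠ x0 1 := fun e => by
    have := x0.injective e
    exact absurd this (by decide)
  -- `h ∣ 120`
  have hdvd : Nat.card G ∣ 5040 := Cfsg.Agent.Helper4.PrimeDegree3.card_dvd_factorial hα G
  have hh120 : h ∣ 120 := by
    rw [← hmul2] at hdvd
    have : h * 42 ∣ 120 * 42 := by simpa using hdvd
    exact Nat.dvd_of_mul_dvd_mul_right (by norm_num) this
  -- `3 ∤ h`
  have hh3 : ¬ 3 ∣ h := by
    intro h3
    haveI : Fact (Nat.Prime 3) := ⟨Nat.prime_three⟩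
    rw [← hHcard] at h3
    obtain ⟨g, hg⟩ := exists_prime_orderOf_dvd_card' 3 h3
    have hgH := g.2
    rw [mem_map_stabilizer] at hgH
    have ho : orderOf (g : Perm α) = 3 := by rw [Subgroup.orderOf_coe]; exact hg
    exact no_order_three hα G h2 hA g hgH.1 ho _ _ hab hgH.2.1 hgH.2.2
  -- `8 ∤ h`
  have hh8 : ¬ 8 ∣ h := by
    intro h8
    haveI : Fact (Nat.Prime 2) := ⟨Nat.prime_two⟩
    rw [← hHcard] at h8
    obtain ⟨K, hK⟩ := Sylow.exists_subgroup_card_pow_prime 2 (n := 3) (by simpa using h8)
    set K' : Subgroup (Perm α) := K.map H.subtype with hK'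
    have hK'card : Nat.card K' = 8 := by
      rw [hK', Subgroup.card_map_of_injective H.subtype_injective, hK]
      norm_num
    have hK'H : K' ≤ H := by
      rw [hK']
      exact Subgroup.map_subtype_le K
    have hK'p : IsPGroup 2 K' := IsPGroup.of_card (n := 3) (by rw [hK'card]; norm_num)
    have hle := card_two_group_le hα G h2 hA K' (fun k hk => ((mem_map_stabilizer G x0 k).mp
      (hK'H hk)).1) hK'p _ _ hab
      (fun k hk => ((mem_map_stabilizer G x0 k).mp (hK'H hk)).2.1)
      (fun k hk => ((mem_map_stabilizer G x0 k).mp (hK'H hk)).2.2)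
    omega
  have hh0 : 0 < h := Nat.card_pos
  have hhle : h ≤ 120 := Nat.le_of_dvd (by norm_num) hh120
  have hhcases : h = 1 ∨ h = 2 ∨ h = 4 ∨ h = 5 ∨ h = 10 ∨ h = 20 := by
    clear_value h
    interval_cases h <;> omega
  -- the normalizer of a Sylow 7-subgroup has odd order
  have h3t : ∀ P : Sylow 7 G,
      ¬ Even (Nat.card (Subgroup.normalizer ((P : Subgroup G) : Set G))) := by
    intro P heven
    have h3 := Cfsg.Agent.S0676.result hα G hG P heven
    have hne3 : Nonempty (Fin 3 ↪ α) := by
      rw [Function.Embedding.nonempty_iff_card_le, Fintype.card_fin, hα]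
      norm_num
    have hidx3 : ∀ x3 : Fin 3 ↪ α, Nat.card (stabilizer G x3) * 210 = Nat.card G := by
      intro x3
      have hidx := @index_stabilizer_of_transitive G (Fin 3 ↪ α) _ _ x3 h3
      rw [Nat.card_eq_fintype_card (α := Fin 3 ↪ α), Fintype.card_embedding_eq,
        Fintype.card_fin, hα, show (7 : ℕ).descFactorial 3 = 210 from rfl] at hidx
      rw [← hidx]
      exact Subgroup.card_mul_index _
    have h5 : h = 5 := by
      obtain ⟨x3⟩ := hne3
      have hx3 := hidx3 x3
      -- the Sylow count
      obtain ⟨r, hr, hcard⟩ := Cfsg.Agent.Helper4.M11Simple.card_normalizer (K := G) (α := α)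
        (by norm_num : Nat.Prime 7) hα (P : Subgroup G)
        (Cfsg.Agent.Helper4.PrimeDegree3.sylow_card hα G P)
      have hmod := card_sylow_modEq_one 7 G
      rw [Sylow.card_eq_index_normalizer P, ← Sylow.coe_coe] at hmod
      have hmulN := Subgroup.card_mul_index (Subgroup.normalizer ((P : Subgroup G) : Set G))
      rw [hcard] at hmulN heven
      unfold Nat.ModEq at hmod
      set i := (Subgroup.normalizer ((P : Subgroup G) : Set G)).index with hi
      set m := Nat.card (stabilizer G x3) with hm
      have hr6 : r ≤ 6 := Nat.le_of_dvd (by norm_num) hr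
      have hr0 : r ≠ 0 := by
        rintro rfl
        simp at hr
      rw [Nat.even_mul] at heven
      have hreven : Even r := heven.resolve_left (by decide)
      obtain ⟨r', hr'⟩ := hreven
      clear_value h i m
      rcases hhcases with rfl | rfl | rfl | rfl | rfl | rfl <;>
        interval_cases r <;> omega
    have hsharp : ∀ x3 : Fin 3 ↪ α, stabilizer G x3 = ⊥ := by
      intro x3
      have h6 := hidx3 x3
      rw [← hmul2, h5] at h6
      have h7 : Nat.card (stabilizer G x3) = 1 := by omega
      exact Subgroup.card_eq_one.mp h7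
    exact not_sharp3_seven hα h3 hsharp
  -- the Sylow count
  have hfinal : ∀ P : Sylow 7 G,
      Nat.card (Subgroup.normalizer ((P : Subgroup G) : Set G)) = 21 ∧ h = 4 := by
    intro P
    obtain ⟨r, hr, hcard⟩ := Cfsg.Agent.Helper4.M11Simple.card_normalizer (K := G) (α := α)
      (by norm_num : Nat.Prime 7) hα (P : Subgroup G)
      (Cfsg.Agent.Helper4.PrimeDegree3.sylow_card hα G P)
    have hodd := h3t P
    have hne1 := normalizer_card_ne hα G hG P
    have hmod := card_sylow_modEq_one 7 G
    rw [Sylow.card_eq_index_normalizer P, ← Sylow.coe_coe] at hmod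
    have hmulN := Subgroup.card_mul_index (Subgroup.normalizer ((P : Subgroup G) : Set G))
    rw [hcard] at hmulN hodd hne1
    unfold Nat.ModEq at hmod
    set i := (Subgroup.normalizer ((P : Subgroup G) : Set G)).index with hi
    have hr6 : r ≤ 6 := Nat.le_of_dvd (by norm_num) hr
    have hr0 : r ≠ 0 := by
      rintro rfl
      simp at hr
    have hr3 : r = 3 := by
      have hr1 : 1 ≤ r := by omega
      interval_cases r
      · exact absurd (by norm_num) hne1
      · exact absurd (by decide) hodd
      · rfl
      · norm_num at hr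
      · norm_num at hr
      · exact absurd (by decide) hodd
    subst hr3
    refine ⟨hcard, ?_⟩
    clear_value h i
    rcases hhcases with rfl | rfl | rfl | rfl | rfl | rfl <;> omega
  obtain ⟨P0⟩ : Nonempty (Sylow 7 G) := inferInstance
  refine ⟨?_, fun P => (hfinal P).1⟩
  rw [← hmul2, (hfinal P0).2]

theorem factorization_168 : (168 : ℕ).factorization 7 = 1 := by
  have h : (168 : ℕ) = 7 * 24 := by norm_num
  rw [h, Nat.factorization_mul (by norm_num) (by norm_num)]
  simp only [Finsupp.coe_add, Pi.add_apply]
  rw [Nat.Prime.factorization_self (by norm_num),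
    Nat.factorization_eq_zero_of_not_dvd (by norm_num)]

/-- A nontrivial normal subgroup of a doubly transitive group of degree seven and order 168 whose
Sylow 7-normalizers have order 21 is the whole group. -/
theorem normal_eq_top (hα : Fintype.card α = 7) (G : Subgroup (Perm α))
    (h2 : IsMultiplyPretransitive G α 2) (hGns : ¬ Group.IsSolvable G)
    (hA : ¬ alternatingGroup α ≤ G) (hG : Nat.card G = 168)
    (hN21 : ∀ P : Sylow 7 G, Nat.card (Subgroup.normalizer ((P : Subgroup G) : Set G)) = 21)
    (N : Subgroup G) [hN : N.Normal] (hbot : N ≠ ⊥) : N = ⊤ := by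
  classical
  haveI : Fact (Nat.Prime 7) := ⟨by norm_num⟩
  by_contra htop
  have hcardα : Nat.card α = 7 := by rw [Nat.card_eq_fintype_card, hα]
  have h1 : IsMultiplyPretransitive G α 1 :=
    isMultiplyPretransitive_of_le (n := 2) (by norm_num) (by rw [hcardα]; norm_num)
  haveI hGt : IsPretransitive G α := is_one_pretransitive_iff.mp h1
  have hprim : IsPreprimitive G α := isPreprimitive_of_is_two_pretransitive h2
  have hNt : IsPretransitive N α :=
    Cfsg.Agent.Helper4.JordanNormal.normal_isPretransitive hprim N hbot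
  have hneα : Nonempty α := by
    rw [← Fintype.card_pos_iff, hα]
    norm_num
  obtain ⟨a⟩ := hneα
  have hN7 : Nat.card (stabilizer N a) * 7 = Nat.card N := by
    rw [← Subgroup.card_mul_index (stabilizer N a), index_stabilizer_of_transitive, hcardα]
  have hNdvd : Nat.card N ∣ 168 := by
    rw [← hG]
    exact Subgroup.card_subgroup_dvd_card N
  -- a Sylow 7-subgroup of N
  obtain ⟨Q⟩ : Nonempty (Sylow 7 N) := inferInstance
  have hQ : Nat.card Q = 7 := by
    obtain ⟨k, hk⟩ := (IsPGroup.iff_card (p := 7)).mp Q.isPGroup'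
    have h7 : 7 ∣ Nat.card Q := Q.dvd_card_of_dvd_card (Dvd.intro_left _ hN7)
    have hdvd : Nat.card Q ∣ 168 := (Subgroup.card_subgroup_dvd_card (Q : Subgroup N)).trans hNdvd
    rw [hk] at h7 hdvd ⊢
    have hk1 : k ≠ 0 := by
      rintro rfl
      norm_num at h7
    have hk2 : k < 2 := by
      by_contra hcon
      push Not at hcon
      have : 7 ^ 2 ∣ 168 := (pow_dvd_pow 7 hcon).trans hdvd
      norm_num at this
    have : k = 1 := by omega
    rw [this, pow_one]
  set Q' : Subgroup G := (Q : Subgroup N).map N.subtype with hQ'def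
  have hQ' : Nat.card Q' = 7 := by
    rw [hQ'def, Subgroup.card_map_of_injective N.subtype_injective]
    exact hQ
  have hpow : Nat.card Q' = 7 ^ (Nat.card G).factorization 7 := by
    rw [hG, factorization_168, pow_one, hQ']
  have hnorm := hN21 (Sylow.ofCard Q' hpow)
  rw [Sylow.coe_ofCard Q' hpow] at hnorm
  have hfrat := Sylow.normalizer_sup_eq_top Q
  have hidx : N.index ∣ 21 := by
    rw [← Subgroup.relIndex_top_right, ← hfrat, Subgroup.relIndex_sup_right, ← hnorm]
    exact Subgroup.relIndex_dvd_card _ _
  have hmul := Subgroup.card_mul_index N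
  rw [hG] at hmul
  have hidx_cases : N.index = 1 ∨ N.index = 3 := by
    have hle : N.index ≤ 21 := Nat.le_of_dvd (by norm_num) hidx
    have h0 : N.index ≠ 0 := by
      intro h
      rw [h, mul_zero] at hmul
      norm_num at hmul
    set i := N.index with hi
    set c := Nat.card (stabilizer N a) with hc
    rw [← hN7] at hmul
    interval_cases i <;> omega
  rcases hidx_cases with h | h
  · exact htop (Subgroup.index_eq_one.mp h)
  · rw [h] at hmul
    have hNcard : Nat.card N = 56 := by omega
    have hstab : Nat.card (stabilizer N a) = 8 := by omega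
    -- the image of N in the symmetric group
    set N' : Subgroup (Perm α) := N.map G.subtype with hN'
    have hN'card : Nat.card N' = 56 := by
      rw [hN', Subgroup.card_map_of_injective G.subtype_injective, hNcard]
    haveI hN't : IsPretransitive N' α := by
      refine ⟨fun x y => ?_⟩
      obtain ⟨n, hn⟩ := exists_smul_eq N x y
      exact ⟨⟨((n : G) : Perm α), Subgroup.mem_map_of_mem _ n.2⟩, hn⟩
    have hN'A : ¬ alternatingGroup α ≤ N' := fun hle =>
      hA (hle.trans (by rw [hN']; exact Subgroup.map_subtype_le N))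
    have hN'solv : Group.IsSolvable N' := by
      by_contra hns
      have := (card_eq hα N' hns hN'A).2.1
      omega
    have hNsolv : Group.IsSolvable N :=
      Group.isSolvable_of_isSolvable_injective
        (f := (N.equivMapOfInjective G.subtype G.subtype_injective).toMonoidHom)
        (MulEquiv.injective _)
    have hq : Nat.card (G ⧸ N) = 3 := by
      rw [← Subgroup.index_eq_card]
      exact h
    haveI : Fact (Nat.card (G ⧸ N)).Prime := ⟨by rw [hq]; norm_num⟩
    have hcycQ : IsCyclic (G ⧸ N) := isCyclic_of_prime_card hq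
    have hQsolv : Group.IsSolvable (G ⧸ N) :=
      Group.isSolvable_of_comm (fun a b => hcycQ.commGroup.mul_comm a b)
    exact hGns ((Group.isSolvable_iff_subgroup_quotient N).mpr ⟨hNsolv, hQsolv⟩)

end Main

end Cfsg.Agent.Helper4.DegreeSeven
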