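import Mathlib
import Cfsg.Prelude.Def_GeometricClasses
import Cfsg.Agent.Helper29.S5655.Defs

/-!
S5655 (half k ≥ 2), piece GEO2 (helper4): connectivity of non-orthogonality on the isotropic vectors of a
nondegenerate subspace.
-/

set_option autoImplicit false

namespace Cfsg.Agent.S5655P

open Matrix Module
open Cfsg.Agent.S2644 Cfsg.Agent.Helper2.SUGen Cfsg.Agent.Helper28.SimMax Cfsg.Agent.S5658P

variable {K : Type*} [Field K] {q n t k : ℕ}

local notation "h" => Cfsg.hermForm n K q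
local notation "T" => Cfsg.unitaryTransvection n q

/-- piece GEO2 (M): connectivity of non-orthogonality on the isotropic vectors of `Y`.  If `h x y = 0`:
partner `x'` of `x`; if `h x' y ≠ 0` take `z = x'`; otherwise `y ∈ ⟨x, x'⟩^⊥ ∩ Y` (nondegenerate), partner
`y'` of `y` there, `z = x' + y'`. -/
theorem GEO2.iso_conn [Fintype K] (D : Frob K q) (hK : Fintype.card K = q ^ 2)
    {Y : Submodule K (Fin n → K)} (hY : NonDeg q Y) (hd : 2 ≤ finrank K Y) {x y : Fin n → K}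
    (hx : x ∈ Y) (hy : y ∈ Y) (hxx : h x x = 0) (hyy : h y y = 0) (hx0 : x ≠ 0) (hy0 : y ≠ 0) :
    h x y ≠ 0 ∨ ∃ z ∈ Y, h z z = 0 ∧ h x z ≠ 0 ∧ h z y ≠ 0 := by
  by_cases hxy : h x y = 0
  swap
  · exact Or.inl hxy
  right
  obtain ⟨x', hx', hx'x', hxx', hx'x⟩ := exists_partner D hY hx hx0 hxx
  by_cases hx'y : h x' y = 0
  swap
  · exact ⟨x', hx', hx'x', by rw [hxx']; exact one_ne_zero, hx'y⟩
  have hyx : h y x = 0 := h_symm_zero D hxy
  have hyx' : h y x' = 0 := h_symm_zero D hx'y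
  -- a vector of `Y` not orthogonal to `y`
  obtain ⟨w, hw, hyw⟩ : ∃ w ∈ Y, h y w ≠ 0 := by
    by_contra hcon
    push Not at hcon
    exact hy0 (hY y hy hcon)
  -- project to `⟨x, x'⟩^⊥`
  obtain ⟨w₁, hw₁⟩ : ∃ w₁ : Fin n → K, w₁ = w - (h w x') • x - (h w x) • x' := ⟨_, rfl⟩
  have hw₁Y : w₁ ∈ Y := by
    rw [hw₁]; exact Y.sub_mem (Y.sub_mem hw (Y.smul_mem _ hx)) (Y.smul_mem _ hx')
  have hw₁x : h w₁ x = 0 := by
    rw [hw₁, h_sub_left, h_sub_left, h_smul_left, h_smul_left, hxx, hx'x]; ring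
  have hw₁x' : h w₁ x' = 0 := by
    rw [hw₁, h_sub_left, h_sub_left, h_smul_left, h_smul_left, hxx', hx'x']; ring
  have hyw₁ : h y w₁ = h y w := by
    rw [hw₁, h_sub_right D, h_sub_right D, h_smul_right D, h_smul_right D, hyx, hyx']; ring
  have hβ : h y w₁ ≠ 0 := by rw [hyw₁]; exact hyw
  have hw₁y : h w₁ y ≠ 0 := h_symm_ne D hβ
  -- make it isotropic
  obtain ⟨t₀, ht₀⟩ := exists_trace D (-(h w₁ w₁)) (by rw [map_neg, h_self_fix D])
  obtain ⟨α, hα⟩ : ∃ α : K, α = t₀ / h y w₁ := ⟨_, rfl⟩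
  obtain ⟨y', hy'⟩ : ∃ y' : Fin n → K, y' = w₁ + α • y := ⟨_, rfl⟩
  have hy'Y : y' ∈ Y := by
    rw [hy']; exact Y.add_mem hw₁Y (Y.smul_mem _ hy)
  have hy'y' : h y' y' = 0 := by
    have e1 : h y' y' = h w₁ w₁ + (α * h y w₁ + D.σ (α * h y w₁)) := by
      rw [hy', h_add_left, h_add_right D, h_add_right D, h_smul_left, h_smul_left, h_smul_right D,
        h_smul_right D, hyy, map_mul, h_conj D w₁ y]
      ring
    have e2 : α * h y w₁ = t₀ := by rw [hα, div_mul_cancel₀ _ hβ]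
    rw [e1, e2, ht₀]; ring
  have hy'x : h y' x = 0 := by
    rw [hy', h_add_left, h_smul_left, hw₁x, hyx]; ring
  have hy'x' : h y' x' = 0 := by
    rw [hy', h_add_left, h_smul_left, hw₁x', hyx']; ring
  have hy'y : h y' y ≠ 0 := by
    rw [hy', h_add_left, h_smul_left, hyy, mul_zero, add_zero]; exact hw₁y
  refine ⟨x' + y', Y.add_mem hx' hy'Y, ?_, ?_, ?_⟩
  · rw [h_add_left, h_add_right D, h_add_right D, hx'x', hy'y', hy'x', h_symm_zero D hy'x']; ring
  · rw [h_add_right D, hxx', h_symm_zero D hy'x, add_zero]; exact one_ne_zero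
  · rw [h_add_left, hx'y, zero_add]; exact hy'y

end Cfsg.Agent.S5655P
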