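import Mathlib
import Cfsg.Agent.Helper8.MatBNDefs
import Cfsg.Agent.Helper23.S2546BNAXA
import Cfsg.Agent.Helper23.S2546SPLIT

set_option autoImplicit false
open scoped Matrix commutatorElement

/-! S2547 piece SUBGEN (driver helper17; helper4): a normal subgroup `N ⊇ [G,G] ∪ U` is generated
by `B ∩ N` and the corrected lifts `h j * s j`. -/

namespace Cfsg.Agent.MatBN

variable {K : Type*} [Field K] {n m : ℕ} {G : Type*} [Group G] (D : Data G K n m)

namespace SUBGEN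

theorem s_mem_Nsub' (j : Fin m) : D.s j ∈ D.Nsub := by
  unfold Data.Nsub
  exact (le_sup_left : Subgroup.closure D.Sset ≤ _) (Subgroup.subset_closure ⟨j, rfl⟩)

theorem torus_le_Nsub' : D.torus ≤ D.Nsub := by
  unfold Data.Nsub
  exact le_sup_right

/-- the subgroup generated by `B ∩ N` and the corrected lifts -/
def Hs (N : Subgroup G) (h : Fin m → G) : Subgroup G :=
  Subgroup.closure ({b : G | b ∈ N ∧ IsTri (D.ρ b)} ∪ Set.range (fun j => h j * D.s j))

theorem Hs_le (N : Subgroup G) (h : Fin m → G) (hs : ∀ j, h j * D.s j ∈ N) : Hs D N h ≤ N := by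
  unfold Hs
  rw [Subgroup.closure_le]
  rintro g (⟨hg, -⟩ | ⟨j, rfl⟩)
  · exact hg
  · exact hs j

theorem borel_mem_Hs (N : Subgroup G) (h : Fin m → G) {b : G} (hb : b ∈ N) (hb' : b ∈ D.borel) :
    b ∈ Hs D N h :=
  Subgroup.subset_closure (Or.inl ⟨hb, hb'⟩)

theorem s_mem_Hs (N : Subgroup G) (h : Fin m → G) (j : Fin m) : h j * D.s j ∈ Hs D N h :=
  Subgroup.subset_closure (Or.inr ⟨j, rfl⟩)

/-- the torus normalizes `Hs` -/
theorem conj_mem_Hs (N : Subgroup G) [N.Normal] (hc : commutator G ≤ N)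
    (h : Fin m → G) (hh : ∀ j, h j ∈ D.torus) {t : G} (ht : t ∈ D.torus) {y : G}
    (hy : y ∈ Hs D N h) : t * y * t⁻¹ ∈ Hs D N h := by
  unfold Hs at hy
  induction hy using Subgroup.closure_induction with
  | mem y hy =>
    rcases hy with ⟨hyN, hyB⟩ | ⟨j, rfl⟩
    · apply borel_mem_Hs D N h (Subgroup.Normal.conj_mem inferInstance y hyN t)
      exact D.borel.mul_mem (D.borel.mul_mem (D.torus_le_borel ht) hyB)
        (D.borel.inv_mem (D.torus_le_borel ht))
    · -- `t s' t⁻¹ = (t s' t⁻¹ s'⁻¹) s'`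
      have hs'N : h j * D.s j ∈ D.Nsub :=
        D.Nsub.mul_mem (torus_le_Nsub' D (hh j)) (s_mem_Nsub' D j)
      have h1 : (h j * D.s j) * t⁻¹ * (h j * D.s j)⁻¹ ∈ D.torus :=
        D.conj_torus_mem hs'N (D.torus.inv_mem ht)
      have h2 : t * ((h j * D.s j) * t⁻¹ * (h j * D.s j)⁻¹) ∈ D.torus := D.torus.mul_mem ht h1
      have h3 : t * ((h j * D.s j) * t⁻¹ * (h j * D.s j)⁻¹) ∈ N := by
        apply hc
        have : t * ((h j * D.s j) * t⁻¹ * (h j * D.s j)⁻¹) = ⁅t, h j * D.s j⁆ := by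
          rw [commutatorElement_def]
          group
        rw [this, commutator_def]
        exact Subgroup.commutator_mem_commutator (Subgroup.mem_top _) (Subgroup.mem_top _)
      have h4 : t * (h j * D.s j) * t⁻¹ =
          t * ((h j * D.s j) * t⁻¹ * (h j * D.s j)⁻¹) * (h j * D.s j) := by group
      rw [h4]
      exact (Hs D N h).mul_mem (borel_mem_Hs D N h h3 (D.torus_le_borel h2)) (s_mem_Hs D N h j)
  | one =>
    rw [mul_one, mul_inv_cancel]
    exact (Hs D N h).one_mem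
  | mul a b _ _ iha ihb =>
    have : t * (a * b) * t⁻¹ = (t * a * t⁻¹) * (t * b * t⁻¹) := by group
    rw [this]
    exact (Hs D N h).mul_mem iha ihb
  | inv a _ iha =>
    have : t * a⁻¹ * t⁻¹ = (t * a * t⁻¹)⁻¹ := by group
    rw [this]
    exact (Hs D N h).inv_mem iha

/-- `G = Hs * T` -/
theorem exists_mul (N : Subgroup G) [N.Normal] (hc : commutator G ≤ N) (hU : D.uni ≤ N)
    (h : Fin m → G) (hh : ∀ j, h j ∈ D.torus) (g : G) :
    ∃ y ∈ Hs D N h, ∃ t ∈ D.torus, g = y * t := by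
  have hg := D.gen g
  induction hg using Subgroup.closure_induction with
  | mem g hg =>
    rcases hg with hb | ⟨j, rfl⟩
    · obtain ⟨u, hu, t, ht, rfl⟩ := D.borel_eq_mul (b := g) hb
      exact ⟨u, borel_mem_Hs D N h (hU hu) (D.uni_le_borel hu), t, ht, rfl⟩
    · refine ⟨(h j)⁻¹ * (h j * D.s j) * (h j)⁻¹⁻¹, ?_, (h j)⁻¹, D.torus.inv_mem (hh j), ?_⟩
      · exact conj_mem_Hs D N hc h hh (D.torus.inv_mem (hh j)) (s_mem_Hs D N h j)
      · group
  | one => exact ⟨1, (Hs D N h).one_mem, 1, D.torus.one_mem, by rw [mul_one]⟩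
  | mul a b _ _ iha ihb =>
    obtain ⟨y, hy, t, ht, rfl⟩ := iha
    obtain ⟨y', hy', t', ht', rfl⟩ := ihb
    refine ⟨y * (t * y' * t⁻¹), (Hs D N h).mul_mem hy (conj_mem_Hs D N hc h hh ht hy'),
      t * t', D.torus.mul_mem ht ht', ?_⟩
    group
  | inv a _ iha =>
    obtain ⟨y, hy, t, ht, rfl⟩ := iha
    refine ⟨t⁻¹ * y⁻¹ * t⁻¹⁻¹, conj_mem_Hs D N hc h hh (D.torus.inv_mem ht)
      ((Hs D N h).inv_mem hy), t⁻¹, D.torus.inv_mem ht, ?_⟩
    group

end SUBGEN

open SUBGEN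

theorem Data.restrict_gen (N : Subgroup G) [N.Normal] (hc : commutator G ≤ N) (hU : D.uni ≤ N)
    (h : Fin m → G) (hh : ∀ j, h j ∈ D.torus) (hs : ∀ j, h j * D.s j ∈ N) (g : G) (hg : g ∈ N) :
    g ∈ Subgroup.closure ({b : G | b ∈ N ∧ IsTri (D.ρ b)} ∪ Set.range (fun j => h j * D.s j)) := by
  obtain ⟨y, hy, t, ht, rfl⟩ := exists_mul D N hc hU h hh g
  have hyN : y ∈ N := Hs_le D N h hs hy
  have htN : t ∈ N := by
    have : t = y⁻¹ * (y * t) := by group
    rw [this]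
    exact N.mul_mem (N.inv_mem hyN) hg
  exact (Hs D N h).mul_mem hy (borel_mem_Hs D N h htN (D.torus_le_borel ht))

end Cfsg.Agent.MatBN
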