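import Mathlib
import Cfsg.Agent.Helper8.MatBNDefs
import Cfsg.Agent.Helper23.S2546BNAXA
import Cfsg.Agent.Helper23.S2546SPLIT

set_option autoImplicit false
open scoped Matrix

/-! S2547 piece SUBHD (driver helper17; helper4): the rank one identity for the corrected lift
`h * s j`. -/

namespace Cfsg.Agent.MatBN

variable {K : Type*} [Field K] {n m : ℕ} {G : Type*} [Group G] (D : Data G K n m)

namespace SUBHD

theorem s_mem_Nsub (j : Fin m) : D.s j ∈ D.Nsub := by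
  unfold Data.Nsub
  exact (le_sup_left : Subgroup.closure D.Sset ≤ _) (Subgroup.subset_closure ⟨j, rfl⟩)

theorem torus_le_Nsub : D.torus ≤ D.Nsub := by
  unfold Data.Nsub
  exact le_sup_right

end SUBHD

open SUBHD

theorem Data.restrict_hd (N : Subgroup G) [N.Normal] (hU : D.uni ≤ N)
    (hTX : ∀ j, ∀ t ∈ D.torus, ∀ x ∈ D.X j, t * x * t⁻¹ ∈ D.X j)
    (j : Fin m) (h : G) (hh : h ∈ D.torus) (hs : h * D.s j ∈ N) (x : G) (hx : x ∈ D.X j)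
    (hx1 : x ≠ 1) :
    ∃ b₁ : G, b₁ ∈ N ∧ IsTri (D.ρ b₁) ∧
      ∃ x' ∈ D.X j, (h * D.s j) * x = b₁ * ((h * D.s j) * x' * (h * D.s j)⁻¹) := by
  obtain ⟨b₀, hb₀, x₀, hx₀, heq⟩ := D.hd j x hx hx1
  have hs'N : h * D.s j ∈ D.Nsub := D.Nsub.mul_mem (torus_le_Nsub D hh) (s_mem_Nsub D j)
  -- `t = s'⁻¹ h⁻¹ s'`
  have ht : (h * D.s j)⁻¹ * h⁻¹ * (h * D.s j)⁻¹⁻¹ ∈ D.torus :=
    D.conj_torus_mem (D.Nsub.inv_mem hs'N) (D.torus.inv_mem hh)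
  set t := (h * D.s j)⁻¹ * h⁻¹ * (h * D.s j)⁻¹⁻¹ with htdef
  have hx'' : t * x₀ * t⁻¹ ∈ D.X j := hTX j t ht x₀ hx₀
  have hconj : (h * D.s j) * (t * x₀ * t⁻¹) * (h * D.s j)⁻¹ = D.s j * x₀ * (D.s j)⁻¹ := by
    rw [htdef]
    group
  have hmain : (h * D.s j) * x = (h * b₀) * ((h * D.s j) * (t * x₀ * t⁻¹) * (h * D.s j)⁻¹) := by
    rw [hconj, mul_assoc h, heq, mul_assoc h]
  have hxN : x ∈ N := hU (D.X_uni j x hx)
  have hx''N : t * x₀ * t⁻¹ ∈ N := hU (D.X_uni j _ hx'')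
  have hcN : (h * D.s j) * (t * x₀ * t⁻¹) * (h * D.s j)⁻¹ ∈ N :=
    Subgroup.Normal.conj_mem inferInstance _ hx''N _
  refine ⟨h * b₀, ?_, ?_, t * x₀ * t⁻¹, hx'', hmain⟩
  · have : h * b₀ = (h * D.s j) * x * ((h * D.s j) * (t * x₀ * t⁻¹) * (h * D.s j)⁻¹)⁻¹ := by
      rw [hmain, mul_inv_cancel_right]
    rw [this]
    exact N.mul_mem (N.mul_mem hs hxN) (N.inv_mem hcN)
  · exact D.borel.mul_mem (D.torus_le_borel hh) hb₀

end Cfsg.Agent.MatBN
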