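import Mathlib
import Cfsg.Agent.Helper8.MatBNDefs
import Cfsg.Agent.Helper23.S2546BNAXA
import Cfsg.Agent.Helper23.S2546SPLIT

set_option autoImplicit false
open scoped Matrix

/-! S2547 piece SUBS (driver helper17; helper4): a torus multiple of each `s j` lies in a normal
subgroup `N ⊇ U`. -/

namespace Cfsg.Agent.MatBN

variable {K : Type*} [Field K] {n m : ℕ} {G : Type*} [Group G] (D : Data G K n m)

theorem Data.exists_torus_mul_s_mem (N : Subgroup G) [N.Normal] (hU : D.uni ≤ N) (j : Fin m) :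
    ∃ h ∈ D.torus, h * D.s j ∈ N := by
  obtain ⟨x, hx, hx1⟩ := D.X_ne j
  obtain ⟨b₁, hb₁, x', hx', heq⟩ := D.hd j x hx hx1
  obtain ⟨u, hu, h', hh', hb⟩ := D.borel_eq_mul (b := b₁) hb₁
  have hxN : x ∈ N := hU (D.X_uni j x hx)
  have hx'N : x' ∈ N := hU (D.X_uni j x' hx')
  have hyN : D.s j * x' * (D.s j)⁻¹ ∈ N := Subgroup.Normal.conj_mem inferInstance x' hx'N (D.s j)
  have hh'i : h'⁻¹ ∈ D.torus := D.torus.inv_mem hh'
  have hcu : h'⁻¹ * u⁻¹ * h'⁻¹⁻¹ ∈ D.uni :=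
    D.conj_uni_mem (D.torus_le_borel hh'i) (D.uni.inv_mem hu)
  refine ⟨h'⁻¹, hh'i, ?_⟩
  -- `h'⁻¹ u⁻¹ s = y x⁻¹`
  have h1 : h'⁻¹ * u⁻¹ * D.s j = D.s j * x' * (D.s j)⁻¹ * x⁻¹ := by
    have : D.s j = u * h' * (D.s j * x' * (D.s j)⁻¹) * x⁻¹ := by
      rw [← hb, ← heq, mul_inv_cancel_right]
    conv_lhs => rw [this]
    group
  have h2 : h'⁻¹ * u⁻¹ * D.s j ∈ N := by
    rw [h1]
    exact N.mul_mem hyN (N.inv_mem hxN)
  have h3 : h'⁻¹ * D.s j = (h'⁻¹ * u⁻¹ * h'⁻¹⁻¹)⁻¹ * (h'⁻¹ * u⁻¹ * D.s j) := by group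
  rw [h3]
  exact N.mul_mem (N.inv_mem (hU hcu)) h2

end Cfsg.Agent.MatBN
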