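import Mathlib
import Cfsg.Agent.Helper17.S2560SDefs

/-! S2560 chapter (S), piece REASSOC (helper4; driver helper17): `S = S₁ ⊥ (S₂ ⊥ S₃)` ⇒ `S = (S₁ ⊥ S₂) ⊥ S₃`. -/

set_option autoImplicit false

namespace Cfsg.Agent.S2560P

open Polynomial Cfsg.Agent.Helper2.SympInvol Cfsg.Agent.S2676P Cfsg.Agent.S2478P Cfsg.Agent.S2481P
  Cfsg.Agent.S2482P Cfsg.Agent.S2558P

universe u

variable {F : Type u} [Field F]

namespace REASSOC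

/-- the orthogonal sum of two spaces -/
noncomputable abbrev sumSp (S₁ S₂ : SpSpace F) : SpSpace F :=
  { V := S₁.V × S₂.V
    B := S₁.B.compl₁₂ (LinearMap.fst F S₁.V S₂.V) (LinearMap.fst F S₁.V S₂.V) +
      S₂.B.compl₁₂ (LinearMap.snd F S₁.V S₂.V) (LinearMap.snd F S₁.V S₂.V)
    g := S₁.g.prodMap S₂.g }

theorem sumSp_B (S₁ S₂ : SpSpace F) (u v : S₁.V × S₂.V) :
    (sumSp S₁ S₂).B u v = S₁.B u.1 v.1 + S₂.B u.2 v.2 := rfl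

theorem sumSp_g (S₁ S₂ : SpSpace F) (v : S₁.V × S₂.V) :
    (sumSp S₁ S₂).g v = (S₁.g v.1, S₂.g v.2) := rfl

theorem sumSp_isSum (S₁ S₂ : SpSpace F) : (sumSp S₁ S₂).IsSum S₁ S₂ :=
  ⟨LinearEquiv.refl F (S₁.V × S₂.V), fun u v => sumSp_B S₁ S₂ u v, fun v => sumSp_g S₁ S₂ v⟩

theorem sumSp_isOrth (S₁ S₂ : SpSpace F) (h₁ : S₁.IsOrth) (h₂ : S₂.IsOrth) :
    (sumSp S₁ S₂).IsOrth where
  symm u v := by
    rw [sumSp_B, sumSp_B, h₁.symm, h₂.symm]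
  nondeg := by
    intro m _ hm
    obtain ⟨a, b⟩ := m
    by_cases ha : a = 0
    · have hb : b ≠ 0 := by
        intro hb
        apply hm
        rw [ha, hb]
        rfl
      obtain ⟨w, _, hw⟩ := h₂.nondeg b Submodule.mem_top hb
      refine ⟨((0 : S₁.V), w), Submodule.mem_top, ?_⟩
      rw [sumSp_B]
      simpa using hw
    · obtain ⟨w, _, hw⟩ := h₁.nondeg a Submodule.mem_top ha
      refine ⟨(w, (0 : S₂.V)), Submodule.mem_top, ?_⟩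
      rw [sumSp_B]
      simpa using hw
  isom u v := by
    rw [sumSp_g, sumSp_g, sumSp_B, sumSp_B, h₁.isom, h₂.isom]

end REASSOC

open REASSOC in
theorem REASSOC.exists_assoc (S S₁ S₂ S₃ S₂₃ : SpSpace F) (h : S.IsSum S₁ S₂₃)
    (h' : S₂₃.IsSum S₂ S₃) :
    ∃ C : SpSpace F, C.IsSum S₁ S₂ ∧ S.IsSum C S₃ ∧ (S₁.IsOrth → S₂.IsOrth → C.IsOrth) := by
  obtain ⟨e₁, hB₁, hg₁⟩ := h
  obtain ⟨e₂, hB₂, hg₂⟩ := h'
  refine ⟨sumSp S₁ S₂, sumSp_isSum S₁ S₂, ?_, sumSp_isOrth S₁ S₂⟩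
  let e : S.V ≃ₗ[F] (S₁.V × S₂.V) × S₃.V :=
    (e₁.trans ((LinearEquiv.refl F S₁.V).prodCongr e₂)).trans
      (LinearEquiv.prodAssoc F S₁.V S₂.V S₃.V).symm
  have he : ∀ v, e v = (((e₁ v).1, (e₂ (e₁ v).2).1), (e₂ (e₁ v).2).2) := fun v => rfl
  refine ⟨e, ?_, ?_⟩
  · intro u v
    rw [he, he, sumSp_B, hB₁, hB₂, add_assoc]
  · intro v
    rw [he, he, hg₁, hg₂, sumSp_g]

end Cfsg.Agent.S2560P
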