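import Mathlib
import Cfsg.Agent.Helper17.S2560SDefs

/-! S2560 chapter (S), piece CONJREST (helper4; driver helper17): the explicit conjugating isometry
`φ = e'⁻¹ ∘ (φC × ψ) ∘ e`. -/

set_option autoImplicit false

namespace Cfsg.Agent.S2560P

open Polynomial Cfsg.Agent.Helper2.SympInvol Cfsg.Agent.S2676P Cfsg.Agent.S2478P Cfsg.Agent.S2481P
  Cfsg.Agent.S2482P Cfsg.Agent.S2558P

universe u

variable {F : Type u} [Field F]

theorem CONJREST.exists_conj (S S' C C' S₃ T₃ : SpSpace F) (e : S.V ≃ₗ[F] C.V × S₃.V)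
    (hB : ∀ u v, S.B u v = C.B (e u).1 (e v).1 + S₃.B (e u).2 (e v).2)
    (e' : S'.V ≃ₗ[F] C'.V × T₃.V)
    (hB' : ∀ u v, S'.B u v = C'.B (e' u).1 (e' v).1 + T₃.B (e' u).2 (e' v).2)
    (φC : C.V ≃ₗ[F] C'.V) (hφC : ∀ u v, C'.B (φC u) (φC v) = C.B u v) (ψ : S₃.V ≃ₗ[F] T₃.V)
    (hψB : ∀ u v, T₃.B (ψ u) (ψ v) = S₃.B u v) (hψg : ∀ v, ψ (S₃.g v) = T₃.g (ψ v)) :
    ∃ φ : S.V ≃ₗ[F] S'.V, (∀ u v, S'.B (φ u) (φ v) = S.B u v) ∧
      ∀ v, φ ((Emb.ofSumRight e hB).part S₃.g v) = (Emb.ofSumRight e' hB').part T₃.g (φ v) := by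
  let φ : S.V ≃ₗ[F] S'.V := (e.trans (φC.prodCongr ψ)).trans e'.symm
  have hφ : ∀ v, e' (φ v) = (φC (e v).1, ψ (e v).2) := by
    intro v
    show e' (e'.symm (φC (e v).1, ψ (e v).2)) = _
    rw [LinearEquiv.apply_symm_apply]
  have hφs : ∀ w : S₃.V, φ (e.symm (0, w)) = e'.symm (0, ψ w) := by
    intro w
    show e'.symm (φC (e (e.symm (0, w))).1, ψ (e (e.symm (0, w))).2) = _
    rw [LinearEquiv.apply_symm_apply]
    simp
  refine ⟨φ, ?_, ?_⟩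
  · intro u v
    rw [hB', hφ, hφ, hφC, hψB, hB]
  · intro v
    rw [Emb.part_apply, Emb.part_apply, map_add]
    congr 1
    show φ (e.symm (0, S₃.g (e v).2 - (e v).2)) = e'.symm (0, T₃.g (e' (φ v)).2 - (e' (φ v)).2)
    rw [hφs, hφ, map_sub, hψg]

end Cfsg.Agent.S2560P
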