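import Mathlib

/-! S2560 piece FIBRE (driver helper29): `H ⊴ G`, `K` of index `≤ 2` inside `H ∪ z⁻¹H`, `z` central:
`k(H) ≤ #{G-classes in H} + #{G-classes in H with centralizer ≤ K}`. Mathlib only. -/

set_option autoImplicit false

namespace Cfsg.Agent.S2560P

namespace FIBRE

/-- Counting: fibres of size `≤ 2`, and of size `≤ 1` off `B`. -/
theorem card_le_of_fibres {X Y : Type*} [Fintype X] [Fintype Y] [DecidableEq Y] (f : X → Y)
    (B : Y → Prop) [DecidablePred B]
    (h2 : ∀ a b c : X, f a = f b → f a = f c → a = b ∨ a = c ∨ b = c)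
    (h1 : ∀ a b : X, ¬ B (f a) → f a = f b → a = b) :
    Fintype.card X ≤ Fintype.card Y + Fintype.card {y // B y} := by
  classical
  have hsum : Fintype.card X =
      ∑ y : Y, (Finset.univ.filter (fun x : X => f x = y)).card := by
    rw [← Finset.card_univ]
    exact Finset.card_eq_sum_card_fiberwise (fun x _ => Finset.mem_univ (f x))
  have hterm : ∀ y : Y, (Finset.univ.filter (fun x : X => f x = y)).card ≤
      1 + (if B y then 1 else 0) := by
    intro y
    by_cases hy : B y
    · simp only [hy, if_true]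
      by_contra hlt
      push_neg at hlt
      have h3 : 2 < (Finset.univ.filter (fun x : X => f x = y)).card := by omega
      rw [Finset.two_lt_card] at h3
      obtain ⟨a, ha, b, hb, c, hc, hab, hac, hbc⟩ := h3
      simp only [Finset.mem_filter, Finset.mem_univ, true_and] at ha hb hc
      rcases h2 a b c (ha.trans hb.symm) (ha.trans hc.symm) with h | h | h
      · exact hab h
      · exact hac h
      · exact hbc h
    · simp only [hy, if_false, add_zero]
      rw [Finset.card_le_one]
      intro a ha b hb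
      simp only [Finset.mem_filter, Finset.mem_univ, true_and] at ha hb
      exact h1 a b (by rw [ha]; exact hy) (ha.trans hb.symm)
  rw [hsum]
  calc ∑ y : Y, (Finset.univ.filter (fun x : X => f x = y)).card
      ≤ ∑ y : Y, (1 + (if B y then 1 else 0)) := Finset.sum_le_sum (fun y _ => hterm y)
    _ = Fintype.card Y + Fintype.card {y // B y} := by
        rw [Finset.sum_add_distrib, Finset.sum_const, Finset.card_univ, smul_eq_mul, mul_one,
          Finset.sum_boole, Fintype.card_subtype]
        simp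

variable {G : Type*} [Group G]

/-- Conjugation by an element of `K` is conjugation inside `H`. -/
theorem isConj_of_mem_K (H K : Subgroup G) (z : G) (hz : z ∈ Subgroup.center G)
    (hK : ∀ g ∈ K, g ∈ H ∨ z * g ∈ H) (x y : H) (g : G) (hg : g ∈ K)
    (hxy : (y : G) = g * x * g⁻¹) : IsConj x y := by
  rw [Subgroup.mem_center_iff] at hz
  rcases hK g hg with h | h
  · rw [isConj_iff]
    refine ⟨⟨g, h⟩, ?_⟩
    apply Subtype.ext
    simp [hxy]
  · rw [isConj_iff]
    refine ⟨⟨z * g, h⟩, ?_⟩
    apply Subtype.ext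
    simp only [Subgroup.coe_mul, Subgroup.coe_inv, hxy, mul_inv_rev]
    have h1 : z * g * ↑x * (g⁻¹ * z⁻¹) = z * (g * ↑x * g⁻¹) * z⁻¹ := by group
    rw [h1, ← hz (g * ↑x * g⁻¹)]
    group

end FIBRE

open FIBRE in
theorem FIBRE.card_conjClasses_le {G : Type*} [Group G] [Finite G] (H K : Subgroup G) [H.Normal]
    (z : G) (hz : z ∈ Subgroup.center G) (hK : ∀ g ∈ K, g ∈ H ∨ z * g ∈ H)
    (hidx : ∀ g₁ g₂ : G, g₁ ∉ K → g₂ ∉ K → g₁ * g₂ ∈ K) :
    Nat.card (ConjClasses H) ≤
      Nat.card {c : ConjClasses G // ∀ x : G, ConjClasses.mk x = c → x ∈ H} +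
      Nat.card {c : ConjClasses G // (∀ x : G, ConjClasses.mk x = c → x ∈ H) ∧
        ∀ x : G, ConjClasses.mk x = c → Subgroup.centralizer {x} ≤ K} := by
  classical
  have : Fintype G := Fintype.ofFinite G
  -- the map to the `G`-classes inside `H`
  have hmem : ∀ (h : H) (x : G), ConjClasses.mk x = ConjClasses.mk (h : G) → x ∈ H := by
    intro h x hx
    rw [ConjClasses.mk_eq_mk_iff_isConj, isConj_iff] at hx
    obtain ⟨g, hg⟩ := hx
    have : x = g⁻¹ * h * g⁻¹⁻¹ := by rw [← hg]; group
    rw [this]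
    exact Subgroup.Normal.conj_mem inferInstance _ h.2 _
  let A := {c : ConjClasses G // ∀ x : G, ConjClasses.mk x = c → x ∈ H}
  let φ : ConjClasses H → A := fun c =>
    ⟨ConjClasses.map H.subtype c,
      (ConjClasses.forall_isConj (p := fun c => ∀ x : G, ConjClasses.mk x =
        ConjClasses.map H.subtype c → x ∈ H)).mpr (fun h x hx => hmem h x hx) c⟩
  let B : A → Prop := fun c => ∀ x : G, ConjClasses.mk x = c.1 → Subgroup.centralizer {x} ≤ K
  have hφ : ∀ (a b : H), φ (ConjClasses.mk a) = φ (ConjClasses.mk b) →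
      ∃ g : G, (b : G) = g * a * g⁻¹ := by
    intro a b hab
    have h1 : ConjClasses.mk (a : G) = ConjClasses.mk (b : G) := congrArg Subtype.val hab
    rw [ConjClasses.mk_eq_mk_iff_isConj, isConj_iff] at h1
    obtain ⟨g, hg⟩ := h1
    exact ⟨g, hg.symm⟩
  have key := card_le_of_fibres φ B ?_ ?_
  · have e : {a : A // B a} ≃ {c : ConjClasses G // (∀ x : G, ConjClasses.mk x = c → x ∈ H) ∧
        ∀ x : G, ConjClasses.mk x = c → Subgroup.centralizer {x} ≤ K} :=
      Equiv.subtypeSubtypeEquivSubtypeInter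
        (fun c : ConjClasses G => ∀ x : G, ConjClasses.mk x = c → x ∈ H)
        (fun c => ∀ x : G, ConjClasses.mk x = c → Subgroup.centralizer {x} ≤ K)
    rw [Nat.card_eq_fintype_card, Nat.card_eq_fintype_card, Nat.card_eq_fintype_card]
    rw [← Fintype.card_congr e]
    convert key
  · -- fibres of size ≤ 2
    intro a b c
    obtain ⟨a, rfl⟩ := a.exists_rep
    obtain ⟨b, rfl⟩ := b.exists_rep
    obtain ⟨c, rfl⟩ := c.exists_rep
    intro hab hac
    obtain ⟨g, hg⟩ := hφ a b hab
    obtain ⟨k, hk⟩ := hφ a c hac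
    by_cases hgK : g ∈ K
    · left
      exact ConjClasses.mk_eq_mk_iff_isConj.mpr (isConj_of_mem_K H K z hz hK a b g hgK hg)
    by_cases hkK : k ∈ K
    · right; left
      exact ConjClasses.mk_eq_mk_iff_isConj.mpr (isConj_of_mem_K H K z hz hK a c k hkK hk)
    right; right
    have hgi : g⁻¹ ∉ K := fun h => hgK (by simpa using K.inv_mem h)
    have hkg : k * g⁻¹ ∈ K := hidx k g⁻¹ hkK hgi
    refine ConjClasses.mk_eq_mk_iff_isConj.mpr (isConj_of_mem_K H K z hz hK b c (k * g⁻¹) hkg ?_)
    rw [hk, hg]; group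
  · -- fibres of size ≤ 1 off `B`
    intro a b
    obtain ⟨a, rfl⟩ := a.exists_rep
    obtain ⟨b, rfl⟩ := b.exists_rep
    intro hB hab
    obtain ⟨g, hg⟩ := hφ a b hab
    have hB' : ¬ ∀ x : G, ConjClasses.mk x = ConjClasses.mk (a : G) →
        Subgroup.centralizer {x} ≤ K := hB
    push_neg at hB'
    obtain ⟨x, hx, hxK⟩ := hB'
    rw [SetLike.not_le_iff_exists] at hxK
    obtain ⟨c, hc, hcK⟩ := hxK
    rw [Subgroup.mem_centralizer_singleton_iff] at hc
    rw [ConjClasses.mk_eq_mk_iff_isConj, isConj_iff] at hx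
    obtain ⟨t, ht⟩ := hx
    -- `a = t x t⁻¹`, `c` centralizes `x`; so `t c t⁻¹` centralizes `a`
    have hcent : (t * c * t⁻¹) * a * (t * c * t⁻¹)⁻¹ = a := by
      rw [← ht]
      have : t * c * t⁻¹ * (t * x * t⁻¹) * (t * c * t⁻¹)⁻¹ = t * (c * x * c⁻¹) * t⁻¹ := by group
      rw [this]
      have : c * x * c⁻¹ = x := by rw [hc]; group
      rw [this]
    have hnorm : t * c * t⁻¹ ∉ K := by
      intro h
      by_cases htK : t ∈ K
      · apply hcK
        have := K.mul_mem (K.mul_mem (K.inv_mem htK) h) htK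
        convert this using 1; group
      · have hti : t⁻¹ ∉ K := fun h => htK (by simpa using K.inv_mem h)
        -- `t⁻¹ * (t c t⁻¹) ∉ K`... use index: c = t⁻¹ (t c t⁻¹) t
        have h1 : t⁻¹ * (t * c * t⁻¹) ∉ K := by
          intro h2
          apply hti
          have h3 := K.mul_mem h2 (K.inv_mem h)
          convert h3 using 1; group
        have h2 := hidx _ _ h1 htK
        apply hcK
        convert h2 using 1; group
    apply ConjClasses.mk_eq_mk_iff_isConj.mpr
    by_cases hgK : g ∈ K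
    · exact isConj_of_mem_K H K z hz hK a b g hgK hg
    · have hgc : g * (t * c * t⁻¹) ∈ K := hidx _ _ hgK hnorm
      refine isConj_of_mem_K H K z hz hK a b _ hgc ?_
      rw [hg]
      have : g * (t * c * t⁻¹) * ↑a * (g * (t * c * t⁻¹))⁻¹ =
          g * ((t * c * t⁻¹) * a * (t * c * t⁻¹)⁻¹) * g⁻¹ := by group
      rw [this, hcent]

end Cfsg.Agent.S2560P
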