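import Mathlib

/-! S2560 piece NEGSYM (driver helper29): the classes inside `H ⊴ G` and their translates by a central
`z ∉ H` are different classes with the same property `P`. Mathlib only. -/

set_option autoImplicit false

namespace Cfsg.Agent.S2560P

namespace NEGSYM

variable {G : Type*} [Group G]

/-- Translation of conjugacy classes by a central element. -/
noncomputable def transl (z : G) (hz : z ∈ Subgroup.center G) : ConjClasses G → ConjClasses G :=
  Quotient.map (fun x => z * x) (by
    intro a b hab
    have hab' : IsConj a b := hab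
    show IsConj (z * a) (z * b)
    rw [isConj_iff] at hab' ⊢
    obtain ⟨c, hc⟩ := hab'
    refine ⟨c, ?_⟩
    rw [Subgroup.mem_center_iff] at hz
    rw [← hc]
    have h1 : c * (z * a) * c⁻¹ = (c * z) * a * c⁻¹ := by group
    rw [h1, hz c]; group)

theorem transl_mk (z : G) (hz : z ∈ Subgroup.center G) (x : G) :
    transl z hz (ConjClasses.mk x) = ConjClasses.mk (z * x) := rfl

theorem transl_injective (z : G) (hz : z ∈ Subgroup.center G) :
    Function.Injective (transl z hz) := by
  intro a b hab
  obtain ⟨a, rfl⟩ := a.exists_rep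
  obtain ⟨b, rfl⟩ := b.exists_rep
  rw [transl_mk, transl_mk, ConjClasses.mk_eq_mk_iff_isConj, isConj_iff] at hab
  obtain ⟨c, hc⟩ := hab
  rw [ConjClasses.mk_eq_mk_iff_isConj, isConj_iff]
  refine ⟨c, ?_⟩
  rw [Subgroup.mem_center_iff] at hz
  have h1 : c * (z * a) * c⁻¹ = z * (c * a * c⁻¹) := by
    have : c * (z * a) * c⁻¹ = (c * z) * a * c⁻¹ := by group
    rw [this, hz c]; group
  rw [h1] at hc
  exact mul_left_cancel hc

end NEGSYM

open NEGSYM in
theorem NEGSYM.two_mul_card_le {G : Type*} [Group G] [Finite G] (H : Subgroup G) [H.Normal]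
    (z : G) (hz : z ∈ Subgroup.center G) (hzH : z ∉ H) (P : ConjClasses G → Prop)
    (hP : ∀ x : G, P (ConjClasses.mk x) → P (ConjClasses.mk (z * x))) :
    2 * Nat.card {c : ConjClasses G // (∀ x : G, ConjClasses.mk x = c → x ∈ H) ∧ P c} ≤
      Nat.card {c : ConjClasses G // P c} := by
  classical
  let S := {c : ConjClasses G // (∀ x : G, ConjClasses.mk x = c → x ∈ H) ∧ P c}
  have hPt : ∀ c : ConjClasses G, P c → P (transl z hz c) := by
    intro c hc
    obtain ⟨x, rfl⟩ := c.exists_rep
    exact hP x hc
  let f : S ⊕ S → {c : ConjClasses G // P c} := fun s =>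
    match s with
    | Sum.inl c => ⟨c.1, c.2.2⟩
    | Sum.inr c => ⟨transl z hz c.1, hPt c.1 c.2.2⟩
  have hne : ∀ c d : S, c.1 ≠ transl z hz d.1 := by
    intro c d hcd
    obtain ⟨x, hx⟩ := d.1.exists_rep
    have hxH : x ∈ H := d.2.1 x hx
    have h1 : ConjClasses.mk (z * x) = c.1 := by rw [hcd, ← hx, transl_mk]
    have h2 : z * x ∈ H := c.2.1 _ h1
    apply hzH
    have := H.mul_mem h2 (H.inv_mem hxH)
    simpa using this
  have hf : Function.Injective f := by
    rintro (a | a) (b | b) hab
    · have h0 := congrArg (fun c : {c : ConjClasses G // P c} => c.1) hab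
      have : a.1 = b.1 := h0
      exact congrArg Sum.inl (Subtype.ext this)
    · have h0 := congrArg (fun c : {c : ConjClasses G // P c} => c.1) hab
      have : a.1 = transl z hz b.1 := h0
      exact absurd this (hne a b)
    · have h0 := congrArg (fun c : {c : ConjClasses G // P c} => c.1) hab
      have : transl z hz a.1 = b.1 := h0
      exact absurd this.symm (hne b a)
    · have h0 := congrArg (fun c : {c : ConjClasses G // P c} => c.1) hab
      have : transl z hz a.1 = transl z hz b.1 := h0
      exact congrArg Sum.inr (Subtype.ext (transl_injective z hz this))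
  have h := Nat.card_le_card_of_injective f hf
  rw [Nat.card_sum] at h
  have : 2 * Nat.card S = Nat.card S + Nat.card S := by ring
  rw [this]
  exact h

end Cfsg.Agent.S2560P
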