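import Mathlib
import Cfsg.Prelude.Def_Transfer
import Cfsg.Agent.Helper4.S4404Defs
import Cfsg.Agent.Helper4.S4404W
import Cfsg.Agent.Helper15.S4404CNT
import Cfsg.Agent.Helper9.S4404WLE
import Cfsg.Agent.S0055
import Cfsg.Agent.Helper26.Basic

/-! Board `s4404pieces`, row PWU (`pw_setup`). -/

set_option autoImplicit false
set_option linter.unusedVariables false
set_option linter.unusedSectionVars false

namespace Cfsg.Agent.S4404P

open Subgroup
open scoped commutatorElement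

variable {S : Type*} [Group S] [Finite S]

/-- an elementary abelian `2`-group is a `2`-group. -/
theorem PWU_aux_isPGroup (M : Subgroup S) (hM : Cfsg.IsElementaryAbelian 2 M) : IsPGroup 2 ↥M := by
  intro m
  refine ⟨1, ?_⟩
  apply Subtype.ext
  simpa using hM.2 m.1 m.2

/-- an `r`-group (`r` odd) has order coprime to that of an elementary abelian `2`-group. -/
theorem PWU_aux_coprime (M : Subgroup S) (hM : Cfsg.IsElementaryAbelian 2 M) (r : ℕ) [Fact r.Prime] (hr2 : r ≠ 2)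
    (G₀ : Subgroup S) (hG₀ : IsPGroup r ↥G₀) : (Nat.card ↥G₀).Coprime (Nat.card ↥M) := by
  obtain ⟨k, hk⟩ := IsPGroup.iff_card.mp hG₀
  have : Fact (Nat.Prime 2) := ⟨Nat.prime_two⟩
  obtain ⟨j, hj⟩ := IsPGroup.iff_card.mp (PWU_aux_isPGroup M hM)
  rw [hk, hj]
  apply Nat.Coprime.pow
  exact (Nat.coprime_primes (Fact.out : r.Prime) Nat.prime_two).mpr hr2

/-- subgroups of an abelian `M` centralise each other. -/
theorem PWU_aux_le_centralizer (M : Subgroup S) (hM : Cfsg.IsElementaryAbelian 2 M) (X Y : Subgroup S)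
    (hX : X ≤ M) (hY : Y ≤ M) : X ≤ centralizer (Y : Set S) := by
  intro x hx
  rw [mem_centralizer_iff]
  intro y hy
  have : IsMulCommutative ↥M := hM.1
  have := mul_comm' (⟨y, hY hy⟩ : ↥M) ⟨x, hX hx⟩
  exact congrArg Subtype.val this

/-- the fixed points of an odd `r`-group `G₀` on `[M, G₀]` are trivial. -/
theorem PWU_aux_fix (M : Subgroup S) [M.Normal] (hM : Cfsg.IsElementaryAbelian 2 M) (r : ℕ) [Fact r.Prime]
    (hr2 : r ≠ 2) (G₀ : Subgroup S) (hG₀ : IsPGroup r ↥G₀) (U : Subgroup S) (hUM : U ≤ M) (hU : U ≤ ⁅M, G₀⁆) :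
    U ⊓ centralizer (G₀ : Set S) = ⊥ := by
  have : IsMulCommutative ↥M := hM.1
  have hAV : G₀ ≤ normalizer (M : Set S) := by
    rw [normalizer_eq_top]; exact le_top
  have h := (Cfsg.Agent.S0055.result G₀ M hAV (PWU_aux_coprime M hM r hr2 G₀ hG₀)).1
  rw [eq_bot_iff, ← h]
  intro x hx
  exact ⟨⟨hUM hx.1, hx.2⟩, hU hx.1⟩

/-- PWU : `U = [M,t₁][M,t₂]` for `G₀ = ⟨t₁, t₂⟩` an `r`-group. -/
theorem pw_setup (M : Subgroup S) [M.Normal] (hM : Cfsg.IsElementaryAbelian 2 M) (r d : ℕ) [Fact r.Prime]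
    (hrd : RD r d) (t₁ t₂ : S) (hG : IsPGroup r ↥(closure ({t₁, t₂} : Set S)))
    (hc₁ : Nat.card ↥(Wc M t₁) = 2 ^ d) (hc₂ : Nat.card ↥(Wc M t₂) = 2 ^ d) (hne : Wc M t₁ ≠ Wc M t₂) :
    closure ({t₁, t₂} : Set S) ≤ normalizer ((Wc M t₁ ⊔ Wc M t₂ : Subgroup S) : Set S) ∧
      (Wc M t₁ ⊔ Wc M t₂) ⊓ centralizer (closure ({t₁, t₂} : Set S) : Set S) = ⊥ ∧
      Nat.card ↥(Wc M t₁ ⊔ Wc M t₂ : Subgroup S) = 2 ^ (2 * d) := by
  have hUM : Wc M t₁ ⊔ Wc M t₂ ≤ M := sup_le (Wc_le M t₁) (Wc_le M t₂)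
  have ht₁ : t₁ ∈ closure ({t₁, t₂} : Set S) := subset_closure (by simp)
  have ht₂ : t₂ ∈ closure ({t₁, t₂} : Set S) := subset_closure (by simp)
  have hN : closure ({t₁, t₂} : Set S) ≤ normalizer ((Wc M t₁ ⊔ Wc M t₂ : Subgroup S) : Set S) := by
    rw [closure_le]
    intro x hx
    rcases hx with rfl | rfl
    · exact mem_normalizer_of_Wc_le M _ _ hUM le_sup_left
    · exact mem_normalizer_of_Wc_le M _ _ hUM le_sup_right
  have hU : Wc M t₁ ⊔ Wc M t₂ ≤ ⁅M, closure ({t₁, t₂} : Set S)⁆ := by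
    apply sup_le
    · exact commutator_mono le_rfl ((zpowers_le).mpr ht₁)
    · exact commutator_mono le_rfl ((zpowers_le).mpr ht₂)
  have hfix := PWU_aux_fix M hM r hrd.ne_two _ hG _ hUM hU
  refine ⟨hN, hfix, ?_⟩
  -- the order of `U`
  have : Fact (Nat.Prime 2) := ⟨Nat.prime_two⟩
  obtain ⟨j, hj⟩ := IsPGroup.iff_card.mp (PWU_aux_isPGroup M hM)
  have hdvd : Nat.card ↥(Wc M t₁ ⊔ Wc M t₂ : Subgroup S) ∣ 2 ^ j := hj ▸ card_dvd_of_le hUM
  obtain ⟨a, -, ha⟩ := (Nat.dvd_prime_pow Nat.prime_two).mp hdvd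
  -- lower bound
  have hlt : 2 ^ d < 2 ^ a := by
    rw [← hc₁, ← ha]
    apply lt_of_le_of_ne (card_le_of_le le_sup_left)
    intro heq
    have h1 : Wc M t₁ = Wc M t₁ ⊔ Wc M t₂ := eq_of_le_of_card_ge le_sup_left heq.ge
    have h2 : Wc M t₂ ≤ Wc M t₁ := by
      calc Wc M t₂ ≤ Wc M t₁ ⊔ Wc M t₂ := le_sup_right
        _ = Wc M t₁ := h1.symm
    exact hne (eq_of_le_of_card_ge h2 (by rw [hc₁, hc₂])).symm
  -- upper bound
  have hle : 2 ^ a ≤ 2 ^ (2 * d) := by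
    have hnorm : Wc M t₁ ≤ normalizer ((Wc M t₂ : Subgroup S) : Set S) :=
      (PWU_aux_le_centralizer M hM _ _ (Wc_le M t₁) (Wc_le M t₂)).trans (centralizer_le_normalizer _)
    have h := Cfsg.Agent.Helper26.card_sup_mul_card_inf hnorm
    rw [ha, hc₁, hc₂] at h
    have hpos : 0 < Nat.card ↥(Wc M t₁ ⊓ Wc M t₂ : Subgroup S) := Nat.card_pos
    calc 2 ^ a ≤ 2 ^ a * Nat.card ↥(Wc M t₁ ⊓ Wc M t₂ : Subgroup S) := Nat.le_mul_of_pos_right _ hpos
      _ = 2 ^ d * 2 ^ d := h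
      _ = 2 ^ (2 * d) := by rw [two_mul, pow_add]
  have hda : d < a := (Nat.pow_lt_pow_iff_right (by norm_num)).mp hlt
  have had : a ≤ 2 * d := (Nat.pow_le_pow_iff_right (by norm_num)).mp hle
  -- congruence
  have hmod := card_modEq_card_cent r _ _ hG hN
  rw [hfix, card_bot, ha] at hmod
  rw [ha]
  rcases hrd with ⟨rfl, rfl⟩ | ⟨rfl, rfl⟩
  · interval_cases a
    · exfalso; revert hmod; decide
    · rfl
  · interval_cases a
    · exfalso; revert hmod; decide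
    · exfalso; revert hmod; decide
    · rfl

end Cfsg.Agent.S4404P
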