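import Mathlib
import Cfsg.Prelude.Def_Transfer
import Cfsg.Agent.Helper4.S4404Defs
import Cfsg.Agent.Helper4.S4404W
import Cfsg.Agent.Helper4.S4404PWU
import Cfsg.Agent.Helper15.S4404CNT
import Cfsg.Agent.Helper9.S4404WLE
import Cfsg.Agent.Lead.Coprime3
import Cfsg.Agent.S0055
import Cfsg.Agent.Helper26.Basic

/-! Board `s4404pieces`, row EXFIX (`split_of_fix`). -/

set_option autoImplicit false
set_option linter.unusedVariables false
set_option linter.unusedSectionVars false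

namespace Cfsg.Agent.S4404P

open Subgroup
open scoped commutatorElement

variable {S : Type*} [Group S] [Finite S]

/-- a subgroup `G₀` mapping `X` into itself under conjugation normalises `X`. -/
theorem EXFIX_aux_normalizer (G₀ X : Subgroup S) (h : ∀ g ∈ G₀, ∀ x ∈ X, g * x * g⁻¹ ∈ X) :
    G₀ ≤ normalizer (X : Set S) := by
  intro g hg
  rw [mem_normalizer_iff]
  intro x
  constructor
  · exact h g hg x
  · intro hx
    have := h g⁻¹ (G₀.inv_mem hg) _ hx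
    simpa [mul_assoc] using this

/-- conjugation by an element of the normaliser maps `U` into `U`. -/
theorem EXFIX_aux_conj_mem (G₀ U : Subgroup S) (hN : G₀ ≤ normalizer (U : Set S)) (g : S) (hg : g ∈ G₀)
    (u : S) (hu : u ∈ U) : g * u * g⁻¹ ∈ U :=
  (mem_normalizer_iff.mp (hN hg) u).mp hu

/-- `hcomm` for natural powers of `z`. -/
theorem EXFIX_aux_pow (G₀ U : Subgroup S) (hN : G₀ ≤ normalizer (U : Set S)) (z : S) (hz : z ∈ G₀)
    (hcomm : ∀ g ∈ G₀, ∀ u ∈ U, g * (z * u * z⁻¹) * g⁻¹ = z * (g * u * g⁻¹) * z⁻¹) (k : ℕ) :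
    ∀ g ∈ G₀, ∀ u ∈ U, g * (z ^ k * u * (z ^ k)⁻¹) * g⁻¹ = z ^ k * (g * u * g⁻¹) * (z ^ k)⁻¹ := by
  induction k with
  | zero => intro g _ u _; simp
  | succ k ih =>
    intro g hg u hu
    have hzu : z * u * z⁻¹ ∈ U := EXFIX_aux_conj_mem G₀ U hN z hz u hu
    have h1 := ih g hg _ hzu
    have h2 := hcomm g hg u hu
    have e1 : z ^ (k + 1) * u * (z ^ (k + 1))⁻¹ = z ^ k * (z * u * z⁻¹) * (z ^ k)⁻¹ := by
      rw [pow_succ]; group
    have e2 : z ^ (k + 1) * (g * u * g⁻¹) * (z ^ (k + 1))⁻¹ = z ^ k * (z * (g * u * g⁻¹) * z⁻¹) * (z ^ k)⁻¹ := by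
      rw [pow_succ]; group
    rw [e1, e2, h1, h2]

/-- `hcomm` for integer powers of `z`. -/
theorem EXFIX_aux_zpow (G₀ U : Subgroup S) (hN : G₀ ≤ normalizer (U : Set S)) (z : S) (hz : z ∈ G₀)
    (hcomm : ∀ g ∈ G₀, ∀ u ∈ U, g * (z * u * z⁻¹) * g⁻¹ = z * (g * u * g⁻¹) * z⁻¹) (k : ℤ) :
    ∀ g ∈ G₀, ∀ u ∈ U, g * (z ^ k * u * (z ^ k)⁻¹) * g⁻¹ = z ^ k * (g * u * g⁻¹) * (z ^ k)⁻¹ := by
  intro g hg u hu
  rcases Int.eq_nat_or_neg k with ⟨n, rfl | rfl⟩
  · simpa using EXFIX_aux_pow G₀ U hN z hz hcomm n g hg u hu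
  · -- `w = z^{-n} u z^{n} ∈ U`
    have hzn : (z ^ n)⁻¹ ∈ G₀ := G₀.inv_mem (G₀.pow_mem hz n)
    have hw : (z ^ n)⁻¹ * u * z ^ n ∈ U := by
      have := EXFIX_aux_conj_mem G₀ U hN _ hzn u hu
      simpa using this
    have h1 := EXFIX_aux_pow G₀ U hN z hz hcomm n g hg _ hw
    have e1 : z ^ n * ((z ^ n)⁻¹ * u * z ^ n) * (z ^ n)⁻¹ = u := by group
    rw [e1] at h1
    simp only [zpow_neg, zpow_natCast, inv_inv]
    rw [h1]
    group

/-- EXFIX -/
theorem split_of_fix (M : Subgroup S) [M.Normal] (hM : Cfsg.IsElementaryAbelian 2 M) (r d : ℕ) [Fact r.Prime]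
    (hrd : RD r d) (G₀ U : Subgroup S) (hG₀ : IsPGroup r ↥G₀) (hUM : U ≤ M)
    (hN : G₀ ≤ normalizer (U : Set S)) (hfix : U ⊓ centralizer (G₀ : Set S) = ⊥)
    (hcard : Nat.card ↥U = 2 ^ (2 * d)) (z : S) (hz : z ∈ G₀) (hzU : z ∉ centralizer (U : Set S))
    (hcomm : ∀ g ∈ G₀, ∀ u ∈ U, g * (z * u * z⁻¹) * g⁻¹ = z * (g * u * g⁻¹) * z⁻¹)
    (hzfix : U ⊓ centralizer (zpowers z : Set S) ≠ ⊥) :
    ∃ X₁ X₂ : Subgroup S, X₁ ≤ U ∧ X₂ ≤ U ∧ G₀ ≤ normalizer (X₁ : Set S) ∧ G₀ ≤ normalizer (X₂ : Set S) ∧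
      X₁ ⊓ X₂ = ⊥ ∧ Nat.card ↥X₁ = 2 ^ d ∧ Nat.card ↥X₂ = 2 ^ d := by
  have hZG : zpowers z ≤ G₀ := (zpowers_le).mpr hz
  have hZN : zpowers z ≤ normalizer (U : Set S) := hZG.trans hN
  have hZ : IsPGroup r ↥(zpowers z) := hG₀.to_le hZG
  have hcomU : IsMulCommutative ↥U := by
    have : IsMulCommutative ↥M := hM.1
    refine ⟨⟨fun a b => ?_⟩⟩
    apply Subtype.ext
    have := congrArg Subtype.val (mul_comm' (⟨a.1, hUM a.2⟩ : ↥M) ⟨b.1, hUM b.2⟩)
    simpa using this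
  have hcop : (Nat.card ↥(zpowers z)).Coprime (Nat.card ↥U) :=
    (PWU_aux_coprime M hM r hrd.ne_two _ hZ).coprime_dvd_right (card_dvd_of_le hUM)
  obtain ⟨hd1, hd2⟩ := Cfsg.Agent.S0055.result (zpowers z) U hZN hcop
  have hX₂U : ⁅U, zpowers z⁆ ≤ U := Cfsg.Agent.Lead.commutator_le_of_le_normalizer hZN
  -- invariance of `X₁`
  have hN₁ : G₀ ≤ normalizer ((U ⊓ centralizer (zpowers z : Set S) : Subgroup S) : Set S) := by
    apply EXFIX_aux_normalizer
    intro g hg x hx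
    refine ⟨EXFIX_aux_conj_mem G₀ U hN g hg x hx.1, ?_⟩
    change g * x * g⁻¹ ∈ centralizer (zpowers z : Set S)
    rw [mem_centralizer_iff]
    intro h hh
    obtain ⟨k, rfl⟩ := mem_zpowers_iff.mp hh
    have h1 := EXFIX_aux_zpow G₀ U hN z hz hcomm k g hg x hx.1
    have h2 : z ^ k * x * (z ^ k)⁻¹ = x := by
      have := (mem_centralizer_iff.mp hx.2) (z ^ k) (zpow_mem_zpowers z k)
      rw [this]; group
    rw [h2] at h1
    -- h1 : g x g⁻¹ = z^k (g x g⁻¹) z^-k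
    calc z ^ k * (g * x * g⁻¹) = (z ^ k * (g * x * g⁻¹) * (z ^ k)⁻¹) * z ^ k := by group
      _ = g * x * g⁻¹ * z ^ k := by rw [← h1]
  -- invariance of `X₂`
  have hN₂ : G₀ ≤ normalizer ((⁅U, zpowers z⁆ : Subgroup S) : Set S) := by
    apply EXFIX_aux_normalizer
    intro g hg
    have : ⁅U, zpowers z⁆ ≤ (⁅U, zpowers z⁆).comap (MulAut.conj g).toMonoidHom := by
      rw [commutator_le]
      intro u hu h hh
      obtain ⟨k, rfl⟩ := mem_zpowers_iff.mp hh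
      rw [mem_comap]
      change g * ⁅u, z ^ k⁆ * g⁻¹ ∈ _
      have h1 := EXFIX_aux_zpow G₀ U hN z hz hcomm k g hg u⁻¹ (U.inv_mem hu)
      have e : g * ⁅u, z ^ k⁆ * g⁻¹ = ⁅g * u * g⁻¹, z ^ k⁆ := by
        rw [commutatorElement_def, commutatorElement_def]
        calc g * (u * z ^ k * u⁻¹ * (z ^ k)⁻¹) * g⁻¹
            = (g * u * g⁻¹) * (g * (z ^ k * u⁻¹ * (z ^ k)⁻¹) * g⁻¹) := by group
          _ = (g * u * g⁻¹) * (z ^ k * (g * u⁻¹ * g⁻¹) * (z ^ k)⁻¹) := by rw [h1]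
          _ = g * u * g⁻¹ * z ^ k * (g * u * g⁻¹)⁻¹ * (z ^ k)⁻¹ := by group
      rw [e]
      exact commutator_mem_commutator (EXFIX_aux_conj_mem G₀ U hN g hg u hu) (zpow_mem_zpowers z k)
    intro x hx
    exact this hx
  -- the order of `X₁`
  have hU2 : Nat.card ↥(U ⊓ centralizer (zpowers z : Set S) : Subgroup S) ∣ 2 ^ (2 * d) :=
    hcard ▸ card_dvd_of_le inf_le_left
  obtain ⟨a, ha2, ha⟩ := (Nat.dvd_prime_pow Nat.prime_two).mp hU2
  have ha0 : a ≠ 0 := by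
    rintro rfl
    rw [pow_zero] at ha
    exact hzfix ((Subgroup.card_eq_one).mp ha)
  have ha2' : a ≠ 2 * d := by
    rintro rfl
    have h1 : U ⊓ centralizer (zpowers z : Set S) = U := eq_of_le_of_card_ge inf_le_left (by rw [hcard, ha])
    have h2 : U ≤ centralizer (zpowers z : Set S) := by
      rw [← h1]; exact inf_le_right
    apply hzU
    have h3 : zpowers z ≤ centralizer (U : Set S) := by
      rw [← commutator_eq_bot_iff_le_centralizer, commutator_comm, commutator_eq_bot_iff_le_centralizer]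
      exact h2
    exact h3 (mem_zpowers z)
  have hfix₁ : (U ⊓ centralizer (zpowers z : Set S)) ⊓ centralizer (G₀ : Set S) = ⊥ := by
    rw [eq_bot_iff, ← hfix]
    intro x hx
    exact ⟨hx.1.1, hx.2⟩
  have hmod := card_modEq_card_cent r G₀ _ hG₀ hN₁
  rw [hfix₁, card_bot, ha] at hmod
  have had : a = d := by
    rcases hrd with ⟨rfl, rfl⟩ | ⟨rfl, rfl⟩
    · interval_cases a
      · exact absurd rfl ha0
      · exfalso; revert hmod; decide
      · rfl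
      · exfalso; revert hmod; decide
      · exact absurd rfl ha2'
    · interval_cases a
      · exact absurd rfl ha0
      · exfalso; revert hmod; decide
      · exfalso; revert hmod; decide
      · rfl
      · exfalso; revert hmod; decide
      · exfalso; revert hmod; decide
      · exact absurd rfl ha2'
  subst had
  refine ⟨_, _, inf_le_left, hX₂U, hN₁, hN₂, hd1, ha, ?_⟩
  -- the order of `X₂`
  have hnorm : U ⊓ centralizer (zpowers z : Set S) ≤ normalizer ((⁅U, zpowers z⁆ : Subgroup S) : Set S) :=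
    (PWU_aux_le_centralizer M hM _ _ (inf_le_left.trans hUM) (hX₂U.trans hUM)).trans (centralizer_le_normalizer _)
  have h := Cfsg.Agent.Helper26.card_sup_mul_card_inf hnorm
  rw [hd1, hd2, card_bot, hcard, ha, mul_one, two_mul, pow_add] at h
  exact (Nat.eq_of_mul_eq_mul_left (by positivity) h).symm

end Cfsg.Agent.S4404P
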