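import Mathlib
import Cfsg.Prelude.Def_GeometricClasses
import Cfsg.Agent.Helper20.S6000Defs

set_option autoImplicit false
open scoped MatrixGroups Matrix

/-! S6000 piece USP64 (driver helper20): for `s ∈ R` with `s² = -1` the matrix `1 + s` is invertible and
normalizes `R`, with explicit conjugation action. -/

namespace Cfsg.Agent.S6000P

/-- USP64 -/
theorem one_add_props {F : Type*} [Field F] {R : Subgroup (GL (Fin 4) F)} {ι : F} (h : Hyp64 R ι)
    (s : GL (Fin 4) F) (hs : s ∈ R) (hs2 : s * s = -1) :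
    ∃ u : GL (Fin 4) F, (u : M4 F) = 1 + (s : M4 F) ∧ u ∈ Cfsg.Geo.subgroupNormalizer R ∧
      (∀ a ∈ R, a * s = s * a → u * a * u⁻¹ = a) ∧
      (∀ a ∈ R, a * s = -(s * a) → u * a * u⁻¹ = s * a) := by
  classical
  have h2 : (2 : F) ≠ 0 := h.two_ne
  have hss : (s : M4 F) * (s : M4 F) = -1 := by
    rw [← Units.val_mul, hs2, coe_neg_one]
  have e1 : (1 + (s : M4 F)) * ((2 : F)⁻¹ • (1 - (s : M4 F))) = 1 := by
    rw [Matrix.mul_smul]
    have : (1 + (s : M4 F)) * (1 - (s : M4 F)) = (2 : F) • (1 : M4 F) := by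
      rw [mul_sub, mul_one, add_mul, one_mul, hss, two_smul]
      abel
    rw [this, smul_smul, inv_mul_cancel₀ h2, one_smul]
  have e2 : ((2 : F)⁻¹ • (1 - (s : M4 F))) * (1 + (s : M4 F)) = 1 := by
    rw [Matrix.smul_mul]
    have : (1 - (s : M4 F)) * (1 + (s : M4 F)) = (2 : F) • (1 : M4 F) := by
      rw [mul_add, mul_one, sub_mul, one_mul, hss, two_smul]
      abel
    rw [this, smul_smul, inv_mul_cancel₀ h2, one_smul]
  let u : GL (Fin 4) F := ⟨1 + (s : M4 F), (2 : F)⁻¹ • (1 - (s : M4 F)), e1, e2⟩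
  have hu : (u : M4 F) = 1 + (s : M4 F) := rfl
  -- conjugation formulas
  have hcomm : ∀ a : GL (Fin 4) F, a * s = s * a → u * a * u⁻¹ = a := by
    intro a ha
    have : u * a = a * u := by
      apply Units.ext
      rw [Units.val_mul, Units.val_mul, hu, add_mul, mul_add, one_mul, mul_one, ← Units.val_mul,
        ← Units.val_mul, ha]
    rw [this, mul_assoc, mul_inv_cancel, mul_one]
  have hanti : ∀ a : GL (Fin 4) F, a * s = -(s * a) → u * a * u⁻¹ = s * a := by
    intro a ha
    have hsas : s * a * s = a := by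
      rw [mul_assoc, ha, mul_neg, ← mul_assoc, hs2, neg_mul, neg_neg, one_mul]
    have : u * a = s * a * u := by
      apply Units.ext
      rw [Units.val_mul, Units.val_mul, hu, add_mul, mul_add, one_mul, mul_one, ← Units.val_mul,
        ← Units.val_mul, hsas, add_comm]
    rw [this, mul_assoc, mul_inv_cancel, mul_one]
  have hmaps : ∀ a ∈ R, u * a * u⁻¹ ∈ R := by
    intro a ha
    rcases h.comm a ha s hs with hc | hc
    · rw [hcomm a hc]; exact ha
    · rw [hanti a hc]; exact R.mul_mem hs ha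
  refine ⟨u, hu, ?_, fun a _ ha => hcomm a ha, fun a _ ha => hanti a ha⟩
  rw [mem_normalizer_iff']
  intro a
  refine ⟨hmaps a, ?_⟩
  intro hb
  haveI : Finite ↥R := Nat.finite_of_card_ne_zero (by rw [h.card]; norm_num)
  let f : ↥R → ↥R := fun a => ⟨u * a.1 * u⁻¹, hmaps a.1 a.2⟩
  have hinj : Function.Injective f := by
    intro x z hxz
    have := congrArg Subtype.val hxz
    apply Subtype.ext
    have h1 : u * x.1 * u⁻¹ = u * z.1 * u⁻¹ := this
    exact mul_left_cancel (mul_right_cancel h1)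
  obtain ⟨a', ha'⟩ := (Finite.injective_iff_surjective.mp hinj) ⟨u * a * u⁻¹, hb⟩
  have h1 : u * a'.1 * u⁻¹ = u * a * u⁻¹ := congrArg Subtype.val ha'
  have h2' : a'.1 = a := mul_left_cancel (mul_right_cancel h1)
  rw [← h2']
  exact a'.2

end Cfsg.Agent.S6000P
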