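import Mathlib
import Cfsg.Agent.Helper12.TVG

set_option autoImplicit false

/-! Shared definitions for the S2140 drive (minimal index of a proper subgroup of `PSL_n(q)`).
Everything is phrased for `SL_n(F)` acting on a finite set `Ω`; transvections are
`TS v φ h = 1 + v φ` (`v` a column vector, the *centre*; `φ` a row vector with `φ ⬝ᵥ v = 0`, the *axis* is
`ker φ`) from `Helper12.TVG`. -/

namespace Cfsg.Agent.S2140P

open Matrix Cfsg.Agent.Helper12.TVG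

/-- `SL_n(F)` on `Fin n`. -/
abbrev SLn (n : ℕ) (F : Type*) [Field F] := Matrix.SpecialLinearGroup (Fin n) F

/-- `1 + q + ... + q^(n-1)`, the number of points of `PG(n-1,q)`. -/
def gsN (q n : ℕ) : ℕ := ∑ i ∈ Finset.range n, q ^ i

theorem gsN_succ (q n : ℕ) : gsN q (n + 1) = gsN q n + q ^ n := by
  unfold gsN; rw [Finset.sum_range_succ]

theorem gsN_succ' (q n : ℕ) : gsN q (n + 1) = q * gsN q n + 1 := by
  unfold gsN
  rw [Finset.sum_range_succ', Finset.mul_sum]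
  simp [pow_succ, mul_comm]

theorem gsN_eq (q n : ℕ) (hq : 2 ≤ q) : gsN q n = (q ^ n - 1) / (q - 1) :=
  Nat.geomSum_eq hq n

theorem gsN_mul (q n : ℕ) (hq : 1 ≤ q) : (q - 1) * gsN q n = q ^ n - 1 := by
  induction n with
  | zero => simp [gsN]
  | succ k ih =>
    rw [gsN_succ, mul_add, ih]
    have h1 : 1 ≤ q ^ k := Nat.one_le_pow _ _ hq
    have h2 : q ^ (k + 1) = q * q ^ k := by rw [pow_succ, mul_comm]
    rw [h2, Nat.sub_mul, one_mul]
    have h3 : q ^ k ≤ q * q ^ k := Nat.le_mul_of_pos_left _ hq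
    omega

variable {n : ℕ} {F : Type*} [Field F]

/-- Covectors vanishing on `v`. -/
def annV (v : Fin n → F) : AddSubgroup (Fin n → F) where
  carrier := {φ | φ ⬝ᵥ v = 0}
  add_mem' := by
    intro a b ha hb
    simp only [Set.mem_ofPred_eq] at *
    rw [add_dotProduct, ha, hb, add_zero]
  zero_mem' := by simp
  neg_mem' := by
    intro a ha
    simp only [Set.mem_ofPred_eq] at *
    rw [neg_dotProduct, ha, neg_zero]

theorem mem_annV {v φ : Fin n → F} : φ ∈ annV v ↔ φ ⬝ᵥ v = 0 := Iff.rfl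

theorem TM_mul_TM_cov (v φ ψ : Fin n → F) (h : φ ⬝ᵥ v = 0) :
    TM v φ * TM v ψ = TM v (φ + ψ) := by
  unfold TM
  simp only [add_mul, mul_add, one_mul, mul_one]
  rw [vecMulVec_mul_vecMulVec, h, zero_smul, vecMulVec_zero, add_zero, vecMulVec_add]
  abel

theorem TS_mul_TS_cov (v φ ψ : Fin n → F) (h : φ ⬝ᵥ v = 0) (h' : ψ ⬝ᵥ v = 0)
    (h'' : (φ + ψ) ⬝ᵥ v = 0) : TS v φ h * TS v ψ h' = TS v (φ + ψ) h'' := by
  apply Subtype.ext
  exact TM_mul_TM_cov v φ ψ h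

theorem TS_zero_cov (v : Fin n → F) (h : (0 : Fin n → F) ⬝ᵥ v = 0) : TS v 0 h = 1 := by
  apply Subtype.ext
  exact TM_zero_right v

/-- All transvections with centre `v` (together with `1`): the group `{1 + v φ : φ v = 0}`. -/
def Qc (v : Fin n → F) : Subgroup (SLn n F) where
  carrier := {g | ∃ (φ : Fin n → F) (h : φ ⬝ᵥ v = 0), g = TS v φ h}
  mul_mem' := by
    rintro a b ⟨φ, h, rfl⟩ ⟨ψ, h', rfl⟩
    have h'' : (φ + ψ) ⬝ᵥ v = 0 := by rw [add_dotProduct, h, h', add_zero]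
    exact ⟨φ + ψ, h'', TS_mul_TS_cov v φ ψ h h' h''⟩
  one_mem' := ⟨0, by simp, (TS_zero_cov v _).symm⟩
  inv_mem' := by
    rintro a ⟨φ, h, rfl⟩
    have h' : (-φ) ⬝ᵥ v = 0 := by rw [neg_dotProduct, h, neg_zero]
    refine ⟨-φ, h', ?_⟩
    apply inv_eq_of_mul_eq_one_right
    have h'' : (φ + -φ) ⬝ᵥ v = 0 := by simp
    rw [TS_mul_TS_cov v φ (-φ) h h' h'']
    apply Subtype.ext
    show TM v (φ + -φ) = 1
    rw [add_neg_cancel, TM_zero_right]

theorem mem_Qc {v : Fin n → F} {g : SLn n F} :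
    g ∈ Qc v ↔ ∃ (φ : Fin n → F) (h : φ ⬝ᵥ v = 0), g = TS v φ h := Iff.rfl

theorem TS_mem_Qc (v φ : Fin n → F) (h : φ ⬝ᵥ v = 0) : TS v φ h ∈ Qc v := ⟨φ, h, rfl⟩

/-- The stabilizer of the vector `v`. -/
def Gv (v : Fin n → F) : Subgroup (SLn n F) where
  carrier := {g | (g : Matrix (Fin n) (Fin n) F) *ᵥ v = v}
  mul_mem' := by
    intro a b ha hb
    simp only [Set.mem_ofPred_eq] at *
    rw [Matrix.SpecialLinearGroup.coe_mul, ← Matrix.mulVec_mulVec, hb, ha]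
  one_mem' := by simp
  inv_mem' := by
    intro a ha
    simp only [Set.mem_ofPred_eq] at *
    have h1 : ((a⁻¹ : SLn n F) : Matrix (Fin n) (Fin n) F) *ᵥ ((a : Matrix (Fin n) (Fin n) F) *ᵥ v) = v := by
      rw [Matrix.mulVec_mulVec, coe_inv_mul, Matrix.one_mulVec]
    rw [ha] at h1
    exact h1

theorem mem_Gv {v : Fin n → F} {g : SLn n F} :
    g ∈ Gv v ↔ (g : Matrix (Fin n) (Fin n) F) *ᵥ v = v := Iff.rfl

/-- The stabilizer of the line `F v`. -/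
def Gl (v : Fin n → F) : Subgroup (SLn n F) where
  carrier := {g | ∃ c : F, (g : Matrix (Fin n) (Fin n) F) *ᵥ v = c • v ∧
    ((g⁻¹ : SLn n F) : Matrix (Fin n) (Fin n) F) *ᵥ v = c⁻¹ • v ∧ c ≠ 0}
  mul_mem' := by
    rintro a b ⟨c, hc, hc', hc0⟩ ⟨e, he, he', he0⟩
    refine ⟨c * e, ?_, ?_, mul_ne_zero hc0 he0⟩
    · rw [Matrix.SpecialLinearGroup.coe_mul, ← Matrix.mulVec_mulVec, he, Matrix.mulVec_smul, hc,
        smul_smul, mul_comm]
    · rw [_root_.mul_inv_rev, Matrix.SpecialLinearGroup.coe_mul, ← Matrix.mulVec_mulVec, hc',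
        Matrix.mulVec_smul, he', smul_smul, mul_inv]
  one_mem' := ⟨1, by simp, by simp, one_ne_zero⟩
  inv_mem' := by
    rintro a ⟨c, hc, hc', hc0⟩
    exact ⟨c⁻¹, hc', by rw [inv_inv, inv_inv]; exact hc, inv_ne_zero hc0⟩

section action

variable {Ω : Type*} [MulAction (SLn n F) Ω]

/-- The covectors `φ ⊥ v` whose transvection `1 + v φ` fixes `ω`: the stabilizer of `ω` in `Qc v`,
in covector coordinates. -/
def fixCov (v : Fin n → F) (ω : Ω) : Set (Fin n → F) :=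
  {φ | ∃ h : φ ⬝ᵥ v = 0, TS v φ h • ω = ω}

theorem mem_fixCov {v : Fin n → F} {ω : Ω} {φ : Fin n → F} :
    φ ∈ fixCov v ω ↔ ∃ h : φ ⬝ᵥ v = 0, TS v φ h • ω = ω := Iff.rfl

variable (Ω)

/-- Case (A): `Qc v` has one regular orbit, and fixes every other point. -/
def CaseA (v : Fin n → F) : Prop :=
  (∀ ω : Ω, fixCov v ω = {0} ∨ fixCov v ω = {φ | φ ⬝ᵥ v = 0}) ∧
  (∃ ω : Ω, fixCov v ω = {0}) ∧
  (∀ ω ω' : Ω, fixCov v ω = {0} → fixCov v ω' = {0} →
    ∃ (φ : Fin n → F) (h : φ ⬝ᵥ v = 0), TS v φ h • ω = ω')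

/-- Case (B): every point stabilizer in `Qc v` is an `F`-hyperplane of `Qc v` (the transvections with centre `v`
whose axis contains a 2-space `⟨v, x⟩`). -/
def CaseB (v : Fin n → F) : Prop :=
  ∀ ω : Ω, ∃ x : Fin n → F, (¬ ∃ c : F, x = c • v) ∧
    fixCov v ω = {φ | φ ⬝ᵥ v = 0 ∧ φ ⬝ᵥ x = 0}

/-- Weak case (B): every point is fixed by `Qc v` or its stabilizer in `Qc v` contains an `F`-hyperplane of
`Qc v`. -/
def WeakB (v : Fin n → F) : Prop :=
  ∀ ω : Ω, fixCov v ω = {φ | φ ⬝ᵥ v = 0} ∨ ∃ x : Fin n → F, (¬ ∃ c : F, x = c • v) ∧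
    {φ | φ ⬝ᵥ v = 0 ∧ φ ⬝ᵥ x = 0} ⊆ fixCov v ω

/-- All nontrivial transvections have exactly `f` fixed points on `Ω`. -/
def TransvFix (f : ℕ) : Prop :=
  ∀ (v φ : Fin n → F) (h : φ ⬝ᵥ v = 0), v ≠ 0 → φ ≠ 0 →
    Nat.card (MulAction.fixedBy Ω (TS v φ h)) = f

end action

/-- The minimal index statement for `SL_n(F)`. -/
def MinIdx (n : ℕ) (F : Type*) [Field F] [Fintype F] : Prop :=
  ∀ H : Subgroup (SLn n F), H ≠ ⊤ → gsN (Fintype.card F) n ≤ H.index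

end Cfsg.Agent.S2140P
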