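import Mathlib
import Cfsg.Agent.Helper4.MinIdxDefs

set_option autoImplicit false

/-! Common lemmas for the S2140 drive: conjugation of transvections, the sets `fixCov`, and a little
linear algebra of row/column vectors. -/

namespace Cfsg.Agent.S2140P

open Matrix Cfsg.Agent.Helper12.TVG

variable {n : ℕ} {F : Type*} [Field F]

/-! ### Action of transvections on vectors and covectors -/

theorem TM_mulVec (v φ x : Fin n → F) : TM v φ *ᵥ x = x + (φ ⬝ᵥ x) • v := by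
  unfold TM
  rw [add_mulVec, one_mulVec, vecMulVec_mulVec]
  congr 1
  ext i
  simp [mul_comm]

theorem TS_mulVec (v φ x : Fin n → F) (h : φ ⬝ᵥ v = 0) :
    ((TS v φ h : SLn n F) : Matrix (Fin n) (Fin n) F) *ᵥ x = x + (φ ⬝ᵥ x) • v :=
  TM_mulVec v φ x

theorem vecMul_TM (v φ ψ : Fin n → F) : ψ ᵥ* TM v φ = ψ + (ψ ⬝ᵥ v) • φ := by
  unfold TM
  rw [vecMul_add, vecMul_one, vecMul_vecMulVec]

theorem vecMul_TS (v φ ψ : Fin n → F) (h : φ ⬝ᵥ v = 0) :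
    ψ ᵥ* ((TS v φ h : SLn n F) : Matrix (Fin n) (Fin n) F) = ψ + (ψ ⬝ᵥ v) • φ :=
  vecMul_TM v φ ψ

theorem TS_inv_mulVec (v φ x : Fin n → F) (h : φ ⬝ᵥ v = 0) :
    (((TS v φ h)⁻¹ : SLn n F) : Matrix (Fin n) (Fin n) F) *ᵥ x = x - (φ ⬝ᵥ x) • v := by
  rw [TS_inv_coe, TM_mulVec, smul_neg, sub_eq_add_neg]

theorem vecMul_TS_inv (v φ ψ : Fin n → F) (h : φ ⬝ᵥ v = 0) :
    ψ ᵥ* (((TS v φ h)⁻¹ : SLn n F) : Matrix (Fin n) (Fin n) F) = ψ - (ψ ⬝ᵥ v) • φ := by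
  rw [TS_inv_coe, vecMul_TM, dotProduct_neg, neg_smul, sub_eq_add_neg]

/-! ### Conjugation -/

theorem dot_conj (g : SLn n F) (v φ : Fin n → F) :
    (φ ᵥ* ((g⁻¹ : SLn n F) : Matrix (Fin n) (Fin n) F)) ⬝ᵥ
      ((g : Matrix (Fin n) (Fin n) F) *ᵥ v) = φ ⬝ᵥ v := by
  rw [← dotProduct_mulVec, mulVec_mulVec, coe_inv_mul, one_mulVec]

theorem conj_TS (g : SLn n F) (v φ : Fin n → F) (h : φ ⬝ᵥ v = 0)
    (h' : (φ ᵥ* ((g⁻¹ : SLn n F) : Matrix (Fin n) (Fin n) F)) ⬝ᵥ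
      ((g : Matrix (Fin n) (Fin n) F) *ᵥ v) = 0) :
    g * TS v φ h * g⁻¹ = TS ((g : Matrix (Fin n) (Fin n) F) *ᵥ v)
      (φ ᵥ* ((g⁻¹ : SLn n F) : Matrix (Fin n) (Fin n) F)) h' := by
  apply Subtype.ext
  show (g : Matrix (Fin n) (Fin n) F) * TM v φ * ((g⁻¹ : SLn n F) : Matrix (Fin n) (Fin n) F) =
    TM _ _
  unfold TM
  rw [mul_add, add_mul, mul_one, coe_mul_inv, mul_vecMulVec, vecMulVec_mul]

section action

variable {Ω : Type*} [MulAction (SLn n F) Ω]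

theorem zero_mem_fixCov (v : Fin n → F) (ω : Ω) : (0 : Fin n → F) ∈ fixCov v ω :=
  ⟨by simp, by rw [TS_zero_cov, one_smul]⟩

theorem add_mem_fixCov {v : Fin n → F} {ω : Ω} {φ ψ : Fin n → F} (hφ : φ ∈ fixCov v ω)
    (hψ : ψ ∈ fixCov v ω) : φ + ψ ∈ fixCov v ω := by
  obtain ⟨h, h1⟩ := hφ
  obtain ⟨h', h2⟩ := hψ
  have h'' : (φ + ψ) ⬝ᵥ v = 0 := by rw [add_dotProduct, h, h', add_zero]
  refine ⟨h'', ?_⟩
  rw [← TS_mul_TS_cov v φ ψ h h' h'', mul_smul, h2, h1]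

theorem neg_mem_fixCov {v : Fin n → F} {ω : Ω} {φ : Fin n → F} (hφ : φ ∈ fixCov v ω) :
    -φ ∈ fixCov v ω := by
  obtain ⟨h, h1⟩ := hφ
  have h' : (-φ) ⬝ᵥ v = 0 := by rw [neg_dotProduct, h, neg_zero]
  refine ⟨h', ?_⟩
  have h'' : (φ + -φ) ⬝ᵥ v = 0 := by simp
  have hm : TS v φ h * TS v (-φ) h' = 1 := by
    rw [TS_mul_TS_cov v φ (-φ) h h' h'']
    apply Subtype.ext
    show TM v (φ + -φ) = 1
    rw [add_neg_cancel, TM_zero_right]
  calc TS v (-φ) h' • ω = TS v (-φ) h' • (TS v φ h • ω) := by rw [h1]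
    _ = (TS v (-φ) h' * TS v φ h) • ω := (mul_smul _ _ _).symm
    _ = ω := by rw [mul_eq_one_comm.mp hm, one_smul]

/-- `fixCov v ω` as an additive subgroup. -/
def fixCovSub (v : Fin n → F) (ω : Ω) : AddSubgroup (Fin n → F) where
  carrier := fixCov v ω
  add_mem' := add_mem_fixCov
  zero_mem' := zero_mem_fixCov v ω
  neg_mem' := neg_mem_fixCov

theorem mem_fixCovSub {v : Fin n → F} {ω : Ω} {φ : Fin n → F} :
    φ ∈ fixCovSub v ω ↔ φ ∈ fixCov v ω := Iff.rfl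

theorem fixCov_le_annV (v : Fin n → F) (ω : Ω) : fixCovSub v ω ≤ annV v :=
  fun _ hφ => hφ.1

/-- Transport of `fixCov` along the action: `φ ∈ fixCov v ω ↔ φ g⁻¹ ∈ fixCov (g v) (g ω)`. -/
theorem mem_fixCov_smul (g : SLn n F) (v φ : Fin n → F) (ω : Ω) :
    φ ∈ fixCov v ω ↔ (φ ᵥ* ((g⁻¹ : SLn n F) : Matrix (Fin n) (Fin n) F)) ∈
      fixCov ((g : Matrix (Fin n) (Fin n) F) *ᵥ v) (g • ω) := by
  constructor
  · rintro ⟨h, h1⟩
    have h' := (dot_conj g v φ).trans h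
    refine ⟨h', ?_⟩
    rw [← conj_TS g v φ h h', mul_smul, mul_smul, inv_smul_smul, h1]
  · rintro ⟨h', h1⟩
    have h := (dot_conj g v φ).symm.trans h'
    refine ⟨h, ?_⟩
    rw [← conj_TS g v φ h h', mul_smul, mul_smul, inv_smul_smul] at h1
    exact smul_left_cancel g h1

/-- Elements of the stabilizer of `ω` fixing `v` act on `fixCov v ω`. -/
theorem fixCov_vecMul_of_fix (g : SLn n F) (v φ : Fin n → F) (ω : Ω)
    (hv : (g : Matrix (Fin n) (Fin n) F) *ᵥ v = v) (hω : g • ω = ω) (hφ : φ ∈ fixCov v ω) :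
    (φ ᵥ* ((g⁻¹ : SLn n F) : Matrix (Fin n) (Fin n) F)) ∈ fixCov v ω := by
  have := (mem_fixCov_smul g v φ ω).mp hφ
  rwa [hv, hω] at this

/-- A point in the `Qc v`-orbit of `ω` has the same `fixCov v`. -/
theorem fixCov_TS_smul (v ψ : Fin n → F) (hψ : ψ ⬝ᵥ v = 0) (ω : Ω) :
    fixCov v (TS v ψ hψ • ω) = fixCov v ω := by
  ext φ
  constructor
  · rintro ⟨h, h1⟩
    refine ⟨h, ?_⟩
    have hc : TS v φ h * TS v ψ hψ = TS v ψ hψ * TS v φ h := by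
      have h'' : (φ + ψ) ⬝ᵥ v = 0 := by rw [add_dotProduct, h, hψ, add_zero]
      have h''' : (ψ + φ) ⬝ᵥ v = 0 := by rw [add_dotProduct, h, hψ, add_zero]
      rw [TS_mul_TS_cov v φ ψ h hψ h'', TS_mul_TS_cov v ψ φ hψ h h''']
      apply Subtype.ext
      show TM v (φ + ψ) = TM v (ψ + φ)
      rw [add_comm]
    rw [← mul_smul, hc, mul_smul] at h1
    exact smul_left_cancel _ h1
  · rintro ⟨h, h1⟩
    refine ⟨h, ?_⟩
    have hc : TS v φ h * TS v ψ hψ = TS v ψ hψ * TS v φ h := by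
      have h'' : (φ + ψ) ⬝ᵥ v = 0 := by rw [add_dotProduct, h, hψ, add_zero]
      have h''' : (ψ + φ) ⬝ᵥ v = 0 := by rw [add_dotProduct, h, hψ, add_zero]
      rw [TS_mul_TS_cov v φ ψ h hψ h'', TS_mul_TS_cov v ψ φ hψ h h''']
      apply Subtype.ext
      show TM v (φ + ψ) = TM v (ψ + φ)
      rw [add_comm]
    rw [← mul_smul, hc, mul_smul, h1]

end action

end Cfsg.Agent.S2140P
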