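import Mathlib
import Cfsg.Agent.Helper4.MinIdxDefs

set_option autoImplicit false

/-! Linear algebra of row/column vectors for the S2140 drive. -/

namespace Cfsg.Agent.S2140P

open Matrix

variable {n : ℕ} {F : Type*} [Field F]

/-- Every linear functional on `F^n` is a dot product. -/
theorem dual_eq_dot (f : (Fin n → F) →ₗ[F] F) (y : Fin n → F) :
    f y = (fun i => f (Pi.single i 1)) ⬝ᵥ y := by
  rw [LinearMap.pi_apply_eq_sum_univ f y]
  simp only [dotProduct, smul_eq_mul]
  apply Finset.sum_congr rfl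
  intro i _
  rw [mul_comm]
  congr 2
  ext j
  simp [Pi.single_apply, eq_comm]

/-- Separation of a vector from a subspace by a covector. -/
theorem exists_cov_of_notMem (W : Submodule F (Fin n → F)) (x : Fin n → F) (hx : x ∉ W) :
    ∃ φ : Fin n → F, (∀ w ∈ W, φ ⬝ᵥ w = 0) ∧ φ ⬝ᵥ x = 1 := by
  obtain ⟨f, hfx, hfW⟩ := Submodule.exists_dual_map_eq_bot_of_notMem hx inferInstance
  refine ⟨(f x)⁻¹ • (fun i => f (Pi.single i 1)), ?_, ?_⟩
  · intro w hw
    rw [smul_dotProduct, ← dual_eq_dot]
    have : f w ∈ W.map f := Submodule.mem_map_of_mem hw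
    rw [hfW, Submodule.mem_bot] at this
    rw [this, smul_zero]
  · rw [smul_dotProduct, ← dual_eq_dot, smul_eq_mul, inv_mul_cancel₀ hfx]

/-- `x ∉ F v` gives a covector killing `v` with value `1` at `x`. -/
theorem exists_cov_sep (v x : Fin n → F) (hx : ¬ ∃ c : F, x = c • v) :
    ∃ φ : Fin n → F, φ ⬝ᵥ v = 0 ∧ φ ⬝ᵥ x = 1 := by
  have hx' : x ∉ Submodule.span F {v} := by
    rw [Submodule.mem_span_singleton]
    rintro ⟨c, hc⟩
    exact hx ⟨c, hc.symm⟩
  obtain ⟨φ, h1, h2⟩ := exists_cov_of_notMem _ x hx'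
  exact ⟨φ, h1 v (Submodule.mem_span_singleton_self v), h2⟩

/-- A nonzero vector has a covector with value `1`. -/
theorem exists_cov_one (x : Fin n → F) (hx : x ≠ 0) : ∃ φ : Fin n → F, φ ⬝ᵥ x = 1 := by
  obtain ⟨φ, -, h⟩ := exists_cov_of_notMem (⊥ : Submodule F (Fin n → F)) x
    (by rwa [Submodule.mem_bot])
  exact ⟨φ, h⟩

/-- A nonzero covector has a vector with value `1`. -/
theorem exists_vec_one (φ : Fin n → F) (hφ : φ ≠ 0) : ∃ x : Fin n → F, φ ⬝ᵥ x = 1 := by
  obtain ⟨x, h⟩ := exists_cov_one φ hφ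
  exact ⟨x, by rw [dotProduct_comm]; exact h⟩

/-- `x ∉ span {u, w}` gives a covector killing `u, w` with value `1` at `x`. -/
theorem exists_cov_sep_pair (u w x : Fin n → F) (hx : ¬ ∃ a b : F, x = a • u + b • w) :
    ∃ φ : Fin n → F, φ ⬝ᵥ u = 0 ∧ φ ⬝ᵥ w = 0 ∧ φ ⬝ᵥ x = 1 := by
  have hx' : x ∉ Submodule.span F {u, w} := by
    rw [Submodule.mem_span_pair]
    rintro ⟨a, b, hab⟩
    exact hx ⟨a, b, hab.symm⟩
  obtain ⟨φ, h1, h2⟩ := exists_cov_of_notMem _ x hx'
  exact ⟨φ, h1 u (Submodule.subset_span (by simp)), h1 w (Submodule.subset_span (by simp)), h2⟩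

/-- Double annihilator for a pair: a vector killed by every covector killing `u, w` lies in their span. -/
theorem mem_span_pair_of_ann (u w z : Fin n → F)
    (h : ∀ ψ : Fin n → F, ψ ⬝ᵥ u = 0 → ψ ⬝ᵥ w = 0 → ψ ⬝ᵥ z = 0) :
    ∃ a b : F, z = a • u + b • w := by
  by_contra hz
  obtain ⟨φ, h1, h2, h3⟩ := exists_cov_sep_pair u w z hz
  rw [h φ h1 h2] at h3
  exact zero_ne_one h3

/-- Double annihilator for a single vector. -/
theorem mem_span_of_ann (v z : Fin n → F) (h : ∀ ψ : Fin n → F, ψ ⬝ᵥ v = 0 → ψ ⬝ᵥ z = 0) :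
    ∃ c : F, z = c • v := by
  by_contra hz
  obtain ⟨φ, h1, h2⟩ := exists_cov_sep v z hz
  rw [h φ h1] at h2
  exact zero_ne_one h2

/-- In dimension `≥ 3` there is a vector outside any given pair's span. -/
theorem exists_notMem_span_pair (hn : 3 ≤ n) (u w : Fin n → F) :
    ∃ x : Fin n → F, ¬ ∃ a b : F, x = a • u + b • w := by
  by_contra hcon
  push Not at hcon
  have htop : Submodule.span F {u, w} = ⊤ := by
    rw [eq_top_iff]
    intro x _
    obtain ⟨a, b, hab⟩ := hcon x
    rw [Submodule.mem_span_pair]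
    exact ⟨a, b, hab.symm⟩
  have h1 : Module.finrank F (Submodule.span F ({u, w} : Set (Fin n → F))) ≤ 2 := by
    classical
    have := finrank_span_finset_le_card (R := F) ({u, w} : Finset (Fin n → F))
    rw [Finset.coe_insert, Finset.coe_singleton] at this
    exact this.trans (Finset.card_le_two)
  rw [htop, finrank_top, Module.finrank_fin_fun] at h1
  omega

section card

variable [Fintype F]

/-- The hyperplane of covectors killing `v ≠ 0` has `q^(n-1)` elements. -/
theorem card_annV (v : Fin n → F) (hv : v ≠ 0) :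
    Nat.card (annV v) = (Fintype.card F) ^ (n - 1) := by
  classical
  let ℓ : (Fin n → F) →+ F :=
    { toFun := fun φ => φ ⬝ᵥ v
      map_zero' := by simp
      map_add' := fun a b => add_dotProduct a b v }
  have hker : annV v = ℓ.ker := by
    ext φ
    rw [mem_annV, AddMonoidHom.mem_ker]
    rfl
  have hsurj : Function.Surjective ℓ := by
    intro c
    obtain ⟨φ, hφ⟩ := exists_cov_one v hv
    refine ⟨c • φ, ?_⟩
    show (c • φ) ⬝ᵥ v = c
    rw [smul_dotProduct, hφ, smul_eq_mul, mul_one]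
  have hidx : (annV v).index = Fintype.card F := by
    rw [hker, AddSubgroup.index_ker, AddMonoidHom.range_eq_top.mpr hsurj]
    rw [Nat.card_eq_fintype_card]
    exact (Fintype.card_congr (AddSubgroup.topEquiv (G := F)).toEquiv)
  have hmul := AddSubgroup.card_mul_index (annV v)
  rw [hidx, Nat.card_eq_fintype_card (α := Fin n → F), Fintype.card_fun, Fintype.card_fin] at hmul
  have hn : 1 ≤ n := by
    rcases Nat.eq_zero_or_pos n with h0 | h
    · subst h0
      exact absurd (Subsingleton.elim v 0) hv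
    · exact h
  have hq : 0 < Fintype.card F := Fintype.card_pos
  have : Fintype.card F ^ n = Fintype.card F ^ (n - 1) * Fintype.card F := by
    rw [← pow_succ]
    congr 1
    omega
  rw [this] at hmul
  exact Nat.eq_of_mul_eq_mul_right hq hmul

end card

end Cfsg.Agent.S2140P
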