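import Mathlib

set_option autoImplicit false
set_option linter.unusedSectionVars false
set_option linter.unusedVariables false

/-! # S0679 (driver helper13, chapter (6) designer helper18): piece PRIME (helper4). -/

namespace Cfsg.Agent.S0679P

open Equiv MulAction

variable {α : Type*} [Fintype α] [DecidableEq α] {G : Subgroup (Equiv.Perm α)}

/-- PRIME (S): a non-identity permutation has a power of prime order, with smaller support. -/
theorem PRIME {g : Perm α} (hg : g ≠ 1) :
    ∃ k : ℕ, (orderOf (g ^ k)).Prime ∧ (g ^ k).support ⊆ g.support := by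
  have hpos : 0 < orderOf g := orderOf_pos g
  have hne1 : orderOf g ≠ 1 := by
    intro h
    exact hg (orderOf_eq_one_iff.mp h)
  have hpr : (orderOf g).minFac.Prime := Nat.minFac_prime hne1
  have hdvd : (orderOf g).minFac ∣ orderOf g := Nat.minFac_dvd _
  refine ⟨orderOf g / (orderOf g).minFac, ?_, Equiv.Perm.support_pow_le g _⟩
  rw [orderOf_pow_orderOf_div hpos.ne' hdvd]
  exact hpr

end Cfsg.Agent.S0679P
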