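import Mathlib
import Cfsg.Agent.Helper2.S2094.DefsR

set_option autoImplicit false
set_option linter.unusedSectionVars false
set_option linter.unusedVariables false

/-! S2094 piece UDECB (helper4; driver helper2): `Û = Û_D · ∏ Y_{e_i}`. -/

namespace Cfsg.Agent.S2094P

open Matrix Cfsg.Agent.S3352P Cfsg.Agent.S3351P Cfsg.Agent.S2096P Cfsg.Agent.RGD
open Cfsg.Agent.S3352P.POSCOMB (rk_inl rk_inr rk_lt rk_ng')

variable {n : ℕ} {F : Type*} [Field F] {M : Type*} [Group M] {X : J n → J n → F → M}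
  {Ys : J n → F → M}

namespace UDECB

/-- ordered partial products of a sequence -/
def pp (f : ℕ → M) : ℕ → M
  | 0 => 1
  | k + 1 => pp f k * f k

theorem pp_congr (f g : ℕ → M) (k : ℕ) (h : ∀ i, i < k → f i = g i) : pp f k = pp g k := by
  induction k with
  | zero => rfl
  | succ k ih =>
    show pp f k * f k = pp g k * g k
    rw [ih (fun i hi => h i (Nat.lt_succ_of_lt hi)), h k (Nat.lt_succ_self k)]

theorem prod_ofFn_eq_pp (f : ℕ → M) (m : ℕ) :
    (List.ofFn (fun i : Fin m => f i.val)).prod = pp f m := by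
  induction m with
  | zero => simp [pp]
  | succ m ih =>
    rw [List.ofFn_succ', List.concat_eq_append, List.prod_append, List.prod_singleton]
    simp only [Fin.val_castSucc, Fin.val_last]
    rw [ih]
    rfl

/-- the group generated by the positive long root elements and the first `k` short ones -/
def W (X : J n → J n → F → M) (Ys : J n → F → M) (k : ℕ) : Subgroup M :=
  Subgroup.closure ({g | ∃ a b, ∃ t : F, Pos a b ∧ g = X a b t} ∪
    {g | ∃ i : Fin n, ∃ t : F, i.val < k ∧ g = Ys (Sum.inl i) t})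

theorem X_mem_W (k : ℕ) {a b : J n} (hab : Pos a b) (t : F) : X a b t ∈ W X Ys k :=
  Subgroup.subset_closure (Or.inl ⟨a, b, t, hab, rfl⟩)

theorem Ys_mem_W (k : ℕ) (i : Fin n) (hi : i.val < k) (t : F) : Ys (Sum.inl i) t ∈ W X Ys k :=
  Subgroup.subset_closure (Or.inr ⟨i, t, hi, rfl⟩)

theorem pos_inl_inr (i j : Fin n) (hij : i ≠ j) : Pos (Sum.inl i : J n) (Sum.inr j) := by
  refine And.intro (And.intro (fun h => by cases h) (fun h => hij ?_)) ?_
  · rw [ng_inr] at h
    exact Sum.inl_injective h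
  · rw [rk_inl, rk_inr]
    have h1 := i.2
    have h2 := j.2
    omega

/-- conjugating `X a (e_j) t` by `Ys (e_j) s` -/
theorem conj_X_snd (hB : BRel X Ys) (k : ℕ) (j : Fin n) (hj : j.val = k) (s : F) {a : J n}
    (hab : Pos a (Sum.inl j)) (t : F) :
    Ys (Sum.inl j) s * X a (Sum.inl j) t * (Ys (Sum.inl j) s)⁻¹ ∈ W X Ys k := by
  obtain ⟨i, rfl⟩ : ∃ i : Fin n, a = Sum.inl i := by
    rcases a with i | i
    · exact ⟨i, rfl⟩
    · exfalso
      have h1 := hab.2
      rw [rk_inl, rk_inr] at h1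
      have h2 := i.2
      have h3 := j.2
      omega
  have hik : i.val < k := by
    have h1 := hab.2
    rw [rk_inl, rk_inl] at h1
    omega
  have hij : i ≠ j := fun h => by rw [h] at hik; omega
  have h1 := hB.xy _ _ hab.1 t s
  rw [cm_def] at h1
  have h2 : Ys (Sum.inl j) s * X (Sum.inl i) (Sum.inl j) t * (Ys (Sum.inl j) s)⁻¹ =
      (Ys (Sum.inl i) (t * s) * X (Sum.inl i) (ng (Sum.inl j)) (t * s * s))⁻¹ *
        X (Sum.inl i) (Sum.inl j) t := by
    rw [← h1]; group
  rw [h2]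
  refine (W X Ys k).mul_mem ((W X Ys k).inv_mem ((W X Ys k).mul_mem ?_ ?_)) ?_
  · exact Ys_mem_W k i hik _
  · rw [ng_inl]
    exact X_mem_W k (pos_inl_inr i j hij) _
  · exact X_mem_W k hab _

/-- `Ys (e_j) s` normalizes `W j` -/
theorem conj_mem_W (hB : BRel X Ys) (k : ℕ) (j : Fin n) (hj : j.val = k) (s : F) {w : M}
    (hw : w ∈ W X Ys k) : Ys (Sum.inl j) s * w * (Ys (Sum.inl j) s)⁻¹ ∈ W X Ys k := by
  induction hw using Subgroup.closure_induction with
  | one => rw [mul_one, mul_inv_cancel]; exact (W X Ys k).one_mem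
  | mul x y _ _ hx hy =>
    have : Ys (Sum.inl j) s * (x * y) * (Ys (Sum.inl j) s)⁻¹ =
        (Ys (Sum.inl j) s * x * (Ys (Sum.inl j) s)⁻¹) *
          (Ys (Sum.inl j) s * y * (Ys (Sum.inl j) s)⁻¹) := by group
    rw [this]
    exact (W X Ys k).mul_mem hx hy
  | inv x _ hx =>
    have : Ys (Sum.inl j) s * x⁻¹ * (Ys (Sum.inl j) s)⁻¹ =
        (Ys (Sum.inl j) s * x * (Ys (Sum.inl j) s)⁻¹)⁻¹ := by group
    rw [this]
    exact (W X Ys k).inv_mem hx
  | mem x hx =>
    rcases hx with ⟨a, b, t, hab, rfl⟩ | ⟨i, t, hik, rfl⟩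
    · by_cases hb : b = Sum.inl j
      · subst hb
        exact conj_X_snd hB k j hj s hab t
      · by_cases ha : a = ng (Sum.inl j)
        · -- the other name of the root
          have hflip : X a b t = X (ng b) (ng a) (-t) := by
            have := hB.dX.flip (ng b) (ng a) hab.1.flip t
            rw [ng_ng, ng_ng] at this
            exact this
          have hng : ng a = Sum.inl j := by rw [ha, ng_ng]
          have hpos : Pos (ng b) (Sum.inl j) := by
            refine ⟨by rw [← hng]; exact hab.1.flip, ?_⟩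
            have h1 := hab.2
            rw [ha, ng_inl, rk_inr] at h1
            rw [rk_ng', rk_inl]
            have h2 := rk_lt b
            have h3 := j.2
            omega
          rw [hflip, hng]
          exact conj_X_snd hB k j hj s hpos (-t)
        · have hc := hB.ycomm (Sum.inl j) a b hab.1 hb ha s t
          have : Ys (Sum.inl j) s * X a b t * (Ys (Sum.inl j) s)⁻¹ = X a b t := by
            rw [hc]; group
          rw [this]
          exact X_mem_W k hab t
    · have hij : j ≠ i := fun h => by rw [h] at hj; omega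
      have hroot : IsRoot (Sum.inl j : J n) (Sum.inl i) :=
        ⟨fun h => hij (Sum.inl_injective h), fun h => by rw [ng_inl] at h; cases h⟩
      have h1 := hB.yy _ _ hroot s t
      rw [cm_def] at h1
      have h2 : Ys (Sum.inl j) s * Ys (Sum.inl i) t * (Ys (Sum.inl j) s)⁻¹ =
          X (Sum.inl j) (ng (Sum.inl i)) (-(2 * s * t)) * Ys (Sum.inl i) t := by
        rw [← h1]; group
      rw [h2, ng_inl]
      exact (W X Ys k).mul_mem (X_mem_W k (pos_inl_inr j i hij) _) (Ys_mem_W k i hik _)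

/-- `W (k+1) = W k · Y_k` -/
theorem exists_mul_of_mem_W_succ (hB : BRel X Ys) (k : ℕ) (j : Fin n) (hj : j.val = k) {u : M}
    (hu : u ∈ W X Ys (k + 1)) : ∃ w ∈ W X Ys k, ∃ s : F, u = w * Ys (Sum.inl j) s := by
  -- right multiplication by a generator
  have step : ∀ x : M, (∃ w ∈ W X Ys k, ∃ s : F, x = w * Ys (Sum.inl j) s) →
      ∀ y ∈ ({g | ∃ a b, ∃ t : F, Pos a b ∧ g = X a b t} ∪
        {g | ∃ i : Fin n, ∃ t : F, i.val < k + 1 ∧ g = Ys (Sum.inl i) t} : Set M),
      ∃ w ∈ W X Ys k, ∃ s : F, x * y = w * Ys (Sum.inl j) s := by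
    rintro x ⟨w, hw, s, rfl⟩ y hy
    have hconj : ∀ y ∈ W X Ys k, ∃ w' ∈ W X Ys k, ∃ s' : F,
        w * Ys (Sum.inl j) s * y = w' * Ys (Sum.inl j) s' := by
      intro y hy
      refine ⟨w * (Ys (Sum.inl j) s * y * (Ys (Sum.inl j) s)⁻¹),
        (W X Ys k).mul_mem hw (conj_mem_W hB k j hj s hy), s, ?_⟩
      group
    rcases hy with ⟨a, b, t, hab, rfl⟩ | ⟨i, t, hik, rfl⟩
    · exact hconj _ (X_mem_W k hab t)
    · by_cases hi : i.val < k
      · exact hconj _ (Ys_mem_W k i hi t)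
      · have hij : i = j := Fin.ext (by omega)
        subst hij
        exact ⟨w, hw, s + t, by rw [hB.yadd, mul_assoc]⟩
  induction hu using Subgroup.closure_induction_right with
  | one => exact ⟨1, (W X Ys k).one_mem, 0, by rw [Ys_zero hB, mul_one]⟩
  | mul_right x _ y hy ih => exact step x ih y hy
  | mul_inv_cancel x _ y hy ih =>
    apply step x ih
    rcases hy with ⟨a, b, t, hab, rfl⟩ | ⟨i, t, hik, rfl⟩
    · exact Or.inl ⟨a, b, -t, hab, WCONJ.X_inv hB.dX hab.1 t⟩
    · exact Or.inr ⟨i, -t, hik, Ys_inv hB _ t⟩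

/-- the elements of `W k` -/
theorem exists_of_mem_W (hB : BRel X Ys) (k : ℕ) (hk : k ≤ n) {u : M} (hu : u ∈ W X Ys k) :
    ∃ d ∈ Uh X, ∃ t : ℕ → F,
      u = d * pp (fun i => if h : i < n then Ys (Sum.inl ⟨i, h⟩) (t i) else 1) k := by
  induction k generalizing u with
  | zero =>
    refine ⟨u, ?_, fun _ => 0, by simp [pp]⟩
    have hle : W X Ys 0 ≤ Uh X := by
      unfold W Uh
      rw [Subgroup.closure_le]
      rintro g (⟨a, b, t, hab, rfl⟩ | ⟨i, t, hi, rfl⟩)
      · exact Subgroup.subset_closure ⟨a, b, t, hab, rfl⟩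
      · exact absurd hi (Nat.not_lt_zero _)
    exact hle hu
  | succ k ih =>
    have hkn : k < n := hk
    obtain ⟨w, hw, s, rfl⟩ := exists_mul_of_mem_W_succ hB k ⟨k, hkn⟩ rfl hu
    obtain ⟨d, hd, t, rfl⟩ := ih (Nat.le_of_lt hkn) hw
    refine ⟨d, hd, Function.update t k s, ?_⟩
    show _ = d * (pp _ k * (if h : k < n then Ys (Sum.inl ⟨k, h⟩) (Function.update t k s k) else 1))
    rw [dif_pos hkn, Function.update_self, mul_assoc]
    congr 2
    apply pp_congr
    intro i hi
    have hne : i ≠ k := Nat.ne_of_lt hi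
    simp only [Function.update_of_ne hne]

end UDECB

open UDECB in
/-- UDECB: `Û = Û_D · ∏ Y_{e_i}` -/
theorem exists_UhD_mul_prod (hn : 3 ≤ n) (hB : BRel X Ys) {u : M}
    (hu : u ∈ (datumB X Ys).Uh) :
    ∃ d ∈ Uh X, ∃ t : Fin n → F,
      u = d * (List.ofFn (fun i : Fin n => Ys (Sum.inl i) (t i))).prod := by
  have hle : (datumB X Ys).Uh ≤ W X Ys n := by
    unfold Datum.Uh
    rw [Subgroup.closure_le]
    rintro g ⟨⟨r, hr⟩, hpos, hg⟩
    cases r with
    | lg a b =>
      obtain ⟨t, rfl⟩ := (mem_U_lg hB hr).1 hg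
      exact X_mem_W n ⟨hr, hpos⟩ t
    | sh a =>
      obtain ⟨t, rfl⟩ := (mem_U_sh hB a).1 hg
      obtain ⟨i, rfl⟩ := hpos
      exact Ys_mem_W n i i.2 t
  obtain ⟨d, hd, t, rfl⟩ := exists_of_mem_W hB n le_rfl (hle hu)
  refine ⟨d, hd, fun i => t i.val, ?_⟩
  congr 1
  rw [← prod_ofFn_eq_pp]
  congr 1
  apply congrArg
  funext i
  rw [dif_pos i.2]

end Cfsg.Agent.S2094P
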