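import Cfsg.Agent.Helper27.S5634BDefs
import Cfsg.Agent.Lead.S5634BEE1
import Cfsg.Agent.Helper25.S5634BDUAL1
import Cfsg.Agent.Helper25.S5634BDUAL2
import Cfsg.Agent.Helper11.S5634BLCLA

set_option autoImplicit false
set_option linter.unusedSectionVars false
set_option linter.unusedVariables false

/-! # S5634, half `m ≥ 2` (driver helper27): piece B_SPREADP (`SPREAD.pair`)

From one off-diagonal block transvection `T(x, χ)`, `x ∈ D c`, `χ ∈ Dl D d`, `c ≠ d`, to all of them for the same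
pair of blocks. -/

namespace Cfsg.Agent.S5634P

open Matrix Cfsg.Agent.Helper28.SLMax
open scoped MatrixGroups

variable {F : Type*} [Field F] {n t m : ℕ} {D : Fin t → Submodule F (Fin n → F)}

/-- in a vector space, `x ≠ 0`, `y ∉ span {x}` implies `x ∉ span {y}` -/
theorem SPREAD.notMem_span_symm {V : Type*} [AddCommGroup V] [Module F V] {x y : V} (hx0 : x ≠ 0)
    (h : y ∉ Submodule.span F {x}) : x ∉ Submodule.span F {y} := by
  intro hx
  rcases Submodule.mem_span_singleton.1 hx with ⟨a, rfl⟩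
  have ha : a ≠ 0 := by
    rintro rfl
    exact hx0 (zero_smul F y)
  apply h
  refine Submodule.mem_span_singleton.2 ⟨a⁻¹, ?_⟩
  rw [smul_smul, inv_mul_cancel₀ ha, one_smul]

/-- the centre step off the line of `x` -/
theorem SPREAD.center_off (hD : Cfsg.Geo.IsMDecomposition m D) (M : Subgroup (GL (Fin n) F))
    (hHM : HH D ≤ M) {c d : Fin t} (hcd : c ≠ d) {x χ : Fin n → F} (hx : x ∈ D c) (hx0 : x ≠ 0)
    (hχ : χ ∈ Dl D d) (hT : EE x χ ∈ M) {y : Fin n → F} (hy : y ∈ D c)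
    (hyx : y ∉ Submodule.span F {x}) : EE y χ ∈ M := by
  obtain ⟨η, hη, hηy, hηx⟩ := DUAL.exists_one hD hx hy (SPREAD.notMem_span_symm hx0 hyx)
  have h1 := LC hD M hHM hT (DUAL.dot_of_mem_ne hD hχ hx hcd) hy hη hηy
    (DUAL.dot_of_mem_ne hD hχ hy hcd)
  rwa [hηx, one_smul] at h1

/-- the centre step -/
theorem SPREAD.center (hD : Cfsg.Geo.IsMDecomposition m D) (hm : 2 ≤ m) (M : Subgroup (GL (Fin n) F))
    (hHM : HH D ≤ M) {c d : Fin t} (hcd : c ≠ d) {x χ : Fin n → F} (hx : x ∈ D c) (hx0 : x ≠ 0)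
    (hχ : χ ∈ Dl D d) (hT : EE x χ ∈ M) {y : Fin n → F} (hy : y ∈ D c) : EE y χ ∈ M := by
  by_cases hyx : y ∈ Submodule.span F {x}
  · obtain ⟨y', hy', hy'x⟩ := DUAL.exists_indep hD hm c x
    have h1 : EE (y - y') χ ∈ M := by
      refine SPREAD.center_off hD M hHM hcd hx hx0 hχ hT ((D c).sub_mem hy hy') ?_
      intro h
      apply hy'x
      have := (Submodule.span F {x}).sub_mem hyx h
      rwa [sub_sub_cancel] at this
    have h2 : EE y' χ ∈ M := SPREAD.center_off hD M hHM hcd hx hx0 hχ hT hy' hy'x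
    have h3 := EE.mul_center (DUAL.dot_of_mem_ne hD hχ ((D c).sub_mem hy hy') hcd)
      (DUAL.dot_of_mem_ne hD hχ hy' hcd)
    rw [sub_add_cancel] at h3
    rw [← h3]
    exact M.mul_mem h1 h2
  · exact SPREAD.center_off hD M hHM hcd hx hx0 hχ hT hy hyx

/-- same pair of blocks. Centre: `y ∈ D c` off the line of `x`: `η ∈ Dl D c`, `η y = 0`, `η x = 1`, `LC` gives
`T(y, χ)`; `y` on the line: `y = (y - y') + y'` and `EE.mul_center`. Axis: `η ∉ span {χ}`: `z ∈ D d`, `η z = 0`,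
`χ z = 1` (`DUAL.exists_vec`) and `LA` gives `T(y, η)`; `η = λ χ`: `EE.smul`. -/
theorem SPREAD.pair (hD : Cfsg.Geo.IsMDecomposition m D) (hm : 2 ≤ m) (M : Subgroup (GL (Fin n) F))
    (hHM : HH D ≤ M) {c d : Fin t} (hcd : c ≠ d) {x χ : Fin n → F} (hx : x ∈ D c) (hx0 : x ≠ 0)
    (hχ : χ ∈ Dl D d) (hχ0 : χ ≠ 0) (hT : EE x χ ∈ M) : ∀ y ∈ D c, ∀ η ∈ Dl D d, EE y η ∈ M := by
  intro y hy η hη
  by_cases hηχ : η ∈ Submodule.span F {χ}
  · rcases Submodule.mem_span_singleton.1 hηχ with ⟨a, rfl⟩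
    rw [← EE.smul]
    exact SPREAD.center hD hm M hHM hcd hx hx0 hχ hT ((D c).smul_mem a hy)
  · obtain ⟨z, hz, hηz, hχz⟩ := DUAL.exists_vec hD hχ hη (SPREAD.notMem_span_symm hχ0 hηχ)
    have h1 : EE y χ ∈ M := SPREAD.center hD hm M hHM hcd hx hx0 hχ hT hy
    have h2 := LA hD M hHM h1 (DUAL.dot_of_mem_ne hD hχ hy hcd) hz hη hηz
      (DUAL.dot_of_mem_ne hD hη hy hcd)
    rwa [hχz, one_smul] at h2

end Cfsg.Agent.S5634P
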