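import Mathlib
import Cfsg.Prelude.Def_GeometricClasses
import Cfsg.Agent.Helper29.S5655.Defs

/-!
S5655 (half k ≥ 2), piece GSPLIT2 (helper4): splitting a vector with prescribed norms and non-orthogonal parts.
-/

set_option autoImplicit false

namespace Cfsg.Agent.S5655P

open Matrix Module
open Cfsg.Agent.S2644 Cfsg.Agent.Helper2.SUGen Cfsg.Agent.Helper28.SimMax Cfsg.Agent.S5658P

variable {K : Type*} [Field K] {q n t k : ℕ}

local notation "h" => Cfsg.hermForm n K q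
local notation "T" => Cfsg.unitaryTransvection n q

namespace GSPLIT2

/-- the part of `Y` orthogonal to `c` and `c'` -/
def cut (Y : Submodule K (Fin n → K)) (c c' : Fin n → K) : Submodule K (Fin n → K) where
  carrier := {y | y ∈ Y ∧ h y c = 0 ∧ h y c' = 0}
  add_mem' := by
    rintro a b ⟨ha, hac, hac'⟩ ⟨hb, hbc, hbc'⟩
    refine ⟨Y.add_mem ha hb, ?_, ?_⟩
    · rw [h_add_left, hac, hbc, add_zero]
    · rw [h_add_left, hac', hbc', add_zero]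
  zero_mem' := ⟨Y.zero_mem, h_zero_left c, h_zero_left c'⟩
  smul_mem' := by
    rintro a b ⟨hb, hbc, hbc'⟩
    refine ⟨Y.smul_mem a hb, ?_, ?_⟩
    · rw [h_smul_left, hbc, mul_zero]
    · rw [h_smul_left, hbc', mul_zero]

/-- the finishing step: `e₂ := c - e₁` -/
theorem finish (D : Frob K q) {Y : Submodule K (Fin n → K)} {c : Fin n → K} (hc : c ∈ Y)
    {ν₁ ν₂ s : K} (h1 : D.σ ν₁ = ν₁) (hsum : ν₁ + ν₂ = h c c) (hs0 : s ≠ 0) (hs : D.σ s = -s)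
    {e₁ : Fin n → K} (he₁ : e₁ ∈ Y) (hn : h e₁ e₁ = ν₁) (hec : h e₁ c = ν₁ + s) :
    ∃ e₁ ∈ Y, ∃ e₂ ∈ Y, e₁ + e₂ = c ∧ h e₁ e₁ = ν₁ ∧ h e₂ e₂ = ν₂ ∧ h e₁ e₂ ≠ 0 := by
  have hce : h c e₁ = ν₁ - s := by
    rw [← h_conj D c e₁, hec, map_add, h1, hs]; ring
  refine ⟨e₁, he₁, c - e₁, Y.sub_mem hc he₁, by abel, hn, ?_, ?_⟩
  · rw [h_sub_left, h_sub_right D, h_sub_right D, hn, hec, hce, ← hsum]; ring
  · rw [h_sub_right D, hn, hec]
    have : ν₁ + s - ν₁ = s := by ring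
    rw [this]; exact hs0

/-- scaling an anisotropic vector to a prescribed norm -/
theorem exists_scale [Finite K] (D : Frob K q) {d₀ : Fin n → K} (hd₀ : h d₀ d₀ ≠ 0) (δ : K)
    (hδ : D.σ δ = δ) : ∃ μ : K, h (μ • d₀) (μ • d₀) = δ := by
  by_cases h0 : δ = 0
  · refine ⟨0, ?_⟩
    rw [zero_smul, h_zero_left, h0]
  · have hfix : D.σ (δ / h d₀ d₀) = δ / h d₀ d₀ := by
      rw [map_div₀, hδ, h_self_fix D]
    obtain ⟨μ, hμ⟩ := exists_norm D (δ / h d₀ d₀) (div_ne_zero h0 hd₀) hfix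
    refine ⟨μ, ?_⟩
    rw [h_smul_left, h_smul_right D, ← mul_assoc, hμ, div_mul_cancel₀ _ hd₀]

/-- isotropic case, `η = ν₁ + s ≠ 0` -/
theorem iso_case (D : Frob K q) {Y : Submodule K (Fin n → K)} {c c' : Fin n → K} (hc : c ∈ Y)
    (hc' : c' ∈ Y) (hcc : h c c = 0) (hc'c' : h c' c' = 0) (hcc' : h c c' = 1) (hc'c : h c' c = 1)
    {ν₁ s : K} (h1 : D.σ ν₁ = ν₁) (hs : D.σ s = -s) (hη : ν₁ + s ≠ 0) :
    ∃ e₁ ∈ Y, h e₁ e₁ = ν₁ ∧ h e₁ c = ν₁ + s := by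
  have hση : D.σ (ν₁ + s) ≠ 0 := σ_ne_zero D hη
  obtain ⟨t₀, ht₀⟩ := exists_trace D ν₁ h1
  refine ⟨(t₀ / D.σ (ν₁ + s)) • c + (ν₁ + s) • c', Y.add_mem (Y.smul_mem _ hc) (Y.smul_mem _ hc'),
    ?_, ?_⟩
  · have e1 : t₀ / D.σ (ν₁ + s) * D.σ (ν₁ + s) = t₀ := div_mul_cancel₀ _ hση
    have e2 : (ν₁ + s) * D.σ (t₀ / D.σ (ν₁ + s)) = D.σ t₀ := by
      rw [map_div₀, D.invol, mul_div_cancel₀ _ hη]
    simp only [h_add_left, h_add_right D, h_smul_left, h_smul_right D, hcc, hc'c', hcc', hc'c]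
    linear_combination e1 + e2 + ht₀
  · rw [h_add_left, h_smul_left, h_smul_left, hcc, hc'c]; ring

end GSPLIT2

/-- piece GSPLIT2 (L): splitting a vector with prescribed norms and non-orthogonal parts.  Need `e₁ ∈ Y`
with `h e₁ e₁ = ν₁`, `h e₁ c = ν₁ + s`, `s ≠ 0` skew (then `e₂ = c - e₁`, `h e₁ e₂ = s`).
`c` anisotropic: `e₁ = λ • c + d`, `d ∈ c^⊥ ∩ Y` of the right norm.  `c` isotropic, partner `c*`:
`e₁ = ξ • c + η • c*`, `η = ν₁ + s ≠ 0`, `Tr (ξ σ η) = ν₁`; if `q = 2`, `ν₁ = 1`: `e₁ = d` anisotropic in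
`⟨c, c*⟩^⊥ ∩ Y` (dimension `≥ 3`), `h e₁ e₂ = -1`. -/
theorem GSPLIT2.exists [Fintype K] (D : Frob K q) (hK : Fintype.card K = q ^ 2)
    {Y : Submodule K (Fin n → K)} (hY : NonDeg q Y) (hd : 2 ≤ finrank K Y)
    (h3 : 3 ≤ finrank K Y ∨ 3 ≤ q) {c : Fin n → K} (hc : c ∈ Y) (hc0 : c ≠ 0) (ν₁ ν₂ : K)
    (h1 : D.σ ν₁ = ν₁) (h2 : D.σ ν₂ = ν₂) (hsum : ν₁ + ν₂ = h c c) :
    ∃ e₁ ∈ Y, ∃ e₂ ∈ Y, e₁ + e₂ = c ∧ h e₁ e₁ = ν₁ ∧ h e₂ e₂ = ν₂ ∧ h e₁ e₂ ≠ 0 := by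
  obtain ⟨s₀, hs₀0, hs₀⟩ := exists_skew D
  by_cases hγ : h c c = 0
  · -- `c` isotropic
    obtain ⟨c', hc', hc'c', hcc', hc'c⟩ := exists_partner D hY hc hc0 hγ
    by_cases hη : ν₁ + s₀ = 0
    · rcases h3 with h3 | h3
      · -- an anisotropic vector of `Y` orthogonal to `c`, `c'`
        obtain ⟨y, hy, hyn⟩ := exists_not_pair h3 c c'
        obtain ⟨y₁, hy₁⟩ : ∃ y₁ : Fin n → K, y₁ = y - (h y c') • c - (h y c) • c' := ⟨_, rfl⟩
        have hproj : ∀ v ∈ Y, v - (h v c') • c - (h v c) • c' ∈ GSPLIT2.cut (q := q) Y c c' := by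
          intro v hv
          refine ⟨Y.sub_mem (Y.sub_mem hv (Y.smul_mem _ hc)) (Y.smul_mem _ hc'), ?_, ?_⟩
          · rw [h_sub_left, h_sub_left, h_smul_left, h_smul_left, hγ, hc'c]; ring
          · rw [h_sub_left, h_sub_left, h_smul_left, h_smul_left, hcc', hc'c']; ring
        have hy₁Z : y₁ ∈ GSPLIT2.cut (q := q) Y c c' := by rw [hy₁]; exact hproj y hy
        have hy₁0 : y₁ ≠ 0 := by
          intro h0
          apply hyn (h y c') (h y c)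
          rw [hy₁, sub_sub, sub_eq_zero] at h0
          exact h0
        obtain ⟨v, hv, hy₁v⟩ : ∃ v ∈ Y, h y₁ v ≠ 0 := by
          by_contra hcon
          push Not at hcon
          exact hy₁0 (hY y₁ hy₁Z.1 hcon)
        obtain ⟨v₁, hv₁⟩ : ∃ v₁ : Fin n → K, v₁ = v - (h v c') • c - (h v c) • c' := ⟨_, rfl⟩
        have hv₁Z : v₁ ∈ GSPLIT2.cut (q := q) Y c c' := by rw [hv₁]; exact hproj v hv
        have hy₁v₁ : h y₁ v₁ ≠ 0 := by
          have : h y₁ v₁ = h y₁ v := by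
            rw [hv₁, h_sub_right D, h_sub_right D, h_smul_right D, h_smul_right D, hy₁Z.2.1,
              hy₁Z.2.2]
            ring
          rw [this]; exact hy₁v
        obtain ⟨d₀, hd₀Z, hd₀⟩ := exists_aniso_of_pair D hy₁Z hv₁Z hy₁v₁
        obtain ⟨μ, hμ⟩ := GSPLIT2.exists_scale D hd₀ ν₁ h1
        apply GSPLIT2.finish D hc h1 hsum hs₀0 hs₀ (Y.smul_mem μ hd₀Z.1) hμ
        rw [h_smul_left, hd₀Z.2.1, mul_zero, hη]
      · -- `q ≥ 3`: another skew element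
        obtain ⟨l, hl0, hl1, hlfix⟩ := exists_fixed_ne D hK (by omega)
        have hs : D.σ (l * s₀) = -(l * s₀) := by rw [map_mul, hlfix, hs₀]; ring
        have hls0 : l * s₀ ≠ 0 := mul_ne_zero hl0 hs₀0
        have hη' : ν₁ + l * s₀ ≠ 0 := by
          have : ν₁ + l * s₀ = (l - 1) * s₀ := by linear_combination hη
          rw [this]
          exact mul_ne_zero (sub_ne_zero.mpr hl1) hs₀0
        obtain ⟨e₁, he₁, hn, hec⟩ := GSPLIT2.iso_case D hc hc' hγ hc'c' hcc' hc'c h1 hs hη'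
        exact GSPLIT2.finish D hc h1 hsum hls0 hs he₁ hn hec
    · obtain ⟨e₁, he₁, hn, hec⟩ := GSPLIT2.iso_case D hc hc' hγ hc'c' hcc' hc'c h1 hs₀ hη
      exact GSPLIT2.finish D hc h1 hsum hs₀0 hs₀ he₁ hn hec
  · -- `c` anisotropic
    obtain ⟨z', hz', hz'n⟩ := exists_not_smul hd c
    obtain ⟨d₀, hd₀Y, hd₀c, hd₀⟩ := exists_aniso_perp D hY hc hγ hz' hz'n
    have hγfix : D.σ (h c c) = h c c := h_self_fix D c
    obtain ⟨lam, hlam⟩ : ∃ lam : K, lam = (ν₁ + s₀) / h c c := ⟨_, rfl⟩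
    have hlamγ : lam * h c c = ν₁ + s₀ := by rw [hlam, div_mul_cancel₀ _ hγ]
    have hδfix : D.σ (ν₁ - lam * D.σ lam * h c c) = ν₁ - lam * D.σ lam * h c c := by
      rw [map_sub, map_mul, map_mul, D.invol, h1, hγfix]; ring
    obtain ⟨μ, hμ⟩ := GSPLIT2.exists_scale D hd₀ (ν₁ - lam * D.σ lam * h c c) hδfix
    have hdc : h (μ • d₀) c = 0 := by rw [h_smul_left, hd₀c, mul_zero]
    have hcd : h c (μ • d₀) = 0 := h_symm_zero D hdc
    apply GSPLIT2.finish D hc h1 hsum hs₀0 hs₀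
      (Y.add_mem (Y.smul_mem lam hc) (Y.smul_mem μ hd₀Y))
    · rw [h_add_left, h_add_right D, h_add_right D, hμ, h_smul_left, h_smul_right D, h_smul_left,
        hcd, h_smul_right D, hdc]
      ring
    · rw [h_add_left, hdc, h_smul_left, hlamγ, add_zero]

end Cfsg.Agent.S5655P
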