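import Mathlib
import Cfsg.Prelude.Def_GeometricClasses
import Cfsg.Agent.Helper18.S5707.Defs
import Cfsg.Agent.Helper17.S5707ENT
import Cfsg.Agent.Helper20.S5707TENS

/-! S5707 piece K2ZNOTNORM (driver helper18): `z = 1 + E⊗E⊗E` does not normalise `calV L2`. -/

set_option autoImplicit false

namespace Cfsg.Agent.S5707P

open Matrix

variable {F : Type*} [Field F] {k t : ℕ}

namespace K2ZNOTNORM

/-- the three-site family -/
theorem Ns_apply (s1 s2 s3 : Fin t) (h12 : s1 ≠ s2) (h13 : s1 ≠ s3) (h23 : s2 ≠ s3) (i : Fin t) :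
    Function.update (Function.update (upd1 s1 (E2 : Matrix (Fin 2) (Fin 2) F)) s2 E2) s3 E2 i =
      if i = s1 ∨ i = s2 ∨ i = s3 then (E2 : Matrix (Fin 2) (Fin 2) F) else 1 := by
  by_cases h3 : i = s3
  · subst h3
    simp
  · rw [Function.update_of_ne h3]
    by_cases h2 : i = s2
    · subst h2
      simp
    · rw [Function.update_of_ne h2]
      by_cases h1 : i = s1
      · subst h1
        simp [upd1]
      · simp [upd1, Function.update_of_ne h1, h1, h2, h3]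

theorem Ms_apply (s1 : Fin t) (i : Fin t) :
    upd1 s1 (E2' : Matrix (Fin 2) (Fin 2) F) i = if i = s1 then (E2' : Matrix (Fin 2) (Fin 2) F) else 1 := by
  by_cases h1 : i = s1
  · subst h1
    simp [upd1]
  · simp [upd1, Function.update_of_ne h1, h1]

theorem E2'_mem : (E2' : Matrix (Fin 2) (Fin 2) F) ∈ (L2 : Submodule F (Matrix (Fin 2) (Fin 2) F)) := by
  show (E2' : Matrix (Fin 2) (Fin 2) F) 0 0 = E2' 1 1
  simp [E2']

end K2ZNOTNORM

/-- piece K2ZNOTNORM (M; uses ENT.far_zero, TENS): `z (loc s1 E2') z = loc s1 E2' + loc2 s2 s3 E2 E2`. -/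
theorem K2.z_not_normV [CharP F 2] (s1 s2 s3 : Fin t) (h12 : s1 ≠ s2) (h13 : s1 ≠ s3) (h23 : s2 ≠ s3)
    (hN : loc3 s1 s2 s3 (E2 : Matrix (Fin 2) (Fin 2) F) E2 E2 * loc3 s1 s2 s3 E2 E2 E2 = 0) :
    invo (loc3 s1 s2 s3 E2 E2 E2) hN ∉ normV (t := t) (L2 : Submodule F (Matrix (Fin 2) (Fin 2) F)) := by
  intro hz
  set Ns : Fin t → Matrix (Fin 2) (Fin 2) F :=
    Function.update (Function.update (upd1 s1 (E2 : Matrix (Fin 2) (Fin 2) F)) s2 E2) s3 E2 with hNs
  set Ms : Fin t → Matrix (Fin 2) (Fin 2) F := upd1 s1 (E2' : Matrix (Fin 2) (Fin 2) F) with hMs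
  have hNdef : loc3 s1 s2 s3 (E2 : Matrix (Fin 2) (Fin 2) F) E2 E2 = tensM Ns := rfl
  have hMdef : loc s1 (E2' : Matrix (Fin 2) (Fin 2) F) = tensM Ms := rfl
  have hM0 : loc s1 (E2' : Matrix (Fin 2) (Fin 2) F) ∈ calV (t := t) (L2 : Submodule F (Matrix (Fin 2) (Fin 2) F)) :=
    Submodule.subset_span ⟨s1, E2', K2ZNOTNORM.E2'_mem, rfl⟩
  have h1 := (hz (loc s1 (E2' : Matrix (Fin 2) (Fin 2) F))).2 hM0
  have hval : ((invo (loc3 s1 s2 s3 (E2 : Matrix (Fin 2) (Fin 2) F) E2 E2) hN : GL (X 2 t) F) :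
      Matrix (X 2 t) (X 2 t) F) = 1 + tensM Ns := rfl
  have hinv : (((invo (loc3 s1 s2 s3 (E2 : Matrix (Fin 2) (Fin 2) F) E2 E2) hN)⁻¹ : GL (X 2 t) F) :
      Matrix (X 2 t) (X 2 t) F) = 1 + tensM Ns := rfl
  rw [hval, hinv, hMdef] at h1
  -- the two index vectors
  set x : X 2 t := fun _ => 0 with hx
  set x' : X 2 t := fun i => if i = s2 ∨ i = s3 then 1 else 0 with hx'
  have hx2 : x s2 ≠ x' s2 := by
    simp [hx, hx']
  have hx3 : x s3 ≠ x' s3 := by
    simp [hx, hx']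
  have h2 := ENT.far_zero _ _ h1 x x' s2 s3 h23 hx2 hx3
  -- expand
  have hexp : (1 + tensM Ns) * tensM Ms * (1 + tensM Ns) =
      tensM Ms + tensM (fun i => Ns i * Ms i) + tensM (fun i => Ms i * Ns i) +
        tensM (fun i => Ns i * Ms i * Ns i) := by
    simp only [Matrix.add_mul, Matrix.mul_add, Matrix.one_mul, Matrix.mul_one, TENS.tensM_mul]
    abel
  rw [hexp] at h2
  simp only [Matrix.add_apply] at h2
  have hN_i : ∀ i, Ns i = if i = s1 ∨ i = s2 ∨ i = s3 then (E2 : Matrix (Fin 2) (Fin 2) F) else 1 :=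
    K2ZNOTNORM.Ns_apply s1 s2 s3 h12 h13 h23
  have hM_i : ∀ i, Ms i = if i = s1 then (E2' : Matrix (Fin 2) (Fin 2) F) else 1 :=
    K2ZNOTNORM.Ms_apply s1
  -- term 1
  have t1 : tensM Ms x x' = 0 := by
    show ∏ i, Ms i (x i) (x' i) = 0
    apply Finset.prod_eq_zero (Finset.mem_univ s2)
    rw [hM_i, if_neg (Ne.symm h12)]
    simp [hx, hx']
  -- term 2
  have t2 : tensM (fun i => Ns i * Ms i) x x' = 1 := by
    show ∏ i, (Ns i * Ms i) (x i) (x' i) = 1
    apply Finset.prod_eq_one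
    intro i _
    rw [hN_i, hM_i]
    by_cases hi1 : i = s1
    · subst hi1
      simp [hx, hx', h12, h13, E2, E2', Matrix.mul_apply, Fin.sum_univ_two]
    · by_cases hi2 : i = s2
      · subst hi2
        simp [hx, hx', hi1, E2, Matrix.mul_apply, Fin.sum_univ_two]
      · by_cases hi3 : i = s3
        · subst hi3
          simp [hx, hx', hi1, E2, Matrix.mul_apply, Fin.sum_univ_two]
        · simp [hx, hx', hi1, hi2, hi3]
  -- term 3
  have t3 : tensM (fun i => Ms i * Ns i) x x' = 0 := by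
    show ∏ i, (Ms i * Ns i) (x i) (x' i) = 0
    apply Finset.prod_eq_zero (Finset.mem_univ s1)
    rw [hN_i, hM_i]
    simp [hx, hx', h12, h13, E2, E2', Matrix.mul_apply, Fin.sum_univ_two]
  -- term 4
  have t4 : tensM (fun i => Ns i * Ms i * Ns i) x x' = 0 := by
    show ∏ i, (Ns i * Ms i * Ns i) (x i) (x' i) = 0
    apply Finset.prod_eq_zero (Finset.mem_univ s2)
    rw [hN_i, hM_i, if_neg (Ne.symm h12)]
    simp [hx, hx', E2, Matrix.mul_apply, Fin.sum_univ_two]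
  rw [t1, t2, t3, t4] at h2
  simp at h2

end Cfsg.Agent.S5707P
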