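import Mathlib
import Cfsg.Prelude.Def_GeometricClasses
import Cfsg.Agent.Helper18.S5707.Defs
import Cfsg.Agent.Helper25.S5707NF
import Cfsg.Agent.Helper25.S5707NORMSTD
import Cfsg.Agent.Helper10.S5707SIMIL
import Cfsg.Agent.Helper28.S5707K4CONJ

/-! S5707 piece K4STD (driver helper18): `std 4 t ⊓ Ω ≤ normV L4`. -/

set_option autoImplicit false

namespace Cfsg.Agent.S5707P

open Matrix

variable {F : Type*} [Field F] {k t : ℕ}

theorem K4STD.J4_ne_zero : (J4 : Matrix (Fin 4) (Fin 4) F) ≠ 0 := by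
  intro h
  have := congrFun (congrFun h 0) 3
  simp [J4] at this

/-- piece K4STD (S-M; uses NF, SIMIL, K4CONJ, NORMSTD). -/
theorem K4.std_omega_le_normV [CharP F 2] {c : F} {Q : (X 4 t → F) → F}
    (hQ : StdQ (J4 : Matrix (Fin 4) (Fin 4) F) c Q) (hc : c ≠ 0) :
    Cfsg.Geo.tensorWreathStandard 4 t F ⊓ Cfsg.Geo.omegaGL Q ≤
      normV (t := t) (L4 : Submodule F (Matrix (Fin 4) (Fin 4) F)) := by
  intro g hg
  obtain ⟨gs, σ, hnf⟩ := NF.exists_nf g hg.1
  have hiso : g ∈ Cfsg.isometryGroup F Q := by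
    have h2 := hg.2
    unfold Cfsg.Geo.omegaGL at h2
    exact Subgroup.map_subtype_le _ h2
  have hsim := SIMIL.simil hQ hc K4STD.J4_ne_zero g hiso gs σ hnf
  refine NORMSTD.mem_normV _ g gs σ hnf ?_
  intro i A hA
  obtain ⟨lam, hlam⟩ := hsim i
  exact K4.L4_conj (gs i) lam hlam A hA

end Cfsg.Agent.S5707P
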