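import Mathlib
import Cfsg.Agent.Helper2.SU.Basic

set_option autoImplicit false

/-! S2334 (Landazuri–Seitz bound for `SU_n(q)`, `n = 2m+1` odd): shared definitions.
`ct` = `σ`-conjugate transpose, `AH` = anti-Hermitian `m × m` matrices, the congruence actions,
the commutator matrix, and the block model of the Hermitian space of dimension `2m+1`. -/

namespace Cfsg.Agent.S2334P

open Matrix

variable {K : Type*} [Field K]

/-- `σ`-conjugate transpose -/
def ct (σ : K →+* K) {a b : Type*} (M : Matrix a b K) : Matrix b a K := (M.map σ)ᵀ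

theorem ct_apply (σ : K →+* K) {a b : Type*} (M : Matrix a b K) (i : b) (j : a) :
    ct σ M i j = σ (M j i) := rfl

theorem ct_add (σ : K →+* K) {a b : Type*} (M N : Matrix a b K) :
    ct σ (M + N) = ct σ M + ct σ N := by
  ext i j; simp [ct_apply]

theorem ct_sub (σ : K →+* K) {a b : Type*} (M N : Matrix a b K) :
    ct σ (M - N) = ct σ M - ct σ N := by
  ext i j; simp [ct_apply]

theorem ct_neg (σ : K →+* K) {a b : Type*} (M : Matrix a b K) : ct σ (-M) = -ct σ M := by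
  ext i j; simp [ct_apply]

theorem ct_zero (σ : K →+* K) {a b : Type*} : ct σ (0 : Matrix a b K) = 0 := by
  ext i j; simp [ct_apply]

theorem ct_smul (σ : K →+* K) {a b : Type*} (c : K) (M : Matrix a b K) :
    ct σ (c • M) = σ c • ct σ M := by
  ext i j; simp [ct_apply]

theorem ct_one (σ : K →+* K) {a : Type*} [DecidableEq a] : ct σ (1 : Matrix a a K) = 1 := by
  ext i j
  rw [ct_apply, Matrix.one_apply, Matrix.one_apply]
  by_cases h : i = j
  · rw [if_pos h, if_pos h.symm, map_one]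
  · rw [if_neg h, if_neg (Ne.symm h), map_zero]

theorem ct_mul (σ : K →+* K) {a b c : Type*} [Fintype b] (M : Matrix a b K) (N : Matrix b c K) :
    ct σ (M * N) = ct σ N * ct σ M := by
  ext i j
  simp only [ct_apply, Matrix.mul_apply, map_sum, map_mul]
  apply Finset.sum_congr rfl
  intro k _
  ring

theorem ct_ct (σ : K →+* K) (hσ : ∀ x, σ (σ x) = x) {a b : Type*} (M : Matrix a b K) :
    ct σ (ct σ M) = M := by
  ext i j; simp [ct_apply, hσ]

/-- anti-Hermitian `m × m` matrices -/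
def AH (σ : K →+* K) (m : ℕ) : AddSubgroup (Matrix (Fin m) (Fin m) K) where
  carrier := {S | ct σ S = -S}
  zero_mem' := by
    show ct σ (0 : Matrix (Fin m) (Fin m) K) = -0
    rw [ct_zero, neg_zero]
  add_mem' := by
    intro S T hS hT
    show ct σ (S + T) = -(S + T)
    rw [ct_add, show ct σ S = -S from hS, show ct σ T = -T from hT, neg_add]
  neg_mem' := by
    intro S hS
    show ct σ (-S) = -(-S)
    rw [ct_neg, show ct σ S = -S from hS]

theorem mem_AH (σ : K →+* K) (m : ℕ) (S : Matrix (Fin m) (Fin m) K) :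
    S ∈ AH σ m ↔ ct σ S = -S := Iff.rfl

/-- `S ↦ g S gᴴ` -/
def cong {σ : K →+* K} (hσ : ∀ x, σ (σ x) = x) {m : ℕ} (g : Matrix (Fin m) (Fin m) K)
    (S : AH σ m) : AH σ m :=
  ⟨g * S.1 * ct σ g, by
    rw [mem_AH, ct_mul, ct_mul, ct_ct σ hσ, (mem_AH σ m S.1).mp S.2, Matrix.neg_mul,
      Matrix.mul_neg, Matrix.mul_assoc]⟩

/-- `S ↦ gᴴ S g` -/
def congT {σ : K →+* K} (hσ : ∀ x, σ (σ x) = x) {m : ℕ} (g : Matrix (Fin m) (Fin m) K)
    (S : AH σ m) : AH σ m :=
  ⟨ct σ g * S.1 * g, by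
    rw [mem_AH, ct_mul, ct_mul, ct_ct σ hσ, (mem_AH σ m S.1).mp S.2, Matrix.neg_mul,
      Matrix.mul_neg, Matrix.mul_assoc]⟩

/-- the commutator matrix `a bᴴ - b aᴴ` -/
def cm {σ : K →+* K} (hσ : ∀ x, σ (σ x) = x) {m : ℕ} (a b : Fin m → K) : AH σ m :=
  ⟨vecMulVec a (σ ∘ b) - vecMulVec b (σ ∘ a), by
    rw [mem_AH]
    ext i j
    simp only [ct_apply, Matrix.sub_apply, Matrix.vecMulVec_apply, Function.comp_apply, map_sub,
      map_mul, hσ, Matrix.neg_apply]
    ring⟩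

/-- the quadratic function `u ↦ uᴴ S u` -/
def qf (σ : K →+* K) {m : ℕ} (S : Matrix (Fin m) (Fin m) K) (u : Fin m → K) : K :=
  (σ ∘ u) ⬝ᵥ (S *ᵥ u)

/-- the Landazuri–Seitz count `(q^(2m) - 1) / (q + 1)` of rank one Hermitian matrices -/
def BB (q m : ℕ) : ℕ := (q ^ (2 * m) - 1) / (q + 1)

/-! ### the block model -/

/-- index type of the model: `E ⊕ E' ⊕ ⟨w⟩` -/
abbrev Idx (m : ℕ) : Type := (Fin m ⊕ Fin m) ⊕ Unit

/-- Gram matrix of the model form -/
def JJ (K : Type*) [Field K] (m : ℕ) : Matrix (Idx m) (Idx m) K :=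
  Matrix.fromBlocks (Matrix.fromBlocks 0 1 1 0) 0 0 1

/-- isometries of the model form `(v, v') ↦ vᵀ J σ(v')` -/
def PresJ (σ : K →+* K) (m : ℕ) (M : Matrix (Idx m) (Idx m) K) : Prop :=
  Mᵀ * JJ K m * M.map σ = JJ K m

/-- the model matrix of `z(S)` -/
def zM {m : ℕ} (S : Matrix (Fin m) (Fin m) K) : Matrix (Idx m) (Idx m) K :=
  Matrix.fromBlocks (Matrix.fromBlocks 1 S 0 1) 0 0 1

/-- the model matrix of `l(g)`; `gi` is the inverse of `g` -/
def lM (σ : K →+* K) {m : ℕ} (g gi : Matrix (Fin m) (Fin m) K) : Matrix (Idx m) (Idx m) K :=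
  Matrix.fromBlocks (Matrix.fromBlocks g 0 0 (ct σ gi)) 0 0
    (Matrix.of fun _ _ => σ g.det * gi.det)

/-- the model matrix of `x(a)` (with `μ + σ μ = 1`) -/
def xM (σ : K →+* K) {m : ℕ} (μ : K) (a : Fin m → K) : Matrix (Idx m) (Idx m) K :=
  Matrix.fromBlocks (Matrix.fromBlocks 1 (-(μ • vecMulVec a (σ ∘ a))) 0 1)
    (Matrix.of fun i _ => Sum.elim a (fun _ => 0) i)
    (Matrix.of fun _ j => Sum.elim (fun _ => 0) (fun j => -σ (a j)) j) 1

end Cfsg.Agent.S2334P
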