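import Mathlib

set_option autoImplicit false
set_option linter.unusedSectionVars false
set_option linter.unusedVariables false

/-! # S0679 tools (helper4): the Sylow `11`-subgroups of a transitive group of degree `11`:
order `11`, self-centralising, normaliser of order `11 d` with `d ∣ 10`, and `|G| = 11 d n`, `n ≡ 1 (mod 11)`. -/

namespace Cfsg.Agent.S0679P

open Equiv MulAction

variable {α : Type*} [Fintype α] [DecidableEq α] {G : Subgroup (Equiv.Perm α)}

theorem N11.dvd_card (h11 : Fintype.card α = 11) [IsPretransitive G α] : 11 ∣ Nat.card G := by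
  have hne : Nonempty α := by
    rw [← Fintype.card_pos_iff, h11]; norm_num
  obtain ⟨a⟩ := hne
  have h := MulAction.index_stabilizer_of_transitive G a
  rw [Nat.card_eq_fintype_card, h11] at h
  rw [← h]
  exact Subgroup.index_dvd_card _

theorem N11.card_dvd (h11 : Fintype.card α = 11) : Nat.card G ∣ 39916800 := by
  have h := Subgroup.card_subgroup_dvd_card G
  rw [Nat.card_eq_fintype_card (α := Perm α), Fintype.card_perm, h11] at h
  have : (11 : ℕ).factorial = 39916800 := by decide
  rwa [this] at h

theorem N11.card_sylow (h11 : Fintype.card α = 11) [IsPretransitive G α] [Fact (Nat.Prime 11)]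
    (P : Sylow 11 G) : Nat.card (P : Subgroup G) = 11 := by
  have h1 := N11.dvd_card (G := G) h11
  have h2 := N11.card_dvd (G := G) h11
  have hpos : Nat.card G ≠ 0 := Nat.card_pos.ne'
  have hp : Nat.Prime 11 := Fact.out
  have hle : (Nat.card G).factorization 11 ≤ 1 := by
    by_contra hcon
    push Not at hcon
    have : 11 ^ 2 ∣ Nat.card G := (hp.pow_dvd_iff_le_factorization hpos).mpr hcon
    have h3 : 11 ^ 2 ∣ 39916800 := this.trans h2
    norm_num at h3
  have hge : 1 ≤ (Nat.card G).factorization 11 := by
    have : 11 ^ 1 ∣ Nat.card G := by simpa using h1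
    exact (hp.pow_dvd_iff_le_factorization hpos).mp this
  rw [P.card_eq_multiplicity, le_antisymm hle hge, pow_one]

/-- an element of order `11` on `11` points is an `11`-cycle; its centraliser in `Perm α` has order `11` -/
theorem N11.card_centralizer (h11 : Fintype.card α = 11) {c : Perm α} (hc : orderOf c = 11) :
    Nat.card (Subgroup.centralizer ({c} : Set (Perm α))) = 11 := by
  have hpr : (orderOf c).Prime := by rw [hc]; norm_num
  obtain ⟨n, hn⟩ := Equiv.Perm.cycleType_prime_order hpr
  rw [hc] at hn
  have hsum : c.cycleType.sum = c.support.card := Equiv.Perm.sum_cycleType c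
  have hle : c.support.card ≤ 11 := by
    rw [← h11]; exact Finset.card_le_univ _
  have hn0 : n = 0 := by
    rw [hn, Multiset.sum_replicate, smul_eq_mul] at hsum
    omega
  subst hn0
  rw [Equiv.Perm.nat_card_centralizer, hn, h11]
  simp

theorem N11.card_normalizer (h11 : Fintype.card α = 11) [IsPretransitive G α]
    [Fact (Nat.Prime 11)] (P : Sylow 11 G) :
    ∃ d : ℕ, d ∣ 10 ∧ Nat.card (Subgroup.normalizer ((P : Subgroup G) : Set G)) = 11 * d := by
  classical
  have hP : Nat.card (P : Subgroup G) = 11 := N11.card_sylow h11 P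
  -- a generator
  have hnt : (P : Subgroup G) ≠ ⊥ := by
    intro h
    rw [h, Subgroup.card_bot] at hP
    norm_num at hP
  obtain ⟨x, hx⟩ := (Subgroup.ne_bot_iff_exists_ne_one).mp hnt
  obtain ⟨c, hcP, hc1⟩ : ∃ c : G, c ∈ (P : Subgroup G) ∧ c ≠ 1 :=
    ⟨(x : G), x.2, fun h => hx (Subtype.ext h)⟩
  have hco : orderOf c = 11 := by
    have hd : orderOf c ∣ 11 := by
      have := Subgroup.orderOf_dvd_natCard (P : Subgroup G) hcP
      rwa [hP] at this
    rcases (Nat.dvd_prime (by norm_num : Nat.Prime 11)).mp hd with h | h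
    · exact absurd (orderOf_eq_one_iff.mp h) hc1
    · exact h
  have hco' : orderOf ((c : Perm α)) = 11 := by
    rw [Subgroup.orderOf_coe]; exact hco
  have hcent := N11.card_centralizer h11 hco'
  -- the homomorphism `N → Aut P`
  have key : ∀ x : Subgroup.normalizer ((P : Subgroup G) : Set G),
      x ∈ (P : Subgroup G).normalizerMonoidHom.ker →
      ∀ h ∈ ((P : Subgroup G) : Set G), h * (x : G) = (x : G) * h := by
    intro x hx
    rw [Subgroup.normalizerMonoidHom_ker, Subgroup.mem_subgroupOf,
      Subgroup.mem_centralizer_iff] at hx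
    exact hx
  set N : Subgroup G := Subgroup.normalizer ((P : Subgroup G) : Set G)
  set φ : N →* MulAut (P : Subgroup G) := (P : Subgroup G).normalizerMonoidHom
  have hcyc : IsCyclic (P : Subgroup G) := isCyclic_of_prime_card hP
  have haut : Nat.card (MulAut (P : Subgroup G)) = 10 := by
    rw [IsCyclic.card_mulAut, hP]; decide
  have hrange : Nat.card φ.range ∣ 10 := by
    rw [← haut]; exact Subgroup.card_subgroup_dvd_card _
  -- the kernel embeds into the centraliser of `c` in `Perm α`
  have hker : Nat.card φ.ker ∣ 11 := by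
    let ψ : φ.ker →* Perm α := (G.subtype.comp N.subtype).comp φ.ker.subtype
    have hψinj : Function.Injective ψ := by
      intro x y hxy
      apply Subtype.ext
      apply Subtype.ext
      apply Subtype.ext
      exact hxy
    have hψle : ψ.range ≤ Subgroup.centralizer ({(c : Perm α)} : Set (Perm α)) := by
      rintro _ ⟨x, rfl⟩
      have h1 := key x.1 x.2 c hcP
      rw [Subgroup.mem_centralizer_iff]
      intro h hh
      rw [Set.mem_singleton_iff] at hh
      subst hh
      have h2 := congrArg (fun z : G => (z : Perm α)) h1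
      have h3 : ψ x = ((x.1 : G) : Perm α) := rfl
      rw [h3]
      simpa using h2
    have h1 : Nat.card φ.ker = Nat.card ψ.range :=
      Nat.card_congr (Equiv.ofInjective ψ hψinj) |>.trans (by rfl)
    have h2 : Nat.card ψ.range ∣ Nat.card (Subgroup.centralizer ({(c : Perm α)} : Set (Perm α))) :=
      Subgroup.card_dvd_of_le hψle
    rw [hcent] at h2
    rw [h1]
    exact h2
  have hcardN : Nat.card N = Nat.card φ.ker * Nat.card φ.range := by
    rw [← Subgroup.index_ker, Subgroup.card_mul_index]
  have h110 : Nat.card N ∣ 110 := by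
    rw [hcardN]
    exact (Nat.mul_dvd_mul hker hrange)
  have h11N : 11 ∣ Nat.card N := by
    rw [← hP]
    exact Subgroup.card_dvd_of_le Subgroup.le_normalizer
  obtain ⟨d, hd⟩ := h11N
  refine ⟨d, ?_, hd⟩
  rw [hd] at h110
  exact (Nat.mul_dvd_mul_iff_left (by norm_num : 0 < 11)).mp (by simpa using h110)

/-- the order formula `|G| = 11 d n`, `d ∣ 10`, `n ≡ 1 (mod 11)`, `n` = number of Sylow `11`-subgroups -/
theorem N11.card_eq (h11 : Fintype.card α = 11) [IsPretransitive G α] [Fact (Nat.Prime 11)]
    (P : Sylow 11 G) :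
    ∃ d n : ℕ, d ∣ 10 ∧ n % 11 = 1 ∧
      Nat.card (Subgroup.normalizer ((P : Subgroup G) : Set G)) = 11 * d ∧
      Nat.card (Sylow 11 G) = n ∧ Nat.card G = 11 * d * n := by
  obtain ⟨d, hd, hN⟩ := N11.card_normalizer h11 P
  refine ⟨d, Nat.card (Sylow 11 G), hd, ?_, hN, rfl, ?_⟩
  · have := card_sylow_modEq_one 11 G
    exact this
  · rw [Sylow.card_eq_index_normalizer P, ← hN]
    exact (Subgroup.card_mul_index _).symm

end Cfsg.Agent.S0679P
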