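import Mathlib
import Cfsg.Agent.Helper16.S3161Defs
import Cfsg.Agent.Helper3.MaschkeExt

set_option autoImplicit false

/-! # S3161 board piece SPLIT (helper4)

Maschke: for a type (c) group in the setting (P) there is a `ρ`-equivariant homomorphism
`p₁ : T → C` extending `ee α` on the second layer `N`. -/

namespace Cfsg.Agent.S3161P

open scoped commutatorElement

universe u

/-- an invariant complement for an automorphism of odd order of a group of exponent two -/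
theorem SPLIT_aux_compl {V : Type*} [Group V] [Finite V] (hV : ∀ v : V, v * v = 1)
    (r : MulAut V) (m : ℕ) (hm : ¬ 2 ∣ m) (hr : ∀ v, (r ^ m) v = v) (W : Subgroup V)
    (hW : ∀ w ∈ W, r w ∈ W) :
    ∃ U : Subgroup V, (∀ u ∈ U, r u ∈ U) ∧ W ⊓ U = ⊥ ∧
      ∀ v : V, ∃ w ∈ W, ∃ u ∈ U, w * u = v := by
  have hinv : ∀ a : V, a⁻¹ = a := fun a => inv_eq_of_mul_eq_one_left (hV a)
  have hcomm : ∀ a b : V, a * b = b * a := by
    intro a b
    have h1 := hinv (a * b)
    rw [mul_inv_rev, hinv a, hinv b] at h1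
    exact h1.symm
  letI : CommGroup V := { (inferInstance : Group V) with mul_comm := hcomm }
  have hrm : r ^ m = 1 := by
    ext v
    exact hr v
  have hord : orderOf r ∣ m := orderOf_dvd_of_pow_eq_one hrm
  have hA : ¬ 2 ∣ Nat.card (Subgroup.zpowers r) := by
    rw [Nat.card_zpowers]
    exact fun h2 => hm (h2.trans hord)
  have hpowW : ∀ k : ℕ, ∀ w ∈ W, (r ^ k) w ∈ W := by
    intro k
    induction k with
    | zero => intro w hw; simpa using hw
    | succ k ih =>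
      intro w hw
      rw [pow_succ', MulAut.mul_apply]
      exact hW _ (ih w hw)
  have hinvA : ∀ a : Subgroup.zpowers r, ∀ w ∈ W, (a : MulAut V) w ∈ W := by
    rintro ⟨a, ha⟩ w hw
    have hfin : IsOfFinOrder r := isOfFinOrder_of_finite r
    have : a ∈ Submonoid.powers r := (hfin.mem_powers_iff_mem_zpowers).mpr ha
    obtain ⟨k, rfl⟩ := this
    exact hpowW k w hw
  obtain ⟨U, hU, hinf, hsup⟩ := Cfsg.Agent.Helper3.maschke_ext (V := V)
    (A := Subgroup.zpowers r) (fun a => (a : MulAut V).toMonoidHom) (fun v => rfl)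
    (fun a b v => rfl) 2 (fun v => by rw [pow_two]; exact hV v) hA W hinvA
  refine ⟨U, fun u hu => hU ⟨r, Subgroup.mem_zpowers r⟩ u hu, hinf, fun v => ?_⟩
  have hv : v ∈ W ⊔ U := by rw [hsup]; trivial
  exact Subgroup.mem_sup.mp hv

section P

variable {T : Type u} [Group T] [Finite T] {α ρ : MulAut T} {C : Subgroup T} {n : ℕ}

/-- the decomposition `T = N * W'` with `N ∩ W' = C`, `W'` invariant under `ρ` -/
theorem SPLIT_aux_decomp (h : PData α ρ C n) (hsq : ∀ x : T, x * x ∈ C) :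
    ∃ W' : Subgroup T, (∀ y ∈ W', ρ y ∈ W') ∧ (∀ x ∈ h.N, x ∈ W' → x ∈ C) ∧
      ∀ t : T, ∃ x ∈ h.N, ∃ y ∈ W', t = x * y := by
  haveI := h.normal
  have hρC : C.map (ρ : T ≃* T).toMonoidHom = C := by
    apply le_antisymm
    · rintro _ ⟨v, hv, rfl⟩
      exact h.rho_mem hv
    · intro v hv
      have hpos : 2 ^ n - 1 = (2 ^ n - 2) + 1 := by
        have : 2 ≤ 2 ^ n := by
          calc 2 = 2 ^ 1 := rfl
            _ ≤ 2 ^ n := Nat.pow_le_pow_right (by norm_num) (by have := h.two_le; omega)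
        omega
      refine ⟨(ρ ^ (2 ^ n - 2)) v, h.rho_pow_mem hv _, ?_⟩
      have := h.rho_pow v
      rw [hpos, pow_succ', MulAut.mul_apply] at this
      exact this
  let r : MulAut (T ⧸ C) := QuotientGroup.congr C C ρ hρC
  have hr_mk : ∀ t : T, r (QuotientGroup.mk t) = QuotientGroup.mk (ρ t) := fun t => rfl
  have hr_pow : ∀ (k : ℕ) (t : T), (r ^ k) (QuotientGroup.mk t) = QuotientGroup.mk ((ρ ^ k) t) := by
    intro k
    induction k with
    | zero => intro t; simp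
    | succ k ih =>
      intro t
      rw [pow_succ', MulAut.mul_apply, ih, hr_mk, pow_succ', MulAut.mul_apply]
  have hV : ∀ v : T ⧸ C, v * v = 1 := by
    intro v
    induction v using QuotientGroup.induction_on with
    | H t =>
      rw [← QuotientGroup.mk_mul, QuotientGroup.eq_one_iff]
      exact hsq t
  have hm : ¬ 2 ∣ 2 ^ n - 1 := by
    have : 2 ≤ 2 ^ n := by
      calc 2 = 2 ^ 1 := rfl
        _ ≤ 2 ^ n := Nat.pow_le_pow_right (by norm_num) (by have := h.two_le; omega)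
    have h2 : 2 ∣ 2 ^ n := dvd_pow_self 2 (by have := h.two_le; omega)
    omega
  have hr : ∀ v, (r ^ (2 ^ n - 1)) v = v := by
    intro v
    induction v using QuotientGroup.induction_on with
    | H t => rw [hr_pow, h.rho_pow]
  have hW : ∀ w ∈ h.N.map (QuotientGroup.mk' C), r w ∈ h.N.map (QuotientGroup.mk' C) := by
    rintro _ ⟨x, hx, rfl⟩
    exact ⟨ρ x, rho_mem_N h hx, rfl⟩
  obtain ⟨U, hU, hinf, hsup⟩ := SPLIT_aux_compl hV r (2 ^ n - 1) hm hr _ hW
  refine ⟨U.comap (QuotientGroup.mk' C), ?_, ?_, ?_⟩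
  · intro y hy
    rw [Subgroup.mem_comap] at hy ⊢
    exact hU _ hy
  · intro x hx hxU
    rw [Subgroup.mem_comap] at hxU
    have : QuotientGroup.mk' C x ∈ h.N.map (QuotientGroup.mk' C) ⊓ U :=
      ⟨⟨x, hx, rfl⟩, hxU⟩
    rw [hinf, Subgroup.mem_bot] at this
    exact (QuotientGroup.eq_one_iff x).mp this
  · intro t
    obtain ⟨w, ⟨x, hx, rfl⟩, u, hu, hwu⟩ := hsup (QuotientGroup.mk' C t)
    obtain ⟨y, rfl⟩ := QuotientGroup.mk'_surjective C u
    -- t = x * y * c
    have hc : (x * y)⁻¹ * t ∈ C := by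
      rw [← QuotientGroup.eq_one_iff]
      have : (QuotientGroup.mk ((x * y)⁻¹ * t) : T ⧸ C)
          = (QuotientGroup.mk' C x * QuotientGroup.mk' C y)⁻¹ * QuotientGroup.mk' C t := by
        simp
      rw [this, hwu, inv_mul_cancel]
    refine ⟨x * ((x * y)⁻¹ * t), h.N.mul_mem hx (C_le_N h hc), y, hu, ?_⟩
    rw [mul_assoc x, h.comm_mul hc y]
    group

/-- SPLIT (Maschke): an equivariant retraction `T → C` extending `ee α` on `N`. -/
theorem SPLIT (hT : IsPGroup 2 T) (h : PData α ρ C n) (hc : TypeC T C n) :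
    ∃ p₁ : T → T, (∀ t, p₁ t ∈ C) ∧ (∀ s t, p₁ (s * t) = p₁ s * p₁ t) ∧
      (∀ t, p₁ (ρ t) = ρ (p₁ t)) ∧ ∀ x ∈ h.N, p₁ x = ee α x := by
  obtain ⟨-, hsq, -⟩ := hc
  obtain ⟨W', hρW, hNW, hdec⟩ := SPLIT_aux_decomp h hsq
  have := h.normal
  -- commutators lie in C
  have hcommC : ∀ a b : T, a * b * a⁻¹ * b⁻¹ ∈ C := by
    intro a b
    have h1 := hsq (a * b)
    have h2 := hsq a⁻¹
    have h3 := hsq b⁻¹
    -- a b a⁻¹ b⁻¹ = (ab)² · b⁻¹ (a⁻¹)² b · (b⁻¹)²
    have : a * b * a⁻¹ * b⁻¹ = (a * b * (a * b)) * (b⁻¹ * (a⁻¹ * a⁻¹) * b⁻¹⁻¹) * (b⁻¹ * b⁻¹) := by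
      group
    rw [this]
    exact C.mul_mem (C.mul_mem h1 (Subgroup.Normal.conj_mem inferInstance _ h2 _)) h3
  choose X hXN Y hYW hXY using hdec
  -- uniqueness
  have huniq : ∀ x ∈ h.N, ∀ y ∈ W', ee α (X (x * y)) = ee α x := by
    intro x hx y hy
    have hx' := hXN (x * y)
    have hy' := hYW (x * y)
    have he := hXY (x * y)
    have hmem : (X (x * y))⁻¹ * x ∈ C := by
      apply hNW _ (h.N.mul_mem (h.N.inv_mem hx') hx)
      have key : ∀ a b : T, x * y = a * b → a⁻¹ * x = b * y⁻¹ := by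
        intro a b hab
        have h4 : x = a * b * y⁻¹ := eq_mul_inv_of_mul_eq hab
        rw [h4]
        group
      rw [key _ _ he]
      exact W'.mul_mem hy' (W'.inv_mem hy)
    have h5 := (ee_eq_one_iff h _).mpr hmem
    rw [ee_mul_of_mem h (h.N.inv_mem hx'), ee_inv_of_mem h hx', inv_mul_eq_one] at h5
    exact h5
  refine ⟨fun t => ee α (X t), fun t => hXN t, ?_, ?_, ?_⟩
  · intro s t
    show ee α (X (s * t)) = ee α (X s) * ee α (X t)
    have hcc : (X t)⁻¹ * Y s * (X t)⁻¹⁻¹ * (Y s)⁻¹ ∈ C := hcommC (X t)⁻¹ (Y s)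
    have key2 : ∀ x y x' y' : T, x * y * (x' * y')
        = (x * (x' * (x'⁻¹ * y * x'⁻¹⁻¹ * y⁻¹))) * (y * y') := by
      intro x y x' y'
      group
    have hst : s * t = (X s * (X t * ((X t)⁻¹ * Y s * (X t)⁻¹⁻¹ * (Y s)⁻¹))) * (Y s * Y t) := by
      rw [← key2]
      exact congrArg₂ (· * ·) (hXY s) (hXY t)
    rw [hst, huniq _ (h.N.mul_mem (hXN s) (h.N.mul_mem (hXN t) (C_le_N h hcc))) _
      (W'.mul_mem (hYW s) (hYW t)), ee_mul_of_mem h (hXN s), ee_mul_of_mem h (hXN t),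
      (ee_eq_one_iff h _).mpr hcc, mul_one]
  · intro t
    show ee α (X (ρ t)) = ρ (ee α (X t))
    have : ρ t = ρ (X t) * ρ (Y t) := by
      conv_lhs => rw [hXY t]
      rw [map_mul]
    rw [this, huniq _ (rho_mem_N h (hXN t)) _ (hρW _ (hYW t)), ee_rho h]
  · intro x hx
    show ee α (X x) = ee α x
    have := huniq x hx 1 W'.one_mem
    rwa [mul_one] at this

end P

end Cfsg.Agent.S3161P
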