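import Mathlib
import Cfsg.Agent.Helper4.PrimeDegree3
import Cfsg.Agent.Lead.SZ
import Cfsg.Agent.S0675

set_option autoImplicit false
set_option linter.style.haveILetI false
set_option linter.unusedSectionVars false

/-!
# Subgroups of index `p` in transitive groups of prime degree `p`
-/

namespace Cfsg.Agent.Helper4.PrimeDegreeIndex

open Equiv MulAction Cfsg.Agent.Helper4.PrimeDegree3
open scoped Pointwise

section Solvable
variable {p : ℕ} [Fact p.Prime] {α : Type*} [Fintype α] [DecidableEq α]

/-- A commutative normal subgroup acting non-trivially in a transitive group of prime degree has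
order `p`. -/
theorem card_of_comm_normal (hα : Fintype.card α = p) (G : Subgroup (Perm α))
    [IsPretransitive G α] (A : Subgroup G) [A.Normal] (hA : A ≠ ⊥)
    (hcomm : ∀ x ∈ A, ∀ y ∈ A, x * y = y * x) : Nat.card A = p := by
  have hp : p.Prime := Fact.out
  haveI : IsPreprimitive G α := IsPreprimitive.of_prime_card (by
    rw [Nat.card_eq_fintype_card, hα]; exact hp)
  obtain ⟨a0⟩ : Nonempty α := by
    rw [← Fintype.card_pos_iff, hα]
    exact hp.pos
  -- A is transitive
  haveI hAtrans : IsPretransitive A α := by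
    apply IsQuasiPreprimitive.isPretransitive_of_normal (G := G)
    intro huniv
    apply hA
    rw [Subgroup.eq_bot_iff_forall]
    intro x hx
    apply Subtype.ext
    apply Equiv.ext
    intro a
    have ha : a ∈ fixedPoints A α := by rw [huniv]; trivial
    exact ha ⟨x, hx⟩
  -- A is regular
  have hreg : stabilizer A a0 = ⊥ := by
    rw [Subgroup.eq_bot_iff_forall]
    intro x hx
    apply Subtype.ext
    apply Subtype.ext
    apply Equiv.ext
    intro b
    obtain ⟨y, rfl⟩ := exists_smul_eq A a0 b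
    have hxy : x * y = y * x := Subtype.ext (hcomm x.1 x.2 y.1 y.2)
    change (x * y) • a0 = y • a0
    rw [hxy, mul_smul]
    congr 1
  have h1 := Subgroup.card_mul_index (stabilizer A a0)
  rw [index_stabilizer_of_transitive, hreg, Subgroup.card_bot, one_mul,
    Nat.card_eq_fintype_card, hα] at h1
  exact h1.symm

/-- In a solvable transitive group of prime degree the Sylow `p`-subgroup is normal. -/
theorem sylow_normal_of_solvable (hα : Fintype.card α = p) (G : Subgroup (Perm α))
    [IsPretransitive G α] (hsolv : Group.IsSolvable G) (P : Sylow p G) :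
    (P : Subgroup G).Normal := by
  classical
  have hp : p.Prime := Fact.out
  obtain ⟨hn⟩ := hsolv
  -- the last non-trivial term of the derived series
  have hG1 : (⊤ : Subgroup G) ≠ ⊥ := by
    intro h
    have h1 := prime_dvd_card hα G
    have h2 : Nat.card G = 1 := by
      rw [← Subgroup.card_top (G := G), h, Subgroup.card_bot]
    rw [h2] at h1
    exact hp.one_lt.ne' (Nat.dvd_one.mp h1)
  have hn0 : Nat.find hn ≠ 0 := by
    intro h0
    have := Nat.find_spec hn
    rw [h0, derivedSeries_zero] at this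
    exact hG1 this
  obtain ⟨m, hm⟩ := Nat.exists_eq_succ_of_ne_zero hn0
  set A := derivedSeries G m with hAdef
  have hAne : A ≠ ⊥ := by
    intro h
    have := Nat.find_min hn (m := m) (by omega)
    exact this h
  have hAA : ⁅A, A⁆ = ⊥ := by
    have := Nat.find_spec hn
    rw [hm, derivedSeries_succ] at this
    exact this
  haveI hAn : A.Normal := derivedSeries_normal G m
  have hcomm : ∀ x ∈ A, ∀ y ∈ A, x * y = y * x := by
    intro x hx y hy
    have h1 : x * y * x⁻¹ * y⁻¹ ∈ ⁅A, A⁆ := Subgroup.commutator_mem_commutator hx hy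
    rw [hAA, Subgroup.mem_bot] at h1
    calc x * y = (x * y * x⁻¹ * y⁻¹) * (y * x) := by group
      _ = y * x := by rw [h1, one_mul]
  have hAcard := card_of_comm_normal hα G A hAne hcomm
  -- A is a Sylow subgroup
  have hApg : IsPGroup p A := IsPGroup.of_card (n := 1) (by rw [hAcard, pow_one])
  obtain ⟨Q, hQ⟩ := hApg.exists_le_sylow
  have hQA : (Q : Subgroup G) = A := by
    symm
    apply Subgroup.eq_of_le_of_card_ge hQ
    rw [sylow_card hα G Q, hAcard]
  haveI : (Q : Subgroup G).Normal := by rw [hQA]; exact hAn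
  obtain ⟨g, hg⟩ := exists_smul_eq G Q P
  rw [Sylow.smul_eq_of_normal] at hg
  rw [← hg]
  infer_instance

end Solvable

section SolvableIndex
variable {p : ℕ} [Fact p.Prime] {α : Type*} [Fintype α] [DecidableEq α]

theorem card_of_index_p (hα : Fintype.card α = p) (G : Subgroup (Perm α)) (H : Subgroup G)
    (hH : H.index = p) : Nat.card H * p = Nat.card G ∧ (Nat.card H).Coprime p := by
  have hp : p.Prime := Fact.out
  have h1 := Subgroup.card_mul_index H
  rw [hH] at h1
  refine ⟨h1, ?_⟩
  rw [Nat.coprime_comm, hp.coprime_iff_not_dvd]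
  intro hdvd
  have h2 : p ^ 2 ∣ Nat.card G := by
    rw [← h1, sq]
    exact Nat.mul_dvd_mul_right hdvd p
  exact JordanCycle.sq_not_dvd_factorial hp (h2.trans (card_dvd_factorial hα G))

/-- In a solvable transitive group of prime degree, subgroups of index `p` are point
stabilisers. -/
theorem index_p_of_solvable (hα : Fintype.card α = p) (G : Subgroup (Perm α))
    [IsPretransitive G α] (hsolv : Group.IsSolvable G) (H : Subgroup G) (hH : H.index = p) :
    ∃ a : α, H = stabilizer G a := by
  have hp : p.Prime := Fact.out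
  obtain ⟨a0⟩ : Nonempty α := by
    rw [← Fintype.card_pos_iff, hα]
    exact hp.pos
  obtain ⟨P⟩ : Nonempty (Sylow p G) := inferInstance
  haveI hPn : (P : Subgroup G).Normal := sylow_normal_of_solvable hα G hsolv P
  have hPcard := sylow_card hα G P
  haveI : IsCyclic (P : Subgroup G) := isCyclic_of_prime_card hPcard
  haveI : IsMulCommutative (P : Subgroup G) :=
    ⟨⟨fun a b => (IsCyclic.commGroup (α := (P : Subgroup G))).mul_comm a b⟩⟩
  obtain ⟨hH1, hH2⟩ := card_of_index_p hα G H hH
  have hS : (stabilizer G a0).index = p := by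
    rw [index_stabilizer_of_transitive, Nat.card_eq_fintype_card, hα]
  obtain ⟨hS1, hS2⟩ := card_of_index_p hα G (stabilizer G a0) hS
  have hPidx : (Nat.card (P : Subgroup G)).Coprime (P : Subgroup G).index := by
    have h1 := Subgroup.card_mul_index (P : Subgroup G)
    rw [hPcard] at h1 ⊢
    have h2 : (P : Subgroup G).index = Nat.card H := by
      have : p * (P : Subgroup G).index = p * Nat.card H := by rw [h1, ← hH1, mul_comm]
      exact Nat.eq_of_mul_eq_mul_left hp.pos this
    rw [h2]
    exact hH2.symm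
  have hcH : Subgroup.IsComplement' (P : Subgroup G) H := by
    apply Subgroup.isComplement'_of_coprime
    · rw [hPcard, mul_comm, hH1]
    · rw [hPcard]; exact hH2.symm
  have hcS : Subgroup.IsComplement' (P : Subgroup G) (stabilizer G a0) := by
    apply Subgroup.isComplement'_of_coprime
    · rw [hPcard, mul_comm, hS1]
    · rw [hPcard]; exact hS2.symm
  obtain ⟨x, -, hx⟩ := Cfsg.Agent.Lead.sz_conj_abelian (P : Subgroup G) hPidx
    (stabilizer G a0) H hcS hcH
  refine ⟨x • a0, ?_⟩
  rw [stabilizer_smul_eq_stabilizer_map_conj, ← hx]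
  rfl

end SolvableIndex

section Parity
variable {p : ℕ} [Fact p.Prime]

theorem even_card_filter_iff (hp2 : p ≠ 2) (D : Finset (ZMod p)) (c : ZMod p)
    (hsym : ∀ x ∈ D, c - x ∈ D) (d : ZMod p) :
    Even (Finset.card (D.filter fun x => x - d ∈ D)) ↔ (c + d) / 2 ∉ D := by
  classical
  have h2 : (2 : ZMod p) ≠ 0 := two_ne_zero_of_ne_two hp2
  obtain ⟨x0, hx0⟩ : ∃ x0 : ZMod p, x0 = (c + d) / 2 := ⟨_, rfl⟩
  rw [← hx0]
  have hx0' : 2 * x0 = c + d := by rw [hx0]; field_simp
  obtain ⟨S, hS⟩ : ∃ S : Finset (ZMod p), S = D.filter fun x => x - d ∈ D := ⟨_, rfl⟩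
  rw [← hS]
  have hfix : ∀ x, c - x + d = x ↔ x = x0 := by
    intro x
    constructor
    · intro h
      have h3 : 2 * x = 2 * x0 := by rw [hx0']; linear_combination -h
      exact mul_left_cancel₀ h2 h3
    · rintro rfl
      linear_combination -hx0'
  have hmemS : ∀ x, x ∈ S → c - x + d ∈ S := by
    intro x hx
    rw [hS, Finset.mem_filter] at hx ⊢
    refine ⟨?_, ?_⟩
    · have := hsym _ hx.2
      have h4 : c - (x - d) = c - x + d := by ring
      rwa [h4] at this
    · have := hsym _ hx.1
      have h4 : c - x + d - d = c - x := by ring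
      rwa [h4]
  have heven : Even (S.erase x0).card := by
    have h := Finset.sum_involution (s := S.erase x0) (f := fun _ => (1 : ZMod 2))
      (fun a _ => c - a + d) (fun a ha => by decide)
      (fun a ha _ => by
        rw [Finset.mem_erase] at ha
        intro h5
        exact ha.1 ((hfix a).mp h5))
      (fun a ha => by
        rw [Finset.mem_erase] at ha ⊢
        refine ⟨?_, hmemS a ha.2⟩
        intro h5
        apply ha.1
        have h6 : c - x0 + d = x0 := (hfix x0).mpr rfl
        have h7 : c - (c - a + d) + d = a := by ring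
        rw [← h7, h5, h6])
      (fun a ha => by ring)
    rw [Finset.sum_const, nsmul_one] at h
    have h8 := (ZMod.natCast_eq_zero_iff _ 2).mp h
    exact even_iff_two_dvd.mpr h8
  have hx0S : x0 ∈ S ↔ x0 ∈ D := by
    rw [hS, Finset.mem_filter]
    constructor
    · exact fun h => h.1
    · intro h
      refine ⟨h, ?_⟩
      have := hsym _ h
      have h4 : c - x0 = x0 - d := by linear_combination -hx0'
      rwa [h4] at this
  by_cases hx : x0 ∈ D
  · have hxS := hx0S.mpr hx
    have h9 : S.card = (S.erase x0).card + 1 := by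
      rw [Finset.card_erase_of_mem hxS]
      have : 0 < S.card := Finset.card_pos.mpr ⟨x0, hxS⟩
      omega
    rw [h9]
    constructor
    · intro h10
      exfalso
      rw [Nat.even_add_one] at h10
      exact h10 heven
    · intro h10
      exact absurd hx h10
  · have hxS : x0 ∉ S := fun h => hx (hx0S.mp h)
    rw [Finset.erase_eq_of_notMem hxS] at heven
    exact ⟨fun _ => hx, fun _ => heven⟩

theorem eq_univ_or_singleton (hp2 : p ≠ 2) (D : Finset (ZMod p)) (c : ZMod p)
    (hsym : ∀ x ∈ D, c - x ∈ D) (hc : c / 2 ∈ D)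
    (hconst : ∀ d d' : ZMod p, d ≠ 0 → d' ≠ 0 →
      Finset.card (D.filter fun x => x - d ∈ D) = Finset.card (D.filter fun x => x - d' ∈ D)) :
    D = Finset.univ ∨ D = {c / 2} := by
  classical
  have h2 : (2 : ZMod p) ≠ 0 := two_ne_zero_of_ne_two hp2
  have hkey : ∀ z : ZMod p, (c + (2 * z - c)) / 2 = z := by
    intro z
    field_simp
    ring
  have hne : ∀ z : ZMod p, z ≠ c / 2 → 2 * z - c ≠ 0 := by
    intro z hz h
    apply hz
    rw [sub_eq_zero] at h
    rw [← h]
    field_simp
  by_cases h : ∃ y ∈ D, y ≠ c / 2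
  · left
    obtain ⟨y, hyD, hy⟩ := h
    have h3 : ¬ Even (Finset.card (D.filter fun x => x - (2 * y - c) ∈ D)) := by
      rw [even_card_filter_iff hp2 D c hsym, hkey]
      exact fun h => h hyD
    rw [Finset.eq_univ_iff_forall]
    intro z
    by_cases hz : z = c / 2
    · rw [hz]; exact hc
    · rw [hconst _ _ (hne y hy) (hne z hz), even_card_filter_iff hp2 D c hsym, hkey] at h3
      exact not_not.mp h3
  · right
    push Not at h
    ext y
    rw [Finset.mem_singleton]
    constructor
    · exact h y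
    · rintro rfl
      exact hc

end Parity

section Main
variable {p : ℕ} [Fact p.Prime] {α : Type*} [Fintype α] [DecidableEq α]

theorem index_p_of_setup (hα : Fintype.card α = p) (hp2 : p ≠ 2) (G : Subgroup (Perm α))
    [IsPretransitive G α]
    (h2t : IsMultiplyPretransitive G α 2)
    (e : α ≃ ZMod p) (t s : G) (c : ZMod p) (het : ∀ a, e (t • a) = e a + 1)
    (hes : ∀ a, e (s • a) = - e a + c) (H : Subgroup G) (hH : H.index = p) (hsH : s ∈ H) :
    H = stabilizer G (e.symm (c / 2)) := by
  classical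
  have hp : p.Prime := Fact.out
  haveI : NeZero p := ⟨hp.ne_zero⟩
  obtain ⟨hH1, hH2⟩ := card_of_index_p hα G H hH
  have hetpow : ∀ (k : ℕ) a, e ((t ^ k) • a) = e a + k := by
    intro k
    induction k with
    | zero => intro a; simp
    | succ k ih =>
      intro a
      rw [pow_succ, mul_smul, ih, het]
      push_cast
      ring
  have hext : ∀ x y : G, (∀ a : α, x • a = y • a) → x = y := by
    intro x y h
    apply Subtype.ext
    apply Equiv.ext
    exact h
  have htp : t ^ p = 1 := by
    apply hext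
    intro a
    apply e.injective
    rw [hetpow, one_smul]
    simp
  obtain ⟨a0, ha0⟩ : ∃ a0 : α, a0 = e.symm (c / 2) := ⟨_, rfl⟩
  rw [← ha0]
  have hea0 : e a0 = c / 2 := by rw [ha0, Equiv.apply_symm_apply]
  -- the orbit of `a0` under `H`, in coordinates
  obtain ⟨D, hD⟩ : ∃ D : Finset (ZMod p), D = Finset.univ.filter
      (fun x : ZMod p => ∃ h ∈ H, e (h • a0) = x) := ⟨_, rfl⟩
  have hmemD : ∀ x, x ∈ D ↔ ∃ h ∈ H, e (h • a0) = x := by
    intro x
    rw [hD, Finset.mem_filter]
    simp
  have hsymD : ∀ x ∈ D, c - x ∈ D := by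
    intro x hx
    rw [hmemD] at hx ⊢
    obtain ⟨h, hh, rfl⟩ := hx
    refine ⟨s * h, H.mul_mem hsH hh, ?_⟩
    rw [mul_smul, hes]
    ring
  have hcD : c / 2 ∈ D := by
    rw [hmemD]
    exact ⟨1, H.one_mem, by rw [one_smul, hea0]⟩
  -- incidence between points and cosets
  obtain ⟨R, hR⟩ : ∃ R : α → G ⧸ H → Prop,
      ∀ a q, R a q ↔ ∃ g : G, (g : G ⧸ H) = q ∧ g • a0 = a := ⟨_, fun _ _ => Iff.rfl⟩
  have hRinv : ∀ (x : G) a q, R (x • a) (x • q) ↔ R a q := by
    intro x a q
    rw [hR, hR]
    constructor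
    · rintro ⟨g, hg1, hg2⟩
      refine ⟨x⁻¹ * g, ?_, ?_⟩
      · have h1 : ((x⁻¹ * g : G) : G ⧸ H) = x⁻¹ • ((g : G) : G ⧸ H) := rfl
        rw [h1, hg1, inv_smul_smul]
      · rw [mul_smul, hg2, inv_smul_smul]
    · rintro ⟨g, hg1, hg2⟩
      refine ⟨x * g, ?_, ?_⟩
      · rw [← hg1]; rfl
      · rw [mul_smul, hg2]
  -- cosets are parametrised by `ZMod p`
  obtain ⟨ψ, hψ⟩ : ∃ ψ : ZMod p → G ⧸ H, ∀ j, ψ j = ((t ^ j.val : G) : G ⧸ H) :=
    ⟨_, fun _ => rfl⟩
  have hψinj : Function.Injective ψ := by
    intro i j hij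
    rw [hψ, hψ, QuotientGroup.eq] at hij
    have hu : (t ^ i.val)⁻¹ * t ^ j.val = t ^ (-(i.val : ℤ) + j.val) := by
      rw [zpow_add, zpow_neg, zpow_natCast, zpow_natCast]
    have hup : ((t ^ i.val)⁻¹ * t ^ j.val) ^ p = 1 := by
      rw [hu, ← zpow_natCast, ← zpow_mul, mul_comm, zpow_mul, zpow_natCast, htp, one_zpow]
    have h1 : orderOf ((t ^ i.val)⁻¹ * t ^ j.val) ∣ p := orderOf_dvd_of_pow_eq_one hup
    have h2 : orderOf ((t ^ i.val)⁻¹ * t ^ j.val) ∣ Nat.card H := by
      have := orderOf_dvd_natCard (⟨_, hij⟩ : H)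
      rwa [← Subgroup.orderOf_coe] at this
    have h3 : orderOf ((t ^ i.val)⁻¹ * t ^ j.val) = 1 := by
      have := Nat.dvd_gcd h2 h1
      rw [Nat.Coprime.gcd_eq_one hH2] at this
      exact Nat.dvd_one.mp this
    rw [orderOf_eq_one_iff, inv_mul_eq_one] at h3
    have h4 := hetpow i.val a0
    rw [h3, hetpow] at h4
    have h5 := add_left_cancel h4
    rwa [ZMod.natCast_zmod_val, ZMod.natCast_zmod_val, eq_comm] at h5
  have hψbij : Function.Bijective ψ := by
    rw [Fintype.bijective_iff_injective_and_card]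
    refine ⟨hψinj, ?_⟩
    rw [ZMod.card, ← Nat.card_eq_fintype_card, ← Subgroup.index_eq_card, hH]
  have hRψ : ∀ a j, R a (ψ j) ↔ e a - j ∈ D := by
    intro a j
    rw [hR, hmemD, hψ]
    constructor
    · rintro ⟨g, hg1, hg2⟩
      rw [eq_comm, QuotientGroup.eq] at hg1
      refine ⟨_, hg1, ?_⟩
      have h1 : g = t ^ j.val * ((t ^ j.val)⁻¹ * g) := by group
      have h2 : e a = e (((t ^ j.val)⁻¹ * g) • a0) + j := by
        rw [← hg2]
        conv_lhs => rw [h1]
        rw [mul_smul, hetpow, ZMod.natCast_zmod_val]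
      rw [h2]
      ring
    · rintro ⟨h, hh, hx⟩
      refine ⟨t ^ j.val * h, QuotientGroup.mk_mul_of_mem _ hh, ?_⟩
      apply e.injective
      rw [mul_smul, hetpow, hx, ZMod.natCast_zmod_val]
      ring
  -- the number of blocks through two points
  have hNinv : ∀ (x : G) a a', Nat.card {q : G ⧸ H // R (x • a) q ∧ R (x • a') q} =
      Nat.card {q : G ⧸ H // R a q ∧ R a' q} := by
    intro x a a'
    symm
    apply Nat.card_congr
    refine (MulAction.toPerm x : Perm (G ⧸ H)).subtypeEquiv ?_
    intro q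
    rw [MulAction.toPerm_apply, hRinv, hRinv]
  have hNμ : ∀ a a', Nat.card {q : G ⧸ H // R a q ∧ R a' q} =
      Finset.card (D.filter fun y => y - (e a - e a') ∈ D) := by
    intro a a'
    have h1 : Nat.card {q : G ⧸ H // R a q ∧ R a' q} =
        Nat.card {j : ZMod p // e a - j ∈ D ∧ e a' - j ∈ D} := by
      symm
      apply Nat.card_congr
      refine (Equiv.ofBijective ψ hψbij).subtypeEquiv ?_
      intro j
      rw [Equiv.ofBijective_apply, hRψ, hRψ]
    have h2 : Nat.card {j : ZMod p // e a - j ∈ D ∧ e a' - j ∈ D} =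
        Nat.card {y : ZMod p // y ∈ D ∧ y - (e a - e a') ∈ D} := by
      apply Nat.card_congr
      refine (Equiv.subLeft (e a)).subtypeEquiv ?_
      intro j
      rw [Equiv.subLeft_apply]
      have : e a - j - (e a - e a') = e a' - j := by ring
      rw [this]
    rw [h1, h2, Nat.card_eq_fintype_card]
    apply Fintype.card_of_subtype
    intro y
    rw [Finset.mem_filter]
  have hconst : ∀ d d' : ZMod p, d ≠ 0 → d' ≠ 0 →
      Finset.card (D.filter fun x => x - d ∈ D) = Finset.card (D.filter fun x => x - d' ∈ D) := by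
    intro d d' hd hd'
    rw [is_two_pretransitive_iff] at h2t
    have h1 : e.symm d ≠ e.symm 0 := fun h => hd (e.symm.injective h)
    have h2 : e.symm d' ≠ e.symm 0 := fun h => hd' (e.symm.injective h)
    obtain ⟨x, hx1, hx2⟩ := h2t h1 h2
    have h3 := hNinv x (e.symm d) (e.symm 0)
    rw [hx1, hx2, hNμ, hNμ] at h3
    simp only [Equiv.apply_symm_apply, sub_zero] at h3
    exact h3.symm
  rcases eq_univ_or_singleton hp2 D c hsymD hcD hconst with hDu | hDs
  · -- `H` would be transitive
    exfalso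
    haveI : IsPretransitive H α := by
      have h1 : ∀ a, ∃ h : H, h • a0 = a := by
        intro a
        have : e a ∈ D := by rw [hDu]; exact Finset.mem_univ _
        rw [hmemD] at this
        obtain ⟨h, hh, hx⟩ := this
        exact ⟨⟨h, hh⟩, e.injective hx⟩
      constructor
      intro a b
      obtain ⟨k1, rfl⟩ := h1 a
      obtain ⟨k2, rfl⟩ := h1 b
      exact ⟨k2 * k1⁻¹, by rw [mul_smul, inv_smul_smul]⟩
    have h1 : (stabilizer H a0).index = Nat.card α := index_stabilizer_of_transitive H a0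
    rw [Nat.card_eq_fintype_card, hα] at h1
    have h2 : p ∣ Nat.card H := by
      rw [← h1]
      exact Subgroup.index_dvd_card _
    exact (Nat.Prime.coprime_iff_not_dvd hp).mp hH2.symm h2
  · -- `H` fixes `a0`
    have hle : H ≤ stabilizer G a0 := by
      intro h hh
      rw [mem_stabilizer_iff]
      apply e.injective
      have : e (h • a0) ∈ D := by
        rw [hmemD]
        exact ⟨h, hh, rfl⟩
      rw [hDs, Finset.mem_singleton] at this
      rw [this, hea0]
    apply Subgroup.eq_of_le_of_card_ge hle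
    have hS : (stabilizer G a0).index = p := by
      rw [index_stabilizer_of_transitive, Nat.card_eq_fintype_card, hα]
    obtain ⟨hS1, -⟩ := card_of_index_p hα G (stabilizer G a0) hS
    have := hS1.trans hH1.symm
    exact (Nat.eq_of_mul_eq_mul_right hp.pos this).le

end Main

section Final
variable {p : ℕ} [Fact p.Prime] {α : Type*} [Fintype α] [DecidableEq α]

theorem index_p_of_two_transitive (hα : Fintype.card α = p) (hp2 : p ≠ 2)
    (G : Subgroup (Perm α)) [IsPretransitive G α] (h2t : IsMultiplyPretransitive G α 2)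
    (P : Sylow p G)
    (heven : Even (Nat.card (Subgroup.normalizer ((P : Subgroup G) : Set G))))
    (H : Subgroup G) (hH : H.index = p) : ∃ a : α, H = stabilizer G a := by
  classical
  have hp : p.Prime := Fact.out
  obtain ⟨e, t, s, c, het, hes, hsord⟩ := exists_setup hα hp2 G P heven
  have hs2 : s ^ 2 = 1 := by rw [← hsord]; exact pow_orderOf_eq_one s
  haveI : Fact (Nat.Prime 2) := ⟨Nat.prime_two⟩
  have hfix : ∃ q : G ⧸ H, (MulAction.toPerm s : Perm (G ⧸ H)) q = q := by
    apply Equiv.Perm.exists_fixed_point_of_prime (p := 2) (n := 1)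
    · rw [← Nat.card_eq_fintype_card, ← Subgroup.index_eq_card, hH]
      intro h2
      exact hp2 ((Nat.prime_dvd_prime_iff_eq Nat.prime_two hp).mp h2).symm
    · rw [pow_one]
      ext q
      rw [Equiv.Perm.coe_pow]
      change s • s • q = q
      rw [← mul_smul, ← sq, hs2, one_smul]
  obtain ⟨q, hq⟩ := hfix
  obtain ⟨g0, rfl⟩ := QuotientGroup.mk_surjective q
  have hs' : g0⁻¹ * s * g0 ∈ H := by
    rw [MulAction.toPerm_apply, MulAction.Quotient.smul_coe, eq_comm, QuotientGroup.eq] at hq
    rwa [smul_eq_mul, ← mul_assoc] at hq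
  have hH'idx : (H.map ((MulAut.conj g0 : G ≃* G) : G →* G)).index = p := by
    rw [Subgroup.index_map_equiv, hH]
  have hsH' : s ∈ H.map ((MulAut.conj g0 : G ≃* G) : G →* G) := by
    rw [Subgroup.mem_map]
    refine ⟨_, hs', ?_⟩
    change g0 * (g0⁻¹ * s * g0) * g0⁻¹ = s
    group
  have hmain := index_p_of_setup hα hp2 G h2t e t s c het hes _ hH'idx hsH'
  refine ⟨g0⁻¹ • e.symm (c / 2), ?_⟩
  rw [stabilizer_smul_eq_stabilizer_map_conj, ← hmain]
  ext x
  rw [Subgroup.mem_map]
  constructor
  · intro hx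
    refine ⟨g0 * x * g0⁻¹, ?_, ?_⟩
    · rw [Subgroup.mem_map]
      exact ⟨x, hx, rfl⟩
    · change g0⁻¹ * (g0 * x * g0⁻¹) * g0⁻¹⁻¹ = x
      group
  · rintro ⟨y, hy, rfl⟩
    rw [Subgroup.mem_map] at hy
    obtain ⟨z, hz, rfl⟩ := hy
    change g0⁻¹ * (g0 * z * g0⁻¹) * g0⁻¹⁻¹ ∈ H
    have : g0⁻¹ * (g0 * z * g0⁻¹) * g0⁻¹⁻¹ = z := by group
    rw [this]
    exact hz

end Final

end Cfsg.Agent.Helper4.PrimeDegreeIndex
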