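import Mathlib
import Cfsg.Agent.Helper18.K2P.Defs
import Cfsg.Agent.Helper18.K2P.Defs2
import Cfsg.Agent.Helper18.K2P.QB
import Cfsg.Agent.Helper18.K2P.BASIS
import Cfsg.Agent.Helper8.K2PROT

set_option autoImplicit false
set_option linter.unusedSectionVars false
set_option linter.unusedVariables false

/-! # K2P (S5692, `k = 2`, hyperbolic blocks), chapters C/D (driver helper18), pieces CD-INV and CD-PURE (helper4). -/

namespace Cfsg.Agent.K2P

open Matrix Cfsg.Agent.OC2P Cfsg.Agent.Helper28.Sg Cfsg.Agent.Helper28.Spin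
  Cfsg.Agent.Helper12.OrthGen Cfsg.Agent.K2M

variable {F : Type*} [Field F] [Fintype F] {t : ℕ} {Q : QuadraticForm F (Fin t × Fin 2 → F)}
  {q : QuadraticForm F (Fin 2 → F)} {e f : Fin 2 → F} {M : Subgroup (OG Q)}

theorem CD.INV.aux_rot_zero (μ : F) : rotV q e f μ 0 = 0 := by
  unfold rotV
  simp [QuadraticMap.polar_zero_left]

/-- the element of `ROT.two` fixes a vector vanishing on both blocks -/
theorem CD.INV.aux_fix {g : OG Q} {p l : Fin t} {ν : F}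
    (hg : ∀ x, mt Q g *ᵥ x = x + binj p (rotV q e f ν (bproj p x) - bproj p x)
      + binj l (rotV q e f ν⁻¹ (bproj l x) - bproj l x))
    {z : Fin t × Fin 2 → F} (hzp : bproj p z = 0) (hzl : bproj l z = 0) : mt Q g *ᵥ z = z := by
  rw [hg, hzp, hzl, CD.INV.aux_rot_zero, CD.INV.aux_rot_zero]
  simp only [sub_zero, QB.binj_zero, add_zero]

/-- CD-INV (S-M) -/
theorem CD.INV (bp : BP Q q e f) (ht : 3 ≤ t) (hM : HasMO M) {z : Fin t × Fin 2 → F} (hz : Q z = 0)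
    {p l : Fin t} (hpl : p ≠ l) (hzp : bproj p z = 0) (hzl : bproj l z = 0) {ν : F} (hν : ν ≠ 0)
    {y : Fin 2 → F} (hy : binj p y ∈ Rad M z hz) : binj p (rotV q e f ν y) ∈ Rad M z hz := by
  obtain ⟨g, hgM, hg⟩ := ROT.two bp ht hM hpl hν
  refine Rad_conj' hgM hy hz (CD.INV.aux_fix hg hzp hzl) ?_
  rw [hg, bproj_binj, bproj_binj_ne hpl.symm, CD.INV.aux_rot_zero, sub_zero, QB.binj_zero, add_zero,
    ← QB.binj_add]
  congr 1
  abel

theorem CD.PURE.aux_nu (hq : 7 ≤ Fintype.card F) : ∃ ν : F, ν ≠ 0 ∧ ν ≠ 1 := by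
  classical
  by_contra hcon
  push Not at hcon
  have hsub : (Finset.univ : Finset F) ⊆ {0, 1} := by
    intro x _
    by_cases hx : x = 0
    · simp [hx]
    · simp [hcon x hx]
  have h1 : Fintype.card F ≤ 2 :=
    calc Fintype.card F = (Finset.univ : Finset F).card := Finset.card_univ.symm
      _ ≤ ({0, 1} : Finset F).card := Finset.card_le_card hsub
      _ ≤ 2 := Finset.card_le_two
  omega

/-- the coordinates of `rotV ν y - y` -/
theorem CD.PURE.aux_polar_f (bp : BP Q q e f) (ν : F) (y : Fin 2 → F) :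
    QuadraticMap.polar ⇑q (rotV q e f ν y - y) f = (ν - 1) * QuadraticMap.polar ⇑q y f := by
  have hff : QuadraticMap.polar ⇑q f f = 0 := by
    rw [QuadraticMap.polar_self, bp.qf, smul_zero]
  unfold rotV
  rw [QuadraticMap.polar_sub_left, QuadraticMap.polar_add_left, QuadraticMap.polar_smul_left,
    QuadraticMap.polar_smul_left, bp.ef, hff]
  simp only [smul_eq_mul]
  ring

theorem CD.PURE.aux_polar_e (bp : BP Q q e f) (ν : F) (y : Fin 2 → F) :
    QuadraticMap.polar ⇑q (rotV q e f ν y - y) e = (ν⁻¹ - 1) * QuadraticMap.polar ⇑q y e := by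
  have hee : QuadraticMap.polar ⇑q e e = 0 := by
    rw [QuadraticMap.polar_self, bp.qe, smul_zero]
  have hfe : QuadraticMap.polar ⇑q f e = 1 := by
    rw [QuadraticMap.polar_comm]; exact bp.ef
  unfold rotV
  rw [QuadraticMap.polar_sub_left, QuadraticMap.polar_add_left, QuadraticMap.polar_smul_left,
    QuadraticMap.polar_smul_left, hee, hfe]
  simp only [smul_eq_mul]
  ring

/-- CD-PURE (M) -/
theorem CD.PURE (bp : BP Q q e f) (ht : 3 ≤ t) (hq : 7 ≤ Fintype.card F) (hM : HasMO M)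
    {z : Fin t × Fin 2 → F} (hz : Q z = 0) {p l l' : Fin t} (hpl : p ≠ l) (hpl' : p ≠ l') (hll' : l ≠ l')
    (hzp : bproj p z = 0) (hzl : bproj l z = 0) (hzl' : bproj l' z = 0) {w : Fin t × Fin 2 → F}
    (hw : w ∈ Rad M z hz) (hwp : bproj p w ≠ 0) :
    ∃ y : Fin 2 → F, y ≠ 0 ∧ binj p y ∈ Rad M z hz := by
  obtain ⟨ν, hν0, hν1⟩ := CD.PURE.aux_nu (F := F) hq
  obtain ⟨g, hgM, hg⟩ := ROT.two bp ht hM hpl hν0
  obtain ⟨g', hgM', hg'⟩ := ROT.two bp ht hM hpl' hν0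
  obtain ⟨y0, hy0⟩ : ∃ y0 : Fin 2 → F, y0 = bproj p w := ⟨_, rfl⟩
  obtain ⟨y1, hy1⟩ : ∃ y1 : Fin 2 → F, y1 = rotV q e f ν y0 - y0 := ⟨_, rfl⟩
  obtain ⟨y2, hy2⟩ : ∃ y2 : Fin 2 → F, y2 = rotV q e f ν y1 - y1 := ⟨_, rfl⟩
  -- first step
  have hgw : mt Q g *ᵥ w ∈ Rad M z hz :=
    Rad_conj' hgM hw hz (CD.INV.aux_fix hg hzp hzl) rfl
  obtain ⟨w1, hw1⟩ : ∃ w1 : Fin t × Fin 2 → F,
      w1 = binj p y1 + binj l (rotV q e f ν⁻¹ (bproj l w) - bproj l w) := ⟨_, rfl⟩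
  have hw1mem : w1 ∈ Rad M z hz := by
    have h1 : mt Q g *ᵥ w - w ∈ Rad M z hz := (Rad M z hz).sub_mem hgw hw
    have h2 : mt Q g *ᵥ w - w = w1 := by
      rw [hg, hw1, hy1, hy0]; abel
    rw [h2] at h1
    exact h1
  -- second step
  have hw1p : bproj p w1 = y1 := by
    rw [hw1, QB.bproj_add, bproj_binj, bproj_binj_ne hpl, add_zero]
  have hw1l' : bproj l' w1 = 0 := by
    rw [hw1, QB.bproj_add, bproj_binj_ne hpl'.symm, bproj_binj_ne hll'.symm, add_zero]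
  have hgw1 : mt Q g' *ᵥ w1 ∈ Rad M z hz :=
    Rad_conj' hgM' hw1mem hz (CD.INV.aux_fix hg' hzp hzl') rfl
  have hw2mem : binj p y2 ∈ Rad M z hz := by
    have h1 : mt Q g' *ᵥ w1 - w1 ∈ Rad M z hz := (Rad M z hz).sub_mem hgw1 hw1mem
    have h2 : mt Q g' *ᵥ w1 - w1 = binj p y2 := by
      rw [hg', hw1p, hw1l', CD.INV.aux_rot_zero, sub_zero, QB.binj_zero, hy2]; abel
    rw [h2] at h1
    exact h1
  refine ⟨y2, ?_, hw2mem⟩
  -- nonvanishing
  intro h0
  have hνm : ν - 1 ≠ 0 := sub_ne_zero.mpr hν1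
  have hνi : ν⁻¹ - 1 ≠ 0 := by
    intro h
    apply hν1
    have : ν⁻¹ = 1 := sub_eq_zero.mp h
    rw [← inv_inv ν, this, inv_one]
  have hf2 : QuadraticMap.polar ⇑q y2 f = (ν - 1) * ((ν - 1) * QuadraticMap.polar ⇑q y0 f) := by
    rw [hy2, CD.PURE.aux_polar_f bp, hy1, CD.PURE.aux_polar_f bp]
  have he2 : QuadraticMap.polar ⇑q y2 e = (ν⁻¹ - 1) * ((ν⁻¹ - 1) * QuadraticMap.polar ⇑q y0 e) := by
    rw [hy2, CD.PURE.aux_polar_e bp, hy1, CD.PURE.aux_polar_e bp]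
  rw [h0, QuadraticMap.polar_zero_left] at hf2 he2
  have hf0 : QuadraticMap.polar ⇑q y0 f = 0 := by
    rcases mul_eq_zero.mp hf2.symm with h | h
    · exact absurd h hνm
    · rcases mul_eq_zero.mp h with h | h
      · exact absurd h hνm
      · exact h
  have he0 : QuadraticMap.polar ⇑q y0 e = 0 := by
    rcases mul_eq_zero.mp he2.symm with h | h
    · exact absurd h hνi
    · rcases mul_eq_zero.mp h with h | h
      · exact absurd h hνi
      · exact h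
  apply hwp
  rw [← hy0]
  have := BASIS.eq bp y0
  rw [hf0, he0, zero_smul, zero_smul, add_zero] at this
  exact this

end Cfsg.Agent.K2P
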