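import Mathlib
import Cfsg.Agent.S2644
import Cfsg.Agent.Helper4.LSDefs
import Cfsg.Agent.Helper28.HermStd

set_option autoImplicit false

/-! S2334 piece ELA: transport from the block model to the standard Hermitian space. -/

namespace Cfsg.Agent.Helper4.LS34ELA

open Matrix Cfsg.Agent.S2334P Cfsg.Agent.S2644 Cfsg.Agent.Helper2.SUGen

variable {K : Type*} [Field K] {q : ℕ}

/-- the form attached to a Gram matrix -/
def gf (σ : K →+* K) {n : ℕ} (J : Matrix (Fin n) (Fin n) K) (v w : Fin n → K) : K :=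
  v ⬝ᵥ (J *ᵥ (σ ∘ w))

theorem gf_add_left (σ : K →+* K) {n : ℕ} (J : Matrix (Fin n) (Fin n) K) (x y v : Fin n → K) :
    gf σ J (x + y) v = gf σ J x v + gf σ J y v := by
  unfold gf; rw [add_dotProduct]

theorem gf_smul_left (σ : K →+* K) {n : ℕ} (J : Matrix (Fin n) (Fin n) K) (c : K)
    (x v : Fin n → K) : gf σ J (c • x) v = c * gf σ J x v := by
  unfold gf; rw [smul_dotProduct, smul_eq_mul]

theorem gf_smul_right (σ : K →+* K) {n : ℕ} (J : Matrix (Fin n) (Fin n) K) (c : K)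
    (x v : Fin n → K) : gf σ J x (c • v) = σ c * gf σ J x v := by
  unfold gf
  have : σ ∘ (c • v) = σ c • (σ ∘ v) := by
    funext i; simp
  rw [this, Matrix.mulVec_smul, dotProduct_smul, smul_eq_mul]

theorem gf_herm (σ : K →+* K) (hσ : ∀ x, σ (σ x) = x) {n : ℕ} (J : Matrix (Fin n) (Fin n) K)
    (hJt : Jᵀ = J) (hJσ : J.map σ = J) (v w : Fin n → K) :
    gf σ J v w = σ (gf σ J w v) := by
  unfold gf
  simp only [dotProduct, Matrix.mulVec, Function.comp_apply, map_sum, map_mul, hσ,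
    Finset.mul_sum]
  rw [Finset.sum_comm]
  apply Finset.sum_congr rfl
  intro i _
  apply Finset.sum_congr rfl
  intro j _
  have h1 : σ (J i j) = J i j := by
    have := congrFun (congrFun hJσ i) j
    rwa [Matrix.map_apply] at this
  have h2 : J j i = J i j := by
    have := congrFun (congrFun hJt i) j
    rwa [Matrix.transpose_apply] at this
  rw [h1, h2]
  ring

theorem gf_single_left (σ : K →+* K) {n : ℕ} (J : Matrix (Fin n) (Fin n) K) (i : Fin n)
    (w : Fin n → K) : gf σ J (Pi.single i 1) w = (J *ᵥ (σ ∘ w)) i := by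
  classical
  unfold gf
  rw [single_one_dotProduct]

theorem gf_isUnitaryForm (σ : K →+* K) (hσ : ∀ x, σ (σ x) = x) (σ' : K ≃+* K)
    (hσ' : ∀ x, σ' x = σ x) (hne : ∃ x, σ x ≠ x) {n : ℕ} (J : Matrix (Fin n) (Fin n) K)
    (hJt : Jᵀ = J) (hJσ : J.map σ = J) (hJ2 : J * J = 1) :
    Cfsg.Geo.IsUnitaryForm σ' (gf σ J) where
  ne_refl := by
    intro h
    obtain ⟨x, hx⟩ := hne
    apply hx
    rw [← hσ', h]
    rfl
  involutive := by
    intro a
    rw [hσ', hσ', hσ]
  add_left := fun x y v => gf_add_left σ J x y v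
  smul_left := fun c x v => gf_smul_left σ J c x v
  herm := by
    intro v w
    rw [hσ']
    exact gf_herm σ hσ J hJt hJσ v w
  nondegenerate := by
    intro v hv
    have hw : J *ᵥ (σ ∘ v) ≠ 0 := by
      intro h0
      apply hv
      have h1 := congrArg (fun w => J *ᵥ w) h0
      simp only [Matrix.mulVec_mulVec, hJ2, Matrix.one_mulVec, Matrix.mulVec_zero] at h1
      funext i
      have h2 := congrFun h1 i
      have h3 := congrArg σ h2
      simpa [hσ] using h3
    obtain ⟨i, hi⟩ : ∃ i, (J *ᵥ (σ ∘ v)) i ≠ 0 := by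
      by_contra h
      simp only [not_exists, not_not] at h
      exact hw (funext h)
    have h1 : gf σ J (Pi.single i 1) v ≠ 0 := by
      rw [gf_single_left]; exact hi
    refine ⟨⟨Pi.single i 1, h1⟩, ⟨Pi.single i 1, ?_⟩⟩
    rw [gf_herm σ hσ J hJt hJσ]
    intro h0
    apply h1
    have := congrArg σ h0
    rwa [hσ, map_zero] at this

/-- preservation of the Gram form in matrix terms -/
theorem gf_mulVec (σ : K →+* K) {n : ℕ} (J M : Matrix (Fin n) (Fin n) K)
    (hM : Mᵀ * J * M.map σ = J) (v w : Fin n → K) :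
    gf σ J (M *ᵥ v) (M *ᵥ w) = gf σ J v w := by
  unfold gf
  have h1 : σ ∘ (M *ᵥ w) = M.map σ *ᵥ (σ ∘ w) := by
    funext i
    simp only [Function.comp_apply, Matrix.mulVec, dotProduct, map_sum, map_mul, Matrix.map_apply]
  rw [h1, Matrix.mulVec_mulVec, ← Matrix.vecMul_transpose, ← Matrix.dotProduct_mulVec,
    Matrix.mulVec_mulVec, ← Matrix.mul_assoc, hM]

end Cfsg.Agent.Helper4.LS34ELA

namespace Cfsg.Agent.Helper4.LS34ELA

open Matrix Cfsg.Agent.S2334P Cfsg.Agent.S2644 Cfsg.Agent.Helper2.SUGen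

variable {K : Type*} [Field K] {q : ℕ}

theorem JJ_transpose (m : ℕ) : (JJ K m)ᵀ = JJ K m := by
  unfold JJ
  simp [Matrix.fromBlocks_transpose]

theorem JJ_map (σ : K →+* K) (m : ℕ) : (JJ K m).map σ = JJ K m := by
  unfold JJ
  simp [Matrix.fromBlocks_map]

theorem JJ_mul_self (m : ℕ) : JJ K m * JJ K m = 1 := by
  unfold JJ
  simp [Matrix.fromBlocks_multiply, Matrix.fromBlocks_one]

/-- conjugation by an invertible matrix as an algebra automorphism -/
def conjAlg {n : ℕ} (P : Matrix.GeneralLinearGroup (Fin n) K) :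
    Matrix (Fin n) (Fin n) K ≃ₐ[K] Matrix (Fin n) (Fin n) K where
  toFun M := ((P⁻¹ : Matrix.GeneralLinearGroup (Fin n) K) : Matrix (Fin n) (Fin n) K) * M *
    (P : Matrix (Fin n) (Fin n) K)
  invFun M := (P : Matrix (Fin n) (Fin n) K) * M *
    ((P⁻¹ : Matrix.GeneralLinearGroup (Fin n) K) : Matrix (Fin n) (Fin n) K)
  left_inv M := by
    have h1 : (P : Matrix (Fin n) (Fin n) K) *
        ((P⁻¹ : Matrix.GeneralLinearGroup (Fin n) K) : Matrix (Fin n) (Fin n) K) = 1 := by
      rw [← Units.val_mul, mul_inv_cancel, Units.val_one]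
    calc (P : Matrix (Fin n) (Fin n) K) * (↑P⁻¹ * M * ↑P) * ↑P⁻¹
        = ((P : Matrix (Fin n) (Fin n) K) * ↑P⁻¹) * M * (↑P * ↑P⁻¹) := by
          simp only [Matrix.mul_assoc]
      _ = M := by rw [h1, Matrix.one_mul, Matrix.mul_one]
  right_inv M := by
    have h1 : ((P⁻¹ : Matrix.GeneralLinearGroup (Fin n) K) : Matrix (Fin n) (Fin n) K) *
        (P : Matrix (Fin n) (Fin n) K) = 1 := by
      rw [← Units.val_mul, inv_mul_cancel, Units.val_one]
    calc ((P⁻¹ : Matrix.GeneralLinearGroup (Fin n) K) : Matrix (Fin n) (Fin n) K) *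
          (↑P * M * ↑P⁻¹) * ↑P
        = (((P⁻¹ : Matrix.GeneralLinearGroup (Fin n) K) : Matrix (Fin n) (Fin n) K) * ↑P) * M *
          (↑P⁻¹ * ↑P) := by
          simp only [Matrix.mul_assoc]
      _ = M := by rw [h1, Matrix.one_mul, Matrix.mul_one]
  map_mul' M N := by
    have h1 : (P : Matrix (Fin n) (Fin n) K) *
        ((P⁻¹ : Matrix.GeneralLinearGroup (Fin n) K) : Matrix (Fin n) (Fin n) K) = 1 := by
      rw [← Units.val_mul, mul_inv_cancel, Units.val_one]
    calc ((P⁻¹ : Matrix.GeneralLinearGroup (Fin n) K) : Matrix (Fin n) (Fin n) K) * (M * N) * ↑P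
        = ((P⁻¹ : Matrix.GeneralLinearGroup (Fin n) K) : Matrix (Fin n) (Fin n) K) * M *
            (1 * N) * ↑P := by
          rw [Matrix.one_mul]; simp only [Matrix.mul_assoc]
      _ = _ := by rw [← h1]; simp only [Matrix.mul_assoc]
  map_add' M N := by
    rw [Matrix.mul_add, Matrix.add_mul]
  commutes' c := by
    have h1 : ((P⁻¹ : Matrix.GeneralLinearGroup (Fin n) K) : Matrix (Fin n) (Fin n) K) *
        (P : Matrix (Fin n) (Fin n) K) = 1 := by
      rw [← Units.val_mul, inv_mul_cancel, Units.val_one]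
    rw [Algebra.algebraMap_eq_smul_one, Matrix.mul_smul, Matrix.mul_one, Matrix.smul_mul, h1]

theorem conjAlg_apply {n : ℕ} (P : Matrix.GeneralLinearGroup (Fin n) K)
    (M : Matrix (Fin n) (Fin n) K) :
    conjAlg P M = ((P⁻¹ : Matrix.GeneralLinearGroup (Fin n) K) : Matrix (Fin n) (Fin n) K) * M *
      (P : Matrix (Fin n) (Fin n) K) := rfl

theorem conjAlg_det {n : ℕ} (P : Matrix.GeneralLinearGroup (Fin n) K)
    (M : Matrix (Fin n) (Fin n) K) : (conjAlg P M).det = M.det := by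
  rw [conjAlg_apply, Matrix.det_mul, Matrix.det_mul, mul_comm, ← mul_assoc, ← Matrix.det_mul,
    ← Units.val_mul, mul_inv_cancel, Units.val_one, Matrix.det_one, one_mul]

end Cfsg.Agent.Helper4.LS34ELA

namespace Cfsg.Agent.S2334P

open Matrix Cfsg.Agent.S2644 Cfsg.Agent.Helper2.SUGen Cfsg.Agent.Helper4.LS34ELA

variable {K : Type*} [Field K] {q : ℕ}

theorem exists_transport [Fintype K] (D : Frob K q) (m : ℕ) :
    ∃ Φ : Matrix (Idx m) (Idx m) K ≃ₐ[K] Matrix (Fin (2 * m + 1)) (Fin (2 * m + 1)) K,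
      (∀ M, (Φ M).det = M.det) ∧ (∀ M, PresJ D.σ m M → Pres (q := q) (Φ M)) := by
  classical
  have hcard : Fintype.card (Idx m) = 2 * m + 1 := by
    simp only [Idx, Fintype.card_sum, Fintype.card_fin, Fintype.card_unit]
    ring
  let e : Idx m ≃ Fin (2 * m + 1) := Fintype.equivFinOfCardEq hcard
  let R : Matrix (Idx m) (Idx m) K ≃ₐ[K] Matrix (Fin (2 * m + 1)) (Fin (2 * m + 1)) K :=
    Matrix.reindexAlgEquiv K K e
  have hR : ∀ M, R M = M.submatrix e.symm e.symm := fun M => rfl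
  set J' := R (JJ K m) with hJ'
  have hJt : J'ᵀ = J' := by
    rw [hJ', hR, Matrix.transpose_submatrix, JJ_transpose]
  have hJσ : J'.map D.σ = J' := by
    rw [hJ', hR, ← Matrix.submatrix_map, JJ_map]
  have hJ2 : J' * J' = 1 := by
    rw [hJ', ← map_mul, JJ_mul_self, map_one]
  let σ' : K ≃+* K := RingEquiv.ofRingHom D.σ D.σ
    (by ext x; exact D.invol x) (by ext x; exact D.invol x)
  have hσ' : ∀ x, σ' x = D.σ x := fun x => rfl
  have hne : ∃ x, D.σ x ≠ x := by
    by_contra hcon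
    push Not at hcon
    apply D.ne_id
    ext x
    exact hcon x
  have hf := gf_isUnitaryForm D.σ D.invol σ' hσ' hne J' hJt hJσ hJ2
  obtain ⟨q', D', P, hP⟩ := Cfsg.Agent.Helper28.HermStd.exists_std σ' (gf D.σ J') hf
  -- `c ^ q' = σ c`
  have hpow : ∀ c : K, c ^ q' = D.σ c := by
    set x0 : Fin (2 * m + 1) → K := Pi.single 0 1 with hx0
    have h1 : ∀ c : K, Cfsg.hermForm (2 * m + 1) K q' x0 (c • x0) = c ^ q' := by
      intro c
      unfold Cfsg.hermForm
      rw [Finset.sum_eq_single 0]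
      · simp [hx0]
      · intro b _ hb
        simp [hx0, Pi.single_apply, hb]
      · intro h; exact absurd (Finset.mem_univ _) h
    have h2 : Cfsg.hermForm (2 * m + 1) K q' x0 x0 = 1 := by
      have := h1 1
      rwa [one_smul, one_pow] at this
    intro c
    rw [← h1 c, ← hP, Matrix.mulVec_smul, gf_smul_right, hP, h2, mul_one]
  have hP' : ∀ x y : Fin (2 * m + 1) → K,
      gf D.σ J' ((P : Matrix (Fin (2 * m + 1)) (Fin (2 * m + 1)) K) *ᵥ x)
        ((P : Matrix (Fin (2 * m + 1)) (Fin (2 * m + 1)) K) *ᵥ y) =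
      Cfsg.hermForm (2 * m + 1) K q x y := by
    intro x y
    rw [hP]
    unfold Cfsg.hermForm
    apply Finset.sum_congr rfl
    intro i _
    rw [hpow, D.pow]
  refine ⟨R.trans (conjAlg P), ?_, ?_⟩
  · intro M
    show (conjAlg P (R M)).det = M.det
    rw [conjAlg_det]
    exact Matrix.det_reindexAlgEquiv K K e M
  · intro M hM
    have hM' : (R M)ᵀ * J' * (R M).map D.σ = J' := by
      rw [hJ', hR, hR, Matrix.transpose_submatrix, ← Matrix.submatrix_map,
        Matrix.submatrix_mul_equiv, Matrix.submatrix_mul_equiv]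
      congr 1
    intro x y
    show Cfsg.hermForm (2 * m + 1) K q (conjAlg P (R M) *ᵥ x) (conjAlg P (R M) *ᵥ y) = _
    have hPP : (P : Matrix (Fin (2 * m + 1)) (Fin (2 * m + 1)) K) *
        ((P⁻¹ : Matrix.GeneralLinearGroup (Fin (2 * m + 1)) K) :
          Matrix (Fin (2 * m + 1)) (Fin (2 * m + 1)) K) = 1 := by
      rw [← Units.val_mul, mul_inv_cancel, Units.val_one]
    have hkey : ∀ v : Fin (2 * m + 1) → K,
        (P : Matrix (Fin (2 * m + 1)) (Fin (2 * m + 1)) K) *ᵥ (conjAlg P (R M) *ᵥ v) =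
          R M *ᵥ ((P : Matrix (Fin (2 * m + 1)) (Fin (2 * m + 1)) K) *ᵥ v) := by
      intro v
      rw [conjAlg_apply, Matrix.mulVec_mulVec, Matrix.mulVec_mulVec, ← Matrix.mul_assoc,
        ← Matrix.mul_assoc, hPP, Matrix.one_mul]
    rw [← hP', hkey, hkey, gf_mulVec D.σ J' (R M) hM', hP']

end Cfsg.Agent.S2334P
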