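import Mathlib
import Cfsg.Agent.Helper26.S2607AG1

set_option autoImplicit false

/-! S2607/S2608, piece M4-P2: `O = V Γ ⟨φ⟩` with `V` normal and `φ` of order `f` centralising
`V` and `Γ` gives `O ≃ (V ⊔ Γ) × C_f`. -/

namespace Cfsg.Agent.S2607P

theorem prod_of_three {O : Type*} [Group O] (V Γ : Subgroup O) [V.Normal] (φ : O) (f : ℕ)
    (hf : 1 ≤ f) (hord : φ ^ f = 1)
    (hdec : ∀ x : O, ∃ d ∈ V, ∃ g ∈ Γ, ∃ k : ℕ, x = d * g * φ ^ k)
    (hint : ∀ d ∈ V, ∀ g ∈ Γ, ∀ k : ℕ, φ ^ k = d * g → f ∣ k)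
    (hV : ∀ d ∈ V, φ * d = d * φ) (hΓ : ∀ g ∈ Γ, φ * g = g * φ) :
    (V ⊔ Γ).Normal ∧ Nonempty (O ≃* ↥(V ⊔ Γ) × Multiplicative (ZMod f)) := by
  -- `φ` centralises `V ⊔ Γ`
  have hle : V ⊔ Γ ≤ Subgroup.centralizer {φ} := by
    apply sup_le
    · intro d hd
      rw [Subgroup.mem_centralizer_iff]
      intro h hh
      rw [Set.mem_singleton_iff] at hh
      subst hh
      exact hV d hd
    · intro g hg
      rw [Subgroup.mem_centralizer_iff]
      intro h hh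
      rw [Set.mem_singleton_iff] at hh
      subst hh
      exact hΓ g hg
  have hcent : ∀ n ∈ V ⊔ Γ, φ * n = n * φ := by
    intro n hn
    have := hle hn
    rw [Subgroup.mem_centralizer_iff] at this
    exact this φ rfl
  have hcentk : ∀ n ∈ V ⊔ Γ, ∀ k : ℕ, φ ^ k * n = n * φ ^ k := by
    intro n hn k
    have h1 : Commute φ n := hcent n hn
    exact h1.pow_left k
  have hnorm : (V ⊔ Γ).Normal := by
    constructor
    intro m hm x
    obtain ⟨d, hd, g, hg, k, rfl⟩ := hdec x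
    have hdg : d * g ∈ V ⊔ Γ :=
      (V ⊔ Γ).mul_mem (Subgroup.mem_sup_left hd) (Subgroup.mem_sup_right hg)
    have : d * g * φ ^ k * m * (d * g * φ ^ k)⁻¹ = d * g * m * (d * g)⁻¹ := by
      rw [mul_inv_rev, mul_assoc (d * g) (φ ^ k) m, hcentk m hm k]
      group
    rw [this]
    exact (V ⊔ Γ).mul_mem ((V ⊔ Γ).mul_mem hdg hm) ((V ⊔ Γ).inv_mem hdg)
  refine ⟨hnorm, ?_⟩
  haveI := hnorm
  apply prod_of_central (V ⊔ Γ) φ f hf hord
  · intro k hk
    have hk' : φ ^ k ∈ ((V ⊔ Γ : Subgroup O) : Set O) := hk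
    rw [Subgroup.normal_mul] at hk'
    obtain ⟨d, hd, g, hg, hdg⟩ := Set.mem_mul.mp hk'
    exact hint d hd g hg k hdg.symm
  · intro x
    obtain ⟨d, hd, g, hg, k, rfl⟩ := hdec x
    refine ⟨(f - 1) * k, ?_⟩
    have : d * g * φ ^ k * φ ^ ((f - 1) * k) = d * g := by
      rw [mul_assoc, ← pow_add]
      have : k + (f - 1) * k = f * k := by
        obtain ⟨f', rfl⟩ : ∃ f', f = f' + 1 := ⟨f - 1, by omega⟩
        simp only [Nat.add_sub_cancel]
        ring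
      rw [this, pow_mul, hord, one_pow, mul_one]
    rw [this]
    exact (V ⊔ Γ).mul_mem (Subgroup.mem_sup_left hd) (Subgroup.mem_sup_right hg)
  · exact hcent

end Cfsg.Agent.S2607P
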