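import Mathlib
import Cfsg.Agent.Helper2.S2099.DefsR

set_option autoImplicit false
set_option linter.unusedSectionVars false
set_option linter.unusedVariables false

/-! S2099 piece MONOQ (helper4; driver helper2): an element permuting the root subgroups of twisted type `²D_{n+1}`
along `σ` is mapped by `π` to a matrix which is monomial on the hyperbolic part and stabilizes the anisotropic part. -/

namespace Cfsg.Agent.S2099P

open Matrix Cfsg.Agent.S3352P Cfsg.Agent.S3351P Cfsg.Agent.S2096P Cfsg.Agent.RGD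
open Cfsg.Agent.S2094P (NgEquivariant)

variable {n : ℕ} {F : Type*} [Field F] {κ : Type} [Fintype κ] [DecidableEq κ]
  {M : Type*} [Group M] {Q0 : QuadraticForm F (κ → F)} {X : J n → J n → F → M}
  {Ys : J n → (κ → F) → M}

namespace MONOQ

/-- the long root elements of the model in `single` form -/
theorem xmQ_eq (a b : J n) (t : F) :
    (xmQ a b t : Matrix (IQ n κ) (IQ n κ) F) =
      1 + t • (Matrix.single (Sum.inl a) (Sum.inl b) (1 : F) -
        Matrix.single (Sum.inl (ng b)) (Sum.inl (ng a)) (1 : F)) := by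
  unfold xmQ blkQ xm
  ext (i | k) (j | k') <;>
    simp [Matrix.single_apply, Matrix.one_apply, Matrix.add_apply, Matrix.sub_apply,
      Matrix.smul_apply]

/-- the columns of the signed indices -/
theorem col_inl (π : M →* Matrix (IQ n κ) (IQ n κ) F)
    (hπX : ∀ a b, IsRoot a b → ∀ t : F, π (X a b t) = xmQ a b t) (hn : 3 ≤ n) {g : M}
    {σ : Equiv.Perm (J n)} (hσ : NgEquivariant σ)
    (hgX : ∀ a b, IsRoot a b → ∀ t : F, ∃ t' : F, g * X a b t * g⁻¹ = X (σ a) (σ b) t')
    (i : IQ n κ) (a : J n) (hia : i ≠ Sum.inl (σ a)) : π g i (Sum.inl a) = 0 := by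
  classical
  -- a root `(a, b)` with `inl (ng (σ b)) ≠ i`
  obtain ⟨b, hb1, hb2, hb3⟩ : ∃ b : J n, b ≠ a ∧ b ≠ ng a ∧ i ≠ Sum.inl (ng (σ b)) := by
    rcases i with i' | u
    · obtain ⟨b, hb⟩ : ∃ b, b ∉ ({a, ng a, σ.symm (ng i')} : Finset (J n)) := by
        by_contra h
        push Not at h
        have h1 : (Finset.univ : Finset (J n)) ⊆ {a, ng a, σ.symm (ng i')} := fun x _ => h x
        have h2 := Finset.card_le_card h1
        have h3 : ({a, ng a, σ.symm (ng i')} : Finset (J n)).card ≤ 3 := Finset.card_le_three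
        rw [Finset.card_univ, Fintype.card_sum, Fintype.card_fin] at h2
        omega
      simp only [Finset.mem_insert, Finset.mem_singleton, not_or] at hb
      refine ⟨b, hb.1, hb.2.1, fun h => hb.2.2 ?_⟩
      have h' : i' = ng (σ b) := Sum.inl_injective h
      rw [h', ng_ng, Equiv.symm_apply_apply]
    · obtain ⟨b, hb⟩ : ∃ b, b ∉ ({a, ng a} : Finset (J n)) := by
        by_contra h
        push Not at h
        have h1 : (Finset.univ : Finset (J n)) ⊆ {a, ng a} := fun x _ => h x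
        have h2 := Finset.card_le_card h1
        have h3 : ({a, ng a} : Finset (J n)).card ≤ 2 := Finset.card_le_two
        rw [Finset.card_univ, Fintype.card_sum, Fintype.card_fin] at h2
        omega
      simp only [Finset.mem_insert, Finset.mem_singleton, not_or] at hb
      exact ⟨b, hb.1, hb.2, fun h => by cases h⟩
  have hab : IsRoot a b := ⟨fun h => hb1 h.symm, fun h => hb2 (by rw [h, ng_ng])⟩
  have hab' : IsRoot (σ a) (σ b) := by
    refine ⟨fun h => hab.1 (σ.injective h), fun h => hab.2 (σ.injective ?_)⟩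
    rw [h, hσ]
  obtain ⟨t', h1⟩ := hgX a b hab 1
  have h2 : g * X a b 1 = X (σ a) (σ b) t' * g := by
    rw [← h1]; group
  have h3 := congrArg π h2
  rw [map_mul, map_mul, hπX a b hab, hπX _ _ hab', xmQ_eq, xmQ_eq] at h3
  rw [mul_add, add_mul, mul_one, one_mul, add_right_inj, one_smul, Matrix.smul_mul] at h3
  have h4 := congrFun (congrFun h3 i) (Sum.inl b)
  have hne : (Sum.inl b : IQ n κ) ≠ Sum.inl (ng a) := fun h => hb2 (Sum.inl_injective h)
  have e1 : (π g * (Matrix.single (Sum.inl (ng b)) (Sum.inl (ng a)) (1 : F) :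
      Matrix (IQ n κ) (IQ n κ) F)) i (Sum.inl b) = 0 :=
    Matrix.mul_single_apply_of_ne (1 : F) _ _ i _ hne (π g)
  have e2 : ((Matrix.single (Sum.inl (σ a)) (Sum.inl (σ b)) (1 : F) :
      Matrix (IQ n κ) (IQ n κ) F) * π g) i (Sum.inl b) = 0 :=
    Matrix.single_mul_apply_of_ne (1 : F) _ _ i _ hia (π g)
  have e3 : ((Matrix.single (Sum.inl (ng (σ b))) (Sum.inl (ng (σ a))) (1 : F) :
      Matrix (IQ n κ) (IQ n κ) F) * π g) i (Sum.inl b) = 0 :=
    Matrix.single_mul_apply_of_ne (1 : F) _ _ i _ hb3 (π g)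
  rw [Matrix.smul_apply, Matrix.mul_sub, Matrix.sub_mul, Matrix.sub_apply, Matrix.sub_apply,
    Matrix.mul_single_apply_same, e1, e2, e3, sub_zero, sub_zero, smul_zero, mul_one] at h4
  exact h4

/-- the nilpotent part of a short root element -/
def nq (Q0 : QuadraticForm F (κ → F)) (a : J n) (w : κ → F) : Matrix (IQ n κ) (IQ n κ) F :=
  Matrix.fromBlocks (-(Q0 w • Matrix.single a (ng a) (1 : F)))
    (Matrix.vecMulVec (Pi.single a (1 : F)) (bq Q0 w))
    (-Matrix.vecMulVec w (Pi.single (ng a) (1 : F))) 0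

theorem ymQ_eq (a : J n) (w : κ → F) : ymQ Q0 a w = 1 + nq Q0 a w := by
  have h1 : (1 : Matrix (IQ n κ) (IQ n κ) F) = Matrix.fromBlocks 1 0 0 1 :=
    Matrix.fromBlocks_one.symm
  unfold ymQ nq
  conv_rhs => rw [h1, Matrix.fromBlocks_add]
  congr 1
  · rw [sub_eq_add_neg]
  · rw [zero_add]
  · rw [zero_add]
  · rw [add_zero]

theorem sum_IQ (f : IQ n κ → F) :
    ∑ x, f x = ∑ c : J n, f (Sum.inl c) + ∑ k : κ, f (Sum.inr k) := Fintype.sum_sum_type f

/-- the rows `inl b`, `b ≠ a`, of `nq Q0 a w` vanish -/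
theorem nq_row (a b : J n) (hba : b ≠ a) (w : κ → F) (j : IQ n κ) : nq Q0 a w (Sum.inl b) j = 0 := by
  unfold nq
  rcases j with c | k
  · rw [Matrix.fromBlocks_apply₁₁, Matrix.neg_apply, Matrix.smul_apply,
      Matrix.single_apply_of_row_ne (Ne.symm hba), smul_zero, neg_zero]
  · rw [Matrix.fromBlocks_apply₁₂, Matrix.vecMulVec_apply, Pi.single_eq_of_ne hba, zero_mul]

/-- the column `inl (ng a)` of `nq Q0 a w` -/
theorem nq_col_inl (a c : J n) (w : κ → F) :
    nq Q0 a w (Sum.inl c) (Sum.inl (ng a)) = if c = a then -(Q0 w) else 0 := by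
  unfold nq
  rw [Matrix.fromBlocks_apply₁₁, Matrix.neg_apply, Matrix.smul_apply, Matrix.single_apply]
  by_cases h : c = a
  · subst h
    simp
  · have h' : ¬ (a = c ∧ ng a = ng a) := fun hh => h hh.1.symm
    rw [if_neg h', if_neg h, smul_zero, neg_zero]

theorem nq_col_inr (a : J n) (k : κ) (w : κ → F) :
    nq Q0 a w (Sum.inr k) (Sum.inl (ng a)) = -(w k) := by
  unfold nq
  rw [Matrix.fromBlocks_apply₂₁, Matrix.neg_apply, Matrix.vecMulVec_apply, Pi.single_eq_same,
    mul_one]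

/-- the anisotropic part is stable -/
theorem row_inl (π : M →* Matrix (IQ n κ) (IQ n κ) F)
    (hπX : ∀ a b, IsRoot a b → ∀ t : F, π (X a b t) = xmQ a b t)
    (hπY : ∀ a, ∀ w : κ → F, π (Ys a w) = ymQ Q0 a w) (hn : 3 ≤ n) {g : M}
    {σ : Equiv.Perm (J n)} (hσ : NgEquivariant σ)
    (hgX : ∀ a b, IsRoot a b → ∀ t : F, ∃ t' : F, g * X a b t * g⁻¹ = X (σ a) (σ b) t')
    (hgY : ∀ a, ∀ w : κ → F, ∃ w' : κ → F, g * Ys a w * g⁻¹ = Ys (σ a) w')
    (k : κ) (b : J n) : π g (Sum.inl b) (Sum.inr k) = 0 := by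
  classical
  set a : J n := σ.symm (ng b) with ha
  have hσa : σ a = ng b := by rw [ha, Equiv.apply_symm_apply]
  have hbσ : b ≠ σ a := by
    rw [hσa]
    exact (ng_ne b).symm
  have hcol : π g (Sum.inl b) (Sum.inl a) = 0 :=
    col_inl π hπX hn hσ hgX (Sum.inl b) a (fun h => hbσ (Sum.inl_injective h))
  obtain ⟨w', h1⟩ := hgY a (Pi.single k 1)
  have h2 : g * Ys a (Pi.single k 1) = Ys (σ a) w' * g := by
    rw [← h1]; group
  have h3 := congrArg π h2
  rw [map_mul, map_mul, hπY, hπY, ymQ_eq, ymQ_eq, mul_add, add_mul, Matrix.mul_one,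
    Matrix.one_mul, add_right_inj] at h3
  have h4 := congrFun (congrFun h3 (Sum.inl b)) (Sum.inl (ng a))
  have hR : (nq Q0 (σ a) w' * π g) (Sum.inl b) (Sum.inl (ng a)) = 0 := by
    rw [Matrix.mul_apply]
    apply Finset.sum_eq_zero
    intro j _
    rw [nq_row (σ a) b hbσ, zero_mul]
  have hL : (π g * nq Q0 a (Pi.single k 1)) (Sum.inl b) (Sum.inl (ng a)) =
      -(π g (Sum.inl b) (Sum.inr k)) := by
    rw [Matrix.mul_apply, sum_IQ]
    simp only [nq_col_inl, nq_col_inr, mul_ite, mul_zero, Finset.sum_ite_eq', Finset.mem_univ,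
      if_true, hcol, zero_mul, mul_neg, Finset.sum_neg_distrib, Pi.single_apply, mul_one]
    rw [neg_zero, zero_add]
  rw [hL, hR, neg_eq_zero] at h4
  exact h4

end MONOQ

/-- MONOQ: an element which permutes the root subgroups has a monomial matrix on the hyperbolic
part and stabilizes the anisotropic part -/
theorem mono_of_rootPQ (π : M →* Matrix (IQ n κ) (IQ n κ) F)
    (hπX : ∀ a b, IsRoot a b → ∀ t : F, π (X a b t) = xmQ a b t)
    (hπY : ∀ a, ∀ w : κ → F, π (Ys a w) = ymQ Q0 a w) (hn : 3 ≤ n)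
    (hQ : QuadraticMap.Anisotropic Q0) [Nonempty κ] {g : M}
    {σ : Equiv.Perm (J n)} (hσ : NgEquivariant σ)
    (hgX : ∀ a b, IsRoot a b → ∀ t : F, ∃ t' : F, g * X a b t * g⁻¹ = X (σ a) (σ b) t')
    (hgY : ∀ a, ∀ w : κ → F, ∃ w' : κ → F, g * Ys a w * g⁻¹ = Ys (σ a) w') :
    (∀ (a : J n) (i : IQ n κ), i ≠ Sum.inl (σ a) → π g i (Sum.inl a) = 0) ∧
      ∀ (k : κ) (b : J n), π g (Sum.inl b) (Sum.inr k) = 0 :=
  ⟨fun a i hia => MONOQ.col_inl π hπX hn hσ hgX i a hia,
    fun k b => MONOQ.row_inl π hπX hπY hn hσ hgX hgY k b⟩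

end Cfsg.Agent.S2099P
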