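import Mathlib
import Cfsg.Agent.Helper2.S2099.DefsR
import Cfsg.Agent.Helper2.S2099.DefsN
import Cfsg.Agent.Helper2.S2099.DefsZ
import Cfsg.Agent.Helper2.S2096.Defs
import Cfsg.Agent.Helper19.S2099CONJLSQ
import Cfsg.Agent.Helper16.S2099CONJSS1Q
import Cfsg.Agent.Helper23.S2099WYINVQ
import Cfsg.Agent.Helper22.S2099DTRANSQ
import Cfsg.Agent.Helper15.S2099KREFL
import Cfsg.Agent.Helper8.S2099TKMUL

set_option autoImplicit false
set_option linter.unusedSectionVars false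
set_option linter.unusedVariables false

/-! S2099 piece HABELQ (helper4; driver helper2): the torus `HhQ (qf2 a b) X Ys` is abelian.
An element `h` "acts on the index `c` through `κ ∈ K`" (`HABELQ.Acts`) if it conjugates `Ys c (toP u)` to
`Ys c (toP (κ u))` and `Ys (ng c) (toP u)` to `Ys (ng c) (toP (κ̄⁻¹ u))`; such an element commutes with the generators
`wY c w * (wY c v)⁻¹ = tK c (l / m)` (TKMUL). The long torus elements act through scalars of `F`, the short torus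
elements of an index `c' ≠ ±c` act through an element of norm one. -/

namespace Cfsg.Agent.S2099P

open Matrix Cfsg.Agent.S3352P Cfsg.Agent.S3351P Cfsg.Agent.S2096P Cfsg.Agent.S2086P Cfsg.Agent.RGD
  Cfsg.Agent.Helper2
open Cfsg.Agent.S2094P (RB RootB sc NgEquivariant mapB reflB MD XD XD_coe isRoot_ng_right'
  isRoot_ng_left' sw_ngEquivariant sc_ngEquivariant)

section field

variable {n : ℕ} {F : Type*} [Field F] {a b : F} [Aniso a b] {M : Type*} [Group M]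
  {X : J n → J n → F → M} {Ys : J n → (Fin 2 → F) → M}

namespace HABELQ

/-! ### the field `K` -/

theorem conj_neg (x : QK a b) : QK.conj (-x) = -QK.conj x := by
  ext <;> simp
  ring

theorem conj_one : QK.conj (1 : QK a b) = 1 := by
  ext <;> simp

theorem conj_inv (x : QK a b) : QK.conj x⁻¹ = (QK.conj x)⁻¹ := by
  by_cases hx : x = 0
  · subst hx
    have h0 : QK.conj (0 : QK a b) = 0 := by ext <;> simp
    rw [_root_.inv_zero, h0, _root_.inv_zero]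
  · apply eq_inv_of_mul_eq_one_left
    rw [← QK.conj_mul, inv_mul_cancel₀ hx, conj_one]

theorem conj_eq_zero {x : QK a b} : QK.conj x = 0 ↔ x = 0 := by
  constructor
  · intro h
    have := congrArg QK.conj h
    rw [QK.conj_conj] at this
    rw [this]
    ext <;> simp
  · intro h
    subst h
    ext <;> simp

theorem conj_inv_eq (l : QK a b) : (QK.conj l)⁻¹ = (QK.nrm l)⁻¹ • l := by
  rw [QK.inv_def, QK.nrm_conj, QK.conj_conj]

theorem toP_algebraMap_mul (χ : F) (u : QK a b) :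
    QK.toP (algebraMap F (QK a b) χ * u) = χ • QK.toP u := by
  rw [← Algebra.smul_def, QK.toP_smul]

/-! ### the Weyl elements in terms of `K` -/

theorem wY_toP (c : J n) (l : QK a b) :
    wY (qf2 a b) Ys c (QK.toP l) =
      Ys c (QK.toP l) * Ys (ng c) (QK.toP (QK.conj l)⁻¹) * Ys c (QK.toP l) := by
  unfold wY
  rw [QK.qf2_toP, ← QK.toP_smul, conj_inv_eq]

/-- `h` acts on the index `c` through `κ` -/
def Acts (Ys : J n → (Fin 2 → F) → M) (h : M) (c : J n) (κ : QK a b) : Prop :=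
  (∀ u : QK a b, h * Ys c (QK.toP u) * h⁻¹ = Ys c (QK.toP (κ * u))) ∧
    ∀ u : QK a b, h * Ys (ng c) (QK.toP u) * h⁻¹ = Ys (ng c) (QK.toP ((QK.conj κ)⁻¹ * u))

theorem conj_mul3 (h x y z : M) : h * (x * y * z) * h⁻¹ = (h * x * h⁻¹) * (h * y * h⁻¹) * (h * z * h⁻¹) := by
  group

theorem Acts.conj_wY {h : M} {c : J n} {κ : QK a b} (hA : Acts Ys h c κ) (l : QK a b) :
    h * wY (qf2 a b) Ys c (QK.toP l) * h⁻¹ = wY (qf2 a b) Ys c (QK.toP (κ * l)) := by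
  rw [wY_toP, wY_toP, conj_mul3, hA.1, hA.2, QK.conj_mul, mul_inv]

theorem conj_mul2 (x y z : M) : (x * y) * z * (x * y)⁻¹ = x * (y * z * y⁻¹) * x⁻¹ := by
  group

theorem nrm_ne_zero {l : QK a b} (hl : l ≠ 0) : QK.nrm l ≠ 0 := fun h => hl (QK.nrm_eq_zero h)

theorem qf2_toP_ne_zero {l : QK a b} (hl : l ≠ 0) : qf2 a b (QK.toP l) ≠ 0 := by
  rw [QK.qf2_toP]
  exact nrm_ne_zero hl

/-- an element acting on `c` through `κ ≠ 0` commutes with the short torus elements of the index `c` -/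
theorem Acts.comm_gen [Finite F] (hn : 3 ≤ n) (hB : QRel (qf2 a b) X Ys) {h : M} {c : J n}
    {κ : QK a b} (hA : Acts Ys h c κ) (hκ : κ ≠ 0) {l m : QK a b} (hl : l ≠ 0) (hm : m ≠ 0) :
    h * (wY (qf2 a b) Ys c (QK.toP l) * (wY (qf2 a b) Ys c (QK.toP m))⁻¹) =
      (wY (qf2 a b) Ys c (QK.toP l) * (wY (qf2 a b) Ys c (QK.toP m))⁻¹) * h := by
  have e : h * (wY (qf2 a b) Ys c (QK.toP l) * (wY (qf2 a b) Ys c (QK.toP m))⁻¹) * h⁻¹ =
      (h * wY (qf2 a b) Ys c (QK.toP l) * h⁻¹) * (h * wY (qf2 a b) Ys c (QK.toP m) * h⁻¹)⁻¹ := by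
    group
  have h1 : h * (wY (qf2 a b) Ys c (QK.toP l) * (wY (qf2 a b) Ys c (QK.toP m))⁻¹) * h⁻¹ =
      wY (qf2 a b) Ys c (QK.toP l) * (wY (qf2 a b) Ys c (QK.toP m))⁻¹ := by
    rw [e, hA.conj_wY, hA.conj_wY,
      wY_mul_wY_inv hn hB c (mul_ne_zero hκ hl) (mul_ne_zero hκ hm),
      wY_mul_wY_inv hn hB c hl hm]
    congr 1
    field_simp
  calc h * (wY (qf2 a b) Ys c (QK.toP l) * (wY (qf2 a b) Ys c (QK.toP m))⁻¹)
      = (h * (wY (qf2 a b) Ys c (QK.toP l) * (wY (qf2 a b) Ys c (QK.toP m))⁻¹) * h⁻¹) * h := by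
        group
    _ = (wY (qf2 a b) Ys c (QK.toP l) * (wY (qf2 a b) Ys c (QK.toP m))⁻¹) * h := by rw [h1]

/-! ### the long torus elements act through scalars -/

/-- `h` acts on the index `c` through the scalar `χ` -/
def ActsF (Ys : J n → (Fin 2 → F) → M) (h : M) (c : J n) (χ : F) : Prop :=
  (∀ u : Fin 2 → F, h * Ys c u * h⁻¹ = Ys c (χ • u)) ∧
    ∀ u : Fin 2 → F, h * Ys (ng c) u * h⁻¹ = Ys (ng c) (χ⁻¹ • u)

theorem ActsF.acts {h : M} {c : J n} {χ : F} (hA : ActsF Ys h c χ) :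
    Acts Ys h c (algebraMap F (QK a b) χ) := by
  refine ⟨fun u => ?_, fun u => ?_⟩
  · rw [hA.1, toP_algebraMap_mul]
  · rw [hA.2, QK.conj_algebraMap, ← map_inv₀, toP_algebraMap_mul]

theorem ActsF.ng {h : M} {c : J n} {χ : F} (hA : ActsF Ys h c χ) : ActsF Ys h (ng c) χ⁻¹ := by
  refine ⟨hA.2, ?_⟩
  rw [ng_ng, inv_inv]
  exact hA.1

theorem neg_one_ne_zero' : (-1 : F) ≠ 0 := neg_ne_zero.2 one_ne_zero

theorem tX_actsF_fst (hB : QRel (qf2 a b) X Ys) {c d : J n} (hcd : IsRoot c d) {t : F}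
    (ht : t ≠ 0) : ActsF Ys (tX X c d t) c t := by
  unfold tX
  refine ⟨fun u => ?_, fun u => ?_⟩
  · rw [conj_mul2, wX_conj_Ys_fst hB hcd neg_one_ne_zero', wX_conj_Ys_snd hB hcd ht]
    congr 1
    rw [inv_neg, inv_one, neg_smul, one_smul, neg_neg]
  · rw [conj_mul2, wX_conj_Ys_ng_fst hB hcd neg_one_ne_zero', wX_conj_Ys_ng_snd hB hcd ht]
    congr 1
    rw [neg_smul, one_smul, neg_neg]

theorem tX_actsF_snd (hB : QRel (qf2 a b) X Ys) {c d : J n} (hcd : IsRoot c d) {t : F}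
    (ht : t ≠ 0) : ActsF Ys (tX X c d t) d t⁻¹ := by
  unfold tX
  refine ⟨fun u => ?_, fun u => ?_⟩
  · rw [conj_mul2, wX_conj_Ys_snd hB hcd neg_one_ne_zero', wX_conj_Ys_fst hB hcd ht]
    congr 1
    rw [neg_smul, one_smul, smul_neg, neg_neg]
  · rw [conj_mul2, wX_conj_Ys_ng_snd hB hcd neg_one_ne_zero', wX_conj_Ys_ng_fst hB hcd ht]
    congr 1
    rw [inv_neg, inv_one, neg_smul, one_smul, smul_neg, neg_neg, inv_inv]

theorem tX_actsF_of_ne (hB : QRel (qf2 a b) X Ys) {c d : J n} (hcd : IsRoot c d) (t : F)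
    {e : J n} (h1 : e ≠ c) (h2 : e ≠ d) (h3 : e ≠ ng c) (h4 : e ≠ ng d) :
    ActsF Ys (tX X c d t) e 1 := by
  have h1' : ng e ≠ c := fun h => h3 (by rw [← h, ng_ng])
  have h2' : ng e ≠ d := fun h => h4 (by rw [← h, ng_ng])
  have h3' : ng e ≠ ng c := fun h => h1 (ng_injective h)
  have h4' : ng e ≠ ng d := fun h => h2 (ng_injective h)
  unfold tX
  refine ⟨fun u => ?_, fun u => ?_⟩
  · rw [conj_mul2, wX_conj_Ys_of_ne hB hcd _ h1 h2 h3 h4, wX_conj_Ys_of_ne hB hcd _ h1 h2 h3 h4,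
      one_smul]
  · rw [conj_mul2, wX_conj_Ys_of_ne hB hcd _ h1' h2' h3' h4',
      wX_conj_Ys_of_ne hB hcd _ h1' h2' h3' h4', inv_one, one_smul]

/-- the long torus elements act on every index through a non-zero scalar -/
theorem tX_acts (hB : QRel (qf2 a b) X Ys) {c d : J n} (hcd : IsRoot c d) {t : F} (ht : t ≠ 0)
    (e : J n) : ∃ κ : QK a b, κ ≠ 0 ∧ Acts Ys (tX X c d t) e κ := by
  have hne : ∀ χ : F, χ ≠ 0 → algebraMap F (QK a b) χ ≠ 0 := fun χ hχ =>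
    (map_ne_zero (algebraMap F (QK a b))).2 hχ
  by_cases h1 : e = c
  · subst h1
    exact ⟨_, hne t ht, (tX_actsF_fst hB hcd ht).acts⟩
  by_cases h2 : e = d
  · subst h2
    exact ⟨_, hne _ (inv_ne_zero ht), (tX_actsF_snd hB hcd ht).acts⟩
  by_cases h3 : e = ng c
  · subst h3
    exact ⟨_, hne _ (inv_ne_zero ht), (tX_actsF_fst hB hcd ht).ng.acts⟩
  by_cases h4 : e = ng d
  · subst h4
    exact ⟨_, hne _ (inv_ne_zero (inv_ne_zero ht)), (tX_actsF_snd hB hcd ht).ng.acts⟩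
  exact ⟨_, hne 1 one_ne_zero, (tX_actsF_of_ne hB hcd t h1 h2 h3 h4).acts⟩

/-! ### the short torus elements of another index act through an element of norm one -/

theorem gen_conj_Ys (hB : QRel (qf2 a b) X Ys) {c e : J n} (hce : IsRoot c e) {l m : QK a b}
    (hl : l ≠ 0) (hm : m ≠ 0) (u : QK a b) :
    (wY (qf2 a b) Ys c (QK.toP l) * (wY (qf2 a b) Ys c (QK.toP m))⁻¹) * Ys e (QK.toP u) *
        (wY (qf2 a b) Ys c (QK.toP l) * (wY (qf2 a b) Ys c (QK.toP m))⁻¹)⁻¹ =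
      Ys e (QK.toP (l * (QK.conj l)⁻¹ * (QK.conj m * m⁻¹) * u)) := by
  have hm' : -m ≠ 0 := neg_ne_zero.2 hm
  rw [wY_inv' hB, ← QK.toP_neg, conj_mul2, wY_conj_Ys_of_ne hB hce (qf2_toP_ne_zero hm'),
    wY_conj_Ys_of_ne hB hce (qf2_toP_ne_zero hl), rfl0_toP hm',
    rfl0_toP hl]
  congr 2
  have hcl : QK.conj l ≠ 0 := fun h => hl (conj_eq_zero.1 h)
  have hcm : QK.conj m ≠ 0 := fun h => hm (conj_eq_zero.1 h)
  rw [conj_neg, QK.conj_mul, QK.conj_mul, QK.conj_conj, conj_inv, conj_neg, conj_neg,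
    QK.conj_conj]
  field_simp

theorem gen_acts (hB : QRel (qf2 a b) X Ys) {c e : J n} (hce : IsRoot c e) {l m : QK a b}
    (hl : l ≠ 0) (hm : m ≠ 0) :
    Acts Ys (wY (qf2 a b) Ys c (QK.toP l) * (wY (qf2 a b) Ys c (QK.toP m))⁻¹) e
      (l * (QK.conj l)⁻¹ * (QK.conj m * m⁻¹)) := by
  have hce' : IsRoot c (ng e) := ⟨hce.2, fun h => hce.1 (by rw [h, ng_ng])⟩
  have hcl : QK.conj l ≠ 0 := fun h => hl (conj_eq_zero.1 h)
  have hcm : QK.conj m ≠ 0 := fun h => hm (conj_eq_zero.1 h)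
  refine ⟨fun u => gen_conj_Ys hB hce hl hm u, fun u => ?_⟩
  rw [gen_conj_Ys hB hce' hl hm u]
  congr 3
  rw [QK.conj_mul, QK.conj_mul, QK.conj_mul, conj_inv, conj_inv, QK.conj_conj, QK.conj_conj]
  field_simp

theorem gen_acts_ne_zero {l m : QK a b} (hl : l ≠ 0) (hm : m ≠ 0) :
    l * (QK.conj l)⁻¹ * (QK.conj m * m⁻¹) ≠ 0 := by
  have hcl : QK.conj l ≠ 0 := fun h => hl (conj_eq_zero.1 h)
  have hcm : QK.conj m ≠ 0 := fun h => hm (conj_eq_zero.1 h)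
  exact mul_ne_zero (mul_ne_zero hl (inv_ne_zero hcl)) (mul_ne_zero hcm (inv_ne_zero hm))

/-! ### the short torus elements of the indices `c`, `ng c` -/

theorem gen_comm_same [Finite F] (hn : 3 ≤ n) (hB : QRel (qf2 a b) X Ys) (c : J n)
    {l m l' m' : QK a b} (hl : l ≠ 0) (hm : m ≠ 0) (hl' : l' ≠ 0) (hm' : m' ≠ 0) :
    (wY (qf2 a b) Ys c (QK.toP l) * (wY (qf2 a b) Ys c (QK.toP m))⁻¹) *
        (wY (qf2 a b) Ys c (QK.toP l') * (wY (qf2 a b) Ys c (QK.toP m'))⁻¹) =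
      (wY (qf2 a b) Ys c (QK.toP l') * (wY (qf2 a b) Ys c (QK.toP m'))⁻¹) *
        (wY (qf2 a b) Ys c (QK.toP l) * (wY (qf2 a b) Ys c (QK.toP m))⁻¹) := by
  have h1 : l * m⁻¹ ≠ 0 := mul_ne_zero hl (inv_ne_zero hm)
  have h2 : l' * m'⁻¹ ≠ 0 := mul_ne_zero hl' (inv_ne_zero hm')
  rw [wY_mul_wY_inv hn hB c hl hm,
    wY_mul_wY_inv hn hB c hl' hm',
    ← tK_mul hn hB c h1 h2, ← tK_mul hn hB c h2 h1,
    mul_comm]

theorem gen_comm_ng [Finite F] (hn : 3 ≤ n) (hB : QRel (qf2 a b) X Ys) (c : J n)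
    {l m l' m' : QK a b} (hl : l ≠ 0) (hm : m ≠ 0) (hl' : l' ≠ 0) (hm' : m' ≠ 0) :
    (wY (qf2 a b) Ys c (QK.toP l) * (wY (qf2 a b) Ys c (QK.toP m))⁻¹) *
        (wY (qf2 a b) Ys (ng c) (QK.toP l') * (wY (qf2 a b) Ys (ng c) (QK.toP m'))⁻¹) =
      (wY (qf2 a b) Ys (ng c) (QK.toP l') * (wY (qf2 a b) Ys (ng c) (QK.toP m'))⁻¹) *
        (wY (qf2 a b) Ys c (QK.toP l) * (wY (qf2 a b) Ys c (QK.toP m))⁻¹) := by
  have h1 : l * m⁻¹ ≠ 0 := mul_ne_zero hl (inv_ne_zero hm)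
  have h2 : l' * m'⁻¹ ≠ 0 := mul_ne_zero hl' (inv_ne_zero hm')
  have h3 : (QK.conj (l' * m'⁻¹))⁻¹ ≠ 0 := inv_ne_zero (fun h => h2 (conj_eq_zero.1 h))
  rw [wY_mul_wY_inv hn hB c hl hm,
    wY_mul_wY_inv hn hB (ng c) hl' hm',
    tK_ng hn hB c h2,
    ← tK_mul hn hB c h1 h3, ← tK_mul hn hB c h3 h1,
    mul_comm]

/-- a vector of the plane as an element of `K` -/
theorem exists_toP {w : Fin 2 → F} (hw : w ≠ 0) : ∃ l : QK a b, l ≠ 0 ∧ w = QK.toP l := by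
  refine ⟨QK.ofP w, fun h => hw ?_, (QK.toP_ofP w).symm⟩
  rw [← QK.toP_ofP (a := a) (b := b) w, h]
  exact QK.toP_eq_zero.2 rfl

/-- the generators of the torus commute -/
theorem gens_comm [Fintype F] (π : M →* Matrix (IQ n (Fin 2)) (IQ n (Fin 2)) F)
    (hπX : ∀ a b, IsRoot a b → ∀ t : F, π (X a b t) = xmQ a b t) (hn : 3 ≤ n)
    (hB : QRel (qf2 a b) X Ys) {x y : M}
    (hx : x ∈ ({g | ∃ a b, ∃ t : F, IsRoot a b ∧ t ≠ 0 ∧ g = tX X a b t} ∪
      {g | ∃ c, ∃ w v : Fin 2 → F, w ≠ 0 ∧ v ≠ 0 ∧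
        g = wY (qf2 a b) Ys c w * (wY (qf2 a b) Ys c v)⁻¹} : Set M))
    (hy : y ∈ ({g | ∃ a b, ∃ t : F, IsRoot a b ∧ t ≠ 0 ∧ g = tX X a b t} ∪
      {g | ∃ c, ∃ w v : Fin 2 → F, w ≠ 0 ∧ v ≠ 0 ∧
        g = wY (qf2 a b) Ys c w * (wY (qf2 a b) Ys c v)⁻¹} : Set M)) :
    x * y = y * x := by
  rcases hx with ⟨c, d, t, hcd, ht, rfl⟩ | ⟨c, w, v, hw, hv, rfl⟩
  · rcases hy with ⟨c', d', t', hcd', ht', rfl⟩ | ⟨e, w', v', hw', hv', rfl⟩
    · exact Hh_comm_Q π hπX hn hB.dX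
        (Subgroup.subset_closure ⟨c, d, t, hcd, ht, rfl⟩)
        (Subgroup.subset_closure ⟨c', d', t', hcd', ht', rfl⟩)
    · obtain ⟨l, hl, rfl⟩ := exists_toP (a := a) (b := b) hw'
      obtain ⟨m, hm, rfl⟩ := exists_toP (a := a) (b := b) hv'
      obtain ⟨κ, hκ, hA⟩ := tX_acts (a := a) (b := b) hB hcd ht e
      exact hA.comm_gen hn hB hκ hl hm
  · obtain ⟨l, hl, rfl⟩ := exists_toP (a := a) (b := b) hw
    obtain ⟨m, hm, rfl⟩ := exists_toP (a := a) (b := b) hv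
    rcases hy with ⟨c', d', t', hcd', ht', rfl⟩ | ⟨e, w', v', hw', hv', rfl⟩
    · obtain ⟨κ, hκ, hA⟩ := tX_acts (a := a) (b := b) hB hcd' ht' c
      exact (hA.comm_gen hn hB hκ hl hm).symm
    · obtain ⟨l', hl', rfl⟩ := exists_toP (a := a) (b := b) hw'
      obtain ⟨m', hm', rfl⟩ := exists_toP (a := a) (b := b) hv'
      by_cases h1 : e = c
      · subst h1
        exact gen_comm_same hn hB e hl hm hl' hm'
      by_cases h2 : e = ng c
      · subst h2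
        exact gen_comm_ng hn hB c hl hm hl' hm'
      · have hce : IsRoot c e := ⟨fun h => h1 h.symm, fun h => h2 (by rw [h, ng_ng])⟩
        exact (gen_acts hB hce hl hm).comm_gen hn hB (gen_acts_ne_zero hl hm) hl' hm'

end HABELQ

/-- HABELQ -/
theorem HhQ_comm [Fintype F] (π : M →* Matrix (IQ n (Fin 2)) (IQ n (Fin 2)) F)
    (hπX : ∀ a b, IsRoot a b → ∀ t : F, π (X a b t) = xmQ a b t) (hn : 3 ≤ n)
    (hB : QRel (qf2 a b) X Ys) {h h' : M} (hh : h ∈ HhQ (qf2 a b) X Ys)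
    (hh' : h' ∈ HhQ (qf2 a b) X Ys) : h * h' = h' * h := by
  -- every element of the torus commutes with the generators
  have hA : ∀ x ∈ HhQ (qf2 a b) X Ys, ∀ y ∈ ({g | ∃ a b, ∃ t : F, IsRoot a b ∧ t ≠ 0 ∧
      g = tX X a b t} ∪ {g | ∃ c, ∃ w v : Fin 2 → F, w ≠ 0 ∧ v ≠ 0 ∧
        g = wY (qf2 a b) Ys c w * (wY (qf2 a b) Ys c v)⁻¹} : Set M), x * y = y * x := by
    intro x hx y hy
    unfold HhQ at hx
    induction hx using Subgroup.closure_induction with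
    | mem z hz => exact HABELQ.gens_comm π hπX hn hB hz hy
    | one => rw [one_mul, mul_one]
    | mul z z' _ _ hz hz' => rw [mul_assoc, hz', ← mul_assoc, hz, mul_assoc]
    | inv z _ hz =>
      have e : z⁻¹ * y = z⁻¹ * (y * z) * z⁻¹ := by group
      rw [e, ← hz]
      group
  unfold HhQ at hh'
  induction hh' using Subgroup.closure_induction with
  | mem z hz => exact hA h hh z hz
  | one => rw [one_mul, mul_one]
  | mul z z' _ _ hz hz' => rw [← mul_assoc, hz, mul_assoc, hz', ← mul_assoc]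
  | inv z _ hz =>
    have e : h * z⁻¹ = z⁻¹ * (z * h) * z⁻¹ := by group
    rw [e, ← hz]
    group

end field

end Cfsg.Agent.S2099P
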