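import Mathlib
import Cfsg.Agent.Helper27.S4150Defs

/-!
# S4150 piece SYLV (helper4)

If `|N_G(⟨y⟩)|` is even (prime degree `q ≠ 2`, `y` of order `q`) there is an involution in `G`
inverting `y`.
-/

set_option autoImplicit false

namespace Cfsg.Agent.S4150P

open Equiv Equiv.Perm MulAction

section
variable {α : Type*} [Fintype α] [DecidableEq α]

/-- A permutation commuting with a full-support cycle is a power of it. -/
theorem SYLV.mem_zpowers_of_commute_fullCycle
    {y t : Perm α} (hy : y.IsCycle) (hfull : ∀ a, y a ≠ a) (hc : Commute t y) :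
    t ∈ Subgroup.zpowers y := by
  obtain ⟨a, ha, hsame⟩ := hy
  obtain ⟨j, hj⟩ := hsame (hfull (t a))
  refine ⟨j, ?_⟩
  ext b
  obtain ⟨i, hi⟩ := hsame (hfull b)
  have h1 : t ((y ^ i) a) = (y ^ i) (t a) := by
    have := (hc.zpow_right i).eq
    have h2 := congrArg (fun f : Perm α => f a) this
    simpa [Perm.mul_apply] using h2
  show (y ^ j) b = t b
  rw [← hi, h1, ← hj, ← Perm.mul_apply, ← Perm.mul_apply, ← zpow_add, ← zpow_add, add_comm]

/-- Core: an involution `t` normalising `⟨y⟩` with `orderOf y = q` an odd prime,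
`y` a full cycle: `t` inverts `y`. -/
theorem SYLV.involution_inverts
    {y t : Perm α} {q : ℕ} (hq : q.Prime) (hq2 : q ≠ 2) (hy : y.IsCycle) (hfull : ∀ a, y a ≠ a)
    (hord : orderOf y = q) (ht : orderOf t = 2)
    (hn : t * y * t⁻¹ ∈ Subgroup.zpowers y) : t * y * t⁻¹ = y⁻¹ := by
  haveI : Fact q.Prime := ⟨hq⟩
  obtain ⟨k, hk⟩ := hn
  have hk' : t * y * t⁻¹ = y ^ k := hk.symm
  have ht2 : t * t = 1 := by rw [← pow_two, ← ht, pow_orderOf_eq_one]
  have htinv : t⁻¹ = t := inv_eq_of_mul_eq_one_right ht2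
  have h2 : y = y ^ (k * k) := by
    have : t * (t * y * t⁻¹) * t⁻¹ = (t * y * t⁻¹) ^ k := by
      rw [hk']
      have : t * y ^ k * t⁻¹ = (t * y * t⁻¹) ^ k := by
        rw [← conj_zpow]
      rw [this, hk']
    rw [hk', ← zpow_mul] at this
    rw [← this]
    rw [← hk']
    simp only [htinv]
    calc y = (t * t) * y * (t * t) := by rw [ht2]; simp
      _ = t * (t * y * t) * t := by simp only [mul_assoc]
  have h3 : y ^ (k * k - 1) = 1 := by
    rw [zpow_sub, zpow_one, ← h2, mul_inv_cancel]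
  have h4 : (q : ℤ) ∣ k * k - 1 := by
    rw [← hord]; exact orderOf_dvd_iff_zpow_eq_one.mpr h3
  have h5 : (q : ℤ) ∣ (k - 1) * (k + 1) := by
    have : (k - 1) * (k + 1) = k * k - 1 := by ring
    rw [this]; exact h4
  have hqp : Prime (q : ℤ) := Nat.prime_iff_prime_int.mp hq
  rcases hqp.dvd_or_dvd h5 with h | h
  · exfalso
    have hyk : y ^ k = y := by
      have : y ^ (k - 1) = 1 := by
        rw [← hord] at h; exact orderOf_dvd_iff_zpow_eq_one.mp h
      rw [zpow_sub, zpow_one] at this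
      exact mul_inv_eq_one.mp this
    have hcomm : Commute t y := by
      have : t * y * t⁻¹ = y := by rw [hk', hyk]
      exact mul_inv_eq_iff_eq_mul.mp this
    have hmem := SYLV.mem_zpowers_of_commute_fullCycle hy hfull hcomm
    have hdvd : orderOf t ∣ q := by
      rw [← hord]
      have := Subgroup.orderOf_dvd_natCard (Subgroup.zpowers y) hmem
      rwa [Nat.card_zpowers] at this
    rw [ht] at hdvd
    exact hq2 ((Nat.prime_dvd_prime_iff_eq Nat.prime_two hq).mp hdvd).symm
  · rw [hk']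
    have : y ^ (k + 1) = 1 := by
      rw [← hord] at h; exact orderOf_dvd_iff_zpow_eq_one.mp h
    rw [zpow_add, zpow_one] at this
    exact eq_inv_of_mul_eq_one_left this

/-- An element of prime order `q` in degree `q` is a cycle moving every point. -/
theorem SYLV.fullCycle {q : ℕ} (hq : q.Prime) (hα : Fintype.card α = q) {y : Perm α}
    (hyo : orderOf y = q) : y.IsCycle ∧ ∀ a, y a ≠ a := by
  have hcyc : y.IsCycle := by
    apply Equiv.Perm.isCycle_of_prime_order' (hyo.symm ▸ hq)
    rw [hyo, hα]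
    have := hq.pos
    omega
  refine ⟨hcyc, ?_⟩
  have hcard : y.support.card = Fintype.card α := by
    rw [← hcyc.orderOf, hyo, hα]
  have hsupp : y.support = Finset.univ := Finset.eq_univ_of_card _ hcard
  intro a
  have : a ∈ y.support := hsupp ▸ Finset.mem_univ a
  exact Equiv.Perm.mem_support.mp this

/-- SYLV [M]: if `|N_G(⟨y⟩)|` is even there is an involution in `G` inverting `y`
(Cauchy; an involution of `N` does not centralise `y` since `C(y) = ⟨y⟩` has odd order `q`
(`Equiv.Perm.nat_card_centralizer` or `IsCycle.commute_iff`); `w y w⁻¹ = y^j`, `j² = 1`, `j ≠ 1`). -/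
theorem SYLV.main {q : ℕ} (hq : q.Prime) (hq2 : q ≠ 2) (hα : Fintype.card α = q)
    (G : Subgroup (Perm α)) {y : Perm α} (hyG : y ∈ G) (hyo : orderOf y = q)
    (hN : Even (Nat.card (normIn G y))) : ∃ w ∈ G, orderOf w = 2 ∧ w * y * w⁻¹ = y⁻¹ := by
  obtain ⟨hcyc, hfull⟩ := SYLV.fullCycle hq hα hyo
  haveI : Fact (Nat.Prime 2) := ⟨Nat.prime_two⟩
  obtain ⟨x, hx⟩ := exists_prime_orderOf_dvd_card' (G := ↥(normIn G y)) 2 (even_iff_two_dvd.mp hN)
  have hxo : orderOf (x : Perm α) = 2 := by rw [Subgroup.orderOf_coe]; exact hx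
  have hxmem : (x : Perm α) ∈ normIn G y := x.2
  have hxG : (x : Perm α) ∈ G := hxmem.1
  have hxN : (x : Perm α) ∈
      Subgroup.normalizer ((Subgroup.zpowers y : Subgroup (Perm α)) : Set (Perm α)) := hxmem.2
  have hconj : (x : Perm α) * y * (x : Perm α)⁻¹ ∈ Subgroup.zpowers y := by
    have := (Subgroup.mem_normalizer_iff.mp hxN y).mp (Subgroup.mem_zpowers y)
    exact this
  exact ⟨x, hxG, hxo, SYLV.involution_inverts hq hq2 hcyc hfull hyo hxo hconj⟩

end

end Cfsg.Agent.S4150P
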