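import Mathlib
import Cfsg.Agent.Helper27.S4150Defs
import Cfsg.Agent.Helper4.S4150SYLV
import Cfsg.Agent.Helper14.S4150SYLN
import Cfsg.Agent.Helper9.S4150SYLI
import Cfsg.Agent.Helper9.S4150SYLT

/-!
# S4150 piece SYLQ (helper4): assembly of SYLN, SYLI, SYLT, SYLV
-/

set_option autoImplicit false

namespace Cfsg.Agent.S4150P

open Equiv Equiv.Perm MulAction

section
variable {α : Type*} [Fintype α] [DecidableEq α]

/-- SYLQ [S, assembly of SYLN, SYLI, SYLT, SYLV]. -/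
theorem SYLQ.main {q : ℕ} (hq : q.Prime) (hq2 : q ≠ 2) (hα : Fintype.card α = q)
    (G : Subgroup (Perm α)) {y : Perm α} (hyG : y ∈ G) (hyo : orderOf y = q) :
    ∃ s n : ℕ, Nat.card (normIn G y) = q * s ∧ Nat.card G = q * s * n ∧ n % q = 1 ∧ s ∣ q - 1 ∧
      (s = 1 → n = 1) ∧ (Even s → ∃ w ∈ G, orderOf w = 2 ∧ w * y * w⁻¹ = y⁻¹) := by
  obtain ⟨⟨s, hs⟩, hdvd⟩ := SYLN.main hq hα G hyG hyo
  obtain ⟨n, hn, hnq⟩ := SYLI.main hq hα G hyG hyo
  refine ⟨s, n, hs, ?_, hnq, ?_, ?_, ?_⟩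
  · rw [hn, hs]
  · rw [hs] at hdvd
    exact (Nat.mul_dvd_mul_iff_left hq.pos).mp hdvd
  · intro hs1
    have hN : Nat.card (normIn G y) = q := by rw [hs, hs1, mul_one]
    have hG := SYLT.main hq hα G hyG hyo hN
    rw [hn, hN] at hG
    have : q * n = q * 1 := by rw [hG, mul_one]
    exact Nat.eq_of_mul_eq_mul_left hq.pos this
  · intro hev
    apply SYLV.main hq hq2 hα G hyG hyo
    rw [hs]
    exact hev.mul_left q

end

end Cfsg.Agent.S4150P
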