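import Mathlib

set_option autoImplicit false

/-! S6002 piece FIX: fixed-point congruence for a conjugation action on a finite set. -/

namespace Cfsg.Agent.S6002P

/-- FIX -/
theorem card_modEq_card_fixed {G : Type*} [Group G] (S : Set G) (hS : S.Finite) (y : G) (r : ℕ)
    [Fact r.Prime] (hconj : ∀ a ∈ S, y * a * y⁻¹ ∈ S)
    (hpow : ∀ a ∈ S, y ^ r * a * (y ^ r)⁻¹ = a) :
    Nat.card S ≡ Nat.card {a : G // a ∈ S ∧ y * a * y⁻¹ = a} [MOD r] := by
  classical
  haveI : Fintype ↥S := hS.fintype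
  let f : Function.End ↥S := fun a => ⟨y * a.1 * y⁻¹, hconj a.1 a.2⟩
  have hiter : ∀ (k : ℕ) (a : ↥S), ((f ^ k) a).1 = y ^ k * a.1 * (y ^ k)⁻¹ := by
    intro k
    induction k with
    | zero =>
      intro a
      show a.1 = y ^ 0 * a.1 * (y ^ 0)⁻¹
      simp
    | succ k ih =>
      intro a
      rw [pow_succ']
      show y * ((f ^ k) a).1 * y⁻¹ = _
      rw [ih a, pow_succ']
      group
  have hf : f ^ r ^ 1 = 1 := by
    rw [pow_one]
    funext a
    apply Subtype.ext
    rw [hiter r a, hpow a.1 a.2]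
    rfl
  have h1 := Equiv.Perm.card_fixedPoints_modEq (p := r) (n := 1) (f := f) hf
  have e : ↥(Function.fixedPoints f) ≃ {a : G // a ∈ S ∧ y * a * y⁻¹ = a} :=
    { toFun := fun a => ⟨a.1.1, a.1.2, congrArg Subtype.val a.2⟩
      invFun := fun a => ⟨⟨a.1, a.2.1⟩, Subtype.ext a.2.2⟩
      left_inv := fun a => rfl
      right_inv := fun a => rfl }
  rw [Nat.card_eq_fintype_card, ← Nat.card_congr e, Nat.card_eq_fintype_card]
  exact h1

end Cfsg.Agent.S6002P
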