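import Mathlib
import Cfsg.Prelude.Def_GeometricClasses
import Cfsg.Agent.Helper20.S6000Defs
import Cfsg.Agent.Helper4.S6002FIX

set_option autoImplicit false
open scoped MatrixGroups Matrix

/-! S6000 piece CENTCARD64 (driver helper20): the order of `C_R(y)` for `y` in the normalizer of `R`. -/

namespace Cfsg.Agent.S6000P

/-- the centralizer of `y` in `R` -/
def centR {F : Type*} [Field F] (R : Subgroup (GL (Fin 4) F)) (y : GL (Fin 4) F) :
    Subgroup (GL (Fin 4) F) :=
  R ⊓ Subgroup.centralizer ({y} : Set (GL (Fin 4) F))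

theorem mem_centR {F : Type*} [Field F] (R : Subgroup (GL (Fin 4) F)) (y a : GL (Fin 4) F) :
    a ∈ centR R y ↔ a ∈ R ∧ y * a * y⁻¹ = a := by
  unfold centR
  rw [Subgroup.mem_inf, Subgroup.mem_centralizer_iff]
  constructor
  · rintro ⟨ha, hc⟩
    refine ⟨ha, ?_⟩
    rw [hc y rfl, mul_assoc, mul_inv_cancel, mul_one]
  · rintro ⟨ha, hc⟩
    refine ⟨ha, ?_⟩
    intro g hg
    rw [Set.mem_singleton_iff] at hg
    subst hg
    calc g * a = (g * a * g⁻¹) * g := by group
      _ = a * g := by rw [hc]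

theorem card_centR {F : Type*} [Field F] (R : Subgroup (GL (Fin 4) F)) (y : GL (Fin 4) F) :
    Nat.card {a : GL (Fin 4) F // a ∈ R ∧ y * a * y⁻¹ = a} = Nat.card (centR R y) :=
  Nat.card_congr (Equiv.subtypeEquivRight (fun a => (mem_centR R y a).symm))

/-- the scalar `ι` of `R` has order 4 -/
theorem Hyp64.orderOf_iota {F : Type*} [Field F] {R : Subgroup (GL (Fin 4) F)} {ι : F}
    (h : Hyp64 R ι) {c : GL (Fin 4) F} (hc : (c : M4 F) = ι • (1 : M4 F)) : orderOf c = 4 := by
  have hc2 : c * c = -1 := by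
    apply Units.ext
    rw [Units.val_mul, hc, Matrix.smul_mul, Matrix.mul_smul, Matrix.one_mul, smul_smul, h.iota_sq,
      coe_neg_one, neg_one_smul]
  haveI : Fact (Nat.Prime 2) := ⟨Nat.prime_two⟩
  have key : orderOf c = 2 ^ (1 + 1) := by
    apply orderOf_eq_prime_pow
    · rw [pow_one, pow_two, hc2]
      exact neg_one_ne_one h.two_ne
    · have : c ^ 2 ^ (1 + 1) = (c * c) * (c * c) := by
        rw [show (2 : ℕ) ^ (1 + 1) = 4 by norm_num, pow_succ, pow_succ, pow_succ, pow_one]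
        simp only [mul_assoc]
      rw [this, hc2, neg_mul_neg, one_mul]
  exact key.trans (by norm_num)

/-- CENTCARD64 -/
theorem card_cent {F : Type*} [Field F] {R : Subgroup (GL (Fin 4) F)} {ι : F} (h : Hyp64 R ι)
    (y : GL (Fin 4) F) (hy : y ∈ Cfsg.Geo.subgroupNormalizer R) (r : ℕ) [Fact r.Prime]
    (hyr : ∃ z : F, ((y ^ r : GL (Fin 4) F) : M4 F) = z • (1 : M4 F))
    (hns : ∀ z : F, (y : M4 F) ≠ z • (1 : M4 F)) :
    ∃ k : ℕ, 2 ≤ k ∧ k ≤ 5 ∧
      Nat.card {a : GL (Fin 4) F // a ∈ R ∧ y * a * y⁻¹ = a} = 2 ^ k ∧ 64 ≡ 2 ^ k [MOD r] := by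
  classical
  obtain ⟨z, hz⟩ := hyr
  have hN := (mem_normalizer_iff' R y).mp hy
  haveI : Finite ↥R := Nat.finite_of_card_ne_zero (by rw [h.card]; norm_num)
  have hle : centR R y ≤ R := inf_le_left
  haveI : Finite ↥(centR R y) := Finite.of_injective (fun a => (⟨a.1, hle a.2⟩ : ↥R))
    (fun a b e => Subtype.ext (congrArg (fun u : ↥R => u.1) e))
  have hdvd : Nat.card (centR R y) ∣ 2 ^ 6 := by
    have := Subgroup.card_dvd_of_le hle
    rw [h.card] at this
    exact this
  obtain ⟨k, hk6, hk⟩ := (Nat.dvd_prime_pow Nat.prime_two).mp hdvd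
  have hfix := Cfsg.Agent.S6002P.card_modEq_card_fixed (R : Set (GL (Fin 4) F)) (Set.toFinite _) y r
    (fun a ha => (hN a).mp ha) (fun a _ => conj_eq_of_scalar hz a)
  have hRc : Nat.card (R : Set (GL (Fin 4) F)) = 64 := h.card
  rw [hRc] at hfix
  have hcard : Nat.card {a : GL (Fin 4) F // a ∈ R ∧ y * a * y⁻¹ = a} = 2 ^ k := by
    rw [card_centR, hk]
  refine ⟨k, ?_, ?_, hcard, ?_⟩
  · obtain ⟨c, hcR, hc⟩ := h.iota_mem
    have hcc : c ∈ centR R y := by
      rw [mem_centR]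
      refine ⟨hcR, ?_⟩
      rw [← gl_comm_of_scalar hc y, mul_assoc, mul_inv_cancel, mul_one]
    have h4 : orderOf (⟨c, hcc⟩ : ↥(centR R y)) = 4 :=
      (Subgroup.orderOf_mk c hcc).trans (h.orderOf_iota hc)
    have h5 := orderOf_dvd_natCard (⟨c, hcc⟩ : ↥(centR R y))
    rw [h4, hk] at h5
    by_contra hk2
    have hk1 : k ≤ 1 := by omega
    have h6 : 2 ^ k ≤ 2 ^ 1 := Nat.pow_le_pow_right (by norm_num) hk1
    have h7 := Nat.le_of_dvd (by positivity) h5
    omega
  · by_contra hk5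
    have hk6' : k = 6 := by omega
    rw [hk6'] at hk
    have heq : centR R y = R := by
      apply Subgroup.eq_of_le_of_card_ge hle
      rw [hk, h.card]
      norm_num
    obtain ⟨c, hc⟩ := h.scalar_of_commute (y : M4 F) (by
      intro a ha
      rw [← heq, mem_centR] at ha
      have : y * a = a * y := by
        calc y * a = (y * a * y⁻¹) * y := by group
          _ = a * y := by rw [ha.2]
      rw [← Units.val_mul, ← Units.val_mul, this])
    exact hns c hc
  · rw [← hcard]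
    exact hfix

end Cfsg.Agent.S6000P
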