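import Mathlib
import Cfsg.Prelude.Def_GeometricClasses
import Cfsg.Agent.Helper20.S6000Defs
import Cfsg.Agent.Helper4.S6000USP64
import Cfsg.Agent.Helper26.S6000FIVE
import Cfsg.Agent.Helper1.S6000GEN

set_option autoImplicit false
open scoped MatrixGroups Matrix

/-! S6000 piece Y5 (driver helper20): an element of `N(R)` of order 5 modulo scalars, the Clifford
product `(1 + t₀t₁)(1 + t₁t₂)(1 + t₂t₃)(1 + t₃t₄)` for five pairwise anticommuting involutions. -/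

namespace Cfsg.Agent.S6000P

namespace Y5

variable {F : Type*} [Field F]

theorem conj_neg (u a : GL (Fin 4) F) : u * (-a) * u⁻¹ = -(u * a * u⁻¹) := by
  rw [mul_neg, neg_mul]

section cliff

variable {t : Fin 5 → GL (Fin 4) F} (ht2 : ∀ i, t i * t i = 1)
  (hanti : ∀ i j, i ≠ j → t i * t j = -(t j * t i))

include ht2 hanti

theorem sq_pair {i j : Fin 5} (hij : i ≠ j) : (t i * t j) * (t i * t j) = -1 := by
  calc (t i * t j) * (t i * t j) = t i * (t j * t i) * t j := by simp only [mul_assoc]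
    _ = t i * (-(t i * t j)) * t j := by rw [hanti j i hij.symm]
    _ = -((t i * t i) * (t j * t j)) := by
        rw [mul_neg, neg_mul]; simp only [mul_assoc]
    _ = -1 := by rw [ht2, ht2, one_mul]

theorem comm_pair {i j k : Fin 5} (hki : k ≠ i) (hkj : k ≠ j) :
    t k * (t i * t j) = (t i * t j) * t k := by
  calc t k * (t i * t j) = (t k * t i) * t j := by rw [mul_assoc]
    _ = (-(t i * t k)) * t j := by rw [hanti k i hki]
    _ = -(t i * (t k * t j)) := by rw [neg_mul, mul_assoc]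
    _ = -(t i * (-(t j * t k))) := by rw [hanti k j hkj]
    _ = (t i * t j) * t k := by rw [mul_neg, neg_neg, mul_assoc]

theorem pair_mul_left {i j : Fin 5} (hij : i ≠ j) : (t i * t j) * t i = -(t j) := by
  calc (t i * t j) * t i = t i * (t j * t i) := by rw [mul_assoc]
    _ = t i * (-(t i * t j)) := by rw [hanti j i hij.symm]
    _ = -((t i * t i) * t j) := by rw [mul_neg, mul_assoc]
    _ = -(t j) := by rw [ht2, one_mul]

theorem pair_mul_right {i j : Fin 5} : (t i * t j) * t j = t i := by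
  rw [mul_assoc, ht2, mul_one]

theorem anti_left {i j : Fin 5} (hij : i ≠ j) : t i * (t i * t j) = -((t i * t j) * t i) := by
  rw [pair_mul_left ht2 hanti hij, neg_neg, ← mul_assoc, ht2, one_mul]

theorem anti_right {i j : Fin 5} (hij : i ≠ j) : t j * (t i * t j) = -((t i * t j) * t j) := by
  rw [pair_mul_right ht2 hanti, ← mul_assoc, hanti j i hij.symm, neg_mul, mul_assoc, ht2, mul_one]

end cliff

/-- the Spin-type element attached to the pair `(i, j)` -/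
theorem exists_u {R : Subgroup (GL (Fin 4) F)} {ι : F} (h : Hyp64 R ι) {t : Fin 5 → GL (Fin 4) F}
    (ht : ∀ i, t i ∈ R) (ht2 : ∀ i, t i * t i = 1)
    (hanti : ∀ i j, i ≠ j → t i * t j = -(t j * t i)) {i j : Fin 5} (hij : i ≠ j) :
    ∃ u : GL (Fin 4) F, u ∈ Cfsg.Geo.subgroupNormalizer R ∧
      (∀ k, k ≠ i → k ≠ j → u * t k * u⁻¹ = t k) ∧ u * t i * u⁻¹ = -(t j) ∧
      u * t j * u⁻¹ = t i := by
  obtain ⟨u, -, huN, huc, hua⟩ := one_add_props h (t i * t j) (R.mul_mem (ht i) (ht j))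
    (sq_pair ht2 hanti hij)
  refine ⟨u, huN, ?_, ?_, ?_⟩
  · intro k hki hkj
    exact huc (t k) (ht k) (comm_pair ht2 hanti hki hkj)
  · rw [hua (t i) (ht i) (anti_left ht2 hanti hij), pair_mul_left ht2 hanti hij]
  · rw [hua (t j) (ht j) (anti_right ht2 hanti hij), pair_mul_right ht2 hanti]

theorem pow5_conj {G : Type*} [Group G] (w a : G) :
    w ^ 5 * a * (w ^ 5)⁻¹ = w * (w * (w * (w * (w * a * w⁻¹) * w⁻¹) * w⁻¹) * w⁻¹) * w⁻¹ := by
  have e5 : w ^ 5 = w * (w * (w * (w * w))) := by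
    rw [pow_succ, pow_succ, pow_succ, pow_succ, pow_one]; simp only [mul_assoc]
  rw [e5]
  simp only [mul_inv_rev, mul_assoc]

/-- the Clifford product with its conjugation action on the five involutions -/
theorem exists_w {R : Subgroup (GL (Fin 4) F)} {ι : F} (h : Hyp64 R ι) {t : Fin 5 → GL (Fin 4) F}
    (ht : ∀ i, t i ∈ R) (ht2 : ∀ i, t i * t i = 1)
    (hanti : ∀ i j, i ≠ j → t i * t j = -(t j * t i)) :
    ∃ w : GL (Fin 4) F, w ∈ Cfsg.Geo.subgroupNormalizer R ∧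
      w * t 0 * w⁻¹ = -(t 1) ∧ w * t 1 * w⁻¹ = -(t 2) ∧ w * t 2 * w⁻¹ = -(t 3) ∧
      w * t 3 * w⁻¹ = -(t 4) ∧ w * t 4 * w⁻¹ = t 0 ∧
      ∀ i, w ^ 5 * t i * (w ^ 5)⁻¹ = t i := by
  obtain ⟨u0, hu0N, hu0f, hu0i, hu0j⟩ :=
    exists_u h ht ht2 hanti (i := 0) (j := 1) (by decide)
  obtain ⟨u1, hu1N, hu1f, hu1i, hu1j⟩ :=
    exists_u h ht ht2 hanti (i := 1) (j := 2) (by decide)
  obtain ⟨u2, hu2N, hu2f, hu2i, hu2j⟩ :=
    exists_u h ht ht2 hanti (i := 2) (j := 3) (by decide)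
  obtain ⟨u3, hu3N, hu3f, hu3i, hu3j⟩ :=
    exists_u h ht ht2 hanti (i := 3) (j := 4) (by decide)
  set w : GL (Fin 4) F := u0 * (u1 * (u2 * u3)) with hw
  have hwN : w ∈ Cfsg.Geo.subgroupNormalizer R :=
    Subgroup.mul_mem _ hu0N (Subgroup.mul_mem _ hu1N (Subgroup.mul_mem _ hu2N hu3N))
  have hconj : ∀ a : GL (Fin 4) F, w * a * w⁻¹ =
      u0 * (u1 * (u2 * (u3 * a * u3⁻¹) * u2⁻¹) * u1⁻¹) * u0⁻¹ := by
    intro a
    rw [hw]
    group
  have c4 : w * t 4 * w⁻¹ = t 0 := by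
    rw [hconj, hu3j, hu2j, hu1j, hu0j]
  have c0 : w * t 0 * w⁻¹ = -(t 1) := by
    rw [hconj, hu3f 0 (by decide) (by decide), hu2f 0 (by decide) (by decide),
      hu1f 0 (by decide) (by decide), hu0i]
  have c1 : w * t 1 * w⁻¹ = -(t 2) := by
    rw [hconj, hu3f 1 (by decide) (by decide), hu2f 1 (by decide) (by decide), hu1i, conj_neg,
      hu0f 2 (by decide) (by decide)]
  have c2 : w * t 2 * w⁻¹ = -(t 3) := by
    rw [hconj, hu3f 2 (by decide) (by decide), hu2i, conj_neg, hu1f 3 (by decide) (by decide),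
      conj_neg, hu0f 3 (by decide) (by decide)]
  have c3 : w * t 3 * w⁻¹ = -(t 4) := by
    rw [hconj, hu3i, conj_neg, hu2f 4 (by decide) (by decide), conj_neg,
      hu1f 4 (by decide) (by decide), conj_neg, hu0f 4 (by decide) (by decide)]
  refine ⟨w, hwN, c0, c1, c2, c3, c4, ?_⟩
  intro i
  rw [pow5_conj]
  fin_cases i
  · show w * (w * (w * (w * (w * t 0 * w⁻¹) * w⁻¹) * w⁻¹) * w⁻¹) * w⁻¹ = t 0
    rw [c0, conj_neg, c1, neg_neg, c2, conj_neg, c3, neg_neg, c4]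
  · show w * (w * (w * (w * (w * t 1 * w⁻¹) * w⁻¹) * w⁻¹) * w⁻¹) * w⁻¹ = t 1
    rw [c1, conj_neg, c2, neg_neg, c3, conj_neg, c4, conj_neg, c0, neg_neg]
  · show w * (w * (w * (w * (w * t 2 * w⁻¹) * w⁻¹) * w⁻¹) * w⁻¹) * w⁻¹ = t 2
    rw [c2, conj_neg, c3, neg_neg, c4, c0, conj_neg, c1, neg_neg]
  · show w * (w * (w * (w * (w * t 3 * w⁻¹) * w⁻¹) * w⁻¹) * w⁻¹) * w⁻¹ = t 3
    rw [c3, conj_neg, c4, conj_neg, c0, neg_neg, c1, conj_neg, c2, neg_neg]
  · show w * (w * (w * (w * (w * t 4 * w⁻¹) * w⁻¹) * w⁻¹) * w⁻¹) * w⁻¹ = t 4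
    rw [c4, c0, conj_neg, c1, neg_neg, c2, conj_neg, c3, neg_neg]

end Y5

open Y5 in
/-- Y5 -/
theorem exists_y5 {F : Type*} [Field F] {R : Subgroup (GL (Fin 4) F)} {ι : F} (h : Hyp64 R ι) :
    ∃ y ∈ Cfsg.Geo.subgroupNormalizer R,
      (∃ z : F, ((y ^ 5 : GL (Fin 4) F) : M4 F) = z • (1 : M4 F)) ∧
      ∀ z : F, (y : M4 F) ≠ z • (1 : M4 F) := by
  obtain ⟨t, ht, ht2, hanti⟩ := exists_five h
  obtain ⟨w, hwN, c0, c1, c2, c3, c4, hfix⟩ := exists_w h ht ht2 hanti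
  refine ⟨w, hwN, ?_, ?_⟩
  · -- `w ^ 5` commutes with `t 0, …, t 3`, hence is scalar
    let t' : Fin 4 → GL (Fin 4) F := fun i => t (Fin.castSucc i)
    apply scalar_of_commute_four h t' (fun i => ht _)
    · intro i j hij
      apply hanti
      intro e
      exact hij (Fin.castSucc_injective 4 e)
    · intro i
      have := hfix (Fin.castSucc i)
      have e : w ^ 5 * t (Fin.castSucc i) = t (Fin.castSucc i) * w ^ 5 := by
        calc w ^ 5 * t (Fin.castSucc i)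
            = (w ^ 5 * t (Fin.castSucc i) * (w ^ 5)⁻¹) * w ^ 5 := by group
          _ = t (Fin.castSucc i) * w ^ 5 := by rw [this]
      show ((w ^ 5 : GL (Fin 4) F) : M4 F) * ((t (Fin.castSucc i) : GL (Fin 4) F) : M4 F) = _
      rw [← Units.val_mul, ← Units.val_mul, e]
  · intro z hz
    have e1 : w * t 4 * w⁻¹ = t 4 := conj_eq_of_scalar hz (t 4)
    rw [c4] at e1
    have e2 := hanti 0 4 (by decide)
    rw [e1, ht2] at e2
    exact neg_one_ne_one h.two_ne e2.symm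

end Cfsg.Agent.S6000P
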