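import Mathlib
import Cfsg.Prelude.Def_OddOrderLocal
import Cfsg.Agent.Helper10.BG16A
import Cfsg.Agent.Helper21.BG13d
import Cfsg.Agent.Lead.BG143a
import Cfsg.Agent.Lead.CoprimeAbelian
import Cfsg.Agent.Helper9.BG12f
import Cfsg.Agent.Helper17.Basic

/-!
# B&G 14.7: `κ(M) = τ₁(M)` for a maximal subgroup with `K ≠ 1` (clause of S1434)
-/

set_option autoImplicit false
set_option linter.unusedSectionVars false
set_option linter.unusedVariables false
set_option linter.style.haveILetI false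

namespace Cfsg.Agent.Helper4.BG147K

open Subgroup Cfsg
open Cfsg.Agent.Helper10.BG16 (St1430)

universe u
variable {G : Type u} [Group G] [Finite G]

theorem commutator_eq_bot_of_isCyclic {K : Subgroup G} (hc : IsCyclic ↥K) : ⁅K, K⁆ = ⊥ := by
  apply le_bot_iff.mp
  rw [Subgroup.commutator_le]
  intro a ha b hb
  obtain ⟨g, hg⟩ := hc.exists_generator
  obtain ⟨m, hm⟩ := Subgroup.mem_zpowers_iff.mp (hg ⟨a, ha⟩)
  obtain ⟨n, hn⟩ := Subgroup.mem_zpowers_iff.mp (hg ⟨b, hb⟩)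
  have hab : (⟨a, ha⟩ : ↥K) * ⟨b, hb⟩ = ⟨b, hb⟩ * ⟨a, ha⟩ := by
    rw [← hm, ← hn, ← zpow_add, ← zpow_add, add_comm]
  have hab' : a * b = b * a := congrArg Subtype.val hab
  rw [Subgroup.mem_bot, commutatorElement_eq_one_iff_mul_comm]
  exact hab'

/-- **B&G 14.7, clause `κ(M) = τ₁(M)`** (relative to 14.2). -/
theorem kappa_eq_tau1 (hG : Cfsg.IsMinSimpleOddOrder G) (h1430 : St1430 G) {M K U : Subgroup G}
    (hM : IsCoatom M) (hKU : Cfsg.IsSigmaDecomposition M K U) (hK1 : K ≠ ⊥) :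
    Cfsg.kappa M = Cfsg.tau1 M := by
  have hKM : K ≤ M := hKU.hall.1
  have hσM : Cfsg.sigmaCore M ≤ M := Cfsg.Agent.H9.BG12.sigmaCore_le M
  have hσn : M ≤ normalizer ((Cfsg.sigmaCore M : Subgroup G) : Set G) :=
    Cfsg.Agent.H9.BG12.le_normalizer_sigmaCore M
  have hUM : U ≤ M := hKU.compl.1
  ext p
  constructor
  · -- `κ(M) ⊆ τ₁(M)`
    intro hp
    have hpP : p.Prime := hp.1
    refine ⟨hpP, hp.2.2.1, hp.2.1, ?_, Cfsg.Agent.Lead.BG143.pRankLE_one_of_mem_kappa hp⟩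
    set N : Subgroup G := Cfsg.sigmaCore M ⊔ U with hN
    have hNM : N ≤ M := sup_le hσM hUM
    have hKN : K ≤ normalizer ((N : Subgroup G) : Set G) := fun k hk =>
      Cfsg.Agent.Helper10.BG16.mem_normalizer_sup (hσn (hKM hk)) (hKU.normal hk)
    have hNN : N ≤ normalizer ((N : Subgroup G) : Set G) := le_normalizer
    have hKσN : K ⊔ Cfsg.sigmaCore M ≤ normalizer ((N : Subgroup G) : Set G) :=
      sup_le hKN (le_sup_left.trans hNN)
    have hMN : M ≤ normalizer ((N : Subgroup G) : Set G) := by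
      intro m hm
      obtain ⟨u, hu, b, hb, rfl⟩ := hKU.compl.2.2.2 m hm
      exact mul_mem (hNN (le_sup_right (a := Cfsg.sigmaCore M) hu)) (hKσN hb)
    have hle : M ≤ N ⊔ K := by
      intro m hm
      obtain ⟨u, hu, b, hb, rfl⟩ := hKU.compl.2.2.2 m hm
      refine mul_mem (le_sup_left (b := K) (le_sup_right (a := Cfsg.sigmaCore M) hu)) ?_
      exact (sup_le le_sup_right (le_sup_left.trans le_sup_left) : K ⊔ Cfsg.sigmaCore M ≤ N ⊔ K) hb
    have hcomm := Cfsg.Agent.Helper21.BG13.commutator_le_sup_of_le_sup hNM hMN hKM hle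
    rw [commutator_eq_bot_of_isCyclic hKU.cyclic, sup_bot_eq] at hcomm
    -- `p ∤ |N|`
    intro hd
    have hdN : p ∣ Nat.card N := hd.trans (Subgroup.card_dvd_of_le hcomm)
    have h1 := Cfsg.Agent.Helper17.card_sup_mul_card_inf (Cfsg.sigmaCore M) U (hUM.trans hσn)
    have h2 : p ∣ Nat.card (Cfsg.sigmaCore M) * Nat.card U := by
      rw [← h1]; exact Dvd.dvd.mul_right hdN _
    rcases (Nat.Prime.dvd_mul hpP).mp h2 with h3 | h3
    · exact hp.2.2.1 (Cfsg.Agent.H9.BG12.mem_sigma_of_dvd_card_sigmaCore hpP h3)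
    · -- `|U|` divides `|M : K|`
      have h4 : K.relIndex M * Nat.card K = Nat.card M := Cfsg.Agent.Lead.relIndex_mul_card' hKM
      have h5 := Cfsg.Agent.H9.BG12.card_mul_of_isComplIn hKU.compl
      obtain ⟨c, hc⟩ : Nat.card K ∣ Nat.card ↥(K ⊔ Cfsg.sigmaCore M) :=
        Subgroup.card_dvd_of_le le_sup_left
      have h6 : K.relIndex M = Nat.card U * c := by
        have hpos : 0 < Nat.card K := Nat.card_pos
        apply Nat.eq_of_mul_eq_mul_right hpos
        rw [h4, ← h5, hc]; ring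
      apply hKU.hall.2.2 p hpP hp
      rw [h6]
      exact Dvd.dvd.mul_right h3 _
  · -- `τ₁(M) ⊆ κ(M)`
    intro hp
    by_contra hpκ
    obtain ⟨hpP, hpσ, hpM, hpd, -⟩ := hp
    obtain ⟨-, ⟨U₀, hU₀c, hU₀H, hKU₀, hfpf⟩, -⟩ := h1430 M hM K hKU.hall hK1
    have hU₀M : U₀ ≤ M := hU₀H.1
    have hpU₀ : p ∣ Nat.card U₀ := by
      have h1 : U₀.relIndex M * Nat.card U₀ = Nat.card M :=
        Cfsg.Agent.Lead.relIndex_mul_card' hU₀M
      have h2 : p ∣ U₀.relIndex M * Nat.card U₀ := h1 ▸ hpM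
      exact ((Nat.Prime.dvd_mul hpP).mp h2).resolve_left (hU₀H.2.2 p hpP ⟨hpP, hpκ, hpσ⟩)
    have hcop : (Nat.card K).Coprime (Nat.card U₀) := by
      apply Nat.coprime_of_dvd
      intro q hq hqK hqU
      exact (hU₀H.2.1 q hq hqU).2.1 (hKU.hall.2.1 q hq hqK)
    -- `U₀ = [U₀, K] ≤ [M, M]`
    haveI := hU₀c
    obtain ⟨-, h2⟩ := Cfsg.Agent.Lead.coprime_abelian_decomp K U₀ hKU₀ hcop
    obtain ⟨k, hk, hk1⟩ : ∃ k ∈ K, k ≠ 1 := by
      by_contra hcon
      push Not at hcon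
      exact hK1 ((Subgroup.eq_bot_iff_forall K).mpr hcon)
    have h3 : U₀ ⊓ centralizer (K : Set G) = ⊥ := by
      rw [eq_bot_iff, ← hfpf k hk hk1]
      exact inf_le_inf_left _ (centralizer_le (Set.singleton_subset_iff.mpr hk))
    rw [h3, bot_sup_eq] at h2
    have hU₀comm : U₀ ≤ ⁅M, M⁆ := by
      rw [← h2]
      exact Subgroup.commutator_mono hU₀M hKM
    exact hpd (hpU₀.trans (Subgroup.card_dvd_of_le hU₀comm))

end Cfsg.Agent.Helper4.BG147K
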