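import Mathlib

set_option autoImplicit false

/-!
# S3501, direction (<=): in a sharply 2-transitive finite action the derangements form one class

Direct count in the abstract action (no Frobenius kernel needed):
* `BACK.card_der`: Burnside's lemma for a transitive action in which a non-identity element fixes at most
  one point gives `#derangements + 1 = degree`;
* `BACK.isConj`: for a derangement `x` and a point `a`, the elements `h x h⁻¹` with `h a = a`,
  `h (x a) = c` (one for each `c ≠ a`) are `degree - 1` different derangements, hence all of them;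
* `BACK`: the statement in the vocabulary of the frozen S3501.
-/

namespace Cfsg.Agent.S3501P

open MulAction

section Back

variable {G : Type*} [Group G] [Finite G] {Ω : Type*} [Fintype Ω] [MulAction G Ω]

/-- Burnside count: in a transitive action in which every non-identity element fixes at most one point,
the number of fixed-point-free elements plus one is the degree. -/
theorem BACK.card_der [IsPretransitive G Ω] (hΩ : 1 ≤ Fintype.card Ω)
    (hs : ∀ g : G, g ≠ 1 → ∀ a b : Ω, a ≠ b → g • a = a → g • b ≠ b) :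
    Nat.card {g : G // ∀ ω : Ω, g • ω ≠ ω} + 1 = Fintype.card Ω := by
  classical
  haveI : Fintype G := Fintype.ofFinite G
  obtain ⟨a⟩ : Nonempty Ω := Fintype.card_pos_iff.mp hΩ
  have hB := MulAction.sum_card_fixedBy_eq_card_orbits_mul_card_group G Ω
  have horb : Fintype.card (Quotient (orbitRel G Ω)) = 1 := by
    rw [Fintype.card_eq_one_iff]
    refine ⟨Quotient.mk'' a, fun q => ?_⟩
    induction q using Quotient.inductionOn' with
    | h b =>
      apply Quotient.sound'
      obtain ⟨g, hg⟩ := exists_smul_eq G a b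
      exact ⟨g, hg⟩
  rw [horb, one_mul] at hB
  simp only [← Nat.card_eq_fintype_card] at hB
  -- the summand at 1
  have h1 : Nat.card (fixedBy Ω (1 : G)) = Nat.card Ω := by
    rw [fixedBy_one_eq_univ]
    exact Nat.card_congr (Equiv.Set.univ Ω)
  -- the summand at g ≠ 1
  have hne : ∀ g : G, g ≠ 1 →
      Nat.card (fixedBy Ω g) = if ¬ (∀ ω : Ω, g • ω ≠ ω) then 1 else 0 := by
    intro g hg
    by_cases hP : ∀ ω : Ω, g • ω ≠ ω
    · rw [if_neg (not_not.mpr hP)]
      haveI : IsEmpty (fixedBy Ω g) := ⟨fun ω => hP ω.1 ω.2⟩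
      exact Nat.card_of_isEmpty
    · rw [if_pos hP]
      push_neg at hP
      obtain ⟨ω₀, hω₀⟩ := hP
      haveI : Nonempty (fixedBy Ω g) := ⟨⟨ω₀, hω₀⟩⟩
      haveI : Subsingleton (fixedBy Ω g) := by
        constructor
        rintro ⟨x, hx⟩ ⟨y, hy⟩
        by_contra hxy
        have hxy' : x ≠ y := fun h => hxy (Subtype.ext h)
        exact hs g hg x y hxy' hx hy
      exact Nat.card_unique
  rw [← Finset.sum_erase_add _ _ (Finset.mem_univ (1 : G)), h1] at hB
  have hsum : ∑ x ∈ (Finset.univ : Finset G).erase 1, Nat.card (fixedBy Ω x) =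
      (((Finset.univ : Finset G).erase 1).filter (fun g => ¬ (∀ ω : Ω, g • ω ≠ ω))).card := by
    rw [Finset.card_filter]
    refine Finset.sum_congr rfl (fun g hg => ?_)
    exact hne g (Finset.ne_of_mem_erase hg)
  rw [hsum] at hB
  have hsplit := Finset.card_filter_add_card_filter_not
    (s := (Finset.univ : Finset G).erase 1) (fun g => ∀ ω : Ω, g • ω ≠ ω)
  have herase : ((Finset.univ : Finset G).erase 1).card = Fintype.card G - 1 := by
    rw [Finset.card_erase_of_mem (Finset.mem_univ _), Finset.card_univ]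
  have hDset : ((Finset.univ : Finset G).erase 1).filter (fun g => ∀ ω : Ω, g • ω ≠ ω) =
      (Finset.univ : Finset G).filter (fun g => ∀ ω : Ω, g • ω ≠ ω) := by
    ext g
    simp only [Finset.mem_filter, Finset.mem_erase, Finset.mem_univ, and_true, true_and,
      and_iff_right_iff_imp]
    intro hg h1'
    exact hg a (by rw [h1', one_smul])
  have hD : Nat.card {g : G // ∀ ω : Ω, g • ω ≠ ω} =
      ((Finset.univ : Finset G).filter (fun g => ∀ ω : Ω, g • ω ≠ ω)).card := by
    rw [Nat.card_eq_fintype_card, Fintype.card_subtype]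
  have hGpos : 0 < Fintype.card G := Fintype.card_pos
  rw [Nat.card_eq_fintype_card (α := G), Nat.card_eq_fintype_card (α := Ω)] at hB
  rw [hDset] at hsplit
  omega

/-- In a 2-transitive action in which every non-identity element fixes at most one point, any two
fixed-point-free elements are conjugate. -/
theorem BACK.isConj (hΩ : 2 ≤ Fintype.card Ω) (h2 : IsMultiplyPretransitive G Ω 2)
    (hs : ∀ g : G, g ≠ 1 → ∀ a b : Ω, a ≠ b → g • a = a → g • b ≠ b)
    (x y : G) (hx : ∀ ω : Ω, x • ω ≠ ω) (hy : ∀ ω : Ω, y • ω ≠ ω) : IsConj x y := by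
  classical
  have : IsPretransitive G Ω := isPretransitive_of_is_two_pretransitive (h2 := h2)
  have hcard := BACK.card_der (G := G) (Ω := Ω) (by omega) hs
  obtain ⟨a⟩ : Nonempty Ω := Fintype.card_pos_iff.mp (by omega)
  have hch : ∀ c : {c : Ω // c ≠ a}, ∃ h : G, h • a = a ∧ h • (x • a) = c.1 := fun c =>
    (is_two_pretransitive_iff.mp h2) (Ne.symm (hx a)) (Ne.symm c.2)
  choose hc hca hcx using hch
  have hder : ∀ c : {c : Ω // c ≠ a}, ∀ ω : Ω, (hc c * x * (hc c)⁻¹) • ω ≠ ω := by
    intro c ω hω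
    apply hx ((hc c)⁻¹ • ω)
    have h3 : (hc c)⁻¹ • ((hc c * x * (hc c)⁻¹) • ω) = (hc c)⁻¹ • ω := by rw [hω]
    simpa only [mul_smul, inv_smul_smul] using h3
  let Φ : {c : Ω // c ≠ a} → {g : G // ∀ ω : Ω, g • ω ≠ ω} := fun c =>
    ⟨hc c * x * (hc c)⁻¹, hder c⟩
  have hΦa : ∀ c : {c : Ω // c ≠ a}, (Φ c).1 • a = c.1 := by
    intro c
    show (hc c * x * (hc c)⁻¹) • a = c.1
    have hinv : (hc c)⁻¹ • a = a := by
      rw [inv_smul_eq_iff, hca c]
    rw [mul_smul, mul_smul, hinv, hcx c]
  have hinj : Function.Injective Φ := by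
    intro c d hcd
    apply Subtype.ext
    rw [← hΦa c, ← hΦa d, hcd]
  have hcardΩ : Nat.card {c : Ω // c ≠ a} = Fintype.card Ω - 1 := by
    rw [Nat.card_eq_fintype_card, Fintype.card_subtype]
    rw [Finset.filter_ne' Finset.univ a, Finset.card_erase_of_mem (Finset.mem_univ _),
      Finset.card_univ]
  have hbij : Function.Bijective Φ :=
    (Nat.bijective_iff_injective_and_card Φ).mpr ⟨hinj, by rw [hcardΩ]; omega⟩
  obtain ⟨c, hc'⟩ := hbij.2 ⟨y, hy⟩
  have hval : hc c * x * (hc c)⁻¹ = y := congrArg Subtype.val hc'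
  exact isConj_iff.mpr ⟨hc c, hval⟩

/-- **S3501, direction (<=)**: if the action is 2-transitive and no non-identity element fixes two
points (and the degree is at least 2), the fixed-point-free elements form exactly one conjugacy class. -/
theorem BACK (hΩ : 2 ≤ Fintype.card Ω) (h2 : IsMultiplyPretransitive G Ω 2)
    (hs : ∀ g : G, g ≠ 1 → ∀ a b : Ω, a ≠ b → g • a = a → g • b ≠ b) :
    Nat.card {c : ConjClasses G // ∃ g : G, ConjClasses.mk g = c ∧ ∀ ω : Ω, g • ω ≠ ω} = 1 := by
  classical
  have : IsPretransitive G Ω := isPretransitive_of_is_two_pretransitive (h2 := h2)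
  have hcard := BACK.card_der (G := G) (Ω := Ω) (by omega) hs
  rw [Nat.card_eq_one_iff_unique]
  constructor
  · constructor
    rintro ⟨c₁, g₁, rfl, h₁⟩ ⟨c₂, g₂, rfl, h₂⟩
    exact Subtype.ext (ConjClasses.mk_eq_mk_iff_isConj.mpr (BACK.isConj hΩ h2 hs g₁ g₂ h₁ h₂))
  · have hpos : 0 < Nat.card {g : G // ∀ ω : Ω, g • ω ≠ ω} := by omega
    obtain ⟨⟨x, hx⟩⟩ := (Nat.card_pos_iff.mp hpos).1
    exact ⟨⟨ConjClasses.mk x, x, rfl, hx⟩⟩

end Back

end Cfsg.Agent.S3501P
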