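import Mathlib
import Cfsg.Agent.Helper28.S5704SDefs
import Cfsg.Agent.Helper14.S5704SEXCROSS
import Cfsg.Agent.Helper18.S5704SEXONE
import Cfsg.Agent.Helper9.S5704SCOMM

/-! # S5704, chapter SPREAD, piece C1 (helper4). -/

set_option autoImplicit false
set_option linter.unusedSectionVars false
set_option linter.unusedVariables false

namespace Cfsg.Agent.S5704S

open Matrix Cfsg.Agent.Helper28.Sg

variable {F : Type*} [Field F] {n a b m : ℕ}

section steps

variable {Q : QuadraticForm F (Fin n → F)} {M : Subgroup ↥(Cfsg.isometryGroup F ⇑Q)}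
  {e : Fin n ≃ Fin a × Fin b} {P : Matrix (Fin n) (Fin n) F}
  {GU : Matrix (Fin a) (Fin a) F} {GW : Matrix (Fin b) (Fin b) F}

/-- C1 (M): `bf GU u u' ≠ 0`, `w ⊥ w'`.  `EX.cross`: `w₂ ⊥ w'`, `w₂' ⊥ w`, `bf GW w₂ w₂' = 1`; COMM with `p = u⊗w`, `y = u⊗(c • w₂)`,
`p' = u'⊗w'`, `y' = u'⊗w₂'` (both by (B+)), `c = (bf GU u u')⁻¹`. -/
theorem C1.main (hT : TData Q e P GU GW) (hb : 4 ≤ b)
    (hBp : ∀ u w w', InM Q M (pt e P u w) (pt e P u w')) :
    ∀ u u' w w', bf GU u u' ≠ 0 → bf GW w w' = 0 → InM Q M (pt e P u w) (pt e P u' w') := by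
  intro u u' w w' huu hww
  obtain ⟨w₂, w₂', h1, h2, h3⟩ := EX.cross hT.sympW hb w w'
  have hpol : ∀ u w u' w', B Q (pt e P u w) (pt e P u' w') = bf GU u u' * bf GW w w' :=
    fun u w u' w' => hT.pol u w u' w'
  have key := COMM.main (M := M) (p := pt e P u w) (y := pt e P u ((bf GU u u')⁻¹ • w₂))
    (p' := pt e P u' w') (y' := pt e P u' w₂') (hT.sing _ _) (hT.sing _ _)
    (by rw [hpol, hww, mul_zero]) (by rw [hpol, h2, mul_zero])
    (by rw [hpol, bf_smul_right, h1, mul_zero, mul_zero]) (hBp u w _) (hBp u' w' _)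
  have hB1 : B Q (pt e P u ((bf GU u u')⁻¹ • w₂)) (pt e P u' w₂') = 1 := by
    rw [hpol, bf_smul_left, h3, mul_one, mul_inv_cancel₀ huu]
  rw [hB1, one_smul] at key
  exact key

end steps

end Cfsg.Agent.S5704S
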