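import Mathlib
import Cfsg.Agent.Helper28.S5704SDefs
import Cfsg.Agent.Helper14.S5704SEXCROSS
import Cfsg.Agent.Helper18.S5704SEXONE
import Cfsg.Agent.Helper9.S5704SCOMM

/-! # S5704, chapter SPREAD, piece STEP1P (helper4). -/

set_option autoImplicit false
set_option linter.unusedSectionVars false
set_option linter.unusedVariables false

namespace Cfsg.Agent.S5704S

open Matrix Cfsg.Agent.Helper28.Sg

variable {F : Type*} [Field F] {n a b m : ℕ}

section steps

variable {Q : QuadraticForm F (Fin n → F)} {M : Subgroup ↥(Cfsg.isometryGroup F ⇑Q)}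
  {e : Fin n ≃ Fin a × Fin b} {P : Matrix (Fin n) (Fin n) F}
  {GU : Matrix (Fin a) (Fin a) F} {GW : Matrix (Fin b) (Fin b) F}

/-- STEP1P (M): (B), `b ≥ 4` ⟹ (A+): the same with `U` and `W` exchanged. -/
theorem STEP1P.main (hT : TData Q e P GU GW) (hb : 4 ≤ b)
    (hB : ∀ u w w', bf GW w w' = 0 → InM Q M (pt e P u w) (pt e P u w')) :
    ∀ u u' w, InM Q M (pt e P u w) (pt e P u' w) := by
  have hpol : ∀ u w u' w', B Q (pt e P u w) (pt e P u' w') = bf GU u u' * bf GW w w' :=
    fun u w u' w' => hT.pol u w u' w'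
  -- the non-orthogonal case
  have key : ∀ u u' w, bf GU u u' ≠ 0 → InM Q M (pt e P u w) (pt e P u' w) := by
    intro u u' w huu
    obtain ⟨w₂, w₂', h1, h2, h3⟩ := EX.cross hT.sympW hb w w
    have hk := COMM.main (M := M) (p := pt e P u w) (y := pt e P u ((bf GU u u')⁻¹ • w₂))
      (p' := pt e P u' w) (y' := pt e P u' w₂') (hT.sing _ _) (hT.sing _ _)
      (by rw [hpol, hT.sympW.alt, mul_zero]) (by rw [hpol, h2, mul_zero])
      (by rw [hpol, bf_smul_right, h1, mul_zero, mul_zero])
      (hB u w _ (by rw [bf_smul_right, h1, mul_zero])) (hB u' w _ h2)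
    have hB1 : B Q (pt e P u ((bf GU u u')⁻¹ • w₂)) (pt e P u' w₂') = 1 := by
      rw [hpol, bf_smul_left, h3, mul_one, mul_inv_cancel₀ huu]
    rw [hB1, one_smul] at hk
    exact hk
  intro u u' w
  by_cases huu : bf GU u u' = 0
  · by_cases hu : u = 0
    · rw [hu, pt_zero_left]
      exact InM.zero_left _
    · obtain ⟨u₃, hu₃⟩ := EX.one hT.sympU hu
      have e1 : u' = u₃ + (u' - u₃) := by abel
      have h1 : InM Q M (pt e P u w) (pt e P u₃ w) := key u u₃ w (by rw [hu₃]; exact one_ne_zero)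
      have h2 : InM Q M (pt e P u w) (pt e P (u' - u₃) w) := by
        apply key
        rw [bf_sub_right, huu, hu₃, zero_sub]
        exact neg_ne_zero.mpr one_ne_zero
      have h3 := h1.add h2
      rw [← pt_add_left, ← e1] at h3
      exact h3
  · exact key u u' w huu

end steps

end Cfsg.Agent.S5704S
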