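import Mathlib
import Cfsg.Agent.Helper11.NoSimple

set_option autoImplicit false

/-! # P720, piece (V0): a simple group of order 720 acting on the 10 cosets of a subgroup of order 72,
in which every element of order 3 has exactly one fixed point, is 2-transitive with two-point
stabilizers of order 8. -/

namespace Cfsg.Agent.Helper4.P720V0

variable {G : Type*} [Group G] [Finite G] [IsSimpleGroup G]

theorem two_transitive (hcard : Nat.card G = 720) (M : Subgroup G) (hM : Nat.card M = 72)
    (hfix : ∀ g : G, orderOf g = 3 → Nat.card (MulAction.fixedBy (G ⧸ M) g) = 1) :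
    MulAction.IsMultiplyPretransitive G (G ⧸ M) 2 ∧
    ∀ a b : G ⧸ M, a ≠ b →
      Nat.card ↥(MulAction.stabilizer G a ⊓ MulAction.stabilizer G b) = 8 := by
  classical
  have hidx : Nat.card (G ⧸ M) = 10 := by
    have h1 := M.card_mul_index
    rw [hM, hcard] at h1
    have h2 : M.index = 10 := by omega
    rwa [Subgroup.index_eq_card] at h2
  let _ : Fintype (G ⧸ M) := Fintype.ofFinite _
  have hcardF : Fintype.card (G ⧸ M) = 10 := by rw [← Nat.card_eq_fintype_card]; exact hidx
  have : Fact (Nat.Prime 3) := ⟨by norm_num⟩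
  obtain ⟨P⟩ : Nonempty (Sylow 3 G) := inferInstance
  have hPcard : Nat.card ↥(P : Subgroup G) = 9 :=
    (Cfsg.Agent.Helper11.sylow_card_of_card_eq_pow (p := 3) 80 2 (by rw [hcard]; norm_num) (by norm_num) P).1
  have hPp : IsPGroup 3 ↥(P : Subgroup G) := P.isPGroup'
  -- a fixed point of `P`
  obtain ⟨x0, hx0⟩ : (MulAction.fixedPoints ↥(P : Subgroup G) (G ⧸ M)).Nonempty :=
    IsPGroup.nonempty_fixed_point_of_prime_not_dvd_card hPp (G ⧸ M) (by rw [hidx]; norm_num)
  have hx0' : ∀ p : G, p ∈ (P : Subgroup G) → p • x0 = x0 := fun p hp => hx0 ⟨p, hp⟩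
  -- nontrivial elements of `P` fix only `x0`
  have hD : ∀ g : G, g ∈ (P : Subgroup G) → g ≠ 1 → ∀ y : G ⧸ M, g • y = y → y = x0 := by
    intro g hg hg1 y hy
    -- an element `h` of order 3 with `Fix g ⊆ Fix h`
    have hord : orderOf g ∣ 9 := by
      have h1 : orderOf (⟨g, hg⟩ : ↥(P : Subgroup G)) ∣ Nat.card ↥(P : Subgroup G) :=
        orderOf_dvd_natCard _
      rw [hPcard, Subgroup.orderOf_mk] at h1
      exact h1
    have hord' : orderOf g = 3 ∨ orderOf g = 9 := by
      have h9 : Nat.divisors 9 = {1, 3, 9} := by decide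
      have hmem : orderOf g ∈ Nat.divisors 9 := Nat.mem_divisors.mpr ⟨hord, by norm_num⟩
      rw [h9] at hmem
      simp only [Finset.mem_insert, Finset.mem_singleton] at hmem
      rcases hmem with h | h | h
      · exact absurd (orderOf_eq_one_iff.mp h) hg1
      · exact Or.inl h
      · exact Or.inr h
    obtain ⟨h, hh3, hsub⟩ : ∃ h : G, orderOf h = 3 ∧ ∀ z : G ⧸ M, g • z = z → h • z = z := by
      rcases hord' with h3 | h9
      · exact ⟨g, h3, fun z hz => hz⟩
      · refine ⟨g ^ 3, ?_, ?_⟩
        · rw [orderOf_pow_of_dvd (by norm_num) (by rw [h9]; norm_num), h9]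
        · intro z hz
          rw [pow_succ, pow_succ, pow_one, mul_smul, mul_smul, hz, hz, hz]
    have hone := hfix h hh3
    have hsubs : Subsingleton (MulAction.fixedBy (G ⧸ M) h) :=
      (Nat.card_eq_one_iff_unique.mp hone).1
    have h1 : (⟨y, hsub y hy⟩ : MulAction.fixedBy (G ⧸ M) h) =
        ⟨x0, hsub x0 (hx0' g hg)⟩ := Subsingleton.elim _ _
    exact congrArg Subtype.val h1
  -- `P` is regular on the other nine points
  have hE : ∀ y z : G ⧸ M, y ≠ x0 → z ≠ x0 → ∃ p : G, p ∈ (P : Subgroup G) ∧ p • y = z := by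
    intro y z hy hz
    let f : ↥(P : Subgroup G) → {w : G ⧸ M // w ≠ x0} := fun p =>
      ⟨(p : G) • y, by
        intro h
        apply hy
        have h2 : y = (p : G)⁻¹ • x0 := by rw [← h, inv_smul_smul]
        rw [h2]
        exact hx0' _ ((P : Subgroup G).inv_mem p.2)⟩
    have hf : Function.Injective f := by
      intro p q hpq
      have h1 : (p : G) • y = (q : G) • y := congrArg Subtype.val hpq
      have h2 : ((q : G)⁻¹ * (p : G)) • y = y := by rw [mul_smul, h1, inv_smul_smul]
      by_contra hne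
      have h3 : (q : G)⁻¹ * (p : G) ≠ 1 := by
        intro h4
        apply hne
        have h5 : (p : G) = (q : G) := by
          have := congrArg (fun t => (q : G) * t) h4
          simpa using this
        exact Subtype.ext h5
      exact hy (hD _ ((P : Subgroup G).mul_mem ((P : Subgroup G).inv_mem q.2) p.2) h3 y h2)
    have hcard9 : Nat.card {w : G ⧸ M // w ≠ x0} = 9 := by
      rw [Nat.card_eq_fintype_card, Fintype.card_subtype_compl, Fintype.card_subtype_eq, hcardF]
    have hbij : Function.Bijective f :=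
      hf.bijective_of_nat_card_le (by rw [hcard9, hPcard])
    obtain ⟨p, hp⟩ := hbij.2 ⟨z, hz⟩
    exact ⟨(p : G), p.2, congrArg Subtype.val hp⟩
  -- 2-transitivity
  have hT : ∀ {a b c d : G ⧸ M}, a ≠ b → c ≠ d → ∃ g : G, g • a = c ∧ g • b = d := by
    intro a b c d hab hcd
    obtain ⟨g1, hg1⟩ := MulAction.exists_smul_eq G a x0
    obtain ⟨g2, hg2⟩ := MulAction.exists_smul_eq G c x0
    have hb : g1 • b ≠ x0 := by
      intro h
      apply hab
      rw [← hg1] at h
      exact (MulAction.injective g1 h).symm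
    have hd : g2 • d ≠ x0 := by
      intro h
      apply hcd
      rw [← hg2] at h
      exact (MulAction.injective g2 h).symm
    obtain ⟨p, hp, hpb⟩ := hE (g1 • b) (g2 • d) hb hd
    refine ⟨g2⁻¹ * p * g1, ?_, ?_⟩
    · rw [mul_smul, mul_smul, hg1, hx0' p hp, ← hg2, inv_smul_smul]
    · rw [mul_smul, mul_smul, hpb, inv_smul_smul]
  refine ⟨MulAction.is_two_pretransitive_iff.mpr hT, ?_⟩
  intro a b hab
  have hstab : MulAction.stabilizer G a ⊓ MulAction.stabilizer G b =
      MulAction.stabilizer G ((a, b) : (G ⧸ M) × (G ⧸ M)) := by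
    ext g
    simp only [Subgroup.mem_inf, MulAction.mem_stabilizer_iff, Prod.smul_mk, Prod.mk.injEq]
  have horb : MulAction.orbit G ((a, b) : (G ⧸ M) × (G ⧸ M)) =
      ((Finset.univ : Finset (G ⧸ M)).offDiag : Set ((G ⧸ M) × (G ⧸ M))) := by
    ext q
    simp only [Finset.coe_offDiag, Finset.coe_univ, Set.mem_offDiag, Set.mem_univ, true_and]
    constructor
    · rintro ⟨g, rfl⟩
      intro h
      exact hab (MulAction.injective g h)
    · intro hq
      obtain ⟨g, h1, h2⟩ := hT hab hq
      exact ⟨g, by ext <;> simp [h1, h2]⟩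
  have hind : (MulAction.stabilizer G ((a, b) : (G ⧸ M) × (G ⧸ M))).index = 90 := by
    rw [MulAction.index_stabilizer, horb, Set.ncard_coe_finset, Finset.offDiag_card,
      Finset.card_univ, hcardF]
  rw [hstab]
  have h1 := (MulAction.stabilizer G ((a, b) : (G ⧸ M) × (G ⧸ M))).card_mul_index
  rw [hind, hcard] at h1
  omega

end Cfsg.Agent.Helper4.P720V0
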