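import Mathlib

set_option autoImplicit false

/-! # P720, piece (V1a): in a simple group of order 720 acting on the 10 cosets of a subgroup of
order 72, an involution with at least 3 fixed points has exactly 6 fixed points (sign argument). -/

namespace Cfsg.Agent.Helper4.P720V1a

variable {G : Type*} [Group G] [Finite G] [IsSimpleGroup G]

theorem involution_fixed_six (hcard : Nat.card G = 720) (M : Subgroup G) (hM : Nat.card M = 72)
    (u : G) (hu : orderOf u = 2) (h3 : 3 ≤ Nat.card (MulAction.fixedBy (G ⧸ M) u)) :
    Nat.card (MulAction.fixedBy (G ⧸ M) u) = 6 := by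
  classical
  have hidx : Nat.card (G ⧸ M) = 10 := by
    have h1 := M.card_mul_index
    rw [hM, hcard] at h1
    have h2 : M.index = 10 := by omega
    rwa [Subgroup.index_eq_card] at h2
  let _ : Fintype (G ⧸ M) := Fintype.ofFinite _
  have hcardF : Fintype.card (G ⧸ M) = 10 := by rw [← Nat.card_eq_fintype_card]; exact hidx
  let φ : G →* Equiv.Perm (G ⧸ M) := MulAction.toPermHom G (G ⧸ M)
  -- `φ` is injective
  have hφker : φ.ker = ⊥ := by
    rcases (MonoidHom.normal_ker φ).eq_bot_or_eq_top with h | h
    · exact h
    · exfalso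
      have hMtop : M = ⊤ := by
        rw [eq_top_iff]
        intro g _
        have hg : g ∈ φ.ker := by rw [h]; trivial
        rw [MonoidHom.mem_ker] at hg
        have h1 : φ g ((1 : G) : G ⧸ M) = ((1 : G) : G ⧸ M) := by rw [hg]; rfl
        have h2 : ((g * 1 : G) : G ⧸ M) = ((1 : G) : G ⧸ M) := h1
        rw [mul_one, QuotientGroup.eq] at h2
        simpa using M.inv_mem h2
      rw [hMtop, Subgroup.card_top, hcard] at hM
      omega
  have hφ : Function.Injective φ := (MonoidHom.ker_eq_bot_iff φ).mp hφker
  -- the sign character is trivial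
  let ψ : G →* ℤˣ := Equiv.Perm.sign.comp φ
  have hψker : ψ.ker = ⊤ := by
    rcases (MonoidHom.normal_ker ψ).eq_bot_or_eq_top with h | h
    · exfalso
      have hψ : Function.Injective ψ := (MonoidHom.ker_eq_bot_iff ψ).mp h
      have h1 : Nat.card G ≤ Nat.card ℤˣ := Nat.card_le_card_of_injective ψ hψ
      rw [hcard, Nat.card_eq_fintype_card, Fintype.card_units_int] at h1
      omega
    · exact h
  have hsign : Equiv.Perm.sign (φ u) = 1 := by
    have : u ∈ ψ.ker := by rw [hψker]; trivial
    exact this
  -- the permutation `σ = φ u` has order 2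
  set σ : Equiv.Perm (G ⧸ M) := φ u with hσ
  have hordσ : orderOf σ = 2 := by
    rw [hσ, orderOf_injective φ hφ u, hu]
  obtain ⟨n, hn⟩ := Equiv.Perm.cycleType_prime_order (σ := σ) (by rw [hordσ]; exact Nat.prime_two)
  rw [hordσ] at hn
  have hsum : σ.support.card = 2 * (n + 1) := by
    rw [← Equiv.Perm.sum_cycleType, hn, Multiset.sum_replicate, smul_eq_mul, mul_comm]
  have hsg : Equiv.Perm.sign σ = (-1) ^ (n + 1) := by
    rw [Equiv.Perm.sign_of_cycleType, hn, Multiset.sum_replicate, Multiset.card_replicate,
      smul_eq_mul]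
    have : (n + 1) * 2 + (n + 1) = 2 * (n + 1) + (n + 1) := by ring
    rw [this, pow_add, pow_mul]
    simp
  -- fixed points are the complement of the support
  have hfix : Nat.card (MulAction.fixedBy (G ⧸ M) u) = 10 - σ.support.card := by
    rw [← hcardF, ← Finset.card_compl, Nat.card_eq_fintype_card, ← Set.toFinset_card]
    congr 1
    ext x
    simp only [Set.mem_toFinset, MulAction.mem_fixedBy, Finset.mem_compl, Equiv.Perm.mem_support,
      not_not]
    rfl
  rw [hsign] at hsg
  have heven : Even (n + 1) := by
    by_contra hodd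
    rw [Nat.not_even_iff_odd] at hodd
    rw [hodd.neg_one_pow] at hsg
    exact absurd hsg (by decide)
  obtain ⟨k, hk⟩ := heven
  have hle : σ.support.card ≤ 10 := by
    rw [← hcardF]
    exact Finset.card_le_univ _
  rw [hfix] at h3 ⊢
  omega

end Cfsg.Agent.Helper4.P720V1a
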