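import Mathlib

set_option autoImplicit false

/-! # P720, piece (V1b): in a simple group of order 720 acting on the 10 cosets of a subgroup of
order 72 with elements of order 3 having a unique fixed point and two-point stabilizers of order 8,
no involution has exactly 6 fixed points. -/

namespace Cfsg.Agent.Helper4.P720V1b

section General

variable {G Ω : Type*} [Group G] [MulAction G Ω]

/-- the sub-action of `zpowers c` on the fixed points of `u`, for `c` commuting with `u` -/
def fixSub (u c : G) (hcu : Commute c u) : SubMulAction (Subgroup.zpowers c) Ω where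
  carrier := MulAction.fixedBy Ω u
  smul_mem' := by
    rintro ⟨g, hg⟩ x hx
    rw [MulAction.mem_fixedBy] at hx ⊢
    have hgu : Commute g u := by
      obtain ⟨k, rfl⟩ := Subgroup.mem_zpowers_iff.mp hg
      exact hcu.zpow_left k
    show u • (g • x) = g • x
    rw [← mul_smul, ← hgu.eq, mul_smul, hx]

theorem card_fixSub (u c : G) (hcu : Commute c u) :
    Nat.card ↥(fixSub (Ω := Ω) u c hcu) = Nat.card (MulAction.fixedBy Ω u) :=
  Nat.card_congr (Equiv.subtypeEquivRight (fun _ => Iff.rfl))

theorem isPGroup_zpowers {p : ℕ} (c : G) (hc : orderOf c = p) :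
    IsPGroup p (Subgroup.zpowers c) :=
  IsPGroup.of_card (n := 1) (by rw [Nat.card_zpowers, hc, pow_one])

theorem exists_fixed_of_not_dvd [Finite Ω] {p : ℕ} [Fact p.Prime] (u c : G) (hcu : Commute c u)
    (hc : orderOf c = p) (hnd : ¬ p ∣ Nat.card (MulAction.fixedBy Ω u)) :
    ∃ x : Ω, u • x = x ∧ c • x = x := by
  have hP := isPGroup_zpowers c hc
  haveI : Finite ↥(fixSub (Ω := Ω) u c hcu) :=
    Finite.of_injective (fun x => (x : Ω)) Subtype.val_injective
  obtain ⟨x, hx⟩ := hP.nonempty_fixed_point_of_prime_not_dvd_card ↥(fixSub (Ω := Ω) u c hcu)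
    (by rw [card_fixSub]; exact hnd)
  refine ⟨(x : Ω), x.2, ?_⟩
  have h1 := hx ⟨c, Subgroup.mem_zpowers c⟩
  exact congrArg Subtype.val h1

theorem exists_other_fixed_of_dvd [Finite Ω] {p : ℕ} [Fact p.Prime] (u c : G) (hcu : Commute c u)
    (hc : orderOf c = p) (hd : p ∣ Nat.card (MulAction.fixedBy Ω u)) (z : Ω) (hz : u • z = z)
    (hcz : c • z = z) : ∃ x : Ω, x ≠ z ∧ u • x = x ∧ c • x = x := by
  have hP := isPGroup_zpowers c hc
  haveI : Finite ↥(fixSub (Ω := Ω) u c hcu) :=
    Finite.of_injective (fun x => (x : Ω)) Subtype.val_injective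
  have hzmem : (⟨z, hz⟩ : ↥(fixSub (Ω := Ω) u c hcu)) ∈
      MulAction.fixedPoints (Subgroup.zpowers c) ↥(fixSub (Ω := Ω) u c hcu) := by
    rintro ⟨g, hg⟩
    apply Subtype.ext
    show g • z = z
    obtain ⟨k, rfl⟩ := Subgroup.mem_zpowers_iff.mp hg
    have : c ∈ MulAction.stabilizer G z := hcz
    exact (MulAction.stabilizer G z).zpow_mem this k
  obtain ⟨x, hx, hne⟩ := hP.exists_fixed_point_of_prime_dvd_card_of_fixed_point
    ↥(fixSub (Ω := Ω) u c hcu) (by rw [card_fixSub]; exact hd) hzmem
  refine ⟨(x : Ω), ?_, x.2, ?_⟩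
  · intro h
    exact hne (Subtype.ext h.symm)
  · have h1 := hx ⟨c, Subgroup.mem_zpowers c⟩
    exact congrArg Subtype.val h1

end General

variable {G : Type*} [Group G] [Finite G] [IsSimpleGroup G]

theorem no_involution_six (hcard : Nat.card G = 720) (M : Subgroup G) (hM : Nat.card M = 72)
    (hfix : ∀ g : G, orderOf g = 3 → Nat.card (MulAction.fixedBy (G ⧸ M) g) = 1)
    (h8 : ∀ a b : G ⧸ M, a ≠ b →
      Nat.card ↥(MulAction.stabilizer G a ⊓ MulAction.stabilizer G b) = 8)
    (u : G) (hu : orderOf u = 2) (h6 : Nat.card (MulAction.fixedBy (G ⧸ M) u) = 6) : False := by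
  classical
  have hidx : Nat.card (G ⧸ M) = 10 := by
    have h1 := M.card_mul_index
    rw [hM, hcard] at h1
    have h2 : M.index = 10 := by omega
    rwa [Subgroup.index_eq_card] at h2
  let _ : Fintype (G ⧸ M) := Fintype.ofFinite _
  let _ : Fintype G := Fintype.ofFinite _
  have hcardF : Fintype.card (G ⧸ M) = 10 := by rw [← Nat.card_eq_fintype_card]; exact hidx
  have hcardG : Fintype.card G = 720 := by rw [← Nat.card_eq_fintype_card]; exact hcard
  have hu1 : u ≠ 1 := by
    rintro rfl
    simp at hu
  have hstab : ∀ x : G ⧸ M, Nat.card (MulAction.stabilizer G x) = 72 := by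
    intro x
    have h1 := (MulAction.stabilizer G x).card_mul_index
    rw [MulAction.index_stabilizer_of_transitive, hidx, hcard] at h1
    omega
  -- the centralizer of `u` is a 2-group of order at most 16
  set C : Subgroup G := Subgroup.centralizer ({u} : Set G) with hC
  have hC3 : ¬ 3 ∣ Nat.card C := by
    intro h3
    haveI : Fact (Nat.Prime 3) := ⟨by norm_num⟩
    obtain ⟨c, hc⟩ := exists_prime_orderOf_dvd_card' (G := C) 3 h3
    have hc' : orderOf (c : G) = 3 := by rw [Subgroup.orderOf_coe]; exact hc
    have hcu : Commute (c : G) u := Subgroup.mem_centralizer_singleton_iff.mp c.2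
    have hone := hfix (c : G) hc'
    obtain ⟨hsub, ⟨⟨z, hz⟩⟩⟩ := Nat.card_eq_one_iff_unique.mp hone
    have hz' : (c : G) • z = z := hz
    have huz : (c : G) • (u • z) = u • z := by
      rw [← mul_smul, hcu.eq, mul_smul, hz']
    have huz' : u • z = z := by
      have := @Subsingleton.elim _ hsub ⟨u • z, huz⟩ ⟨z, hz⟩
      exact congrArg Subtype.val this
    obtain ⟨x, hxz, -, hcx⟩ := exists_other_fixed_of_dvd (Ω := G ⧸ M) u (c : G) hcu hc'
      (by rw [h6]; norm_num) z huz' hz'
    apply hxz
    have := @Subsingleton.elim _ hsub ⟨x, hcx⟩ ⟨z, hz⟩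
    exact congrArg Subtype.val this
  have hC5 : ¬ 5 ∣ Nat.card C := by
    intro h5
    haveI : Fact (Nat.Prime 5) := ⟨by norm_num⟩
    obtain ⟨c, hc⟩ := exists_prime_orderOf_dvd_card' (G := C) 5 h5
    have hc' : orderOf (c : G) = 5 := by rw [Subgroup.orderOf_coe]; exact hc
    have hcu : Commute (c : G) u := Subgroup.mem_centralizer_singleton_iff.mp c.2
    obtain ⟨x, -, hcx⟩ := exists_fixed_of_not_dvd (Ω := G ⧸ M) u (c : G) hcu hc'
      (by rw [h6]; norm_num)
    have hmem : (c : G) ∈ MulAction.stabilizer G x := hcx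
    have hdvd := Subgroup.orderOf_dvd_natCard _ hmem
    rw [hc', hstab x] at hdvd
    norm_num at hdvd
  have hC16 : Nat.card C ≤ 16 := by
    have hdvd : Nat.card C ∣ 16 * 45 := by
      have := Subgroup.card_subgroup_dvd_card C
      rw [hcard] at this
      exact this
    have hcop3 : Nat.Coprime 3 (Nat.card C) := (Nat.Prime.coprime_iff_not_dvd (by norm_num)).mpr hC3
    have hcop5 : Nat.Coprime 5 (Nat.card C) := (Nat.Prime.coprime_iff_not_dvd (by norm_num)).mpr hC5
    have hcop : Nat.Coprime (Nat.card C) 45 := by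
      have h45 : Nat.Coprime (3 * 3 * 5) (Nat.card C) := (hcop3.mul_left hcop3).mul_left hcop5
      exact h45.symm
    exact Nat.le_of_dvd (by norm_num) (hcop.dvd_of_dvd_mul_right hdvd)
  -- double counting
  let r : G → (G ⧸ M) × (G ⧸ M) → Prop := fun g q =>
    (g * u * g⁻¹) • q.1 = q.1 ∧ (g * u * g⁻¹) • q.2 = q.2
  have hdc := Finset.sum_card_bipartiteAbove_eq_sum_card_bipartiteBelow
    (s := (Finset.univ : Finset G)) (t := (Finset.univ : Finset (G ⧸ M)).offDiag) r
  -- left side: each conjugate fixes 30 ordered pairs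
  have hleft : ∀ g ∈ (Finset.univ : Finset G),
      ((Finset.univ : Finset (G ⧸ M)).offDiag.bipartiteAbove r g).card = 30 := by
    intro g _
    have hF : (Finset.univ.filter (fun x : G ⧸ M => (g * u * g⁻¹) • x = x)).card = 6 := by
      rw [← h6, Nat.card_eq_fintype_card, Fintype.card_subtype]
      symm
      refine Finset.card_bij (fun x _ => g • x) ?_ ?_ ?_
      · intro x hx
        simp only [Finset.mem_filter, Finset.mem_univ, true_and, MulAction.mem_fixedBy] at hx ⊢
        rw [mul_smul, mul_smul, inv_smul_smul, hx]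
      · intro x _ y _ hxy
        exact MulAction.injective g hxy
      · intro y hy
        simp only [Finset.mem_filter, Finset.mem_univ, true_and, MulAction.mem_fixedBy] at hy ⊢
        refine ⟨g⁻¹ • y, ?_, smul_inv_smul g y⟩
        have h1 : g⁻¹ • ((g * u * g⁻¹) • y) = g⁻¹ • y := by rw [hy]
        rw [mul_smul, mul_smul, inv_smul_smul] at h1
        exact h1
    have heq : (Finset.univ : Finset (G ⧸ M)).offDiag.bipartiteAbove r g =
        (Finset.univ.filter (fun x : G ⧸ M => (g * u * g⁻¹) • x = x)).offDiag := by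
      ext q
      simp only [Finset.bipartiteAbove, Finset.mem_filter, Finset.mem_offDiag, Finset.mem_univ,
        true_and, r]
      tauto
    rw [heq, Finset.offDiag_card, hF]
  -- right side: each ordered pair is fixed by at most 112 conjugating elements
  have hright : ∀ q ∈ (Finset.univ : Finset (G ⧸ M)).offDiag,
      ((Finset.univ : Finset G).bipartiteBelow r q).card ≤ 112 := by
    intro q hq
    obtain ⟨a, b⟩ := q
    have hab : a ≠ b := by
      simp only [Finset.mem_offDiag, Finset.mem_univ, true_and] at hq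
      exact hq
    set B : Finset G := (Finset.univ.filter (fun v : G => v • a = a ∧ v • b = b)).erase 1 with hB
    have hB7 : B.card = 7 := by
      have h1 : (Finset.univ.filter (fun v : G => v • a = a ∧ v • b = b)).card = 8 := by
        rw [← h8 a b hab, Nat.card_eq_fintype_card, Fintype.card_subtype]
        congr 1
        ext v
        simp only [Finset.mem_filter, Finset.mem_univ, true_and, Subgroup.mem_inf,
          MulAction.mem_stabilizer_iff]
      rw [hB, Finset.card_erase_of_mem, h1]
      simp only [Finset.mem_filter, Finset.mem_univ, true_and, one_smul, and_self]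
    have hmaps : ∀ g ∈ (Finset.univ : Finset G).bipartiteBelow r (a, b), g * u * g⁻¹ ∈ B := by
      intro g hg
      simp only [Finset.bipartiteBelow, Finset.mem_filter, Finset.mem_univ, true_and, r] at hg
      rw [hB, Finset.mem_erase]
      refine ⟨?_, ?_⟩
      · intro h1
        apply hu1
        have h2 : u = g⁻¹ * (g * u * g⁻¹) * g := by group
        rw [h2, h1]
        group
      · simp only [Finset.mem_filter, Finset.mem_univ, true_and]
        exact hg
    have hfib : ∀ v ∈ B,
        (((Finset.univ : Finset G).bipartiteBelow r (a, b)).filter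
          (fun g => g * u * g⁻¹ = v)).card ≤ 16 := by
      intro v _
      rcases Finset.eq_empty_or_nonempty
        (((Finset.univ : Finset G).bipartiteBelow r (a, b)).filter
          (fun g => g * u * g⁻¹ = v)) with he | ⟨g0, hg0⟩
      · rw [he]; simp
      · have hg0v : g0 * u * g0⁻¹ = v := (Finset.mem_filter.mp hg0).2
        refine le_trans ?_ hC16
        rw [Nat.card_eq_fintype_card, Fintype.card_subtype]
        refine Finset.card_le_card_of_injOn (fun g => g0⁻¹ * g) ?_ ?_
        · intro g hg
          have hgv : g * u * g⁻¹ = v := (Finset.mem_filter.mp hg).2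
          simp only [Finset.coe_filter, Finset.mem_univ, true_and, Set.mem_ofPred_eq]
          rw [hC, Subgroup.mem_centralizer_singleton_iff]
          have h1 : g * u * g⁻¹ = g0 * u * g0⁻¹ := by rw [hgv, hg0v]
          have h2 : g0⁻¹ * (g * u * g⁻¹) * g = g0⁻¹ * (g0 * u * g0⁻¹) * g := by rw [h1]
          have h3 : g0⁻¹ * (g * u * g⁻¹) * g = g0⁻¹ * g * u := by group
          have h4 : g0⁻¹ * (g0 * u * g0⁻¹) * g = u * (g0⁻¹ * g) := by group
          rw [← h3, h2, h4]
        · intro g _ g' _ hgg
          exact mul_left_cancel hgg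
    have := Finset.card_le_mul_card_image_of_maps_to hmaps 16 hfib
    rw [hB7] at this
    omega
  have hL : ∑ g ∈ (Finset.univ : Finset G),
      ((Finset.univ : Finset (G ⧸ M)).offDiag.bipartiteAbove r g).card = 720 * 30 := by
    rw [Finset.sum_congr rfl hleft, Finset.sum_const, Finset.card_univ, hcardG, smul_eq_mul]
  have hR : ∑ q ∈ (Finset.univ : Finset (G ⧸ M)).offDiag,
      ((Finset.univ : Finset G).bipartiteBelow r q).card ≤ 90 * 112 := by
    refine le_trans (Finset.sum_le_sum hright) ?_
    rw [Finset.sum_const, Finset.offDiag_card, Finset.card_univ, hcardF, smul_eq_mul]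
  rw [hL] at hdc
  rw [← hdc] at hR
  omega

end Cfsg.Agent.Helper4.P720V1b
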