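import Mathlib
import Cfsg.Agent.Helper11.NoSimple

set_option autoImplicit false

/-! # P720, piece (F): a Sylow 3-subgroup of a simple group of order 720 fixes exactly one of the
10 cosets of a subgroup `M` of order 72, when either `n₃ = 40` or `M` is a Sylow 3-normalizer. -/

namespace Cfsg.Agent.Helper4.P720F

section General

variable {G : Type*} [Group G] [Finite G] {p : ℕ} [Fact p.Prime]

/-- the normalizer of a Sylow subgroup is transitive on its fixed points, in any transitive
action -/
theorem exists_normalizer_smul_eq {Ω : Type*} [MulAction G Ω] [MulAction.IsPretransitive G Ω]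
    (P : Sylow p G) (x y : Ω) (hx : x ∈ MulAction.fixedPoints ↥(P : Subgroup G) Ω)
    (hy : y ∈ MulAction.fixedPoints ↥(P : Subgroup G) Ω) :
    ∃ n : G, n ∈ Subgroup.normalizer ((P : Subgroup G) : Set G) ∧ n • x = y := by
  obtain ⟨g, hg⟩ := MulAction.exists_smul_eq G x y
  have hPy : (P : Subgroup G) ≤ MulAction.stabilizer G y := fun q hq => hy ⟨q, hq⟩
  have hQy : ((g • P : Sylow p G) : Subgroup G) ≤ MulAction.stabilizer G y := by
    intro q hq
    rw [Sylow.coe_subgroup_smul, Subgroup.mem_smul_pointwise_iff_exists] at hq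
    obtain ⟨s, hs, rfl⟩ := hq
    rw [MulAut.smul_def, MulAut.conj_apply, MulAction.mem_stabilizer_iff, ← hg, mul_smul,
      mul_smul, inv_smul_smul]
    congr 1
    exact hx ⟨s, hs⟩
  obtain ⟨h, hh⟩ := MulAction.exists_smul_eq (MulAction.stabilizer G y)
    ((g • P).subtype hQy) (P.subtype hPy)
  rw [Sylow.smul_subtype] at hh
  have h3 : h • (g • P) = P := Sylow.subtype_injective hh
  have h4 : ((h : G) * g) • P = P := by
    rw [mul_smul]
    exact h3
  refine ⟨(h : G) * g, Sylow.smul_eq_iff_mem_normalizer.mp h4, ?_⟩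
  rw [mul_smul, hg]
  exact h.2

end General

variable {G : Type*} [Group G] [Finite G] [IsSimpleGroup G]

theorem fixedPoints_eq_one (hcard : Nat.card G = 720) (M : Subgroup G) (hM : Nat.card M = 72)
    (h : Nat.card (Sylow 3 G) = 40 ∨
      ∃ P₀ : Sylow 3 G, M = Subgroup.normalizer ((P₀ : Subgroup G) : Set G))
    (P : Sylow 3 G) :
    Nat.card (MulAction.fixedPoints ↥(P : Subgroup G) (G ⧸ M)) = 1 := by
  classical
  have : Fact (Nat.Prime 3) := ⟨by norm_num⟩
  have hidx : Nat.card (G ⧸ M) = 10 := by
    have h1 := M.card_mul_index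
    rw [hM, hcard] at h1
    have h2 : M.index = 10 := by omega
    rwa [Subgroup.index_eq_card] at h2
  have hmod := P.isPGroup'.card_modEq_card_fixedPoints (G ⧸ M)
  rw [hidx] at hmod
  have hmod' : Nat.card (MulAction.fixedPoints ↥(P : Subgroup G) (G ⧸ M)) % 3 = 1 := by
    have := hmod.symm
    unfold Nat.ModEq at this
    rw [this]
  rcases h with h40 | ⟨P0, hP0⟩
  · -- `n₃ = 40`
    set N : Subgroup G := Subgroup.normalizer ((P : Subgroup G) : Set G) with hN
    have hNcard : Nat.card N = 18 := by
      have h1 : Nat.card (Sylow 3 G) = N.index := Sylow.card_eq_index_normalizer P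
      have h2 := N.card_mul_index
      rw [← h1, h40, hcard] at h2
      omega
    have hPcard : Nat.card ↥(P : Subgroup G) = 9 :=
      (Cfsg.Agent.Helper11.sylow_card_of_card_eq_pow (p := 3) 80 2 (by rw [hcard]; norm_num)
        (by norm_num) P).1
    have hne : (MulAction.fixedPoints ↥(P : Subgroup G) (G ⧸ M)).Nonempty := by
      rw [Set.nonempty_iff_ne_empty]
      intro he
      rw [he] at hmod'
      simp at hmod'
    obtain ⟨x, hx⟩ := hne
    have hsub : MulAction.fixedPoints ↥(P : Subgroup G) (G ⧸ M) ⊆ MulAction.orbit N x := by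
      intro y hy
      obtain ⟨n, hn, hnx⟩ := exists_normalizer_smul_eq P x y hx hy
      exact ⟨⟨n, hn⟩, hnx⟩
    have hPN : (P : Subgroup G) ≤ N := Subgroup.le_normalizer
    have hstab9 : 9 ∣ Nat.card (MulAction.stabilizer N x) := by
      have h1 : (P : Subgroup G).subgroupOf N ≤ MulAction.stabilizer N x := by
        intro n hn
        rw [Subgroup.mem_subgroupOf] at hn
        exact hx ⟨(n : G), hn⟩
      have h2 : Nat.card ((P : Subgroup G).subgroupOf N) = 9 := by
        rw [← hPcard]
        exact Nat.card_congr (Subgroup.subgroupOfEquivOfLe hPN).toEquiv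
      rw [← h2]
      exact Subgroup.card_dvd_of_le h1
    have hindex : (MulAction.orbit N x).ncard ≤ 2 := by
      rw [← MulAction.index_stabilizer]
      have h1 := (MulAction.stabilizer N x).card_mul_index
      rw [hNcard] at h1
      obtain ⟨k, hk⟩ := hstab9
      rw [hk, mul_assoc] at h1
      have h2 : k * (MulAction.stabilizer N x).index = 2 := by omega
      exact Nat.le_of_dvd (by norm_num) (Dvd.intro_left k h2)
    have hle : Nat.card (MulAction.fixedPoints ↥(P : Subgroup G) (G ⧸ M)) ≤ 2 := by
      rw [Nat.card_coe_set_eq]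
      exact le_trans (Set.ncard_le_ncard hsub (Set.toFinite _)) hindex
    omega
  · -- `M = N(P₀)`
    have hsubs : Subsingleton (MulAction.fixedPoints ↥(P : Subgroup G) (G ⧸ M)) := by
      have key : ∀ g : G, (g : G ⧸ M) ∈ MulAction.fixedPoints ↥(P : Subgroup G) (G ⧸ M) →
          g⁻¹ • P = P0 := by
        intro g hg
        have hle : ((g⁻¹ • P : Sylow 3 G) : Subgroup G) ≤
            Subgroup.normalizer ((P0 : Subgroup G) : Set G) := by
          intro q hq
          rw [Sylow.coe_subgroup_smul, Subgroup.mem_smul_pointwise_iff_exists] at hq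
          obtain ⟨s, hs, rfl⟩ := hq
          rw [MulAut.smul_def, MulAut.conj_apply, inv_inv, ← hP0]
          have h1 : (s⁻¹ : G) • (g : G ⧸ M) = (g : G ⧸ M) :=
            hg ⟨s⁻¹, (P : Subgroup G).inv_mem hs⟩
          have h2 : ((s⁻¹ * g : G) : G ⧸ M) = (g : G ⧸ M) := h1
          rw [QuotientGroup.eq] at h2
          have h3 : (s⁻¹ * g)⁻¹ * g = g⁻¹ * s * g := by group
          rw [h3] at h2
          exact h2
        have h1 : ((g⁻¹ • P : Sylow 3 G) : Subgroup G) ⊓
            Subgroup.normalizer ((P0 : Subgroup G) : Set G) =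
            ((g⁻¹ • P : Sylow 3 G) : Subgroup G) ⊓ (P0 : Subgroup G) :=
          (g⁻¹ • P : Sylow 3 G).isPGroup'.inf_normalizer_sylow P0
        have h2 : ((g⁻¹ • P : Sylow 3 G) : Subgroup G) ≤ (P0 : Subgroup G) := by
          have h3 : ((g⁻¹ • P : Sylow 3 G) : Subgroup G) ⊓
              Subgroup.normalizer ((P0 : Subgroup G) : Set G) = (g⁻¹ • P : Sylow 3 G) :=
            inf_eq_left.mpr hle
          rw [h3] at h1
          exact inf_eq_left.mp h1.symm
        have h4 := (g⁻¹ • P : Sylow 3 G).is_maximal' P0.isPGroup' h2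
        exact Sylow.ext h4.symm
      constructor
      rintro ⟨x, hx⟩ ⟨y, hy⟩
      apply Subtype.ext
      show x = y
      obtain ⟨g1, rfl⟩ := QuotientGroup.mk_surjective x
      obtain ⟨g2, rfl⟩ := QuotientGroup.mk_surjective y
      have e1 := key g1 hx
      have e2 := key g2 hy
      rw [QuotientGroup.eq, hP0]
      show g1⁻¹ * g2 ∈ Subgroup.normalizer (P0 : Set G)
      rw [← Sylow.smul_eq_iff_mem_normalizer, mul_smul]
      rw [← e2, smul_inv_smul]
      exact e1.trans e2.symm
    have hle : Nat.card (MulAction.fixedPoints ↥(P : Subgroup G) (G ⧸ M)) ≤ 1 :=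
      Finite.card_le_one_iff_subsingleton.mpr hsubs
    omega

end Cfsg.Agent.Helper4.P720F
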