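import Mathlib
import Cfsg.Agent.Helper25.S5165.Defs
import Cfsg.Agent.Helper26.S5165GENP
import Cfsg.Agent.Helper7.S5165SIGNS
import Cfsg.Agent.Helper24.S5165LIBA
import Cfsg.Agent.Helper24.S5165LIBB

set_option autoImplicit false
set_option linter.unusedSectionVars false
set_option linter.unusedVariables false

/-! S5165 piece SPLUSGEN (helper4 hedge; driver helper25): `S = SQ r Q ⊓ A` is generated by its elements of order `p`.
Uniform in `p`: `g = base f * lift q`, `q ∈ Q`; `lift q` is a product of `lift`s of elements of order `p` of `Q` (GENP),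
which are even (`sign (lift q) = sign q ^ p = sign (q ^ p)`); `base f = g * (lift q)⁻¹ ∈ S` has order `1` or `p`. -/

namespace Cfsg.Agent.S5165P

open Equiv

section chapA

variable {p : ℕ} [Fact p.Prime] {I : Type} [Fintype I] [DecidableEq I] {r : ℕ}

namespace SPLUSGEN

/-- `lift q` is even for an element `q` of order `p` -/
theorem sign_lift_of_order {q : Perm I} (hq : orderOf q = p) :
    Equiv.Perm.sign (lift (p := p) (r := r) q) = 1 := by
  rw [SIGNS.sign_lift, ← map_pow, ← hq, pow_orderOf_eq_one, map_one]

/-- the `lift`s of the elements of `Q` lie in the subgroup generated by the elements of order `p` -/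
theorem lift_mem (Q : Sylow p (Perm I)) {q : Perm I} (hq : q ∈ (Q : Subgroup (Perm I))) :
    lift (p := p) (r := r) q ∈
      Subgroup.closure {x | x ∈ SQ r (Q : Subgroup (Perm I)) ⊓ alternatingGroup (X p I r) ∧
        orderOf x = p} := by
  rw [GENP.eq_closure p I Q] at hq
  induction hq using Subgroup.closure_induction with
  | mem x hx =>
    refine Subgroup.subset_closure ⟨⟨?_, ?_⟩, ?_⟩
    · exact (LIBB.lift_mem_SQ_iff _ x).2 hx.1
    · exact Equiv.Perm.mem_alternatingGroup.2 (sign_lift_of_order hx.2)
    · rw [orderOf_injective (lift (p := p) (r := r)) LIBA.lift_injective x]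
      exact hx.2
  | one =>
    rw [map_one]
    exact one_mem _
  | mul x y _ _ hx hy =>
    rw [map_mul]
    exact mul_mem hx hy
  | inv x _ hx =>
    rw [map_inv]
    exact inv_mem hx

end SPLUSGEN

theorem SPLUSGEN.eq_closure (Q : Sylow p (Perm I)) (hr : r < p) :
    SQ r (Q : Subgroup (Perm I)) ⊓ alternatingGroup (X p I r) =
      Subgroup.closure {x | x ∈ SQ r (Q : Subgroup (Perm I)) ⊓ alternatingGroup (X p I r) ∧
        orderOf x = p} := by
  have hpp : p.Prime := Fact.out
  apply le_antisymm
  · intro g hg
    obtain ⟨f, q, hq, rfl⟩ := (LIBB.mem_SQ_iff _ g).1 hg.1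
    have hl := SPLUSGEN.lift_mem (r := r) Q hq
    have hC : Subgroup.closure {x | x ∈ SQ r (Q : Subgroup (Perm I)) ⊓
        alternatingGroup (X p I r) ∧ orderOf x = p} ≤
        SQ r (Q : Subgroup (Perm I)) ⊓ alternatingGroup (X p I r) := by
      rw [Subgroup.closure_le]
      intro x hx
      exact hx.1
    have hb : base (r := r) f ∈ SQ r (Q : Subgroup (Perm I)) ⊓ alternatingGroup (X p I r) := by
      have e : base (r := r) f = (base f * lift q) * (lift (p := p) (r := r) q)⁻¹ := by group
      rw [e]
      exact mul_mem hg (inv_mem (hC hl))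
    refine mul_mem ?_ hl
    have hdvd : orderOf (base (r := r) f) ∣ p := orderOf_dvd_of_pow_eq_one (LIBA.base_pow_p f)
    rcases (Nat.dvd_prime hpp).1 hdvd with h1 | h1
    · rw [orderOf_eq_one_iff] at h1
      rw [h1]
      exact one_mem _
    · exact Subgroup.subset_closure ⟨hb, h1⟩
  · rw [Subgroup.closure_le]
    intro x hx
    exact hx.1

end chapA

end Cfsg.Agent.S5165P
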