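import Mathlib
import Cfsg.Agent.Helper25.S5165.Defs
import Cfsg.Agent.Helper26.S5165CONJ
import Cfsg.Agent.Helper23.S5165TYPEB

set_option autoImplicit false
set_option linter.unusedSectionVars false
set_option linter.unusedVariables false

/-! S5165 piece STEP5 (helper4; driver helper25): all elements of order `p` of `S = SQ r Q ⊓ A` lie in a strongly
closed subgroup `T` containing `Bsub ⊓ A`. Auxiliary (namespace `STEP5`): the indicator `ind J`, the cycle type of
`base (ind J)`, `card_X`, `sign_eq_of_cycleType_eq`. -/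

namespace Cfsg.Agent.S5165P

open Equiv

section chapA

variable {p : ℕ} [Fact p.Prime] {I : Type} [Fintype I] [DecidableEq I] {r : ℕ}

namespace STEP5

/-- the indicator function of a finset -/
def ind (J : Finset I) : I → ZMod p := fun i => if i ∈ J then 1 else 0

theorem ind_apply (J : Finset I) (i : I) : ind (p := p) J i = if i ∈ J then 1 else 0 := rfl

theorem one_ne_zero_zmod : (1 : ZMod p) ≠ 0 := by
  have : Fact (1 < p) := ⟨(Fact.out : p.Prime).one_lt⟩
  exact one_ne_zero

theorem cycleType_base_ind (J : Finset I) :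
    (base (r := r) (ind (p := p) J)).cycleType = Multiset.replicate J.card p := by
  rw [TYPEB.cycleType_base]
  congr 2
  ext i
  have h1 := one_ne_zero_zmod (p := p)
  by_cases h : i ∈ J
  · simp [h, h1, ind_apply]
  · simp [h, ind_apply]

theorem card_X : Fintype.card (X p I r) = p * Fintype.card I + r := by
  simp [ZMod.card, mul_comm]

theorem sign_eq_of_cycleType_eq {Y : Type} [Fintype Y] [DecidableEq Y] {x y : Perm Y}
    (h : x.cycleType = y.cycleType) : Equiv.Perm.sign x = Equiv.Perm.sign y := by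
  rw [Equiv.Perm.sign_of_cycleType, Equiv.Perm.sign_of_cycleType, h]

theorem mem_alt_of_cycleType_eq {Y : Type} [Fintype Y] [DecidableEq Y] {x y : Perm Y}
    (h : x.cycleType = y.cycleType) (hx : x ∈ alternatingGroup Y) : y ∈ alternatingGroup Y := by
  rw [Equiv.Perm.mem_alternatingGroup] at hx ⊢
  rw [← sign_eq_of_cycleType_eq h]
  exact hx

theorem sq_le_card_X (hpI : p ≤ Fintype.card I) : p ^ 2 ≤ Fintype.card (X p I r) := by
  rw [card_X, pow_two]
  calc p * p ≤ p * Fintype.card I := Nat.mul_le_mul_left p hpI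
    _ ≤ _ := Nat.le_add_right _ _

end STEP5

theorem STEP5.mem_of_order (hpI : p ≤ Fintype.card I) (hr : r < p) (Q : Subgroup (Perm I))
    (T : Subgroup (Perm (X p I r)))
    (hT : SC (alternatingGroup (X p I r)) (SQ r Q ⊓ alternatingGroup (X p I r)) T)
    (hB : Bsub p I r ⊓ alternatingGroup (X p I r) ≤ T) (x : Perm (X p I r))
    (hx : x ∈ SQ r Q ⊓ alternatingGroup (X p I r)) (hxo : orderOf x = p) : x ∈ T := by
  have hpp : p.Prime := Fact.out
  obtain ⟨k, hk⟩ := Equiv.Perm.cycleType_prime_order (σ := x) (by rw [hxo]; exact hpp)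
  rw [hxo] at hk
  have hsum : (k + 1) * p ≤ p * Fintype.card I + r := by
    have h1 := Equiv.Perm.sum_cycleType x
    rw [hk, Multiset.sum_replicate, smul_eq_mul] at h1
    rw [h1, ← STEP5.card_X (p := p) (I := I) (r := r)]
    exact Finset.card_le_univ _
  have hk1 : k + 1 ≤ Fintype.card I := by
    by_contra hcon
    rw [not_le] at hcon
    have h2 : p * (Fintype.card I + 1) ≤ (k + 1) * p := by
      rw [mul_comm]
      exact Nat.mul_le_mul_right p hcon
    have h3 : p * (Fintype.card I + 1) = p * Fintype.card I + p := by ring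
    omega
  obtain ⟨J, hJ⟩ : ∃ J : Finset I, J.card = k + 1 := by
    obtain ⟨J, _, hJ⟩ := Finset.exists_subset_card_eq (s := (Finset.univ : Finset I))
      (n := k + 1) (by rwa [Finset.card_univ])
    exact ⟨J, hJ⟩
  have hyt : (base (r := r) (STEP5.ind (p := p) J)).cycleType = x.cycleType := by
    rw [hk, STEP5.cycleType_base_ind, hJ]
  have hyB : base (r := r) (STEP5.ind (p := p) J) ∈ Bsub p I r := mem_Bsub.2 ⟨_, rfl⟩
  have hyA : base (r := r) (STEP5.ind (p := p) J) ∈ alternatingGroup (X p I r) :=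
    STEP5.mem_alt_of_cycleType_eq hyt.symm hx.2
  have hyT : base (r := r) (STEP5.ind (p := p) J) ∈ T := hB ⟨hyB, hyA⟩
  obtain ⟨g, hgA, hg⟩ := CONJ.exists_alt_conj p (STEP5.sq_le_card_X hpI) x _ hxo hyt.symm
  have hx' : x = g⁻¹ * base (r := r) (STEP5.ind (p := p) J) * g⁻¹⁻¹ := by
    rw [← hg]
    group
  rw [hx']
  apply hT.2 _ hyT g⁻¹ (inv_mem hgA)
  rw [← hx']
  exact hx

end chapA

end Cfsg.Agent.S5165P
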