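import Mathlib
import Cfsg.Agent.Helper25.S5165.Defs
import Cfsg.Agent.Helper26.S5165CONJ
import Cfsg.Agent.Helper23.S5165TYPEB
import Cfsg.Agent.Helper24.S5165LIBA
import Cfsg.Agent.Helper24.S5165LIBB
import Cfsg.Agent.Helper4.S5165STEP5

set_option autoImplicit false
set_option linter.unusedSectionVars false
set_option linter.unusedVariables false

/-! S5165 piece STEP4ODD (helper4; driver helper25): `p` odd, `T ≠ ⊥` strongly closed in `S = SQ r Q ⊓ A` ⇒ `Bsub ≤ T`.
Auxiliary (namespace `STEP4ODD`): `isPGroup_Bsub`, `isPGroup_SQ`, `exists_order_p`, `type_le`, `base_mem_of_type`,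
`ind2` and its cycle type. -/

namespace Cfsg.Agent.S5165P

open Equiv

section chapA

variable {p : ℕ} [Fact p.Prime] {I : Type} [Fintype I] [DecidableEq I] {r : ℕ}

namespace STEP4ODD

theorem isPGroup_Bsub : IsPGroup p (Bsub p I r) := by
  rintro ⟨g, hg⟩
  obtain ⟨f, rfl⟩ := mem_Bsub.1 hg
  refine ⟨1, ?_⟩
  apply Subtype.ext
  rw [pow_one, Subgroup.coe_pow, Subgroup.coe_one]
  exact LIBA.base_pow_p f

theorem lift_conj_mem_Bsub (q : Perm I) {h : Perm (X p I r)} (hh : h ∈ Bsub p I r) :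
    lift q * h * (lift q)⁻¹ ∈ Bsub p I r := by
  obtain ⟨f, rfl⟩ := mem_Bsub.1 hh
  rw [LIBA.lift_conj_base]
  exact mem_Bsub.2 ⟨_, rfl⟩

theorem isPGroup_SQ (Q : Subgroup (Perm I)) (hQ : IsPGroup p Q) : IsPGroup p (SQ (p := p) r Q) := by
  unfold SQ
  refine IsPGroup.to_sup_of_normal_left' isPGroup_Bsub (hQ.map lift) ?_
  rintro _ ⟨q, hq, rfl⟩
  rw [Subgroup.mem_normalizer_iff]
  intro h
  constructor
  · exact lift_conj_mem_Bsub q
  · intro hh
    have h1 := lift_conj_mem_Bsub (p := p) (r := r) q⁻¹ hh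
    have e : lift (p := p) (r := r) q⁻¹ * (lift q * h * (lift q)⁻¹) * (lift q⁻¹)⁻¹ = h := by
      rw [map_inv]
      group
    rwa [e] at h1

/-- a non-trivial `p`-subgroup has an element of order `p` -/
theorem exists_order_p {G : Type*} [Group G] [Finite G] {T : Subgroup G} (hT : IsPGroup p T)
    (hT1 : T ≠ ⊥) : ∃ z ∈ T, orderOf z = p := by
  have hdvd : p ∣ Nat.card T := by
    rcases hT.card_eq_or_dvd with h | h
    · exact absurd (Subgroup.card_eq_one.1 h) hT1
    · exact h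
  obtain ⟨x, hx⟩ := exists_prime_orderOf_dvd_card' p hdvd
  exact ⟨x.1, x.2, by rw [Subgroup.orderOf_coe]; exact hx⟩

/-- an element of type `p ^ (k + 1)` of `Perm (X p I r)`, `r < p`, has `k + 1 ≤ |I|` -/
theorem type_le (hr : r < p) {x : Perm (X p I r)} {k : ℕ}
    (hk : x.cycleType = Multiset.replicate (k + 1) p) : k + 1 ≤ Fintype.card I := by
  have hsum : (k + 1) * p ≤ p * Fintype.card I + r := by
    have h1 := Equiv.Perm.sum_cycleType x
    rw [hk, Multiset.sum_replicate, smul_eq_mul] at h1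
    rw [h1, ← STEP5.card_X (p := p) (I := I) (r := r)]
    exact Finset.card_le_univ _
  by_contra hcon
  rw [not_le] at hcon
  have h2 : p * (Fintype.card I + 1) ≤ (k + 1) * p := by
    rw [mul_comm]
    exact Nat.mul_le_mul_right p hcon
  have h3 : p * (Fintype.card I + 1) = p * Fintype.card I + p := by ring
  omega

/-- an element `base f` with the cycle type of an element `z ∈ T` of order `p` lies in `T` -/
theorem base_mem_of_type (hpI : p ≤ Fintype.card I) (Q : Subgroup (Perm I))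
    (T : Subgroup (Perm (X p I r)))
    (hT : SC (alternatingGroup (X p I r)) (SQ r Q ⊓ alternatingGroup (X p I r)) T)
    {z : Perm (X p I r)} (hz : z ∈ T) (hzo : orderOf z = p) (f : I → ZMod p)
    (hf : (base (r := r) f).cycleType = z.cycleType) : base (r := r) f ∈ T := by
  have hzA : z ∈ alternatingGroup (X p I r) := (hT.1 hz).2
  have hyA : base (r := r) f ∈ alternatingGroup (X p I r) :=
    STEP5.mem_alt_of_cycleType_eq hf.symm hzA
  have hyS : base (r := r) f ∈ SQ r Q := LIBB.Bsub_le_SQ Q (mem_Bsub.2 ⟨f, rfl⟩)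
  obtain ⟨g, hgA, hg⟩ := CONJ.exists_alt_conj p (STEP5.sq_le_card_X hpI) z _ hzo hf.symm
  have h := hT.2 z hz g hgA
  rw [hg] at h
  exact h ⟨hyS, hyA⟩

/-- `1` at `i₁`, `-1` on `J \ {i₁}`, `0` elsewhere -/
def ind2 (J : Finset I) (i₁ : I) : I → ZMod p :=
  fun i => if i = i₁ then 1 else if i ∈ J then -1 else 0

theorem ind2_apply (J : Finset I) (i₁ i : I) :
    ind2 (p := p) J i₁ i = if i = i₁ then 1 else if i ∈ J then -1 else 0 := rfl

theorem cycleType_base_ind2 {J : Finset I} {i₁ : I} (h1 : i₁ ∈ J) :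
    (base (r := r) (ind2 (p := p) J i₁)).cycleType = Multiset.replicate J.card p := by
  have h0 := STEP5.one_ne_zero_zmod (p := p)
  have hfil : Finset.univ.filter (fun i => ind2 (p := p) J i₁ i ≠ 0) = J := by
    ext i
    rw [Finset.mem_filter, ind2_apply]
    by_cases hi : i = i₁
    · subst hi
      rw [if_pos rfl]
      exact ⟨fun _ => h1, fun _ => ⟨Finset.mem_univ _, h0⟩⟩
    · rw [if_neg hi]
      by_cases hJ : i ∈ J
      · rw [if_pos hJ]
        exact ⟨fun _ => hJ, fun _ => ⟨Finset.mem_univ _, neg_ne_zero.2 h0⟩⟩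
      · rw [if_neg hJ]
        exact ⟨fun h => absurd rfl h.2, fun h => absurd h hJ⟩
  rw [TYPEB.cycleType_base, hfil]

theorem ind_add_ind2 {J : Finset I} {i₁ : I} (h1 : i₁ ∈ J) :
    STEP5.ind (p := p) J + ind2 J i₁ = Pi.single i₁ ((2 : ℕ) : ZMod p) := by
  funext i
  rw [Pi.add_apply, STEP5.ind_apply, ind2_apply]
  by_cases hi : i = i₁
  · subst hi
    rw [if_pos h1, if_pos rfl, Pi.single_eq_same]
    push_cast
    ring
  · rw [if_neg hi, Pi.single_eq_of_ne hi]
    by_cases hJ : i ∈ J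
    · rw [if_pos hJ, if_pos hJ]
      ring
    · rw [if_neg hJ, if_neg hJ]
      ring

theorem cyc_pow_p (i : I) : cyc (p := p) (r := r) i ^ p = 1 := by
  unfold cyc
  exact LIBA.base_pow_p _

end STEP4ODD

theorem STEP4ODD.Bsub_le (hp : p ≠ 2) (hpI : p ≤ Fintype.card I) (hr : r < p)
    (Q : Subgroup (Perm I)) (hQ : IsPGroup p Q) (T : Subgroup (Perm (X p I r)))
    (hT : SC (alternatingGroup (X p I r)) (SQ r Q ⊓ alternatingGroup (X p I r)) T) (hT1 : T ≠ ⊥) :
    Bsub p I r ≤ T := by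
  have hpp : p.Prime := Fact.out
  have hTp : IsPGroup p T :=
    (STEP4ODD.isPGroup_SQ (r := r) Q hQ).to_le (fun x hx => (hT.1 hx).1)
  obtain ⟨z, hzT, hzo⟩ := STEP4ODD.exists_order_p hTp hT1
  obtain ⟨k, hk⟩ := Equiv.Perm.cycleType_prime_order (σ := z) (by rw [hzo]; exact hpp)
  rw [hzo] at hk
  have hk1 : k + 1 ≤ Fintype.card I := STEP4ODD.type_le hr hk
  have hcyc : ∀ i : I, cyc (p := p) (r := r) i ∈ T := by
    intro i
    obtain ⟨J, hiJ, _, hJ⟩ := Finset.exists_subsuperset_card_eq (s := {i})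
      (t := (Finset.univ : Finset I)) (n := k + 1) (Finset.subset_univ _)
      (by rw [Finset.card_singleton]; omega) (by rwa [Finset.card_univ])
    have hi : i ∈ J := hiJ (Finset.mem_singleton_self i)
    have h1 : base (r := r) (STEP5.ind (p := p) J) ∈ T :=
      STEP4ODD.base_mem_of_type hpI Q T hT hzT hzo _ (by rw [hk, STEP5.cycleType_base_ind, hJ])
    have h2 : base (r := r) (STEP4ODD.ind2 (p := p) J i) ∈ T :=
      STEP4ODD.base_mem_of_type hpI Q T hT hzT hzo _
        (by rw [hk, STEP4ODD.cycleType_base_ind2 hi, hJ])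
    have h3 : cyc (p := p) (r := r) i ^ 2 ∈ T := by
      rw [LIBB.cyc_pow, ← STEP4ODD.ind_add_ind2 hi, LIBA.base_add]
      exact mul_mem h1 h2
    obtain ⟨m, hm⟩ := hpp.odd_of_ne_two hp
    have h4 : cyc (p := p) (r := r) i = (cyc i ^ 2) ^ (m + 1) := by
      rw [← pow_mul, show 2 * (m + 1) = p + 1 by omega, pow_succ, STEP4ODD.cyc_pow_p, one_mul]
    rw [h4]
    exact pow_mem h3 _
  rw [LIBB.Bsub_eq_closure, Subgroup.closure_le]
  rintro _ ⟨i, rfl⟩
  exact hcyc i

end chapA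

end Cfsg.Agent.S5165P
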