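import Mathlib
import Cfsg.Agent.Helper25.S5165.Defs

set_option autoImplicit false
set_option linter.unusedSectionVars false
set_option linter.unusedVariables false

/-! S5165 piece KER1 (helper4; driver helper25): `A(I)` is generated by the `p`-cycles (`p` odd, `p ≤ |I|`).
For a `p`-cycle `c` and `a` in its support, `⁅swap a (c a), c⁆ = swap a (c a) * swap (c a) (c (c a))` is a `3`-cycle
lying in the (normal) subgroup generated by the `p`-cycles. -/

namespace Cfsg.Agent.S5165P

open Equiv

section chapB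

variable {p : ℕ} [Fact p.Prime] {I : Type} [Fintype I] [DecidableEq I] {r : ℕ}

namespace KER1

/-- the subgroup generated by the `p`-cycles is stable under conjugation -/
theorem conj_mem (g : Perm I) {h : Perm I}
    (hh : h ∈ Subgroup.closure {c : Perm I | c.cycleType = {p}}) :
    g * h * g⁻¹ ∈ Subgroup.closure {c : Perm I | c.cycleType = {p}} := by
  induction hh using Subgroup.closure_induction with
  | mem x hx =>
    refine Subgroup.subset_closure ?_
    show (g * x * g⁻¹).cycleType = {p}
    rw [Equiv.Perm.cycleType_conj]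
    exact hx
  | one =>
    rw [mul_one, mul_inv_cancel]
    exact one_mem _
  | mul x y _ _ hx hy =>
    have e : g * (x * y) * g⁻¹ = (g * x * g⁻¹) * (g * y * g⁻¹) := by group
    rw [e]
    exact mul_mem hx hy
  | inv x _ hx =>
    have e : g * x⁻¹ * g⁻¹ = (g * x * g⁻¹)⁻¹ := by group
    rw [e]
    exact inv_mem hx

/-- a `3`-cycle in the subgroup generated by the `p`-cycles -/
theorem exists_three_cycle (hp : p ≠ 2) (hpI : p ≤ Fintype.card I) :
    ∃ τ : Perm I, τ.IsThreeCycle ∧ τ ∈ Subgroup.closure {c : Perm I | c.cycleType = {p}} := by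
  have hpp : p.Prime := Fact.out
  obtain ⟨c, hc⟩ : ∃ c : Perm I, c.cycleType = {p} := by
    rw [Equiv.Perm.exists_with_cycleType_iff]
    refine ⟨by simpa using hpI, ?_⟩
    intro a ha
    rw [Multiset.mem_singleton] at ha
    rw [ha]
    exact hpp.two_le
  have hcS : c ∈ Subgroup.closure {c : Perm I | c.cycleType = {p}} := Subgroup.subset_closure hc
  have hord : orderOf c = p := by
    rw [← Equiv.Perm.lcm_cycleType, hc, Multiset.lcm_singleton, normalize_eq]
  have hc1 : c ≠ 1 := by
    intro h
    rw [h, Equiv.Perm.cycleType_one] at hc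
    exact (Multiset.singleton_ne_zero p) hc.symm
  obtain ⟨a, ha⟩ : ∃ a, c a ≠ a := by
    by_contra hcon
    exact hc1 (Equiv.ext fun x => by
      by_contra hx
      exact hcon ⟨x, hx⟩)
  -- `c (c a) ≠ a` since `p` is odd
  have ha2 : c (c a) ≠ a := by
    intro h2
    have hodd : Odd p := hpp.odd_of_ne_two hp
    obtain ⟨k, hk⟩ := hodd
    have h3 : (c ^ 2) a = a := by
      rw [pow_two, Equiv.Perm.mul_apply]
      exact h2
    have h4 : ((c ^ 2) ^ k) a = a := Equiv.Perm.pow_apply_eq_self_of_apply_eq_self h3 k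
    have h5 : (c ^ p) a = a := by
      rw [← hord, pow_orderOf_eq_one]
      rfl
    rw [hk, pow_succ, pow_mul, Equiv.Perm.mul_apply] at h5
    -- h5 : ((c ^ 2) ^ k) (c a) = a
    have h6 : ((c ^ 2) ^ k) (c a) = c a := by
      have : (c ^ 2) (c a) = c a := by
        rw [pow_two, Equiv.Perm.mul_apply, h2]
      exact Equiv.Perm.pow_apply_eq_self_of_apply_eq_self this k
    rw [h6] at h5
    exact ha h5
  have hne : c a ≠ c (c a) := fun h => ha (c.injective h).symm
  refine ⟨swap (c a) a * swap (c a) (c (c a)),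
    Equiv.Perm.isThreeCycle_swap_mul_swap_same ha hne (Ne.symm ha2), ?_⟩
  have e : swap (c a) a * swap (c a) (c (c a)) = (swap a (c a) * c * (swap a (c a))⁻¹) * c⁻¹ := by
    have h1 : c * swap a (c a) * c⁻¹ = swap (c a) (c (c a)) := by
      rw [← Equiv.swap_apply_apply]
    rw [swap_inv, mul_assoc, mul_assoc, ← mul_assoc c, h1, swap_comm a (c a)]
  rw [e]
  exact mul_mem (conj_mem _ hcS) (inv_mem hcS)

end KER1

theorem KER1.alternating_le (hp : p ≠ 2) (hpI : p ≤ Fintype.card I) :
    alternatingGroup I ≤ Subgroup.closure {c : Perm I | c.cycleType = {p}} := by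
  obtain ⟨τ, hτ3, hτ⟩ := KER1.exists_three_cycle (p := p) (I := I) hp hpI
  rw [← Equiv.Perm.closure_three_cycles_eq_alternating, Subgroup.closure_le]
  intro σ hσ
  have hσ3 : σ.IsThreeCycle := hσ
  have hconj : IsConj τ σ := by
    rw [Equiv.Perm.isConj_iff_cycleType_eq, hτ3.cycleType, hσ3.cycleType]
  obtain ⟨g, hg⟩ := isConj_iff.1 hconj
  rw [SetLike.mem_coe, ← hg]
  exact KER1.conj_mem g hτ

end chapB

end Cfsg.Agent.S5165P
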