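import Mathlib
import Cfsg.Agent.Helper7.S5655.Defs
import Cfsg.Agent.Helper7.S5655.MonoLib

/-! # S5655 `k = 1`, piece MUGEN (helper4): `μ_{q+1}` has an element of order exactly `q + 1`. -/

set_option autoImplicit false

namespace Cfsg.Agent.S5655K1

open Matrix
open Cfsg.Agent.S2644 Cfsg.Agent.Helper2.SUGen Cfsg.Agent.Helper28.SimMax Cfsg.Agent.MonoP

variable {K : Type*} [Field K] {q n : ℕ}

local notation "h" => Cfsg.hermForm n K q
local notation "T" => Cfsg.unitaryTransvection n q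

/-- MUGEN (S-M): `μ_{q+1}` has an element of order exactly `q + 1` (`ζ ^ (q-1)` for a generator `ζ` of `Kˣ`). -/
theorem MU.exists_gen (D : Frob K q) [Fintype K] (hK : Fintype.card K = q ^ 2) :
    ∃ c : K, IsU D c ∧ ∀ m : ℕ, c ^ m = 1 → (q + 1) ∣ m := by
  classical
  have hq2 : 2 ≤ q := by
    have h1 : 1 < Fintype.card K := Fintype.one_lt_card
    rw [hK] at h1
    by_contra hlt
    have : q = 0 ∨ q = 1 := by omega
    rcases this with rfl | rfl <;> simp at h1
  obtain ⟨g, hg⟩ := IsCyclic.exists_ofOrder_eq_natCard (α := Kˣ)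
  have hcard : Nat.card Kˣ = (q - 1) * (q + 1) := by
    rw [Nat.card_eq_fintype_card, Fintype.card_units, hK]
    obtain ⟨k, rfl⟩ : ∃ k, q = k + 2 := ⟨q - 2, by omega⟩
    have : (k + 2) ^ 2 - 1 = (k + 2 - 1) * (k + 2 + 1) := by
      have h3 : (k + 2) ^ 2 = (k + 1) * (k + 3) + 1 := by ring
      rw [h3]
      simp
    exact this
  have hog : orderOf g = (q - 1) * (q + 1) := hg.trans hcard
  have hq1 : q - 1 ≠ 0 := by omega
  have hoc : orderOf (g ^ (q - 1)) = q + 1 := by
    rw [orderOf_pow' g hq1, hog, Nat.gcd_mul_right_left, Nat.mul_div_cancel_left _ (by omega)]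
  refine ⟨((g ^ (q - 1) : Kˣ) : K), ?_, ?_⟩
  · unfold IsU
    rw [D.pow, ← pow_succ', ← Units.val_pow_eq_pow_val, ← pow_mul]
    have : g ^ ((q - 1) * (q + 1)) = 1 := by rw [← hog]; exact pow_orderOf_eq_one g
    rw [this, Units.val_one]
  · intro m hm
    rw [← hoc]
    apply orderOf_dvd_of_pow_eq_one
    apply Units.ext
    rw [Units.val_pow_eq_pow_val, hm, Units.val_one]

end Cfsg.Agent.S5655K1
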