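import Mathlib
import Cfsg.Agent.Lead.CoprimeAbelian

/-! Board `s3822pieces`, row MC1 (helper4), part 1: coprime action on an abelian section `W₀ / Φ` with
`W₀ = [W₀, R]` has no fixed points (trace argument modulo `Φ`). -/

set_option autoImplicit false

namespace Cfsg.Agent.S3822P

open Subgroup Cfsg.Agent.Lead
open scoped commutatorElement

variable {G : Type*} [Group G]

theorem MC1_aux_trace [Finite G] (R W₀ Φ : Subgroup G) (hRW : R ≤ normalizer (W₀ : Set G))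
    (hΦW : Φ ≤ W₀) (hΦn : W₀ ≤ normalizer (Φ : Set G)) (hRΦ : R ≤ normalizer (Φ : Set G))
    (hab : ∀ w ∈ W₀, ∀ w' ∈ W₀, w * w' * w⁻¹ * w'⁻¹ ∈ Φ) (hgen : W₀ ≤ ⁅W₀, R⁆)
    (hcop : (Nat.card R).Coprime (Nat.card W₀)) :
    ∀ w ∈ W₀, (∀ y ∈ R, y * w * y⁻¹ * w⁻¹ ∈ Φ) → w ∈ Φ := by
  classical
  have hNn : (Φ.subgroupOf W₀).Normal := normal_subgroupOf_of_le_normalizer hΦn
  set N : Subgroup W₀ := Φ.subgroupOf W₀ with hN
  have hmemN : ∀ v : W₀, v ∈ N ↔ (v : G) ∈ Φ := fun v => mem_subgroupOf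
  have hQcomm : ∀ a b : W₀ ⧸ N, a * b = b * a := by
    intro a b
    induction a using QuotientGroup.induction_on with
    | H a =>
    induction b using QuotientGroup.induction_on with
    | H b =>
    rw [← QuotientGroup.mk_mul, ← QuotientGroup.mk_mul, QuotientGroup.eq, hmemN]
    have := hab (b : G)⁻¹ (W₀.inv_mem b.2) (a : G)⁻¹ (W₀.inv_mem a.2)
    have e : (((a * b)⁻¹ * (b * a) : W₀) : G) = (b : G)⁻¹ * (a : G)⁻¹ * (b : G)⁻¹⁻¹ * (a : G)⁻¹⁻¹ := by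
      push_cast
      group
    rw [e]; exact this
  letI : CommGroup (W₀ ⧸ N) := { (inferInstance : Group (W₀ ⧸ N)) with mul_comm := hQcomm }
  haveI := Fintype.ofFinite R
  -- the trace map modulo `Φ`
  let T : W₀ →* W₀ ⧸ N := ∏ a : R, (QuotientGroup.mk' N).comp (conjEnd W₀ (Subgroup.inclusion hRW a))
  have hTapp : ∀ v : W₀, T v = ∏ a : R, ((conjEnd W₀ (Subgroup.inclusion hRW a) v : W₀) : W₀ ⧸ N) := by
    intro v
    show (∏ a : R, (QuotientGroup.mk' N).comp (conjEnd W₀ (Subgroup.inclusion hRW a))) v = _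
    rw [MonoidHom.finsetProd_apply]
    rfl
  have hTconj : ∀ (b : R) (v : W₀), T (conjEnd W₀ (Subgroup.inclusion hRW b) v) = T v := by
    intro b v
    rw [hTapp, hTapp]
    refine Fintype.prod_equiv (Equiv.mulRight b) _ _ (fun a => ?_)
    simp only [Equiv.coe_mulRight]
    rw [map_mul, conjEnd_mul]
  -- `T` kills the commutators
  have hker : ⁅W₀, R⁆ ≤ T.ker.map W₀.subtype := by
    rw [commutator_le]
    intro v hv a ha
    refine ⟨⟨v, hv⟩ * (conjEnd W₀ (Subgroup.inclusion hRW ⟨a, ha⟩) ⟨v, hv⟩)⁻¹, ?_, ?_⟩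
    · rw [SetLike.mem_coe, MonoidHom.mem_ker, map_mul, map_inv, hTconj, mul_inv_cancel]
    · simp only [Subgroup.coe_subtype, Subgroup.coe_mul, Subgroup.coe_inv, conjEnd_apply,
        commutatorElement_def]
      change v * (a * v * a⁻¹)⁻¹ = v * a * v⁻¹ * a⁻¹
      group
  have hT1 : ∀ v : W₀, T v = 1 := by
    intro v
    obtain ⟨v', hv', hvv'⟩ := hker (hgen v.2)
    have : v' = v := Subtype.ext hvv'
    rw [← this]
    exact hv'
  intro w hw hfix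
  -- `T w = w ^ |R|` modulo `Φ`
  have hTw : T ⟨w, hw⟩ = ((⟨w, hw⟩ : W₀) : W₀ ⧸ N) ^ Nat.card R := by
    rw [hTapp]
    have : ∀ a : R, ((conjEnd W₀ (Subgroup.inclusion hRW a) ⟨w, hw⟩ : W₀) : W₀ ⧸ N) = ((⟨w, hw⟩ : W₀) : W₀ ⧸ N) := by
      intro a
      rw [QuotientGroup.eq, hmemN]
      have h1 := hfix a a.2
      have h2 := Φ.inv_mem h1
      have e : (((conjEnd W₀ (Subgroup.inclusion hRW a) ⟨w, hw⟩)⁻¹ * ⟨w, hw⟩ : W₀) : G) =
          ((a : G) * w * (a : G)⁻¹)⁻¹ * w := by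
        push_cast
        rfl
      rw [e]
      -- `(a w a⁻¹)⁻¹ w` is conjugate to `([a,w])⁻¹` under `w⁻¹ ∈ W₀ ≤ N(Φ)`
      have hn := (mem_normalizer_iff.mp (hΦn (W₀.inv_mem hw)) ((a : G) * w * (a : G)⁻¹ * w⁻¹)⁻¹).mp h2
      have e2 : w⁻¹ * ((a : G) * w * (a : G)⁻¹ * w⁻¹)⁻¹ * w⁻¹⁻¹ = ((a : G) * w * (a : G)⁻¹)⁻¹ * w := by group
      rw [e2] at hn
      exact hn
    simp only [this, Finset.prod_const, Finset.card_univ, Nat.card_eq_fintype_card]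
  rw [hT1] at hTw
  have h1 : orderOf ((⟨w, hw⟩ : W₀) : W₀ ⧸ N) ∣ Nat.card R := orderOf_dvd_of_pow_eq_one hTw.symm
  have h2 : orderOf ((⟨w, hw⟩ : W₀) : W₀ ⧸ N) ∣ Nat.card W₀ := by
    have h3 : orderOf ((⟨w, hw⟩ : W₀) : W₀ ⧸ N) ∣ orderOf (⟨w, hw⟩ : W₀) :=
      orderOf_dvd_of_pow_eq_one (by rw [← QuotientGroup.mk_pow, pow_orderOf_eq_one]; rfl)
    exact h3.trans (orderOf_dvd_natCard _)
  have h5 : orderOf ((⟨w, hw⟩ : W₀) : W₀ ⧸ N) = 1 := Nat.eq_one_of_dvd_coprimes hcop h1 h2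
  have h6 := orderOf_eq_one_iff.mp h5
  rw [QuotientGroup.eq_one_iff, hmemN] at h6
  exact h6

end Cfsg.Agent.S3822P
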