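import Mathlib
import Cfsg.Agent.Helper26.S3818Defs
import Cfsg.Prelude.Def_Solvable
import Cfsg.Agent.Lead.CoprimeFrattini
import Cfsg.Agent.Helper1.PGroup
import Cfsg.Agent.Helper4.S3822MC1a

/-! Board `s3822pieces`, row MC1 (helper4): a minimal `A`-invariant `W₀ ≤ W` not centralised by `R`. -/

set_option autoImplicit false

namespace Cfsg.Agent.S3822P

open Module Cfsg.Agent.S3818P
open scoped commutatorElement

universe u v w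

theorem MC1_aux_le_normalizer {G : Type*} [Group G] {A W : Subgroup G}
    (h : ∀ a ∈ A, ∀ w ∈ W, a * w * a⁻¹ ∈ W) : A ≤ Subgroup.normalizer (W : Set G) := by
  intro a ha
  rw [Subgroup.mem_normalizer_iff]
  intro x
  constructor
  · exact h a ha x
  · intro hx
    have := h a⁻¹ (A.inv_mem ha) _ hx
    have e : a⁻¹ * (a * x * a⁻¹) * a⁻¹⁻¹ = x := by group
    rwa [e] at this

/-- MC1: a minimal `A`-invariant `W₀ ≤ W` not centralised by `R`, and `Φ = Φ(W₀)`. -/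
theorem MC1_minimal {G : Type*} [Group G] [Finite G] (A W R : Subgroup G) (q r : ℕ) (hq : q.Prime)
    (hr : r.Prime) (hqr : q ≠ r) (hW : IsPGroup q W) (hR : IsPGroup r R) (hRA : R ≤ A)
    (hRn : ∀ a ∈ A, ∀ y ∈ R, a * y * a⁻¹ ∈ R) (hWn : ∀ a ∈ A, ∀ w ∈ W, a * w * a⁻¹ ∈ W)
    (hnc : ∃ y ∈ R, ∃ w ∈ W, y * w ≠ w * y) :
    ∃ W₀ Φ : Subgroup G, Φ ≤ W₀ ∧ W₀ ≤ W ∧ Φ ≠ W₀ ∧
      (∀ a ∈ A, ∀ w ∈ W₀, a * w * a⁻¹ ∈ W₀) ∧ (∀ a ∈ A, ∀ w ∈ Φ, a * w * a⁻¹ ∈ Φ) ∧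
      (∀ w ∈ W₀, ∀ w' ∈ W₀, w * w' * w⁻¹ * w'⁻¹ ∈ Φ) ∧ (∀ w ∈ W₀, w ^ q ∈ Φ) ∧
      (∀ H : Subgroup G, H ≤ W₀ → H ⊔ Φ = W₀ → H = W₀) ∧
      (∀ U : Subgroup G, Φ ≤ U → U ≤ W₀ → (∀ a ∈ A, ∀ w ∈ U, a * w * a⁻¹ ∈ U) →
        U = Φ ∨ U = W₀) ∧
      (∀ w ∈ W₀, (∀ y ∈ R, y * w * y⁻¹ * w⁻¹ ∈ Φ) → w ∈ Φ) := by
  classical
  haveI : Fact q.Prime := ⟨hq⟩
  haveI : Fact r.Prime := ⟨hr⟩
  -- the minimal counterexample
  obtain ⟨W₀, -, ⟨hW₀W, hW₀n, hW₀nc⟩, hmin⟩ :=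
    Finite.exists_le_minimal
      (p := fun W₁ : Subgroup G => W₁ ≤ W ∧ (∀ a ∈ A, ∀ w ∈ W₁, a * w * a⁻¹ ∈ W₁) ∧
        ∃ y ∈ R, ∃ w ∈ W₁, y * w ≠ w * y) (a := W) ⟨le_rfl, hWn, hnc⟩
  have hAW₀ : A ≤ Subgroup.normalizer (W₀ : Set G) := MC1_aux_le_normalizer hW₀n
  have hRW₀ : R ≤ Subgroup.normalizer (W₀ : Set G) := hRA.trans hAW₀
  have hW₀q : IsPGroup q W₀ := hW.to_le hW₀W
  -- coprimality
  have hcop : (Nat.card R).Coprime (Nat.card W₀) := by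
    obtain ⟨a, ha⟩ := IsPGroup.iff_card.1 hR
    obtain ⟨b, hb⟩ := IsPGroup.iff_card.1 hW₀q
    rw [ha, hb]
    exact Nat.Coprime.pow _ _ ((Nat.coprime_primes hr hq).2 (Ne.symm hqr))
  have hsolv : Group.IsSolvable R ∨ Group.IsSolvable W₀ := by
    left
    haveI : Group.IsNilpotent R := hR.isNilpotent
    infer_instance
  -- `W₀ = [W₀, R]`
  have hKle : ⁅W₀, R⁆ ≤ W₀ := Cfsg.Agent.Lead.commutator_le_of_le_normalizer hRW₀
  have hKn : ∀ a ∈ A, ∀ x ∈ ⁅W₀, R⁆, a * x * a⁻¹ ∈ ⁅W₀, R⁆ := by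
    intro a ha
    have : ⁅W₀, R⁆ ≤ (⁅W₀, R⁆).comap (MulAut.conj a).toMonoidHom := by
      rw [Subgroup.commutator_le]
      intro w hw y hy
      rw [Subgroup.mem_comap]
      change a * ⁅w, y⁆ * a⁻¹ ∈ ⁅W₀, R⁆
      have e : a * ⁅w, y⁆ * a⁻¹ = ⁅a * w * a⁻¹, a * y * a⁻¹⁆ := by
        simp only [commutatorElement_def]; group
      rw [e]
      exact Subgroup.commutator_mem_commutator (hW₀n a ha w hw) (hRn a ha y hy)
    intro x hx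
    exact this hx
  have hKK : ⁅⁅W₀, R⁆, R⁆ = ⁅W₀, R⁆ :=
    Cfsg.Agent.Lead.coprime_commutator_commutator R W₀ hRW₀ hcop hsolv
  have hKnc : ∃ y ∈ R, ∃ w ∈ ⁅W₀, R⁆, y * w ≠ w * y := by
    by_contra hcon
    push Not at hcon
    have h1 : ⁅W₀, R⁆ ≤ Subgroup.centralizer (R : Set G) := by
      intro w hw
      rw [Subgroup.mem_centralizer_iff]
      intro y hy
      exact hcon y hy w hw
    have h2 : ⁅⁅W₀, R⁆, R⁆ = ⊥ := Subgroup.commutator_eq_bot_iff_le_centralizer.2 h1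
    rw [hKK] at h2
    have h3 : W₀ ≤ Subgroup.centralizer (R : Set G) := Subgroup.commutator_eq_bot_iff_le_centralizer.1 h2
    obtain ⟨y, hy, w, hw, hyw⟩ := hW₀nc
    exact hyw ((Subgroup.mem_centralizer_iff.1 (h3 hw)) y hy)
  have hgen : W₀ ≤ ⁅W₀, R⁆ := hmin ⟨hKle.trans hW₀W, hKn, hKnc⟩ hKle
  -- the Frattini subgroup
  set Φ : Subgroup G := (frattini W₀).map W₀.subtype with hΦ
  have hΦW : Φ ≤ W₀ := Subgroup.map_subtype_le _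
  have hnormΦ : Subgroup.normalizer (W₀ : Set G) ≤ Subgroup.normalizer (Φ : Set G) :=
    Cfsg.Agent.Lead.normalizer_le_normalizer_map_of_characteristic W₀ (frattini W₀)
  have hΦinv : ∀ a ∈ A, ∀ w ∈ Φ, a * w * a⁻¹ ∈ Φ := by
    intro a ha w hw
    exact (Subgroup.mem_normalizer_iff.1 (hnormΦ (hAW₀ ha)) w).1 hw
  have hab : ∀ w ∈ W₀, ∀ w' ∈ W₀, w * w' * w⁻¹ * w'⁻¹ ∈ Φ := by
    intro w hw w' hw'
    have h1 : ⁅(⟨w, hw⟩ : W₀), ⟨w', hw'⟩⁆ ∈ commutator W₀ :=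
      Subgroup.commutator_mem_commutator (Subgroup.mem_top _) (Subgroup.mem_top _)
    have h2 := Cfsg.Agent.Helper1.IsPGroup.commutator_le_frattini hW₀q h1
    exact ⟨_, h2, rfl⟩
  have hpow : ∀ w ∈ W₀, w ^ q ∈ Φ := by
    intro w hw
    have h2 := Cfsg.Agent.Helper1.IsPGroup.pow_mem_frattini hW₀q (⟨w, hw⟩ : W₀)
    exact ⟨_, h2, rfl⟩
  have hfrat : ∀ H : Subgroup G, H ≤ W₀ → H ⊔ Φ = W₀ → H = W₀ := by
    intro H hH hsup
    have h1 : (H.subgroupOf W₀ ⊔ frattini W₀).map W₀.subtype = (⊤ : Subgroup W₀).map W₀.subtype := by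
      rw [Subgroup.map_sup, Subgroup.subgroupOf_map_subtype, inf_eq_left.2 hH, ← hΦ, hsup,
        ← MonoidHom.range_eq_map, Subgroup.range_subtype]
    have h2 := Subgroup.map_injective W₀.subtype_injective h1
    have h3 := frattini_nongenerating h2
    have h4 : (H.subgroupOf W₀).map W₀.subtype = (⊤ : Subgroup W₀).map W₀.subtype := by rw [h3]
    rw [Subgroup.subgroupOf_map_subtype, inf_eq_left.2 hH, ← MonoidHom.range_eq_map,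
      Subgroup.range_subtype] at h4
    exact h4
  have hne : Φ ≠ W₀ := by
    intro h
    have h1 := hfrat ⊥ bot_le (by rw [bot_sup_eq, h])
    obtain ⟨y, hy, w, hw, hyw⟩ := hW₀nc
    rw [← h1, Subgroup.mem_bot] at hw
    apply hyw
    rw [hw, mul_one, one_mul]
  -- no fixed points on `W₀ / Φ`
  have hfix : ∀ w ∈ W₀, (∀ y ∈ R, y * w * y⁻¹ * w⁻¹ ∈ Φ) → w ∈ Φ :=
    MC1_aux_trace R W₀ Φ hRW₀ hΦW (Subgroup.le_normalizer.trans hnormΦ) (hRW₀.trans hnormΦ) hab hgen hcop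
  refine ⟨W₀, Φ, hΦW, hW₀W, hne, hW₀n, hΦinv, hab, hpow, hfrat, ?_, hfix⟩
  intro U hΦU hUW hUn
  by_cases hU : U = W₀
  · right; exact hU
  · left
    apply le_antisymm _ hΦU
    intro w hw
    apply hfix w (hUW hw)
    intro y hy
    have hcomm : y * w = w * y := by
      by_contra hcon
      exact hU (le_antisymm hUW (hmin ⟨hUW.trans hW₀W, hUn, ⟨y, hy, w, hw, hcon⟩⟩ hUW))
    rw [hcomm, mul_inv_cancel_right, mul_inv_cancel]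
    exact Φ.one_mem

end Cfsg.Agent.S3822P
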