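import Mathlib
import Cfsg.Prelude.Def_Sporadic_a

/-!
# A doubly even binary code of length 24 and dimension 12 without words of weight 4:
its words of weight 8 form a Steiner system `S(5,8,24)` (sphere packing)
-/

set_option autoImplicit false
set_option linter.unusedSectionVars false
set_option linter.unusedVariables false

namespace Cfsg.Agent.Helper4.GolayUnique

open Finset Cfsg

/-- Binary words of length 24. -/
abbrev V := Fin 24 → ZMod 2

/-- The indicator word of a set of coordinates. -/
def ind (T : Finset (Fin 24)) : V := fun i => if i ∈ T then 1 else 0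

/-- The support of a word. -/
def supp (w : V) : Finset (Fin 24) := univ.filter (fun i => w i ≠ 0)

theorem mem_supp {w : V} {i : Fin 24} : i ∈ supp w ↔ w i ≠ 0 := by simp [supp]

theorem card_supp (w : V) : (supp w).card = hammingNorm w := rfl

theorem zmod2_cases (a : ZMod 2) : a = 0 ∨ a = 1 := by
  fin_cases a
  · exact Or.inl rfl
  · exact Or.inr rfl

theorem supp_ind (T : Finset (Fin 24)) : supp (ind T) = T := by
  ext i
  rw [mem_supp, ind]
  by_cases h : i ∈ T <;> simp [h]

theorem ind_supp (w : V) : ind (supp w) = w := by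
  funext i
  rw [ind]
  by_cases h : i ∈ supp w
  · rw [if_pos h]
    rw [mem_supp] at h
    rcases zmod2_cases (w i) with h0 | h1
    · exact absurd h0 h
    · exact h1.symm
  · rw [if_neg h]
    rw [mem_supp, not_not] at h
    exact h.symm

theorem ind_injective : Function.Injective ind := fun T T' h => by
  rw [← supp_ind T, h, supp_ind]

theorem hammingNorm_ind (T : Finset (Fin 24)) : hammingNorm (ind T) = T.card := by
  rw [← card_supp, supp_ind]

theorem supp_sub_ind (A E : Finset (Fin 24)) : supp (ind A - ind E) = symmDiff A E := by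
  ext i
  rw [mem_supp, Finset.mem_symmDiff, Pi.sub_apply, ind, ind]
  by_cases hA : i ∈ A <;> by_cases hE : i ∈ E <;> simp [hA, hE]

theorem card_symmDiff_add (b c : Finset (Fin 24)) :
    (symmDiff b c).card + 2 * (b ∩ c).card = b.card + c.card := by
  have h1 : symmDiff b c = (b \ c) ∪ (c \ b) := rfl
  have h2 : Disjoint (b \ c) (c \ b) := by
    rw [Finset.disjoint_left]
    intro x hx hx'
    exact (mem_sdiff.mp hx).2 (mem_sdiff.mp hx').1
  rw [h1, card_union_of_disjoint h2]
  have h3 := card_sdiff_add_card_inter b c
  have h4 := card_sdiff_add_card_inter c b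
  rw [inter_comm c b] at h4
  omega

theorem hammingNorm_le_of_supp_subset {w : V} {S : Finset (Fin 24)} (h : supp w ⊆ S) :
    hammingNorm w ≤ S.card := by
  rw [← card_supp]
  exact card_le_card h

/-- The sets of at most three coordinates avoiding `p`. -/
def ball (p : Fin 24) : Finset (Finset (Fin 24)) :=
  (univ.erase p).powerset.filter (fun T => T.card ≤ 3)

theorem mem_ball {p : Fin 24} {T : Finset (Fin 24)} : T ∈ ball p ↔ p ∉ T ∧ T.card ≤ 3 := by
  unfold ball
  rw [mem_filter, mem_powerset]
  constructor
  · rintro ⟨h1, h2⟩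
    exact ⟨fun hp => by simpa using h1 hp, h2⟩
  · rintro ⟨h1, h2⟩
    refine ⟨fun x hx => ?_, h2⟩
    rw [mem_erase]
    exact ⟨fun h => h1 (h ▸ hx), mem_univ _⟩

theorem card_ball (p : Fin 24) : (ball p).card = 2048 := by
  have h1 : ball p = (range 4).biUnion (fun k => powersetCard k (univ.erase p)) := by
    ext T
    unfold ball
    rw [mem_filter, mem_powerset, mem_biUnion]
    constructor
    · rintro ⟨h1, h2⟩
      exact ⟨T.card, mem_range.mpr (by omega), mem_powersetCard.mpr ⟨h1, rfl⟩⟩
    · rintro ⟨k, hk, hT⟩
      rw [mem_powersetCard] at hT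
      rw [mem_range] at hk
      exact ⟨hT.1, by omega⟩
  rw [h1, card_biUnion]
  · have hc : (univ.erase p : Finset (Fin 24)).card = 23 := by
      rw [card_erase_of_mem (mem_univ _), card_univ, Fintype.card_fin]
    simp only [card_powersetCard, hc]
    decide
  · intro k _ k' _ hkk
    show Disjoint _ _
    rw [Finset.disjoint_left]
    intro T hT hT'
    rw [mem_powersetCard] at hT hT'
    exact hkk (hT.2.symm.trans hT'.2)

section Code

variable (C : Submodule (ZMod 2) V) (hdim : Module.finrank (ZMod 2) C = 12)
  (h4 : ∀ w ∈ C, 4 ∣ hammingNorm w) (hno4 : ∀ w ∈ C, hammingNorm w ≠ 4)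

include h4 hno4 in
theorem min_weight {w : V} (hw : w ∈ C) (h0 : w ≠ 0) : 8 ≤ hammingNorm w := by
  obtain ⟨k, hk⟩ := h4 w hw
  have h1 := hno4 w hw
  have h2 : hammingNorm w ≠ 0 := hammingNorm_ne_zero_iff.mpr h0
  omega

/-- The error set attached to a member of the ball and a bit. -/
def err (p : Fin 24) (T : Finset (Fin 24)) (t : Bool) : Finset (Fin 24) :=
  if t then insert p T else T

theorem err_subset (p : Fin 24) (T : Finset (Fin 24)) (t : Bool) : err p T t ⊆ insert p T := by
  unfold err
  cases t
  · exact subset_insert _ _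
  · exact subset_rfl

theorem mem_err {p : Fin 24} {T : Finset (Fin 24)} (hp : p ∉ T) (t : Bool) :
    p ∈ err p T t ↔ t = true := by
  unfold err
  cases t <;> simp [hp]

theorem erase_err {p : Fin 24} {T : Finset (Fin 24)} (hp : p ∉ T) (t : Bool) :
    (err p T t).erase p = T := by
  unfold err
  cases t
  · simp [hp]
  · simp [hp]

theorem card_err_le {p : Fin 24} {T : Finset (Fin 24)} (hp : p ∉ T) (t : Bool) :
    (err p T t).card = T.card + (if t then 1 else 0) := by
  unfold err
  cases t
  · simp
  · simp [hp]

include hdim in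
theorem card_code : Nat.card C = 4096 := by
  rw [Module.natCard_eq_pow_finrank (K := ZMod 2) (V := C), hdim, Nat.card_zmod]
  norm_num

include hdim h4 hno4 in
/-- Sphere packing: every word is a code word plus an error from the ball. -/
theorem covering (p : Fin 24) (v : V) :
    ∃ c ∈ C, ∃ T ∈ ball p, ∃ t : Bool, v = c + ind (err p T t) := by
  classical
  let Φ : C × {T // T ∈ ball p} × Bool → V := fun x => (x.1 : V) + ind (err p x.2.1.1 x.2.2)
  have hinj : Function.Injective Φ := by
    rintro ⟨c, ⟨T, hT⟩, t⟩ ⟨c', ⟨T', hT'⟩, t'⟩ h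
    simp only [Φ] at h
    rw [mem_ball] at hT hT'
    have h1 : (c : V) - (c' : V) = ind (err p T' t') - ind (err p T t) := by
      rw [sub_eq_sub_iff_add_eq_add, h, add_comm]
    have h2 : supp (ind (err p T' t') - ind (err p T t)) ⊆ insert p (T' ∪ T) := by
      rw [supp_sub_ind]
      intro i hi
      rw [Finset.mem_symmDiff] at hi
      rcases hi with ⟨hi, -⟩ | ⟨hi, -⟩
      · have := err_subset p T' t' hi
        rw [mem_insert] at this ⊢
        rcases this with h | h
        · exact Or.inl h
        · exact Or.inr (mem_union_left _ h)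
      · have := err_subset p T t hi
        rw [mem_insert] at this ⊢
        rcases this with h | h
        · exact Or.inl h
        · exact Or.inr (mem_union_right _ h)
    have h3 : hammingNorm ((c : V) - (c' : V)) ≤ 7 := by
      rw [h1]
      refine (hammingNorm_le_of_supp_subset h2).trans ?_
      refine (card_insert_le _ _).trans ?_
      have := card_union_le T' T
      omega
    have h5 : (c : V) - (c' : V) = 0 := by
      by_contra hne
      have := min_weight C h4 hno4 (C.sub_mem c.2 c'.2) hne
      omega
    have hcc : c = c' := Subtype.ext (sub_eq_zero.mp h5)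
    rw [h5] at h1
    have hE : err p T t = err p T' t' := ind_injective (sub_eq_zero.mp h1.symm).symm
    have htt : t = t' := by
      have e1 := mem_err hT.1 t
      have e2 := mem_err hT'.1 t'
      rw [hE] at e1
      exact Bool.eq_iff_iff.mpr (e1.symm.trans e2)
    have hTT : T = T' := by
      rw [← erase_err hT.1 t, hE, erase_err hT'.1 t']
    subst hcc
    subst htt
    subst hTT
    rfl
  have hcard : Fintype.card (C × {T // T ∈ ball p} × Bool) = Fintype.card V := by
    rw [Fintype.card_prod, Fintype.card_prod, ← Nat.card_eq_fintype_card (α := C),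
      card_code C hdim, Fintype.card_coe, card_ball,
      Fintype.card_bool, Fintype.card_fun, ZMod.card, Fintype.card_fin]
    norm_num
  have hbij := (Fintype.bijective_iff_injective_and_card Φ).mpr ⟨hinj, hcard⟩
  obtain ⟨⟨c, ⟨T, hT⟩, t⟩, hx⟩ := hbij.2 v
  exact ⟨c, c.2, T, hT, t, hx.symm⟩

/-- The octads of the code. -/
def octs : Set (Finset (Fin 24)) := {b | ind b ∈ C ∧ b.card = 8}

include hdim h4 hno4 in
theorem octs_steiner : IsSteinerSystem 5 8 (octs C) := by
  refine ⟨fun b hb => hb.2, fun S hS => ?_⟩
  obtain ⟨p, hp⟩ := card_pos.mp (by rw [hS]; norm_num : 0 < S.card)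
  set A := S.erase p with hA
  have hAc : A.card = 4 := by rw [hA, card_erase_of_mem hp, hS]
  have hpA : p ∉ A := by rw [hA]; exact notMem_erase p S
  obtain ⟨c, hc, T, hT, t, hv⟩ := covering C hdim h4 hno4 p (ind A)
  rw [mem_ball] at hT
  set E := err p T t with hE
  have hcE : c = ind A - ind E := by
    rw [hv]; simp
  have hsupp : supp c = symmDiff A E := by rw [hcE, supp_sub_ind]
  have hEc := card_err_le hT.1 t
  rw [← hE] at hEc
  have hcard := card_symmDiff_add A E
  have hne : c ≠ 0 := by
    intro h0
    have : symmDiff A E = ∅ := by rw [← hsupp, h0]; simp [supp]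
    have hAE : A = E := by
      rw [← symmDiff_eq_bot]; exact this
    rw [← hAE, hAc] at hEc
    cases t
    · simp at hEc; omega
    · have := (mem_err hT.1 true).mpr rfl
      rw [← hE, ← hAE] at this
      exact hpA this
  have hw := min_weight C h4 hno4 hc hne
  rw [← card_supp, hsupp] at hw
  have htt : t = true := by
    cases t
    · simp at hEc; omega
    · rfl
  rw [htt] at hEc
  simp only [if_true] at hEc
  have hint : (A ∩ E).card = 0 := by omega
  have hT3 : T.card = 3 := by omega
  have hdisj : A ∩ E = ∅ := card_eq_zero.mp hint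
  have hpE : p ∈ E := by rw [hE, mem_err hT.1]; exact htt
  have hsd : symmDiff A E = A ∪ E := by
    ext i
    rw [Finset.mem_symmDiff, mem_union]
    constructor
    · rintro (⟨h, -⟩ | ⟨h, -⟩)
      · exact Or.inl h
      · exact Or.inr h
    · rintro (h | h)
      · refine Or.inl ⟨h, fun h' => ?_⟩
        have : i ∈ A ∩ E := mem_inter.mpr ⟨h, h'⟩
        rw [hdisj] at this
        exact absurd this (notMem_empty _)
      · refine Or.inr ⟨h, fun h' => ?_⟩
        have : i ∈ A ∩ E := mem_inter.mpr ⟨h', h⟩
        rw [hdisj] at this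
        exact absurd this (notMem_empty _)
  have hb8 : (supp c).card = 8 := by
    rw [hsupp]; omega
  have hSb : S ⊆ supp c := by
    rw [hsupp, hsd]
    intro i hi
    by_cases hip : i = p
    · rw [hip]; exact mem_union_right _ hpE
    · exact mem_union_left _ (mem_erase.mpr ⟨hip, hi⟩)
  refine ⟨supp c, ⟨⟨by rw [ind_supp]; exact hc, hb8⟩, hSb⟩, ?_⟩
  rintro b' ⟨⟨hb'C, hb'8⟩, hSb'⟩
  have hd : ind b' - ind (supp c) ∈ C := C.sub_mem hb'C (by rw [ind_supp]; exact hc)
  by_contra hne'
  have hne0 : ind b' - ind (supp c) ≠ 0 := by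
    intro h
    exact hne' (ind_injective (sub_eq_zero.mp h))
  have h8 := min_weight C h4 hno4 hd hne0
  rw [← card_supp, supp_sub_ind] at h8
  have hc2 := card_symmDiff_add b' (supp c)
  have hS5 : S.card ≤ (b' ∩ supp c).card := card_le_card (subset_inter hSb' hSb)
  omega

end Code

end Cfsg.Agent.Helper4.GolayUnique
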