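import Mathlib
import Cfsg.Agent.Helper4.M11Simple

set_option autoImplicit false
set_option linter.style.haveILetI false
set_option linter.unusedSectionVars false
set_option linter.unusedVariables false

/-!
# Sharply 5-transitive groups of degree 12 are simple of order 95040
-/

namespace Cfsg.Agent.Helper4.M12Simple

open MulAction

variable {G α : Type*} [Group G] [MulAction G α] [FaithfulSMul G α] [Fintype α]

theorem normal_eq_top (hα : Fintype.card α = 12) (h5 : IsMultiplyPretransitive G α 5)
    (hsharp : ∀ x : Fin 5 ↪ α, stabilizer G x = ⊥) (N : Subgroup G) [hN : N.Normal]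
    (hbot : N ≠ ⊥) : N = ⊤ := by
  classical
  haveI : Finite G := Cfsg.Agent.Helper4.M11Simple.finite_of_faithful (α := α)
  have hcardα : Nat.card α = 12 := by rw [Nat.card_eq_fintype_card, hα]
  have h2 : IsMultiplyPretransitive G α 2 :=
    isMultiplyPretransitive_of_le (n := 5) (by norm_num) (by rw [hcardα]; norm_num)
  have h1 : IsMultiplyPretransitive G α 1 :=
    isMultiplyPretransitive_of_le (n := 5) (by norm_num) (by rw [hcardα]; norm_num)
  haveI hGt : IsPretransitive G α := is_one_pretransitive_iff.mp h1
  have hprim : IsPreprimitive G α := isPreprimitive_of_is_two_pretransitive h2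
  have hNt : IsPretransitive N α :=
    Cfsg.Agent.Helper4.JordanNormal.normal_isPretransitive hprim N hbot
  -- the dichotomy at each point
  have hdich : ∀ a : α, N.subgroupOf (stabilizer G a) = ⊥ ∨ N = ⊤ := by
    intro a
    by_cases hb : N.subgroupOf (stabilizer G a) = ⊥
    · exact Or.inl hb
    right
    have h4' : IsMultiplyPretransitive (stabilizer G a) (SubMulAction.ofStabilizer G a) 4 :=
      SubMulAction.ofStabilizer.isMultiplyPretransitive.mp h5
    have hsharp' := Cfsg.Agent.Helper4.SharpStab.sharp_ofStabilizer (n := 4) hsharp a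
    letI : Fintype (SubMulAction.ofStabilizer G a) := Fintype.ofFinite _
    have hcard' : Fintype.card (SubMulAction.ofStabilizer G a) = 11 := by
      rw [← Nat.card_eq_fintype_card, SubMulAction.nat_card_ofStabilizer_eq, hcardα]
    haveI : (N.subgroupOf (stabilizer G a)).Normal := Subgroup.Normal.subgroupOf hN _
    have htop := Cfsg.Agent.Helper4.M11Simple.normal_eq_top hcard' h4' hsharp'
      (N.subgroupOf (stabilizer G a)) hb
    have hle : stabilizer G a ≤ N := by
      intro g hg
      have : (⟨g, hg⟩ : stabilizer G a) ∈ N.subgroupOf (stabilizer G a) := by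
        rw [htop]; trivial
      exact Subgroup.mem_subgroupOf.mp this
    rw [eq_top_iff]
    intro g _
    obtain ⟨n, hn⟩ := hNt.exists_smul_eq a (g • a)
    have hn' : (n : G) • a = g • a := hn
    have hmem : (n : G)⁻¹ * g ∈ stabilizer G a := by
      rw [mem_stabilizer_iff, mul_smul, ← hn', inv_smul_smul]
    have := N.mul_mem n.2 (hle hmem)
    rwa [mul_inv_cancel_left] at this
  by_contra htop
  have hreg : ∀ x : α, stabilizer N x = ⊥ := by
    intro x
    rcases hdich x with h | h
    · rw [Subgroup.eq_bot_iff_forall]
      intro n hn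
      have hnx : (n : G) • x = x := hn
      have hmem : (⟨(n : G), hnx⟩ : stabilizer G x) ∈ N.subgroupOf (stabilizer G x) :=
        Subgroup.mem_subgroupOf.mpr n.2
      rw [h, Subgroup.mem_bot] at hmem
      have h1 : (n : G) = 1 := congrArg (fun z : stabilizer G x => (z : G)) hmem
      exact Subtype.ext h1
    · exact absurd h htop
  obtain ⟨p, hp, _, _, _, k, hk⟩ :=
    Cfsg.Agent.Helper4.regular_normal_elementary_abelian N (by rw [hcardα]; norm_num) h2 hNt hreg
  rw [hcardα] at hk
  have hpd : p ∣ 12 := by
    have hk0 : k ≠ 0 := by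
      rintro rfl
      norm_num at hk
    rw [hk]
    exact dvd_pow_self p hk0
  have hp12 : p ≤ 12 := Nat.le_of_dvd (by norm_num) hpd
  have hk4 : k < 4 := by
    by_contra hcon
    push Not at hcon
    have : 2 ^ 4 ≤ p ^ k := (Nat.pow_le_pow_left hp.two_le 4).trans (Nat.pow_le_pow_right hp.pos hcon)
    omega
  interval_cases p <;> interval_cases k <;> first | omega | (exfalso; revert hp; decide)

/-- A sharply 5-transitive group of degree 12 is simple of order 95040. -/
theorem simple_sharp5_twelve (hα : Fintype.card α = 12) (h5 : IsMultiplyPretransitive G α 5)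
    (hsharp : ∀ x : Fin 5 ↪ α, stabilizer G x = ⊥) : IsSimpleGroup G ∧ Nat.card G = 95040 := by
  haveI : Finite G := Cfsg.Agent.Helper4.M11Simple.finite_of_faithful (α := α)
  have hne : Nonempty (Fin 5 ↪ α) := by
    rw [Function.Embedding.nonempty_iff_card_le, Fintype.card_fin, hα]
    norm_num
  have hG : Nat.card G = 95040 := by
    rw [Cfsg.Agent.Helper4.M11Simple.card_of_sharp h5 hsharp hne, hα]
    rfl
  refine ⟨?_, hG⟩
  haveI : Nontrivial G := by
    rw [← Finite.one_lt_card_iff_nontrivial, hG]
    norm_num
  refine ⟨fun N hN => ?_⟩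
  by_cases hbot : N = ⊥
  · exact Or.inl hbot
  · exact Or.inr (normal_eq_top hα h5 hsharp N hbot)

end Cfsg.Agent.Helper4.M12Simple
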