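import Mathlib
import Cfsg.Agent.Helper4.M11Simple

set_option autoImplicit false
set_option linter.style.haveILetI false
set_option linter.unusedSectionVars false
set_option linter.unusedVariables false

/-!
# A 3-transitive group of degree 23 and order 10200960 is simple
-/

namespace Cfsg.Agent.Helper4.M23Simple

open MulAction Cfsg.Agent.Helper4.M11Simple

theorem factorization_m23 : (10200960 : ℕ).factorization 23 = 1 := by
  have h : (10200960 : ℕ) = 23 * 443520 := by norm_num
  rw [h, Nat.factorization_mul (by norm_num) (by norm_num)]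
  simp only [Finsupp.coe_add, Pi.add_apply]
  rw [Nat.Prime.factorization_self (by norm_num),
    Nat.factorization_eq_zero_of_not_dvd (by norm_num)]

variable {G α : Type*} [Group G] [MulAction G α] [FaithfulSMul G α] [Fintype α]

theorem card_normalizer_23 [Finite G] (hα : Fintype.card α = 23) (hG : Nat.card G = 10200960)
    (P : Subgroup G) (hP : Nat.card P = 23) :
    Nat.card (Subgroup.normalizer (P : Set G)) = 253 := by
  haveI : Fact (Nat.Prime 23) := ⟨by norm_num⟩
  have hpow : Nat.card P = 23 ^ (Nat.card G).factorization 23 := by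
    rw [hG, factorization_m23, pow_one, hP]
  let P' : Sylow 23 G := Sylow.ofCard P hpow
  have hP' : (P' : Subgroup G) = P := Sylow.coe_ofCard P hpow
  obtain ⟨r, hr, hcard⟩ := card_normalizer (K := G) (α := α) (by norm_num : Nat.Prime 23) hα P hP
  have hmod := card_sylow_modEq_one 23 G
  rw [Sylow.card_eq_index_normalizer P'] at hmod
  have hP'' : ((P' : Sylow 23 G) : Set G) = (P : Set G) := by rw [← Sylow.coe_coe, hP']
  rw [hP''] at hmod
  have hmul := Subgroup.card_mul_index (Subgroup.normalizer (P : Set G))
  rw [hcard, hG] at hmul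
  have hr22 : r ≤ 22 := Nat.le_of_dvd (by norm_num) hr
  unfold Nat.ModEq at hmod
  set i := (Subgroup.normalizer (P : Set G)).index with hi
  rw [hcard]
  have hr0 : r ≠ 0 := by
    rintro rfl
    simp at hmul
  interval_cases r <;> omega

/-- A nontrivial normal subgroup of a 3-transitive group of degree 23 and order 10200960 is
everything. -/
theorem normal_eq_top (hα : Fintype.card α = 23) (h3 : IsMultiplyPretransitive G α 3)
    (hG : Nat.card G = 10200960) (N : Subgroup G) [hN : N.Normal] (hbot : N ≠ ⊥) : N = ⊤ := by
  classical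
  haveI : Finite G := finite_of_faithful (α := α)
  haveI : Fact (Nat.Prime 23) := ⟨by norm_num⟩
  by_contra htop
  have hcardα : Nat.card α = 23 := by rw [Nat.card_eq_fintype_card, hα]
  have h2 : IsMultiplyPretransitive G α 2 :=
    isMultiplyPretransitive_of_le (n := 3) (by norm_num) (by rw [hcardα]; norm_num)
  have h1 : IsMultiplyPretransitive G α 1 :=
    isMultiplyPretransitive_of_le (n := 3) (by norm_num) (by rw [hcardα]; norm_num)
  haveI hGt : IsPretransitive G α := is_one_pretransitive_iff.mp h1
  have hprim : IsPreprimitive G α := isPreprimitive_of_is_two_pretransitive h2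
  have hNt : IsPretransitive N α := Cfsg.Agent.Helper4.JordanNormal.normal_isPretransitive hprim N hbot
  have hneα : Nonempty α := by
    rw [← Fintype.card_pos_iff, hα]
    norm_num
  obtain ⟨a⟩ := hneα
  have hN23 : Nat.card (stabilizer N a) * 23 = Nat.card N := by
    rw [← Subgroup.card_mul_index (stabilizer N a), index_stabilizer_of_transitive, hcardα]
  have hNdvd : Nat.card N ∣ 10200960 := by
    rw [← hG]
    exact Subgroup.card_subgroup_dvd_card N
  obtain ⟨Q⟩ : Nonempty (Sylow 23 N) := inferInstance
  have hQ : Nat.card Q = 23 := by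
    obtain ⟨k, hk⟩ := (IsPGroup.iff_card (p := 23)).mp Q.isPGroup'
    have h23 : 23 ∣ Nat.card Q := Q.dvd_card_of_dvd_card (Dvd.intro_left _ hN23)
    have hdvd : Nat.card Q ∣ 10200960 := (Subgroup.card_subgroup_dvd_card (Q : Subgroup N)).trans hNdvd
    rw [hk] at h23 hdvd ⊢
    have hk1 : k ≠ 0 := by
      rintro rfl
      norm_num at h23
    have hk2 : k < 2 := by
      by_contra hcon
      push Not at hcon
      have : 23 ^ 2 ∣ 10200960 := (pow_dvd_pow 23 hcon).trans hdvd
      norm_num at this
    have : k = 1 := by omega
    rw [this, pow_one]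
  set Q' : Subgroup G := (Q : Subgroup N).map N.subtype with hQ'def
  have hQ' : Nat.card Q' = 23 := by
    rw [hQ'def, Subgroup.card_map_of_injective N.subtype_injective]
    exact hQ
  have hnorm := card_normalizer_23 (α := α) hα hG Q' hQ'
  have hfrat := Sylow.normalizer_sup_eq_top Q
  have hidx : N.index ∣ 253 := by
    rw [← Subgroup.relIndex_top_right, ← hfrat, Subgroup.relIndex_sup_right, ← hnorm]
    exact Subgroup.relIndex_dvd_card _ _
  have hmul := Subgroup.card_mul_index N
  rw [hG] at hmul
  have hidx_cases : N.index = 1 ∨ N.index = 11 := by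
    have hle : N.index ≤ 253 := Nat.le_of_dvd (by norm_num) hidx
    have h0 : N.index ≠ 0 := by
      intro h
      rw [h, mul_zero] at hmul
      norm_num at hmul
    obtain ⟨d, hd⟩ := hidx
    set i := N.index with hi
    set c := Nat.card (stabilizer N a) with hc
    rw [← hN23] at hmul
    have hd253 : d ≤ 253 := by
      rcases Nat.eq_zero_or_pos i with h | h
      · omega
      · nlinarith
    have hi' : i = 1 ∨ i = 11 ∨ i = 23 ∨ i = 253 := by
      have hdvd : i ∣ 253 := ⟨d, hd⟩
      have : i ∈ Nat.divisors 253 := Nat.mem_divisors.mpr ⟨hdvd, by norm_num⟩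
      have hdiv : Nat.divisors 253 = {1, 11, 23, 253} := by decide
      rw [hdiv] at this
      simpa using this
    rcases hi' with h | h | h | h
    · exact Or.inl h
    · exact Or.inr h
    · rw [h] at hmul; omega
    · rw [h] at hmul; omega
  rcases hidx_cases with h | h
  · exact htop (Subgroup.index_eq_one.mp h)
  · rw [h] at hmul
    have hNcard : Nat.card N = 927360 := by omega
    have hstab : Nat.card (stabilizer N a) = 40320 := by omega
    haveI : Nontrivial (stabilizer N a) := by
      rw [← Finite.one_lt_card_iff_nontrivial, hstab]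
      norm_num
    obtain ⟨s, hs⟩ := exists_ne (1 : stabilizer N a)
    have hsa : ((s : N) : G) • a = a := s.2
    have hs1 : ((s : N) : G) ≠ 1 := fun h => hs (Subtype.ext (Subtype.ext h))
    have h2' : IsMultiplyPretransitive (stabilizer G a) (SubMulAction.ofStabilizer G a) 2 :=
      SubMulAction.ofStabilizer.isMultiplyPretransitive.mp h3
    have hprim' : IsPreprimitive (stabilizer G a) (SubMulAction.ofStabilizer G a) :=
      isPreprimitive_of_is_two_pretransitive h2'
    haveI : (N.subgroupOf (stabilizer G a)).Normal := Subgroup.Normal.subgroupOf hN _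
    have hN'bot : N.subgroupOf (stabilizer G a) ≠ ⊥ := by
      intro h
      have hmem : (⟨((s : N) : G), hsa⟩ : stabilizer G a) ∈ N.subgroupOf (stabilizer G a) :=
        Subgroup.mem_subgroupOf.mpr (s : N).2
      rw [h, Subgroup.mem_bot] at hmem
      exact hs1 (congrArg Subtype.val hmem)
    have hN't : IsPretransitive (N.subgroupOf (stabilizer G a)) (SubMulAction.ofStabilizer G a) :=
      Cfsg.Agent.Helper4.JordanNormal.normal_isPretransitive hprim' _ hN'bot
    have hN2 : IsMultiplyPretransitive N α 2 :=
      Cfsg.Agent.Helper4.JordanNormal.isMultiplyPretransitive_succ_of_subgroupOf N hNt a 1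
        (is_one_pretransitive_iff.mpr hN't)
    have hne2 : Nonempty (Fin 2 ↪ α) := by
      rw [Function.Embedding.nonempty_iff_card_le, Fintype.card_fin, hα]
      norm_num
    obtain ⟨x0⟩ := hne2
    have hidx2 := @index_stabilizer_of_transitive N (Fin 2 ↪ α) _ _ x0 hN2
    rw [Nat.card_eq_fintype_card (α := Fin 2 ↪ α), Fintype.card_embedding_eq, Fintype.card_fin,
      hα] at hidx2
    have hmul2 := Subgroup.card_mul_index (stabilizer N x0)
    rw [hidx2, hNcard] at hmul2
    have : (23 : ℕ).descFactorial 2 = 506 := rfl
    rw [this] at hmul2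
    omega

/-- A 3-transitive group of degree 23 and order 10200960 is simple. -/
theorem simple_23 (hα : Fintype.card α = 23) (h3 : IsMultiplyPretransitive G α 3)
    (hG : Nat.card G = 10200960) : IsSimpleGroup G := by
  haveI : Finite G := finite_of_faithful (α := α)
  haveI : Nontrivial G := by
    rw [← Finite.one_lt_card_iff_nontrivial, hG]
    norm_num
  refine ⟨fun N hN => ?_⟩
  by_cases hbot : N = ⊥
  · exact Or.inl hbot
  · exact Or.inr (normal_eq_top hα h3 hG N hbot)

end Cfsg.Agent.Helper4.M23Simple
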