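import Mathlib

set_option autoImplicit false

namespace Cfsg.Agent.Helper4.Ag23

open Finset

/-- Points of the affine plane of order 3: `(x, y) ↦ 3 x + y`. -/
abbrev P := Fin 9

/-- The subset of `P` coded by a bit mask. -/
def toSet (m : ℕ) : Finset P := univ.filter (fun i : P => m.testBit i)

/-- Number of points in a mask. -/
def pop (m : ℕ) : ℕ :=
  m % 2 + m / 2 % 2 + m / 4 % 2 + m / 8 % 2 + m / 16 % 2 + m / 32 % 2 + m / 64 % 2 + m / 128 % 2 +
    m / 256 % 2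

theorem mem_toSet {m : ℕ} {i : P} : i ∈ toSet m ↔ m.testBit i = true := by
  simp [toSet]

theorem toSet_land (m n : ℕ) : toSet (m &&& n) = toSet m ∩ toSet n := by
  ext i
  simp [mem_toSet]

theorem card_toSet (m : ℕ) : (toSet m).card = pop m := by
  have h : ∀ i : P, (if m.testBit i = true then 1 else 0) = m / 2 ^ (i : ℕ) % 2 := by
    intro i
    rw [← Nat.toNat_testBit]
    cases m.testBit i <;> rfl
  rw [toSet, Finset.card_filter, Finset.sum_congr rfl (fun i _ => h i), pop]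
  simp [Fin.sum_univ_succ]
  ring

theorem toSet_injOn : Set.InjOn toSet (Set.Iio 512) := by
  intro m hm n hn h
  apply Nat.eq_of_testBit_eq
  intro i
  by_cases hi : i < 9
  · have := congrArg (fun s => (⟨i, hi⟩ : P) ∈ s) h
    simp only [mem_toSet, eq_iff_iff] at this
    exact Bool.eq_iff_iff.mpr this
  · have h1 : m < 2 ^ i := lt_of_lt_of_le hm (by
      calc 512 = 2 ^ 9 := by norm_num
        _ ≤ 2 ^ i := Nat.pow_le_pow_right (by norm_num) (by omega))
    have h2 : n < 2 ^ i := lt_of_lt_of_le hn (by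
      calc 512 = 2 ^ 9 := by norm_num
        _ ≤ 2 ^ i := Nat.pow_le_pow_right (by norm_num) (by omega))
    rw [Nat.testBit_lt_two_pow h1, Nat.testBit_lt_two_pow h2]

theorem toSet_surj (Q : Finset P) : ∃ m < 512, toSet m = Q := by
  have himg : (Finset.range 512).image toSet = univ := by
    apply Finset.eq_univ_of_card
    rw [Finset.card_image_of_injOn, Finset.card_range, Fintype.card_finset, Fintype.card_fin]
    · norm_num
    · intro m hm n hn h
      exact toSet_injOn (by simpa using hm) (by simpa using hn) h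
  have : Q ∈ (Finset.range 512).image toSet := by rw [himg]; exact mem_univ _
  obtain ⟨m, hm, rfl⟩ := Finset.mem_image.mp this
  exact ⟨m, by simpa using hm, rfl⟩

theorem land_lt {m : ℕ} (n : ℕ) (hm : m < 512) : m &&& n < 512 :=
  lt_of_le_of_lt Nat.and_le_left hm

theorem toSet_subset_iff {m n : ℕ} (hm : m < 512) : toSet m ⊆ toSet n ↔ m &&& n = m := by
  constructor
  · intro h
    apply toSet_injOn (land_lt n hm) hm
    rw [toSet_land]
    exact inter_eq_left.mpr h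
  · intro h
    rw [← h, toSet_land]
    exact inter_subset_right

/-- Masks of the 12 lines. -/
def lineN : List ℕ :=
  [7, 73, 273, 161, 266, 146, 98, 140, 84, 292, 56, 448]

/-- The 54 quadrangles: (mask, class, mask of the quadrangle with its centre). -/
def quadN : List (ℕ × ℕ × ℕ) :=
  [(27, 0, 283), (43, 1, 107), (139, 2, 143), (51, 2, 179),
   (83, 1, 87), (291, 0, 295), (195, 0, 227), (323, 2, 331),
   (387, 1, 403), (29, 2, 93), (45, 0, 173), (269, 1, 271),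
   (53, 1, 309), (149, 0, 151), (101, 2, 103), (197, 1, 205),
   (325, 0, 341), (389, 2, 421), (153, 1, 185), (297, 2, 313),
   (393, 0, 457), (113, 0, 121), (209, 2, 465), (353, 1, 481),
   (30, 1, 158), (46, 2, 302), (78, 0, 79), (54, 0, 118),
   (278, 2, 279), (166, 1, 167), (198, 2, 214), (326, 1, 358),
   (390, 0, 398), (90, 2, 122), (170, 0, 186), (202, 1, 458),
   (306, 1, 314), (338, 0, 466), (418, 2, 482), (284, 0, 316),
   (108, 1, 124), (332, 2, 460), (180, 2, 188), (404, 1, 468),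
   (228, 0, 484), (216, 0, 220), (344, 1, 345), (408, 2, 410),
   (232, 2, 233), (360, 0, 362), (424, 1, 428), (240, 1, 242),
   (368, 2, 372), (432, 0, 433)]

/-- The 72 triangles with their three completions to quadrangles (mask, class). -/
def triN : List (ℕ × List (ℕ × ℕ)) :=
  [(11, [(27, 0), (43, 1), (139, 2)]), (19, [(27, 0), (51, 2), (83, 1)]),
   (35, [(43, 1), (51, 2), (291, 0)]), (67, [(83, 1), (195, 0), (323, 2)]),
   (131, [(139, 2), (195, 0), (387, 1)]), (259, [(291, 0), (323, 2), (387, 1)]),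
   (13, [(29, 2), (45, 0), (269, 1)]), (21, [(29, 2), (53, 1), (149, 0)]),
   (37, [(45, 0), (53, 1), (101, 2)]), (69, [(101, 2), (197, 1), (325, 0)]),
   (133, [(149, 0), (197, 1), (389, 2)]), (261, [(269, 1), (325, 0), (389, 2)]),
   (25, [(27, 0), (29, 2), (153, 1)]), (41, [(43, 1), (45, 0), (297, 2)]),
   (137, [(139, 2), (153, 1), (393, 0)]), (265, [(269, 1), (297, 2), (393, 0)]),
   (49, [(51, 2), (53, 1), (113, 0)]), (81, [(83, 1), (113, 0), (209, 2)]),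
   (145, [(149, 0), (153, 1), (209, 2)]), (97, [(101, 2), (113, 0), (353, 1)]),
   (289, [(291, 0), (297, 2), (353, 1)]), (193, [(195, 0), (197, 1), (209, 2)]),
   (321, [(323, 2), (325, 0), (353, 1)]), (385, [(387, 1), (389, 2), (393, 0)]),
   (14, [(30, 1), (46, 2), (78, 0)]), (22, [(30, 1), (54, 0), (278, 2)]),
   (38, [(46, 2), (54, 0), (166, 1)]), (70, [(78, 0), (198, 2), (326, 1)]),
   (134, [(166, 1), (198, 2), (390, 0)]), (262, [(278, 2), (326, 1), (390, 0)]),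
   (26, [(27, 0), (30, 1), (90, 2)]), (42, [(43, 1), (46, 2), (170, 0)]),
   (74, [(78, 0), (90, 2), (202, 1)]), (138, [(139, 2), (170, 0), (202, 1)]),
   (50, [(51, 2), (54, 0), (306, 1)]), (82, [(83, 1), (90, 2), (338, 0)]),
   (274, [(278, 2), (306, 1), (338, 0)]), (162, [(166, 1), (170, 0), (418, 2)]),
   (290, [(291, 0), (306, 1), (418, 2)]), (194, [(195, 0), (198, 2), (202, 1)]),
   (322, [(323, 2), (326, 1), (338, 0)]), (386, [(387, 1), (390, 0), (418, 2)]),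
   (28, [(29, 2), (30, 1), (284, 0)]), (44, [(45, 0), (46, 2), (108, 1)]),
   (76, [(78, 0), (108, 1), (332, 2)]), (268, [(269, 1), (284, 0), (332, 2)]),
   (52, [(53, 1), (54, 0), (180, 2)]), (148, [(149, 0), (180, 2), (404, 1)]),
   (276, [(278, 2), (284, 0), (404, 1)]), (100, [(101, 2), (108, 1), (228, 0)]),
   (164, [(166, 1), (180, 2), (228, 0)]), (196, [(197, 1), (198, 2), (228, 0)]),
   (324, [(325, 0), (326, 1), (332, 2)]), (388, [(389, 2), (390, 0), (404, 1)]),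
   (88, [(90, 2), (216, 0), (344, 1)]), (152, [(153, 1), (216, 0), (408, 2)]),
   (280, [(284, 0), (344, 1), (408, 2)]), (104, [(108, 1), (232, 2), (360, 0)]),
   (168, [(170, 0), (232, 2), (424, 1)]), (296, [(297, 2), (360, 0), (424, 1)]),
   (200, [(202, 1), (216, 0), (232, 2)]), (328, [(332, 2), (344, 1), (360, 0)]),
   (392, [(393, 0), (408, 2), (424, 1)]), (112, [(113, 0), (240, 1), (368, 2)]),
   (176, [(180, 2), (240, 1), (432, 0)]), (304, [(306, 1), (368, 2), (432, 0)]),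
   (208, [(209, 2), (216, 0), (240, 1)]), (336, [(338, 0), (344, 1), (368, 2)]),
   (400, [(404, 1), (408, 2), (432, 0)]), (224, [(228, 0), (232, 2), (240, 1)]),
   (352, [(353, 1), (360, 0), (368, 2)]), (416, [(418, 2), (424, 1), (432, 0)])]

/-- The six linear maps fixing `(1,0)`, as value tables. -/
def gfun : Fin 6 → P → P :=
  ![![0, 1, 2, 3, 4, 5, 6, 7, 8],
    ![0, 4, 8, 3, 7, 2, 6, 1, 5],
    ![0, 7, 5, 3, 1, 8, 6, 4, 2],
    ![0, 2, 1, 3, 5, 4, 6, 8, 7],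
    ![0, 5, 7, 3, 8, 1, 6, 2, 4],
    ![0, 8, 4, 3, 2, 7, 6, 5, 1]]

/-- Their inverses. -/
def ginv : Fin 6 → P → P :=
  ![![0, 1, 2, 3, 4, 5, 6, 7, 8],
    ![0, 7, 5, 3, 1, 8, 6, 4, 2],
    ![0, 4, 8, 3, 7, 2, 6, 1, 5],
    ![0, 2, 1, 3, 5, 4, 6, 8, 7],
    ![0, 5, 7, 3, 8, 1, 6, 2, 4],
    ![0, 8, 4, 3, 2, 7, 6, 5, 1]]

/-- The action of the six maps on the three classes. -/
def sTab : List (List ℕ) :=
  [[0, 1, 2], [1, 2, 0], [2, 0, 1], [0, 2, 1], [2, 1, 0], [1, 0, 2]]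
/-- The action of the `n`-th map on classes. -/
def sfun (n : Fin 6) (i : ℕ) : ℕ := (sTab.getD n []).getD i 0

/-- Masks `r`, `q` of two sets that cannot both be blocks: different and sharing three points. -/
def inc0 (r q : ℕ) : Prop := r ≠ q ∧ 3 ≤ pop (r &&& q)

instance (r q : ℕ) : Decidable (inc0 r q) := by unfold inc0; infer_instance

/-- Second-level incompatibility: also different classes and exactly one common point. -/
def inc1 (R : ℕ × ℕ) (q c : ℕ) : Prop :=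
  inc0 R.1 q ∨ (R.2 ≠ c ∧ pop (R.1 &&& q) = 1)

instance (R : ℕ × ℕ) (q c : ℕ) : Decidable (inc1 R q c) := by unfold inc1; infer_instance

section Tables

theorem line_bd : ∀ l ∈ lineN, l < 512 ∧ pop l = 3 := by decide +kernel

theorem quad_bd : ∀ t ∈ quadN, t.1 < 512 ∧ t.2.1 < 3 ∧ t.2.2 < 512 ∧ pop t.2.2 = 5 ∧
    t.1 &&& t.2.2 = t.1 ∧ pop t.1 = 4 := by decide +kernel

theorem quad_complete : ∀ m ∈ List.range 512, pop m = 4 → (∀ l ∈ lineN, l &&& m ≠ l) →
    ∃ t ∈ quadN, t.1 = m := by decide +kernel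

theorem quad_unique : ∀ t ∈ quadN, ∀ t' ∈ quadN, t.1 = t'.1 → t = t' := by decide +kernel

theorem tri_bd : ∀ τ ∈ triN, τ.1 < 512 ∧ pop τ.1 = 3 ∧ τ.1 ∉ lineN := by decide +kernel

theorem tri_quad : ∀ τ ∈ triN, ∀ t ∈ quadN, τ.1 &&& t.1 = τ.1 → (t.1, t.2.1) ∈ τ.2 := by
  decide +kernel

theorem tri_comp : ∀ τ ∈ triN, ∀ R ∈ τ.2, ∃ t ∈ quadN, t.1 = R.1 ∧ t.2.1 = R.2 := by
  decide +kernel

theorem tri_distinct : ∀ τ ∈ triN, ∀ R ∈ τ.2, ∀ R' ∈ τ.2, R.2 = R'.2 → R = R' := by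
  decide +kernel

theorem quad_tri : ∀ t ∈ quadN, ∃ τ ∈ triN, (t.1, t.2.1) ∈ τ.2 := by decide +kernel

theorem F1 : ∀ t₁ ∈ quadN, ∀ t₂ ∈ quadN, t₁.2.1 ≠ t₂.2.1 → pop (t₁.1 &&& t₂.1) = 1 →
    ∃ τ ∈ triN, ∀ R ∈ τ.2, inc0 R.1 t₁.1 ∨ inc0 R.1 t₂.1 := by
  decide +kernel

theorem F2 : ∀ t₁ ∈ quadN, ∀ t₂ ∈ quadN, t₁.2.1 ≠ t₂.2.1 →
    ∃ τ ∈ triN, ∀ R ∈ τ.2, inc1 R t₁.1 t₁.2.1 ∨ inc1 R t₂.1 t₂.2.1 := by
  decide +kernel

theorem cross_forced : ∀ t ∈ quadN, ∀ r ∈ List.range 512, pop r = 5 → t.1 &&& r = t.1 →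
    r = t.2.2 ∨ ∃ t' ∈ quadN, t'.2.1 ≠ t.2.1 ∧ t'.1 &&& r = t'.1 := by
  decide +kernel

theorem five_contains : ∀ r ∈ List.range 512, pop r = 5 → ∃ t ∈ quadN, t.1 &&& r = t.1 := by
  decide +kernel

theorem class_nonempty : ∀ i < 3, ∃ t ∈ quadN, t.2.1 = i := by decide +kernel

theorem line_unique : ∀ l ∈ lineN, ∀ l' ∈ lineN, 2 ≤ pop (l &&& l') → l = l' := by
  decide +kernel

theorem g_line : ∀ n : Fin 6, ∀ l ∈ lineN, ∃ l' ∈ lineN,
    ∀ x : P, l.testBit x = l'.testBit (gfun n x) := by decide +kernel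

theorem g_quad : ∀ n : Fin 6, ∀ t ∈ quadN, ∃ t' ∈ quadN, t'.2.1 = sfun n t.2.1 ∧
    (∀ x : P, t.1.testBit x = t'.1.testBit (gfun n x)) ∧
      ∀ x : P, t.2.2.testBit x = t'.2.2.testBit (gfun n x) := by decide +kernel

theorem g_inv : ∀ n : Fin 6, ∀ x : P, ginv n (gfun n x) = x ∧ gfun n (ginv n x) = x := by
  decide +kernel

theorem g_fix : ∀ n : Fin 6, gfun n 0 = 0 ∧ gfun n 3 = 3 := by decide +kernel

theorem g_reach : ∀ p : P, p ≠ 0 → p ≠ 3 → p ≠ 6 → ∃ n : Fin 6, gfun n 1 = p := by decide +kernel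

theorem g_zero : ∀ x : P, gfun 0 x = x := by decide +kernel

theorem s_rigid : ∀ n : Fin 6, ∀ i < 3, ∀ j < 3, i ≠ j → sfun n i = i → sfun n j = j → n = 0 := by
  decide +kernel

theorem s_trans' : ∀ i j i' j' : Fin 3, i ≠ j → i' ≠ j' →
    ∃ n : Fin 6, sfun n i = i' ∧ sfun n j = j' := by decide +kernel

theorem s_trans {i j i' j' : ℕ} (hi : i < 3) (hj : j < 3) (hi' : i' < 3) (hj' : j' < 3)
    (hij : i ≠ j) (hij' : i' ≠ j') : ∃ n : Fin 6, sfun n i = i' ∧ sfun n j = j' := by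
  have := s_trans' ⟨i, hi⟩ ⟨j, hj⟩ ⟨i', hi'⟩ ⟨j', hj'⟩ (by simpa [Fin.ext_iff] using hij)
    (by simpa [Fin.ext_iff] using hij')
  simpa using this

theorem s_inj : ∀ n : Fin 6, ∀ i < 3, ∀ j < 3, sfun n i = sfun n j → i = j := by decide +kernel

theorem s_lt : ∀ n : Fin 6, ∀ i < 3, sfun n i < 3 := by decide +kernel

end Tables

end Cfsg.Agent.Helper4.Ag23
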