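import Mathlib
import Cfsg.Prelude.Def_Sporadic_a

/-!
# Steiner systems on `Option` types: derived designs, transport, rigid extension of bijections
-/

set_option autoImplicit false
set_option linter.unusedSectionVars false

namespace Cfsg.Agent.Helper4.SteinerOpt

open Finset Cfsg Function

section Transport

variable {α β : Type*}

/-- Transport of a set system along a bijection. -/
def mapSys (e : α ≃ β) (B : Set (Finset α)) : Set (Finset β) :=
  {c | c.map e.symm.toEmbedding ∈ B}

theorem map_map_symm (e : α ≃ β) (c : Finset β) :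
    (c.map e.symm.toEmbedding).map e.toEmbedding = c := by
  ext x
  simp

theorem map_symm_map (e : α ≃ β) (b : Finset α) :
    (b.map e.toEmbedding).map e.symm.toEmbedding = b := by
  ext x
  simp

theorem map_mem_mapSys (e : α ≃ β) (B : Set (Finset α)) (b : Finset α) :
    b.map e.toEmbedding ∈ mapSys e B ↔ b ∈ B := by
  unfold mapSys
  rw [Set.mem_ofPred_eq, map_symm_map]

theorem isSteiner_mapSys (e : α ≃ β) {t k : ℕ} {B : Set (Finset α)}
    (hB : IsSteinerSystem t k B) : IsSteinerSystem t k (mapSys e B) := by
  refine ⟨fun c hc => ?_, fun s hs => ?_⟩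
  · have := hB.1 _ hc
    rwa [card_map] at this
  · obtain ⟨b, ⟨hb, hsb⟩, huniq⟩ := hB.2 (s.map e.symm.toEmbedding) (by rwa [card_map])
    refine ⟨b.map e.toEmbedding, ⟨(map_mem_mapSys e B b).mpr hb, ?_⟩, ?_⟩
    · rw [← map_map_symm e s]
      exact map_subset_map.mpr hsb
    · rintro c ⟨hc, hsc⟩
      have := huniq (c.map e.symm.toEmbedding) ⟨hc, map_subset_map.mpr hsc⟩
      rw [← this, map_map_symm]

/-- A bijection mapping blocks of one Steiner system into blocks of another with the same
parameters is an isomorphism. -/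
theorem iso_of_into (e : α ≃ β) {t k : ℕ} (htk : t ≤ k) {B : Set (Finset α)} {B' : Set (Finset β)}
    (hB : IsSteinerSystem t k B) (hB' : IsSteinerSystem t k B')
    (h : ∀ b ∈ B, b.map e.toEmbedding ∈ B') (b : Finset α) :
    b ∈ B ↔ b.map e.toEmbedding ∈ B' := by
  refine ⟨h b, fun hb' => ?_⟩
  have hcard : b.card = k := by
    have := hB'.1 _ hb'
    rwa [card_map] at this
  obtain ⟨s, hsb, hs⟩ := exists_subset_card_eq (s := b) (n := t) (by omega)
  obtain ⟨b₁, ⟨hb₁, hsb₁⟩, -⟩ := hB.2 s hs
  obtain ⟨c, -, huniq⟩ := hB'.2 (s.map e.toEmbedding) (by rwa [card_map])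
  have h1 := huniq _ ⟨h b₁ hb₁, map_subset_map.mpr hsb₁⟩
  have h2 := huniq _ ⟨hb', map_subset_map.mpr hsb⟩
  have : b₁.map e.toEmbedding = b.map e.toEmbedding := h1.trans h2.symm
  rw [← map_injective e.toEmbedding this]
  exact hb₁

theorem setSystemIso_of_iff [DecidableEq β] (e : α ≃ β) {B : Set (Finset α)} {B' : Set (Finset β)}
    (h : ∀ b, b ∈ B ↔ b.map e.toEmbedding ∈ B') : SetSystemIso B B' := by
  refine ⟨e, ?_⟩
  ext c
  constructor
  · rintro ⟨b, hb, rfl⟩
    show b.image e ∈ B'
    have := (h b).mp hb
    rwa [Finset.map_eq_image] at this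
  · intro hc
    refine ⟨c.map e.symm.toEmbedding, ?_, ?_⟩
    · rw [h, map_map_symm]
      exact hc
    · show (c.map e.symm.toEmbedding).image e = c
      have := map_map_symm e c
      rwa [Finset.map_eq_image] at this

/-- Two finite types of the same size, with `n` marked distinct points each: some bijection
matches the marked points. -/
theorem exists_equiv_extending [Finite α] {n : ℕ} (x : Fin n ↪ α) (y : Fin n ↪ β)
    (h : Nonempty (α ≃ β)) : ∃ e : α ≃ β, ∀ i, e (x i) = y i := by
  classical
  obtain ⟨e₀⟩ := h
  have : Finite β := Finite.of_equiv α e₀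
  have := Equiv.Perm.isMultiplyPretransitive β n
  obtain ⟨σ, hσ⟩ := MulAction.exists_smul_eq (Equiv.Perm β) (x.trans e₀.toEmbedding) y
  refine ⟨e₀.trans σ, fun i => ?_⟩
  have := DFunLike.congr_fun hσ i
  simpa using this

end Transport

section Derived

variable {γ : Type*} [DecidableEq γ]

/-- The derived design at the point `none`. -/
def derivedOpt (B : Set (Finset (Option γ))) : Set (Finset γ) :=
  {l | insertNone l ∈ B}

theorem eq_insertNone_of_mem {b : Finset (Option γ)} (h : none ∈ b) :
    b = insertNone (eraseNone b) := by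
  rw [insertNone_eraseNone, insert_eq_of_mem h]

theorem eq_map_some_of_notMem {b : Finset (Option γ)} (h : none ∉ b) :
    b = (eraseNone b).map Embedding.some := by
  rw [map_some_eraseNone, erase_eq_of_notMem h]

theorem insertNone_subset_iff {s : Finset γ} {b : Finset (Option γ)} :
    insertNone s ⊆ b ↔ none ∈ b ∧ s ⊆ eraseNone b := by
  constructor
  · intro h
    refine ⟨h none_mem_insertNone, fun x hx => ?_⟩
    rw [mem_eraseNone]
    exact h (some_mem_insertNone.mpr hx)
  · rintro ⟨h0, h1⟩ o ho
    cases o with
    | none => exact h0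
    | some x =>
      have := h1 (some_mem_insertNone.mp ho)
      rwa [mem_eraseNone] at this

theorem map_some_subset_iff {s : Finset γ} {b : Finset (Option γ)} :
    s.map Embedding.some ⊆ b ↔ s ⊆ eraseNone b := by
  constructor
  · intro h x hx
    rw [mem_eraseNone]
    exact h (mem_map_of_mem _ hx)
  · intro h o ho
    obtain ⟨x, hx, rfl⟩ := mem_map.mp ho
    have := h hx
    rwa [mem_eraseNone] at this

theorem none_notMem_map_some (s : Finset γ) : none ∉ s.map Embedding.some := by
  simp

theorem isSteiner_derivedOpt {t k : ℕ} {B : Set (Finset (Option γ))}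
    (hB : IsSteinerSystem (t + 1) (k + 1) B) : IsSteinerSystem t k (derivedOpt B) := by
  refine ⟨fun l hl => ?_, fun s hs => ?_⟩
  · have := hB.1 _ hl
    rw [card_insertNone] at this
    omega
  · obtain ⟨b, ⟨hb, hsb⟩, huniq⟩ := hB.2 (insertNone s) (by rw [card_insertNone, hs])
    obtain ⟨h0, hs'⟩ := insertNone_subset_iff.mp hsb
    refine ⟨eraseNone b, ⟨?_, hs'⟩, ?_⟩
    · show insertNone (eraseNone b) ∈ B
      rw [← eq_insertNone_of_mem h0]
      exact hb
    · rintro l ⟨hl, hsl⟩
      have := huniq (insertNone l) ⟨hl, insertNone.monotone hsl⟩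
      rw [← this, eraseNone_insertNone]

end Derived


section Shapes

variable {γ δ : Type*} [DecidableEq γ] [DecidableEq δ]

/-- The four shapes of a subset of `Option (Option γ)`, according to which of the two extra
points `none`, `some none` it contains. -/
def sh11 (R : Finset γ) : Finset (Option (Option γ)) := insertNone (insertNone R)

def sh10 (R : Finset γ) : Finset (Option (Option γ)) := insertNone (R.map Embedding.some)

def sh01 (R : Finset γ) : Finset (Option (Option γ)) := (insertNone R).map Embedding.some

def sh00 (R : Finset γ) : Finset (Option (Option γ)) :=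
  (R.map Embedding.some).map Embedding.some

/-- The part of a subset of `Option (Option γ)` inside `γ`. -/
def core (b : Finset (Option (Option γ))) : Finset γ := eraseNone (eraseNone b)

@[simp] theorem mem_core {b : Finset (Option (Option γ))} {x : γ} :
    x ∈ core b ↔ some (some x) ∈ b := by
  simp [core]

theorem ext2 {b c : Finset (Option (Option γ))} (h0 : none ∈ b ↔ none ∈ c)
    (h1 : some none ∈ b ↔ some none ∈ c) (h2 : ∀ x : γ, some (some x) ∈ b ↔ some (some x) ∈ c) :
    b = c := by
  ext o
  rcases o with _ | _ | x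
  · exact h0
  · exact h1
  · exact h2 x

@[simp] theorem none_mem_sh11 (R : Finset γ) : none ∈ sh11 R := by simp [sh11]
@[simp] theorem none_mem_sh10 (R : Finset γ) : none ∈ sh10 R := by simp [sh10]
@[simp] theorem none_notMem_sh01 (R : Finset γ) : none ∉ sh01 R := by simp [sh01]
@[simp] theorem none_notMem_sh00 (R : Finset γ) : none ∉ sh00 R := by simp [sh00]
@[simp] theorem snone_mem_sh11 (R : Finset γ) : some none ∈ sh11 R := by simp [sh11]
@[simp] theorem snone_notMem_sh10 (R : Finset γ) : some none ∉ sh10 R := by simp [sh10]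
@[simp] theorem snone_mem_sh01 (R : Finset γ) : some none ∈ sh01 R := by simp [sh01]
@[simp] theorem snone_notMem_sh00 (R : Finset γ) : some none ∉ sh00 R := by simp [sh00]
@[simp] theorem ss_mem_sh11 (R : Finset γ) (x : γ) : some (some x) ∈ sh11 R ↔ x ∈ R := by
  simp [sh11]
@[simp] theorem ss_mem_sh10 (R : Finset γ) (x : γ) : some (some x) ∈ sh10 R ↔ x ∈ R := by
  simp [sh10]
@[simp] theorem ss_mem_sh01 (R : Finset γ) (x : γ) : some (some x) ∈ sh01 R ↔ x ∈ R := by
  simp [sh01]
@[simp] theorem ss_mem_sh00 (R : Finset γ) (x : γ) : some (some x) ∈ sh00 R ↔ x ∈ R := by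
  simp [sh00]

@[simp] theorem core_sh11 (R : Finset γ) : core (sh11 R) = R := by ext; simp
@[simp] theorem core_sh10 (R : Finset γ) : core (sh10 R) = R := by ext; simp
@[simp] theorem core_sh01 (R : Finset γ) : core (sh01 R) = R := by ext; simp
@[simp] theorem core_sh00 (R : Finset γ) : core (sh00 R) = R := by ext; simp

theorem card_sh11 (R : Finset γ) : (sh11 R).card = R.card + 2 := by
  simp [sh11, card_insertNone]
theorem card_sh10 (R : Finset γ) : (sh10 R).card = R.card + 1 := by
  simp [sh10, card_insertNone]
theorem card_sh01 (R : Finset γ) : (sh01 R).card = R.card + 1 := by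
  simp [sh01, card_insertNone]
theorem card_sh00 (R : Finset γ) : (sh00 R).card = R.card := by
  simp [sh00]

theorem shape_cases (b : Finset (Option (Option γ))) :
    (none ∈ b ∧ some none ∈ b ∧ b = sh11 (core b)) ∨ (none ∈ b ∧ some none ∉ b ∧ b = sh10 (core b)) ∨
      (none ∉ b ∧ some none ∈ b ∧ b = sh01 (core b)) ∨
      (none ∉ b ∧ some none ∉ b ∧ b = sh00 (core b)) := by
  by_cases h0 : none ∈ b <;> by_cases h1 : some none ∈ b
  · exact Or.inl ⟨h0, h1, ext2 (by simp [h0]) (by simp [h1]) (by simp)⟩
  · exact Or.inr (Or.inl ⟨h0, h1, ext2 (by simp [h0]) (by simp [h1]) (by simp)⟩)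
  · exact Or.inr (Or.inr (Or.inl ⟨h0, h1, ext2 (by simp [h0]) (by simp [h1]) (by simp)⟩))
  · exact Or.inr (Or.inr (Or.inr ⟨h0, h1, ext2 (by simp [h0]) (by simp [h1]) (by simp)⟩))

theorem sh00_subset_iff {Q : Finset γ} {b : Finset (Option (Option γ))} :
    sh00 Q ⊆ b ↔ Q ⊆ core b := by
  constructor
  · intro h x hx
    rw [mem_core]
    exact h ((ss_mem_sh00 Q x).mpr hx)
  · intro h o ho
    rcases o with _ | _ | x
    · exact absurd ho (none_notMem_sh00 Q)
    · exact absurd ho (snone_notMem_sh00 Q)
    · exact mem_core.mp (h ((ss_mem_sh00 Q x).mp ho))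

theorem sh11_injective : Injective (sh11 : Finset γ → _) := fun R R' h => by
  simpa using congrArg core h
theorem sh10_injective : Injective (sh10 : Finset γ → _) := fun R R' h => by
  simpa using congrArg core h
theorem sh01_injective : Injective (sh01 : Finset γ → _) := fun R R' h => by
  simpa using congrArg core h
theorem sh00_injective : Injective (sh00 : Finset γ → _) := fun R R' h => by
  simpa using congrArg core h

/-- The bijection of `Option (Option γ)` induced by a bijection of `γ`. -/
def lift2 (g : γ ≃ δ) : Option (Option γ) ≃ Option (Option δ) :=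
  Equiv.optionCongr (Equiv.optionCongr g)

@[simp] theorem lift2_none (g : γ ≃ δ) : lift2 g none = none := rfl
@[simp] theorem lift2_snone (g : γ ≃ δ) : lift2 g (some none) = some none := rfl
@[simp] theorem lift2_ss (g : γ ≃ δ) (x : γ) : lift2 g (some (some x)) = some (some (g x)) := rfl

theorem mem_map_lift2 (g : γ ≃ δ) (b : Finset (Option (Option γ))) (o : Option (Option δ)) :
    o ∈ b.map (lift2 g).toEmbedding ↔ (lift2 g).symm o ∈ b := by
  rw [mem_map_equiv]

@[simp] theorem lift2_symm_none (g : γ ≃ δ) : (lift2 g).symm none = none := rfl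
@[simp] theorem lift2_symm_snone (g : γ ≃ δ) : (lift2 g).symm (some none) = some none := rfl
@[simp] theorem lift2_symm_ss (g : γ ≃ δ) (y : δ) :
    (lift2 g).symm (some (some y)) = some (some (g.symm y)) := rfl

theorem map_lift2_sh11 (g : γ ≃ δ) (R : Finset γ) :
    (sh11 R).map (lift2 g).toEmbedding = sh11 (R.map g.toEmbedding) := by
  apply ext2 <;> simp [mem_map_equiv]
theorem map_lift2_sh10 (g : γ ≃ δ) (R : Finset γ) :
    (sh10 R).map (lift2 g).toEmbedding = sh10 (R.map g.toEmbedding) := by
  apply ext2 <;> simp [mem_map_equiv]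
theorem map_lift2_sh01 (g : γ ≃ δ) (R : Finset γ) :
    (sh01 R).map (lift2 g).toEmbedding = sh01 (R.map g.toEmbedding) := by
  apply ext2 <;> simp [mem_map_equiv]
theorem map_lift2_sh00 (g : γ ≃ δ) (R : Finset γ) :
    (sh00 R).map (lift2 g).toEmbedding = sh00 (R.map g.toEmbedding) := by
  apply ext2 <;> simp [mem_map_equiv]

/-- Exchange of the two extra points. -/
def sw : Option (Option γ) ≃ Option (Option γ) where
  toFun o := match o with
    | none => some none
    | some none => none
    | some (some x) => some (some x)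
  invFun o := match o with
    | none => some none
    | some none => none
    | some (some x) => some (some x)
  left_inv o := by rcases o with _ | _ | x <;> rfl
  right_inv o := by rcases o with _ | _ | x <;> rfl

@[simp] theorem sw_none : (sw : Option (Option γ) ≃ _) none = some none := rfl
@[simp] theorem sw_snone : (sw : Option (Option γ) ≃ _) (some none) = none := rfl
@[simp] theorem sw_ss (x : γ) : (sw : Option (Option γ) ≃ _) (some (some x)) = some (some x) := rfl
@[simp] theorem sw_symm : (sw : Option (Option γ) ≃ _).symm = sw := rfl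

theorem map_sw_sh11 (R : Finset γ) : (sh11 R).map sw.toEmbedding = sh11 R := by
  apply ext2 <;> simp [mem_map_equiv]
theorem map_sw_sh10 (R : Finset γ) : (sh10 R).map sw.toEmbedding = sh01 R := by
  apply ext2 <;> simp [mem_map_equiv]
theorem map_sw_sh01 (R : Finset γ) : (sh01 R).map sw.toEmbedding = sh10 R := by
  apply ext2 <;> simp [mem_map_equiv]

end Shapes


section Lift

variable {γ δ : Type*}

theorem optionCongr_removeNone (e : Option γ ≃ Option δ) (h : e none = none) :
    Equiv.optionCongr (Equiv.removeNone e) = e := by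
  ext1 o
  cases o with
  | none => exact h.symm
  | some x =>
    have hne : e (some x) ≠ none := fun hx => by
      have := e.injective (hx.trans h.symm)
      exact Option.some_ne_none x this
    obtain ⟨y, hy⟩ := Option.ne_none_iff_exists'.mp hne
    exact Equiv.removeNone_some e ⟨y, hy⟩

/-- A bijection of `Option (Option γ)` fixing the two extra points is induced from `γ`. -/
theorem exists_lift2 [DecidableEq γ] [DecidableEq δ] (h : Option (Option γ) ≃ Option (Option δ))
    (h0 : h none = none) (h1 : h (some none) = some none) : ∃ g : γ ≃ δ, h = lift2 g := by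
  have e1 := optionCongr_removeNone h h0
  have h' : Equiv.removeNone h none = none := by
    have : some (Equiv.removeNone h none) = h (some none) :=
      Equiv.removeNone_some h ⟨none, h1⟩
    rw [h1] at this
    exact Option.some_injective _ this
  have e2 := optionCongr_removeNone (Equiv.removeNone h) h'
  refine ⟨Equiv.removeNone (Equiv.removeNone h), ?_⟩
  unfold lift2
  rw [e2, e1]

end Lift

end Cfsg.Agent.Helper4.SteinerOpt
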