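import Mathlib
import Cfsg.Agent.Helper4.SteinerOpt
import Cfsg.Agent.Helper4.Ag23

/-!
# Structure of the Steiner systems `S(3,4,10)` and `S(4,5,11)` over the affine plane of order 3
-/

set_option autoImplicit false
set_option linter.unusedSectionVars false
set_option linter.unusedVariables false

namespace Cfsg.Agent.Helper4.M11Design

open Finset Cfsg Function Cfsg.Agent.Helper4.SteinerOpt Cfsg.Agent.Helper4.Ag23

/-- Lines of the standard affine plane of order 3. -/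
def IsLine (l : Finset P) : Prop := ∃ m ∈ lineN, l = toSet m

/-- Quadrangles of class `i`. -/
def IsQuadC (i : ℕ) (Q : Finset P) : Prop := ∃ t ∈ quadN, t.2.1 = i ∧ Q = toSet t.1

section Stage1

variable {E : Set (Finset (Option P))} (hE : IsSteinerSystem 3 4 E)
  (hl : ∀ l : Finset P, insertNone l ∈ E ↔ IsLine l)

include hE in
theorem x_unique {b b' : Finset (Option P)} {S : Finset P} (hb : b ∈ E) (hb' : b' ∈ E)
    (hS : S.card = 3) (h1 : S.map Embedding.some ⊆ b) (h2 : S.map Embedding.some ⊆ b') :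
    b = b' := by
  obtain ⟨c, -, huniq⟩ := hE.2 (S.map Embedding.some) (by rwa [card_map])
  exact (huniq b ⟨hb, h1⟩).trans (huniq b' ⟨hb', h2⟩).symm

include hE hl in
theorem x_quad {Q : Finset P} (hQ : Q.map Embedding.some ∈ E) : ∃ t ∈ quadN, Q = toSet t.1 := by
  have hcard : Q.card = 4 := by
    have := hE.1 _ hQ
    rwa [card_map] at this
  obtain ⟨m, hm, rfl⟩ := toSet_surj Q
  rw [card_toSet] at hcard
  obtain ⟨t, ht, rfl⟩ := quad_complete m (List.mem_range.mpr hm) hcard (by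
    intro l hl' hland
    have hsub : toSet l ⊆ toSet m := (toSet_subset_iff (line_bd l hl').1).mpr hland
    have h1 : insertNone (toSet l) ∈ E := (hl _).mpr ⟨l, hl', rfl⟩
    have h3 : (toSet l).card = 3 := by rw [card_toSet]; exact (line_bd l hl').2
    have := x_unique hE h1 hQ h3 (by
      intro o ho
      obtain ⟨x, hx, rfl⟩ := mem_map.mp ho
      exact some_mem_insertNone.mpr hx) (map_subset_map.mpr hsub)
    have h0 : none ∈ (toSet m).map Embedding.some := by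
      rw [← this]; exact none_mem_insertNone
    exact none_notMem_map_some _ h0)
  exact ⟨t, ht, rfl⟩

include hE hl in
theorem x_cover {τ : ℕ × List (ℕ × ℕ)} (hτ : τ ∈ triN) :
    ∃ R ∈ τ.2, (toSet R.1).map Embedding.some ∈ E := by
  obtain ⟨hτlt, hτpop, hτline⟩ := tri_bd τ hτ
  have h3 : (toSet τ.1).card = 3 := by rw [card_toSet]; exact hτpop
  obtain ⟨b, ⟨hb, hTb⟩, -⟩ := hE.2 ((toSet τ.1).map Embedding.some) (by rwa [card_map])
  rw [map_some_subset_iff] at hTb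
  by_cases h0 : none ∈ b
  · exfalso
    have hb' := eq_insertNone_of_mem h0
    rw [hb'] at hb
    obtain ⟨m, hm, hme⟩ := (hl _).mp hb
    have hcard : (eraseNone b).card = 3 := by
      rw [hme, card_toSet]; exact (line_bd m hm).2
    have heq : toSet τ.1 = eraseNone b := eq_of_subset_of_card_le hTb (by rw [hcard, h3])
    rw [hme] at heq
    have := toSet_injOn hτlt (line_bd m hm).1 heq
    exact hτline (this ▸ hm)
  · have hb' := eq_map_some_of_notMem h0
    rw [hb'] at hb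
    obtain ⟨t, ht, hte⟩ := x_quad hE hl hb
    rw [hte] at hTb
    have hland := (toSet_subset_iff hτlt).mp hTb
    refine ⟨(t.1, t.2.1), tri_quad τ hτ t ht hland, ?_⟩
    show (toSet t.1).map Embedding.some ∈ E
    rw [← hte]; exact hb

include hE in
theorem x_inc0 {r q : ℕ} (hr : (toSet r).map Embedding.some ∈ E)
    (hq : (toSet q).map Embedding.some ∈ E) (hr' : r < 512) (hq' : q < 512) : ¬ inc0 r q := by
  rintro ⟨hne, h3⟩
  rw [← card_toSet, toSet_land] at h3
  obtain ⟨S, hS, hScard⟩ := exists_subset_card_eq h3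
  have := x_unique hE hr hq hScard (map_subset_map.mpr (hS.trans inter_subset_left))
    (map_subset_map.mpr (hS.trans inter_subset_right))
  exact hne (toSet_injOn hr' hq' (map_injective _ this))

include hE hl in
theorem x_one {t₁ t₂ : ℕ × ℕ × ℕ} (h₁ : t₁ ∈ quadN) (h₂ : t₂ ∈ quadN)
    (hx₁ : (toSet t₁.1).map Embedding.some ∈ E) (hx₂ : (toSet t₂.1).map Embedding.some ∈ E)
    (hne : t₁.2.1 ≠ t₂.2.1) : pop (t₁.1 &&& t₂.1) ≠ 1 := by
  intro h1
  obtain ⟨τ, hτ, hall⟩ := F1 t₁ h₁ t₂ h₂ hne h1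
  obtain ⟨R, hR, hRE⟩ := x_cover hE hl hτ
  obtain ⟨t, ht, htR, -⟩ := tri_comp τ hτ R hR
  have hRlt : R.1 < 512 := htR ▸ (quad_bd t ht).1
  rcases hall R hR with h | h
  · exact x_inc0 hE hRE hx₁ hRlt (quad_bd t₁ h₁).1 h
  · exact x_inc0 hE hRE hx₂ hRlt (quad_bd t₂ h₂).1 h

include hE hl in
theorem x_class {t₁ t₂ : ℕ × ℕ × ℕ} (h₁ : t₁ ∈ quadN) (h₂ : t₂ ∈ quadN)
    (hx₁ : (toSet t₁.1).map Embedding.some ∈ E) (hx₂ : (toSet t₂.1).map Embedding.some ∈ E) :
    t₁.2.1 = t₂.2.1 := by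
  by_contra hne
  obtain ⟨τ, hτ, hall⟩ := F2 t₁ h₁ t₂ h₂ hne
  obtain ⟨R, hR, hRE⟩ := x_cover hE hl hτ
  obtain ⟨t, ht, htR, htc⟩ := tri_comp τ hτ R hR
  have hRlt : R.1 < 512 := htR ▸ (quad_bd t ht).1
  have hRE' : (toSet t.1).map Embedding.some ∈ E := htR ▸ hRE
  rcases hall R hR with h | h
  · rcases h with h | ⟨hc, hp⟩
    · exact x_inc0 hE hRE hx₁ hRlt (quad_bd t₁ h₁).1 h
    · refine x_one hE hl ht h₁ hRE' hx₁ (htc ▸ hc) ?_
      rw [htR]; exact hp
  · rcases h with h | ⟨hc, hp⟩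
    · exact x_inc0 hE hRE hx₂ hRlt (quad_bd t₂ h₂).1 h
    · refine x_one hE hl ht h₂ hRE' hx₂ (htc ▸ hc) ?_
      rw [htR]; exact hp

include hE hl in
/-- The blocks of an `S(3,4,10)` over the standard plane not through the extra point are the
quadrangles of one class. -/
theorem stage1 : ∃ i < 3, ∀ Q : Finset P, Q.map Embedding.some ∈ E ↔ IsQuadC i Q := by
  obtain ⟨τ₀, hτ₀⟩ : ∃ τ, τ ∈ triN := ⟨_, List.mem_cons_self⟩
  obtain ⟨R₀, hR₀, hRE₀⟩ := x_cover hE hl hτ₀
  obtain ⟨t₀, ht₀, htR₀, -⟩ := tri_comp τ₀ hτ₀ R₀ hR₀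
  have hE₀ : (toSet t₀.1).map Embedding.some ∈ E := htR₀ ▸ hRE₀
  refine ⟨t₀.2.1, (quad_bd t₀ ht₀).2.1, fun Q => ⟨fun hQ => ?_, ?_⟩⟩
  · obtain ⟨t, ht, rfl⟩ := x_quad hE hl hQ
    exact ⟨t, ht, x_class hE hl ht ht₀ hQ hE₀, rfl⟩
  · rintro ⟨t, ht, hc, rfl⟩
    obtain ⟨τ, hτ, hmem⟩ := quad_tri t ht
    obtain ⟨R, hR, hRE⟩ := x_cover hE hl hτ
    obtain ⟨t', ht', htR', htc'⟩ := tri_comp τ hτ R hR
    have hE' : (toSet t'.1).map Embedding.some ∈ E := htR' ▸ hRE
    have hcl := x_class hE hl ht' ht₀ hE' hE₀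
    have : R = (t.1, t.2.1) := tri_distinct τ hτ R hR _ hmem (by rw [← htc', hcl, hc])
    rw [this] at hRE
    exact hRE

end Stage1


/-- The 11-point set: the plane and two extra points `none`, `some none`. -/
abbrev P2 := Option (Option P)

/-- The standard `S(4,5,11)` with classes `i`, `j` attached to the two extra points. -/
def Std (i j : ℕ) (b : Finset P2) : Prop :=
  (∃ l, IsLine l ∧ b = sh11 l) ∨ (∃ Q, IsQuadC i Q ∧ b = sh10 Q) ∨
    (∃ Q, IsQuadC j Q ∧ b = sh01 Q) ∨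
      ∃ t ∈ quadN, t.2.1 ≠ i ∧ t.2.1 ≠ j ∧ b = sh00 (toSet t.2.2)

section Stage2

variable {D : Set (Finset P2)} (hD : IsSteinerSystem 4 5 D)
  (hl : ∀ l : Finset P, sh11 l ∈ D ↔ IsLine l)

include hD in
theorem d_unique {b b' : Finset P2} {S : Finset P2} (hb : b ∈ D) (hb' : b' ∈ D)
    (hS : S.card = 4) (h1 : S ⊆ b) (h2 : S ⊆ b') : b = b' := by
  obtain ⟨c, -, huniq⟩ := hD.2 S hS
  exact (huniq b ⟨hb, h1⟩).trans (huniq b' ⟨hb', h2⟩).symm

theorem card_quad {t : ℕ × ℕ × ℕ} (ht : t ∈ quadN) : (toSet t.1).card = 4 := by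
  rw [card_toSet]; exact (quad_bd t ht).2.2.2.2.2

theorem isQuadC_class {i : ℕ} {t : ℕ × ℕ × ℕ} (ht : t ∈ quadN) (h : IsQuadC i (toSet t.1)) :
    t.2.1 = i := by
  obtain ⟨t', ht', hc, he⟩ := h
  have := toSet_injOn (quad_bd t ht).1 (quad_bd t' ht').1 he
  rw [quad_unique t ht t' ht' this]
  exact hc

include hD hl in
theorem exists_i : ∃ i < 3, ∀ Q : Finset P, sh10 Q ∈ D ↔ IsQuadC i Q :=
  stage1 (isSteiner_derivedOpt hD) hl

include hD hl in
theorem exists_j : ∃ j < 3, ∀ Q : Finset P, sh01 Q ∈ D ↔ IsQuadC j Q := by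
  have h1 : IsSteinerSystem 3 4 (derivedOpt (mapSys sw D)) :=
    isSteiner_derivedOpt (isSteiner_mapSys sw hD)
  have h2 : ∀ l : Finset P, insertNone l ∈ derivedOpt (mapSys sw D) ↔ IsLine l := by
    intro l
    rw [← hl l, ← map_sw_sh11 l]
    rfl
  obtain ⟨j, hj, h⟩ := stage1 h1 h2
  refine ⟨j, hj, fun Q => ?_⟩
  rw [← h Q, ← map_sw_sh10 Q]
  rfl

variable {i j : ℕ} (hi : ∀ Q : Finset P, sh10 Q ∈ D ↔ IsQuadC i Q)
  (hj : ∀ Q : Finset P, sh01 Q ∈ D ↔ IsQuadC j Q)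

include hD hi hj in
theorem i_ne_j (hi3 : i < 3) : i ≠ j := by
  rintro rfl
  obtain ⟨t, ht, hc⟩ := class_nonempty i hi3
  have h1 : sh10 (toSet t.1) ∈ D := (hi _).mpr ⟨t, ht, hc, rfl⟩
  have h2 : sh01 (toSet t.1) ∈ D := (hj _).mpr ⟨t, ht, hc, rfl⟩
  have := d_unique hD h1 h2 (S := sh00 (toSet t.1)) (by rw [card_sh00, card_quad ht])
    (sh00_subset_iff.mpr (by simp)) (sh00_subset_iff.mpr (by simp))
  have h0 : none ∈ sh01 (toSet t.1) := this ▸ none_mem_sh10 _
  exact none_notMem_sh01 _ h0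

include hD hi in
theorem not_sh00_of_i {t : ℕ × ℕ × ℕ} (ht : t ∈ quadN) (hc : t.2.1 = i) {R : Finset P}
    (hR : sh00 R ∈ D) (hsub : toSet t.1 ⊆ R) : False := by
  have h1 : sh10 (toSet t.1) ∈ D := (hi _).mpr ⟨t, ht, hc, rfl⟩
  have := d_unique hD h1 hR (S := sh00 (toSet t.1)) (by rw [card_sh00, card_quad ht])
    (sh00_subset_iff.mpr (by simp)) (sh00_subset_iff.mpr (by simpa using hsub))
  have h0 : none ∈ sh00 R := this ▸ none_mem_sh10 _
  exact none_notMem_sh00 _ h0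

include hD hj in
theorem not_sh00_of_j {t : ℕ × ℕ × ℕ} (ht : t ∈ quadN) (hc : t.2.1 = j) {R : Finset P}
    (hR : sh00 R ∈ D) (hsub : toSet t.1 ⊆ R) : False := by
  have h1 : sh01 (toSet t.1) ∈ D := (hj _).mpr ⟨t, ht, hc, rfl⟩
  have := d_unique hD h1 hR (S := sh00 (toSet t.1)) (by rw [card_sh00, card_quad ht])
    (sh00_subset_iff.mpr (by simp)) (sh00_subset_iff.mpr (by simpa using hsub))
  have h0 : some none ∈ sh00 R := this ▸ snone_mem_sh01 _
  exact snone_notMem_sh00 _ h0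

include hD hl hi hj in
theorem cross_mem (hij : i ≠ j) (hi3 : i < 3) (hj3 : j < 3) {t : ℕ × ℕ × ℕ} (ht : t ∈ quadN)
    (hti : t.2.1 ≠ i) (htj : t.2.1 ≠ j) : sh00 (toSet t.2.2) ∈ D := by
  obtain ⟨ht1, ht3, ht2, htpop, htsub, -⟩ := quad_bd t ht
  obtain ⟨b, ⟨hb, hQb⟩, -⟩ := hD.2 (sh00 (toSet t.1)) (by rw [card_sh00, card_quad ht])
  rw [sh00_subset_iff] at hQb
  rcases shape_cases b with ⟨-, -, hb'⟩ | ⟨-, -, hb'⟩ | ⟨-, -, hb'⟩ | ⟨-, -, hb'⟩
  · exfalso
    rw [hb'] at hb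
    obtain ⟨m, hm, hme⟩ := (hl _).mp hb
    have := card_le_card hQb
    rw [card_quad ht, hme, card_toSet, (line_bd m hm).2] at this
    omega
  · exfalso
    rw [hb'] at hb
    have hq := (hi _).mp hb
    obtain ⟨t', ht', hc', he'⟩ := id hq
    have : toSet t.1 = core b := eq_of_subset_of_card_le hQb (by
      rw [he', card_quad ht, card_quad ht'])
    exact hti (isQuadC_class ht (this ▸ hq))
  · exfalso
    rw [hb'] at hb
    have hq := (hj _).mp hb
    obtain ⟨t', ht', hc', he'⟩ := id hq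
    have : toSet t.1 = core b := eq_of_subset_of_card_le hQb (by
      rw [he', card_quad ht, card_quad ht'])
    exact htj (isQuadC_class ht (this ▸ hq))
  · rw [hb'] at hb
    have hcard : (core b).card = 5 := by
      have := hD.1 _ hb
      rwa [card_sh00] at this
    obtain ⟨r, hr, hre⟩ := toSet_surj (core b)
    rw [← hre] at hb hQb hcard
    rw [card_toSet] at hcard
    rcases cross_forced t ht r (List.mem_range.mpr hr) hcard
      ((toSet_subset_iff ht1).mp hQb) with h | ⟨t', ht', hc', hsub'⟩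
    · rw [← h]; exact hb
    · exfalso
      have hsub'' : toSet t'.1 ⊆ toSet r := (toSet_subset_iff (quad_bd t' ht').1).mpr hsub'
      have ht'3 := (quad_bd t' ht').2.1
      have : t'.2.1 = i ∨ t'.2.1 = j := by omega
      rcases this with h | h
      · exact not_sh00_of_i hD hi ht' h hb hsub''
      · exact not_sh00_of_j hD hj ht' h hb hsub''

include hD hl hi hj in
theorem cross_of_mem (hij : i ≠ j) (hi3 : i < 3) (hj3 : j < 3) {R : Finset P}
    (hR : sh00 R ∈ D) : ∃ t ∈ quadN, t.2.1 ≠ i ∧ t.2.1 ≠ j ∧ R = toSet t.2.2 := by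
  have hcard : R.card = 5 := by
    have := hD.1 _ hR
    rwa [card_sh00] at this
  obtain ⟨r, hr, rfl⟩ := toSet_surj R
  rw [card_toSet] at hcard
  obtain ⟨t, ht, hsub⟩ := five_contains r (List.mem_range.mpr hr) hcard
  have hsub' : toSet t.1 ⊆ toSet r := (toSet_subset_iff (quad_bd t ht).1).mpr hsub
  have hti : t.2.1 ≠ i := fun h => not_sh00_of_i hD hi ht h hR hsub'
  have htj : t.2.1 ≠ j := fun h => not_sh00_of_j hD hj ht h hR hsub'
  refine ⟨t, ht, hti, htj, ?_⟩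
  have hc := cross_mem hD hl hi hj hij hi3 hj3 ht hti htj
  obtain ⟨ht1, -, -, -, htsub, -⟩ := quad_bd t ht
  have := d_unique hD hR hc (S := sh00 (toSet t.1)) (by rw [card_sh00, card_quad ht])
    (sh00_subset_iff.mpr (by simpa using hsub'))
    (sh00_subset_iff.mpr (by simpa using (toSet_subset_iff ht1).mpr htsub))
  exact sh00_injective this

include hD hl in
/-- Structure of an `S(4,5,11)` whose doubly derived design is the standard plane. -/
theorem stage2 : ∃ i < 3, ∃ j < 3, i ≠ j ∧ ∀ b, b ∈ D ↔ Std i j b := by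
  obtain ⟨i, hi3, hi⟩ := exists_i hD hl
  obtain ⟨j, hj3, hj⟩ := exists_j hD hl
  have hij := i_ne_j hD hi hj hi3
  refine ⟨i, hi3, j, hj3, hij, fun b => ⟨fun hb => ?_, ?_⟩⟩
  · rcases shape_cases b with ⟨-, -, hb'⟩ | ⟨-, -, hb'⟩ | ⟨-, -, hb'⟩ | ⟨-, -, hb'⟩
    · exact Or.inl ⟨core b, (hl _).mp (hb' ▸ hb), hb'⟩
    · exact Or.inr (Or.inl ⟨core b, (hi _).mp (hb' ▸ hb), hb'⟩)
    · exact Or.inr (Or.inr (Or.inl ⟨core b, (hj _).mp (hb' ▸ hb), hb'⟩))
    · obtain ⟨t, ht, hti, htj, he⟩ := cross_of_mem hD hl hi hj hij hi3 hj3 (hb' ▸ hb)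
      exact Or.inr (Or.inr (Or.inr ⟨t, ht, hti, htj, by rw [hb', he]⟩))
  · rintro (⟨l, hl', rfl⟩ | ⟨Q, hQ, rfl⟩ | ⟨Q, hQ, rfl⟩ | ⟨t, ht, hti, htj, rfl⟩)
    · exact (hl _).mpr hl'
    · exact (hi _).mpr hQ
    · exact (hj _).mpr hQ
    · exact cross_mem hD hl hi hj hij hi3 hj3 ht hti htj

end Stage2


section Maps

/-- The `n`-th linear map as a permutation of the plane. -/
def gP (n : Fin 6) : P ≃ P where
  toFun := gfun n
  invFun := ginv n
  left_inv x := (g_inv n x).1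
  right_inv x := (g_inv n x).2

theorem toSet_map_of_bits {m m' : ℕ} (g : P ≃ P)
    (h : ∀ x : P, m.testBit x = m'.testBit (g x)) :
    (toSet m).map g.toEmbedding = toSet m' := by
  ext y
  rw [mem_map_equiv, mem_toSet, mem_toSet, h (g.symm y), Equiv.apply_symm_apply]

theorem gP_line (n : Fin 6) {l : Finset P} (hl : IsLine l) :
    IsLine (l.map (gP n).toEmbedding) := by
  obtain ⟨m, hm, rfl⟩ := hl
  obtain ⟨m', hm', hbits⟩ := g_line n m hm
  exact ⟨m', hm', toSet_map_of_bits (gP n) hbits⟩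

theorem gP_quad (n : Fin 6) {i : ℕ} {Q : Finset P} (hQ : IsQuadC i Q) :
    IsQuadC (sfun n i) (Q.map (gP n).toEmbedding) := by
  obtain ⟨t, ht, rfl, rfl⟩ := hQ
  obtain ⟨t', ht', hc, hbits, -⟩ := g_quad n t ht
  exact ⟨t', ht', hc, toSet_map_of_bits (gP n) hbits⟩

theorem std_map (n : Fin 6) {i j : ℕ} (hi : i < 3) (hj : j < 3) {b : Finset P2}
    (hb : Std i j b) : Std (sfun n i) (sfun n j) (b.map (lift2 (gP n)).toEmbedding) := by
  rcases hb with ⟨l, hl, rfl⟩ | ⟨Q, hQ, rfl⟩ | ⟨Q, hQ, rfl⟩ | ⟨t, ht, hti, htj, rfl⟩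
  · exact Or.inl ⟨_, gP_line n hl, map_lift2_sh11 _ _⟩
  · exact Or.inr (Or.inl ⟨_, gP_quad n hQ, map_lift2_sh10 _ _⟩)
  · exact Or.inr (Or.inr (Or.inl ⟨_, gP_quad n hQ, map_lift2_sh01 _ _⟩))
  · obtain ⟨t', ht', hc, -, hbits⟩ := g_quad n t ht
    have ht3 := (quad_bd t ht).2.1
    refine Or.inr (Or.inr (Or.inr ⟨t', ht', ?_, ?_, ?_⟩))
    · rw [hc]; exact fun h => hti (s_inj n _ ht3 _ hi h)
    · rw [hc]; exact fun h => htj (s_inj n _ ht3 _ hj h)
    · rw [map_lift2_sh00, toSet_map_of_bits (gP n) hbits]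

end Maps

section Rigid

theorem std_sh11 {i j : ℕ} {R : Finset P} (h : Std i j (sh11 R)) : IsLine R := by
  rcases h with ⟨l, hl, he⟩ | ⟨Q, hQ, he⟩ | ⟨Q, hQ, he⟩ | ⟨t, ht, hti, htj, he⟩
  · rw [sh11_injective he]; exact hl
  · exact absurd (he ▸ snone_mem_sh11 R) (snone_notMem_sh10 Q)
  · exact absurd (he ▸ none_mem_sh11 R) (none_notMem_sh01 Q)
  · exact absurd (he ▸ none_mem_sh11 R) (none_notMem_sh00 _)

theorem std_sh10 {i j : ℕ} {R : Finset P} (h : Std i j (sh10 R)) : IsQuadC i R := by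
  rcases h with ⟨l, hl, he⟩ | ⟨Q, hQ, he⟩ | ⟨Q, hQ, he⟩ | ⟨t, ht, hti, htj, he⟩
  · exact absurd (he.symm ▸ snone_mem_sh11 l) (snone_notMem_sh10 R)
  · rw [sh10_injective he]; exact hQ
  · exact absurd (he ▸ none_mem_sh10 R) (none_notMem_sh01 Q)
  · exact absurd (he ▸ none_mem_sh10 R) (none_notMem_sh00 _)

theorem std_sh01 {i j : ℕ} {R : Finset P} (h : Std i j (sh01 R)) : IsQuadC j R := by
  rcases h with ⟨l, hl, he⟩ | ⟨Q, hQ, he⟩ | ⟨Q, hQ, he⟩ | ⟨t, ht, hti, htj, he⟩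
  · exact absurd (he.symm ▸ none_mem_sh11 l) (none_notMem_sh01 R)
  · exact absurd (he.symm ▸ none_mem_sh10 Q) (none_notMem_sh01 R)
  · rw [sh01_injective he]; exact hQ
  · exact absurd (he ▸ snone_mem_sh01 R) (snone_notMem_sh00 _)

theorem isQuadC_unique {a b : ℕ} {Q : Finset P} (ha : IsQuadC a Q) (hb : IsQuadC b Q) : a = b := by
  obtain ⟨t, ht, rfl, rfl⟩ := ha
  exact isQuadC_class ht hb

theorem line_eq_of_two {l l' : Finset P} (hl : IsLine l) (hl' : IsLine l') {a b : P}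
    (hab : a ≠ b) (ha : a ∈ l) (hb : b ∈ l) (ha' : a ∈ l') (hb' : b ∈ l') : l = l' := by
  obtain ⟨m, hm, rfl⟩ := hl
  obtain ⟨m', hm', rfl⟩ := hl'
  have hsub : ({a, b} : Finset P) ⊆ toSet (m &&& m') := by
    rw [toSet_land]
    intro x hx
    rcases mem_insert.mp hx with rfl | hx
    · exact mem_inter.mpr ⟨ha, ha'⟩
    · rw [mem_singleton.mp hx]; exact mem_inter.mpr ⟨hb, hb'⟩
  have := card_le_card hsub
  rw [card_pair hab, card_toSet] at this
  rw [line_unique m hm m' hm' this]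

theorem agree_third {φ ψ : P ≃ P} (hφ : ∀ l, IsLine l → IsLine (l.map φ.toEmbedding))
    (hψ : ∀ l, IsLine l → IsLine (l.map ψ.toEmbedding)) {m : ℕ} (hm : m ∈ lineN) {a b c : P}
    (habc : toSet m = {a, b, c}) (hab : a ≠ b) (hac : a ≠ c) (hbc : b ≠ c) (ha : φ a = ψ a)
    (hb : φ b = ψ b) : φ c = ψ c := by
  have hl : IsLine (toSet m) := ⟨m, hm, rfl⟩
  have hma : a ∈ toSet m := by rw [habc]; simp
  have hmb : b ∈ toSet m := by rw [habc]; simp
  have hmc : c ∈ toSet m := by rw [habc]; simp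
  have heq := line_eq_of_two (hφ _ hl) (hψ _ hl) (a := φ a) (b := φ b)
    (fun h => hab (φ.injective h)) (mem_map_of_mem _ hma) (mem_map_of_mem _ hmb)
    (by rw [ha]; exact mem_map_of_mem _ hma) (by rw [hb]; exact mem_map_of_mem _ hmb)
  have : φ c ∈ (toSet m).map ψ.toEmbedding := heq ▸ mem_map_of_mem _ hmc
  obtain ⟨x, hx, hxe⟩ := mem_map.mp this
  rw [habc] at hx
  simp only [mem_insert, mem_singleton] at hx
  change ψ x = φ c at hxe
  rcases hx with rfl | rfl | rfl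
  · exact absurd (φ.injective (hxe.symm.trans ha.symm)) (Ne.symm hac)
  · exact absurd (φ.injective (hxe.symm.trans hb.symm)) (Ne.symm hbc)
  · exact hxe.symm

theorem toSet_7 : toSet 7 = {0, 1, 2} := by decide +kernel
theorem toSet_73 : toSet 73 = {0, 3, 6} := by decide +kernel
theorem toSet_266 : toSet 266 = {1, 3, 8} := by decide +kernel
theorem toSet_84 : toSet 84 = {2, 6, 4} := by decide +kernel
theorem toSet_98 : toSet 98 = {1, 6, 5} := by decide +kernel
theorem toSet_140 : toSet 140 = {2, 3, 7} := by decide +kernel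

theorem collineation_ext {φ ψ : P ≃ P} (hφ : ∀ l, IsLine l → IsLine (l.map φ.toEmbedding))
    (hψ : ∀ l, IsLine l → IsLine (l.map ψ.toEmbedding)) (h0 : φ 0 = ψ 0) (h3 : φ 3 = ψ 3)
    (h1 : φ 1 = ψ 1) : φ = ψ := by
  have h2 := agree_third hφ hψ (m := 7) (by decide) toSet_7 (by decide) (by decide) (by decide)
    h0 h1
  have h6 := agree_third hφ hψ (m := 73) (by decide) toSet_73 (by decide) (by decide) (by decide)
    h0 h3
  have h8 := agree_third hφ hψ (m := 266) (by decide) toSet_266 (by decide) (by decide)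
    (by decide) h1 h3
  have h4 := agree_third hφ hψ (m := 84) (by decide) toSet_84 (by decide) (by decide) (by decide)
    h2 h6
  have h5 := agree_third hφ hψ (m := 98) (by decide) toSet_98 (by decide) (by decide) (by decide)
    h1 h6
  have h7 := agree_third hφ hψ (m := 140) (by decide) toSet_140 (by decide) (by decide)
    (by decide) h2 h3
  ext1 x
  fin_cases x <;> assumption

theorem refl_line (l : Finset P) (hl : IsLine l) : IsLine (l.map (Equiv.refl P).toEmbedding) := by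
  have : l.map (Equiv.refl P).toEmbedding = l := by ext; simp
  rwa [this]

/-- An automorphism of a standard `S(4,5,11)` fixing the four base points is the identity. -/
theorem rigid {i j : ℕ} (hi3 : i < 3) (hj3 : j < 3) (hij : i ≠ j) (h : P2 ≃ P2)
    (hpres : ∀ b, Std i j b → Std i j (b.map h.toEmbedding)) (h0 : h none = none)
    (h1 : h (some none) = some none) (h2 : h (some (some 0)) = some (some 0))
    (h3 : h (some (some 3)) = some (some 3)) : h = Equiv.refl _ := by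
  obtain ⟨φ, rfl⟩ := exists_lift2 h h0 h1
  have hφ0 : φ 0 = 0 := by simpa using h2
  have hφ3 : φ 3 = 3 := by simpa using h3
  have hφ : ∀ l, IsLine l → IsLine (l.map φ.toEmbedding) := by
    intro l hl
    have := hpres _ (Or.inl ⟨l, hl, rfl⟩)
    rw [map_lift2_sh11] at this
    exact std_sh11 this
  have hφ6 : φ 6 = 6 := agree_third hφ refl_line (m := 73) (by decide) toSet_73 (by decide)
    (by decide) (by decide) hφ0 hφ3
  obtain ⟨n, hn⟩ := g_reach (φ 1) (fun h => by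
      have := φ.injective (h.trans hφ0.symm); exact absurd this (by decide))
    (fun h => by have := φ.injective (h.trans hφ3.symm); exact absurd this (by decide))
    (fun h => by have := φ.injective (h.trans hφ6.symm); exact absurd this (by decide))
  have hφn : φ = gP n := collineation_ext hφ (fun l hl => gP_line n hl)
    (hφ0.trans (g_fix n).1.symm) (hφ3.trans (g_fix n).2.symm) hn.symm
  have hsi : sfun n i = i := by
    obtain ⟨t, ht, hc⟩ := class_nonempty i hi3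
    have hq : IsQuadC i (toSet t.1) := ⟨t, ht, hc, rfl⟩
    have := hpres _ (Or.inr (Or.inl ⟨_, hq, rfl⟩))
    rw [map_lift2_sh10, hφn] at this
    exact isQuadC_unique (gP_quad n hq) (std_sh10 this)
  have hsj : sfun n j = j := by
    obtain ⟨t, ht, hc⟩ := class_nonempty j hj3
    have hq : IsQuadC j (toSet t.1) := ⟨t, ht, hc, rfl⟩
    have := hpres _ (Or.inr (Or.inr (Or.inl ⟨_, hq, rfl⟩)))
    rw [map_lift2_sh01, hφn] at this
    exact isQuadC_unique (gP_quad n hq) (std_sh01 this)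
  have hn0 := s_rigid n i hi3 j hj3 hij hsi hsj
  subst hn0
  have : φ = Equiv.refl P := by
    rw [hφn]
    ext1 x
    exact g_zero x
  rw [this]
  ext1 o
  rcases o with _ | _ | x <;> rfl

end Rigid

end Cfsg.Agent.Helper4.M11Design
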