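import Mathlib
import Cfsg.Agent.Helper4.M11Design

/-!
# Coordinates on a Steiner triple system with 9 points
-/

set_option autoImplicit false
set_option linter.unusedSectionVars false
set_option linter.unusedVariables false

namespace Cfsg.Agent.Helper4.Sts9

open Finset Cfsg Function Cfsg.Agent.Helper4.Ag23 Cfsg.Agent.Helper4.M11Design

variable {γ : Type*} [Fintype γ] [DecidableEq γ] {L : Set (Finset γ)}

section Basic

variable (hL : IsSteinerSystem 2 3 L)

include hL in
theorem line_unique {l l' : Finset γ} (hl : l ∈ L) (hl' : l' ∈ L) {x y : γ} (hxy : x ≠ y)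
    (hx : x ∈ l) (hy : y ∈ l) (hx' : x ∈ l') (hy' : y ∈ l') : l = l' := by
  obtain ⟨c, -, huniq⟩ := hL.2 {x, y} (card_pair hxy)
  have hs : ({x, y} : Finset γ) ⊆ l := by simp [insert_subset_iff, hx, hy]
  have hs' : ({x, y} : Finset γ) ⊆ l' := by simp [insert_subset_iff, hx', hy']
  exact (huniq l ⟨hl, hs⟩).trans (huniq l' ⟨hl', hs'⟩).symm

include hL in
theorem exists_third {x y : γ} (hxy : x ≠ y) :
    ∃ z, z ≠ x ∧ z ≠ y ∧ ({x, y, z} : Finset γ) ∈ L := by
  obtain ⟨b, ⟨hb, hsub⟩, -⟩ := hL.2 {x, y} (card_pair hxy)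
  have hx : x ∈ b := hsub (by simp)
  have hy : y ∈ b := hsub (by simp)
  have hcard := hL.1 b hb
  have h1 : ((b.erase x).erase y).card = 1 := by
    rw [card_erase_of_mem (mem_erase.mpr ⟨hxy.symm, hy⟩), card_erase_of_mem hx, hcard]
  obtain ⟨z, hz⟩ := card_eq_one.mp h1
  have hzm : z ∈ (b.erase x).erase y := by rw [hz]; exact mem_singleton_self z
  have hzy : z ≠ y := (mem_erase.mp hzm).1
  have hzx : z ≠ x := (mem_erase.mp (mem_erase.mp hzm).2).1
  refine ⟨z, hzx, hzy, ?_⟩
  have : ({x, y, z} : Finset γ) = b := by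
    rw [← hz, insert_erase (mem_erase.mpr ⟨hxy.symm, hy⟩), insert_erase hx]
  rw [this]; exact hb

/-- The third point on the line through two points. -/
noncomputable def th (x y : γ) : γ :=
  if h : x = y then x else (exists_third hL h).choose

variable {hL}

theorem th_spec {x y : γ} (hxy : x ≠ y) :
    th hL x y ≠ x ∧ th hL x y ≠ y ∧ ({x, y, th hL x y} : Finset γ) ∈ L := by
  unfold th
  rw [dif_neg hxy]
  exact (exists_third hL hxy).choose_spec

theorem th_unique {x y z : γ} (hxy : x ≠ y) (hzx : z ≠ x) (hzy : z ≠ y)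
    (h : ({x, y, z} : Finset γ) ∈ L) : th hL x y = z := by
  obtain ⟨h1, h2, h3⟩ := th_spec (hL := hL) hxy
  have := line_unique hL h3 h hxy (by simp) (by simp) (by simp) (by simp)
  have hm : th hL x y ∈ ({x, y, z} : Finset γ) := by rw [← this]; simp
  simp only [mem_insert, mem_singleton] at hm
  rcases hm with h | h | h
  · exact absurd h h1
  · exact absurd h h2
  · exact h

theorem th_comm {x y : γ} (hxy : x ≠ y) : th hL x y = th hL y x := by
  obtain ⟨h1, h2, h3⟩ := th_spec (hL := hL) hxy.symm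
  apply th_unique hxy h2 h1
  rwa [show ({x, y, th hL y x} : Finset γ) = {y, x, th hL y x} by
    ext; simp only [mem_insert, mem_singleton]; tauto]

theorem th_th {x y : γ} (hxy : x ≠ y) : th hL x (th hL x y) = y := by
  obtain ⟨h1, h2, h3⟩ := th_spec (hL := hL) hxy
  apply th_unique h1.symm hxy.symm h2.symm
  rwa [show ({x, th hL x y, y} : Finset γ) = {x, y, th hL x y} by
    ext; simp only [mem_insert, mem_singleton]; tauto]

theorem th_inj {x y z : γ} (hxy : x ≠ y) (hxz : x ≠ z) (h : th hL x y = th hL x z) : y = z := by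
  rw [← th_th (hL := hL) hxy, h, th_th hxz]

theorem th_swap {x y z : γ} (hxy : x ≠ y) (h : th hL x y = z) : th hL x z = y := by
  rw [← h, th_th hxy]

theorem th_rot {x y z : γ} (hxy : x ≠ y) (h : th hL x y = z) : th hL y z = x := by
  obtain ⟨h1, h2, h3⟩ := th_spec (hL := hL) hxy
  rw [h] at h1 h2 h3
  apply th_unique h2.symm hxy h1.symm
  rwa [show ({y, z, x} : Finset γ) = {x, y, z} by
    ext; simp only [mem_insert, mem_singleton]; tauto]

theorem mem_line_iff {x y : γ} (hxy : x ≠ y) {l : Finset γ} (hl : l ∈ L) (hx : x ∈ l) (hy : y ∈ l) :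
    l = {x, y, th hL x y} := by
  obtain ⟨h1, h2, h3⟩ := th_spec (hL := hL) hxy
  exact line_unique hL hl h3 hxy hx hy (by simp) (by simp)

end Basic


section Four

variable (hL : IsSteinerSystem 2 3 L) (hγ : Fintype.card γ = 9)

include hL in
theorem inter_eq {x : γ} {l l' : Finset γ} (hl : l ∈ L) (hl' : l' ∈ L) (hne : l ≠ l')
    (hx : x ∈ l) (hx' : x ∈ l') : l ∩ l' = {x} := by
  ext y
  rw [mem_inter, mem_singleton]
  constructor
  · rintro ⟨hy, hy'⟩
    by_contra hyx
    exact hne (line_unique hL hl hl' (Ne.symm hyx) hx hy hx' hy')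
  · rintro rfl
    exact ⟨hx, hx'⟩

include hL hγ in
/-- Three lines through a point of a 9-point Steiner triple system: the two remaining points form
the fourth line through it. -/
theorem four {x : γ} {l₁ l₂ l₃ : Finset γ} (h₁ : l₁ ∈ L) (h₂ : l₂ ∈ L) (h₃ : l₃ ∈ L)
    (hx₁ : x ∈ l₁) (hx₂ : x ∈ l₂) (hx₃ : x ∈ l₃) (h₁₂ : l₁ ≠ l₂) (h₁₃ : l₁ ≠ l₃) (h₂₃ : l₂ ≠ l₃) :
    insert x (l₁ ∪ l₂ ∪ l₃)ᶜ ∈ L := by
  have hc12 : (l₁ ∪ l₂).card = 5 := by
    have := card_union_add_card_inter l₁ l₂
    rw [inter_eq hL h₁ h₂ h₁₂ hx₁ hx₂, card_singleton, hL.1 _ h₁, hL.1 _ h₂] at this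
    omega
  have hc : (l₁ ∪ l₂ ∪ l₃).card = 7 := by
    have := card_union_add_card_inter (l₁ ∪ l₂) l₃
    rw [union_inter_distrib_right, inter_eq hL h₁ h₃ h₁₃ hx₁ hx₃, inter_eq hL h₂ h₃ h₂₃ hx₂ hx₃,
      union_self, card_singleton, hc12, hL.1 _ h₃] at this
    omega
  have hcc : (l₁ ∪ l₂ ∪ l₃)ᶜ.card = 2 := by
    rw [card_compl, hc, hγ]
  obtain ⟨u, v, huv, hC⟩ := card_eq_two.mp hcc
  have hu : u ∈ (l₁ ∪ l₂ ∪ l₃)ᶜ := by rw [hC]; simp
  have hxU : x ∈ l₁ ∪ l₂ ∪ l₃ := by simp [hx₁]
  have hxu : x ≠ u := by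
    rintro rfl
    exact (mem_compl.mp hu) hxU
  obtain ⟨hw1, hw2, hw3⟩ := th_spec (hL := hL) hxu
  set w := th hL x u with hw
  have key : ∀ l ∈ L, x ∈ l → l ⊆ l₁ ∪ l₂ ∪ l₃ → w ∉ l := by
    intro l hl hxl hsub hwl
    have := line_unique hL hl hw3 hw1.symm hxl hwl (by simp) (by simp)
    have hul : u ∈ l := by rw [this]; simp
    exact (mem_compl.mp hu) (hsub hul)
  have hwC : w ∈ (l₁ ∪ l₂ ∪ l₃)ᶜ := by
    rw [mem_compl]
    intro hwU
    rcases mem_union.mp hwU with h | h
    · rcases mem_union.mp h with h | h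
      · exact key l₁ h₁ hx₁ (fun y hy => by simp [hy]) h
      · exact key l₂ h₂ hx₂ (fun y hy => by simp [hy]) h
    · exact key l₃ h₃ hx₃ (fun y hy => by simp [hy]) h
  rw [hC] at hwC ⊢
  have hwv : w = v := by
    rcases mem_insert.mp hwC with h | h
    · exact absurd h hw2
    · exact mem_singleton.mp h
  rw [← hwv]
  exact hw3

include hL hγ in
theorem cd_ne {o a b : γ} (hoa : o ≠ a) (hob : o ≠ b) (hab : a ≠ b) (hba' : b ≠ th hL o a) :
    th hL a b ≠ th hL (th hL o a) (th hL o b) := by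
  obtain ⟨ha'o, ha'a, hla⟩ := th_spec (hL := hL) hoa
  obtain ⟨hb'o, hb'b, hlb⟩ := th_spec (hL := hL) hob
  set a' := th hL o a with ha'
  set b' := th hL o b with hb'
  have hb'a : b' ≠ a := fun h => hba' ((th_swap hob h).symm.trans rfl)
  have ha'b' : a' ≠ b' := fun h => hab (th_inj hoa hob h)
  obtain ⟨hza, hzb, hlz⟩ := th_spec (hL := hL) hab
  obtain ⟨hza', hzb', hlz'⟩ := th_spec (hL := hL) ha'b'
  intro hcd
  rw [← hcd] at hza' hzb' hlz'
  set z := th hL a b with hz
  have hzo : z ≠ o := by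
    intro h
    have h1 : th hL a o = b := th_swap hab h
    rw [← th_comm hoa] at h1
    exact hba' h1.symm
  obtain ⟨hwo, hwz, hlw⟩ := th_spec (hL := hL) hzo.symm
  set w := th hL o z with hw
  have hwa : w ≠ a := fun h => hza' ((th_swap hzo.symm h).symm ▸ rfl)
  have hwa' : w ≠ a' := by
    intro h
    have : th hL o a' = z := th_swap hzo.symm h
    rw [ha', th_th hoa] at this
    exact hza this.symm
  have hwb : w ≠ b := fun h => hzb' ((th_swap hzo.symm h).symm ▸ rfl)
  have hoz : ({o, z, w} : Finset γ) = {z, o, w} := insert_comm _ _ _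
  have e1 : ({a, b, z} : Finset γ) = {z, a, b} := by
    ext; simp only [mem_insert, mem_singleton]; tauto
  have e2 : ({a', b', z} : Finset γ) = {z, a', b'} := by
    ext; simp only [mem_insert, mem_singleton]; tauto
  rw [e1] at hlz
  rw [e2] at hlz'
  rw [hoz] at hlw
  have n12 : ({z, a, b} : Finset γ) ≠ {z, a', b'} := by
    intro h
    have : a ∈ ({z, a', b'} : Finset γ) := by rw [← h]; simp
    simp only [mem_insert, mem_singleton] at this
    rcases this with h | h | h
    · exact hza h.symm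
    · exact ha'a h.symm
    · exact hb'a h.symm
  have n13 : ({z, a, b} : Finset γ) ≠ {z, o, w} := by
    intro h
    have : a ∈ ({z, o, w} : Finset γ) := by rw [← h]; simp
    simp only [mem_insert, mem_singleton] at this
    rcases this with h | h | h
    · exact hza h.symm
    · exact hoa h.symm
    · exact hwa h.symm
  have n23 : ({z, a', b'} : Finset γ) ≠ {z, o, w} := by
    intro h
    have : a' ∈ ({z, o, w} : Finset γ) := by rw [← h]; simp
    simp only [mem_insert, mem_singleton] at this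
    rcases this with h | h | h
    · exact hza' h.symm
    · exact ha'o h
    · exact hwa' h.symm
  have f1 := four hL hγ hlz hlz' hlw (x := z) (by simp) (by simp) (by simp) n12 n13 n23
  have hlw' : ({o, z, w} : Finset γ) ∈ L := hoz ▸ hlw
  have m12 : ({o, a, a'} : Finset γ) ≠ {o, b, b'} := by
    intro h
    have : a ∈ ({o, b, b'} : Finset γ) := by rw [← h]; simp
    simp only [mem_insert, mem_singleton] at this
    rcases this with h | h | h
    · exact hoa h.symm
    · exact hab h
    · exact hb'a h.symm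
  have m13 : ({o, a, a'} : Finset γ) ≠ {o, z, w} := by
    intro h
    have : a ∈ ({o, z, w} : Finset γ) := by rw [← h]; simp
    simp only [mem_insert, mem_singleton] at this
    rcases this with h | h | h
    · exact hoa h.symm
    · exact hza h.symm
    · exact hwa h.symm
  have m23 : ({o, b, b'} : Finset γ) ≠ {o, z, w} := by
    intro h
    have : b ∈ ({o, z, w} : Finset γ) := by rw [← h]; simp
    simp only [mem_insert, mem_singleton] at this
    rcases this with h | h | h
    · exact hob h.symm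
    · exact hzb h.symm
    · exact hwb h.symm
  have f2 := four hL hγ hla hlb hlw' (x := o) (by simp) (by simp) (by simp) m12 m13 m23
  have hU : ({z, a, b} ∪ {z, a', b'} ∪ {z, o, w} : Finset γ) =
      {o, a, a'} ∪ {o, b, b'} ∪ {o, z, w} := by
    apply Subset.antisymm <;> intro y hy <;>
      simp only [mem_union, mem_insert, mem_singleton] at hy ⊢ <;>
      rcases hy with ((h | h | h) | (h | h | h)) | (h | h | h) <;> simp [h]
  rw [hU] at f1
  set C := ({o, a, a'} ∪ {o, b, b'} ∪ {o, z, w} : Finset γ)ᶜ with hCdef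
  have hcc : C.card = 2 := by
    have h3 := hL.1 _ f2
    have : o ∉ C := by rw [hCdef, mem_compl]; simp
    rw [card_insert_of_notMem this] at h3
    omega
  obtain ⟨u, v, huv, hC⟩ := card_eq_two.mp hcc
  have := line_unique hL f1 f2 huv (by rw [hC]; simp) (by rw [hC]; simp) (by rw [hC]; simp)
    (by rw [hC]; simp)
  have hzm : z ∈ insert o C := by rw [← this]; simp
  rcases mem_insert.mp hzm with h | h
  · exact hzo h
  · rw [hCdef, mem_compl] at h
    exact h (by simp)

end Four


section Coord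

variable (hL : IsSteinerSystem 2 3 L) (hγ : Fintype.card γ = 9)

include hL hγ in
theorem closure_step (F : P ≃ γ) {p : P} {m₁ m₂ m₃ m₄ : ℕ}
    (h₁ : (toSet m₁).map F.toEmbedding ∈ L) (h₂ : (toSet m₂).map F.toEmbedding ∈ L)
    (h₃ : (toSet m₃).map F.toEmbedding ∈ L)
    (hdec : p ∈ toSet m₁ ∧ p ∈ toSet m₂ ∧ p ∈ toSet m₃ ∧ toSet m₁ ≠ toSet m₂ ∧
      toSet m₁ ≠ toSet m₃ ∧ toSet m₂ ≠ toSet m₃ ∧
      ∀ q : P, q ∈ toSet m₄ ↔ q = p ∨ (q ∉ toSet m₁ ∧ q ∉ toSet m₂ ∧ q ∉ toSet m₃)) :
    (toSet m₄).map F.toEmbedding ∈ L := by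
  obtain ⟨hp₁, hp₂, hp₃, n₁₂, n₁₃, n₂₃, hm₄⟩ := hdec
  have := four hL hγ h₁ h₂ h₃ (x := F p) (mem_map_of_mem _ hp₁) (mem_map_of_mem _ hp₂)
    (mem_map_of_mem _ hp₃) (fun h => n₁₂ (map_injective _ h)) (fun h => n₁₃ (map_injective _ h))
    (fun h => n₂₃ (map_injective _ h))
  convert this using 1
  ext y
  obtain ⟨q, rfl⟩ := F.surjective y
  have hm : ∀ m, F q ∈ (toSet m).map F.toEmbedding ↔ q ∈ toSet m := fun m => by
    rw [mem_map_equiv, Equiv.symm_apply_apply]
  rw [hm, hm₄ q, mem_insert, mem_compl, mem_union, mem_union, hm, hm, hm,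
    EmbeddingLike.apply_eq_iff_eq]
  tauto


theorem exists_equiv_of_nodup (hγ : Fintype.card γ = 9) (l : List γ) (hl : l.length = 9)
    (hnd : l.Nodup) : ∃ F : P ≃ γ, ∀ p : P, F p = l.get (p.cast hl.symm) := by
  have hinj : Function.Injective (fun p : P => l.get (p.cast hl.symm)) := by
    intro p q hpq
    have := (List.Nodup.get_inj_iff hnd).mp hpq
    exact Fin.cast_injective _ this
  have hbij : Function.Bijective (fun p : P => l.get (p.cast hl.symm)) :=
    (Fintype.bijective_iff_injective_and_card _).mpr ⟨hinj, by rw [Fintype.card_fin, hγ]⟩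
  exact ⟨Equiv.ofBijective _ hbij, fun p => rfl⟩

theorem two_on_line : ∀ p q : P, p ≠ q → ∃ m ∈ lineN, m.testBit p = true ∧ m.testBit q = true := by
  decide +kernel

include hL hγ in
/-- Coordinates on a Steiner triple system with 9 points, adapted to a triangle. -/
theorem sts9_coord {o e₁ e₂ : γ} (h01 : o ≠ e₁) (h2 : ∀ l ∈ L, o ∈ l → e₁ ∈ l → e₂ ∉ l) :
    ∃ f : γ ≃ P, f o = 0 ∧ f e₁ = 3 ∧ f e₂ = 1 ∧
      ∀ l, l ∈ L ↔ IsLine (l.map f.toEmbedding) := by
  -- rename
  obtain ⟨ha'o, ha'a, hla⟩ := th_spec (hL := hL) h01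
  have hbl := h2 _ hla (by simp) (by simp)
  simp only [mem_insert, mem_singleton, not_or] at hbl
  obtain ⟨hbo, hba, hba'⟩ := hbl
  set a := e₁ with ha
  set b := e₂ with hb
  set a' := th hL o a with ha'
  have hob : o ≠ b := Ne.symm hbo
  have hab : a ≠ b := Ne.symm hba
  obtain ⟨hb'o, hb'b, hlb⟩ := th_spec (hL := hL) hob
  set b' := th hL o b with hb'
  have hb'a : b' ≠ a := fun h => hba' (th_swap hob h).symm
  have ha'b' : a' ≠ b' := fun h => hab (th_inj h01 hob h)
  have hab' : a ≠ b' := Ne.symm hb'a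
  have ha'b : a' ≠ b := Ne.symm hba'
  -- the four other points
  obtain ⟨hca, hcb, hlc⟩ := th_spec (hL := hL) hab
  set c := th hL a b with hc
  obtain ⟨hda', hdb', hld⟩ := th_spec (hL := hL) ha'b'
  set d := th hL a' b' with hd
  obtain ⟨hea, heb', hle⟩ := th_spec (hL := hL) hab'
  set e := th hL a b' with he
  obtain ⟨hfa', hfb, hlf⟩ := th_spec (hL := hL) ha'b
  set f := th hL a' b with hf
  -- useful values
  have tao : th hL a o = a' := (th_comm h01).symm
  have tbo : th hL b o = b' := (th_comm hob).symm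
  have ta'o : th hL a' o = a := by rw [← th_comm ha'o.symm, ha', th_th h01]
  have tb'o : th hL b' o = b := by rw [← th_comm hb'o.symm, hb', th_th hob]
  have tba : th hL b a = c := (th_comm hab).symm
  have tb'a' : th hL b' a' = d := (th_comm ha'b').symm
  have tb'a : th hL b' a = e := (th_comm hab').symm
  have tba' : th hL b a' = f := (th_comm ha'b).symm
  -- distinctness
  have hco : c ≠ o := fun h => hba' ((th_swap hab h).symm.trans tao)
  have hca' : c ≠ a' := fun h => hbo (th_inj hab h01.symm (h.trans tao.symm))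
  have hcb' : c ≠ b' := fun h => h01 (th_inj hab.symm hob.symm (tba.trans (h.trans tbo.symm))).symm
  have hdo : d ≠ o := fun h => hb'a ((th_swap ha'b' h).symm.trans ta'o)
  have hda : d ≠ a := fun h => hb'o (th_inj ha'b' ha'o (h.trans ta'o.symm))
  have hdb : d ≠ b := fun h =>
    ha'o (th_inj ha'b'.symm hb'o (tb'a'.trans (h.trans tb'o.symm)))
  have heo : e ≠ o := fun h => ha'b' ((th_swap hab' h).symm.trans tao).symm
  have hea' : e ≠ a' := fun h => hb'o (th_inj hab' h01.symm (h.trans tao.symm))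
  have heb : e ≠ b := fun h => h01 (th_inj hab'.symm hb'o (tb'a.trans (h.trans tb'o.symm))).symm
  have hfo : f ≠ o := fun h => hab ((th_swap ha'b h).symm.trans ta'o).symm
  have hfa : f ≠ a := fun h => hbo (th_inj ha'b ha'o (h.trans ta'o.symm))
  have hfb' : f ≠ b' := fun h =>
    ha'o (th_inj ha'b.symm hob.symm (tba'.trans (h.trans tbo.symm)))
  have hce : c ≠ e := fun h => hb'b (th_inj hab hab' h).symm
  have hcf : c ≠ f := fun h => ha'a (th_inj hab.symm ha'b.symm (tba.trans (h.trans tba'.symm))).symm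
  have hde : d ≠ e := fun h =>
    ha'a (th_inj ha'b'.symm hab'.symm (tb'a'.trans (h.trans tb'a.symm)))
  have hdf : d ≠ f := fun h => hb'b (th_inj ha'b' ha'b h)
  have hcd : c ≠ d := cd_ne hL hγ h01 hob hab hba'
  have hef : e ≠ f := by
    have := cd_ne hL hγ h01 hb'o.symm hab' (Ne.symm ha'b')
    rwa [← th_comm hb'o, tb'o] at this
  have hnd : [o, b, b', a, d, f, a', e, c].Nodup := by
    simp only [List.nodup_cons, List.mem_cons, List.not_mem_nil, or_false, not_or,
      List.nodup_nil, and_true, not_false_eq_true]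
    exact ⟨⟨hob, hb'o.symm, h01, hdo.symm, hfo.symm, ha'o.symm, heo.symm, hco.symm⟩,
      ⟨hb'b.symm, hba, hdb.symm, hfb.symm, hba', heb.symm, hcb.symm⟩,
      ⟨hb'a, hdb'.symm, hfb'.symm, ha'b'.symm, heb'.symm, hcb'.symm⟩,
      ⟨hda.symm, hfa.symm, ha'a.symm, hea.symm, hca.symm⟩,
      ⟨hdf, hda', hde, hcd.symm⟩, ⟨hfa', hef.symm, hcf.symm⟩, ⟨hea'.symm, hca'.symm⟩, hce.symm⟩
  obtain ⟨F, hF⟩ := exists_equiv_of_nodup hγ _ rfl hnd
  have F0 : F 0 = o := hF 0
  have F1 : F 1 = b := hF 1
  have F2 : F 2 = b' := hF 2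
  have F3 : F 3 = a := hF 3
  have F4 : F 4 = d := hF 4
  have F5 : F 5 = f := hF 5
  have F6 : F 6 = a' := hF 6
  have F7 : F 7 = e := hF 7
  have F8 : F 8 = c := hF 8
  -- the six lines known by construction
  have l7 : (toSet 7).map F.toEmbedding ∈ L := by
    rw [toSet_7]
    simp only [map_insert, map_singleton, Equiv.coe_toEmbedding, F0, F1, F2]
    exact hlb
  have l73 : (toSet 73).map F.toEmbedding ∈ L := by
    rw [toSet_73]
    simp only [map_insert, map_singleton, Equiv.coe_toEmbedding, F0, F3, F6]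
    exact hla
  have l266 : (toSet 266).map F.toEmbedding ∈ L := by
    rw [toSet_266]
    simp only [map_insert, map_singleton, Equiv.coe_toEmbedding, F1, F3, F8]
    rw [insert_comm]
    exact hlc
  have l84 : (toSet 84).map F.toEmbedding ∈ L := by
    rw [toSet_84]
    simp only [map_insert, map_singleton, Equiv.coe_toEmbedding, F2, F6, F4]
    rw [insert_comm]
    exact hld
  have l98 : (toSet 98).map F.toEmbedding ∈ L := by
    rw [toSet_98]
    simp only [map_insert, map_singleton, Equiv.coe_toEmbedding, F1, F6, F5]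
    rw [insert_comm]
    exact hlf
  have l140 : (toSet 140).map F.toEmbedding ∈ L := by
    rw [toSet_140]
    simp only [map_insert, map_singleton, Equiv.coe_toEmbedding, F2, F3, F7]
    rw [insert_comm]
    exact hle
  -- the other six by closure
  have l56 : (toSet 56).map F.toEmbedding ∈ L :=
    closure_step hL hγ F (p := 3) l73 l266 l140 (by decide +kernel)
  have l448 : (toSet 448).map F.toEmbedding ∈ L :=
    closure_step hL hγ F (p := 6) l73 l84 l98 (by decide +kernel)
  have l146 : (toSet 146).map F.toEmbedding ∈ L :=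
    closure_step hL hγ F (p := 1) l7 l266 l98 (by decide +kernel)
  have l292 : (toSet 292).map F.toEmbedding ∈ L :=
    closure_step hL hγ F (p := 2) l7 l84 l140 (by decide +kernel)
  have l273 : (toSet 273).map F.toEmbedding ∈ L :=
    closure_step hL hγ F (p := 8) l266 l448 l292 (by decide +kernel)
  have l161 : (toSet 161).map F.toEmbedding ∈ L :=
    closure_step hL hγ F (p := 7) l140 l448 l146 (by decide +kernel)
  have hall : ∀ m ∈ lineN, (toSet m).map F.toEmbedding ∈ L := by
    intro m hm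
    simp only [lineN, List.mem_cons, List.not_mem_nil, or_false] at hm
    rcases hm with rfl | rfl | rfl | rfl | rfl | rfl | rfl | rfl | rfl | rfl | rfl | rfl <;>
      assumption
  refine ⟨F.symm, ?_, ?_, ?_, fun l => ⟨fun hl => ?_, ?_⟩⟩
  · rw [← F0, Equiv.symm_apply_apply]
  · rw [← F3, Equiv.symm_apply_apply]
  · rw [← F1, Equiv.symm_apply_apply]
  · have hcard := hL.1 l hl
    obtain ⟨x, hx, y, hy, hxy⟩ := one_lt_card.mp (by omega : 1 < l.card)
    obtain ⟨m, hm, hmx, hmy⟩ := two_on_line (F.symm x) (F.symm y)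
      (fun h => hxy (F.symm.injective h))
    have hx' : x ∈ (toSet m).map F.toEmbedding := by
      rw [mem_map_equiv, mem_toSet]; exact hmx
    have hy' : y ∈ (toSet m).map F.toEmbedding := by
      rw [mem_map_equiv, mem_toSet]; exact hmy
    have := line_unique hL hl (hall m hm) hxy hx hy hx' hy'
    refine ⟨m, hm, ?_⟩
    rw [this]
    ext q
    simp
  · rintro ⟨m, hm, hme⟩
    have : l = (toSet m).map F.toEmbedding := by
      rw [← hme]
      ext q
      simp
    rw [this]
    exact hall m hm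

end Coord

end Cfsg.Agent.Helper4.Sts9
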