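import Mathlib
import Cfsg.Agent.Helper4.Sts9
import Cfsg.Agent.Helper4.M11Simple

/-!
# Rigid uniqueness of the Steiner system `S(4,5,11)`
-/

set_option autoImplicit false
set_option linter.unusedSectionVars false
set_option linter.unusedVariables false

namespace Cfsg.Agent.Helper4.M11Rigid

open Finset Cfsg Function Cfsg.Agent.Helper4.SteinerOpt Cfsg.Agent.Helper4.Ag23
  Cfsg.Agent.Helper4.M11Design Cfsg.Agent.Helper4.Sts9

section Aut

open scoped Pointwise

theorem mem_aut_iff {α : Type*} [DecidableEq α] (B : Set (Finset α)) (g : Equiv.Perm α) :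
    g ∈ setSystemAut B ↔ ∀ b, b ∈ B ↔ b.map g.toEmbedding ∈ B := by
  have hsm : ∀ l : Finset α, g • l = l.map g.toEmbedding := fun l => by
    rw [Finset.map_eq_image]; rfl
  rw [MulAction.mem_stabilizer_iff]
  constructor
  · intro hg l
    constructor
    · intro hl
      rw [← hsm, ← hg]
      exact Set.smul_mem_smul_set hl
    · intro hl
      rw [← hsm, ← hg] at hl
      obtain ⟨l', hl', e⟩ := hl
      have : l' = l := smul_left_cancel g e
      rw [← this]
      exact hl'
  · intro hg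
    ext m
    rw [Set.mem_smul_set_iff_inv_smul_mem, hg, ← hsm, smul_inv_smul]

end Aut

section Coord

variable {α : Type*} [Fintype α] [DecidableEq α]

theorem mapSys_trans {β γ : Type*} (e : α ≃ β) (g : β ≃ γ) (B : Set (Finset α)) :
    mapSys (e.trans g) B = mapSys g (mapSys e B) := by
  ext c
  unfold mapSys
  simp only [Set.mem_ofPred_eq]
  rw [Finset.map_map]
  rfl

/-- The four base points of the standard model. -/
def base : Fin 4 ↪ P2 :=
  ⟨![none, some none, some (some 0), some (some 3)], by decide⟩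

theorem card_P2 : Fintype.card P2 = 11 := by
  simp [Fintype.card_option]

/-- Coordinates on an `S(4,5,11)` adapted to four given points. -/
theorem coord11 (hα : Fintype.card α = 11) {B : Set (Finset α)} (hB : IsSteinerSystem 4 5 B)
    (x : Fin 4 ↪ α) :
    ∃ κ : α ≃ P2, (∀ i, κ (x i) = base i) ∧ ∀ l : Finset P, sh11 l ∈ mapSys κ B ↔ IsLine l := by
  obtain ⟨e₀, he₀⟩ := exists_equiv_extending x base
    ⟨Fintype.equivOfCardEq (hα.trans card_P2.symm)⟩
  have hB₀ := isSteiner_mapSys e₀ hB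
  set B₀ := mapSys e₀ B with hB₀def
  have hL₀ : IsSteinerSystem 2 3 (derivedOpt (derivedOpt B₀)) :=
    isSteiner_derivedOpt (isSteiner_derivedOpt hB₀)
  set L₀ := derivedOpt (derivedOpt B₀) with hL₀def
  have hP : Fintype.card P = 9 := Fintype.card_fin 9
  -- the line through 0 and 3
  have h03 : (0 : P) ≠ 3 := by decide
  obtain ⟨hz0, hz3, hl₀⟩ := th_spec (hL := hL₀) h03
  set l₀ : Finset P := {0, 3, th hL₀ 0 3} with hl₀def
  have hcard : l₀.card < (univ : Finset P).card := by
    rw [hL₀.1 _ hl₀, card_univ, hP]; norm_num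
  obtain ⟨e₂, -, he₂⟩ := exists_mem_notMem_of_card_lt_card hcard
  obtain ⟨f, hf0, hf3, -, hf⟩ := sts9_coord hL₀ hP (o := 0) (e₁ := 3) (e₂ := e₂) h03 (by
    intro l hl h0 h3
    rw [line_unique hL₀ hl hl₀ h03 h0 h3 (by simp [hl₀def]) (by simp [hl₀def])]
    exact he₂)
  refine ⟨e₀.trans (lift2 f), fun i => ?_, fun l => ?_⟩
  · rw [Equiv.trans_apply, he₀ i]
    fin_cases i
    · rfl
    · rfl
    · show lift2 f (some (some 0)) = some (some 0)
      rw [lift2_ss, hf0]
    · show lift2 f (some (some 3)) = some (some 3)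
      rw [lift2_ss, hf3]
  · rw [mapSys_trans]
    show (sh11 l).map (lift2 f).symm.toEmbedding ∈ B₀ ↔ IsLine l
    have h1 : (sh11 l).map (lift2 f).symm.toEmbedding = sh11 (l.map f.symm.toEmbedding) :=
      map_lift2_sh11 f.symm l
    rw [h1]
    have h2 : sh11 (l.map f.symm.toEmbedding) ∈ B₀ ↔ l.map f.symm.toEmbedding ∈ L₀ := Iff.rfl
    rw [h2, hf, map_map_symm]

end Coord


section Main

variable {α β : Type*} [Fintype α] [DecidableEq α] [Fintype β] [DecidableEq β]

theorem rigid11_exists (hα : Fintype.card α = 11) (hβ : Fintype.card β = 11)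
    {B : Set (Finset α)} {B' : Set (Finset β)} (hB : IsSteinerSystem 4 5 B)
    (hB' : IsSteinerSystem 4 5 B') (x : Fin 4 ↪ α) (y : Fin 4 ↪ β) :
    ∃ e : α ≃ β, (∀ b, b ∈ B ↔ b.map e.toEmbedding ∈ B') ∧ ∀ i, e (x i) = y i := by
  obtain ⟨κ, hκ, hl⟩ := coord11 hα hB x
  obtain ⟨κ', hκ', hl'⟩ := coord11 hβ hB' y
  obtain ⟨i, hi3, j, hj3, hij, hD⟩ := stage2 (isSteiner_mapSys κ hB) hl
  obtain ⟨i', hi3', j', hj3', hij', hD'⟩ := stage2 (isSteiner_mapSys κ' hB') hl'
  obtain ⟨n, hni, hnj⟩ := s_trans hi3 hj3 hi3' hj3' hij hij'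
  refine ⟨κ.trans ((lift2 (gP n)).trans κ'.symm), ?_, fun k => ?_⟩
  · apply iso_of_into _ (by norm_num : 4 ≤ 5) hB hB'
    intro b hb
    have h1 : b.map κ.toEmbedding ∈ mapSys κ B := (map_mem_mapSys κ B b).mpr hb
    have h2 := std_map n hi3 hj3 ((hD _).mp h1)
    rw [hni, hnj] at h2
    have h3 := (hD' _).mpr h2
    have h4 : ((b.map κ.toEmbedding).map (lift2 (gP n)).toEmbedding).map κ'.symm.toEmbedding ∈ B' :=
      h3
    rw [Finset.map_map, Finset.map_map] at h4
    exact h4
  · rw [Equiv.trans_apply, Equiv.trans_apply, hκ k, Equiv.symm_apply_eq, hκ' k]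
    fin_cases k
    · rfl
    · rfl
    · show lift2 (gP n) (some (some 0)) = some (some 0)
      rw [lift2_ss]
      exact congrArg (fun t => some (some t)) (g_fix n).1
    · show lift2 (gP n) (some (some 3)) = some (some 3)
      rw [lift2_ss]
      exact congrArg (fun t => some (some t)) (g_fix n).2

theorem rigid11_unique (hα : Fintype.card α = 11) {B : Set (Finset α)} {B' : Set (Finset β)}
    (hB : IsSteinerSystem 4 5 B) (x : Fin 4 ↪ α) {e₁ e₂ : α ≃ β}
    (h₁ : ∀ b, b ∈ B ↔ b.map e₁.toEmbedding ∈ B') (h₂ : ∀ b, b ∈ B ↔ b.map e₂.toEmbedding ∈ B')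
    (hx : ∀ i, e₁ (x i) = e₂ (x i)) : e₁ = e₂ := by
  obtain ⟨κ, hκ, hl⟩ := coord11 hα hB x
  obtain ⟨i, hi3, j, hj3, hij, hD⟩ := stage2 (isSteiner_mapSys κ hB) hl
  set h : P2 ≃ P2 := κ.symm.trans (e₁.trans (e₂.symm.trans κ)) with hdef
  have hpres : ∀ b, Std i j b → Std i j (b.map h.toEmbedding) := by
    intro b hb
    have h1 : b.map κ.symm.toEmbedding ∈ B := (hD b).mpr hb
    have h2 := (h₁ _).mp h1
    have h3 : ((b.map κ.symm.toEmbedding).map e₁.toEmbedding).map e₂.symm.toEmbedding ∈ B := by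
      rw [h₂, map_map_symm]; exact h2
    have h4 := (map_mem_mapSys κ B _).mpr h3
    have h5 := (hD _).mp h4
    rw [Finset.map_map, Finset.map_map, Finset.map_map] at h5
    exact h5
  have hfix : ∀ k, h (base k) = base k := by
    intro k
    rw [hdef, Equiv.trans_apply, Equiv.trans_apply, Equiv.trans_apply, ← hκ k,
      Equiv.symm_apply_apply, hx k, Equiv.symm_apply_apply]
  have := rigid hi3 hj3 hij h hpres (hfix 0) (hfix 1) (hfix 2) (hfix 3)
  ext1 a
  have h6 := congrArg (fun t => t (κ a)) this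
  simp only [hdef, Equiv.trans_apply, Equiv.symm_apply_apply, Equiv.refl_apply] at h6
  have h7 := κ.injective h6
  rw [Equiv.symm_apply_eq] at h7
  exact h7

end Main


section Aut4

variable {α : Type*} [Fintype α] [DecidableEq α]

theorem refl_iff (B : Set (Finset α)) (b : Finset α) :
    b ∈ B ↔ b.map (Equiv.refl α).toEmbedding ∈ B := by
  have : b.map (Equiv.refl α).toEmbedding = b := by ext; simp
  rw [this]

/-- The automorphism group of an `S(4,5,11)` is sharply 4-transitive. -/
theorem aut_sharp4 (hα : Fintype.card α = 11) {B : Set (Finset α)}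
    (hB : IsSteinerSystem 4 5 B) :
    MulAction.IsMultiplyPretransitive (setSystemAut B) α 4 ∧
      ∀ x : Fin 4 ↪ α, MulAction.stabilizer (setSystemAut B) x = ⊥ := by
  constructor
  · refine ⟨fun x y => ?_⟩
    obtain ⟨e, he, hxy⟩ := rigid11_exists hα hα hB hB x y
    refine ⟨⟨e, (mem_aut_iff B e).mpr he⟩, ?_⟩
    ext i
    exact hxy i
  · intro x
    rw [eq_bot_iff]
    intro g hg
    rw [MulAction.mem_stabilizer_iff] at hg
    rw [Subgroup.mem_bot]
    have hg' := (mem_aut_iff B g.1).mp g.2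
    have : (g : Equiv.Perm α) = Equiv.refl α := by
      apply rigid11_unique hα hB x hg' (refl_iff B)
      intro i
      have := DFunLike.congr_fun hg i
      exact this
    exact Subtype.ext this

end Aut4

end Cfsg.Agent.Helper4.M11Rigid
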