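import Mathlib
import Cfsg.Agent.Helper4.M11Rigid

/-!
# Frames and coordinates: an abstract rigidity package for Steiner systems
-/

set_option autoImplicit false
set_option linter.unusedSectionVars false
set_option linter.unusedVariables false

namespace Cfsg.Agent.Helper4.RigidFrame

open Finset Cfsg Function Cfsg.Agent.Helper4.SteinerOpt 

/-- A frame: an ordered block together with a point off it. -/
def IsFrame {α : Type*} [DecidableEq α] {k : ℕ} (D : Set (Finset α)) (f : Fin k → α) (x : α) :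
    Prop :=
  Injective f ∧ univ.image f ∈ D ∧ x ∉ univ.image f

/-- The data of a coordinate system: a family of standard models `Hub j`, a standard frame, and
a twisting map exchanging the two models. -/
structure Pkg (Ω : Type*) [DecidableEq Ω] (k : ℕ) where
  Hub : ℕ → Set (Finset Ω) → Prop
  f₀ : Fin k → Ω
  x₀ : Ω
  g₀ : Ω ≃ Ω
  τ : Equiv.Perm (Fin k)
  sg : ℕ → ℕ
  eq : ∀ j D D', Hub j D → Hub j D' → D = D'
  twist : ∀ j D, Hub j D → Hub (sg j) (mapSys g₀ D)
  sg_ne : ∀ j D, Hub j D → sg j ≠ j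
  two : ∀ j j' D D', Hub j D → Hub j' D' → j' = j ∨ j' = sg j
  cls_unique : ∀ j j' D, Hub j D → Hub j' D → j = j'
  rigid : ∀ j₁ j₂ D₁ D₂, Hub j₁ D₁ → Hub j₂ D₂ → ∀ h : Ω ≃ Ω, mapSys h D₁ = D₂ →
    (∀ i, h (f₀ i) = f₀ i) → h x₀ = x₀ → h = Equiv.refl Ω
  g₀f : ∀ i, g₀ (f₀ i) = f₀ (τ i)
  g₀x : g₀ x₀ = x₀
  ττ : ∀ i, τ (τ i) = i

section Basic

variable {α β Ω : Type*} [DecidableEq α] [DecidableEq β] [DecidableEq Ω] {k : ℕ}

/-- Every frame of `D` admits coordinates. -/
def HasCoord (pk : Pkg Ω k) (D : Set (Finset α)) : Prop :=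
  ∀ f x, IsFrame D f x → ∃ κ : α ≃ Ω, (∀ i, κ (f i) = pk.f₀ i) ∧ κ x = pk.x₀ ∧
    ∃ j, pk.Hub j (mapSys κ D)

theorem mapSys_trans' {γ : Type*} (e : α ≃ β) (g : β ≃ γ) (B : Set (Finset α)) :
    mapSys (e.trans g) B = mapSys g (mapSys e B) := by
  ext c
  unfold mapSys
  simp only [Set.mem_ofPred_eq]
  rw [Finset.map_map]
  rfl

theorem mapSys_refl (D : Set (Finset α)) : mapSys (Equiv.refl α) D = D := by
  ext c
  unfold mapSys
  simp only [Set.mem_ofPred_eq]
  have : c.map (Equiv.refl α).symm.toEmbedding = c := by ext; simp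
  rw [this]

theorem mapSys_aut {D : Set (Finset α)} {g : α ≃ α} (hg : ∀ b, b ∈ D ↔ b.map g.toEmbedding ∈ D) :
    mapSys g D = D := by
  ext c
  unfold mapSys
  simp only [Set.mem_ofPred_eq]
  rw [hg, map_map_symm]

theorem mapSys_aut_symm {D : Set (Finset α)} {g : α ≃ α}
    (hg : ∀ b, b ∈ D ↔ b.map g.toEmbedding ∈ D) : mapSys g.symm D = D := by
  ext c
  unfold mapSys
  simp only [Set.mem_ofPred_eq]
  exact (hg c).symm

theorem iso_of_mapSys_eq {D : Set (Finset α)} {D' : Set (Finset β)} (κ : α ≃ Ω) (κ' : β ≃ Ω)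
    (h : mapSys κ D = mapSys κ' D') (b : Finset α) :
    b ∈ D ↔ b.map (κ.trans κ'.symm).toEmbedding ∈ D' := by
  rw [← map_mem_mapSys κ D b, h]
  unfold mapSys
  simp only [Set.mem_ofPred_eq]
  rw [Finset.map_map]
  rfl

theorem isFrame_comp {D : Set (Finset α)} {f : Fin k → α} {x : α} (h : IsFrame D f x)
    (τ : Equiv.Perm (Fin k)) : IsFrame D (f ∘ τ) x := by
  have : univ.image (f ∘ τ) = univ.image f := by
    ext y
    simp only [mem_image, mem_univ, true_and, comp_apply]
    constructor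
    · rintro ⟨i, rfl⟩; exact ⟨τ i, rfl⟩
    · rintro ⟨i, rfl⟩; exact ⟨τ.symm i, by simp⟩
  exact ⟨h.1.comp τ.injective, this ▸ h.2.1, this ▸ h.2.2⟩

theorem isFrame_map {D : Set (Finset α)} {f : Fin k → α} {x : α} (h : IsFrame D f x)
    {g : α ≃ α} (hg : ∀ b, b ∈ D ↔ b.map g.toEmbedding ∈ D) : IsFrame D (g ∘ f) (g x) := by
  have : univ.image (g ∘ f) = (univ.image f).map g.toEmbedding := by
    rw [Finset.map_eq_image, Finset.image_image]
    rfl
  refine ⟨g.injective.comp h.1, ?_, ?_⟩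
  · rw [this, ← hg]; exact h.2.1
  · rw [this, mem_map_equiv, Equiv.symm_apply_apply]; exact h.2.2

variable (pk : Pkg Ω k)

/-- Two frames are matched by an isomorphism, possibly after a twist. -/
theorem exists_iso {D : Set (Finset α)} {D' : Set (Finset β)} (hc : HasCoord pk D)
    (hc' : HasCoord pk D') {f : Fin k → α} {x : α} {f' : Fin k → β} {x' : β}
    (hF : IsFrame D f x) (hF' : IsFrame D' f' x') :
    ∃ e : α ≃ β, (∀ b, b ∈ D ↔ b.map e.toEmbedding ∈ D') ∧ e x = x' ∧
      ((∀ i, e (f i) = f' i) ∨ (∀ i, e (f i) = f' (pk.τ i))) := by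
  obtain ⟨κ, hκf, hκx, j, hj⟩ := hc f x hF
  obtain ⟨κ', hκf', hκx', j', hj'⟩ := hc' f' x' hF'
  rcases pk.two j j' _ _ hj hj' with rfl | rfl
  · have heq := pk.eq _ _ _ hj hj'
    refine ⟨κ.trans κ'.symm, iso_of_mapSys_eq κ κ' heq, ?_, Or.inl fun i => ?_⟩
    · rw [Equiv.trans_apply, hκx, Equiv.symm_apply_eq, hκx']
    · rw [Equiv.trans_apply, hκf, Equiv.symm_apply_eq, hκf']
  · have h2 := pk.twist _ _ hj
    rw [← mapSys_trans'] at h2
    have heq := pk.eq _ _ _ h2 hj'
    refine ⟨(κ.trans pk.g₀).trans κ'.symm, iso_of_mapSys_eq _ κ' heq, ?_, Or.inr fun i => ?_⟩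
    · rw [Equiv.trans_apply, Equiv.trans_apply, hκx, pk.g₀x, Equiv.symm_apply_eq, hκx']
    · rw [Equiv.trans_apply, Equiv.trans_apply, hκf, pk.g₀f, Equiv.symm_apply_eq, hκf']

/-- An automorphism fixing a frame is trivial. -/
theorem aut_fix {D : Set (Finset α)} (hc : HasCoord pk D) {f : Fin k → α} {x : α}
    (hF : IsFrame D f x) {g : α ≃ α} (hg : ∀ b, b ∈ D ↔ b.map g.toEmbedding ∈ D)
    (hgf : ∀ i, g (f i) = f i) (hgx : g x = x) : g = Equiv.refl α := by
  obtain ⟨κ, hκf, hκx, j, hj⟩ := hc f x hF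
  set h : Ω ≃ Ω := κ.symm.trans (g.trans κ) with hdef
  have h1 : mapSys h (mapSys κ D) = mapSys κ D := by
    rw [← mapSys_trans']
    have : κ.trans h = g.trans κ := by
      ext a; simp [hdef]
    rw [this, mapSys_trans', mapSys_aut hg]
  have h2 : ∀ i, h (pk.f₀ i) = pk.f₀ i := by
    intro i
    rw [hdef, Equiv.trans_apply, Equiv.trans_apply, ← hκf i, Equiv.symm_apply_apply, hgf]
  have h3 : h pk.x₀ = pk.x₀ := by
    rw [hdef, Equiv.trans_apply, Equiv.trans_apply, ← hκx, Equiv.symm_apply_apply, hgx]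
  have h4 := pk.rigid _ _ _ _ hj hj h h1 h2 h3
  ext1 a
  have h5 := congrArg (fun t => t (κ a)) h4
  simp only [hdef, Equiv.trans_apply, Equiv.symm_apply_apply, Equiv.refl_apply] at h5
  exact κ.injective h5

/-- No automorphism twists a frame. -/
theorem no_twist {D : Set (Finset α)} (hc : HasCoord pk D) {f : Fin k → α} {x : α}
    (hF : IsFrame D f x) {g : α ≃ α} (hg : ∀ b, b ∈ D ↔ b.map g.toEmbedding ∈ D)
    (hgf : ∀ i, g (f i) = f (pk.τ i)) (hgx : g x = x) : False := by
  obtain ⟨κ, hκf, hκx, j, hj⟩ := hc f x hF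
  set κ' : α ≃ Ω := g.symm.trans κ with hκ'
  set κ'' : α ≃ Ω := κ.trans pk.g₀ with hκ''
  have hD₁ : mapSys κ' D = mapSys κ D := by
    rw [hκ', mapSys_trans', mapSys_aut_symm hg]
  have hD₂ : pk.Hub (pk.sg j) (mapSys κ'' D) := by
    rw [hκ'', mapSys_trans']
    exact pk.twist _ _ hj
  set h : Ω ≃ Ω := κ'.symm.trans κ'' with hdef
  have h1 : mapSys h (mapSys κ D) = mapSys κ'' D := by
    rw [← hD₁, ← mapSys_trans']
    have : κ'.trans h = κ'' := by
      ext a; simp [hdef]
    rw [this]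
  have h2 : ∀ i, h (pk.f₀ i) = pk.f₀ i := by
    intro i
    have e1 : κ'.symm (pk.f₀ i) = f (pk.τ i) := by
      rw [Equiv.symm_apply_eq, hκ', Equiv.trans_apply, ← hgf, Equiv.symm_apply_apply, hκf]
    rw [hdef, Equiv.trans_apply, e1, hκ'', Equiv.trans_apply, hκf, pk.g₀f, pk.ττ]
  have h3 : h pk.x₀ = pk.x₀ := by
    have e1 : κ'.symm pk.x₀ = x := by
      have hgx' : g.symm x = x := by rw [Equiv.symm_apply_eq, hgx]
      rw [Equiv.symm_apply_eq, hκ', Equiv.trans_apply, hgx', hκx]
    rw [hdef, Equiv.trans_apply, e1, hκ'', Equiv.trans_apply, hκx, pk.g₀x]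
  have h4 := pk.rigid _ _ _ _ hj hD₂ h h1 h2 h3
  rw [h4, mapSys_refl] at h1
  rw [← h1] at hD₂
  exact pk.sg_ne _ _ hj (pk.cls_unique _ _ _ hj hD₂).symm

end Basic


section Count

variable {α Ω : Type*} [Fintype α] [DecidableEq α] [DecidableEq Ω] {k : ℕ}

/-- The number of frames. -/
theorem card_frames (D : Set (Finset α)) (hk : ∀ b ∈ D, b.card = k) :
    Nat.card {p : (Fin k → α) × α // IsFrame D p.1 p.2} =
      D.ncard * (k.factorial * (Fintype.card α - k)) := by
  classical
  let T := Σ b : {b : Finset α // b ∈ D}, (Fin k ≃ {y // y ∈ b.1}) × {x // x ∉ b.1}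
  let ev : T → {p : (Fin k → α) × α // IsFrame D p.1 p.2} := fun F =>
    ⟨(fun i => (F.2.1 i).1, F.2.2.1), by
      refine ⟨Subtype.val_injective.comp F.2.1.injective, ?_, ?_⟩
      · have : univ.image (fun i => ((F.2.1 i).1 : α)) = F.1.1 := by
          ext y
          simp only [mem_image, mem_univ, true_and]
          constructor
          · rintro ⟨i, rfl⟩; exact (F.2.1 i).2
          · intro hy; exact ⟨F.2.1.symm ⟨y, hy⟩, by simp⟩
        rw [this]; exact F.1.2
      · have : univ.image (fun i => ((F.2.1 i).1 : α)) = F.1.1 := by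
          ext y
          simp only [mem_image, mem_univ, true_and]
          constructor
          · rintro ⟨i, rfl⟩; exact (F.2.1 i).2
          · intro hy; exact ⟨F.2.1.symm ⟨y, hy⟩, by simp⟩
        rw [this]; exact F.2.2.2⟩
  have hev : Bijective ev := by
    constructor
    · rintro ⟨⟨b, hb⟩, σ, ⟨x, hx⟩⟩ ⟨⟨b', hb'⟩, σ', ⟨x', hx'⟩⟩ h
      have h' := congrArg Subtype.val h
      simp only [ev, Prod.mk.injEq] at h'
      obtain ⟨h1, h2⟩ := h'
      have hbb : b = b' := by
        ext y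
        constructor
        · intro hy
          have := congrFun h1 (σ.symm ⟨y, hy⟩)
          simp only [Equiv.apply_symm_apply] at this
          rw [this]; exact (σ' _).2
        · intro hy
          have := congrFun h1 (σ'.symm ⟨y, hy⟩)
          simp only [Equiv.apply_symm_apply] at this
          rw [← this]; exact (σ _).2
      subst hbb
      subst h2
      have hσ : σ = σ' := by
        ext i
        exact congrFun h1 i
      subst hσ
      rfl
    · rintro ⟨⟨f, x⟩, hinj, hfD, hx⟩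
      refine ⟨⟨⟨univ.image f, hfD⟩, Equiv.ofBijective
        (fun i => ⟨f i, mem_image_of_mem f (mem_univ i)⟩) ⟨fun i j h => hinj (congrArg Subtype.val h),
          fun ⟨y, hy⟩ => ?_⟩, ⟨x, hx⟩⟩, rfl⟩
      obtain ⟨i, -, rfl⟩ := mem_image.mp hy
      exact ⟨i, rfl⟩
  rw [← Nat.card_congr (Equiv.ofBijective ev hev), Nat.card_eq_fintype_card, Fintype.card_sigma]
  have hterm : ∀ b : {b : Finset α // b ∈ D},
      Fintype.card ((Fin k ≃ {y // y ∈ b.1}) × {x // x ∉ b.1}) =
        k.factorial * (Fintype.card α - k) := by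
    intro b
    have hbk : Fintype.card {y // y ∈ b.1} = k := by
      rw [Fintype.card_coe]; exact hk _ b.2
    rw [Fintype.card_prod, Fintype.card_equiv (Fintype.equivOfCardEq (by rw [hbk, Fintype.card_fin])),
      Fintype.card_fin, Fintype.card_subtype_compl, hbk]
  rw [Finset.sum_congr rfl (fun b _ => hterm b), Finset.sum_const, card_univ, smul_eq_mul,
    ← Nat.card_eq_fintype_card, Nat.card_coe_set_eq]

variable (pk : Pkg Ω k)

/-- The automorphism group acts on the frames regularly with two orbits. -/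
theorem two_mul_card_aut {D : Set (Finset α)} (hc : HasCoord pk D) {f : Fin k → α} {x : α}
    (hF : IsFrame D f x) (hk : ∀ b ∈ D, b.card = k) :
    2 * Nat.card (setSystemAut D) = D.ncard * (k.factorial * (Fintype.card α - k)) := by
  classical
  rw [← card_frames D hk]
  let F : Bool → Fin k → α := fun c => cond c (f ∘ pk.τ) f
  have hFc : ∀ c, IsFrame D (F c) x := by
    intro c
    cases c
    · exact hF
    · exact isFrame_comp hF pk.τ
  let Φ : setSystemAut D × Bool → {p : (Fin k → α) × α // IsFrame D p.1 p.2} := fun p =>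
    ⟨(⇑(p.1 : Equiv.Perm α) ∘ F p.2, (p.1 : Equiv.Perm α) x),
      isFrame_map (hFc p.2) ((Cfsg.Agent.Helper4.M11Rigid.mem_aut_iff D p.1.1).mp p.1.2)⟩
  have hΦ : Bijective Φ := by
    constructor
    · rintro ⟨g, c⟩ ⟨g', c'⟩ h
      have h' := congrArg Subtype.val h
      simp only [Φ, Prod.mk.injEq] at h'
      obtain ⟨h1, h2⟩ := h'
      have hu : ((g'⁻¹ * g : setSystemAut D) : Equiv.Perm α) ∈ setSystemAut D := (g'⁻¹ * g).2
      have hu' := (Cfsg.Agent.Helper4.M11Rigid.mem_aut_iff D _).mp hu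
      have hux : ((g'⁻¹ * g : setSystemAut D) : Equiv.Perm α) x = x := by
        show (g' : Equiv.Perm α)⁻¹ ((g : Equiv.Perm α) x) = x
        rw [h2]
        simp
      have huf : ∀ i, ((g'⁻¹ * g : setSystemAut D) : Equiv.Perm α) (F c i) = F c' i := by
        intro i
        show (g' : Equiv.Perm α)⁻¹ ((g : Equiv.Perm α) (F c i)) = F c' i
        have := congrFun h1 i
        simp only [comp_apply] at this
        rw [this]
        simp
      have key : c = c' ∧ ((g'⁻¹ * g : setSystemAut D) : Equiv.Perm α) = Equiv.refl α := by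
        cases c <;> cases c'
        · exact ⟨rfl, aut_fix pk hc hF hu' huf hux⟩
        · exact (no_twist pk hc hF hu' huf hux).elim
        · refine (no_twist pk hc hF hu' (fun i => ?_) hux).elim
          have := huf (pk.τ i)
          simp only [F, cond_true, cond_false, comp_apply, pk.ττ] at this
          exact this
        · refine ⟨rfl, aut_fix pk hc hF hu' (fun i => ?_) hux⟩
          have := huf (pk.τ i)
          simp only [F, cond_true, comp_apply, pk.ττ] at this
          exact this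
      obtain ⟨hcc, hone⟩ := key
      have hgg : g'⁻¹ * g = 1 := Subtype.ext hone
      have : g = g' := by
        have := congrArg (fun t => g' * t) hgg
        simpa using this
      rw [this, hcc]
    · rintro ⟨⟨f', x'⟩, hF'⟩
      obtain ⟨e, he, hex, h | h⟩ := exists_iso pk hc hc hF hF'
      · refine ⟨(⟨e, (Cfsg.Agent.Helper4.M11Rigid.mem_aut_iff D e).mpr he⟩, false), Subtype.ext ?_⟩
        simp only [Φ, F, cond_false, Prod.mk.injEq]
        exact ⟨funext h, hex⟩
      · refine ⟨(⟨e, (Cfsg.Agent.Helper4.M11Rigid.mem_aut_iff D e).mpr he⟩, true), Subtype.ext ?_⟩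
        simp only [Φ, F, cond_true, Prod.mk.injEq]
        refine ⟨funext fun i => ?_, hex⟩
        show e (f (pk.τ i)) = f' i
        rw [h, pk.ττ]
  rw [← Nat.card_congr (Equiv.ofBijective Φ hΦ), Nat.card_prod, Nat.card_eq_fintype_card (α := Bool),
    Fintype.card_bool, mul_comm]

end Count

section Trans

variable {α Ω : Type*} [Fintype α] [DecidableEq α] [DecidableEq Ω] {k : ℕ}

/-- Any `n + 1` points extend to a frame: the first `n` start the ordered block, the last is the
point off the block. -/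
theorem exists_frame {n : ℕ} {D : Set (Finset α)} (hD : IsSteinerSystem (n + 1) k D)
    (hnk : n + 1 ≤ k) (hkv : k < Fintype.card α) (x : Fin (n + 1) ↪ α) :
    ∃ f : Fin k → α, IsFrame D f (x (Fin.last n)) ∧
      ∀ i : Fin n, f (Fin.castLE (by omega) i) = x i.castSucc := by
  obtain ⟨b1, ⟨hb1, hS1⟩, hu1⟩ := hD.2 (univ.map x) (by rw [card_map, card_univ, Fintype.card_fin])
  obtain ⟨r, -, hr⟩ := exists_mem_notMem_of_card_lt_card
    (by rw [hD.1 b1 hb1, card_univ]; exact hkv : b1.card < (univ : Finset α).card)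
  set T : Finset α := univ.image (fun i : Fin n => x i.castSucc) with hT
  have hTS : T ⊆ univ.map x := by
    intro y hy
    obtain ⟨i, -, rfl⟩ := mem_image.mp hy
    exact mem_map_of_mem _ (mem_univ _)
  have hTc : T.card = n := by
    rw [hT, card_image_of_injective _ (fun i j h => Fin.castSucc_injective _ (x.injective h)),
      card_univ, Fintype.card_fin]
  have hrT : r ∉ T := fun h => hr (hS1 (hTS h))
  obtain ⟨b, ⟨hb, hS2⟩, -⟩ := hD.2 (insert r T) (by rw [card_insert_of_notMem hrT, hTc])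
  have hTb : ∀ i : Fin n, x i.castSucc ∈ b := fun i =>
    hS2 (mem_insert_of_mem (mem_image_of_mem _ (mem_univ i)))
  have hlast : x (Fin.last n) ∉ b := by
    intro h
    have : b = b1 := hu1 b ⟨hb, by
      intro y hy
      obtain ⟨i, -, rfl⟩ := mem_map.mp hy
      refine Fin.lastCases ?_ (fun j => ?_) i
      · exact h
      · exact hTb j⟩
    exact hr (this ▸ hS2 (mem_insert_self _ _))
  have hcard : Fintype.card (Fin k) = Fintype.card {y // y ∈ b} := by
    rw [Fintype.card_fin, Fintype.card_coe, hD.1 b hb]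
  obtain ⟨σ, hσ⟩ := exists_equiv_extending (Fin.castLEEmb (by omega : n ≤ k))
    (⟨fun i => (⟨x i.castSucc, hTb i⟩ : {y // y ∈ b}), fun i j h =>
      Fin.castSucc_injective _ (x.injective (congrArg Subtype.val h))⟩ : Fin n ↪ {y // y ∈ b})
    ⟨Fintype.equivOfCardEq hcard⟩
  have himg : univ.image (fun i => ((σ i).1 : α)) = b := by
    ext y
    simp only [mem_image, mem_univ, true_and]
    constructor
    · rintro ⟨i, rfl⟩; exact (σ i).2
    · intro hy; exact ⟨σ.symm ⟨y, hy⟩, by simp⟩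
  refine ⟨fun i => (σ i).1, ⟨Subtype.val_injective.comp σ.injective, ?_, ?_⟩, fun i => ?_⟩
  · rw [himg]; exact hb
  · rw [himg]; exact hlast
  · have := congrArg Subtype.val (hσ i)
    exact this

/-- Multiple transitivity of the automorphism group. -/
theorem pretransitive (pk : Pkg Ω k) {n : ℕ} {D : Set (Finset α)} (hc : HasCoord pk D)
    (hD : IsSteinerSystem (n + 1) k D) (hnk : n + 1 ≤ k) (hkv : k < Fintype.card α)
    (hτ : ∀ i : Fin n, pk.τ (Fin.castLE (by omega) i) = Fin.castLE (by omega) i) :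
    MulAction.IsMultiplyPretransitive (setSystemAut D) α (n + 1) := by
  refine ⟨fun x y => ?_⟩
  obtain ⟨f, hF, hfx⟩ := exists_frame hD hnk hkv x
  obtain ⟨f', hF', hfy⟩ := exists_frame hD hnk hkv y
  obtain ⟨e, he, hex, h⟩ := exists_iso pk hc hc hF hF'
  refine ⟨⟨e, (Cfsg.Agent.Helper4.M11Rigid.mem_aut_iff D e).mpr he⟩, ?_⟩
  ext i
  show e (x i) = y i
  refine Fin.lastCases ?_ (fun j => ?_) i
  · exact hex
  · rw [← hfx j, ← hfy j]
    rcases h with h | h
    · exact h _
    · rw [h, hτ]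

end Trans

end Cfsg.Agent.Helper4.RigidFrame
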