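import Mathlib
import Cfsg.Prelude.Def_Sporadic_a

/-!
# Counting in a Steiner system S(3,6,22)
-/

set_option autoImplicit false
set_option linter.unusedSectionVars false

namespace Cfsg.Agent.Helper4.Steiner22

open Finset

section General

variable {α : Type*} [Fintype α] [DecidableEq α] (𝓑 : Finset (Finset α))

/-- number of blocks containing `S` -/
def deg (S : Finset α) : ℕ := (𝓑.filter (fun b => S ⊆ b)).card

theorem deg_step (k : ℕ) (hk : ∀ b ∈ 𝓑, b.card = k) (S : Finset α) (d : ℕ)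
    (hd : ∀ x, x ∉ S → deg 𝓑 (insert x S) = d) :
    (Fintype.card α - S.card) * d = (k - S.card) * deg 𝓑 S := by
  have key := Finset.sum_card_bipartiteAbove_eq_sum_card_bipartiteBelow
    (s := (univ : Finset α) \ S) (t := 𝓑.filter (fun b => S ⊆ b)) (fun x b => x ∈ b)
  have h1 : ∀ x ∈ (univ : Finset α) \ S,
      ((𝓑.filter (fun b => S ⊆ b)).bipartiteAbove (fun x b => x ∈ b) x).card = d := by
    intro x hx
    rw [← hd x (by simpa using hx)]
    unfold deg Finset.bipartiteAbove
    congr 1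
    ext b
    simp only [mem_filter, insert_subset_iff]
    tauto
  have h2 : ∀ b ∈ 𝓑.filter (fun b => S ⊆ b),
      (((univ : Finset α) \ S).bipartiteBelow (fun x b => x ∈ b) b).card = k - S.card := by
    intro b hb
    rw [mem_filter] at hb
    have : ((univ : Finset α) \ S).bipartiteBelow (fun x b => x ∈ b) b = b \ S := by
      unfold Finset.bipartiteBelow
      ext x
      simp only [mem_filter, mem_sdiff, mem_univ, true_and]
      tauto
    rw [this, card_sdiff_of_subset hb.2, hk b hb.1]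
  rw [sum_congr rfl h1, sum_congr rfl h2, sum_const, sum_const, smul_eq_mul, smul_eq_mul,
    card_sdiff_of_subset (subset_univ S), card_univ] at key
  unfold deg
  rw [key, mul_comm]

end General

section S22

variable {α : Type*} [Fintype α] [DecidableEq α] {𝓑 : Finset (Finset α)}

/-- Hypotheses of a Steiner system `S(3,6,22)` in `Finset` form. -/
structure IsS22 (𝓑 : Finset (Finset α)) : Prop where
  card_univ : Fintype.card α = 22
  card_block : ∀ b ∈ 𝓑, b.card = 6
  uniq : ∀ s : Finset α, s.card = 3 → ∃! b, b ∈ 𝓑 ∧ s ⊆ b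

variable (h : IsS22 𝓑)
include h

theorem deg3 (s : Finset α) (hs : s.card = 3) : deg 𝓑 s = 1 := by
  obtain ⟨b, ⟨hb, hsb⟩, huniq⟩ := h.uniq s hs
  unfold deg
  rw [card_eq_one]
  refine ⟨b, ?_⟩
  ext c
  simp only [mem_filter, mem_singleton]
  constructor
  · rintro ⟨hc, hsc⟩
    exact huniq c ⟨hc, hsc⟩
  · rintro rfl
    exact ⟨hb, hsb⟩

theorem deg2 (s : Finset α) (hs : s.card = 2) : deg 𝓑 s = 5 := by
  have := deg_step 𝓑 6 h.card_block s 1 (fun x hx => deg3 h _ (by rw [card_insert_of_notMem hx, hs]))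
  rw [h.card_univ, hs] at this
  omega

theorem deg1 (s : Finset α) (hs : s.card = 1) : deg 𝓑 s = 21 := by
  have := deg_step 𝓑 6 h.card_block s 5 (fun x hx => deg2 h _ (by rw [card_insert_of_notMem hx, hs]))
  rw [h.card_univ, hs] at this
  omega

theorem card_blocks : 𝓑.card = 77 := by
  have := deg_step 𝓑 6 h.card_block ∅ 21 (fun x hx => deg1 h _ (by simp))
  rw [h.card_univ, card_empty] at this
  have h2 : deg 𝓑 (∅ : Finset α) = 𝓑.card := by
    unfold deg
    congr 1
    ext b
    simp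
  rw [h2] at this
  omega

theorem card_through (x : α) : (𝓑.filter (fun b => x ∈ b)).card = 21 := by
  have := deg1 h {x} (card_singleton x)
  unfold deg at this
  rw [← this]
  congr 1
  ext b
  simp

theorem card_through_two {x y : α} (hxy : x ≠ y) :
    (𝓑.filter (fun b => x ∈ b ∧ y ∈ b)).card = 5 := by
  have := deg2 h {x, y} (card_pair hxy)
  unfold deg at this
  rw [← this]
  congr 1
  ext b
  simp [insert_subset_iff]

theorem inter_le {b c : Finset α} (hb : b ∈ 𝓑) (hc : c ∈ 𝓑) (hbc : b ≠ c) : (b ∩ c).card ≤ 2 := by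
  by_contra hlt
  push Not at hlt
  obtain ⟨s, hs, hs3⟩ := exists_subset_card_eq (show 3 ≤ (b ∩ c).card by omega)
  obtain ⟨d, -, huniq⟩ := h.uniq s hs3
  have h1 := huniq b ⟨hb, hs.trans inter_subset_left⟩
  have h2 := huniq c ⟨hc, hs.trans inter_subset_right⟩
  exact hbc (h1.trans h2.symm)

theorem sum_inter {b : Finset α} (hb : b ∈ 𝓑) : ∑ c ∈ 𝓑, (b ∩ c).card = 126 := by
  have key := Finset.sum_card_bipartiteAbove_eq_sum_card_bipartiteBelow
    (s := b) (t := 𝓑) (fun x c => x ∈ c)
  have h1 : ∀ x ∈ b, (𝓑.bipartiteAbove (fun x c => x ∈ c) x).card = 21 := by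
    intro x _
    exact card_through h x
  have h2 : ∀ c ∈ 𝓑, (b.bipartiteBelow (fun x c => x ∈ c) c).card = (b ∩ c).card := by
    intro c _
    have e1 : b.bipartiteBelow (fun x c => x ∈ c) c = b ∩ c := by
      ext x
      simp [Finset.bipartiteBelow]
    rw [e1]
  rw [sum_congr rfl h1, sum_congr rfl h2, sum_const, h.card_block b hb] at key
  rw [← key]
  rfl

theorem sum_inter_offDiag {b : Finset α} (hb : b ∈ 𝓑) :
    ∑ c ∈ 𝓑, (b ∩ c).offDiag.card = 150 := by
  have key := Finset.sum_card_bipartiteAbove_eq_sum_card_bipartiteBelow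
    (s := b.offDiag) (t := 𝓑) (fun p c => p.1 ∈ c ∧ p.2 ∈ c)
  have h1 : ∀ p ∈ b.offDiag, (𝓑.bipartiteAbove (fun p c => p.1 ∈ c ∧ p.2 ∈ c) p).card = 5 := by
    intro p hp
    rw [mem_offDiag] at hp
    exact card_through_two h hp.2.2
  have h2 : ∀ c ∈ 𝓑, (b.offDiag.bipartiteBelow (fun p c => p.1 ∈ c ∧ p.2 ∈ c) c).card =
      (b ∩ c).offDiag.card := by
    intro c _
    have e1 : b.offDiag.bipartiteBelow (fun p c => p.1 ∈ c ∧ p.2 ∈ c) c = (b ∩ c).offDiag := by
      ext p
      simp only [Finset.bipartiteBelow, mem_filter, mem_offDiag, mem_inter]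
      tauto
    rw [e1]
  rw [sum_congr rfl h1, sum_congr rfl h2, sum_const, offDiag_card, h.card_block b hb] at key
  rw [← key]
  rfl

theorem inter_card {b c : Finset α} (hb : b ∈ 𝓑) (hc : c ∈ 𝓑) (hbc : b ≠ c) :
    (b ∩ c).card = 0 ∨ (b ∩ c).card = 2 := by
  have h1 := sum_inter h hb
  have h2 := sum_inter_offDiag h hb
  rw [← add_sum_erase 𝓑 _ hb] at h1 h2
  rw [inter_self, h.card_block b hb] at h1
  rw [inter_self, offDiag_card, h.card_block b hb] at h2
  have hle : ∀ d ∈ 𝓑.erase b, (b ∩ d).offDiag.card ≤ (b ∩ d).card := by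
    intro d hd
    rw [mem_erase] at hd
    have := inter_le h hb hd.2 hd.1.symm
    rw [offDiag_card]
    interval_cases (b ∩ d).card <;> omega
  have hsum : ∑ d ∈ 𝓑.erase b, (b ∩ d).offDiag.card = ∑ d ∈ 𝓑.erase b, (b ∩ d).card := by omega
  have heq := (sum_eq_sum_iff_of_le hle).mp hsum c (mem_erase.mpr ⟨hbc.symm, hc⟩)
  have := inter_le h hb hc hbc
  rw [offDiag_card] at heq
  interval_cases hm : (b ∩ c).card
  · left; rfl
  · omega
  · right; rfl

end S22

section S22b

variable {α : Type*} [Fintype α] [DecidableEq α] {𝓑 : Finset (Finset α)}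
variable (h : IsS22 𝓑)
include h

theorem card_through_pair (x y : α) :
    (𝓑.filter (fun d => x ∈ d ∧ y ∈ d)).card = if x = y then 21 else 5 := by
  split_ifs with hxy
  · subst hxy
    rw [← card_through h x]
    congr 1
    ext d
    simp
  · exact card_through_two h hxy

theorem sum_inter_mul {b c : Finset α} (hb : b ∈ 𝓑) (hc : c ∈ 𝓑) :
    ∑ d ∈ 𝓑, (b ∩ d).card * (c ∩ d).card = 16 * (b ∩ c).card + 180 := by
  have key := Finset.sum_card_bipartiteAbove_eq_sum_card_bipartiteBelow
    (s := b ×ˢ c) (t := 𝓑) (fun p d => p.1 ∈ d ∧ p.2 ∈ d)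
  have h1 : ∀ p ∈ b ×ˢ c, (𝓑.bipartiteAbove (fun p d => p.1 ∈ d ∧ p.2 ∈ d) p).card =
      if p.1 = p.2 then 21 else 5 := by
    intro p _
    exact card_through_pair h p.1 p.2
  have h2 : ∀ d ∈ 𝓑, ((b ×ˢ c).bipartiteBelow (fun p d => p.1 ∈ d ∧ p.2 ∈ d) d).card =
      (b ∩ d).card * (c ∩ d).card := by
    intro d _
    have e1 : (b ×ˢ c).bipartiteBelow (fun p d => p.1 ∈ d ∧ p.2 ∈ d) d = (b ∩ d) ×ˢ (c ∩ d) := by
      ext p
      simp only [Finset.bipartiteBelow, mem_filter, mem_product, mem_inter]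
      tauto
    rw [e1, card_product]
  rw [sum_congr rfl h1, sum_congr rfl h2, sum_ite, sum_const, sum_const, smul_eq_mul,
    smul_eq_mul] at key
  have hD : ((b ×ˢ c).filter (fun p => p.1 = p.2)).card = (b ∩ c).card := by
    have e1 : (b ×ˢ c).filter (fun p => p.1 = p.2) = (b ∩ c).image (fun x => (x, x)) := by
      ext p
      simp only [mem_filter, mem_product, mem_image, mem_inter]
      constructor
      · rintro ⟨⟨h1, h2⟩, h3⟩
        exact ⟨p.1, ⟨h1, h3 ▸ h2⟩, Prod.ext rfl h3⟩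
      · rintro ⟨x, ⟨h1, h2⟩, rfl⟩
        exact ⟨⟨h1, h2⟩, rfl⟩
    rw [e1, card_image_of_injective]
    intro x y hxy
    exact (Prod.mk.inj hxy).1
  have hT := card_filter_add_card_filter_not (s := b ×ˢ c) (fun p => p.1 = p.2)
  rw [card_product, h.card_block b hb, h.card_block c hc, hD] at hT
  rw [hD] at key
  rw [← key]
  omega

omit h in
theorem hdis (u v : Finset α) : Disjoint u v ↔ (u ∩ v).card = 0 := by
  rw [disjoint_iff_inter_eq_empty, card_eq_zero]

/-- the number of blocks disjoint from two given distinct blocks -/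
theorem card_common {b c : Finset α} (hb : b ∈ 𝓑) (hc : c ∈ 𝓑) (hbc : b ≠ c) :
    (((𝓑.erase b).erase c).filter (fun d => Disjoint b d ∧ Disjoint c d)).card =
      2 * (b ∩ c).card := by
  set m := (b ∩ c).card with hm
  have hcb : (c ∩ b).card = m := by rw [inter_comm]
  -- the total sum
  have htot : ∑ d ∈ 𝓑, ((2 : ℤ) - (b ∩ d).card) * (2 - (c ∩ d).card) = 16 * m - 16 := by
    have e1 : ∀ d ∈ 𝓑, ((2 : ℤ) - (b ∩ d).card) * (2 - (c ∩ d).card) =
        4 - 2 * ((b ∩ d).card : ℤ) - 2 * ((c ∩ d).card : ℤ) +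
          (((b ∩ d).card * (c ∩ d).card : ℕ) : ℤ) := by
      intro d _
      push_cast
      ring
    rw [sum_congr rfl e1, sum_add_distrib, sum_sub_distrib, sum_sub_distrib, sum_const,
      ← mul_sum, ← mul_sum, ← Nat.cast_sum, ← Nat.cast_sum, ← Nat.cast_sum, sum_inter h hb,
      sum_inter h hc, sum_inter_mul h hb hc, card_blocks h]
    push_cast
    ring
  have hcb' : c ∈ 𝓑.erase b := mem_erase.mpr ⟨hbc.symm, hc⟩
  rw [← add_sum_erase 𝓑 _ hb, ← add_sum_erase (𝓑.erase b) _ hcb', inter_self, inter_self,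
    h.card_block b hb, h.card_block c hc, hcb, ← hm] at htot
  -- the rest
  have hrest : ∀ d ∈ (𝓑.erase b).erase c, ((2 : ℤ) - (b ∩ d).card) * (2 - (c ∩ d).card) =
      if Disjoint b d ∧ Disjoint c d then 4 else 0 := by
    intro d hd
    rw [mem_erase, mem_erase] at hd
    have h1 := inter_card h hb hd.2.2 hd.2.1.symm
    have h2 := inter_card h hc hd.2.2 hd.1.symm
    rcases h1 with h1 | h1 <;> rcases h2 with h2 | h2 <;> simp [hdis, h1, h2]
  rw [sum_congr rfl hrest, sum_ite, sum_const, sum_const_zero, add_zero, nsmul_eq_mul] at htot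
  have : ((((𝓑.erase b).erase c).filter (fun d => Disjoint b d ∧ Disjoint c d)).card : ℤ) =
      2 * m := by
    push_cast at htot
    linarith
  exact_mod_cast this

theorem card_disjoint {b : Finset α} (hb : b ∈ 𝓑) :
    (𝓑.filter (fun d => Disjoint b d)).card = 16 := by
  have h1 := sum_inter h hb
  rw [← add_sum_erase 𝓑 _ hb, inter_self, h.card_block b hb] at h1
  have e1 : ∀ d ∈ 𝓑.erase b, (b ∩ d).card = if Disjoint b d then 0 else 2 := by
    intro d hd
    rw [mem_erase] at hd
    have h2 := inter_card h hb hd.2 hd.1.symm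
    rcases h2 with h2 | h2 <;> simp [hdis, h2]
  rw [sum_congr rfl e1, sum_ite, sum_const, sum_const, smul_eq_mul, smul_eq_mul] at h1
  have hT := card_filter_add_card_filter_not (s := 𝓑.erase b) (fun d => Disjoint b d)
  rw [card_erase_of_mem hb, card_blocks h] at hT
  have e2 : (𝓑.filter (fun d => Disjoint b d)) = (𝓑.erase b).filter (fun d => Disjoint b d) := by
    ext d
    simp only [mem_filter, mem_erase]
    constructor
    · rintro ⟨hd, hdis⟩
      refine ⟨⟨?_, hd⟩, hdis⟩
      rintro rfl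
      rw [disjoint_self] at hdis
      have := h.card_block d hd
      rw [show d = ∅ from hdis] at this
      simp at this
    · rintro ⟨⟨_, hd⟩, hdis⟩
      exact ⟨hd, hdis⟩
  rw [e2]
  omega

theorem card_through_disjoint {b : Finset α} (hb : b ∈ 𝓑) {x : α} (hx : x ∉ b) :
    (𝓑.filter (fun d => x ∈ d ∧ Disjoint b d)).card = 6 := by
  have key := Finset.sum_card_bipartiteAbove_eq_sum_card_bipartiteBelow
    (s := b) (t := 𝓑.filter (fun d => x ∈ d)) (fun y d => y ∈ d)
  have h1 : ∀ y ∈ b, ((𝓑.filter (fun d => x ∈ d)).bipartiteAbove (fun y d => y ∈ d) y).card =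
      5 := by
    intro y hy
    have hxy : x ≠ y := fun e => hx (e ▸ hy)
    rw [← card_through_two h hxy]
    congr 1
    ext d
    simp only [Finset.bipartiteAbove, mem_filter]
    tauto
  have h2 : ∀ d ∈ 𝓑.filter (fun d => x ∈ d), (b.bipartiteBelow (fun y d => y ∈ d) d).card =
      if Disjoint b d then 0 else 2 := by
    intro d hd
    rw [mem_filter] at hd
    have e1 : b.bipartiteBelow (fun y d => y ∈ d) d = b ∩ d := by
      ext y
      simp [Finset.bipartiteBelow]
    have hbd : b ≠ d := fun e => hx (e ▸ hd.2)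
    have h3 := inter_card h hb hd.1 hbd
    rw [e1]
    rcases h3 with h3 | h3 <;> simp [hdis, h3]
  rw [sum_congr rfl h1, sum_congr rfl h2, sum_const, h.card_block b hb, sum_ite, sum_const,
    sum_const, smul_eq_mul, smul_eq_mul, smul_eq_mul] at key
  have hT := card_filter_add_card_filter_not (s := 𝓑.filter (fun d => x ∈ d))
    (fun d => Disjoint b d)
  rw [card_through h x] at hT
  rw [filter_filter] at hT key
  rw [filter_filter] at hT key
  omega

end S22b

section Graphs

open Cfsg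

variable {α : Type*} [Fintype α]

theorem card_set_eq {β : Type*} [DecidableEq β] {B : Set β} (S : Set B) [Fintype S]
    (T : Finset β) (hT : ∀ d : β, d ∈ T ↔ ∃ hd : d ∈ B, (⟨d, hd⟩ : B) ∈ S) :
    Fintype.card S = T.card := by
  rw [← Fintype.card_coe T]
  refine Fintype.card_congr ⟨fun x => ⟨x.1.1, (hT _).mpr ⟨x.1.2, x.2⟩⟩,
    fun y => ⟨⟨y.1, ((hT _).mp y.2).1⟩, ((hT _).mp y.2).2⟩, fun x => rfl, fun y => rfl⟩

theorem isS22_toFinset [DecidableEq α] (hα : Fintype.card α = 22) {B : Set (Finset α)}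
    (hB : IsSteinerSystem 3 6 B) [Fintype B] : IsS22 B.toFinset where
  card_univ := hα
  card_block b hb := hB.1 b (Set.mem_toFinset.mp hb)
  uniq s hs := by
    obtain ⟨b, ⟨hb, hsb⟩, hu⟩ := hB.2 s hs
    exact ⟨b, ⟨Set.mem_toFinset.mpr hb, hsb⟩, fun c hc => hu c ⟨Set.mem_toFinset.mp hc.1, hc.2⟩⟩

theorem blockGraph_adj {B : Set (Finset α)} (v w : B) :
    (blockGraph B).Adj v w ↔ v ≠ w ∧ Disjoint (v : Finset α) (w : Finset α) := by
  unfold blockGraph
  rw [SimpleGraph.fromRel_adj]
  constructor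
  · rintro ⟨h1, h2 | h2⟩
    · exact ⟨h1, h2⟩
    · exact ⟨h1, h2.symm⟩
  · rintro ⟨h1, h2⟩
    exact ⟨h1, Or.inl h2⟩

theorem block_ne_of_disjoint [DecidableEq α] {𝓑 : Finset (Finset α)} (h : IsS22 𝓑) {b d : Finset α}
    (hb : b ∈ 𝓑) (hbd : Disjoint b d) : b ≠ d := by
  rintro rfl
  rw [disjoint_self] at hbd
  have := h.card_block b hb
  rw [show b = ∅ from hbd] at this
  simp at this

theorem blockGraph_srg (hα : Fintype.card α = 22) {B : Set (Finset α)}
    (hB : IsSteinerSystem 3 6 B) [Fintype B] [DecidableRel (blockGraph B).Adj] :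
    (blockGraph B).IsSRGWith 77 16 0 4 := by
  classical
  have h := isS22_toFinset hα hB
  refine ⟨?_, ?_, ?_, ?_⟩
  · rw [← Set.toFinset_card]
    exact card_blocks h
  · intro v
    rw [← SimpleGraph.card_neighborSet_eq_degree]
    rw [card_set_eq ((blockGraph B).neighborSet v) (B.toFinset.filter (fun d => Disjoint v.1 d))]
    · exact card_disjoint h (Set.mem_toFinset.mpr v.2)
    · intro d
      simp only [mem_filter, Set.mem_toFinset, SimpleGraph.mem_neighborSet, blockGraph_adj]
      constructor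
      · rintro ⟨hd, hdis⟩
        refine ⟨hd, ?_, hdis⟩
        intro e
        exact block_ne_of_disjoint h (Set.mem_toFinset.mpr v.2) hdis (congrArg Subtype.val e)
      · rintro ⟨hd, -, hdis⟩
        exact ⟨hd, hdis⟩
  · intro v w hvw
    rw [blockGraph_adj] at hvw
    have hvw' : (v : Finset α) ≠ w := fun e => hvw.1 (Subtype.ext e)
    rw [card_set_eq ((blockGraph B).commonNeighbors v w)
      (((B.toFinset.erase v.1).erase w.1).filter (fun d => Disjoint v.1 d ∧ Disjoint w.1 d))]
    · rw [card_common h (Set.mem_toFinset.mpr v.2) (Set.mem_toFinset.mpr w.2) hvw',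
        (hdis _ _).mp hvw.2]
    · intro d
      simp only [mem_filter, mem_erase, Set.mem_toFinset, SimpleGraph.mem_commonNeighbors,
        blockGraph_adj]
      constructor
      · rintro ⟨⟨h1, h2, hd⟩, h3, h4⟩
        exact ⟨hd, ⟨fun e => h2 (congrArg Subtype.val e).symm, h3⟩,
          ⟨fun e => h1 (congrArg Subtype.val e).symm, h4⟩⟩
      · rintro ⟨hd, ⟨h2, h3⟩, ⟨h1, h4⟩⟩
        exact ⟨⟨fun e => h1 (Subtype.ext e.symm), fun e => h2 (Subtype.ext e.symm), hd⟩, h3, h4⟩
  · intro v w hne hvw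
    rw [blockGraph_adj] at hvw
    have hvw' : (v : Finset α) ≠ w := fun e => hne (Subtype.ext e)
    have hnd : ¬ Disjoint (v : Finset α) w := fun hd => hvw ⟨hne, hd⟩
    rw [card_set_eq ((blockGraph B).commonNeighbors v w)
      (((B.toFinset.erase v.1).erase w.1).filter (fun d => Disjoint v.1 d ∧ Disjoint w.1 d))]
    · rw [card_common h (Set.mem_toFinset.mpr v.2) (Set.mem_toFinset.mpr w.2) hvw']
      rcases inter_card h (Set.mem_toFinset.mpr v.2) (Set.mem_toFinset.mpr w.2) hvw' with h0 | h2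
      · exact absurd ((hdis _ _).mpr h0) hnd
      · rw [h2]
    · intro d
      simp only [mem_filter, mem_erase, Set.mem_toFinset, SimpleGraph.mem_commonNeighbors,
        blockGraph_adj]
      constructor
      · rintro ⟨⟨h1, h2, hd⟩, h3, h4⟩
        exact ⟨hd, ⟨fun e => h2 (congrArg Subtype.val e).symm, h3⟩,
          ⟨fun e => h1 (congrArg Subtype.val e).symm, h4⟩⟩
      · rintro ⟨hd, ⟨h2, h3⟩, ⟨h1, h4⟩⟩
        exact ⟨⟨fun e => h1 (Subtype.ext e.symm), fun e => h2 (Subtype.ext e.symm), hd⟩, h3, h4⟩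

end Graphs

end Cfsg.Agent.Helper4.Steiner22
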