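import Mathlib
import Cfsg.Agent.Helper4.Steiner22

/-!
# Projective planes of order 4: arcs and hyperovals
-/

set_option autoImplicit false
set_option linter.unusedSectionVars false

namespace Cfsg.Agent.Helper4.Plane4

open Finset Cfsg.Agent.Helper4.Steiner22

section Basic

variable {α : Type*} [Fintype α] [DecidableEq α] {𝓛 : Finset (Finset α)}

/-- A projective plane of order 4 in `Finset` form. -/
structure IsPlane4 (𝓛 : Finset (Finset α)) : Prop where
  card_univ : Fintype.card α = 21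
  card_line : ∀ l ∈ 𝓛, l.card = 5
  uniq : ∀ s : Finset α, s.card = 2 → ∃! l, l ∈ 𝓛 ∧ s ⊆ l

variable (h : IsPlane4 𝓛)
include h

theorem deg2 (s : Finset α) (hs : s.card = 2) : deg 𝓛 s = 1 := by
  obtain ⟨b, ⟨hb, hsb⟩, huniq⟩ := h.uniq s hs
  unfold deg
  rw [card_eq_one]
  refine ⟨b, ?_⟩
  ext c
  simp only [mem_filter, mem_singleton]
  constructor
  · rintro ⟨hc, hsc⟩
    exact huniq c ⟨hc, hsc⟩
  · rintro rfl
    exact ⟨hb, hsb⟩

theorem deg1 (s : Finset α) (hs : s.card = 1) : deg 𝓛 s = 5 := by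
  have := deg_step 𝓛 5 h.card_line s 1 (fun x hx => deg2 h _ (by rw [card_insert_of_notMem hx, hs]))
  rw [h.card_univ, hs] at this
  omega

theorem card_lines : 𝓛.card = 21 := by
  have := deg_step 𝓛 5 h.card_line ∅ 5 (fun x hx => deg1 h _ (by simp))
  rw [h.card_univ, card_empty] at this
  have h2 : deg 𝓛 (∅ : Finset α) = 𝓛.card := by
    unfold deg
    congr 1
    ext b
    simp
  rw [h2] at this
  omega

theorem card_through (x : α) : (𝓛.filter (fun b => x ∈ b)).card = 5 := by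
  have := deg1 h {x} (card_singleton x)
  unfold deg at this
  rw [← this]
  congr 1
  ext b
  simp

theorem card_through_two {x y : α} (hxy : x ≠ y) :
    (𝓛.filter (fun b => x ∈ b ∧ y ∈ b)).card = 1 := by
  have := deg2 h {x, y} (card_pair hxy)
  unfold deg at this
  rw [← this]
  congr 1
  ext b
  simp [insert_subset_iff]

theorem card_through_pair (x y : α) :
    (𝓛.filter (fun d => x ∈ d ∧ y ∈ d)).card = if x = y then 5 else 1 := by
  split_ifs with hxy
  · subst hxy
    rw [← card_through h x]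
    congr 1
    ext d
    simp
  · exact card_through_two h hxy

theorem exists_line {x y : α} (hxy : x ≠ y) : ∃ l ∈ 𝓛, x ∈ l ∧ y ∈ l := by
  have h1 := card_through_two h hxy
  obtain ⟨l, hl⟩ := card_pos.mp (by rw [h1]; exact Nat.one_pos)
  rw [mem_filter] at hl
  exact ⟨l, hl.1, hl.2⟩

theorem line_unique {x y : α} (hxy : x ≠ y) {l m : Finset α} (hl : l ∈ 𝓛) (hm : m ∈ 𝓛)
    (hxl : x ∈ l) (hyl : y ∈ l) (hxm : x ∈ m) (hym : y ∈ m) : l = m := by
  have h1 := card_through_two h hxy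
  rw [card_eq_one] at h1
  obtain ⟨k, hk⟩ := h1
  have e1 : l ∈ 𝓛.filter (fun b => x ∈ b ∧ y ∈ b) := mem_filter.mpr ⟨hl, hxl, hyl⟩
  have e2 : m ∈ 𝓛.filter (fun b => x ∈ b ∧ y ∈ b) := mem_filter.mpr ⟨hm, hxm, hym⟩
  rw [hk, mem_singleton] at e1 e2
  rw [e1, e2]

theorem inter_le_one {l m : Finset α} (hl : l ∈ 𝓛) (hm : m ∈ 𝓛) (hlm : l ≠ m) :
    (l ∩ m).card ≤ 1 := by
  by_contra hlt
  push Not at hlt
  obtain ⟨x, hx, y, hy, hxy⟩ := one_lt_card.mp hlt
  rw [mem_inter] at hx hy
  exact hlm (line_unique h hxy hl hm hx.1 hy.1 hx.2 hy.2)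

theorem sum_inter {l : Finset α} (hl : l ∈ 𝓛) : ∑ m ∈ 𝓛, (l ∩ m).card = 25 := by
  have key := Finset.sum_card_bipartiteAbove_eq_sum_card_bipartiteBelow
    (s := l) (t := 𝓛) (fun x c => x ∈ c)
  have h1 : ∀ x ∈ l, (𝓛.bipartiteAbove (fun x c => x ∈ c) x).card = 5 := by
    intro x _
    exact card_through h x
  have h2 : ∀ c ∈ 𝓛, (l.bipartiteBelow (fun x c => x ∈ c) c).card = (l ∩ c).card := by
    intro c _
    have e1 : l.bipartiteBelow (fun x c => x ∈ c) c = l ∩ c := by
      ext x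
      simp [Finset.bipartiteBelow]
    rw [e1]
  rw [sum_congr rfl h1, sum_congr rfl h2, sum_const, h.card_line l hl] at key
  rw [← key]
  rfl

theorem inter_card {l m : Finset α} (hl : l ∈ 𝓛) (hm : m ∈ 𝓛) (hlm : l ≠ m) :
    (l ∩ m).card = 1 := by
  have h1 := sum_inter h hl
  rw [← add_sum_erase 𝓛 _ hl, inter_self, h.card_line l hl] at h1
  have hle : ∀ d ∈ 𝓛.erase l, (l ∩ d).card ≤ 1 := by
    intro d hd
    rw [mem_erase] at hd
    exact inter_le_one h hl hd.2 hd.1.symm
  have hc : (𝓛.erase l).card = 20 := by rw [card_erase_of_mem hl, card_lines h]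
  have hsum : ∑ d ∈ 𝓛.erase l, (l ∩ d).card = ∑ _d ∈ 𝓛.erase l, 1 := by
    rw [sum_const, hc, smul_eq_mul]
    omega
  exact (sum_eq_sum_iff_of_le hle).mp hsum m (mem_erase.mpr ⟨hlm.symm, hm⟩)

theorem exists_inter {l m : Finset α} (hl : l ∈ 𝓛) (hm : m ∈ 𝓛) (hlm : l ≠ m) :
    ∃ x, l ∩ m = {x} := card_eq_one.mp (inter_card h hl hm hlm)

end Basic

section Arcs

variable {α : Type*} [Fintype α] [DecidableEq α] {𝓛 : Finset (Finset α)}

/-- A set of points meeting every line in at most two points. -/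
def IsArc (𝓛 : Finset (Finset α)) (T : Finset α) : Prop := ∀ l ∈ 𝓛, (l ∩ T).card ≤ 2

instance (𝓛 : Finset (Finset α)) (T : Finset α) : Decidable (IsArc 𝓛 T) := by
  unfold IsArc
  infer_instance

/-- the secants of `T` -/
def secants (𝓛 : Finset (Finset α)) (T : Finset α) : Finset (Finset α) :=
  𝓛.filter (fun l => (l ∩ T).card = 2)

/-- the number of secants of `T` through `x` -/
def cnum (𝓛 : Finset (Finset α)) (T : Finset α) (x : α) : ℕ :=
  ((secants 𝓛 T).filter (fun l => x ∈ l)).card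

/-- the points extending the arc `T` -/
def extSet (𝓛 : Finset (Finset α)) (T : Finset α) : Finset α :=
  univ.filter (fun x => x ∉ T ∧ IsArc 𝓛 (insert x T))

theorem IsArc.subset {T S : Finset α} (hT : IsArc 𝓛 T) (hS : S ⊆ T) : IsArc 𝓛 S :=
  fun l hl => (card_le_card (inter_subset_inter_left hS)).trans (hT l hl)

theorem mem_secants {T l : Finset α} : l ∈ secants 𝓛 T ↔ l ∈ 𝓛 ∧ (l ∩ T).card = 2 := by
  unfold secants
  rw [mem_filter]

theorem isArc_insert_iff {T : Finset α} (hT : IsArc 𝓛 T) {x : α} (hx : x ∉ T) :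
    IsArc 𝓛 (insert x T) ↔ cnum 𝓛 T x = 0 := by
  unfold cnum
  rw [card_eq_zero, filter_eq_empty_iff]
  constructor
  · intro hins l hl hxl
    rw [mem_secants] at hl
    have h1 := hins l hl.1
    have e1 : l ∩ insert x T = insert x (l ∩ T) := by
      rw [inter_insert_of_mem hxl]
    have hx' : x ∉ l ∩ T := fun hh => hx (mem_inter.mp hh).2
    rw [e1, card_insert_of_notMem hx', hl.2] at h1
    omega
  · intro hno l hl
    by_cases hxl : x ∈ l
    · have e1 : l ∩ insert x T = insert x (l ∩ T) := by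
        rw [inter_insert_of_mem hxl]
      have hx' : x ∉ l ∩ T := fun hh => hx (mem_inter.mp hh).2
      rw [e1, card_insert_of_notMem hx']
      have h1 := hT l hl
      have h2 : (l ∩ T).card ≠ 2 := fun h2 => hno (mem_secants.mpr ⟨hl, h2⟩) hxl
      omega
    · rw [inter_insert_of_notMem hxl]
      exact hT l hl

theorem mem_extSet {T : Finset α} (hT : IsArc 𝓛 T) {x : α} :
    x ∈ extSet 𝓛 T ↔ x ∉ T ∧ cnum 𝓛 T x = 0 := by
  unfold extSet
  rw [mem_filter]
  constructor
  · rintro ⟨-, hx, hins⟩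
    exact ⟨hx, (isArc_insert_iff hT hx).mp hins⟩
  · rintro ⟨hx, hc⟩
    exact ⟨mem_univ _, hx, (isArc_insert_iff hT hx).mpr hc⟩

variable (h : IsPlane4 𝓛)
include h

/-- twice the number of secants -/
theorem two_mul_card_secants {T : Finset α} (hT : IsArc 𝓛 T) :
    2 * (secants 𝓛 T).card = T.card * T.card - T.card := by
  have key := Finset.sum_card_bipartiteAbove_eq_sum_card_bipartiteBelow
    (s := T.offDiag) (t := 𝓛) (fun p c => p.1 ∈ c ∧ p.2 ∈ c)
  have h1 : ∀ p ∈ T.offDiag, (𝓛.bipartiteAbove (fun p c => p.1 ∈ c ∧ p.2 ∈ c) p).card = 1 := by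
    intro p hp
    rw [mem_offDiag] at hp
    exact card_through_two h hp.2.2
  have h2 : ∀ c ∈ 𝓛, (T.offDiag.bipartiteBelow (fun p c => p.1 ∈ c ∧ p.2 ∈ c) c).card =
      if (c ∩ T).card = 2 then 2 else 0 := by
    intro c hc
    have e1 : T.offDiag.bipartiteBelow (fun p c => p.1 ∈ c ∧ p.2 ∈ c) c = (c ∩ T).offDiag := by
      ext p
      simp only [Finset.bipartiteBelow, mem_filter, mem_offDiag, mem_inter]
      tauto
    rw [e1, offDiag_card]
    have := hT c hc
    interval_cases (c ∩ T).card <;> simp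
  rw [sum_congr rfl h1, sum_congr rfl h2, sum_const, offDiag_card, sum_ite, sum_const,
    sum_const_zero, smul_eq_mul, smul_eq_mul, mul_one, add_zero] at key
  unfold secants
  rw [key, mul_comm]

theorem cnum_of_mem {T : Finset α} (hT : IsArc 𝓛 T) {x : α} (hx : x ∈ T) :
    cnum 𝓛 T x = T.card - 1 := by
  have key := Finset.sum_card_bipartiteAbove_eq_sum_card_bipartiteBelow
    (s := T.erase x) (t := 𝓛.filter (fun l => x ∈ l)) (fun y c => y ∈ c)
  have h1 : ∀ y ∈ T.erase x,
      ((𝓛.filter (fun l => x ∈ l)).bipartiteAbove (fun y c => y ∈ c) y).card = 1 := by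
    intro y hy
    rw [mem_erase] at hy
    rw [← card_through_two h hy.1.symm]
    congr 1
    ext c
    simp only [Finset.bipartiteAbove, mem_filter]
    tauto
  have h2 : ∀ c ∈ 𝓛.filter (fun l => x ∈ l),
      ((T.erase x).bipartiteBelow (fun y c => y ∈ c) c).card =
        if (c ∩ T).card = 2 then 1 else 0 := by
    intro c hc
    rw [mem_filter] at hc
    have e1 : (T.erase x).bipartiteBelow (fun y c => y ∈ c) c = (c ∩ T).erase x := by
      ext y
      simp only [Finset.bipartiteBelow, mem_filter, mem_erase, mem_inter]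
      tauto
    have hxc : x ∈ c ∩ T := mem_inter.mpr ⟨hc.2, hx⟩
    rw [e1, card_erase_of_mem hxc]
    have := hT c hc.1
    have hpos : 0 < (c ∩ T).card := card_pos.mpr ⟨x, hxc⟩
    interval_cases (c ∩ T).card <;> simp
  rw [sum_congr rfl h1, sum_congr rfl h2, sum_const, card_erase_of_mem hx, sum_ite, sum_const,
    sum_const_zero, smul_eq_mul, smul_eq_mul, mul_one, mul_one, add_zero, filter_filter] at key
  unfold cnum secants
  rw [filter_filter, key]
  congr 1
  ext c
  simp only [mem_filter]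
  tauto

theorem sum_inter_through {T : Finset α} {x : α} (hx : x ∉ T) :
    ∑ l ∈ 𝓛.filter (fun l => x ∈ l), (l ∩ T).card = T.card := by
  have key := Finset.sum_card_bipartiteAbove_eq_sum_card_bipartiteBelow
    (s := T) (t := 𝓛.filter (fun l => x ∈ l)) (fun y c => y ∈ c)
  have h1 : ∀ y ∈ T,
      ((𝓛.filter (fun l => x ∈ l)).bipartiteAbove (fun y c => y ∈ c) y).card = 1 := by
    intro y hy
    have hxy : x ≠ y := fun e => hx (e ▸ hy)
    rw [← card_through_two h hxy]
    congr 1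
    ext c
    simp only [Finset.bipartiteAbove, mem_filter]
    tauto
  have h2 : ∀ c ∈ 𝓛.filter (fun l => x ∈ l),
      (T.bipartiteBelow (fun y c => y ∈ c) c).card = (c ∩ T).card := by
    intro c _
    have e1 : T.bipartiteBelow (fun y c => y ∈ c) c = c ∩ T := by
      ext y
      simp only [Finset.bipartiteBelow, mem_filter, mem_inter]
      tauto
    rw [e1]
  rw [sum_congr rfl h1, sum_congr rfl h2, sum_const, smul_eq_mul, mul_one] at key
  exact key.symm

theorem two_mul_cnum_le {T : Finset α} {x : α} (hx : x ∉ T) :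
    2 * cnum 𝓛 T x ≤ T.card := by
  rw [← sum_inter_through h hx]
  unfold cnum secants
  rw [filter_filter]
  have e1 : 𝓛.filter (fun l => (l ∩ T).card = 2 ∧ x ∈ l) =
      (𝓛.filter (fun l => x ∈ l)).filter (fun l => (l ∩ T).card = 2) := by
    rw [filter_filter]
    congr 1
    ext l
    tauto
  rw [e1, mul_comm, ← smul_eq_mul, ← sum_const]
  calc ∑ _l ∈ (𝓛.filter (fun l => x ∈ l)).filter (fun l => (l ∩ T).card = 2), 2
      = ∑ l ∈ (𝓛.filter (fun l => x ∈ l)).filter (fun l => (l ∩ T).card = 2), (l ∩ T).card := by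
        apply sum_congr rfl
        intro l hl
        rw [mem_filter] at hl
        exact hl.2.symm
    _ ≤ ∑ l ∈ 𝓛.filter (fun l => x ∈ l), (l ∩ T).card :=
        sum_le_sum_of_subset (filter_subset _ _)

theorem sum_cnum (T : Finset α) : ∑ x, cnum 𝓛 T x = 5 * (secants 𝓛 T).card := by
  have key := Finset.sum_card_bipartiteAbove_eq_sum_card_bipartiteBelow
    (s := (univ : Finset α)) (t := secants 𝓛 T) (fun y c => y ∈ c)
  have h2 : ∀ c ∈ secants 𝓛 T, ((univ : Finset α).bipartiteBelow (fun y c => y ∈ c) c).card = 5 := by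
    intro c hc
    have e1 : (univ : Finset α).bipartiteBelow (fun y c => y ∈ c) c = c := by
      ext y
      simp [Finset.bipartiteBelow]
    rw [e1]
    exact h.card_line c (mem_secants.mp hc).1
  rw [sum_congr rfl h2, sum_const, smul_eq_mul, mul_comm] at key
  rw [← key]
  rfl

theorem sum_cnum_sq (T : Finset α) :
    ∑ x, cnum 𝓛 T x * cnum 𝓛 T x =
      (secants 𝓛 T).card * (secants 𝓛 T).card + 4 * (secants 𝓛 T).card := by
  have key := Finset.sum_card_bipartiteAbove_eq_sum_card_bipartiteBelow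
    (s := (univ : Finset α)) (t := secants 𝓛 T ×ˢ secants 𝓛 T) (fun y p => y ∈ p.1 ∧ y ∈ p.2)
  have h1 : ∀ x ∈ (univ : Finset α),
      ((secants 𝓛 T ×ˢ secants 𝓛 T).bipartiteAbove (fun y p => y ∈ p.1 ∧ y ∈ p.2) x).card =
        cnum 𝓛 T x * cnum 𝓛 T x := by
    intro x _
    unfold cnum
    rw [← card_product]
    congr 1
    ext p
    simp only [Finset.bipartiteAbove, mem_filter, mem_product]
    tauto
  have h2 : ∀ p ∈ secants 𝓛 T ×ˢ secants 𝓛 T,
      ((univ : Finset α).bipartiteBelow (fun y p => y ∈ p.1 ∧ y ∈ p.2) p).card =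
        if p.1 = p.2 then 5 else 1 := by
    intro p hp
    rw [mem_product] at hp
    have e1 : (univ : Finset α).bipartiteBelow (fun y p => y ∈ p.1 ∧ y ∈ p.2) p = p.1 ∩ p.2 := by
      ext y
      simp [Finset.bipartiteBelow]
    rw [e1]
    split_ifs with hpp
    · rw [← hpp, inter_self]
      exact h.card_line _ (mem_secants.mp hp.1).1
    · exact inter_card h (mem_secants.mp hp.1).1 (mem_secants.mp hp.2).1 hpp
  rw [sum_congr rfl h1, sum_congr rfl h2, sum_ite, sum_const, sum_const, smul_eq_mul,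
    smul_eq_mul, mul_one] at key
  have hD : ((secants 𝓛 T ×ˢ secants 𝓛 T).filter (fun p => p.1 = p.2)).card =
      (secants 𝓛 T).card := by
    have e1 : (secants 𝓛 T ×ˢ secants 𝓛 T).filter (fun p => p.1 = p.2) =
        (secants 𝓛 T).image (fun x => (x, x)) := by
      ext p
      simp only [mem_filter, mem_product, mem_image]
      constructor
      · rintro ⟨⟨h1, h2⟩, h3⟩
        exact ⟨p.1, h1, Prod.ext rfl h3⟩
      · rintro ⟨x, h1, rfl⟩
        exact ⟨⟨h1, h1⟩, rfl⟩
    rw [e1, card_image_of_injective]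
    intro x y hxy
    exact (Prod.mk.inj hxy).1
  have hT := card_filter_add_card_filter_not (s := secants 𝓛 T ×ˢ secants 𝓛 T)
    (fun p => p.1 = p.2)
  rw [card_product, hD] at hT
  rw [hD] at key
  rw [key]
  have : (secants 𝓛 T).card ≤ (secants 𝓛 T).card * (secants 𝓛 T).card :=
    Nat.le_mul_self _
  omega

end Arcs

section Count

variable {α : Type*} [Fintype α] [DecidableEq α] {𝓛 : Finset (Finset α)}
variable (h : IsPlane4 𝓛)
include h

theorem ext_count {T : Finset α} (hT : IsArc 𝓛 T) (hk : T.card ≤ 5) :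
    ∃ A B : ℕ, A + T.card * (T.card - 1) = 5 * (secants 𝓛 T).card ∧
      B + T.card * ((T.card - 1) * (T.card - 1)) =
        (secants 𝓛 T).card * (secants 𝓛 T).card + 4 * (secants 𝓛 T).card ∧
      B + 2 * (21 - T.card) = 3 * A + 2 * (extSet 𝓛 T).card := by
  refine ⟨∑ x ∈ univ \ T, cnum 𝓛 T x, ∑ x ∈ univ \ T, cnum 𝓛 T x * cnum 𝓛 T x, ?_, ?_, ?_⟩
  · rw [← sum_cnum h T, ← sum_sdiff (subset_univ T)]
    congr 1
    rw [sum_congr rfl (fun x hx => cnum_of_mem h hT hx), sum_const, smul_eq_mul]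
  · rw [← sum_cnum_sq h T, ← sum_sdiff (subset_univ T)]
    congr 1
    rw [sum_congr rfl (fun x hx => by rw [cnum_of_mem h hT hx]), sum_const, smul_eq_mul]
  · have e1 : ∀ x ∈ univ \ T, cnum 𝓛 T x * cnum 𝓛 T x + 2 =
        3 * cnum 𝓛 T x + if cnum 𝓛 T x = 0 then 2 else 0 := by
      intro x hx
      have hx' : x ∉ T := (mem_sdiff.mp hx).2
      have h1 := two_mul_cnum_le h (T := T) hx'
      have h2 : cnum 𝓛 T x ≤ 2 := by omega
      interval_cases cnum 𝓛 T x <;> simp
    have e2 := sum_congr rfl e1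
    rw [sum_add_distrib, sum_add_distrib, sum_const, ← mul_sum, sum_ite, sum_const, sum_const_zero,
      add_zero, smul_eq_mul, smul_eq_mul, card_sdiff_of_subset (subset_univ T), card_univ,
      h.card_univ] at e2
    have e3 : (univ \ T).filter (fun x => cnum 𝓛 T x = 0) = extSet 𝓛 T := by
      ext x
      rw [mem_extSet hT, mem_filter, mem_sdiff]
      simp
    rw [e3] at e2
    rw [mul_comm (21 - T.card) 2, mul_comm (extSet 𝓛 T).card 2] at e2
    exact e2

theorem card_ext_two {T : Finset α} (hT : IsArc 𝓛 T) (hk : T.card = 2) :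
    (extSet 𝓛 T).card = 16 := by
  obtain ⟨A, B, hA, hB, hE⟩ := ext_count h hT (by omega)
  have hN := two_mul_card_secants h hT
  rw [hk] at hA hB hE hN
  have hN' : (secants 𝓛 T).card = 1 := by omega
  rw [hN'] at hA hB
  omega

theorem card_ext_three {T : Finset α} (hT : IsArc 𝓛 T) (hk : T.card = 3) :
    (extSet 𝓛 T).card = 9 := by
  obtain ⟨A, B, hA, hB, hE⟩ := ext_count h hT (by omega)
  have hN := two_mul_card_secants h hT
  rw [hk] at hA hB hE hN
  have hN' : (secants 𝓛 T).card = 3 := by omega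
  rw [hN'] at hA hB
  omega

theorem card_ext_four {T : Finset α} (hT : IsArc 𝓛 T) (hk : T.card = 4) :
    (extSet 𝓛 T).card = 2 := by
  obtain ⟨A, B, hA, hB, hE⟩ := ext_count h hT (by omega)
  have hN := two_mul_card_secants h hT
  rw [hk] at hA hB hE hN
  have hN' : (secants 𝓛 T).card = 6 := by omega
  rw [hN'] at hA hB
  omega

theorem card_ext_five {T : Finset α} (hT : IsArc 𝓛 T) (hk : T.card = 5) :
    (extSet 𝓛 T).card = 1 := by
  obtain ⟨A, B, hA, hB, hE⟩ := ext_count h hT (by omega)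
  have hN := two_mul_card_secants h hT
  rw [hk] at hA hB hE hN
  have hN' : (secants 𝓛 T).card = 10 := by omega
  rw [hN'] at hA hB
  omega

end Count

section Chain

variable {α : Type*} [Fintype α] [DecidableEq α] {𝓛 : Finset (Finset α)}

/-- the arcs of size `k` -/
def arcs (𝓛 : Finset (Finset α)) (k : ℕ) : Finset (Finset α) :=
  (powersetCard k (univ : Finset α)).filter (IsArc 𝓛)

theorem mem_arcs {k : ℕ} {T : Finset α} : T ∈ arcs 𝓛 k ↔ T.card = k ∧ IsArc 𝓛 T := by
  unfold arcs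
  rw [mem_filter, mem_powersetCard]
  simp

theorem chain (k : ℕ) :
    (arcs 𝓛 (k + 1)).card * (k + 1) = ∑ T ∈ arcs 𝓛 k, (extSet 𝓛 T).card := by
  have e1 : (arcs 𝓛 (k + 1)).card * (k + 1) = ∑ S ∈ arcs 𝓛 (k + 1), S.card := by
    rw [sum_congr rfl (fun S hS => (mem_arcs.mp hS).1), sum_const, smul_eq_mul]
  rw [e1, ← card_sigma, ← card_sigma]
  refine card_bij' (fun p _ => ⟨p.1.erase p.2, p.2⟩) (fun p _ => ⟨insert p.2 p.1, p.2⟩)
    ?_ ?_ ?_ ?_
  · rintro ⟨S, x⟩ hp
    rw [mem_sigma] at hp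
    obtain ⟨hS, hx⟩ := hp
    rw [mem_arcs] at hS
    have hx' : x ∈ S := hx
    rw [mem_sigma]
    refine ⟨mem_arcs.mpr ⟨?_, hS.2.subset (erase_subset _ _)⟩, ?_⟩
    · rw [card_erase_of_mem hx', hS.1]
      rfl
    · show x ∈ extSet 𝓛 (S.erase x)
      unfold extSet
      rw [mem_filter]
      refine ⟨mem_univ _, notMem_erase x S, ?_⟩
      rw [insert_erase hx']
      exact hS.2
  · rintro ⟨T, x⟩ hp
    rw [mem_sigma] at hp
    obtain ⟨hT, hx⟩ := hp
    rw [mem_arcs] at hT
    have hx' : x ∈ extSet 𝓛 T := hx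
    unfold extSet at hx'
    rw [mem_filter] at hx'
    rw [mem_sigma]
    refine ⟨mem_arcs.mpr ⟨?_, hx'.2.2⟩, ?_⟩
    · rw [card_insert_of_notMem hx'.2.1, hT.1]
    · exact mem_insert_self x T
  · rintro ⟨S, x⟩ hp
    rw [mem_sigma] at hp
    have hx' : x ∈ S := hp.2
    simp only [insert_erase hx']
  · rintro ⟨T, x⟩ hp
    rw [mem_sigma] at hp
    have hx' : x ∈ extSet 𝓛 T := hp.2
    unfold extSet at hx'
    rw [mem_filter] at hx'
    simp only [erase_insert hx'.2.1]

variable (h : IsPlane4 𝓛)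
include h

theorem card_arcs_two : (arcs 𝓛 2).card = 210 := by
  have e1 : arcs 𝓛 2 = powersetCard 2 (univ : Finset α) := by
    unfold arcs
    rw [filter_eq_self]
    intro T hT l _
    rw [mem_powersetCard] at hT
    exact (card_le_card inter_subset_right).trans hT.2.le
  rw [e1, card_powersetCard, card_univ, h.card_univ]
  rfl

theorem card_arcs_three : (arcs 𝓛 3).card = 1120 := by
  have h1 : (arcs 𝓛 3).card * 3 = ∑ T ∈ arcs 𝓛 2, (extSet 𝓛 T).card := chain (𝓛 := 𝓛) 2
  rw [sum_congr rfl (fun T hT => card_ext_two h (mem_arcs.mp hT).2 (mem_arcs.mp hT).1), sum_const,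
    card_arcs_two h, smul_eq_mul] at h1
  omega

theorem card_arcs_four : (arcs 𝓛 4).card = 2520 := by
  have h1 : (arcs 𝓛 4).card * 4 = ∑ T ∈ arcs 𝓛 3, (extSet 𝓛 T).card := chain (𝓛 := 𝓛) 3
  rw [sum_congr rfl (fun T hT => card_ext_three h (mem_arcs.mp hT).2 (mem_arcs.mp hT).1),
    sum_const, card_arcs_three h, smul_eq_mul] at h1
  omega

theorem card_arcs_five : (arcs 𝓛 5).card = 1008 := by
  have h1 : (arcs 𝓛 5).card * 5 = ∑ T ∈ arcs 𝓛 4, (extSet 𝓛 T).card := chain (𝓛 := 𝓛) 4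
  rw [sum_congr rfl (fun T hT => card_ext_four h (mem_arcs.mp hT).2 (mem_arcs.mp hT).1),
    sum_const, card_arcs_four h, smul_eq_mul] at h1
  omega

theorem card_arcs_six : (arcs 𝓛 6).card = 168 := by
  have h1 : (arcs 𝓛 6).card * 6 = ∑ T ∈ arcs 𝓛 5, (extSet 𝓛 T).card := chain (𝓛 := 𝓛) 5
  rw [sum_congr rfl (fun T hT => card_ext_five h (mem_arcs.mp hT).2 (mem_arcs.mp hT).1),
    sum_const, card_arcs_five h, smul_eq_mul] at h1
  omega

/-- every quadrangle lies in a unique hyperoval -/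
theorem existsUnique_hyperoval {S : Finset α} (hS : S.card = 4) (hSa : IsArc 𝓛 S) :
    ∃! H : Finset α, (H.card = 6 ∧ IsArc 𝓛 H) ∧ S ⊆ H := by
  have h2 := card_ext_four h hSa hS
  obtain ⟨e, f, hef, hE⟩ := card_eq_two.mp h2
  have he : e ∈ extSet 𝓛 S := by rw [hE]; exact mem_insert_self _ _
  have hf : f ∈ extSet 𝓛 S := by rw [hE]; simp
  unfold extSet at he hf
  rw [mem_filter] at he hf
  -- the 5-arc
  have hR : IsArc 𝓛 (insert e S) := he.2.2
  have hRc : (insert e S).card = 5 := by rw [card_insert_of_notMem he.2.1, hS]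
  have h1 := card_ext_five h hR hRc
  obtain ⟨g, hg⟩ := card_eq_one.mp h1
  have hgm : g ∈ extSet 𝓛 (insert e S) := by rw [hg]; exact mem_singleton_self _
  unfold extSet at hgm
  rw [mem_filter] at hgm
  have hgS : g ∉ S := fun hh => hgm.2.1 (mem_insert_of_mem hh)
  have hge : g ≠ e := fun hh => hgm.2.1 (hh ▸ mem_insert_self _ _)
  have hgE : g ∈ extSet 𝓛 S := by
    unfold extSet
    rw [mem_filter]
    refine ⟨mem_univ _, hgS, hgm.2.2.subset ?_⟩
    intro x hx
    rw [mem_insert] at hx ⊢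
    rcases hx with rfl | hx
    · exact Or.inl rfl
    · exact Or.inr (mem_insert_of_mem hx)
  rw [hE, mem_insert, mem_singleton] at hgE
  have hgf : g = f := hgE.resolve_left hge
  subst hgf
  refine ⟨insert g (insert e S), ⟨⟨?_, hgm.2.2⟩, ?_⟩, ?_⟩
  · rw [card_insert_of_notMem hgm.2.1, hRc]
  · exact (subset_insert _ _).trans (subset_insert _ _)
  · rintro H ⟨⟨hH6, hHa⟩, hSH⟩
    have hsub : H \ S ⊆ extSet 𝓛 S := by
      intro x hx
      rw [mem_sdiff] at hx
      unfold extSet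
      rw [mem_filter]
      refine ⟨mem_univ _, hx.2, hHa.subset ?_⟩
      intro y hy
      rw [mem_insert] at hy
      rcases hy with rfl | hy
      · exact hx.1
      · exact hSH hy
    have hc : (H \ S).card = 2 := by rw [card_sdiff_of_subset hSH, hH6, hS]
    have heq : H \ S = extSet 𝓛 S := eq_of_subset_of_card_le hsub (by rw [hc, h2])
    have hH : H = (H \ S) ∪ S := (sdiff_union_of_subset hSH).symm
    rw [hH, heq, hE]
    ext x
    simp only [mem_union, mem_insert, mem_singleton]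
    tauto

end Chain

section FromSet

open Cfsg

variable {α : Type*} [Fintype α] [DecidableEq α]

/-- the lines as a `Finset` -/
noncomputable def linesFinset (L : Set (Finset α)) : Finset (Finset α) :=
  (Set.toFinite L).toFinset

theorem mem_linesFinset {L : Set (Finset α)} {l : Finset α} : l ∈ linesFinset L ↔ l ∈ L :=
  Set.Finite.mem_toFinset _

theorem isPlane4_linesFinset (hα : Fintype.card α = 21) {L : Set (Finset α)}
    (hL : IsSteinerSystem 2 5 L) : IsPlane4 (linesFinset L) where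
  card_univ := hα
  card_line l hl := hL.1 l (mem_linesFinset.mp hl)
  uniq s hs := by
    obtain ⟨b, ⟨hb, hsb⟩, hu⟩ := hL.2 s hs
    exact ⟨b, ⟨mem_linesFinset.mpr hb, hsb⟩, fun c hc => hu c ⟨mem_linesFinset.mp hc.1, hc.2⟩⟩

theorem isArc_linesFinset {L : Set (Finset α)} {S : Finset α} :
    IsArc (linesFinset L) S ↔ ∀ l ∈ L, (l ∩ S).card ≤ 2 := by
  unfold IsArc
  constructor
  · intro hh l hl
    exact hh l (mem_linesFinset.mpr hl)
  · intro hh l hl
    exact hh l (mem_linesFinset.mp hl)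

theorem arcs_coe (L : Set (Finset α)) (k : ℕ) :
    {S : Finset α | S.card = k ∧ ∀ l ∈ L, (l ∩ S).card ≤ 2} = ↑(arcs (linesFinset L) k) := by
  ext S
  rw [Set.mem_ofPred_eq, mem_coe, mem_arcs, isArc_linesFinset]

theorem hyperoval_main (hα : Fintype.card α = 21) (L : Set (Finset α))
    (hL : IsSteinerSystem 2 5 L) :
    {S : Finset α | (S.card = 4 ∧ ∀ l ∈ L, (l ∩ S).card ≤ 2)}.ncard = 2520 ∧
    {H : Finset α | (H.card = 6 ∧ ∀ l ∈ L, (l ∩ H).card ≤ 2)}.ncard = 168 ∧
    ∀ S : Finset α, (S.card = 4 ∧ ∀ l ∈ L, (l ∩ S).card ≤ 2) →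
      ∃! H : Finset α, (H.card = 6 ∧ ∀ l ∈ L, (l ∩ H).card ≤ 2) ∧ S ⊆ H := by
  have h := isPlane4_linesFinset hα hL
  refine ⟨?_, ?_, ?_⟩
  · rw [arcs_coe, Set.ncard_coe_finset, card_arcs_four h]
  · rw [arcs_coe, Set.ncard_coe_finset, card_arcs_six h]
  · rintro S ⟨hS, hSa⟩
    obtain ⟨H, ⟨⟨hH6, hHa⟩, hSH⟩, hu⟩ :=
      existsUnique_hyperoval h hS (isArc_linesFinset.mpr hSa)
    refine ⟨H, ⟨⟨hH6, isArc_linesFinset.mp hHa⟩, hSH⟩, ?_⟩
    rintro H' ⟨⟨hH6', hHa'⟩, hSH'⟩
    exact hu H' ⟨⟨hH6', isArc_linesFinset.mpr hHa'⟩, hSH'⟩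

end FromSet

end Cfsg.Agent.Helper4.Plane4
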