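import Mathlib
import Cfsg.Agent.Helper4.Plane4

/-!
# Hyperovals in projective planes of order 4 and extension of bijections
-/

set_option autoImplicit false
set_option linter.unusedSectionVars false

namespace Cfsg.Agent.Helper4.Plane4

open Finset Cfsg.Agent.Helper4.Steiner22

section Hyperoval

variable {α : Type*} [Fintype α] [DecidableEq α] {𝓛 : Finset (Finset α)}

/-- three points on a common line -/
def Col (𝓛 : Finset (Finset α)) (a b c : α) : Prop := ∃ l ∈ 𝓛, a ∈ l ∧ b ∈ l ∧ c ∈ l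

theorem Col.symm12 {a b c : α} (hc : Col 𝓛 a b c) : Col 𝓛 b a c := by
  obtain ⟨l, hl, h1, h2, h3⟩ := hc
  exact ⟨l, hl, h2, h1, h3⟩

/-- A hyperoval: a 6-arc. -/
structure IsHyperoval (𝓛 : Finset (Finset α)) (H : Finset α) : Prop where
  card : H.card = 6
  arc : IsArc 𝓛 H

variable (h : IsPlane4 𝓛) {H : Finset α} (hH : IsHyperoval 𝓛 H)
include h hH

theorem secant_of_mem {l : Finset α} (hl : l ∈ 𝓛) {p : α} (hp : p ∈ H) (hpl : p ∈ l) :
    (l ∩ H).card = 2 := by
  have h1 := cnum_of_mem h hH.arc hp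
  rw [hH.card] at h1
  unfold cnum at h1
  have hsub : (secants 𝓛 H).filter (fun l => p ∈ l) ⊆ 𝓛.filter (fun l => p ∈ l) := by
    intro m hm
    rw [mem_filter] at hm ⊢
    exact ⟨(mem_secants.mp hm.1).1, hm.2⟩
  have heq := eq_of_subset_of_card_le hsub (by rw [card_through h p, h1])
  have hm : l ∈ (secants 𝓛 H).filter (fun l => p ∈ l) := by
    rw [heq, mem_filter]
    exact ⟨hl, hpl⟩
  rw [mem_filter, mem_secants] at hm
  exact hm.1.2

theorem inter_hyperoval {l : Finset α} (hl : l ∈ 𝓛) : (l ∩ H).card = 0 ∨ (l ∩ H).card = 2 := by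
  by_cases hne : (l ∩ H).Nonempty
  · obtain ⟨p, hp⟩ := hne
    rw [mem_inter] at hp
    exact Or.inr (secant_of_mem h hH hl hp.2 hp.1)
  · left
    rw [not_nonempty_iff_eq_empty] at hne
    rw [hne, card_empty]

theorem cnum_off {x : α} (hx : x ∉ H) : cnum 𝓛 H x = 3 := by
  have h1 := sum_inter_through h (T := H) hx
  rw [hH.card] at h1
  have e1 : ∀ l ∈ 𝓛.filter (fun l => x ∈ l), (l ∩ H).card =
      if (l ∩ H).card = 2 then 2 else 0 := by
    intro l hl
    rw [mem_filter] at hl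
    rcases inter_hyperoval h hH hl.1 with h0 | h2
    · rw [h0]; simp
    · rw [h2]; simp
  rw [sum_congr rfl e1, sum_ite, sum_const, sum_const_zero, add_zero, smul_eq_mul,
    filter_filter] at h1
  unfold cnum secants
  rw [filter_filter]
  have e2 : 𝓛.filter (fun l => (l ∩ H).card = 2 ∧ x ∈ l) =
      𝓛.filter (fun l => x ∈ l ∧ (l ∩ H).card = 2) := by
    congr 1
    ext l
    tauto
  rw [e2]
  omega

theorem card_external_through {x : α} (hx : x ∉ H) :
    (𝓛.filter (fun l => x ∈ l ∧ (l ∩ H).card = 0)).card = 2 := by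
  have h1 := cnum_off h hH hx
  unfold cnum secants at h1
  rw [filter_filter] at h1
  have h2 := card_filter_add_card_filter_not (s := 𝓛.filter (fun l => x ∈ l))
    (fun l => (l ∩ H).card = 2)
  rw [card_through h x, filter_filter, filter_filter] at h2
  have e1 : 𝓛.filter (fun l => x ∈ l ∧ (l ∩ H).card = 2) =
      𝓛.filter (fun l => (l ∩ H).card = 2 ∧ x ∈ l) := by
    congr 1
    ext l
    tauto
  have e2 : 𝓛.filter (fun l => x ∈ l ∧ ¬ (l ∩ H).card = 2) =
      𝓛.filter (fun l => x ∈ l ∧ (l ∩ H).card = 0) := by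
    apply filter_congr
    intro l hl
    constructor
    · rintro ⟨h3, h4⟩
      refine ⟨h3, ?_⟩
      rcases inter_hyperoval h hH hl with h0 | h2
      · exact h0
      · exact absurd h2 h4
    · rintro ⟨h3, h4⟩
      exact ⟨h3, by rw [h4]; decide⟩
  rw [e1, h1, e2] at h2
  omega

/-- an off-point lies on at most two external lines -/
theorem external_trichotomy {x : α} (hx : x ∉ H) {a b c : Finset α} (ha : a ∈ 𝓛) (hb : b ∈ 𝓛)
    (hc : c ∈ 𝓛) (hxa : x ∈ a) (hxb : x ∈ b) (hxc : x ∈ c) (ha0 : (a ∩ H).card = 0)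
    (hb0 : (b ∩ H).card = 0) (hc0 : (c ∩ H).card = 0) (hab : a ≠ b) : c = a ∨ c = b := by
  have h2 := card_external_through h hH hx
  by_contra hcon
  push Not at hcon
  have hsub : ({a, b, c} : Finset (Finset α)) ⊆
      𝓛.filter (fun l => x ∈ l ∧ (l ∩ H).card = 0) := by
    intro l hl
    rw [mem_insert, mem_insert, mem_singleton] at hl
    rw [mem_filter]
    rcases hl with rfl | rfl | rfl
    · exact ⟨ha, hxa, ha0⟩
    · exact ⟨hb, hxb, hb0⟩
    · exact ⟨hc, hxc, hc0⟩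
  have h3 : ({a, b, c} : Finset (Finset α)).card = 3 := by
    rw [card_eq_three]
    exact ⟨a, b, c, hab, hcon.1.symm, hcon.2.symm, rfl⟩
  have := card_le_card hsub
  omega

theorem exists_mate {x : α} (hx : x ∉ H) {p : α} (hp : p ∈ H) :
    ∃ q, q ∈ H ∧ q ≠ p ∧ Col 𝓛 p q x := by
  have hxp : x ≠ p := fun e => hx (e ▸ hp)
  obtain ⟨l, hl, hxl, hpl⟩ := exists_line h hxp
  have h2 := secant_of_mem h hH hl hp hpl
  have hp' : p ∈ l ∩ H := mem_inter.mpr ⟨hpl, hp⟩
  have h1 : ((l ∩ H).erase p).card = 1 := by rw [card_erase_of_mem hp', h2]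
  obtain ⟨q, hq⟩ := card_eq_one.mp h1
  have hq' : q ∈ (l ∩ H).erase p := by rw [hq]; exact mem_singleton_self _
  rw [mem_erase, mem_inter] at hq'
  exact ⟨q, hq'.2.2, hq'.1, l, hl, hpl, hq'.2.1, hxl⟩

theorem mate_unique {x : α} (hx : x ∉ H) {p : α} (hp : p ∈ H) {q q' : α} (hq : q ∈ H)
    (hq' : q' ∈ H) (hqp : q ≠ p) (hqp' : q' ≠ p) (hc : Col 𝓛 p q x) (hc' : Col 𝓛 p q' x) :
    q = q' := by
  have hxp : x ≠ p := fun e => hx (e ▸ hp)
  obtain ⟨l, hl, h1, h2, h3⟩ := hc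
  obtain ⟨l', hl', h1', h2', h3'⟩ := hc'
  have hll : l = l' := line_unique h hxp hl hl' h3 h1 h3' h1'
  subst hll
  by_contra hne
  have hsub : ({p, q, q'} : Finset α) ⊆ l ∩ H := by
    intro y hy
    rw [mem_insert, mem_insert, mem_singleton] at hy
    rw [mem_inter]
    rcases hy with rfl | rfl | rfl
    · exact ⟨h1, hp⟩
    · exact ⟨h2, hq⟩
    · exact ⟨h2', hq'⟩
  have h3c : ({p, q, q'} : Finset α).card = 3 := by
    rw [card_eq_three]
    exact ⟨p, q, q', hqp.symm, hqp'.symm, hne, rfl⟩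
  have := card_le_card hsub
  have := hH.arc l hl
  omega

end Hyperoval

section Mate

variable {α : Type*} [Fintype α] [DecidableEq α] {𝓛 : Finset (Finset α)}

open Classical in
/-- the other point of `H` on the line through `x` and `p` -/
noncomputable def mate (𝓛 : Finset (Finset α)) (H : Finset α) (x p : α) : α :=
  if hq : ∃ q, q ∈ H ∧ q ≠ p ∧ Col 𝓛 p q x then Classical.choose hq else p

variable (h : IsPlane4 𝓛) {H : Finset α} (hH : IsHyperoval 𝓛 H)
include h hH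

theorem mate_spec {x : α} (hx : x ∉ H) {p : α} (hp : p ∈ H) :
    mate 𝓛 H x p ∈ H ∧ mate 𝓛 H x p ≠ p ∧ Col 𝓛 p (mate 𝓛 H x p) x := by
  have hq := exists_mate h hH hx hp
  unfold mate
  rw [dif_pos hq]
  exact Classical.choose_spec hq

theorem mate_eq {x : α} (hx : x ∉ H) {p : α} (hp : p ∈ H) {q : α} (hq : q ∈ H) (hqp : q ≠ p)
    (hc : Col 𝓛 p q x) : mate 𝓛 H x p = q := by
  obtain ⟨h1, h2, h3⟩ := mate_spec h hH hx hp
  exact mate_unique h hH hx hp h1 hq h2 hqp h3 hc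

theorem mate_mate {x : α} (hx : x ∉ H) {p : α} (hp : p ∈ H) :
    mate 𝓛 H x (mate 𝓛 H x p) = p := by
  obtain ⟨h1, h2, h3⟩ := mate_spec h hH hx hp
  exact mate_eq h hH hx h1 hp h2.symm h3.symm12

theorem mate_avoid {x : α} (hx : x ∉ H) {a k : α} (ha : a ∈ H) (hk : k ∈ H) (hka : k ≠ a)
    (hkb : k ≠ mate 𝓛 H x a) : mate 𝓛 H x k ≠ a ∧ mate 𝓛 H x k ≠ mate 𝓛 H x a := by
  constructor
  · intro e
    apply hkb
    rw [← e, mate_mate h hH hx hk]
  · intro e
    apply hka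
    rw [← mate_mate h hH hx hk, e, mate_mate h hH hx ha]

/-- two points of `H` and the induced off-point -/
theorem exists_point_of_pairs {k1 k1' k2 k2' : α} (h1 : k1 ∈ H) (h1' : k1' ∈ H) (h2 : k2 ∈ H)
    (h2' : k2' ∈ H) (d1 : k1 ≠ k1') (d2 : k2 ≠ k2') (d3 : k2 ≠ k1) (d4 : k2 ≠ k1') (d5 : k2' ≠ k1)
    (d6 : k2' ≠ k1') : ∃ y, y ∉ H ∧ Col 𝓛 k1 k1' y ∧ Col 𝓛 k2 k2' y := by
  obtain ⟨t1, ht1, a1, a1'⟩ := exists_line h d1
  obtain ⟨t2, ht2, a2, a2'⟩ := exists_line h d2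
  have c1 := secant_of_mem h hH ht1 h1 a1
  have c2 := secant_of_mem h hH ht2 h2 a2
  have e1 : t1 ∩ H = {k1, k1'} := by
    symm
    apply eq_of_subset_of_card_le
    · intro z hz
      rw [mem_insert, mem_singleton] at hz
      rw [mem_inter]
      rcases hz with rfl | rfl
      · exact ⟨a1, h1⟩
      · exact ⟨a1', h1'⟩
    · rw [c1, card_pair d1]
  have e2 : t2 ∩ H = {k2, k2'} := by
    symm
    apply eq_of_subset_of_card_le
    · intro z hz
      rw [mem_insert, mem_singleton] at hz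
      rw [mem_inter]
      rcases hz with rfl | rfl
      · exact ⟨a2, h2⟩
      · exact ⟨a2', h2'⟩
    · rw [c2, card_pair d2]
  have hne : t1 ≠ t2 := by
    intro e
    have : k2 ∈ t1 ∩ H := by rw [e]; exact mem_inter.mpr ⟨a2, h2⟩
    rw [e1, mem_insert, mem_singleton] at this
    rcases this with e' | e'
    · exact d3 e'
    · exact d4 e'
  obtain ⟨y, hy⟩ := exists_inter h ht1 ht2 hne
  have hy' : y ∈ t1 ∩ t2 := by rw [hy]; exact mem_singleton_self _
  rw [mem_inter] at hy'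
  refine ⟨y, ?_, ⟨t1, ht1, a1, a1', hy'.1⟩, ⟨t2, ht2, a2, a2', hy'.2⟩⟩
  intro hyH
  have m1 : y ∈ t1 ∩ H := mem_inter.mpr ⟨hy'.1, hyH⟩
  have m2 : y ∈ t2 ∩ H := mem_inter.mpr ⟨hy'.2, hyH⟩
  rw [e1, mem_insert, mem_singleton] at m1
  rw [e2, mem_insert, mem_singleton] at m2
  rcases m1 with rfl | rfl <;> rcases m2 with e' | e'
  · exact d3 e'.symm
  · exact d5 e'.symm
  · exact d4 e'.symm
  · exact d6 e'.symm

/-- A fixed-point-free involution on `H`. -/
def IsSyn (H : Finset α) (θ : α → α) : Prop :=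
  ∀ p ∈ H, θ p ∈ H ∧ θ p ≠ p ∧ θ (θ p) = p

omit h hH in
theorem IsSyn.avoid {θ : α → α} (hθ : IsSyn H θ) {a k : α} (ha : a ∈ H) (hk : k ∈ H)
    (hka : k ≠ a) (hkb : k ≠ θ a) : θ k ≠ a ∧ θ k ≠ θ a := by
  constructor
  · intro e
    apply hkb
    rw [← e, (hθ k hk).2.2]
  · intro e
    apply hka
    rw [← (hθ k hk).2.2, e, (hθ a ha).2.2]

theorem isSyn_mate {x : α} (hx : x ∉ H) : IsSyn H (mate 𝓛 H x) := by
  intro p hp
  obtain ⟨h1, h2, -⟩ := mate_spec h hH hx hp
  exact ⟨h1, h2, mate_mate h hH hx hp⟩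

omit h hH in
/-- two fixed-point-free involutions on a 6-set that agree on two orbits agree everywhere -/
theorem IsSyn.eq_of_agree {θ θ' : α → α} (hc : H.card = 6) (hθ : IsSyn H θ) (hθ' : IsSyn H θ')
    {k1 k2 : α} (h1 : k1 ∈ H) (h2 : k2 ∈ H) (d1 : k2 ≠ k1) (d2 : k2 ≠ θ k1)
    (e1 : θ' k1 = θ k1) (e2 : θ' k2 = θ k2) : ∀ k ∈ H, θ' k = θ k := by
  intro k hk
  by_cases c1 : k = k1
  · rw [c1, e1]
  by_cases c2 : k = θ k1
  · rw [c2, ← e1, (hθ' k1 h1).2.2, e1, (hθ k1 h1).2.2]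
  by_cases c3 : k = k2
  · rw [c3, e2]
  by_cases c4 : k = θ k2
  · rw [c4, ← e2, (hθ' k2 h2).2.2, e2, (hθ k2 h2).2.2]
  -- the remaining two points
  set R := H \ {k1, θ k1, k2, θ k2} with hR
  have hsub : ({k1, θ k1, k2, θ k2} : Finset α) ⊆ H := by
    intro z hz
    simp only [mem_insert, mem_singleton] at hz
    rcases hz with rfl | rfl | rfl | rfl
    · exact h1
    · exact (hθ _ h1).1
    · exact h2
    · exact (hθ _ h2).1
  have h4 : ({k1, θ k1, k2, θ k2} : Finset α).card = 4 := by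
    have a1 : θ k1 ≠ k1 := (hθ k1 h1).2.1
    have a2 : θ k2 ≠ k2 := (hθ k2 h2).2.1
    have a3 := hθ.avoid h1 h2 d1 d2
    rw [card_insert_of_notMem, card_insert_of_notMem, card_pair a2.symm]
    · simp only [mem_insert, mem_singleton, not_or]
      exact ⟨d2.symm, a3.2.symm⟩
    · simp only [mem_insert, mem_singleton, not_or]
      exact ⟨a1.symm, d1.symm, a3.1.symm⟩
  have hRc : R.card = 2 := by rw [hR, card_sdiff_of_subset hsub, hc, h4]
  have hkR : k ∈ R := by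
    rw [hR, mem_sdiff]
    refine ⟨hk, ?_⟩
    simp only [mem_insert, mem_singleton, not_or]
    exact ⟨c1, c2, c3, c4⟩
  have hmem : ∀ f : α → α, IsSyn H f → f k1 = θ k1 → f k2 = θ k2 → f k ∈ R.erase k := by
    intro f hf f1 f2
    rw [mem_erase, hR, mem_sdiff]
    refine ⟨(hf k hk).2.1, (hf k hk).1, ?_⟩
    simp only [mem_insert, mem_singleton, not_or]
    have b1 := hf.avoid h1 hk c1 (by rw [f1]; exact c2)
    have b2 := hf.avoid h2 hk c3 (by rw [f2]; exact c4)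
    rw [f1] at b1
    rw [f2] at b2
    exact ⟨b1.1, b1.2, b2.1, b2.2⟩
  have hone : (R.erase k).card = 1 := by rw [card_erase_of_mem hkR, hRc]
  obtain ⟨z, hz⟩ := card_eq_one.mp hone
  have m1 := hmem θ hθ rfl rfl
  have m2 := hmem θ' hθ' e1 e2
  rw [hz, mem_singleton] at m1 m2
  rw [m1, m2]

/-- every syntheme is the syntheme of a unique off-point -/
theorem exists_point_of_syn {θ : α → α} (hθ : IsSyn H θ) :
    ∃ y, y ∉ H ∧ ∀ k ∈ H, mate 𝓛 H y k = θ k := by
  have hpos : 0 < H.card := by rw [hH.card]; omega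
  obtain ⟨k1, h1⟩ := card_pos.mp hpos
  have h1' := (hθ k1 h1).1
  have hsub : ({k1, θ k1} : Finset α) ⊆ H := by
    intro z hz
    rw [mem_insert, mem_singleton] at hz
    rcases hz with rfl | rfl
    · exact h1
    · exact h1'
  have hc2 : (H \ {k1, θ k1}).card = 4 := by
    rw [card_sdiff_of_subset hsub, hH.card, card_pair (hθ k1 h1).2.1.symm]
  obtain ⟨k2, hk2⟩ := card_pos.mp (by rw [hc2]; omega : 0 < (H \ {k1, θ k1}).card)
  rw [mem_sdiff, mem_insert, mem_singleton, not_or] at hk2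
  obtain ⟨h2, d3, d4⟩ := hk2
  have h2' := (hθ k2 h2).1
  have av := hθ.avoid h1 h2 d3 d4
  obtain ⟨y, hy, c1, c2⟩ := exists_point_of_pairs h hH h1 h1' h2 h2' (hθ k1 h1).2.1.symm
    (hθ k2 h2).2.1.symm d3 d4 av.1 av.2
  refine ⟨y, hy, ?_⟩
  have e1 : mate 𝓛 H y k1 = θ k1 := mate_eq h hH hy h1 h1' (hθ k1 h1).2.1 c1
  have e2 : mate 𝓛 H y k2 = θ k2 := mate_eq h hH hy h2 h2' (hθ k2 h2).2.1 c2
  exact IsSyn.eq_of_agree hH.card hθ (isSyn_mate h hH hy) h1 h2 d3 d4 e1 e2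

theorem point_unique_of_mate {y y' : α} (hy : y ∉ H) (hy' : y' ∉ H)
    (he : ∀ k ∈ H, mate 𝓛 H y k = mate 𝓛 H y' k) : y = y' := by
  have hpos : 0 < H.card := by rw [hH.card]; omega
  obtain ⟨k1, h1⟩ := card_pos.mp hpos
  set θ := mate 𝓛 H y with hθdef
  have hθ : IsSyn H θ := isSyn_mate h hH hy
  have h1' := (hθ k1 h1).1
  have hsub : ({k1, θ k1} : Finset α) ⊆ H := by
    intro z hz
    rw [mem_insert, mem_singleton] at hz
    rcases hz with rfl | rfl
    · exact h1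
    · exact h1'
  have hc2 : (H \ {k1, θ k1}).card = 4 := by
    rw [card_sdiff_of_subset hsub, hH.card, card_pair (hθ k1 h1).2.1.symm]
  obtain ⟨k2, hk2⟩ := card_pos.mp (by rw [hc2]; omega : 0 < (H \ {k1, θ k1}).card)
  rw [mem_sdiff, mem_insert, mem_singleton, not_or] at hk2
  obtain ⟨h2, d3, d4⟩ := hk2
  -- both points lie on the two secants
  obtain ⟨-, -, ⟨t1, ht1, a1, a1', b1⟩⟩ := mate_spec h hH hy h1
  obtain ⟨-, -, ⟨t2, ht2, a2, a2', b2⟩⟩ := mate_spec h hH hy h2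
  obtain ⟨-, -, ⟨t1', ht1', a3, a3', b3⟩⟩ := mate_spec h hH hy' h1
  obtain ⟨-, -, ⟨t2', ht2', a4, a4', b4⟩⟩ := mate_spec h hH hy' h2
  rw [← he k1 h1] at a3'
  rw [← he k2 h2] at a4'
  have n1 : k1 ≠ mate 𝓛 H y k1 := (hθ k1 h1).2.1.symm
  have n2 : k2 ≠ mate 𝓛 H y k2 := (hθ k2 h2).2.1.symm
  have l1 : t1 = t1' := line_unique h n1 ht1 ht1' a1 a1' a3 a3'
  have l2 : t2 = t2' := line_unique h n2 ht2 ht2' a2 a2' a4 a4'
  subst l1 l2
  have hne : t1 ≠ t2 := by
    intro e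
    subst e
    have hsub3 : ({k1, mate 𝓛 H y k1, k2} : Finset α) ⊆ t1 ∩ H := by
      intro z hz
      rw [mem_insert, mem_insert, mem_singleton] at hz
      rw [mem_inter]
      rcases hz with rfl | rfl | rfl
      · exact ⟨a1, h1⟩
      · exact ⟨a1', h1'⟩
      · exact ⟨a2, h2⟩
    have h3c : ({k1, mate 𝓛 H y k1, k2} : Finset α).card = 3 := by
      rw [card_eq_three]
      exact ⟨k1, _, k2, n1, Ne.symm d3, Ne.symm d4, rfl⟩
    have := card_le_card hsub3
    have := hH.arc t1 ht1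
    omega
  have hle := inter_le_one h ht1 ht2 hne
  by_contra hyy
  have hsub2 : ({y, y'} : Finset α) ⊆ t1 ∩ t2 := by
    intro z hz
    rw [mem_insert, mem_singleton] at hz
    rw [mem_inter]
    rcases hz with rfl | rfl
    · exact ⟨b1, b2⟩
    · exact ⟨b3, b4⟩
  have := card_le_card hsub2
  rw [card_pair hyy] at this
  omega

end Mate

section Triangle

variable {α : Type*} [Fintype α] [DecidableEq α] {𝓛 : Finset (Finset α)}
variable (h : IsPlane4 𝓛) {H : Finset α} (hH : IsHyperoval 𝓛 H)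
include h hH

/-- A set of at least four off-points pairwise joined by external lines lies on one line. -/
theorem exists_line_of_pairwise_external {Y : Finset α} (hY : ∀ y ∈ Y, y ∉ H) (hc : 4 ≤ Y.card)
    (hp : ∀ y ∈ Y, ∀ y' ∈ Y, y ≠ y' → ∃ n ∈ 𝓛, y ∈ n ∧ y' ∈ n ∧ (n ∩ H).card = 0) :
    ∃ n ∈ 𝓛, Y ⊆ n := by
  obtain ⟨y1, hy1⟩ := card_pos.mp (by omega : 0 < Y.card)
  obtain ⟨y2, hy2⟩ := card_pos.mp (by rw [card_erase_of_mem hy1]; omega : 0 < (Y.erase y1).card)
  rw [mem_erase] at hy2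
  obtain ⟨n, hn, a1, a2, n0⟩ := hp y1 hy1 y2 hy2.2 hy2.1.symm
  refine ⟨n, hn, ?_⟩
  intro y3 hy3
  by_contra hy3n
  have d31 : y3 ≠ y1 := fun e => hy3n (e ▸ a1)
  have d32 : y3 ≠ y2 := fun e => hy3n (e ▸ a2)
  obtain ⟨n', hn', b1, b3, n0'⟩ := hp y1 hy1 y3 hy3 d31.symm
  obtain ⟨n'', hn'', c2, c3, n0''⟩ := hp y2 hy2.2 y3 hy3 d32.symm
  have e1 : n' ≠ n := fun e => hy3n (e ▸ b3)
  have e2 : n'' ≠ n := fun e => hy3n (e ▸ c3)
  have e3 : n' ≠ n'' := by
    intro e
    apply e1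
    exact line_unique h hy2.1.symm hn' hn b1 (e ▸ c2) a1 a2
  -- a fourth point
  have hsub : ({y1, y2, y3} : Finset α) ⊆ Y := by
    intro z hz
    rw [mem_insert, mem_insert, mem_singleton] at hz
    rcases hz with rfl | rfl | rfl
    · exact hy1
    · exact hy2.2
    · exact hy3
  have h3c : ({y1, y2, y3} : Finset α).card = 3 := by
    rw [card_eq_three]
    exact ⟨y1, y2, y3, hy2.1.symm, d31.symm, d32.symm, rfl⟩
  obtain ⟨y4, hy4⟩ := card_pos.mp
    (by rw [card_sdiff_of_subset hsub, h3c]; omega : 0 < (Y \ {y1, y2, y3}).card)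
  rw [mem_sdiff, mem_insert, mem_insert, mem_singleton, not_or, not_or] at hy4
  obtain ⟨hy4Y, d41, d42, d43⟩ := hy4
  obtain ⟨a, ha, f1, f4, a0⟩ := hp y1 hy1 y4 hy4Y (Ne.symm d41)
  obtain ⟨b, hb, g2, g4, b0⟩ := hp y2 hy2.2 y4 hy4Y (Ne.symm d42)
  obtain ⟨c, hc', k3, k4, c0⟩ := hp y3 hy3 y4 hy4Y (Ne.symm d43)
  -- intersections
  have i1 : ∀ z, z ∈ n → z ∈ n' → z = y1 := by
    intro z z1 z2
    by_contra hz
    exact e1 (line_unique h hz hn' hn z2 b1 z1 a1)
  have i2 : ∀ z, z ∈ n → z ∈ n'' → z = y2 := by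
    intro z z1 z2
    by_contra hz
    exact e2 (line_unique h hz hn'' hn z2 c2 z1 a2)
  have i3 : ∀ z, z ∈ n' → z ∈ n'' → z = y3 := by
    intro z z1 z2
    by_contra hz
    exact e3 (line_unique h hz hn' hn'' z1 b3 z2 c3)
  have ta := external_trichotomy h hH (hY y1 hy1) hn hn' ha a1 b1 f1 n0 n0' a0 e1.symm
  have tb := external_trichotomy h hH (hY y2 hy2.2) hn hn'' hb a2 c2 g2 n0 n0'' b0 e2.symm
  have tc := external_trichotomy h hH (hY y3 hy3) hn' hn'' hc' b3 c3 k3 n0' n0'' c0 e3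
  rcases ta with rfl | rfl
  · rcases tc with rfl | rfl
    · exact d41 (i1 y4 f4 k4)
    · exact d42 (i2 y4 f4 k4)
  · rcases tb with rfl | rfl
    · exact d41 (i1 y4 g4 f4)
    · exact d43 (i3 y4 f4 g4)

end Triangle

section Ext

variable {α β : Type*} [Fintype α] [DecidableEq α] [Fintype β] [DecidableEq β]
  {𝓛 : Finset (Finset α)} {𝓜 : Finset (Finset β)}

open Classical in
/-- the extension of a bijection of hyperovals to all points -/
noncomputable def extMap (𝓛 : Finset (Finset α)) (𝓜 : Finset (Finset β)) (H : Finset α)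
    (K : Finset β) (σ : α → β) (τ : β → α) (x : α) : β :=
  if x ∈ H then σ x else
    if hy : ∃ y, y ∉ K ∧ ∀ k ∈ K, mate 𝓜 K y k = σ (mate 𝓛 H x (τ k)) then Classical.choose hy
    else σ x

variable (h : IsPlane4 𝓛) (h' : IsPlane4 𝓜) {H : Finset α} {K : Finset β}
  (hH : IsHyperoval 𝓛 H) (hK : IsHyperoval 𝓜 K) {σ : α → β} {τ : β → α}
  (hσ : ∀ p ∈ H, σ p ∈ K) (hτ : ∀ k ∈ K, τ k ∈ H) (hτσ : ∀ p ∈ H, τ (σ p) = p)
  (hστ : ∀ k ∈ K, σ (τ k) = k)
include h h' hH hK hσ hτ hτσ hστ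

theorem isSyn_transport {x : α} (hx : x ∉ H) :
    IsSyn K (fun k => σ (mate 𝓛 H x (τ k))) := by
  intro k hk
  have m1 := mate_spec h hH hx (hτ k hk)
  refine ⟨hσ _ m1.1, ?_, ?_⟩
  · intro e
    apply m1.2.1
    have := congrArg τ e
    rw [hτσ _ m1.1] at this
    exact this
  · show σ (mate 𝓛 H x (τ (σ (mate 𝓛 H x (τ k))))) = k
    rw [hτσ _ m1.1, mate_mate h hH hx (hτ k hk), hστ k hk]

theorem extMap_of_mem {x : α} (hx : x ∈ H) : extMap 𝓛 𝓜 H K σ τ x = σ x := by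
  unfold extMap
  rw [if_pos hx]

theorem extMap_spec {x : α} (hx : x ∉ H) : extMap 𝓛 𝓜 H K σ τ x ∉ K ∧
    ∀ p ∈ H, mate 𝓜 K (extMap 𝓛 𝓜 H K σ τ x) (σ p) = σ (mate 𝓛 H x p) := by
  have hy := exists_point_of_syn h' hK (isSyn_transport h h' hH hK hσ hτ hτσ hστ hx)
  unfold extMap
  rw [if_neg hx, dif_pos hy]
  obtain ⟨h1, h2⟩ := Classical.choose_spec hy
  refine ⟨h1, fun p hp => ?_⟩
  rw [h2 (σ p) (hσ p hp), hτσ p hp]

theorem sigma_injOn {p q : α} (hp : p ∈ H) (hq : q ∈ H) (e : σ p = σ q) : p = q := by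
  rw [← hτσ p hp, e, hτσ q hq]

theorem extMap_injective : Function.Injective (extMap 𝓛 𝓜 H K σ τ) := by
  intro x x' e
  by_cases hx : x ∈ H <;> by_cases hx' : x' ∈ H
  · rw [extMap_of_mem h h' hH hK hσ hτ hτσ hστ hx, extMap_of_mem h h' hH hK hσ hτ hτσ hστ hx'] at e
    exact sigma_injOn h h' hH hK hσ hτ hτσ hστ hx hx' e
  · exfalso
    have s1 := (extMap_spec h h' hH hK hσ hτ hτσ hστ hx').1
    rw [← e, extMap_of_mem h h' hH hK hσ hτ hτσ hστ hx] at s1
    exact s1 (hσ x hx)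
  · exfalso
    have s1 := (extMap_spec h h' hH hK hσ hτ hτσ hστ hx).1
    rw [e, extMap_of_mem h h' hH hK hσ hτ hτσ hστ hx'] at s1
    exact s1 (hσ x' hx')
  · apply point_unique_of_mate h hH hx hx'
    intro k hk
    have s1 := (extMap_spec h h' hH hK hσ hτ hτσ hστ hx).2 k hk
    have s2 := (extMap_spec h h' hH hK hσ hτ hτσ hστ hx').2 k hk
    rw [e, s2] at s1
    exact (sigma_injOn h h' hH hK hσ hτ hτσ hστ (mate_spec h hH hx hk).1
      (mate_spec h hH hx' hk).1 s1.symm)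

theorem extMap_not_mem {x : α} (hx : x ∉ H) : extMap 𝓛 𝓜 H K σ τ x ∉ K :=
  (extMap_spec h h' hH hK hσ hτ hτσ hστ hx).1

/-- the image of a line is a line -/
theorem extMap_line {l : Finset α} (hl : l ∈ 𝓛) : l.image (extMap 𝓛 𝓜 H K σ τ) ∈ 𝓜 := by
  set e := extMap 𝓛 𝓜 H K σ τ with he
  have hinj : Function.Injective e := extMap_injective h h' hH hK hσ hτ hτσ hστ
  have hcard : (l.image e).card = 5 := by
    rw [card_image_of_injective _ hinj, h.card_line l hl]
  rcases inter_hyperoval h hH hl with h0 | h2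
  · -- external line
    have hoff : ∀ z ∈ l, z ∉ H := by
      intro z hz hzH
      have : z ∈ l ∩ H := mem_inter.mpr ⟨hz, hzH⟩
      rw [card_eq_zero] at h0
      rw [h0] at this
      exact notMem_empty _ this
    have hY : ∀ y ∈ l.image e, y ∉ K := by
      intro y hy
      obtain ⟨z, hz, rfl⟩ := mem_image.mp hy
      exact extMap_not_mem h h' hH hK hσ hτ hτσ hστ (hoff z hz)
    have hp : ∀ y ∈ l.image e, ∀ y' ∈ l.image e, y ≠ y' →
        ∃ n ∈ 𝓜, y ∈ n ∧ y' ∈ n ∧ (n ∩ K).card = 0 := by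
      intro y hy y' hy' hyy
      obtain ⟨z, hz, rfl⟩ := mem_image.mp hy
      obtain ⟨z', hz', rfl⟩ := mem_image.mp hy'
      have hzz : z ≠ z' := fun e' => hyy (by rw [e'])
      obtain ⟨n, hn, a1, a2⟩ := exists_line h' hyy
      refine ⟨n, hn, a1, a2, ?_⟩
      rcases inter_hyperoval h' hK hn with h0' | h2'
      · exact h0'
      · exfalso
        obtain ⟨k, k', hkk, hnK⟩ := card_eq_two.mp h2'
        have mk : k ∈ n ∩ K := by rw [hnK]; exact mem_insert_self _ _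
        have mk' : k' ∈ n ∩ K := by rw [hnK]; simp
        rw [mem_inter] at mk mk'
        have hzH := hoff z hz
        have hzH' := hoff z' hz'
        have s1 := (extMap_spec h h' hH hK hσ hτ hτσ hστ hzH).2 (τ k) (hτ k mk.2)
        have s2 := (extMap_spec h h' hH hK hσ hτ hτσ hστ hzH').2 (τ k) (hτ k mk.2)
        rw [hστ k mk.2] at s1 s2
        have t1 : mate 𝓜 K (e z) k = k' :=
          mate_eq h' hK (hY _ hy) mk.2 mk'.2 (Ne.symm hkk) ⟨n, hn, mk.1, mk'.1, a1⟩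
        have t2 : mate 𝓜 K (e z') k = k' :=
          mate_eq h' hK (hY _ hy') mk.2 mk'.2 (Ne.symm hkk) ⟨n, hn, mk.1, mk'.1, a2⟩
        rw [← he] at s1 s2
        rw [t1] at s1
        rw [t2] at s2
        have m1 := mate_spec h hH hzH (hτ k mk.2)
        have m2 := mate_spec h hH hzH' (hτ k mk.2)
        have hq : mate 𝓛 H z (τ k) = mate 𝓛 H z' (τ k) :=
          sigma_injOn h h' hH hK hσ hτ hτσ hστ m1.1 m2.1 (s1.symm.trans s2)
        obtain ⟨l1, hl1, b1, b2, b3⟩ := m1.2.2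
        obtain ⟨l2, hl2, c1, c2, c3⟩ := m2.2.2
        rw [← hq] at c2
        have e12 : l1 = l2 := line_unique h m1.2.1.symm hl1 hl2 b1 b2 c1 c2
        subst e12
        have e1l : l1 = l := line_unique h hzz hl1 hl b3 c3 hz hz'
        subst e1l
        exact hoff _ b1 (hτ k mk.2)
    obtain ⟨n, hn, hsub⟩ := exists_line_of_pairwise_external h' hK hY (by rw [hcard]; omega) hp
    have : l.image e = n := eq_of_subset_of_card_le hsub (by rw [hcard, h'.card_line n hn])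
    rw [this]
    exact hn
  · -- secant
    obtain ⟨p, q, hpq, hlH⟩ := card_eq_two.mp h2
    have mp : p ∈ l ∩ H := by rw [hlH]; exact mem_insert_self _ _
    have mq : q ∈ l ∩ H := by rw [hlH]; simp
    rw [mem_inter] at mp mq
    have hσpq : σ p ≠ σ q := fun e' => hpq (sigma_injOn h h' hH hK hσ hτ hτσ hστ mp.2 mq.2 e')
    obtain ⟨t, ht, a1, a2⟩ := exists_line h' hσpq
    have hsub : l.image e ⊆ t := by
      intro y hy
      obtain ⟨z, hz, rfl⟩ := mem_image.mp hy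
      by_cases hzH : z ∈ H
      · have : z ∈ l ∩ H := mem_inter.mpr ⟨hz, hzH⟩
        rw [hlH, mem_insert, mem_singleton] at this
        rw [he, extMap_of_mem h h' hH hK hσ hτ hτσ hστ hzH]
        rcases this with rfl | rfl
        · exact a1
        · exact a2
      · have s1 := (extMap_spec h h' hH hK hσ hτ hτσ hστ hzH).2 p mp.2
        have m1 : mate 𝓛 H z p = q :=
          mate_eq h hH hzH mp.2 mq.2 (Ne.symm hpq) ⟨l, hl, mp.1, mq.1, hz⟩
        rw [m1] at s1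
        have hyK := extMap_not_mem h h' hH hK hσ hτ hτσ hστ hzH
        obtain ⟨-, -, ⟨t', ht', b1, b2, b3⟩⟩ := mate_spec h' hK hyK (hσ p mp.2)
        rw [s1] at b2
        have : t' = t := line_unique h' hσpq ht' ht b1 b2 a1 a2
        rw [← this]
        exact b3
    have : l.image e = t := eq_of_subset_of_card_le hsub (by rw [hcard, h'.card_line t ht])
    rw [this]
    exact ht

/-- any injective line-preserving map agreeing with `σ` on `H` is the extension -/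
theorem extMap_unique {e' : α → β} (hinj : Function.Injective e')
    (hline : ∀ l ∈ 𝓛, l.image e' ∈ 𝓜) (hag : ∀ p ∈ H, e' p = σ p) :
    e' = extMap 𝓛 𝓜 H K σ τ := by
  funext x
  by_cases hx : x ∈ H
  · rw [extMap_of_mem h h' hH hK hσ hτ hτσ hστ hx, hag x hx]
  · have hx'K : e' x ∉ K := by
      intro hk
      have : e' x = e' (τ (e' x)) := by rw [hag _ (hτ _ hk), hστ _ hk]
      have := hinj this
      exact hx (this ▸ hτ _ hk)
    apply point_unique_of_mate h' hK hx'K (extMap_not_mem h h' hH hK hσ hτ hτσ hστ hx)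
    intro k hk
    have s1 := (extMap_spec h h' hH hK hσ hτ hτσ hστ hx).2 (τ k) (hτ k hk)
    rw [hστ k hk] at s1
    rw [s1]
    obtain ⟨m1, m2, ⟨l, hl, b1, b2, b3⟩⟩ := mate_spec h hH hx (hτ k hk)
    have hl' := hline l hl
    apply mate_eq h' hK hx'K hk (hσ _ m1)
    · intro e
      apply m2
      have := congrArg τ e
      rw [hτσ _ m1] at this
      exact this
    · refine ⟨l.image e', hl', ?_, ?_, mem_image_of_mem _ b3⟩
      · have := mem_image_of_mem e' b1
        rw [hag _ (hτ k hk), hστ k hk] at this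
        exact this
      · have := mem_image_of_mem e' b2
        rw [hag _ m1] at this
        exact this

end Ext

section Iso

variable {α β : Type*} [Fintype α] [DecidableEq α] [Fintype β] [DecidableEq β]
  {𝓛 : Finset (Finset α)} {𝓜 : Finset (Finset β)}

theorem exists_iso (h : IsPlane4 𝓛) (h' : IsPlane4 𝓜) {H : Finset α} {K : Finset β}
    (hH : IsHyperoval 𝓛 H) (hK : IsHyperoval 𝓜 K) (s : ↥H ≃ ↥K) :
    ∃ e : α ≃ β, (∀ l, l ∈ 𝓛 ↔ l.image e ∈ 𝓜) ∧ (∀ p : ↥H, e p = s p) ∧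
      ∀ e' : α → β, Function.Injective e' → (∀ l ∈ 𝓛, l.image e' ∈ 𝓜) →
        (∀ p : ↥H, e' p = s p) → e' = e := by
  classical
  obtain ⟨p0, hp0⟩ := card_pos.mp (by rw [hH.card]; omega : 0 < H.card)
  obtain ⟨k0, hk0⟩ := card_pos.mp (by rw [hK.card]; omega : 0 < K.card)
  let σ : α → β := fun x => if hx : x ∈ H then (s ⟨x, hx⟩ : β) else k0
  let τ : β → α := fun y => if hy : y ∈ K then (s.symm ⟨y, hy⟩ : α) else p0
  have hσ : ∀ p ∈ H, σ p ∈ K := by
    intro p hp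
    show (if hx : p ∈ H then (s ⟨p, hx⟩ : β) else k0) ∈ K
    rw [dif_pos hp]
    exact (s ⟨p, hp⟩).2
  have hτ : ∀ k ∈ K, τ k ∈ H := by
    intro k hk
    show (if hy : k ∈ K then (s.symm ⟨k, hy⟩ : α) else p0) ∈ H
    rw [dif_pos hk]
    exact (s.symm ⟨k, hk⟩).2
  have hσv : ∀ p (hp : p ∈ H), σ p = (s ⟨p, hp⟩ : β) := by
    intro p hp
    show (if hx : p ∈ H then (s ⟨p, hx⟩ : β) else k0) = _
    rw [dif_pos hp]
  have hτv : ∀ k (hk : k ∈ K), τ k = (s.symm ⟨k, hk⟩ : α) := by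
    intro k hk
    show (if hy : k ∈ K then (s.symm ⟨k, hy⟩ : α) else p0) = _
    rw [dif_pos hk]
  have hτσ : ∀ p ∈ H, τ (σ p) = p := by
    intro p hp
    rw [hτv _ (hσ p hp)]
    have : (⟨σ p, hσ p hp⟩ : ↥K) = s ⟨p, hp⟩ := Subtype.ext (hσv p hp)
    rw [this, Equiv.symm_apply_apply]
  have hστ : ∀ k ∈ K, σ (τ k) = k := by
    intro k hk
    rw [hσv _ (hτ k hk)]
    have : (⟨τ k, hτ k hk⟩ : ↥H) = s.symm ⟨k, hk⟩ := Subtype.ext (hτv k hk)
    rw [this, Equiv.apply_symm_apply]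
  have hinj := extMap_injective h h' hH hK hσ hτ hτσ hστ
  have hbij : Function.Bijective (extMap 𝓛 𝓜 H K σ τ) :=
    (Fintype.bijective_iff_injective_and_card _).mpr ⟨hinj, by rw [h.card_univ, h'.card_univ]⟩
  have himg : 𝓛.image (fun l => l.image (extMap 𝓛 𝓜 H K σ τ)) = 𝓜 := by
    apply eq_of_subset_of_card_le
    · intro m hm
      obtain ⟨l, hl, rfl⟩ := mem_image.mp hm
      exact extMap_line h h' hH hK hσ hτ hτσ hστ hl
    · rw [card_image_of_injective _ (Finset.image_injective hinj), card_lines h, card_lines h']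
  refine ⟨Equiv.ofBijective _ hbij, ?_, ?_, ?_⟩
  · intro l
    constructor
    · intro hl
      exact extMap_line h h' hH hK hσ hτ hτσ hστ hl
    · intro hl
      have hl' : l.image (extMap 𝓛 𝓜 H K σ τ) ∈
          𝓛.image (fun l => l.image (extMap 𝓛 𝓜 H K σ τ)) := by
        rw [himg]; exact hl
      obtain ⟨l', hl'', e⟩ := mem_image.mp hl'
      have := Finset.image_injective hinj e
      rw [← this]
      exact hl''
  · intro p
    show extMap 𝓛 𝓜 H K σ τ p = s p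
    rw [extMap_of_mem h h' hH hK hσ hτ hτσ hστ p.2, hσv p p.2]
  · intro e' hinj' hline hag
    have := extMap_unique h h' hH hK hσ hτ hτσ hστ hinj' hline
      (fun p hp => by rw [hσv p hp]; exact hag ⟨p, hp⟩)
    rw [this]
    rfl

end Iso

section Final

open Cfsg
open scoped Pointwise

theorem plane4_unique {α β : Type*} [Fintype α] [DecidableEq α] [Fintype β] [DecidableEq β]
    (hα : Fintype.card α = 21) (hβ : Fintype.card β = 21) {L : Set (Finset α)}
    {L' : Set (Finset β)} (hL : IsSteinerSystem 2 5 L) (hL' : IsSteinerSystem 2 5 L') :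
    SetSystemIso L L' := by
  have h := isPlane4_linesFinset hα hL
  have h' := isPlane4_linesFinset hβ hL'
  obtain ⟨H, hH⟩ := card_pos.mp (by rw [card_arcs_six h]; omega : 0 < (arcs (linesFinset L) 6).card)
  obtain ⟨K, hK⟩ := card_pos.mp
    (by rw [card_arcs_six h']; omega : 0 < (arcs (linesFinset L') 6).card)
  rw [mem_arcs] at hH hK
  have hH' : IsHyperoval (linesFinset L) H := ⟨hH.1, hH.2⟩
  have hK' : IsHyperoval (linesFinset L') K := ⟨hK.1, hK.2⟩
  obtain ⟨e, he, -, -⟩ := exists_iso h h' hH' hK' (Finset.equivOfCardEq (hH.1.trans hK.1.symm))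
  refine ⟨e, ?_⟩
  ext m
  constructor
  · rintro ⟨l, hl, rfl⟩
    exact mem_linesFinset.mp ((he l).mp (mem_linesFinset.mpr hl))
  · intro hm
    refine ⟨m.image e.symm, ?_, ?_⟩
    · apply mem_linesFinset.mp
      rw [he]
      have : (m.image e.symm).image e = m := by
        rw [image_image]
        simp
      rw [this]
      exact mem_linesFinset.mpr hm
    · show (m.image e.symm).image e = m
      rw [image_image]
      simp

theorem mem_setSystemAut_iff {α : Type*} [DecidableEq α] (L : Set (Finset α))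
    (g : Equiv.Perm α) : g ∈ setSystemAut L ↔ ∀ l, l ∈ L ↔ l.image g ∈ L := by
  have hsm : ∀ l : Finset α, g • l = l.image g := fun l => rfl
  rw [MulAction.mem_stabilizer_iff]
  constructor
  · intro hg l
    constructor
    · intro hl
      rw [← hsm, ← hg]
      exact Set.smul_mem_smul_set hl
    · intro hl
      rw [← hsm, ← hg] at hl
      obtain ⟨l', hl', e⟩ := hl
      have : l' = l := smul_left_cancel g e
      rw [← this]
      exact hl'
  · intro hg
    ext m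
    rw [Set.mem_smul_set_iff_inv_smul_mem, hg, ← hsm, smul_inv_smul]

theorem hyperoval_perm_ext {α : Type*} [Fintype α] [DecidableEq α] (hα : Fintype.card α = 21)
    (L : Set (Finset α)) (hL : IsSteinerSystem 2 5 L) (H : Finset α)
    (hH : (H.card = 6 ∧ ∀ l ∈ L, (l ∩ H).card ≤ 2)) (σ : Equiv.Perm ↥H) :
    ∃! g : Equiv.Perm α, g ∈ setSystemAut L ∧ ∀ p : ↥H, g p = σ p := by
  have h := isPlane4_linesFinset hα hL
  have hH' : IsHyperoval (linesFinset L) H := ⟨hH.1, isArc_linesFinset.mpr hH.2⟩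
  obtain ⟨e, he, hag, huniq⟩ := exists_iso h h hH' hH' σ
  refine ⟨e, ⟨?_, hag⟩, ?_⟩
  · rw [mem_setSystemAut_iff]
    intro l
    rw [← mem_linesFinset, ← mem_linesFinset]
    exact he l
  · rintro g ⟨hg, hgag⟩
    rw [mem_setSystemAut_iff] at hg
    have := huniq g g.injective
      (fun l hl => mem_linesFinset.mpr ((hg l).mp (mem_linesFinset.mp hl))) hgag
    exact Equiv.ext (fun x => congrFun this x)

end Final

end Cfsg.Agent.Helper4.Plane4
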