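import Mathlib
import Cfsg.Agent.Helper4.Plane4b

/-!
# Hyperovals of a plane of order 4: intersection numbers and the "even" classes
-/

set_option autoImplicit false
set_option linter.unusedSectionVars false

namespace Cfsg.Agent.Helper4.Plane4

open Finset Cfsg.Agent.Helper4.Steiner22

section Hov

variable {α : Type*} [Fintype α] [DecidableEq α] {𝓛 : Finset (Finset α)}

/-- number of hyperovals containing `T` -/
def hov (𝓛 : Finset (Finset α)) (T : Finset α) : ℕ := ((arcs 𝓛 6).filter (fun K => T ⊆ K)).card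

theorem mem_extSet' {T : Finset α} {x : α} :
    x ∈ extSet 𝓛 T ↔ x ∉ T ∧ IsArc 𝓛 (insert x T) := by
  unfold extSet
  rw [mem_filter]
  simp

theorem isArc_of_card_le_two {T : Finset α} (hk : T.card ≤ 2) : IsArc 𝓛 T := by
  intro l _
  exact (card_le_card inter_subset_right).trans hk

theorem hov_step {T : Finset α} (hT : IsArc 𝓛 T) (hk : T.card ≤ 6) :
    hov 𝓛 T * (6 - T.card) = ∑ x ∈ extSet 𝓛 T, hov 𝓛 (insert x T) := by
  have key := Finset.sum_card_bipartiteAbove_eq_sum_card_bipartiteBelow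
    (s := (arcs 𝓛 6).filter (fun K => T ⊆ K)) (t := extSet 𝓛 T) (fun K x => x ∈ K)
  have h1 : ∀ K ∈ (arcs 𝓛 6).filter (fun K => T ⊆ K),
      ((extSet 𝓛 T).bipartiteAbove (fun K x => x ∈ K) K).card = 6 - T.card := by
    intro K hK
    rw [mem_filter, mem_arcs] at hK
    have e1 : (extSet 𝓛 T).bipartiteAbove (fun K x => x ∈ K) K = K \ T := by
      unfold Finset.bipartiteAbove
      ext x
      rw [mem_filter, mem_sdiff, mem_extSet']
      constructor
      · rintro ⟨⟨hx, -⟩, hxK⟩
        exact ⟨hxK, hx⟩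
      · rintro ⟨hxK, hx⟩
        exact ⟨⟨hx, hK.1.2.subset (insert_subset hxK hK.2)⟩, hxK⟩
    rw [e1, card_sdiff_of_subset hK.2, hK.1.1]
  have h2 : ∀ x ∈ extSet 𝓛 T,
      (((arcs 𝓛 6).filter (fun K => T ⊆ K)).bipartiteBelow (fun K x => x ∈ K) x).card =
        hov 𝓛 (insert x T) := by
    intro x _
    unfold hov Finset.bipartiteBelow
    congr 1
    ext K
    simp only [mem_filter, insert_subset_iff]
    tauto
  rw [sum_congr rfl h1, sum_congr rfl h2, sum_const, smul_eq_mul] at key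
  exact key

variable (h : IsPlane4 𝓛)
include h

theorem hov_four {T : Finset α} (hT : IsArc 𝓛 T) (hk : T.card = 4) : hov 𝓛 T = 1 := by
  obtain ⟨H, ⟨hH, hTH⟩, hu⟩ := existsUnique_hyperoval h hk hT
  unfold hov
  rw [card_eq_one]
  refine ⟨H, ?_⟩
  ext K
  rw [mem_filter, mem_arcs, mem_singleton]
  constructor
  · rintro ⟨hK, hTK⟩
    exact hu K ⟨hK, hTK⟩
  · rintro rfl
    exact ⟨hH, hTH⟩

theorem hov_three {T : Finset α} (hT : IsArc 𝓛 T) (hk : T.card = 3) : hov 𝓛 T = 3 := by
  have h1 := hov_step hT (by omega)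
  have h2 : ∀ x ∈ extSet 𝓛 T, hov 𝓛 (insert x T) = 1 := by
    intro x hx
    rw [mem_extSet'] at hx
    exact hov_four h hx.2 (by rw [card_insert_of_notMem hx.1, hk])
  rw [sum_congr rfl h2, sum_const, card_ext_three h hT hk, hk, smul_eq_mul] at h1
  omega

theorem hov_two {T : Finset α} (hT : IsArc 𝓛 T) (hk : T.card = 2) : hov 𝓛 T = 12 := by
  have h1 := hov_step hT (by omega)
  have h2 : ∀ x ∈ extSet 𝓛 T, hov 𝓛 (insert x T) = 3 := by
    intro x hx
    rw [mem_extSet'] at hx
    exact hov_three h hx.2 (by rw [card_insert_of_notMem hx.1, hk])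
  rw [sum_congr rfl h2, sum_const, card_ext_two h hT hk, hk, smul_eq_mul] at h1
  omega

theorem hov_one {T : Finset α} (hk : T.card = 1) : hov 𝓛 T = 48 := by
  have hT : IsArc 𝓛 T := isArc_of_card_le_two (by omega)
  have h1 := hov_step hT (by omega)
  have h2 : ∀ x ∈ extSet 𝓛 T, hov 𝓛 (insert x T) = 12 := by
    intro x hx
    rw [mem_extSet'] at hx
    exact hov_two h hx.2 (by rw [card_insert_of_notMem hx.1, hk])
  have h3 : (extSet 𝓛 T).card = 20 := by
    have e1 : extSet 𝓛 T = univ \ T := by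
      ext x
      rw [mem_extSet', mem_sdiff]
      constructor
      · rintro ⟨hx, -⟩
        exact ⟨mem_univ _, hx⟩
      · rintro ⟨-, hx⟩
        exact ⟨hx, isArc_of_card_le_two (by rw [card_insert_of_notMem hx, hk])⟩
    rw [e1, card_sdiff_of_subset (subset_univ T), card_univ, h.card_univ, hk]
  rw [sum_congr rfl h2, sum_const, h3, hk, smul_eq_mul] at h1
  omega

theorem hov_zero : hov 𝓛 ∅ = 168 := by
  unfold hov
  rw [filter_true_of_mem (fun K _ => empty_subset K)]
  exact card_arcs_six h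

/-- `∑_K C(|K ∩ H|, j) = C(6,j) * h_j` -/
theorem sum_choose_inter {H : Finset α} (hH : IsHyperoval 𝓛 H) (j d : ℕ)
    (hd : ∀ T : Finset α, T ⊆ H → T.card = j → hov 𝓛 T = d) :
    ∑ K ∈ arcs 𝓛 6, (K ∩ H).card.choose j = (Nat.choose 6 j) * d := by
  have key := Finset.sum_card_bipartiteAbove_eq_sum_card_bipartiteBelow
    (s := arcs 𝓛 6) (t := powersetCard j H) (fun K T => T ⊆ K)
  have h1 : ∀ K ∈ arcs 𝓛 6,
      ((powersetCard j H).bipartiteAbove (fun K T => T ⊆ K) K).card = (K ∩ H).card.choose j := by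
    intro K _
    have e1 : (powersetCard j H).bipartiteAbove (fun K T => T ⊆ K) K = powersetCard j (K ∩ H) := by
      unfold Finset.bipartiteAbove
      ext T
      simp only [mem_filter, mem_powersetCard, subset_inter_iff]
      tauto
    rw [e1, card_powersetCard]
  have h2 : ∀ T ∈ powersetCard j H,
      ((arcs 𝓛 6).bipartiteBelow (fun K T => T ⊆ K) T).card = d := by
    intro T hT
    rw [mem_powersetCard] at hT
    rw [← hd T hT.1 hT.2]
    rfl
  rw [sum_congr rfl h1, sum_congr rfl h2, sum_const, card_powersetCard, hH.card, smul_eq_mul] at key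
  exact key

/-- two hyperovals sharing at least four points coincide -/
theorem hyperoval_eq_of_four_le {H K : Finset α} (hH : IsHyperoval 𝓛 H) (hK : IsHyperoval 𝓛 K)
    (h4 : 4 ≤ (K ∩ H).card) : K = H := by
  obtain ⟨S, hS, hS4⟩ := exists_subset_card_eq h4
  have hSa : IsArc 𝓛 S := hH.arc.subset (hS.trans inter_subset_right)
  obtain ⟨H', -, hu⟩ := existsUnique_hyperoval h hS4 hSa
  have e1 := hu H ⟨⟨hH.card, hH.arc⟩, hS.trans inter_subset_right⟩
  have e2 := hu K ⟨⟨hK.card, hK.arc⟩, hS.trans inter_subset_left⟩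
  rw [e1, e2]

/-- the hyperovals meeting `H` evenly -/
def evenClass (𝓛 : Finset (Finset α)) (H : Finset α) : Finset (Finset α) :=
  (arcs 𝓛 6).filter (fun K => (K ∩ H).card = 0 ∨ (K ∩ H).card = 2 ∨ (K ∩ H).card = 6)

theorem card_evenClass {H : Finset α} (hH : IsHyperoval 𝓛 H) : (evenClass 𝓛 H).card = 56 := by
  have s0 := sum_choose_inter h hH 0 168 (fun T _ hT => by
    rw [card_eq_zero] at hT; rw [hT]; exact hov_zero h)
  have s1 := sum_choose_inter h hH 1 48 (fun T _ hT => hov_one h hT)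
  have s2 := sum_choose_inter h hH 2 12 (fun T hTH hT => hov_two h (hH.arc.subset hTH) hT)
  have s3 := sum_choose_inter h hH 3 3 (fun T hTH hT => hov_three h (hH.arc.subset hTH) hT)
  have hpt : ∀ K ∈ arcs 𝓛 6,
      (if ((K ∩ H).card = 0 ∨ (K ∩ H).card = 2 ∨ (K ∩ H).card = 6) then 1 else 0) +
        (K ∩ H).card.choose 1 + 4 * (K ∩ H).card.choose 3 =
      (K ∩ H).card.choose 0 + 2 * (K ∩ H).card.choose 2 + (if K = H then 56 else 0) := by
    intro K hK
    rw [mem_arcs] at hK
    by_cases hKH : K = H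
    · subst hKH
      rw [inter_self, hK.1]
      simp
      decide
    · have hlt : (K ∩ H).card < 4 := by
        by_contra hcon
        exact hKH (hyperoval_eq_of_four_le h hH ⟨hK.1, hK.2⟩ (by omega))
      rw [if_neg hKH]
      interval_cases (K ∩ H).card <;> simp <;> decide
  have hs := sum_congr rfl hpt
  rw [sum_add_distrib, sum_add_distrib, sum_add_distrib, sum_add_distrib, ← mul_sum, ← mul_sum,
    s0, s1, s2, s3, sum_ite_eq' (arcs 𝓛 6) H, if_pos (mem_arcs.mpr ⟨hH.card, hH.arc⟩),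
    ← card_filter] at hs
  unfold evenClass
  have c0 : Nat.choose 6 0 = 1 := by decide
  have c1 : Nat.choose 6 1 = 6 := by decide
  have c2 : Nat.choose 6 2 = 15 := by decide
  have c3 : Nat.choose 6 3 = 20 := by decide
  rw [c0, c1, c2, c3] at hs
  omega

end Hov

end Cfsg.Agent.Helper4.Plane4
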