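import Mathlib
import Cfsg.Agent.Helper4.Plane4c

/-!
# The projective plane of order 4 in coordinates: lines, hyperovals and their three classes
-/

set_option autoImplicit false
set_option linter.unusedSectionVars false
set_option linter.unusedVariables false

namespace Cfsg.Agent.Helper4.Pg24

open Finset Cfsg Cfsg.Agent.Helper4.Plane4

/-- Points of the projective plane of order 4. -/
abbrev P := Fin 21

/-- The subset of `P` coded by a bit mask. -/
def toSet (m : ℕ) : Finset P := univ.filter (fun i : P => m.testBit i)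

/-- Number of points in a mask. -/
def pop (m : ℕ) : ℕ :=
  m % 2 + m / 2 % 2 + m / 4 % 2 + m / 8 % 2 + m / 16 % 2 + m / 32 % 2 + m / 64 % 2 + m / 128 % 2 + m / 256 % 2 + m / 512 % 2 + m / 1024 % 2 + m / 2048 % 2 + m / 4096 % 2 + m / 8192 % 2 + m / 16384 % 2 + m / 32768 % 2 + m / 65536 % 2 + m / 131072 % 2 + m / 262144 % 2 + m / 524288 % 2 + m / 1048576 % 2

theorem mem_toSet {m : ℕ} {i : P} : i ∈ toSet m ↔ m.testBit i = true := by
  simp [toSet]

theorem toSet_land (m n : ℕ) : toSet (m &&& n) = toSet m ∩ toSet n := by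
  ext i
  simp [mem_toSet]

theorem card_toSet (m : ℕ) : (toSet m).card = pop m := by
  have h : ∀ i : P, (if m.testBit i = true then 1 else 0) = m / 2 ^ (i : ℕ) % 2 := by
    intro i
    rw [← Nat.toNat_testBit]
    cases m.testBit i <;> rfl
  rw [toSet, Finset.card_filter, Finset.sum_congr rfl (fun i _ => h i), pop,
    Fin.sum_univ_eq_sum_range (fun i => m / 2 ^ i % 2) 21]
  simp [Finset.sum_range_succ]

theorem toSet_injOn : Set.InjOn toSet (Set.Iio 2097152) := by
  intro m hm n hn h
  apply Nat.eq_of_testBit_eq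
  intro i
  by_cases hi : i < 21
  · have := congrArg (fun s => (⟨i, hi⟩ : P) ∈ s) h
    simp only [mem_toSet, eq_iff_iff] at this
    exact Bool.eq_iff_iff.mpr this
  · have h1 : m < 2 ^ i := lt_of_lt_of_le hm (by
      calc 2097152 = 2 ^ 21 := by norm_num
        _ ≤ 2 ^ i := Nat.pow_le_pow_right (by norm_num) (by omega))
    have h2 : n < 2 ^ i := lt_of_lt_of_le hn (by
      calc 2097152 = 2 ^ 21 := by norm_num
        _ ≤ 2 ^ i := Nat.pow_le_pow_right (by norm_num) (by omega))
    rw [Nat.testBit_lt_two_pow h1, Nat.testBit_lt_two_pow h2]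

/-- Masks of the 21 lines. -/
def lineN : List ℕ :=
  [139810, 481, 1082404, 544816, 329768, 31, 279618, 1118466, 559234, 7681, 590404, 295696, 1065608, 1966081, 168008, 149764, 197776, 122881, 1058896, 533768, 274564]

/-- The 168 hyperovals with their classes. -/
def hypN : List (ℕ × ℕ) :=
  [(1656, 0), (1926, 0), (2740, 1), (2890, 1), (3276, 2), (3378, 2),
   (4818, 2), (4908, 2), (5290, 1), (5460, 1), (6246, 0), (6552, 0),
   (24684, 1), (24978, 1), (26132, 2), (27808, 0), (29504, 0), (30730, 2),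
   (41144, 2), (41286, 2), (42688, 1), (43532, 0), (46098, 0), (47392, 1),
   (49364, 0), (49450, 0), (51808, 2), (52248, 1), (53766, 1), (54656, 2),
   (73930, 0), (74036, 0), (76672, 2), (76806, 1), (78360, 1), (78944, 2),
   (82086, 2), (82264, 2), (83744, 1), (84498, 0), (87052, 0), (88256, 1),
   (98418, 1), (98700, 1), (99850, 2), (101696, 0), (103072, 0), (104468, 2),
   (140357, 0), (141449, 1), (143633, 2), (148049, 1), (148521, 2), (151683, 0),
   (164485, 2), (165123, 1), (165937, 0), (197385, 0), (198723, 2), (200741, 1),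
   (270921, 2), (271409, 1), (272643, 0), (279077, 0), (280721, 2), (282889, 1),
   (296073, 0), (297029, 1), (299043, 2), (328323, 1), (328965, 2), (331857, 0),
   (393332, 2), (393610, 2), (394764, 1), (395968, 0), (398624, 0), (399378, 1),
   (417816, 0), (437248, 2), (442528, 1), (467264, 1), (479744, 2), (491526, 0),
   (533137, 0), (534565, 2), (536643, 1), (541443, 2), (541829, 1), (542793, 0),
   (557609, 1), (558161, 2), (561413, 0), (590883, 0), (592145, 1), (594057, 2),
   (655532, 0), (655698, 0), (657944, 2), (658528, 1), (660352, 1), (660486, 2),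
   (680128, 2), (696340, 1), (706048, 0), (735232, 0), (737290, 1), (753952, 2),
   (786648, 1), (786726, 1), (788128, 2), (789524, 0), (791050, 0), (792896, 2),
   (813568, 1), (827488, 0), (835596, 2), (860178, 2), (868736, 0), (889856, 1),
   (1057541, 1), (1057923, 2), (1060905, 0), (1066257, 0), (1067043, 1), (1069125, 2),
   (1081923, 0), (1083657, 2), (1085585, 1), (1114673, 2), (1115209, 1), (1116293, 0),
   (1179846, 1), (1179960, 1), (1181504, 2), (1182730, 0), (1184276, 0), (1185952, 2),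
   (1209344, 1), (1220992, 0), (1228818, 2), (1253388, 2), (1261664, 0), (1280512, 1),
   (1310898, 0), (1311052, 0), (1313286, 2), (1314176, 1), (1315424, 1), (1315864, 2),
   (1335584, 2), (1351690, 1), (1366016, 0), (1385984, 0), (1392660, 1), (1409216, 2),
   (1572970, 2), (1573268, 2), (1574418, 1), (1575712, 0), (1578176, 0), (1579020, 1),
   (1597446, 0), (1618432, 2), (1622336, 1), (1646752, 1), (1657856, 2), (1671192, 0)]


/-- The lines of the standard plane. -/
def IsLine (l : Finset P) : Prop := ∃ m ∈ lineN, toSet m = l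

/-- The hyperovals of class `c`. -/
def IsCls (c : ℕ) (Q : Finset P) : Prop := ∃ m, (m, c) ∈ hypN ∧ toSet m = Q


/-! ## Table facts -/

theorem line_pop : ∀ m ∈ lineN, pop m = 5 ∧ m < 2097152 := by decide +kernel

theorem line_meet : ∀ m ∈ lineN, ∀ m' ∈ lineN, m ≠ m' → pop (m &&& m') ≤ 1 := by decide +kernel

theorem line_join : ∀ i : Fin 21, ∀ j : Fin 21, i ≠ j →
    ∃ m ∈ lineN, m.testBit i = true ∧ m.testBit j = true := by decide +kernel

theorem hyp_arc : ∀ p ∈ hypN, pop p.1 = 6 ∧ p.1 < 2097152 ∧ p.2 < 3 ∧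
    ∀ m ∈ lineN, pop (m &&& p.1) ≤ 2 := by decide +kernel

theorem hyp_nodup : (hypN.map Prod.fst).Nodup := by decide +kernel

theorem hyp_len : hypN.length = 168 := by decide +kernel

theorem hyp_par : ∀ p ∈ hypN, ∀ q ∈ hypN,
    if p.2 = q.2 then (pop (p.1 &&& q.1) = 0 ∨ pop (p.1 &&& q.1) = 2 ∨ p.1 = q.1)
    else pop (p.1 &&& q.1) % 2 = 1 := by decide +kernel

/-- The collineation exchanging the last two points of the base hyperoval. -/
def t0 : Fin 21 → Fin 21 :=
  ![0, 2, 1, 3, 4, 5, 6, 8, 7, 10, 9, 11, 12, 20, 19, 17, 18, 15, 16, 14, 13]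

theorem t0_t0 : ∀ i, t0 (t0 i) = i := by decide

/-- `t0` as a permutation. -/
def g0 : P ≃ P := ⟨t0, t0, t0_t0, t0_t0⟩

/-- The mask `m'` is the image of the mask `m` under `t0`. -/
def imgOK (m m' : ℕ) : Bool := (List.finRange 21).all fun i => m'.testBit (t0 i) == m.testBit i

/-- The action of `t0` on the classes. -/
def sig (c : ℕ) : ℕ := if c = 0 then 0 else 3 - c

theorem line_img : ∀ m ∈ lineN, ∃ m' ∈ lineN, imgOK m m' = true := by decide +kernel

theorem hyp_img : ∀ p ∈ hypN, ∃ q ∈ hypN, q.2 = sig p.2 ∧ imgOK p.1 q.1 = true := by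
  decide +kernel


/-! ## The standard plane -/

/-- The standard plane as a set system. -/
def L0 : Set (Finset P) := {l | IsLine l}

theorem std_steiner : IsSteinerSystem 2 5 L0 := by
  constructor
  · rintro l ⟨m, hm, rfl⟩
    rw [card_toSet]
    exact (line_pop m hm).1
  · intro s hs
    obtain ⟨i, j, hij, rfl⟩ := Finset.card_eq_two.mp hs
    obtain ⟨m, hm, hi, hj⟩ := line_join i j hij
    refine ⟨toSet m, ⟨⟨m, hm, rfl⟩, ?_⟩, ?_⟩
    · intro x hx
      rw [mem_insert, mem_singleton] at hx
      rcases hx with rfl | rfl <;> (rw [mem_toSet]; assumption)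
    · rintro l ⟨⟨m', hm', rfl⟩, hsub⟩
      by_contra hne
      have hmm : m' ≠ m := fun h => hne (by rw [h])
      have h1 := line_meet m' hm' m hm hmm
      rw [← card_toSet, toSet_land] at h1
      have h2 : ({i, j} : Finset P) ⊆ toSet m' ∩ toSet m := by
        intro x hx
        rw [mem_inter]
        refine ⟨hsub hx, ?_⟩
        rw [mem_insert, mem_singleton] at hx
        rcases hx with rfl | rfl <;> (rw [mem_toSet]; assumption)
      have h3 := card_le_card h2
      rw [card_pair hij] at h3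
      omega

theorem card_P : Fintype.card P = 21 := Fintype.card_fin 21

/-- The standard plane in `Finset` form. -/
noncomputable def stdL : Finset (Finset P) := linesFinset L0

theorem mem_stdL {l : Finset P} : l ∈ stdL ↔ IsLine l := mem_linesFinset

theorem isPlane4_std : IsPlane4 stdL := isPlane4_linesFinset card_P std_steiner

/-! ## Hyperovals -/

variable {c c' : ℕ} {Q Q' l : Finset P}

theorem IsCls.card (h : IsCls c Q) : Q.card = 6 := by
  obtain ⟨m, hm, rfl⟩ := h
  rw [card_toSet]
  exact (hyp_arc _ hm).1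

theorem IsCls.lt (h : IsCls c Q) : c < 3 := by
  obtain ⟨m, hm, rfl⟩ := h
  exact (hyp_arc _ hm).2.2.1

theorem IsCls.arc (h : IsCls c Q) (hl : IsLine l) : (l ∩ Q).card ≤ 2 := by
  obtain ⟨m, hm, rfl⟩ := h
  obtain ⟨n, hn, rfl⟩ := hl
  rw [← toSet_land, card_toSet]
  exact (hyp_arc _ hm).2.2.2 n hn

theorem IsCls.hyperoval (h : IsCls c Q) : IsHyperoval stdL Q :=
  ⟨h.card, fun l hl => h.arc (mem_stdL.mp hl)⟩

theorem cls_inter (h : IsCls c Q) (h' : IsCls c' Q') :
    if c = c' then ((Q ∩ Q').card = 0 ∨ (Q ∩ Q').card = 2 ∨ Q = Q')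
    else (Q ∩ Q').card % 2 = 1 := by
  obtain ⟨m, hm, rfl⟩ := h
  obtain ⟨m', hm', rfl⟩ := h'
  have := hyp_par _ hm _ hm'
  rw [← toSet_land, card_toSet]
  simp only at this
  split_ifs at this ⊢ with hc
  · rcases this with h | h | h
    · exact Or.inl h
    · exact Or.inr (Or.inl h)
    · exact Or.inr (Or.inr (by rw [h]))
  · exact this

theorem cls_unique (h : IsCls c Q) (h' : IsCls c' Q) : c = c' := by
  by_contra hne
  have := cls_inter h h'
  rw [if_neg hne, inter_self, h.card] at this
  omega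

theorem exists_cls (hc : c < 3) : ∃ Q, IsCls c Q := by
  interval_cases c
  · exact ⟨_, 1656, by decide, rfl⟩
  · exact ⟨_, 2740, by decide, rfl⟩
  · exact ⟨_, 3276, by decide, rfl⟩

/-- The hyperovals of the table, as a `Finset`. -/
def hypF : Finset (Finset P) := (hypN.map (fun p => toSet p.1)).toFinset

theorem card_hypF : hypF.card = 168 := by
  unfold hypF
  rw [List.toFinset_card_of_nodup, List.length_map, hyp_len]
  have h1 : hypN.map (fun p => toSet p.1) = (hypN.map Prod.fst).map toSet := by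
    rw [List.map_map]
    rfl
  rw [h1]
  apply List.Nodup.map_on _ hyp_nodup
  intro x hx y hy hxy
  obtain ⟨p, hp, rfl⟩ := List.mem_map.mp hx
  obtain ⟨q, hq, rfl⟩ := List.mem_map.mp hy
  exact toSet_injOn (hyp_arc p hp).2.1 (hyp_arc q hq).2.1 hxy

theorem mem_hypF : Q ∈ hypF ↔ ∃ c, IsCls c Q := by
  unfold hypF
  rw [List.mem_toFinset, List.mem_map]
  constructor
  · rintro ⟨⟨m, c⟩, hp, rfl⟩
    exact ⟨c, m, hp, rfl⟩
  · rintro ⟨c, m, hp, rfl⟩
    exact ⟨(m, c), hp, rfl⟩

theorem hypF_eq : hypF = arcs stdL 6 := by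
  apply eq_of_subset_of_card_le
  · intro Q hQ
    obtain ⟨c, hc⟩ := mem_hypF.mp hQ
    rw [mem_arcs]
    exact ⟨hc.card, hc.hyperoval.arc⟩
  · rw [card_hypF, card_arcs_six isPlane4_std]

theorem cls_complete (hQ : IsHyperoval stdL Q) : ∃ c, IsCls c Q := by
  rw [← mem_hypF, hypF_eq, mem_arcs]
  exact ⟨hQ.card, hQ.arc⟩

/-! ## The base hyperoval and the twisting collineation -/

/-- The base hyperoval, enumerated. -/
def h0 : Fin 6 → P := ![3, 4, 5, 6, 9, 10]

/-- The base hyperoval. -/
def H0 : Finset P := {3, 4, 5, 6, 9, 10}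

theorem h0_inj : Function.Injective h0 := by decide

theorem image_h0 : univ.image h0 = H0 := by decide

theorem mem_H0 {x : P} : x ∈ H0 ↔ ∃ i, h0 i = x := by
  rw [← image_h0]
  simp

theorem cls_H0 : IsCls 0 H0 := ⟨1656, by decide, by decide⟩

theorem g0_h0 : ∀ i, g0 (h0 i) = h0 (Equiv.swap 4 5 i) := by decide

theorem g0_g0 (x : P) : g0 (g0 x) = x := t0_t0 x

theorem g0_symm : g0.symm = g0 := rfl

theorem map_g0_g0 (l : Finset P) : (l.map g0.toEmbedding).map g0.toEmbedding = l := by
  ext x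
  simp only [mem_map_equiv, g0_symm]
  rw [g0_g0]

theorem toSet_img {m m' : ℕ} (h : imgOK m m' = true) :
    (toSet m).map g0.toEmbedding = toSet m' := by
  have h' : ∀ i : Fin 21, m'.testBit (t0 i) = m.testBit i := by
    intro i
    have := List.all_eq_true.mp h i (List.mem_finRange i)
    simpa using this
  ext y
  rw [mem_map_equiv, g0_symm, mem_toSet, mem_toSet]
  have := h' (g0 y)
  rw [show t0 (g0 y) = y from t0_t0 y] at this
  rw [this]

theorem isLine_map_g0 : IsLine (l.map g0.toEmbedding) ↔ IsLine l := by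
  have key : ∀ l, IsLine l → IsLine (l.map g0.toEmbedding) := by
    rintro l ⟨m, hm, rfl⟩
    obtain ⟨m', hm', himg⟩ := line_img m hm
    exact ⟨m', hm', (toSet_img himg).symm⟩
  constructor
  · intro h
    have := key _ h
    rwa [map_g0_g0] at this
  · exact key l

theorem IsCls.map_g0 (h : IsCls c Q) : IsCls (sig c) (Q.map g0.toEmbedding) := by
  obtain ⟨m, hm, rfl⟩ := h
  obtain ⟨⟨m', c'⟩, hq, hc, himg⟩ := hyp_img _ hm
  simp only at hc himg
  subst hc
  exact ⟨m', hq, (toSet_img himg).symm⟩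

theorem isCls_of_map_g0 (h : IsCls c (Q.map g0.toEmbedding)) : IsCls (sig c) Q := by
  have := h.map_g0
  rwa [map_g0_g0] at this

theorem sig_one : sig 1 = 2 := rfl
theorem sig_two : sig 2 = 1 := rfl
theorem sig_zero : sig 0 = 0 := rfl

/-! ## Rigidity and coordinates -/

/-- A collineation of the standard plane fixing the base hyperoval pointwise is trivial. -/
theorem plane_rigid (f : P ≃ P) (hf : ∀ l, IsLine l ↔ IsLine (l.map f.toEmbedding))
    (hfix : ∀ i, f (h0 i) = h0 i) : f = Equiv.refl P := by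
  have hH : H0.card = 6 ∧ ∀ l ∈ L0, (l ∩ H0).card ≤ 2 :=
    ⟨cls_H0.card, fun l hl => cls_H0.arc hl⟩
  obtain ⟨g, -, hu⟩ := hyperoval_perm_ext card_P L0 std_steiner H0 hH (Equiv.refl _)
  have h1 : f = g := by
    apply hu
    refine ⟨?_, ?_⟩
    · rw [mem_setSystemAut_iff]
      intro l
      have := hf l
      rw [Finset.map_eq_image] at this
      exact this
    · rintro ⟨p, hp⟩
      obtain ⟨i, rfl⟩ := mem_H0.mp hp
      exact hfix i
  have h2 : Equiv.refl P = g := by
    apply hu
    refine ⟨Subgroup.one_mem _, fun p => rfl⟩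
  rw [h1, ← h2]

/-- Any plane of order 4 on `P` in which `H0` is an arc is carried to the standard plane by a
bijection fixing `H0` pointwise. -/
theorem exists_std_coord {L : Set (Finset P)} (hL : IsSteinerSystem 2 5 L)
    (hH : ∀ l ∈ L, (l ∩ H0).card ≤ 2) :
    ∃ e : P ≃ P, (∀ l, l ∈ L ↔ IsLine (l.map e.toEmbedding)) ∧ ∀ i, e (h0 i) = h0 i := by
  have hP := isPlane4_linesFinset card_P hL
  have hHo : IsHyperoval (linesFinset L) H0 := ⟨cls_H0.card, isArc_linesFinset.mpr hH⟩
  obtain ⟨e, he, hag, -⟩ := exists_iso hP isPlane4_std hHo cls_H0.hyperoval (Equiv.refl _)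
  refine ⟨e, fun l => ?_, fun i => ?_⟩
  · rw [← mem_linesFinset, he l, Finset.map_eq_image]
    exact mem_stdL
  · exact hag ⟨h0 i, mem_H0.mpr ⟨i, rfl⟩⟩

end Cfsg.Agent.Helper4.Pg24
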