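import Mathlib
import Cfsg.Agent.Helper4.Plane4c

/-!
# Uniqueness of the Steiner system `S(3,6,22)`
-/

set_option autoImplicit false
set_option linter.unusedSectionVars false

namespace Cfsg.Agent.Helper4.S22Unique

open Finset Cfsg Cfsg.Agent.Helper4.Steiner22 Cfsg.Agent.Helper4.Plane4

section Transport

variable {α β : Type*} [Fintype α] [DecidableEq α] [Fintype β] [DecidableEq β]
  {𝓛 : Finset (Finset α)} {𝓜 : Finset (Finset β)}

theorem isArc_image_iff (e : α ≃ β) (he : ∀ l, l ∈ 𝓛 ↔ l.image e ∈ 𝓜) (K : Finset α) :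
    IsArc 𝓜 (K.image e) ↔ IsArc 𝓛 K := by
  constructor
  · intro hK l hl
    have h1 := hK _ ((he l).mp hl)
    rw [← image_inter _ _ e.injective, card_image_of_injective _ e.injective] at h1
    exact h1
  · intro hK m hm
    have e1 : (m.image e.symm).image e = m := by
      rw [image_image]
      simp
    have hl : m.image e.symm ∈ 𝓛 := by
      rw [he, e1]
      exact hm
    have h1 := hK _ hl
    rw [← e1, ← image_inter _ _ e.injective, card_image_of_injective _ e.injective]
    exact h1

theorem mem_evenClass_image_iff (e : α ≃ β) (he : ∀ l, l ∈ 𝓛 ↔ l.image e ∈ 𝓜) (H K : Finset α) :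
    K.image e ∈ evenClass 𝓜 (H.image e) ↔ K ∈ evenClass 𝓛 H := by
  unfold evenClass
  rw [mem_filter, mem_filter, mem_arcs, mem_arcs, isArc_image_iff e he,
    ← image_inter _ _ e.injective, card_image_of_injective _ e.injective,
    card_image_of_injective _ e.injective]

end Transport

section Derived

variable {α : Type*} [Fintype α] [DecidableEq α]

/-- the punctured type -/
abbrev Pt (a : α) := {x : α // x ≠ a}

/-- push a subset of the punctured type up -/
def up (a : α) (l : Finset (Pt a)) : Finset α := l.map (Function.Embedding.subtype _)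

/-- restrict a subset to the punctured type -/
def down (a : α) (b : Finset α) : Finset (Pt a) := b.subtype (fun x => x ≠ a)

theorem coe_mem_up {a : α} {l : Finset (Pt a)} {y : Pt a} : (y : α) ∈ up a l ↔ y ∈ l :=
  Finset.mem_map' _

theorem mem_up {a : α} {l : Finset (Pt a)} {x : α} : x ∈ up a l ↔ ∃ h : x ≠ a, ⟨x, h⟩ ∈ l := by
  unfold up
  rw [mem_map]
  constructor
  · rintro ⟨y, hy, rfl⟩
    exact ⟨y.2, hy⟩
  · rintro ⟨h, hx⟩
    exact ⟨⟨x, h⟩, hx, rfl⟩

theorem notMem_up (a : α) (l : Finset (Pt a)) : a ∉ up a l := by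
  rw [mem_up]
  rintro ⟨h, -⟩
  exact h rfl

theorem mem_down {a : α} {b : Finset α} {y : Pt a} : y ∈ down a b ↔ (y : α) ∈ b :=
  Finset.mem_subtype

theorem card_up (a : α) (l : Finset (Pt a)) : (up a l).card = l.card := card_map _

theorem up_inter (a : α) (l m : Finset (Pt a)) : up a (l ∩ m) = up a l ∩ up a m := map_inter _ _

theorem up_injective (a : α) : Function.Injective (up a) := map_injective _

theorem down_up (a : α) (l : Finset (Pt a)) : down a (up a l) = l := by
  ext y
  rw [mem_down, coe_mem_up]

theorem down_insert_up (a : α) (l : Finset (Pt a)) : down a (insert a (up a l)) = l := by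
  ext y
  rw [mem_down, mem_insert, coe_mem_up]
  constructor
  · rintro (h | h)
    · exact absurd h y.2
    · exact h
  · exact Or.inr

theorem up_down_of_notMem {a : α} {b : Finset α} (hb : a ∉ b) : up a (down a b) = b := by
  ext x
  rw [mem_up]
  constructor
  · rintro ⟨h, hx⟩
    exact mem_down.mp hx
  · intro hx
    exact ⟨fun hxa => hb (hxa ▸ hx), mem_down.mpr hx⟩

theorem insert_up_down_of_mem {a : α} {b : Finset α} (hb : a ∈ b) :
    insert a (up a (down a b)) = b := by
  ext x
  rw [mem_insert, mem_up]
  constructor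
  · rintro (rfl | ⟨h, hx⟩)
    · exact hb
    · exact mem_down.mp hx
  · intro hx
    by_cases hxa : x = a
    · exact Or.inl hxa
    · exact Or.inr ⟨hxa, mem_down.mpr hx⟩

theorem card_Pt (a : α) : Fintype.card (Pt a) = Fintype.card α - 1 := by
  rw [Fintype.card_subtype_compl, Fintype.card_subtype_eq]

/-- lines of the derived design -/
def dLines (B : Set (Finset α)) (a : α) : Set (Finset (Pt a)) :=
  {l | insert a (up a l) ∈ B}

/-- blocks missing `a` -/
def dOvals (B : Set (Finset α)) (a : α) : Set (Finset (Pt a)) :=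
  {K | up a K ∈ B}

theorem isSteiner_dLines {B : Set (Finset α)} (hB : IsSteinerSystem 3 6 B) (a : α) :
    IsSteinerSystem 2 5 (dLines B a) := by
  constructor
  · intro l hl
    have h1 := hB.1 _ hl
    rw [card_insert_of_notMem (notMem_up a l), card_up] at h1
    omega
  · intro s hs
    have hs' : (insert a (up a s)).card = 3 := by
      rw [card_insert_of_notMem (notMem_up a s), card_up, hs]
    obtain ⟨b, ⟨hb, hsb⟩, hu⟩ := hB.2 _ hs'
    have hab : a ∈ b := hsb (mem_insert_self _ _)
    refine ⟨down a b, ⟨?_, ?_⟩, ?_⟩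
    · show insert a (up a (down a b)) ∈ B
      rw [insert_up_down_of_mem hab]
      exact hb
    · intro y hy
      rw [mem_down]
      exact hsb (mem_insert_of_mem (coe_mem_up.mpr hy))
    · rintro l ⟨hl, hsl⟩
      have h1 := hu (insert a (up a l)) ⟨hl, ?_⟩
      · rw [← h1, down_insert_up]
      · intro x hx
        rw [mem_insert] at hx ⊢
        rcases hx with hx | hx
        · exact Or.inl hx
        · right
          rw [mem_up] at hx ⊢
          obtain ⟨h, hx⟩ := hx
          exact ⟨h, hsl hx⟩

end Derived

section Ovals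

variable {α : Type*} [Fintype α] [DecidableEq α]

theorem isS22_linesFinset (hα : Fintype.card α = 22) {B : Set (Finset α)}
    (hB : IsSteinerSystem 3 6 B) : IsS22 (linesFinset B) where
  card_univ := hα
  card_block b hb := hB.1 b (mem_linesFinset.mp hb)
  uniq s hs := by
    obtain ⟨b, ⟨hb, hsb⟩, hu⟩ := hB.2 s hs
    exact ⟨b, ⟨mem_linesFinset.mpr hb, hsb⟩, fun c hc => hu c ⟨mem_linesFinset.mp hc.1, hc.2⟩⟩

variable (hα : Fintype.card α = 22) {B : Set (Finset α)} (hB : IsSteinerSystem 3 6 B) (a : α)
include hα hB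

theorem card_Pt22 : Fintype.card (Pt a) = 21 := by
  rw [card_Pt, hα]

theorem isPlane4_dLines : IsPlane4 (linesFinset (dLines B a)) :=
  isPlane4_linesFinset (card_Pt22 hα hB a) (isSteiner_dLines hB a)

theorem isHyperoval_of_mem {K : Finset (Pt a)} (hK : K ∈ dOvals B a) :
    IsHyperoval (linesFinset (dLines B a)) K := by
  have h22 := isS22_linesFinset hα hB
  constructor
  · rw [← card_up]
    exact hB.1 _ hK
  · intro l hl
    rw [mem_linesFinset] at hl
    have hne : insert a (up a l) ≠ up a K := by
      intro heq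
      exact notMem_up a K (heq ▸ mem_insert_self _ _)
    have h1 := Steiner22.inter_card h22 (mem_linesFinset.mpr hl) (mem_linesFinset.mpr hK) hne
    have h2 : up a (l ∩ K) ⊆ insert a (up a l) ∩ up a K := by
      rw [up_inter]
      exact inter_subset_inter_right (subset_insert _ _)
    have h3 := card_le_card h2
    rw [card_up] at h3
    omega

theorem inter_ovals {K K' : Finset (Pt a)} (hK : K ∈ dOvals B a) (hK' : K' ∈ dOvals B a)
    (hne : K ≠ K') : (K ∩ K').card = 0 ∨ (K ∩ K').card = 2 := by
  have h22 := isS22_linesFinset hα hB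
  have hne' : up a K ≠ up a K' := fun heq => hne (up_injective a heq)
  have h1 := Steiner22.inter_card h22 (mem_linesFinset.mpr hK) (mem_linesFinset.mpr hK') hne'
  rw [← up_inter, card_up] at h1
  exact h1

theorem card_ovals : (linesFinset (dOvals B a)).card = 56 := by
  have h22 := isS22_linesFinset hα hB
  have e1 : (linesFinset (dOvals B a)).image (up a) = (linesFinset B).filter (fun b => ¬ a ∈ b) := by
    ext b
    rw [mem_image, mem_filter, mem_linesFinset]
    constructor
    · rintro ⟨K, hK, rfl⟩
      exact ⟨(mem_linesFinset.mp hK : K ∈ dOvals B a), notMem_up a K⟩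
    · rintro ⟨hb, hab⟩
      refine ⟨down a b, mem_linesFinset.mpr ?_, up_down_of_notMem hab⟩
      show up a (down a b) ∈ B
      rw [up_down_of_notMem hab]
      exact hb
  have e2 := card_image_of_injective (linesFinset (dOvals B a)) (up_injective a)
  rw [e1] at e2
  have e3 := card_filter_add_card_filter_not (s := linesFinset B) (fun b => a ∈ b)
  rw [Steiner22.card_through h22, Steiner22.card_blocks h22] at e3
  omega

theorem ovals_eq_evenClass {H : Finset (Pt a)} (hH : H ∈ dOvals B a) :
    linesFinset (dOvals B a) = evenClass (linesFinset (dLines B a)) H := by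
  apply eq_of_subset_of_card_le
  · intro K hK
    rw [mem_linesFinset] at hK
    have hKo := isHyperoval_of_mem hα hB a hK
    unfold evenClass
    rw [mem_filter, mem_arcs]
    refine ⟨⟨hKo.card, hKo.arc⟩, ?_⟩
    by_cases hKH : K = H
    · right; right
      rw [hKH, inter_self]
      exact (isHyperoval_of_mem hα hB a hH).card
    · rcases inter_ovals hα hB a hK hH hKH with h0 | h2
      · exact Or.inl h0
      · exact Or.inr (Or.inl h2)
  · rw [card_ovals hα hB a, card_evenClass (isPlane4_dLines hα hB a) (isHyperoval_of_mem hα hB a hH)]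

end Ovals

section ExtEquiv

variable {α β : Type*} [Fintype α] [DecidableEq α] [Fintype β] [DecidableEq β]

/-- extend an equivalence of punctured types -/
def extEquiv {a : α} {b : β} (e : Pt a ≃ Pt b) : α ≃ β :=
  (Equiv.optionSubtypeNe a).symm.trans ((Equiv.optionCongr e).trans (Equiv.optionSubtypeNe b))

theorem extEquiv_self {a : α} {b : β} (e : Pt a ≃ Pt b) : extEquiv e a = b := by
  simp [extEquiv]

theorem extEquiv_coe {a : α} {b : β} (e : Pt a ≃ Pt b) (x : Pt a) :
    extEquiv e (x : α) = (e x : β) := by
  unfold extEquiv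
  simp only [Equiv.trans_apply]
  rw [Equiv.optionSubtypeNe_symm_of_ne x.2]
  simp

theorem image_up {a : α} {b : β} (e : Pt a ≃ Pt b) (l : Finset (Pt a)) :
    (up a l).image (extEquiv e) = up b (l.image e) := by
  ext y
  rw [mem_image, mem_up]
  constructor
  · rintro ⟨x, hx, rfl⟩
    rw [mem_up] at hx
    obtain ⟨hx, hxl⟩ := hx
    have := extEquiv_coe e ⟨x, hx⟩
    simp only at this
    refine ⟨this ▸ (e ⟨x, hx⟩).2, ?_⟩
    rw [mem_image]
    exact ⟨⟨x, hx⟩, hxl, Subtype.ext this.symm⟩
  · rintro ⟨hy, hyl⟩
    rw [mem_image] at hyl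
    obtain ⟨x, hxl, hxy⟩ := hyl
    refine ⟨x, coe_mem_up.mpr hxl, ?_⟩
    rw [extEquiv_coe, hxy]

theorem image_insert_up {a : α} {b : β} (e : Pt a ≃ Pt b) (l : Finset (Pt a)) :
    (insert a (up a l)).image (extEquiv e) = insert b (up b (l.image e)) := by
  rw [image_insert, extEquiv_self, image_up]

end ExtEquiv

section Main

variable {α β : Type*} [Fintype α] [DecidableEq α] [Fintype β] [DecidableEq β]

theorem s22_unique (hα : Fintype.card α = 22) (hβ : Fintype.card β = 22) {B : Set (Finset α)}
    {B' : Set (Finset β)} (hB : IsSteinerSystem 3 6 B) (hB' : IsSteinerSystem 3 6 B') :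
    SetSystemIso B B' := by
  have : Nonempty α := Fintype.card_pos_iff.mp (by omega)
  have : Nonempty β := Fintype.card_pos_iff.mp (by omega)
  obtain ⟨a⟩ := ‹Nonempty α›
  obtain ⟨a'⟩ := ‹Nonempty β›
  have hP := isPlane4_dLines hα hB a
  have hP' := isPlane4_dLines hβ hB' a'
  obtain ⟨H, hH⟩ := card_pos.mp (by rw [card_ovals hα hB a]; omega :
    0 < (linesFinset (dOvals B a)).card)
  obtain ⟨H', hH'⟩ := card_pos.mp (by rw [card_ovals hβ hB' a']; omega :
    0 < (linesFinset (dOvals B' a')).card)
  rw [mem_linesFinset] at hH hH'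
  have hHo := isHyperoval_of_mem hα hB a hH
  have hHo' := isHyperoval_of_mem hβ hB' a' hH'
  obtain ⟨e, he, hag, -⟩ := exists_iso hP hP' hHo hHo'
    (Finset.equivOfCardEq (hHo.card.trans hHo'.card.symm))
  have hHim : H.image e = H' := by
    apply eq_of_subset_of_card_le
    · intro y hy
      obtain ⟨x, hx, rfl⟩ := mem_image.mp hy
      have := hag ⟨x, hx⟩
      simp only at this
      rw [this]
      exact Finset.coe_mem _
    · rw [card_image_of_injective _ e.injective, hHo.card, hHo'.card]
  have hov : ∀ K, K ∈ dOvals B a ↔ K.image e ∈ dOvals B' a' := by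
    intro K
    rw [← mem_linesFinset, ← mem_linesFinset (L := dOvals B' a'), ovals_eq_evenClass hα hB a hH,
      ovals_eq_evenClass hβ hB' a' hH', ← hHim, mem_evenClass_image_iff e he]
  have hline : ∀ l, l ∈ dLines B a ↔ l.image e ∈ dLines B' a' := by
    intro l
    rw [← mem_linesFinset, ← mem_linesFinset (L := dLines B' a')]
    exact he l
  have key : ∀ b, b ∈ B ↔ b.image (extEquiv e) ∈ B' := by
    intro b
    by_cases hab : a ∈ b
    · have e1 := insert_up_down_of_mem hab
      rw [← e1, image_insert_up]
      exact hline (down a b)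
    · have e1 := up_down_of_notMem hab
      rw [← e1, image_up]
      exact hov (down a b)
  refine ⟨extEquiv e, ?_⟩
  ext b'
  constructor
  · rintro ⟨b, hb, rfl⟩
    exact (key b).mp hb
  · intro hb'
    have e1 : (b'.image (extEquiv e).symm).image (extEquiv e) = b' := by
      rw [image_image]
      simp
    refine ⟨b'.image (extEquiv e).symm, ?_, e1⟩
    rw [key, e1]
    exact hb'

end Main

end Cfsg.Agent.Helper4.S22Unique
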