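import Mathlib
import Cfsg.Agent.Helper4.M11Rigid
import Cfsg.Agent.Helper4.S22Unique
import Cfsg.Agent.Helper4.M12Simple
import Cfsg.Agent.S0351
import Cfsg.Agent.S0357

/-!
# Rigid uniqueness of the Steiner system `S(5,6,12)`
-/

set_option autoImplicit false
set_option linter.unusedSectionVars false
set_option linter.unusedVariables false

namespace Cfsg.Agent.Helper4.M12Rigid

open Finset Cfsg Function Cfsg.Agent.Helper4.SteinerOpt Cfsg.Agent.Helper4.S22Unique
  Cfsg.Agent.Helper4.M11Rigid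

section Derived

variable {α : Type*} [Fintype α] [DecidableEq α]

/-- The derived design at a point. -/
def der (B : Set (Finset α)) (p : α) : Set (Finset (Pt p)) :=
  {b' | ∃ b ∈ B, p ∈ b ∧ b' = down p b}

theorem isSteiner_der {B : Set (Finset α)} (hB : IsSteinerSystem 5 6 B) (p : α) :
    IsSteinerSystem 4 5 (der B p) :=
  Cfsg.Agent.S0351.result hB p

theorem mem_der_iff {B : Set (Finset α)} {p : α} {l : Finset (Pt p)} :
    l ∈ der B p ↔ insert p (up p l) ∈ B := by
  constructor
  · rintro ⟨b, hb, hpb, rfl⟩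
    rw [insert_up_down_of_mem hpb]
    exact hb
  · intro h
    exact ⟨_, h, mem_insert_self _ _, (down_insert_up p l).symm⟩

/-- The first four of five points, in the punctured type at the fifth. -/
def dropLast (x : Fin 5 ↪ α) : Fin 4 ↪ Pt (x 4) :=
  ⟨fun i => ⟨x i.castSucc, fun h => by
    have := x.injective h
    exact absurd this (Fin.castSucc_lt_last i).ne⟩, fun i j h => by
    have h' := congrArg Subtype.val h
    simp only at h'
    exact Fin.castSucc_injective _ (x.injective h')⟩

theorem dropLast_coe (x : Fin 5 ↪ α) (i : Fin 4) : (dropLast x i : α) = x i.castSucc := rfl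

end Derived

section Main

variable {α β : Type*} [Fintype α] [DecidableEq α] [Fintype β] [DecidableEq β]

theorem map_compl_equiv (e : α ≃ β) (b : Finset α) :
    (bᶜ).map e.toEmbedding = (b.map e.toEmbedding)ᶜ := by
  ext y
  simp [mem_map_equiv]

theorem rigid12_exists (hα : Fintype.card α = 12) (hβ : Fintype.card β = 12)
    {B : Set (Finset α)} {B' : Set (Finset β)} (hB : IsSteinerSystem 5 6 B)
    (hB' : IsSteinerSystem 5 6 B') (x : Fin 5 ↪ α) (y : Fin 5 ↪ β) :
    ∃ e : α ≃ β, (∀ b, b ∈ B ↔ b.map e.toEmbedding ∈ B') ∧ ∀ i, e (x i) = y i := by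
  have hcα : Fintype.card (Pt (x 4)) = 11 := by rw [card_Pt, hα]
  have hcβ : Fintype.card (Pt (y 4)) = 11 := by rw [card_Pt, hβ]
  obtain ⟨φ, hφ, hφx⟩ := rigid11_exists hcα hcβ (isSteiner_der hB (x 4)) (isSteiner_der hB' (y 4))
    (dropLast x) (dropLast y)
  have key : ∀ b ∈ B, x 4 ∈ b → b.map (extEquiv φ).toEmbedding ∈ B' := by
    intro b hb hpb
    have h1 : down (x 4) b ∈ der B (x 4) := ⟨b, hb, hpb, rfl⟩
    have h2 := mem_der_iff.mp ((hφ _).mp h1)
    rw [Finset.map_eq_image] at h2 ⊢
    rw [← insert_up_down_of_mem hpb]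
    have := image_insert_up φ (down (x 4) b)
    rw [Equiv.coe_toEmbedding, this]
    exact h2
  refine ⟨extEquiv φ, ?_, fun i => ?_⟩
  · apply iso_of_into _ (by norm_num : 5 ≤ 6) hB hB'
    intro b hb
    by_cases hpb : x 4 ∈ b
    · exact key b hb hpb
    · have hc : bᶜ ∈ B := Cfsg.Agent.S0357.result hα hB hb
      have := key _ hc (mem_compl.mpr hpb)
      have h2 := Cfsg.Agent.S0357.result hβ hB' this
      rwa [map_compl_equiv, compl_compl] at h2
  · by_cases hi : i = 4
    · rw [hi]; exact extEquiv_self φ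
    · obtain ⟨j, rfl⟩ : ∃ j : Fin 4, i = j.castSucc := by
        revert hi; revert i; decide
      have h1 := extEquiv_coe φ (dropLast x j)
      rw [dropLast_coe] at h1
      rw [h1, hφx j, dropLast_coe]

/-- Restriction of a bijection to punctured types. -/
def restr (e : α ≃ β) {p : α} {q : β} (h : e p = q) : Pt p ≃ Pt q :=
  e.subtypeEquiv (fun a => by
    constructor
    · intro ha hq
      exact ha (e.injective (hq.trans h.symm))
    · intro ha hp
      exact ha (by rw [hp, h]))

theorem restr_coe (e : α ≃ β) {p : α} {q : β} (h : e p = q) (a : Pt p) :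
    (restr e h a : β) = e a := rfl

theorem restr_iso {B : Set (Finset α)} {B' : Set (Finset β)} (e : α ≃ β) {p : α} {q : β}
    (h : e p = q) (he : ∀ b, b ∈ B ↔ b.map e.toEmbedding ∈ B') (l : Finset (Pt p))
    (hl : l ∈ der B p) : l.map (restr e h).toEmbedding ∈ der B' q := by
  rw [mem_der_iff] at hl ⊢
  have := (he _).mp hl
  convert this using 1
  ext z
  rw [mem_insert, mem_up, mem_map]
  constructor
  · rintro (rfl | ⟨hz, hzl⟩)
    · exact ⟨p, mem_insert_self _ _, h⟩
    · obtain ⟨a, ha, hae⟩ := mem_map.mp hzl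
      refine ⟨a, mem_insert_of_mem (coe_mem_up.mpr ha), ?_⟩
      exact congrArg Subtype.val hae
  · rintro ⟨a, ha, rfl⟩
    rcases mem_insert.mp ha with rfl | ha
    · exact Or.inl h
    · right
      obtain ⟨hap, hal⟩ := mem_up.mp ha
      have hne : e a ≠ q := fun hq => hap (e.injective (hq.trans h.symm))
      refine ⟨hne, mem_map.mpr ⟨⟨a, hap⟩, hal, ?_⟩⟩
      exact Subtype.ext rfl

theorem rigid12_unique (hα : Fintype.card α = 12) {B : Set (Finset α)} {B' : Set (Finset β)}
    (hB : IsSteinerSystem 5 6 B) (hB' : IsSteinerSystem 5 6 B') (x : Fin 5 ↪ α) {e₁ e₂ : α ≃ β}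
    (h₁ : ∀ b, b ∈ B ↔ b.map e₁.toEmbedding ∈ B') (h₂ : ∀ b, b ∈ B ↔ b.map e₂.toEmbedding ∈ B')
    (hx : ∀ i, e₁ (x i) = e₂ (x i)) : e₁ = e₂ := by
  have hc : Fintype.card (Pt (x 4)) = 11 := by rw [card_Pt, hα]
  have hd := isSteiner_der hB (x 4)
  have hd' := isSteiner_der hB' (e₁ (x 4))
  have i₁ := iso_of_into (restr e₁ rfl) (by norm_num : 4 ≤ 5) hd hd' (restr_iso e₁ rfl h₁)
  have i₂ := iso_of_into (restr e₂ (hx 4).symm) (by norm_num : 4 ≤ 5) hd hd'
    (restr_iso e₂ (hx 4).symm h₂)
  have := rigid11_unique hc hd (dropLast x) i₁ i₂ (fun i => Subtype.ext (by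
    rw [restr_coe, restr_coe, dropLast_coe]
    exact hx _))
  ext1 a
  by_cases ha : a = x 4
  · rw [ha]; exact hx 4
  · have h := congrArg (fun φ => ((φ ⟨a, ha⟩ : Pt (e₁ (x 4))) : β)) this
    simpa [restr_coe] using h

end Main


section Aut5

variable {α : Type*} [Fintype α] [DecidableEq α]

/-- The automorphism group of an `S(5,6,12)` is sharply 5-transitive. -/
theorem aut_sharp5 (hα : Fintype.card α = 12) {B : Set (Finset α)}
    (hB : IsSteinerSystem 5 6 B) :
    MulAction.IsMultiplyPretransitive (setSystemAut B) α 5 ∧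
      ∀ x : Fin 5 ↪ α, MulAction.stabilizer (setSystemAut B) x = ⊥ := by
  constructor
  · refine ⟨fun x y => ?_⟩
    obtain ⟨e, he, hxy⟩ := rigid12_exists hα hα hB hB x y
    refine ⟨⟨e, (mem_aut_iff B e).mpr he⟩, ?_⟩
    ext i
    exact hxy i
  · intro x
    rw [eq_bot_iff]
    intro g hg
    rw [MulAction.mem_stabilizer_iff] at hg
    rw [Subgroup.mem_bot]
    have hg' := (mem_aut_iff B g.1).mp g.2
    have : (g : Equiv.Perm α) = Equiv.refl α := by
      apply rigid12_unique hα hB hB x hg' (refl_iff B)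
      intro i
      have := DFunLike.congr_fun hg i
      exact this
    exact Subtype.ext this

end Aut5

end Cfsg.Agent.Helper4.M12Rigid
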