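import Mathlib
import Cfsg.Agent.Helper4.M12Rigid

/-!
# Extension lemmas: a Steiner system is determined by the blocks through a point and one more block
-/

set_option autoImplicit false
set_option linter.unusedSectionVars false
set_option linter.unusedVariables false

namespace Cfsg.Agent.Helper4.SteinerExt

open Finset Cfsg Function Cfsg.Agent.Helper4.S22Unique Cfsg.Agent.Helper4.Plane4
  Cfsg.Agent.Helper4.M12Rigid

universe u

/-- Two Steiner systems with these parameters that have the same blocks through a point and share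
a block off that point coincide. -/
def ExtProp (t k v : ℕ) : Prop :=
  ∀ (α : Type u) [Fintype α] [DecidableEq α], Fintype.card α = v →
    ∀ (E E' : Set (Finset α)), IsSteinerSystem t k E → IsSteinerSystem t k E' →
    ∀ (a : α), (∀ b, a ∈ b → (b ∈ E ↔ b ∈ E')) → ∀ K, K ∈ E → K ∈ E' → a ∉ K → E = E'

theorem ext22 : ExtProp.{u} 3 6 22 := by
  intro α _ _ hα E E' hE hE' a hthr K hK hK' haK
  have hlines : dLines E a = dLines E' a := by
    ext l
    exact hthr _ (mem_insert_self _ _)
  have hH : down a K ∈ dOvals E a := by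
    show up a (down a K) ∈ E
    rw [up_down_of_notMem haK]
    exact hK
  have hH' : down a K ∈ dOvals E' a := by
    show up a (down a K) ∈ E'
    rw [up_down_of_notMem haK]
    exact hK'
  have h1 := ovals_eq_evenClass hα hE a hH
  have h2 := ovals_eq_evenClass hα hE' a hH'
  rw [hlines] at h1
  have hov : ∀ Q, Q ∈ dOvals E a ↔ Q ∈ dOvals E' a := by
    intro Q
    rw [← mem_linesFinset, ← mem_linesFinset (L := dOvals E' a), h1, h2]
  ext b
  by_cases hab : a ∈ b
  · exact hthr b hab
  · have := hov (down a b)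
    unfold dOvals at this
    simp only [Set.mem_ofPred_eq] at this
    rw [up_down_of_notMem hab] at this
    exact this

theorem ext_succ {t k v : ℕ} (h : ExtProp.{u} t k v) (ht : 2 ≤ t) (htk : t ≤ k) (hkv : k < v) :
    ExtProp.{u} (t + 1) (k + 1) (v + 1) := by
  intro α _ _ hα D D' hD hD' x0 hthr C hC hC' hx0C
  -- Step 1
  have step1 : ∀ (p : α) (C : Finset α), C ∈ D → C ∈ D' → x0 ∉ C → p ∈ C →
      ∀ b, p ∈ b → (b ∈ D ↔ b ∈ D') := by
    intro p C hC hC' hx0C hpC
    have hp0 : x0 ≠ p := fun h => hx0C (h ▸ hpC)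
    have hcard : Fintype.card (Pt p) = v := by rw [card_Pt, hα]; rfl
    have hd : IsSteinerSystem t k (der D p) := Cfsg.Agent.S0351.result hD p
    have hd' : IsSteinerSystem t k (der D' p) := Cfsg.Agent.S0351.result hD' p
    have heq : der D p = der D' p := by
      apply h (Pt p) hcard _ _ hd hd' ⟨x0, hp0⟩ _ (down p C)
      · rw [mem_der_iff, insert_up_down_of_mem hpC]; exact hC
      · rw [mem_der_iff, insert_up_down_of_mem hpC]; exact hC'
      · rw [mem_down]; exact hx0C
      · intro l hl
        rw [mem_der_iff, mem_der_iff]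
        apply hthr
        exact mem_insert_of_mem (coe_mem_up (y := (⟨x0, hp0⟩ : Pt p)).mpr hl)
    intro b hpb
    have e1 : b ∈ D ↔ down p b ∈ der D p := by
      rw [mem_der_iff, insert_up_down_of_mem hpb]
    have e2 : b ∈ D' ↔ down p b ∈ der D' p := by
      rw [mem_der_iff, insert_up_down_of_mem hpb]
    rw [e1, e2, heq]
  -- Step 2
  have step2 : ∀ q : α, ∀ b, q ∈ b → (b ∈ D ↔ b ∈ D') := by
    intro q
    by_cases hq0 : q = x0
    · rw [hq0]; exact hthr
    by_cases hqC : q ∈ C
    · exact step1 q C hC hC' hx0C hqC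
    obtain ⟨p, hpC⟩ := card_pos.mp (by rw [hD.1 C hC]; omega : 0 < C.card)
    have hpq : p ≠ q := fun h => hqC (h ▸ hpC)
    have hp0 : p ≠ x0 := fun h => hx0C (h ▸ hpC)
    -- auxiliary points
    have hcard3 : (({p, q, x0} : Finset α)ᶜ).card = v + 1 - 3 := by
      rw [card_compl, hα, card_insert_of_notMem, card_pair hq0]
      simp only [mem_insert, mem_singleton, not_or]
      exact ⟨hpq, hp0⟩
    obtain ⟨R, hR, hRc⟩ := exists_subset_card_eq (s := ({p, q, x0} : Finset α)ᶜ) (n := t - 2)
      (by rw [hcard3]; omega)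
    have hRp : p ∉ R := fun h => by
      have := mem_compl.mp (hR h); simp at this
    have hRq : q ∉ R := fun h => by
      have := mem_compl.mp (hR h); simp at this
    have hR0 : x0 ∉ R := fun h => by
      have := mem_compl.mp (hR h); simp at this
    set T : Finset α := insert p (insert q R) with hT
    have hTc : T.card = t := by
      rw [hT, card_insert_of_notMem, card_insert_of_notMem hRq, hRc]
      · omega
      · simp only [mem_insert, not_or]
        exact ⟨hpq, hRp⟩
    have h0T : x0 ∉ T := by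
      rw [hT]
      simp only [mem_insert, not_or]
      exact ⟨fun h => hp0 h.symm, fun h => hq0 h.symm, hR0⟩
    obtain ⟨b1, ⟨hb1, hS1⟩, hu1⟩ := hD.2 (insert x0 T) (by rw [card_insert_of_notMem h0T, hTc])
    obtain ⟨r', -, hr'⟩ := exists_mem_notMem_of_card_lt_card
      (by rw [hD.1 b1 hb1, card_univ, hα]; omega : b1.card < (univ : Finset α).card)
    have hr'T : r' ∉ T := fun h => hr' (hS1 (mem_insert_of_mem h))
    obtain ⟨b2, ⟨hb2, hS2⟩, -⟩ := hD.2 (insert r' T) (by rw [card_insert_of_notMem hr'T, hTc])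
    have hx0b2 : x0 ∉ b2 := by
      intro hx
      have : b2 = b1 := hu1 b2 ⟨hb2, by
        intro y hy
        rcases mem_insert.mp hy with rfl | hy
        · exact hx
        · exact hS2 (mem_insert_of_mem hy)⟩
      exact hr' (this ▸ hS2 (mem_insert_self _ _))
    have hpb2 : p ∈ b2 := hS2 (mem_insert_of_mem (by rw [hT]; exact mem_insert_self _ _))
    have hqb2 : q ∈ b2 := hS2 (mem_insert_of_mem (by
      rw [hT]; exact mem_insert_of_mem (mem_insert_self _ _)))
    have hb2' : b2 ∈ D' := (step1 p C hC hC' hx0C hpC b2 hpb2).mp hb2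
    exact step1 q b2 hb2 hb2' hx0b2 hqb2
  -- Step 3
  ext b
  constructor
  · intro hb
    obtain ⟨q, hq⟩ := card_pos.mp (by rw [hD.1 b hb]; omega : 0 < b.card)
    exact (step2 q b hq).mp hb
  · intro hb
    obtain ⟨q, hq⟩ := card_pos.mp (by rw [hD'.1 b hb]; omega : 0 < b.card)
    exact (step2 q b hq).mpr hb

theorem ext23 : ExtProp.{u} 4 7 23 := ext_succ ext22 (by norm_num) (by norm_num) (by norm_num)

theorem ext24 : ExtProp.{u} 5 8 24 := ext_succ ext23 (by norm_num) (by norm_num) (by norm_num)

end Cfsg.Agent.Helper4.SteinerExt
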