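import Mathlib
import Cfsg.Agent.Helper4.Pg24
import Cfsg.Agent.Helper4.SteinerExt
import Cfsg.Agent.S0356

/-!
# Coordinates on the Steiner system `S(4,7,23)`
-/

set_option autoImplicit false
set_option linter.unusedSectionVars false
set_option linter.unusedVariables false

namespace Cfsg.Agent.Helper4.S23Hub

open Finset Cfsg Function Cfsg.Agent.Helper4.SteinerOpt Cfsg.Agent.Helper4.Pg24
  Cfsg.Agent.Helper4.Plane4 Cfsg.Agent.Helper4.M11Rigid

/-- The 22-point set. -/
abbrev P1 := Option P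
/-- The 23-point set. -/
abbrev P2 := Option (Option P)

theorem card_P1 : Fintype.card P1 = 22 := by simp [Fintype.card_option]
theorem card_P2 : Fintype.card P2 = 23 := by simp [Fintype.card_option]

section S22

variable {E : Set (Finset P1)} (hE : IsSteinerSystem 3 6 E)

theorem insertNone_inter_map_some {γ : Type*} [DecidableEq γ] (l Q : Finset γ) :
    insertNone l ∩ Q.map Embedding.some = (l ∩ Q).map Embedding.some := by
  ext o
  cases o <;> simp

theorem insertNone_ne_map_some {γ : Type*} [DecidableEq γ] (l Q : Finset γ) :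
    insertNone l ≠ Q.map Embedding.some := by
  intro h
  have : none ∈ Q.map Embedding.some := h ▸ none_mem_insertNone
  simp at this

include hE in
theorem oval_arc {l Q : Finset P} (hl : insertNone l ∈ E) (hQ : Q.map Embedding.some ∈ E) :
    (l ∩ Q).card = 0 ∨ (l ∩ Q).card = 2 := by
  have := Cfsg.Agent.S0356.result card_P1 hE hl hQ (insertNone_ne_map_some l Q)
  rwa [insertNone_inter_map_some, card_map] at this

include hE in
theorem oval_inter {Q Q' : Finset P} (hQ : Q.map Embedding.some ∈ E)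
    (hQ' : Q'.map Embedding.some ∈ E) (hne : Q ≠ Q') :
    (Q ∩ Q').card = 0 ∨ (Q ∩ Q').card = 2 := by
  have := Cfsg.Agent.S0356.result card_P1 hE hQ hQ'
    (fun h => hne (Finset.map_injective _ h))
  rwa [← Finset.map_inter, card_map] at this

variable (hl : ∀ l : Finset P, insertNone l ∈ E ↔ IsLine l)

include hE hl in
theorem oval_cls {Q : Finset P} (hQ : Q.map Embedding.some ∈ E) : ∃ c, IsCls c Q := by
  apply cls_complete
  refine ⟨?_, fun l hl' => ?_⟩
  · have := hE.1 _ hQ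
    rwa [card_map] at this
  · rcases oval_arc hE ((hl l).mpr (mem_stdL.mp hl')) hQ with h | h <;> omega

include hE hl in
theorem oval_same {Q Q' : Finset P} {c c' : ℕ} (hQ : Q.map Embedding.some ∈ E)
    (hQ' : Q'.map Embedding.some ∈ E) (hc : IsCls c Q) (hc' : IsCls c' Q') : c = c' := by
  by_cases hne : Q = Q'
  · subst hne
    exact cls_unique hc hc'
  · by_contra hcc
    have h1 := cls_inter hc hc'
    rw [if_neg hcc] at h1
    rcases oval_inter hE hQ hQ' hne with h | h <;> omega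

include hE hl in
/-- Every hyperoval shares three points with some block off the extra point. -/
theorem exists_oval_three {K : Finset P} {c : ℕ} (hK : IsCls c K) :
    ∃ Q : Finset P, Q.map Embedding.some ∈ E ∧ 3 ≤ (K ∩ Q).card := by
  obtain ⟨T, hTK, hT3⟩ := exists_subset_card_eq (s := K) (n := 3) (by rw [hK.card]; norm_num)
  obtain ⟨b, ⟨hb, hTb⟩, -⟩ := hE.2 (T.map Embedding.some) (by rw [card_map, hT3])
  have hTb' : T ⊆ eraseNone b := map_some_subset_iff.mp hTb
  have hnone : none ∉ b := by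
    intro hn
    have hb' := eq_insertNone_of_mem hn
    rw [hb'] at hb
    have hline := (hl _).mp hb
    have h1 := hK.arc hline
    have h2 : T ⊆ eraseNone b ∩ K := subset_inter hTb' hTK
    have h3 := card_le_card h2
    omega
  refine ⟨eraseNone b, ?_, ?_⟩
  · rw [← eq_map_some_of_notMem hnone]
    exact hb
  · have h2 : T ⊆ K ∩ eraseNone b := subset_inter hTK hTb'
    have h3 := card_le_card h2
    omega

include hE hl in
/-- The blocks off the extra point are the hyperovals of one class. -/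
theorem class_lemma : ∃ c, c < 3 ∧ ∀ Q : Finset P, Q.map Embedding.some ∈ E ↔ IsCls c Q := by
  obtain ⟨Q0, hQ0, -⟩ := exists_oval_three hE hl cls_H0
  obtain ⟨c, hc⟩ := oval_cls hE hl hQ0
  refine ⟨c, hc.lt, fun Q => ⟨fun hQ => ?_, fun hQ => ?_⟩⟩
  · obtain ⟨c', hc'⟩ := oval_cls hE hl hQ
    rw [oval_same hE hl hQ0 hQ hc hc']
    exact hc'
  · obtain ⟨Q1, hQ1, h3⟩ := exists_oval_three hE hl hQ
    obtain ⟨c', hc'⟩ := oval_cls hE hl hQ1
    have hcc : c = c' := oval_same hE hl hQ0 hQ1 hc hc'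
    subst hcc
    have := cls_inter hQ hc'
    rw [if_pos rfl] at this
    rcases this with h | h | h
    · omega
    · omega
    · rw [h]; exact hQ1

end S22

/-- The standard frame. -/
def f₀ : Fin 7 → P2 := Fin.cons none (fun i => some (some (h0 i)))

/-- The extra point of the standard frame. -/
def x₀ : P2 := some none

theorem f₀_zero : f₀ 0 = none := rfl
theorem f₀_succ (i : Fin 6) : f₀ i.succ = some (some (h0 i)) := rfl

theorem image_f₀ : univ.image f₀ = sh10 H0 := by decide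

/-- Coordinates: the lines and the two classes of hyperovals attached to the extra points. -/
structure IsHub23 (j : ℕ) (D : Set (Finset P2)) : Prop where
  steiner : IsSteinerSystem 4 7 D
  lines : ∀ l, sh11 l ∈ D ↔ IsLine l
  ovA : ∀ Q, sh10 Q ∈ D ↔ IsCls 0 Q
  ovB : ∀ Q, sh01 Q ∈ D ↔ IsCls j Q
  jmem : j = 1 ∨ j = 2

theorem IsHub23.jlt {j : ℕ} {D : Set (Finset P2)} (h : IsHub23 j D) : j < 3 := by
  rcases h.jmem with h | h <;> omega

theorem hub23_eq {j : ℕ} {D D' : Set (Finset P2)} (h : IsHub23 j D) (h' : IsHub23 j D') :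
    D = D' := by
  obtain ⟨Q, hQ⟩ := exists_cls h.jlt
  apply Cfsg.Agent.Helper4.SteinerExt.ext23 P2 card_P2 D D' h.steiner h'.steiner none _ (sh01 Q)
    ((h.ovB Q).mpr hQ) ((h'.ovB Q).mpr hQ) (none_notMem_sh01 Q)
  intro b hb
  rcases shape_cases b with ⟨-, -, hb'⟩ | ⟨-, -, hb'⟩ | ⟨h0, -, -⟩ | ⟨h0, -, -⟩
  · rw [hb', h.lines, h'.lines]
  · rw [hb', h.ovA, h'.ovA]
  · exact absurd hb h0
  · exact absurd hb h0

theorem sig_sig {j : ℕ} (hj : j = 1 ∨ j = 2) : sig (sig j) = j := by
  rcases hj with rfl | rfl <;> rfl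

theorem sig_mem {j : ℕ} (hj : j = 1 ∨ j = 2) : sig j = 1 ∨ sig j = 2 := by
  rcases hj with rfl | rfl
  · right; rfl
  · left; rfl

theorem sig_ne {j : ℕ} (hj : j = 1 ∨ j = 2) : sig j ≠ j := by
  rcases hj with rfl | rfl <;> decide

theorem hub23_twist {j : ℕ} {D : Set (Finset P2)} (h : IsHub23 j D) :
    IsHub23 (sig j) (mapSys (lift2 g0) D) where
  steiner := isSteiner_mapSys _ h.steiner
  lines l := by
    have h1 : (sh11 l).map (lift2 g0).symm.toEmbedding = sh11 (l.map g0.toEmbedding) :=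
      map_lift2_sh11 g0.symm l
    show (sh11 l).map (lift2 g0).symm.toEmbedding ∈ D ↔ IsLine l
    rw [h1, h.lines, isLine_map_g0]
  ovA Q := by
    have h1 : (sh10 Q).map (lift2 g0).symm.toEmbedding = sh10 (Q.map g0.toEmbedding) :=
      map_lift2_sh10 g0.symm Q
    show (sh10 Q).map (lift2 g0).symm.toEmbedding ∈ D ↔ IsCls 0 Q
    rw [h1, h.ovA]
    exact ⟨fun hc => isCls_of_map_g0 hc, fun hc => hc.map_g0⟩
  ovB Q := by
    have h1 : (sh01 Q).map (lift2 g0).symm.toEmbedding = sh01 (Q.map g0.toEmbedding) :=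
      map_lift2_sh01 g0.symm Q
    show (sh01 Q).map (lift2 g0).symm.toEmbedding ∈ D ↔ IsCls (sig j) Q
    rw [h1, h.ovB]
    refine ⟨fun hc => isCls_of_map_g0 hc, fun hc => ?_⟩
    have := hc.map_g0
    rwa [sig_sig h.jmem] at this
  jmem := sig_mem h.jmem

theorem hub23_class_unique {j j' : ℕ} {D : Set (Finset P2)} (h : IsHub23 j D)
    (h' : IsHub23 j' D) : j = j' := by
  obtain ⟨Q, hQ⟩ := exists_cls h.jlt
  exact cls_unique hQ ((h'.ovB Q).mp ((h.ovB Q).mpr hQ))

theorem lift2_refl {γ : Type*} : lift2 (Equiv.refl γ) = Equiv.refl _ := by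
  ext1 o
  rcases o with _ | _ | x <;> rfl

theorem hub23_rigid {j₁ j₂ : ℕ} {D₁ D₂ : Set (Finset P2)} (h₁ : IsHub23 j₁ D₁)
    (h₂ : IsHub23 j₂ D₂) (h : P2 ≃ P2) (hD : mapSys h D₁ = D₂) (hf : ∀ i, h (f₀ i) = f₀ i)
    (hx : h x₀ = x₀) : h = Equiv.refl P2 := by
  obtain ⟨f, rfl⟩ := exists_lift2 h (hf 0) hx
  have hfix : ∀ i, f (h0 i) = h0 i := by
    intro i
    have := hf i.succ
    rw [f₀_succ, lift2_ss] at this
    exact Option.some_injective _ (Option.some_injective _ this)
  have hline : ∀ l, IsLine l ↔ IsLine (l.map f.toEmbedding) := by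
    intro l
    rw [← h₁.lines, ← h₂.lines, ← hD, ← map_lift2_sh11, map_mem_mapSys]
  rw [plane_rigid f hline hfix, lift2_refl]

section Coord

variable {α : Type*} [Fintype α] [DecidableEq α]

theorem frame_block {D : Set (Finset α)} {f : Fin 7 → α} (hfD : univ.image f ∈ D) (κ : α ≃ P2)
    (hκ : ∀ i, κ (f i) = f₀ i) : sh10 H0 ∈ mapSys κ D := by
  have : (univ.image f).map κ.toEmbedding = sh10 H0 := by
    rw [← image_f₀, Finset.map_eq_image, Finset.image_image]
    apply Finset.image_congr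
    intro i _
    exact hκ i
  rw [← this, map_mem_mapSys]
  exact hfD

/-- Coordinates adapted to a frame: an ordered block and a point off it. -/
theorem hub23_coord (hα : Fintype.card α = 23) {D : Set (Finset α)}
    (hD : IsSteinerSystem 4 7 D) (f : Fin 7 → α) (x : α) (hf : Injective f)
    (hfD : univ.image f ∈ D) (hx : x ∉ univ.image f) :
    ∃ κ : α ≃ P2, (∀ i, κ (f i) = f₀ i) ∧ κ x = x₀ ∧ ∃ j, IsHub23 j (mapSys κ D) := by
  -- a first bijection matching the frame
  have hy : Injective (Fin.cons x f : Fin 8 → α) := by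
    rw [Fin.cons_injective_iff]
    refine ⟨fun ⟨i, hi⟩ => hx ?_, hf⟩
    rw [← hi]
    exact mem_image_of_mem _ (mem_univ _)
  have hy₀ : Injective (Fin.cons x₀ f₀ : Fin 8 → P2) := by decide
  obtain ⟨κ₀, hκ₀⟩ := exists_equiv_extending ⟨_, hy⟩ ⟨_, hy₀⟩
    ⟨Fintype.equivOfCardEq (hα.trans card_P2.symm)⟩
  have hκ₀f : ∀ i, κ₀ (f i) = f₀ i := fun i => by
    have := hκ₀ i.succ
    simpa using this
  have hκ₀x : κ₀ x = x₀ := by
    have := hκ₀ 0
    simpa using this
  have hD₀ := isSteiner_mapSys κ₀ hD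
  set D₀ := mapSys κ₀ D with hD₀def
  have hE₀ : IsSteinerSystem 3 6 (derivedOpt D₀) := isSteiner_derivedOpt hD₀
  have hL₀ : IsSteinerSystem 2 5 (derivedOpt (derivedOpt D₀)) := isSteiner_derivedOpt hE₀
  have hblock₀ : sh10 H0 ∈ D₀ := frame_block hfD κ₀ hκ₀f
  have harc : ∀ l ∈ derivedOpt (derivedOpt D₀), (l ∩ H0).card ≤ 2 := by
    intro l hl
    have hl' : insertNone l ∈ derivedOpt D₀ := hl
    have hQ : H0.map Embedding.some ∈ derivedOpt D₀ := hblock₀
    rcases oval_arc hE₀ hl' hQ with h | h <;> omega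
  obtain ⟨e, he, hefix⟩ := exists_std_coord hL₀ harc
  -- the adapted coordinates
  set κ : α ≃ P2 := κ₀.trans (lift2 e) with hκdef
  have hκf : ∀ i, κ (f i) = f₀ i := by
    intro i
    rw [hκdef, Equiv.trans_apply, hκ₀f i]
    refine Fin.cases ?_ (fun k => ?_) i
    · rfl
    · rw [f₀_succ, lift2_ss, hefix]
  have hκx : κ x = x₀ := by
    rw [hκdef, Equiv.trans_apply, hκ₀x]
    rfl
  have hD₁ := isSteiner_mapSys κ hD
  have hD₁eq : mapSys κ D = mapSys (lift2 e) D₀ := mapSys_trans κ₀ (lift2 e) D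
  have hlines : ∀ l : Finset P, sh11 l ∈ mapSys κ D ↔ IsLine l := by
    intro l
    rw [hD₁eq]
    show (sh11 l).map (lift2 e).symm.toEmbedding ∈ D₀ ↔ IsLine l
    have h1 : (sh11 l).map (lift2 e).symm.toEmbedding = sh11 (l.map e.symm.toEmbedding) :=
      map_lift2_sh11 e.symm l
    rw [h1]
    have h2 : sh11 (l.map e.symm.toEmbedding) ∈ D₀ ↔
        l.map e.symm.toEmbedding ∈ derivedOpt (derivedOpt D₀) := Iff.rfl
    rw [h2, he, map_map_symm]
  have hblock : sh10 H0 ∈ mapSys κ D := frame_block hfD κ hκf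
  -- the class at the first extra point
  have hEA : IsSteinerSystem 3 6 (derivedOpt (mapSys κ D)) := isSteiner_derivedOpt hD₁
  obtain ⟨cA, hcA3, hcA⟩ := class_lemma hEA hlines
  have hcA0 : cA = 0 := cls_unique ((hcA H0).mp hblock) cls_H0
  subst hcA0
  -- the class at the second extra point
  have hEB : IsSteinerSystem 3 6 (derivedOpt (mapSys sw (mapSys κ D))) :=
    isSteiner_derivedOpt (isSteiner_mapSys sw hD₁)
  have hlinesB : ∀ l : Finset P, insertNone l ∈ derivedOpt (mapSys sw (mapSys κ D)) ↔ IsLine l := by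
    intro l
    rw [← hlines l, ← map_sw_sh11 l]
    rfl
  obtain ⟨cB, hcB3, hcB⟩ := class_lemma hEB hlinesB
  have hovB : ∀ Q : Finset P, sh01 Q ∈ mapSys κ D ↔ IsCls cB Q := by
    intro Q
    rw [← hcB Q, ← map_sw_sh10 Q]
    rfl
  have hcB0 : cB ≠ 0 := by
    rintro rfl
    have h1 : sh01 H0 ∈ mapSys κ D := (hovB H0).mpr cls_H0
    obtain ⟨T, hT, hT4⟩ := exists_subset_card_eq (s := H0) (n := 4) (by rw [cls_H0.card]; norm_num)
    obtain ⟨b, -, hu⟩ := hD₁.2 (sh00 T) (by rw [card_sh00, hT4])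
    have e1 := hu _ ⟨hblock, sh00_subset_iff.mpr (by simpa using hT)⟩
    have e2 := hu _ ⟨h1, sh00_subset_iff.mpr (by simpa using hT)⟩
    have : none ∈ sh01 H0 := by
      rw [e2, ← e1]
      exact none_mem_sh10 _
    exact none_notMem_sh01 _ this
  refine ⟨κ, hκf, hκx, cB, hD₁, hlines, hcA, hovB, ?_⟩
  omega

end Coord

end Cfsg.Agent.Helper4.S23Hub
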