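import Mathlib
import Cfsg.Agent.Helper4.S23Hub

/-!
# Coordinates on the Steiner system `S(5,8,24)`
-/

set_option autoImplicit false
set_option linter.unusedSectionVars false
set_option linter.unusedVariables false

namespace Cfsg.Agent.Helper4.S24Hub

open Finset Cfsg Function Cfsg.Agent.Helper4.SteinerOpt Cfsg.Agent.Helper4.Pg24
  Cfsg.Agent.Helper4.Plane4 Cfsg.Agent.Helper4.M11Rigid Cfsg.Agent.Helper4.S23Hub

/-- The 24-point set. -/
abbrev P3 := Option (Option (Option P))

theorem card_P3 : Fintype.card P3 = 24 := by simp [Fintype.card_option]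

section Generic

variable {γ δ : Type*} [DecidableEq γ] [DecidableEq δ]

theorem optionCongr_symm' (g : γ ≃ δ) :
    (Equiv.optionCongr g).symm = Equiv.optionCongr g.symm := rfl

theorem map_optionCongr_insertNone (g : γ ≃ δ) (l : Finset γ) :
    (insertNone l).map (Equiv.optionCongr g).toEmbedding = insertNone (l.map g.toEmbedding) := by
  ext o
  cases o <;> simp [mem_map_equiv, optionCongr_symm', -Equiv.optionCongr_symm]

theorem map_optionCongr_map_some (g : γ ≃ δ) (b : Finset γ) :
    (b.map Embedding.some).map (Equiv.optionCongr g).toEmbedding =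
      (b.map g.toEmbedding).map Embedding.some := by
  ext o
  cases o <;> simp [mem_map_equiv, optionCongr_symm', -Equiv.optionCongr_symm]

theorem derivedOpt_mapSys (g : γ ≃ δ) (D : Set (Finset (Option γ))) :
    derivedOpt (mapSys (Equiv.optionCongr g) D) = mapSys g (derivedOpt D) := by
  ext l
  show (insertNone l).map (Equiv.optionCongr g).symm.toEmbedding ∈ D ↔
    insertNone (l.map g.symm.toEmbedding) ∈ D
  rw [optionCongr_symm', map_optionCongr_insertNone]

theorem map_some_mem_mapSys (g : γ ≃ δ) (D : Set (Finset (Option γ))) (b : Finset δ) :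
    b.map Embedding.some ∈ mapSys (Equiv.optionCongr g) D ↔
      (b.map g.symm.toEmbedding).map Embedding.some ∈ D := by
  show (b.map Embedding.some).map (Equiv.optionCongr g).symm.toEmbedding ∈ D ↔ _
  rw [optionCongr_symm', map_optionCongr_map_some]

theorem optionCongr_refl' : Equiv.optionCongr (Equiv.refl γ) = Equiv.refl (Option γ) := by
  ext1 o
  cases o <;> rfl

/-- Cyclic exchange of the three extra points. -/
def rho : Option (Option (Option γ)) ≃ Option (Option (Option γ)) where
  toFun o := match o with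
    | none => some (some none)
    | some none => none
    | some (some none) => some none
    | some (some (some x)) => some (some (some x))
  invFun o := match o with
    | none => some none
    | some none => some (some none)
    | some (some none) => none
    | some (some (some x)) => some (some (some x))
  left_inv o := by rcases o with _ | _ | _ | x <;> rfl
  right_inv o := by rcases o with _ | _ | _ | x <;> rfl

theorem ext3 {b c : Finset (Option (Option (Option γ)))} (h0 : none ∈ b ↔ none ∈ c)
    (h1 : some none ∈ b ↔ some none ∈ c) (h2 : some (some none) ∈ b ↔ some (some none) ∈ c)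
    (h3 : ∀ x : γ, some (some (some x)) ∈ b ↔ some (some (some x)) ∈ c) : b = c := by
  ext o
  rcases o with _ | _ | _ | x
  · exact h0
  · exact h1
  · exact h2
  · exact h3 x

@[simp] theorem rho_none : (rho : Option (Option (Option γ)) ≃ _) none = some (some none) := rfl
@[simp] theorem rho_snone : (rho : Option (Option (Option γ)) ≃ _) (some none) = none := rfl
@[simp] theorem rho_ssnone :
    (rho : Option (Option (Option γ)) ≃ _) (some (some none)) = some none := rfl
@[simp] theorem rho_sss (x : γ) :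
    (rho : Option (Option (Option γ)) ≃ _) (some (some (some x))) = some (some (some x)) := rfl

theorem map_rho_symm_lines (l : Finset γ) :
    (insertNone (insertNone (insertNone l))).map (rho.symm).toEmbedding =
      insertNone (sh11 l) := by
  apply ext3 <;> simp [mem_map_equiv, sh11]

theorem map_rho_symm_oval (Q : Finset γ) :
    (insertNone (insertNone (Q.map Embedding.some))).map (rho.symm).toEmbedding =
      (sh11 Q).map Embedding.some := by
  apply ext3 <;> simp [mem_map_equiv, sh11]

end Generic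

/-- The standard frame. -/
def F₀ : Fin 8 → P3 := Fin.cons none (fun i => some (f₀ i))

/-- The extra point of the standard frame. -/
def X₀ : P3 := some x₀

theorem F₀_zero : F₀ 0 = none := rfl
theorem F₀_succ (i : Fin 7) : F₀ i.succ = some (f₀ i) := rfl

theorem image_F₀ : univ.image F₀ = insertNone (univ.image f₀) := by decide

/-- Coordinates: the derived design at the first extra point, and the class of hyperovals attached
to the other two. -/
structure IsHub24 (j : ℕ) (D : Set (Finset P3)) : Prop where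
  steiner : IsSteinerSystem 5 8 D
  hub : IsHub23 j (derivedOpt D)
  ovC : ∀ Q, (sh11 Q).map Embedding.some ∈ D ↔ IsCls (sig j) Q

theorem hub24_eq {j : ℕ} {D D' : Set (Finset P3)} (h : IsHub24 j D) (h' : IsHub24 j D') :
    D = D' := by
  have hs : sig j < 3 := by
    rcases sig_mem h.hub.jmem with h | h <;> omega
  obtain ⟨Q, hQ⟩ := exists_cls hs
  apply Cfsg.Agent.Helper4.SteinerExt.ext24 P3 card_P3 D D' h.steiner h'.steiner none _
    ((sh11 Q).map Embedding.some) ((h.ovC Q).mpr hQ) ((h'.ovC Q).mpr hQ)
    (none_notMem_map_some _)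
  intro b hb
  have heq := hub23_eq h.hub h'.hub
  rw [eq_insertNone_of_mem hb]
  show eraseNone b ∈ derivedOpt D ↔ eraseNone b ∈ derivedOpt D'
  rw [heq]

theorem hub24_twist {j : ℕ} {D : Set (Finset P3)} (h : IsHub24 j D) :
    IsHub24 (sig j) (mapSys (Equiv.optionCongr (lift2 g0)) D) where
  steiner := isSteiner_mapSys _ h.steiner
  hub := by
    rw [derivedOpt_mapSys]
    exact hub23_twist h.hub
  ovC Q := by
    rw [map_some_mem_mapSys]
    have h1 : (sh11 Q).map (lift2 g0).symm.toEmbedding = sh11 (Q.map g0.toEmbedding) :=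
      map_lift2_sh11 g0.symm Q
    rw [h1, h.ovC]
    refine ⟨fun hc => isCls_of_map_g0 hc, fun hc => ?_⟩
    have := hc.map_g0
    rwa [sig_sig (sig_mem h.hub.jmem)] at this

theorem hub24_class_unique {j j' : ℕ} {D : Set (Finset P3)} (h : IsHub24 j D)
    (h' : IsHub24 j' D) : j = j' :=
  hub23_class_unique h.hub h'.hub

theorem hub24_rigid {j₁ j₂ : ℕ} {D₁ D₂ : Set (Finset P3)} (h₁ : IsHub24 j₁ D₁)
    (h₂ : IsHub24 j₂ D₂) (h : P3 ≃ P3) (hD : mapSys h D₁ = D₂) (hf : ∀ i, h (F₀ i) = F₀ i)
    (hx : h X₀ = X₀) : h = Equiv.refl P3 := by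
  have e1 := optionCongr_removeNone h (hf 0)
  set h' : P2 ≃ P2 := Equiv.removeNone h with hh'
  rw [← e1] at hD hf hx ⊢
  have hD' : mapSys h' (derivedOpt D₁) = derivedOpt D₂ := by
    rw [← derivedOpt_mapSys, hD]
  have hf' : ∀ i, h' (f₀ i) = f₀ i := by
    intro i
    have := hf i.succ
    rw [F₀_succ] at this
    exact Option.some_injective _ this
  have hx' : h' x₀ = x₀ := Option.some_injective _ hx
  rw [hub23_rigid h₁.hub h₂.hub h' hD' hf' hx', optionCongr_refl']

section Coord

variable {α : Type*} [Fintype α] [DecidableEq α]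

theorem hub24_coord (hα : Fintype.card α = 24) {D : Set (Finset α)}
    (hD : IsSteinerSystem 5 8 D) (f : Fin 8 → α) (x : α) (hf : Injective f)
    (hfD : univ.image f ∈ D) (hx : x ∉ univ.image f) :
    ∃ κ : α ≃ P3, (∀ i, κ (f i) = F₀ i) ∧ κ x = X₀ ∧ ∃ j, IsHub24 j (mapSys κ D) := by
  have hy : Injective (Fin.cons x f : Fin 9 → α) := by
    rw [Fin.cons_injective_iff]
    refine ⟨fun ⟨i, hi⟩ => hx ?_, hf⟩
    rw [← hi]
    exact mem_image_of_mem _ (mem_univ _)
  have hy₀ : Injective (Fin.cons X₀ F₀ : Fin 9 → P3) := by decide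
  obtain ⟨κ₀, hκ₀⟩ := exists_equiv_extending ⟨_, hy⟩ ⟨_, hy₀⟩
    ⟨Fintype.equivOfCardEq (hα.trans card_P3.symm)⟩
  have hκ₀f : ∀ i, κ₀ (f i) = F₀ i := fun i => by
    have := hκ₀ i.succ
    simpa using this
  have hκ₀x : κ₀ x = X₀ := by
    have := hκ₀ 0
    simpa using this
  have hD₀ := isSteiner_mapSys κ₀ hD
  set D₀ := mapSys κ₀ D with hD₀def
  have hE : IsSteinerSystem 4 7 (derivedOpt D₀) := isSteiner_derivedOpt hD₀
  have hblock₀ : univ.image f₀ ∈ derivedOpt D₀ := by
    show insertNone (univ.image f₀) ∈ D₀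
    have : (univ.image f).map κ₀.toEmbedding = insertNone (univ.image f₀) := by
      rw [← image_F₀, Finset.map_eq_image, Finset.image_image]
      apply Finset.image_congr
      intro i _
      exact hκ₀f i
    rw [← this, map_mem_mapSys]
    exact hfD
  have hf₀inj : Injective f₀ := by decide
  have hx₀ : x₀ ∉ univ.image f₀ := by decide
  obtain ⟨κ₁, hκ₁f, hκ₁x, j, hj⟩ := hub23_coord card_P2 hE f₀ x₀ hf₀inj hblock₀ hx₀
  set κ : α ≃ P3 := κ₀.trans (Equiv.optionCongr κ₁) with hκdef
  have hκf : ∀ i, κ (f i) = F₀ i := by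
    intro i
    rw [hκdef, Equiv.trans_apply, hκ₀f i]
    refine Fin.cases ?_ (fun k => ?_) i
    · rfl
    · rw [F₀_succ]
      show some (κ₁ (f₀ k)) = some (f₀ k)
      rw [hκ₁f]
  have hκx : κ x = X₀ := by
    rw [hκdef, Equiv.trans_apply, hκ₀x]
    show some (κ₁ x₀) = some x₀
    rw [hκ₁x]
  have hD₁ := isSteiner_mapSys κ hD
  have hD₁eq : mapSys κ D = mapSys (Equiv.optionCongr κ₁) D₀ := mapSys_trans κ₀ _ D
  have hhub : IsHub23 j (derivedOpt (mapSys κ D)) := by
    rw [hD₁eq, derivedOpt_mapSys]
    exact hj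
  -- the third class
  have hEAB : IsSteinerSystem 3 6 (derivedOpt (derivedOpt (mapSys rho (mapSys κ D)))) :=
    isSteiner_derivedOpt (isSteiner_derivedOpt (isSteiner_mapSys rho hD₁))
  have hlinesAB : ∀ l : Finset P,
      insertNone l ∈ derivedOpt (derivedOpt (mapSys rho (mapSys κ D))) ↔ IsLine l := by
    intro l
    rw [← hhub.lines l]
    show (insertNone (insertNone (insertNone l))).map (rho.symm).toEmbedding ∈ mapSys κ D ↔
      insertNone (sh11 l) ∈ mapSys κ D
    rw [map_rho_symm_lines]
  obtain ⟨c, hc3, hc⟩ := class_lemma hEAB hlinesAB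
  have hovC : ∀ Q : Finset P, (sh11 Q).map Embedding.some ∈ mapSys κ D ↔ IsCls c Q := by
    intro Q
    rw [← hc Q, ← map_rho_symm_oval Q]
    rfl
  have hd_unique : ∀ {b b' : Finset P3} (T : Finset P), T.card = 5 → b ∈ mapSys κ D →
      b' ∈ mapSys κ D → (sh00 T).map Embedding.some ⊆ b → (sh00 T).map Embedding.some ⊆ b' →
      b = b' := by
    intro b b' T hT hb hb' h1 h2
    obtain ⟨b₀, -, hu⟩ := hD₁.2 ((sh00 T).map Embedding.some) (by rw [card_map, card_sh00, hT])
    rw [hu b ⟨hb, h1⟩, hu b' ⟨hb', h2⟩]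
  have hsub1 : ∀ {T Q : Finset P}, T ⊆ Q →
      (sh00 T).map Embedding.some ⊆ (sh11 Q).map Embedding.some := by
    intro T Q hTQ
    apply Finset.map_subset_map.mpr
    rw [sh00_subset_iff]
    simpa using hTQ
  have hc0 : c ≠ 0 := by
    rintro rfl
    have h1 : (sh11 H0).map Embedding.some ∈ mapSys κ D := (hovC H0).mpr cls_H0
    have h2 : insertNone (sh10 H0) ∈ mapSys κ D := (hhub.ovA H0).mpr cls_H0
    obtain ⟨T, hT, hT5⟩ := exists_subset_card_eq (s := H0) (n := 5) (by rw [cls_H0.card]; norm_num)
    have := hd_unique T hT5 h1 h2 (hsub1 hT) (by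
      intro o ho
      obtain ⟨o', ho', rfl⟩ := mem_map.mp ho
      rw [Embedding.some_apply, some_mem_insertNone]
      exact sh00_subset_iff.mpr (by simpa using hT) ho')
    have hn : none ∈ (sh11 H0).map Embedding.some := by
      rw [this]; exact none_mem_insertNone
    exact none_notMem_map_some _ hn
  have hcj : c ≠ j := by
    rintro rfl
    obtain ⟨Q, hQ⟩ := exists_cls hc3
    have h1 : (sh11 Q).map Embedding.some ∈ mapSys κ D := (hovC Q).mpr hQ
    have h2 : insertNone (sh01 Q) ∈ mapSys κ D := (hhub.ovB Q).mpr hQ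
    obtain ⟨T, hT, hT5⟩ := exists_subset_card_eq (s := Q) (n := 5) (by rw [hQ.card]; norm_num)
    have := hd_unique T hT5 h1 h2 (hsub1 hT) (by
      intro o ho
      obtain ⟨o', ho', rfl⟩ := mem_map.mp ho
      rw [Embedding.some_apply, some_mem_insertNone]
      exact sh00_subset_iff.mpr (by simpa using hT) ho')
    have hn : none ∈ (sh11 Q).map Embedding.some := by
      rw [this]; exact none_mem_insertNone
    exact none_notMem_map_some _ hn
  have hcs : c = sig j := by
    rcases hhub.jmem with rfl | rfl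
    · rw [sig_one]; omega
    · rw [sig_two]; omega
  refine ⟨κ, hκf, hκx, j, hD₁, hhub, ?_⟩
  rw [← hcs]
  exact hovC

end Coord

end Cfsg.Agent.Helper4.S24Hub
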