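import Mathlib
import Cfsg.Agent.Helper4.S24Hub
import Cfsg.Agent.Helper4.RigidFrame
import Cfsg.Agent.Helper4.M24Simple
import Cfsg.Agent.S0350
import Cfsg.Prelude.Def_Sporadic

/-!
# The Steiner system `S(5,8,24)`: uniqueness and automorphism group
-/

set_option autoImplicit false
set_option linter.unusedSectionVars false
set_option linter.unusedVariables false

namespace Cfsg.Agent.Helper4.S24Main

open Finset Cfsg Function Cfsg.Agent.Helper4.SteinerOpt Cfsg.Agent.Helper4.Pg24
  Cfsg.Agent.Helper4.S23Hub Cfsg.Agent.Helper4.S24Hub Cfsg.Agent.Helper4.RigidFrame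

/-- The coordinate package for `S(5,8,24)`. -/
def pk24 : Pkg P3 8 where
  Hub := IsHub24
  f₀ := F₀
  x₀ := X₀
  g₀ := Equiv.optionCongr (lift2 g0)
  τ := Equiv.swap 6 7
  sg := sig
  eq := fun j D D' => hub24_eq
  twist := fun j D => hub24_twist
  sg_ne := fun j D h => sig_ne h.hub.jmem
  two := fun j j' D D' h h' => by
    rcases h.hub.jmem with rfl | rfl <;> rcases h'.hub.jmem with rfl | rfl
    · exact Or.inl rfl
    · exact Or.inr rfl
    · exact Or.inr rfl
    · exact Or.inl rfl
  cls_unique := fun j j' D => hub24_class_unique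
  rigid := fun j₁ j₂ D₁ D₂ h₁ h₂ h => hub24_rigid h₁ h₂ h
  g₀f := by decide
  g₀x := rfl
  ττ := by decide

section Main

variable {α β : Type*} [Fintype α] [DecidableEq α] [Fintype β] [DecidableEq β]

theorem hasCoord24 (hα : Fintype.card α = 24) {D : Set (Finset α)}
    (hD : IsSteinerSystem 5 8 D) : HasCoord pk24 D := by
  intro f x hF
  exact hub24_coord hα hD f x hF.1 hF.2.1 hF.2.2

theorem exists_frame24 (hα : Fintype.card α = 24) {D : Set (Finset α)}
    (hD : IsSteinerSystem 5 8 D) : ∃ (f : Fin 8 → α) (x : α), IsFrame D f x := by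
  have hne : Nonempty (Fin 5 ↪ α) := by
    rw [Function.Embedding.nonempty_iff_card_le, Fintype.card_fin, hα]
    norm_num
  obtain ⟨x⟩ := hne
  obtain ⟨f, hF, -⟩ := exists_frame (n := 4) hD (by norm_num) (by rw [hα]; norm_num) x
  exact ⟨f, _, hF⟩

theorem s24_iso (hα : Fintype.card α = 24) (hβ : Fintype.card β = 24) {B : Set (Finset α)}
    {B' : Set (Finset β)} (hB : IsSteinerSystem 5 8 B) (hB' : IsSteinerSystem 5 8 B') :
    SetSystemIso B B' := by
  obtain ⟨f, x, hF⟩ := exists_frame24 hα hB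
  obtain ⟨f', x', hF'⟩ := exists_frame24 hβ hB'
  obtain ⟨e, he, -, -⟩ := exists_iso pk24 (hasCoord24 hα hB) (hasCoord24 hβ hB') hF hF'
  exact setSystemIso_of_iff e he

theorem s24_trans (hα : Fintype.card α = 24) {B : Set (Finset α)}
    (hB : IsSteinerSystem 5 8 B) : MulAction.IsMultiplyPretransitive (setSystemAut B) α 5 :=
  pretransitive pk24 (n := 4) (hasCoord24 hα hB) hB (by norm_num) (by rw [hα]; norm_num)
    (by intro i; fin_cases i <;> rfl)

theorem s24_card (hα : Fintype.card α = 24) {B : Set (Finset α)}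
    (hB : IsSteinerSystem 5 8 B) : Nat.card (setSystemAut B) = 244823040 := by
  obtain ⟨f, x, hF⟩ := exists_frame24 hα hB
  have h1 := two_mul_card_aut pk24 (hasCoord24 hα hB) hF hB.1
  have h2 := Cfsg.Agent.S0350.result hB
  rw [hα] at h1 h2
  have h3 : Nat.choose 8 5 = 56 := by decide
  have h4 : Nat.choose 24 5 = 42504 := by decide
  have h5 : Nat.factorial 8 = 40320 := by decide
  rw [h3, h4] at h2
  rw [h5] at h1
  omega

theorem s24_aut (hα : Fintype.card α = 24) {B : Set (Finset α)}
    (hB : IsSteinerSystem 5 8 B) :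
    IsM24 (setSystemAut B) ∧ MulAction.IsMultiplyPretransitive (setSystemAut B) α 5 := by
  have h5 := s24_trans hα hB
  have hc := s24_card hα hB
  have hcardα : Nat.card α = 24 := by rw [Nat.card_eq_fintype_card, hα]
  have h4 : MulAction.IsMultiplyPretransitive (setSystemAut B) α 4 :=
    MulAction.isMultiplyPretransitive_of_le (n := 5) (by norm_num) (by rw [hcardα]; norm_num)
  exact ⟨⟨Cfsg.Agent.Helper4.M24Simple.simple_24 hα h4 hc, hc⟩, h5⟩

end Main

end Cfsg.Agent.Helper4.S24Main
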