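import Mathlib
import Cfsg.Agent.Helper4.GolayUnique
import Cfsg.Agent.Helper4.S24Main
import Cfsg.Agent.Helper27.GolayFacts
import Cfsg.Agent.S0358
import Cfsg.Agent.S0363

/-!
# Uniqueness of the binary Golay code
-/

set_option autoImplicit false
set_option linter.unusedSectionVars false
set_option linter.unusedVariables false

namespace Cfsg.Agent.Helper4.GolayUnique

open Finset Cfsg Cfsg.Agent.Helper27

/-- xor of a list of masks -/
def xorL : List ℕ → ℕ
  | [] => 0
  | a :: l => a ^^^ xorL l

theorem decW_xorL_mem (S : Submodule (ZMod 2) (GolayPt → ZMod 2)) (l : List ℕ)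
    (h : ∀ o ∈ l, decW o ∈ S) : decW (xorL l) ∈ S := by
  induction l with
  | nil => simp only [xorL, decW_zero]; exact S.zero_mem
  | cons a l ih =>
    simp only [xorL, decW_xor]
    exact S.add_mem (h a (by simp)) (ih (fun o ho => h o (by simp [ho])))

/-- Each generator of the code as a sum of words of weight 8. -/
def decompL : List (List ℕ) :=
  [[3416079, 3216208],
   [421910, 792232],
   [843820, 1584464],
   [2207772, 535268],
   [10170384, 13108704],
   [11952160, 9440193],
   [4845570, 337856],
   [1302533, 675712],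
   [2605066, 1351424],
   [13938692, 11669008],
   [13062145, 9055272],
   [4845570, 5441617],
   [4845570, 8126628],
   [4845570, 2232654],
   [13062145, 9474712],
   [9347075, 10560816],
   [10305542, 12733024],
   [5902343, 6554826],
   [7221256, 1186194],
   [5902343, 2245426],
   [14716939, 9451104],
   [12656663, 10513600],
   [5902343, 1608104],
   [13062145, 1613974, 2101096]]

theorem decomp_gens : ∀ g ∈ gensL, ∃ l ∈ decompL, xorL l = g := by decide +kernel

theorem decomp_octads : ∀ l ∈ decompL, ∀ o ∈ l, o < 2 ^ 24 ∧ cw (o % 4096) = o ∧ popc 24 o = 8 := by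
  decide +kernel

theorem golayPt_card' : Fintype.card GolayPt = 24 := by
  simp [GolayPt, Fintype.card_option, ZMod.card]

theorem golay_unique (C : Submodule (ZMod 2) (Fin 24 → ZMod 2))
    (hdim : Module.finrank (ZMod 2) C = 12) (h4 : ∀ w ∈ C, 4 ∣ hammingNorm w)
    (hno4 : ∀ w ∈ C, hammingNorm w ≠ 4) :
    ∃ e : Fin 24 ≃ GolayPt, ∀ w : GolayPt → ZMod 2, w ∈ golayCode ↔ (fun i => w (e i)) ∈ C := by
  have hS := octs_steiner C hdim h4 hno4
  obtain ⟨e, he⟩ := Cfsg.Agent.Helper4.S24Main.s24_iso (Fintype.card_fin 24) golayPt_card' hS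
    Cfsg.Agent.S0363.result
  refine ⟨e, ?_⟩
  set L : (GolayPt → ZMod 2) ≃ₗ[ZMod 2] (Fin 24 → ZMod 2) :=
    LinearEquiv.funCongrLeft (ZMod 2) (ZMod 2) e with hL
  have hLapp : ∀ w, L w = fun i => w (e i) := fun w => rfl
  set C' : Submodule (ZMod 2) (GolayPt → ZMod 2) := C.map L.symm.toLinearMap with hC'
  have hmem : ∀ w, w ∈ C' ↔ (fun i => w (e i)) ∈ C := by
    intro w
    rw [hC', Submodule.mem_map]
    constructor
    · rintro ⟨u, hu, rfl⟩
      have : (fun i => (L.symm u) (e i)) = u := by
        rw [← hLapp]; exact L.apply_symm_apply u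
      rw [LinearEquiv.coe_toLinearMap, this]
      exact hu
    · intro hw
      refine ⟨L w, hw, ?_⟩
      exact L.symm_apply_apply w
  have hfr : Module.finrank (ZMod 2) C' = 12 := by
    rw [hC']
    have := LinearEquiv.finrank_map_eq L.symm C
    rw [← hdim]
    exact this
  -- words of weight 8
  have key : ∀ v ∈ golayCode, hammingNorm v = 8 → v ∈ C' := by
    intro v hv hv8
    have ho : support₂ v ∈ octads := ⟨⟨v, hv, rfl⟩, hv8⟩
    rw [← he] at ho
    obtain ⟨b, hb, hbe⟩ := ho
    rw [hmem]
    have : (fun i => v (e i)) = ind b := by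
      funext i
      have h1 : i ∈ b ↔ v (e i) ≠ 0 := by
        have h2 : e i ∈ b.image e ↔ i ∈ b := by
          rw [mem_image]
          constructor
          · rintro ⟨i', hi', hie⟩
            rw [← e.injective hie]; exact hi'
          · intro hi
            exact ⟨i, hi, rfl⟩
        rw [← h2]
        have h3 : b.image e = support₂ v := hbe
        rw [h3, support₂, mem_filter]
        simp
      rw [ind]
      by_cases hi : i ∈ b
      · rw [if_pos hi]
        rcases zmod2_cases (v (e i)) with h0 | h1'
        · exact absurd h0 (h1.mp hi)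
        · exact h1'
      · rw [if_neg hi]
        by_contra hne
        exact hi (h1.mpr hne)
    rw [this]
    exact hb.1
  have hle : golayCode ≤ C' := by
    unfold golayCode
    rw [Submodule.span_le]
    intro g hg
    obtain ⟨a, ha, rfl⟩ := gen_cases hg
    obtain ⟨l, hl, rfl⟩ := decomp_gens a ha
    apply decW_xorL_mem
    intro o ho
    obtain ⟨h1, h2, h3⟩ := decomp_octads l hl o ho
    apply key
    · exact (decW_mem_iff h1).mpr h2
    · rw [hammingNorm_decW, h3]
  have heq : golayCode = C' := by
    apply Submodule.eq_of_le_of_finrank_eq hle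
    rw [hfr]
    exact Cfsg.Agent.S0358.result
  intro w
  rw [heq, hmem]

end Cfsg.Agent.Helper4.GolayUnique
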