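import Mathlib
import Cfsg.Agent.Helper29.PqDefs
import Cfsg.Agent.Helper1.PqB0

/-!
# FrobPQ toolkit (FQ) for S4306
-/

set_option autoImplicit false
set_option linter.style.haveILetI false
set_option linter.unusedSectionVars false

namespace Cfsg.Agent.Helper4.PqFQ

open Cfsg.Agent.Helper29.Pq

variable {A : Type*} [Group A] {f η : A} {ℓ h : ℕ}

/-- The group is finite. -/
theorem finite_of_frobPQ (hA : FrobPQ A f η ℓ h) : Finite A := by
  haveI : Finite (Subgroup.zpowers f) :=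
    (finite_zpowers.mpr (isOfFinOrder_iff_pow_eq_one.mpr ⟨ℓ, hA.hℓ.pos, hA.f_pow⟩)).to_subtype
  haveI : Finite (Subgroup.zpowers η) :=
    (finite_zpowers.mpr (isOfFinOrder_iff_pow_eq_one.mpr ⟨h, hA.hh.pos, hA.η_pow⟩)).to_subtype
  apply Finite.of_surjective
    (fun p : Subgroup.zpowers f × Subgroup.zpowers η => (p.1 : A) * (p.2 : A))
  intro x
  obtain ⟨u, hu, v, hv, rfl⟩ := hA.gen x
  exact ⟨(⟨u, hu⟩, ⟨v, hv⟩), rfl⟩

/-- (FQ1) `⟨f⟩` is normal. -/
theorem conj_f_mem (hA : FrobPQ A f η ℓ h) (a : A) {b : A} (hb : b ∈ Subgroup.zpowers f) :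
    a * b * a⁻¹ ∈ Subgroup.zpowers f := by
  haveI := finite_of_frobPQ hA
  exact (Cfsg.Agent.Helper1.PqB.normal_zpowers_f hA).conj_mem b hb a

/-- a nontrivial element of a cyclic group of prime order generates it -/
theorem mem_zpowers_of_prime {g b : A} {r : ℕ} (hr : r.Prime) (hg : orderOf g = r)
    (hb : b ∈ Subgroup.zpowers g) (hb1 : b ≠ 1) : g ∈ Subgroup.zpowers b := by
  have hprime : (Nat.card (Subgroup.zpowers g)).Prime := by
    rw [Nat.card_zpowers, hg]; exact hr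
  haveI : Fact (Nat.card (Subgroup.zpowers g)).Prime := ⟨hprime⟩
  have h1 : Subgroup.zpowers (⟨b, hb⟩ : Subgroup.zpowers g) = ⊤ := by
    apply zpowers_eq_top_of_prime_card rfl
    intro h0
    exact hb1 (congrArg Subtype.val h0)
  have h2 : (⟨g, Subgroup.mem_zpowers g⟩ : Subgroup.zpowers g) ∈
      Subgroup.zpowers (⟨b, hb⟩ : Subgroup.zpowers g) := by rw [h1]; trivial
  obtain ⟨k, hk⟩ := Subgroup.mem_zpowers_iff.mp h2
  rw [Subgroup.mem_zpowers_iff]
  refine ⟨k, ?_⟩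
  have := congrArg Subtype.val hk
  rwa [Subgroup.coe_zpow] at this

/-- (FQ2) a nontrivial element of `⟨f⟩` generates it. -/
theorem f_mem_zpowers (hA : FrobPQ A f η ℓ h) {b : A} (hb : b ∈ Subgroup.zpowers f) (hb1 : b ≠ 1) :
    f ∈ Subgroup.zpowers b :=
  mem_zpowers_of_prime hA.hℓ (Cfsg.Agent.Helper1.PqB.orderOf_f hA) hb hb1

/-- (FQ3) a nontrivial element of `⟨η⟩` generates it. -/
theorem η_mem_zpowers (hA : FrobPQ A f η ℓ h) {b : A} (hb : b ∈ Subgroup.zpowers η) (hb1 : b ≠ 1) :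
    η ∈ Subgroup.zpowers b :=
  mem_zpowers_of_prime hA.hh (Cfsg.Agent.Helper1.PqB.orderOf_η hA) hb hb1

/-- (FQ6) no nontrivial element of `⟨f⟩` commutes with an element outside `⟨f⟩`. -/
theorem eq_one_of_comm (hA : FrobPQ A f η ℓ h) {a b : A} (ha : a ∉ Subgroup.zpowers f)
    (hb : b ∈ Subgroup.zpowers f) (hab : a * b = b * a) : b = 1 :=
  Cfsg.Agent.Helper1.PqB.not_commute hA a ha b hb hab

/-- `η` is not in `⟨f⟩`. -/
theorem η_not_mem (hA : FrobPQ A f η ℓ h) : η ∉ Subgroup.zpowers f := by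
  intro hη
  apply hA.ncomm
  obtain ⟨k, hk⟩ := Subgroup.mem_zpowers_iff.mp hη
  have hc : Commute η f := by
    rw [← hk]
    exact (Commute.refl f).zpow_left k
  rw [hc.eq, mul_inv_cancel_right]

/-- a nontrivial element of `⟨η⟩` is not in `⟨f⟩`. -/
theorem not_mem_of_mem_η (hA : FrobPQ A f η ℓ h) {v : A} (hv : v ∈ Subgroup.zpowers η)
    (hv1 : v ≠ 1) : v ∉ Subgroup.zpowers f := by
  intro hvf
  have h1 := η_mem_zpowers hA hv hv1
  have h2 : Subgroup.zpowers v ≤ Subgroup.zpowers f := by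
    rw [Subgroup.zpowers_le]; exact hvf
  exact η_not_mem hA (h2 h1)

/-- (FQ4) an element outside `⟨f⟩` generates a conjugate of `⟨η⟩` (conjugating element in
`⟨f⟩`). -/
theorem exists_conj_η (hA : FrobPQ A f η ℓ h) {a : A} (ha : a ∉ Subgroup.zpowers f) :
    ∃ b ∈ Subgroup.zpowers f, b * η * b⁻¹ ∈ Subgroup.zpowers a := by
  haveI := finite_of_frobPQ hA
  obtain ⟨u, hu, v, hv, rfl⟩ := hA.gen a
  have hv1 : v ≠ 1 := by
    intro hv1
    apply ha
    rw [hv1, mul_one]
    exact hu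
  have hvf : v ∉ Subgroup.zpowers f := not_mem_of_mem_η hA hv hv1
  -- the commutator map on `⟨f⟩`
  let φ : Subgroup.zpowers f → Subgroup.zpowers f := fun b =>
    ⟨(b : A) * v * (b : A)⁻¹ * v⁻¹, by
      have h1 : v * (b : A)⁻¹ * v⁻¹ ∈ Subgroup.zpowers f := conj_f_mem hA v (inv_mem b.2)
      have : (b : A) * v * (b : A)⁻¹ * v⁻¹ = (b : A) * (v * (b : A)⁻¹ * v⁻¹) := by group
      rw [this]
      exact mul_mem b.2 h1⟩
  have hφ : Function.Injective φ := by
    intro b b' hbb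
    have h1 : (b : A) * v * (b : A)⁻¹ * v⁻¹ = (b' : A) * v * (b' : A)⁻¹ * v⁻¹ :=
      congrArg Subtype.val hbb
    have h2 : (b : A) * v * (b : A)⁻¹ = (b' : A) * v * (b' : A)⁻¹ := mul_right_cancel h1
    have h3 : v * ((b' : A)⁻¹ * (b : A)) = ((b' : A)⁻¹ * (b : A)) * v := by
      have : (b' : A)⁻¹ * ((b : A) * v * (b : A)⁻¹) * (b : A) =
          (b' : A)⁻¹ * ((b' : A) * v * (b' : A)⁻¹) * (b : A) := by rw [h2]
      calc v * ((b' : A)⁻¹ * (b : A)) = (b' : A)⁻¹ * ((b' : A) * v * (b' : A)⁻¹) * (b : A) := by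
            group
        _ = (b' : A)⁻¹ * ((b : A) * v * (b : A)⁻¹) * (b : A) := this.symm
        _ = ((b' : A)⁻¹ * (b : A)) * v := by group
    have h4 := eq_one_of_comm hA hvf (mul_mem (inv_mem b'.2) b.2) h3
    apply Subtype.ext
    have : (b : A) = (b' : A) * ((b' : A)⁻¹ * (b : A)) := by group
    rw [this, h4, mul_one]
  have hsurj : Function.Surjective φ := Finite.surjective_of_injective hφ
  obtain ⟨b, hb⟩ := hsurj ⟨u, hu⟩
  have hb' : (b : A) * v * (b : A)⁻¹ * v⁻¹ = u := congrArg Subtype.val hb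
  refine ⟨b, b.2, ?_⟩
  have hη := η_mem_zpowers hA hv hv1
  obtain ⟨k, hk⟩ := Subgroup.mem_zpowers_iff.mp hη
  rw [Subgroup.mem_zpowers_iff]
  refine ⟨k, ?_⟩
  have huv : u * v = (b : A) * v * (b : A)⁻¹ := by
    rw [← hb']; group
  rw [huv, ← hk, conj_zpow]

/-- (FQ5) `h ∣ ℓ - 1`. -/
theorem h_dvd (hA : FrobPQ A f η ℓ h) : h ∣ ℓ - 1 := by
  classical
  haveI := finite_of_frobPQ hA
  haveI : Fintype (Subgroup.zpowers f) := Fintype.ofFinite _
  haveI : Fact h.Prime := ⟨hA.hh⟩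
  let σ : Equiv.Perm (Subgroup.zpowers f) :=
    { toFun := fun b => ⟨η * (b : A) * η⁻¹, conj_f_mem hA η b.2⟩
      invFun := fun b => ⟨η⁻¹ * (b : A) * η, by
        have := conj_f_mem hA η⁻¹ b.2
        rwa [inv_inv] at this⟩
      left_inv := fun b => by
        apply Subtype.ext
        show η⁻¹ * (η * (b : A) * η⁻¹) * η = b
        group
      right_inv := fun b => by
        apply Subtype.ext
        show η * (η⁻¹ * (b : A) * η) * η⁻¹ = b
        group }
  have hσpow : ∀ n : ℕ, ∀ b : Subgroup.zpowers f, ((σ ^ n) b : A) = η ^ n * (b : A) * (η ^ n)⁻¹ := by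
    intro n
    induction n with
    | zero => intro b; simp
    | succ n ih =>
      intro b
      rw [pow_succ', Equiv.Perm.mul_apply]
      show η * ((σ ^ n) b : A) * η⁻¹ = _
      rw [ih b, pow_succ']
      group
  have hσh : σ ^ h ^ 1 = 1 := by
    rw [pow_one]
    ext b
    rw [hσpow h b, hA.η_pow]
    simp
  have hmod := Equiv.Perm.card_compl_support_modEq hσh
  have hsupp : σ.supportᶜ = {1} := by
    ext b
    rw [Finset.mem_compl, Equiv.Perm.mem_support, not_not, Finset.mem_singleton]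
    constructor
    · intro hb
      have h1 : η * (b : A) * η⁻¹ = b := congrArg Subtype.val hb
      have h2 : η * (b : A) = (b : A) * η := by
        have : η * (b : A) = (η * (b : A) * η⁻¹) * η := by group
        rw [this, h1]
      exact Subtype.ext (eq_one_of_comm hA (η_not_mem hA) b.2 h2)
    · intro hb
      rw [hb]
      apply Subtype.ext
      show η * ((1 : Subgroup.zpowers f) : A) * η⁻¹ = ((1 : Subgroup.zpowers f) : A)
      simp
  rw [hsupp, Finset.card_singleton, ← Nat.card_eq_fintype_card,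
    Cfsg.Agent.Helper1.PqB.card_zpowers_f hA] at hmod
  exact (Nat.modEq_iff_dvd' hA.hℓ.one_lt.le).mp hmod

/-- (FQ7) a subgroup containing `f` and `η` is everything. -/
theorem eq_top_of_mem (hA : FrobPQ A f η ℓ h) (B : Subgroup A) (hf : f ∈ B) (hη : η ∈ B) :
    B = ⊤ := by
  rw [eq_top_iff]
  intro x _
  obtain ⟨u, hu, v, hv, rfl⟩ := hA.gen x
  have h1 : Subgroup.zpowers f ≤ B := by rw [Subgroup.zpowers_le]; exact hf
  have h2 : Subgroup.zpowers η ≤ B := by rw [Subgroup.zpowers_le]; exact hη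
  exact mul_mem (h1 hu) (h2 hv)

end Cfsg.Agent.Helper4.PqFQ
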