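import Mathlib
import Cfsg.Agent.Helper9.WardA

/-!
# A Frobenius pair acting coprimely and nontrivially has fixed points (tool (FP) of S4306)
-/

set_option autoImplicit false
set_option linter.style.haveILetI false
set_option linter.unusedSectionVars false

namespace Cfsg.Agent.Helper4.PqFP

open Subgroup

theorem le_normalizer_of_conj_mem {X : Type*} [Group X] (K H : Subgroup X)
    (h : ∀ g ∈ K, ∀ x ∈ H, g * x * g⁻¹ ∈ H) : K ≤ normalizer (H : Set X) := by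
  intro g hg
  rw [Subgroup.mem_normalizer_iff]
  intro x
  constructor
  · exact h g hg x
  · intro hx
    have := h g⁻¹ (inv_mem hg) _ hx
    have e : g⁻¹ * (g * x * g⁻¹) * g⁻¹⁻¹ = x := by group
    rwa [e] at this

/-- (FP) a Frobenius pair `(Q/Q0, R0)` acting coprimely and nontrivially on `S`: `C_S(R0) ≠ 1`. -/
theorem frob_pair_fix {Γ : Type*} [Group Γ] [Finite Γ] (S Q Q0 R0 : Subgroup Γ) [S.Normal]
    [Q0.Normal] (hSsolv : Group.IsSolvable ↥S)
    (hQ0 : ∀ x, x ∈ Q0 ↔ x ∈ Q ∧ ∀ u ∈ S, x * u = u * x)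
    (hR0Q : ∀ e ∈ R0, ∀ x ∈ Q, e * x * e⁻¹ ∈ Q)
    (hcopS : (Nat.card S).Coprime (Nat.card Q * Nat.card R0))
    (hcopQ : (Nat.card Q).Coprime (Nat.card R0))
    (hfpf : ∀ e ∈ R0, e ≠ 1 → ∀ x ∈ Q, e * x * e⁻¹ * x⁻¹ ∈ Q0 → x ∈ Q0)
    (hQS : Q0 ≠ Q) :
    ∃ u ∈ S, u ≠ 1 ∧ ∀ e ∈ R0, e * u * e⁻¹ = u := by
  have hQ0Q : Q0 ≤ Q := fun x hx => ((hQ0 x).mp hx).1
  have hcopSQ : (Nat.card S).Coprime (Nat.card Q) := Nat.Coprime.coprime_mul_right_right hcopS
  have hcopSQ0 : (Nat.card S).Coprime (Nat.card Q0) :=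
    Nat.Coprime.coprime_dvd_right (Subgroup.card_dvd_of_le hQ0Q) hcopSQ
  have hSQ0 : ∀ x, x ∈ S → x ∈ Q0 → x = 1 := by
    intro x hxS hxQ0
    have hdisj := Subgroup.disjoint_of_coprime_natCard hcopSQ0
    have : x ∈ S ⊓ Q0 := ⟨hxS, hxQ0⟩
    rw [hdisj.eq_bot] at this
    exact this
  -- pass to the quotient
  let mk := QuotientGroup.mk' Q0
  have hmk1 : ∀ x : Γ, mk x = 1 ↔ x ∈ Q0 := fun x => QuotientGroup.eq_one_iff x
  set N : Subgroup (Γ ⧸ Q0) := S.map mk with hN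
  set T0 : Subgroup (Γ ⧸ Q0) := Q.map mk with hT0
  set R : Subgroup (Γ ⧸ Q0) := R0.map mk with hR
  have hNsolv : Group.IsSolvable ↥N := by
    have hsurj : Function.Surjective (mk.subgroupMap S) := MonoidHom.subgroupMap_surjective mk S
    exact solvable_of_surjective hsurj
  have hTn : R ≤ normalizer (T0 : Set (Γ ⧸ Q0)) := by
    apply le_normalizer_of_conj_mem
    intro g hg y hy
    obtain ⟨e, he, rfl⟩ := Subgroup.mem_map.mp hg
    obtain ⟨x, hx, rfl⟩ := Subgroup.mem_map.mp hy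
    refine Subgroup.mem_map.mpr ⟨e * x * e⁻¹, hR0Q e he x hx, ?_⟩
    simp only [map_mul, map_inv]
  have hfpf' : ∀ e ∈ R, e ≠ 1 → ∀ u ∈ T0, e * u = u * e → u = 1 := by
    intro g hg hg1 y hy hcomm
    obtain ⟨e, he, rfl⟩ := Subgroup.mem_map.mp hg
    obtain ⟨x, hx, rfl⟩ := Subgroup.mem_map.mp hy
    have he1 : e ≠ 1 := by
      intro h
      apply hg1
      rw [h, map_one]
    rw [hmk1]
    apply hfpf e he he1 x hx
    rw [← hmk1]
    simp only [map_mul, map_inv]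
    rw [hcomm]
    group
  have hNn : N.Normal := by
    rw [hN]
    exact Subgroup.Normal.map inferInstance mk (QuotientGroup.mk'_surjective Q0)
  have hNnorm : T0 ⊔ R ≤ normalizer (N : Set (Γ ⧸ Q0)) := by
    rw [Subgroup.normalizer_eq_top]
    exact le_top
  have hcop : (Nat.card N).Coprime (Nat.card ↥(T0 ⊔ R)) := by
    have h1 : Nat.card N ∣ Nat.card S := Subgroup.card_map_dvd S mk
    have h2 : Nat.card ↥(T0 ⊔ R) ∣ Nat.card Q * Nat.card R0 := by
      have h3 : Nat.card ↥(R ⊔ T0) ∣ Nat.card R * Nat.card T0 :=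
        Cfsg.Agent.Helper9.Ward.card_sup_dvd_mul hTn
      rw [sup_comm] at h3
      refine h3.trans ?_
      rw [mul_comm]
      exact Nat.mul_dvd_mul (Subgroup.card_map_dvd Q mk) (Subgroup.card_map_dvd R0 mk)
    exact Nat.Coprime.coprime_dvd_left h1 (Nat.Coprime.coprime_dvd_right h2 hcopS)
  have hT0N : ¬ N ≤ centralizer (T0 : Set (Γ ⧸ Q0)) := by
    intro hle
    -- pick `x ∈ Q ∖ Q0`
    have hex : ∃ x ∈ Q, x ∉ Q0 := by
      by_contra hcon
      push Not at hcon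
      exact hQS (le_antisymm hQ0Q hcon)
    obtain ⟨x, hxQ, hxQ0⟩ := hex
    apply hxQ0
    rw [hQ0]
    refine ⟨hxQ, ?_⟩
    intro u hu
    have h1 : mk u ∈ centralizer (T0 : Set (Γ ⧸ Q0)) := hle (Subgroup.mem_map_of_mem mk hu)
    rw [Subgroup.mem_centralizer_iff] at h1
    have h2 := h1 (mk x) (Subgroup.mem_map_of_mem mk hxQ)
    -- `x u x⁻¹ u⁻¹ ∈ S ⊓ Q0`
    have h3 : x * u * x⁻¹ * u⁻¹ ∈ Q0 := by
      rw [← hmk1]
      simp only [map_mul, map_inv]
      rw [h2]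
      group
    have h4 : x * u * x⁻¹ * u⁻¹ ∈ S :=
      mul_mem (Subgroup.Normal.conj_mem inferInstance u hu x) (inv_mem hu)
    have h5 := hSQ0 _ h4 h3
    have : x * u = (x * u * x⁻¹ * u⁻¹) * (u * x) := by group
    rw [this, h5, one_mul]
  have hne := Cfsg.Agent.Helper9.Ward.fix_ne_bot' hNsolv hTn hfpf' hNnorm hcop hT0N
  obtain ⟨n, hn1⟩ := (Subgroup.ne_bot_iff_exists_ne_one).mp hne
  obtain ⟨hnN, hnC⟩ := Subgroup.mem_inf.mp n.2
  obtain ⟨u, hu, hun⟩ := Subgroup.mem_map.mp hnN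
  refine ⟨u, hu, ?_, ?_⟩
  · intro h
    apply hn1
    apply Subtype.ext
    rw [← hun, h, map_one]
    rfl
  · intro e he
    rw [Subgroup.mem_centralizer_iff] at hnC
    have h2 := hnC (mk e) (Subgroup.mem_map_of_mem mk he)
    rw [← hun] at h2
    have h3 : e * u * e⁻¹ * u⁻¹ ∈ Q0 := by
      rw [← hmk1]
      simp only [map_mul, map_inv]
      rw [h2]
      group
    have h4 : e * u * e⁻¹ * u⁻¹ ∈ S :=
      mul_mem (Subgroup.Normal.conj_mem inferInstance u hu e) (inv_mem hu)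
    have h5 := hSQ0 _ h4 h3
    have : e * u * e⁻¹ = (e * u * e⁻¹ * u⁻¹) * u := by group
    rw [this, h5, one_mul]

end Cfsg.Agent.Helper4.PqFP
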