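import Cfsg.Agent.Helper27.S0745Defs

/-! Board `s0745pieces`, row HOMF (helper4): elementwise form of `j`-homogeneity. -/

set_option autoImplicit false

namespace Cfsg.Agent.S0745P

open Equiv
open scoped Pointwise

variable {α : Type*} [Fintype α] [DecidableEq α]

/-- HOMF -/
theorem hom_elt (G : Subgroup (Perm α)) (j : ℕ)
    (h : MulAction.IsPretransitive G (Set.powersetCard α j)) :
    ∀ s s' : Finset α, s.card = j → s'.card = j → ∃ g ∈ G, ∀ x, g x ∈ s' ↔ x ∈ s := by
  intro s s' hs hs'
  obtain ⟨g, hg⟩ := h.exists_smul_eq (⟨s, hs⟩ : Set.powersetCard α j) ⟨s', hs'⟩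
  refine ⟨g.1, g.2, ?_⟩
  have h1 : (g : Perm α) • s = s' := by
    have := congrArg (fun t : Set.powersetCard α j => (t : Finset α)) hg
    simp only [Set.powersetCard.coe_smul] at this
    exact this
  intro x
  rw [← h1]
  constructor
  · intro hx
    obtain ⟨y, hy, hxy⟩ := Finset.mem_smul_finset.1 hx
    have : y = x := (g : Perm α).injective (by simpa [Perm.smul_def] using hxy)
    rwa [← this]
  · intro hx
    exact Finset.mem_smul_finset.2 ⟨x, hx, rfl⟩

end Cfsg.Agent.S0745P
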