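import Mathlib
import Cfsg.Agent.Helper27.Suz2Defs
import Cfsg.Agent.Helper19.Suz2S6IH
import Cfsg.Agent.Helper27.SUZ2F6
import Cfsg.Agent.Helper18.Suz2EXM
import Cfsg.Agent.Helper20.SUZ2F5

/-! # SUZ2 piece S6: case H' of the blueprint (section 6, second half). -/

set_option autoImplicit false

namespace Cfsg.Agent.SUZ2P

open Cfsg.Agent.Helper17.Suz2 Cfsg.Agent.SUZ2P

universe u v

variable {K : Type v} {P : Type u} [Group K] [Group P] [MulDistribMulAction K P]

theorem caseH (h : MinCE K P) (hH' : ∀ x : P, x * x ∈ Om P → x ∈ Z2 P) : False := by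
  haveI : Finite P := h.star.fin
  have htop : KInv K (⊤ : Subgroup P) := fun _ _ _ => Subgroup.mem_top _
  have hlt : CT P < ⊤ := lt_top_iff_ne_top.mpr (CT_ne_top h)
  obtain ⟨L, hL, -⟩ := exists_kmin (K := K) CT_inv htop hlt
  obtain ⟨l, hl, hlC⟩ := SetLike.exists_of_lt hL.lt
  have hsq : l * l ∈ Z2 P := (S6ih h hH').1 l
  have hcm : cm (l * l) l = 1 := by unfold cm; group
  have hOm : l * l ∈ Om P := (F6 h hL hl hlC).1 (l * l) hsq hcm
  exact hlC (Z2_le_CT h (hH' l hOm))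

end Cfsg.Agent.SUZ2P
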