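import Mathlib
import Cfsg.Agent.Helper27.Suz2Defs
import Cfsg.Agent.Helper9.SUZ2SECLINE
import Cfsg.Agent.Helper9.SUZ2MAS
import Cfsg.Agent.Helper18.Suz2EXM
import Cfsg.Agent.Helper18.Suz2F3
import Cfsg.Agent.Helper19.Suz2B0
import Cfsg.Agent.Helper20.SUZ2F5

/-! # SUZ2 piece X71A: blueprint 7.1 (alpha). -/

set_option autoImplicit false

namespace Cfsg.Agent.SUZ2P

open Cfsg.Agent.Helper17.Suz2 Cfsg.Agent.SUZ2P

universe u v

variable {K : Type v} {P : Type u} [Group K] [Group P] [MulDistribMulAction K P]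

theorem X71alpha (h : MinCE K P) {M : Subgroup P} (hM : KMin K M ⊤) (hCM : CT P ≤ M)
    (hsq : ∀ x ∈ M, x * x ∈ Om P) (hcm : ∀ x ∈ M, ∀ y ∈ M, cm x y ∈ Om P)
    (hx0 : ∃ x : P, x * x ∈ Om P ∧ x ∉ Z2 P) : ∃ X : Subgroup P, XHyp K X := by
  haveI : Finite P := h.star.fin
  have hTM : Z2 P ≤ M := (Z2_le_CT h).trans hCM
  by_cases hMT : M = Z2 P
  · exfalso
    apply h.notH
    obtain ⟨x0, hx0sq, hx0T⟩ := hx0
    have hM' : KMin K (Z2 P) ⊤ := hMT ▸ hM
    have hCT : CT P ≤ Z2 P := hMT ▸ hCM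
    have hall : ∀ g : P, g * g ∈ Om P := by
      intro g
      by_cases hg : g ∈ Z2 P
      · exact Z2_sq h.star h.nonab g hg
      · have hline := sec_line h.star hM' (fun a _ => hCT (F5ii a a).1)
          (fun a _ a' _ => hCT (F5ii a a').2)
        obtain ⟨k, hk⟩ := hline x0 (Subgroup.mem_top _) hx0T g (Subgroup.mem_top _) hg
        have hg' : g = (k • x0) * ((k • x0)⁻¹ * g) := by group
        rw [hg']
        apply F5iv h _ hk
        rw [← smul_mul']
        exact B0_Om_inv k _ hx0sq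
    refine ⟨hall, ?_⟩
    intro x y
    have hxc : x * x ∈ Subgroup.center P := (hall x).1
    have hc : y * (x * x)⁻¹ = (x * x)⁻¹ * y :=
      (Subgroup.mem_center_iff.mp (inv_mem hxc) y)
    have hid : cm x y = (x * y) * (x * y) * (x * x)⁻¹ * (y * y)⁻¹ := by
      unfold cm
      calc x * y * x⁻¹ * y⁻¹ = x * y * x * ((x * x)⁻¹ * y) * (y * y)⁻¹ := by group
        _ = x * y * x * (y * (x * x)⁻¹) * (y * y)⁻¹ := by rw [hc]
        _ = _ := by group
    rw [hid]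
    exact mul_mem (mul_mem (hall (x * y)) (inv_mem (hall x))) (inv_mem (hall y))
  · obtain ⟨W, hWinv, hZW, hWM, hTW, hTWM⟩ :=
      maschke h.star B0_Om_inv Z2_inv hM.invB Om_le_Z2 hTM hsq hcm
    have hWne : W ≠ Om P := by
      intro hW
      apply hMT
      rw [← hTWM, hW]
      exact sup_eq_left.mpr Om_le_Z2
    have hlt : Om P < W := lt_of_le_of_ne hZW (Ne.symm hWne)
    obtain ⟨X, hX, hXW⟩ := exists_kmin (K := K) B0_Om_inv hWinv hlt
    refine ⟨X, hX, fun x hx => hsq x (hWM (hXW hx)),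
      fun x hx x' hx' => hcm x (hWM (hXW hx)) x' (hWM (hXW hx')), ?_⟩
    apply le_antisymm
    · calc X ⊓ Z2 P ≤ W ⊓ Z2 P := inf_le_inf_right _ hXW
        _ = Z2 P ⊓ W := inf_comm _ _
        _ = Om P := hTW
    · exact le_inf hX.lt.le Om_le_Z2

end Cfsg.Agent.SUZ2P
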