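import Mathlib

/-! S2258 piece SOLA (driver helper28; helper4): generic solvability lemmas for two-generator
groups (`x, y` commute; `x` inverts `y`; two involutions). -/

set_option autoImplicit false

namespace Cfsg.Agent.S2258P

namespace SOLA

open Subgroup

variable {G : Type*} [Group G]

/-- conjugation by `g` maps `closure T` into `N` if it does so on `T` -/
theorem conj_closure_mem (g : G) (T : Set G) (N : Subgroup G)
    (h : ∀ t ∈ T, g * t * g⁻¹ ∈ N) {n : G} (hn : n ∈ closure T) : g * n * g⁻¹ ∈ N := by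
  induction hn using Subgroup.closure_induction with
  | mem t ht => exact h t ht
  | one =>
    rw [mul_one, mul_inv_cancel]
    exact N.one_mem
  | mul a b _ _ iha ihb =>
    have : g * (a * b) * g⁻¹ = (g * a * g⁻¹) * (g * b * g⁻¹) := by group
    rw [this]
    exact N.mul_mem iha ihb
  | inv a _ iha =>
    have : g * a⁻¹ * g⁻¹ = (g * a * g⁻¹)⁻¹ := by group
    rw [this]
    exact N.inv_mem iha

/-- a subgroup stable under conjugation by the generators and their inverses is normal -/
theorem normal_of_closure_top (S : Set G) (htop : closure S = ⊤) (N : Subgroup G)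
    (h : ∀ s ∈ S, ∀ n ∈ N, s * n * s⁻¹ ∈ N ∧ s⁻¹ * n * s ∈ N) : N.Normal := by
  have key : ∀ g : G, ∀ n ∈ N, g * n * g⁻¹ ∈ N ∧ g⁻¹ * n * g ∈ N := by
    intro g
    have hg : g ∈ closure S := by rw [htop]; exact Subgroup.mem_top g
    induction hg using Subgroup.closure_induction with
    | mem s hs => exact h s hs
    | one =>
      intro n hn
      simp only [inv_one, one_mul, mul_one]
      exact ⟨hn, hn⟩
    | mul a b _ _ iha ihb =>
      intro n hn
      constructor
      · have : a * b * n * (a * b)⁻¹ = a * (b * n * b⁻¹) * a⁻¹ := by group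
        rw [this]
        exact (iha _ (ihb n hn).1).1
      · have : (a * b)⁻¹ * n * (a * b) = b⁻¹ * (a⁻¹ * n * a) * b := by group
        rw [this]
        exact (ihb _ (iha n hn).2).2
    | inv a _ iha =>
      intro n hn
      constructor
      · have : a⁻¹ * n * a⁻¹⁻¹ = a⁻¹ * n * a := by group
        rw [this]
        exact (iha n hn).2
      · have : a⁻¹⁻¹ * n * a⁻¹ = a * n * a⁻¹ := by group
        rw [this]
        exact (iha n hn).1
  exact ⟨fun n hn g => (key g n hn).1⟩

/-- a group generated by `x, y` with a commutative normal subgroup containing `x` is solvable -/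
theorem solvable_of_normal_comm (N : Subgroup G) (hnorm : N.Normal)
    (hcomm : ∀ a ∈ N, ∀ b ∈ N, a * b = b * a) (x y : G)
    (htop : closure ({x, y} : Set G) = ⊤) (hx : x ∈ N) : Group.IsSolvable G := by
  haveI := hnorm
  haveI hNs : Group.IsSolvable N :=
    Group.isSolvable_of_comm (fun a b => Subtype.ext (hcomm a a.2 b b.2))
  have hx1 : QuotientGroup.mk' N x = 1 := (QuotientGroup.eq_one_iff x).2 hx
  have htopQ : (⊤ : Subgroup (G ⧸ N)) = zpowers (QuotientGroup.mk' N y) := by
    calc (⊤ : Subgroup (G ⧸ N)) = (⊤ : Subgroup G).map (QuotientGroup.mk' N) :=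
          (Subgroup.map_top_of_surjective _ (QuotientGroup.mk'_surjective N)).symm
      _ = (closure ({x, y} : Set G)).map (QuotientGroup.mk' N) := by rw [htop]
      _ = closure (QuotientGroup.mk' N '' {x, y}) := MonoidHom.map_closure _ _
      _ = closure {QuotientGroup.mk' N x, QuotientGroup.mk' N y} := by rw [Set.image_pair]
      _ = closure {QuotientGroup.mk' N y} := by rw [hx1, Subgroup.closure_insert_one]
      _ = zpowers (QuotientGroup.mk' N y) := (Subgroup.zpowers_eq_closure _).symm
  haveI hcyc : IsCyclic (G ⧸ N) :=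
    ⟨⟨QuotientGroup.mk' N y, fun g => by
      have hg : g ∈ zpowers (QuotientGroup.mk' N y) := by rw [← htopQ]; exact Subgroup.mem_top g
      exact hg⟩⟩
  haveI hQs : Group.IsSolvable (G ⧸ N) :=
    Group.isSolvable_of_comm (fun a b => (IsCyclic.commGroup (α := G ⧸ N)).mul_comm a b)
  refine solvable_of_ker_le_range N.subtype (QuotientGroup.mk' N) ?_
  rw [QuotientGroup.ker_mk', Subgroup.range_subtype]

/-- the two generators generate the closure, inside the closure -/
theorem closure_pair_top (x y : G) (hx : x ∈ closure ({x, y} : Set G))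
    (hy : y ∈ closure ({x, y} : Set G)) :
    closure ({(⟨x, hx⟩ : ↥(closure ({x, y} : Set G))), ⟨y, hy⟩} : Set ↥(closure ({x, y} : Set G)))
      = ⊤ := by
  have h := Subgroup.closure_closure_coe_preimage (k := ({x, y} : Set G))
  have e : ((↑) : closure ({x, y} : Set G) → G) ⁻¹' ({x, y} : Set G) =
      {(⟨x, hx⟩ : ↥(closure ({x, y} : Set G))), ⟨y, hy⟩} := by
    ext z
    simp only [Set.mem_preimage, Set.mem_insert_iff, Set.mem_singleton_iff, Subtype.ext_iff]
  rw [e] at h
  exact h

theorem mem_left (x y : G) : x ∈ closure ({x, y} : Set G) :=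
  Subgroup.subset_closure (Set.mem_insert _ _)

theorem mem_right (x y : G) : y ∈ closure ({x, y} : Set G) :=
  Subgroup.subset_closure (Set.mem_insert_of_mem _ rfl)

/-- the subgroup version of `solvable_of_normal_comm`: `N` commutative, containing `x`, stable
under conjugation by `x^{±1}`, `y^{±1}` -/
theorem solvable_closure_of_normal_comm (N : Subgroup G) (x y : G)
    (hcomm : ∀ a ∈ N, ∀ b ∈ N, a * b = b * a) (hx : x ∈ N)
    (hy1 : ∀ n ∈ N, y * n * y⁻¹ ∈ N) (hy2 : ∀ n ∈ N, y⁻¹ * n * y ∈ N) :
    Group.IsSolvable ↥(closure ({x, y} : Set G)) := by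
  set H := closure ({x, y} : Set G) with hH
  have hxN1 : ∀ n ∈ N, x * n * x⁻¹ ∈ N := fun n hn => N.mul_mem (N.mul_mem hx hn) (N.inv_mem hx)
  have hxN2 : ∀ n ∈ N, x⁻¹ * n * x ∈ N := fun n hn => N.mul_mem (N.mul_mem (N.inv_mem hx) hn) hx
  refine solvable_of_normal_comm (N.subgroupOf H) ?_ ?_ ⟨x, mem_left x y⟩ ⟨y, mem_right x y⟩
    (closure_pair_top x y _ _) ?_
  · apply normal_of_closure_top _ (closure_pair_top x y (mem_left x y) (mem_right x y))
    intro s hs n hn
    rw [Subgroup.mem_subgroupOf] at hn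
    simp only [Subgroup.mem_subgroupOf, Subgroup.coe_mul, Subgroup.coe_inv]
    rcases hs with rfl | hs
    · exact ⟨hxN1 _ hn, hxN2 _ hn⟩
    · rw [Set.mem_singleton_iff] at hs
      subst hs
      exact ⟨hy1 _ hn, hy2 _ hn⟩
  · intro a ha b hb
    rw [Subgroup.mem_subgroupOf] at ha hb
    exact Subtype.ext (hcomm _ ha _ hb)
  · rw [Subgroup.mem_subgroupOf]
    exact hx

theorem zpowers_comm (y : G) : ∀ a ∈ zpowers y, ∀ b ∈ zpowers y, a * b = b * a := by
  rintro _ ⟨k, rfl⟩ _ ⟨l, rfl⟩
  exact (Commute.refl y).zpow_zpow k l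

end SOLA

open SOLA Subgroup

variable {G : Type*} [Group G]

theorem solvable_of_commute (x y : G) (h : x * y = y * x) :
    Group.IsSolvable ↥(Subgroup.closure ({x, y} : Set G)) := by
  have hcomm : ∀ a ∈ ({x, y} : Set G), ∀ b ∈ ({x, y} : Set G), a * b = b * a := by
    rintro a (rfl | rfl) b (rfl | rfl)
    · rfl
    · exact h
    · exact h.symm
    · rfl
  letI := Subgroup.closureCommGroupOfComm hcomm
  exact Group.isSolvable_of_comm (fun a b => mul_comm a b)

/-- `y` inverts `x`. -/
theorem solvable_of_inverts' (x y : G) (h : y * x * y⁻¹ = x⁻¹) :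
    Group.IsSolvable ↥(Subgroup.closure ({x, y} : Set G)) := by
  have h' : y⁻¹ * x * y = x⁻¹ := by
    have : x = y⁻¹ * x⁻¹ * y := by rw [← h]; group
    calc y⁻¹ * x * y = (y⁻¹ * x⁻¹ * y)⁻¹ := by group
      _ = x⁻¹ := by rw [← this]
  apply solvable_closure_of_normal_comm (zpowers x) x y (zpowers_comm x) (Subgroup.mem_zpowers x)
  · intro n hn
    refine conj_closure_mem y {x} (zpowers x) ?_ (by rw [← Subgroup.zpowers_eq_closure]; exact hn)
    rintro t rfl
    rw [h]
    exact (zpowers t).inv_mem (Subgroup.mem_zpowers t)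
  · intro n hn
    have := conj_closure_mem y⁻¹ {x} (zpowers x) ?_
      (by rw [← Subgroup.zpowers_eq_closure]; exact hn : n ∈ closure {x})
    · rwa [inv_inv] at this
    rintro t rfl
    rw [inv_inv, h']
    exact (zpowers t).inv_mem (Subgroup.mem_zpowers t)

/-- `x` inverts `y`. -/
theorem solvable_of_inverts (x y : G) (h : x * y * x⁻¹ = y⁻¹) :
    Group.IsSolvable ↥(Subgroup.closure ({x, y} : Set G)) := by
  have := solvable_of_inverts' y x h
  rwa [Set.pair_comm] at this

/-- two involutions generate a dihedral group. -/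
theorem solvable_of_invols (x y : G) (hx : x ^ 2 = 1) (hy : y ^ 2 = 1) :
    Group.IsSolvable ↥(Subgroup.closure ({x, y} : Set G)) := by
  have hxi : x⁻¹ = x := by
    rw [inv_eq_iff_mul_eq_one, ← pow_two, hx]
  have hyi : y⁻¹ = y := by
    rw [inv_eq_iff_mul_eq_one, ← pow_two, hy]
  -- `x` inverts `x * y`
  have hinv : x * (x * y) * x⁻¹ = (x * y)⁻¹ := by
    rw [mul_inv_rev, hxi, hyi, ← mul_assoc, ← pow_two, hx, one_mul]
  have h1 := solvable_of_inverts x (x * y) hinv
  have e : closure ({x, x * y} : Set G) = closure ({x, y} : Set G) := by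
    apply le_antisymm
    · rw [Subgroup.closure_le]
      rintro z (rfl | rfl)
      · exact mem_left _ _
      · exact (Subgroup.closure _).mul_mem (mem_left _ _) (mem_right _ _)
    · rw [Subgroup.closure_le]
      rintro z (rfl | rfl)
      · exact mem_left _ _
      · have hm : x⁻¹ * (x * z) ∈ Subgroup.closure ({x, x * z} : Set G) :=
          (Subgroup.closure _).mul_mem ((Subgroup.closure _).inv_mem (mem_left _ _))
            (mem_right _ _)
        rwa [inv_mul_cancel_left] at hm
  rwa [e] at h1

end Cfsg.Agent.S2258P
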