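import Mathlib
import Cfsg.Agent.Helper4.S2258SOLA

/-! S2258 piece SOLB (driver helper28; helper4): a group generated by `x, y` with
`x² = y³ = (xy)³ = 1` is solvable (a quotient of `A₄`). -/

set_option autoImplicit false

namespace Cfsg.Agent.S2258P

open SOLA Subgroup

variable {G : Type*} [Group G]

namespace SOLB

/-- the relations of the `(2,3,3)` group: `x`, `y x y⁻¹` commute, with product `y⁻¹ x y` -/
theorem rels (x y : G) (hx : x ^ 2 = 1) (hy : y ^ 3 = 1) (hxy : (x * y) ^ 3 = 1) :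
    x * (y * x * y⁻¹) = y⁻¹ * x * y ∧ (y * x * y⁻¹) * x = y⁻¹ * x * y ∧ y * y = y⁻¹ ∧
      y⁻¹ * y⁻¹ = y := by
  have hxi : x⁻¹ = x := by
    rw [inv_eq_iff_mul_eq_one, ← pow_two, hx]
  have hyy : y * y = y⁻¹ := by
    have : y * y * y = 1 := by rw [← hy]; simp only [pow_succ, pow_zero, one_mul]
    exact eq_inv_of_mul_eq_one_left this
  have hyy' : y⁻¹ * y⁻¹ = y := by
    rw [← mul_inv_rev, hyy, inv_inv]
  have k0 : (x * y * x) * (y * x * y) = 1 := by
    rw [← hxy]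
    simp only [pow_succ, pow_zero, one_mul, mul_assoc]
  have k1 : x * y * x = y⁻¹ * x * y⁻¹ := by
    rw [eq_inv_of_mul_eq_one_left k0, mul_inv_rev, mul_inv_rev, hxi, mul_assoc]
  have k2 : x * y⁻¹ * x = y * x * y := by
    have : x * y⁻¹ * x = (x * y * x)⁻¹ := by
      rw [mul_inv_rev, mul_inv_rev, hxi, mul_assoc]
    rw [this, k1, mul_inv_rev, mul_inv_rev, inv_inv, hxi, mul_assoc]
  refine ⟨?_, ?_, hyy, hyy'⟩
  · calc x * (y * x * y⁻¹) = (x * y * x) * y⁻¹ := by group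
      _ = y⁻¹ * x * (y⁻¹ * y⁻¹) := by rw [k1]; group
      _ = y⁻¹ * x * y := by rw [hyy']
  · calc (y * x * y⁻¹) * x = y * (x * y⁻¹ * x) := by group
      _ = (y * y) * x * y := by rw [k2]; group
      _ = y⁻¹ * x * y := by rw [hyy]

end SOLB

/-- the `(2,3,3)` triangle group is a quotient of `A₄`. -/
theorem solvable_of_233 (x y : G) (hx : x ^ 2 = 1) (hy : y ^ 3 = 1)
    (hxy : (x * y) ^ 3 = 1) : Group.IsSolvable ↥(Subgroup.closure ({x, y} : Set G)) := by
  obtain ⟨hab, hba, hyy, hyy'⟩ := SOLB.rels x y hx hy hxy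
  set N := Subgroup.closure ({x, y * x * y⁻¹} : Set G) with hN
  have hxN : x ∈ N := mem_left _ _
  have hbN : y * x * y⁻¹ ∈ N := mem_right _ _
  have hcN : y⁻¹ * x * y ∈ N := by
    rw [← hab]
    exact N.mul_mem hxN hbN
  have hcomm0 : ∀ a ∈ ({x, y * x * y⁻¹} : Set G), ∀ b ∈ ({x, y * x * y⁻¹} : Set G),
      a * b = b * a := by
    rintro a (rfl | rfl) b (rfl | rfl)
    · rfl
    · rw [hab, hba]
    · rw [hab, hba]
    · rfl
  have hcomm : ∀ a ∈ N, ∀ b ∈ N, a * b = b * a := by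
    intro a ha b hb
    letI := Subgroup.closureCommGroupOfComm hcomm0
    exact congrArg Subtype.val (mul_comm (⟨a, ha⟩ : ↥N) ⟨b, hb⟩)
  apply solvable_closure_of_normal_comm N x y hcomm hxN
  · intro n hn
    refine conj_closure_mem y _ N ?_ hn
    rintro t (rfl | rfl)
    · exact hbN
    · have : y * (y * x * y⁻¹) * y⁻¹ = (y * y) * x * (y⁻¹ * y⁻¹) := by group
      rw [this, hyy, hyy']
      exact hcN
  · intro n hn
    have := conj_closure_mem y⁻¹ _ N ?_ hn
    · rwa [inv_inv] at this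
    rintro t (rfl | rfl)
    · rw [inv_inv]
      exact hcN
    · have : y⁻¹ * (y * x * y⁻¹) * y⁻¹⁻¹ = x := by group
      rw [this]
      exact hxN

end Cfsg.Agent.S2258P
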