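import Mathlib
import Cfsg.Agent.Helper4.S2258SOLB

/-! S2258 piece SOLC (driver helper28; helper4): variants of the `(2,3,3)` lemma. -/

set_option autoImplicit false

namespace Cfsg.Agent.S2258P

open SOLA Subgroup

variable {G : Type*} [Group G]

namespace SOLC

/-- change of generators -/
theorem closure_pair_eq (x y u v : G) (hu : u ∈ Subgroup.closure ({x, y} : Set G))
    (hv : v ∈ Subgroup.closure ({x, y} : Set G)) (hx : x ∈ Subgroup.closure ({u, v} : Set G))
    (hy : y ∈ Subgroup.closure ({u, v} : Set G)) :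
    Subgroup.closure ({u, v} : Set G) = Subgroup.closure ({x, y} : Set G) := by
  apply le_antisymm
  · rw [Subgroup.closure_le]
    rintro z (rfl | rfl)
    · exact hu
    · exact hv
  · rw [Subgroup.closure_le]
    rintro z (rfl | rfl)
    · exact hx
    · exact hy

end SOLC

open SOLC

theorem solvable_of_323 (x y : G) (hx : x ^ 3 = 1) (hy : y ^ 2 = 1)
    (hxy : (x * y) ^ 3 = 1) : Group.IsSolvable ↥(Subgroup.closure ({x, y} : Set G)) := by
  have h1 : (y * x) ^ 3 = 1 := by
    have : y * x = y * (x * y) * y⁻¹ := by group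
    rw [this, _root_.conj_pow, hxy, mul_one, mul_inv_cancel]
  have h := solvable_of_233 y x hy hx h1
  rwa [Set.pair_comm] at h

theorem solvable_of_33inv (x y : G) (hx : x ^ 3 = 1) (hy : y ^ 3 = 1)
    (hxy : (x⁻¹ * y) ^ 2 = 1) : Group.IsSolvable ↥(Subgroup.closure ({x, y} : Set G)) := by
  have h1 : (x⁻¹ * y * x) ^ 3 = 1 := by
    have : x⁻¹ * y * x = x⁻¹ * y * x⁻¹⁻¹ := by group
    rw [this, _root_.conj_pow, hy, mul_one, mul_inv_cancel]
  have h := solvable_of_233 (x⁻¹ * y) x hxy hx h1
  have e : Subgroup.closure ({x⁻¹ * y, x} : Set G) = Subgroup.closure ({x, y} : Set G) := by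
    apply closure_pair_eq
    · exact (Subgroup.closure _).mul_mem ((Subgroup.closure _).inv_mem (mem_left _ _))
        (mem_right _ _)
    · exact mem_left _ _
    · exact mem_right _ _
    · have hm : x * (x⁻¹ * y) ∈ Subgroup.closure ({x⁻¹ * y, x} : Set G) :=
        (Subgroup.closure _).mul_mem (mem_right _ _) (mem_left _ _)
      rwa [mul_inv_cancel_left] at hm
  rwa [e] at h

theorem solvable_of_33 (x y : G) (hx : x ^ 3 = 1) (hy : y ^ 3 = 1)
    (hxy : (x * y) ^ 2 = 1) : Group.IsSolvable ↥(Subgroup.closure ({x, y} : Set G)) := by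
  have hx' : x⁻¹ ^ 3 = 1 := by rw [inv_pow, hx, inv_one]
  have h1 : (x * y * x⁻¹) ^ 3 = 1 := by
    rw [_root_.conj_pow, hy, mul_one, mul_inv_cancel]
  have h := solvable_of_233 (x * y) x⁻¹ hxy hx' h1
  have e : Subgroup.closure ({x * y, x⁻¹} : Set G) = Subgroup.closure ({x, y} : Set G) := by
    apply closure_pair_eq
    · exact (Subgroup.closure _).mul_mem (mem_left _ _) (mem_right _ _)
    · exact (Subgroup.closure _).inv_mem (mem_left _ _)
    · have hm : x⁻¹⁻¹ ∈ Subgroup.closure ({x * y, x⁻¹} : Set G) :=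
        (Subgroup.closure _).inv_mem (mem_right _ _)
      rwa [inv_inv] at hm
    · have hm : x⁻¹ * (x * y) ∈ Subgroup.closure ({x * y, x⁻¹} : Set G) :=
        (Subgroup.closure _).mul_mem (mem_right _ _) (mem_left _ _)
      rwa [inv_mul_cancel_left] at hm
  rwa [e] at h

end Cfsg.Agent.S2258P
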