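import Mathlib

set_option autoImplicit false

/-! S3501 piece SEMIREG. -/

namespace Cfsg.Agent.S3501P

open MulAction

section
variable {G : Type*} [Group G] [Finite G] {Ω : Type*} [Fintype Ω] [MulAction G Ω] [FaithfulSMul G Ω]

/-- An abelian transitive subgroup of a faithful action is semiregular (private copy of REG). -/
theorem SEMIREG.aux_reg (N : Subgroup G) (hab : ∀ x ∈ N, ∀ y ∈ N, x * y = y * x) [IsPretransitive N Ω]
    (a : Ω) (n : G) (hn : n ∈ N) (hfix : n • a = a) : n = 1 := by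
  apply FaithfulSMul.eq_of_smul_eq_smul (α := Ω)
  intro ω
  obtain ⟨m, hm⟩ := exists_smul_eq N a ω
  have hm' : (m : G) • a = ω := hm
  rw [one_smul, ← hm', ← mul_smul, hab n hn m m.2, mul_smul, hfix]

/-- SEMIREG: if all derangements lie in the abelian regular normal subgroup `N`, a non-identity element of a
point stabiliser centralises no non-identity element of `N`. -/
theorem SEMIREG (N : Subgroup G) [N.Normal] (hab : ∀ x ∈ N, ∀ y ∈ N, x * y = y * x) [IsPretransitive N Ω]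
    (hder : ∀ g : G, (∀ ω : Ω, g • ω ≠ ω) → g ∈ N)
    (a : Ω) (h : G) (hha : h • a = a) (hh1 : h ≠ 1) (w : G) (hw : w ∈ N) (hw1 : w ≠ 1)
    (hcomm : h * w = w * h) : False := by
  have hNn : N.Normal := inferInstance
  -- h is not in N
  have hhN : h ∉ N := fun hh => hh1 (SEMIREG.aux_reg N hab a h hh hha)
  -- the map φ x = x⁻¹ (h x h⁻¹) on N
  let φ : N → N := fun x => ⟨(x : G)⁻¹ * (h * x * h⁻¹), N.mul_mem (N.inv_mem x.2) (hNn.conj_mem x x.2 h)⟩
  have hφw : φ ⟨w, hw⟩ = φ 1 := by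
    apply Subtype.ext
    show w⁻¹ * (h * w * h⁻¹) = ((1 : N) : G)⁻¹ * (h * ((1 : N) : G) * h⁻¹)
    rw [hcomm]
    simp
  have hninj : ¬ Function.Injective φ := by
    intro hinj
    have := hinj hφw
    exact hw1 (congrArg Subtype.val this)
  have hnsurj : ¬ Function.Surjective φ := fun hs => hninj (Finite.injective_iff_surjective.mpr hs)
  rw [Function.Surjective] at hnsurj
  push_neg at hnsurj
  obtain ⟨v, hv⟩ := hnsurj
  -- v * h is a derangement
  have hderv : ∀ ω : Ω, ((v : G) * h) • ω ≠ ω := by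
    intro ω hω
    obtain ⟨n, hn⟩ := exists_smul_eq N a ω
    have hn' : (n : G) • a = ω := hn
    -- u = n⁻¹ v (h n h⁻¹) fixes a
    have hu_mem : (n : G)⁻¹ * v * (h * n * h⁻¹) ∈ N :=
      N.mul_mem (N.mul_mem (N.inv_mem n.2) v.2) (hNn.conj_mem n n.2 h)
    have hu_fix : ((n : G)⁻¹ * v * (h * n * h⁻¹)) • a = a := by
      have e1 : ((n : G)⁻¹ * v * (h * n * h⁻¹)) • a = ((n : G)⁻¹ * (v * h) * n) • (h⁻¹ • a) := by
        rw [← mul_smul]
        congr 1
        group
      have e2 : h⁻¹ • a = a := by rw [inv_smul_eq_iff, hha]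
      rw [e1, e2, mul_smul, mul_smul, hn', hω, ← hn', inv_smul_smul]
    have hu1 := SEMIREG.aux_reg N hab a _ hu_mem hu_fix
    -- hence v = φ (n⁻¹)
    apply hv (n⁻¹)
    apply Subtype.ext
    show ((n⁻¹ : N) : G)⁻¹ * (h * ((n⁻¹ : N) : G) * h⁻¹) = v
    have : (v : G) = n * (h * n * h⁻¹)⁻¹ := by
      have h3 : (n : G)⁻¹ * v * (h * n * h⁻¹) = 1 := hu1
      calc (v : G) = n * ((n : G)⁻¹ * v * (h * n * h⁻¹)) * (h * n * h⁻¹)⁻¹ := by group
        _ = n * (h * n * h⁻¹)⁻¹ := by rw [h3, mul_one]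
    rw [this]
    simp only [Subgroup.coe_inv, inv_inv, mul_inv_rev]
    group
  -- so v * h ∈ N, hence h ∈ N
  have hvh := hder _ hderv
  apply hhN
  have : h = (v : G)⁻¹ * ((v : G) * h) := by group
  rw [this]
  exact N.mul_mem (N.inv_mem v.2) hvh

end

end Cfsg.Agent.S3501P
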