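import Mathlib
import Cfsg.Prelude.Def_GeometricClasses
import Cfsg.Agent.Helper7.S5655.Defs
import Cfsg.Agent.Helper7.S5655.MonoLib
import Cfsg.Agent.Helper28.S5655GDefs

/-! S5655 (k = 1), chapter GEN, piece PAIRS (helper4): `N`-conjugation spreads `SU(W_ab)` to all pairs. -/

set_option autoImplicit false

namespace Cfsg.Agent.S5655K1

open Matrix
open Cfsg.Agent.S2644 Cfsg.Agent.Helper2.SUGen Cfsg.Agent.Helper28.SimMax Cfsg.Agent.MonoP

variable {K : Type*} [Field K] {q n : ℕ}

local notation "h" => Cfsg.hermForm n K q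
local notation "T" => Cfsg.unitaryTransvection n q

namespace PAIRS

/-- a permutation carrying the pair `(a, b)` to `(a', b')` -/
theorem exists_perm (a b a' b' : Fin n) (hab : a ≠ b) (hab' : a' ≠ b') :
    ∃ π : Equiv.Perm (Fin n), π a = a' ∧ π b = b' := by
  have hb1 : Equiv.swap a a' b ≠ a' := by
    intro hh
    have : Equiv.swap a a' b = Equiv.swap a a' a := by rw [hh, Equiv.swap_apply_left]
    exact hab ((Equiv.swap a a').injective this).symm
  refine ⟨Equiv.swap (Equiv.swap a a' b) b' * Equiv.swap a a', ?_, ?_⟩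
  · rw [Equiv.Perm.mul_apply, Equiv.swap_apply_left]
    exact Equiv.swap_apply_of_ne_of_ne hb1.symm hab'
  · rw [Equiv.Perm.mul_apply, Equiv.swap_apply_left]

/-- an even permutation carrying the pair `(a, b)` to `(a', b')`, `n ≥ 4` -/
theorem exists_even_perm (hn : 4 ≤ n) (a b a' b' : Fin n) (hab : a ≠ b) (hab' : a' ≠ b') :
    ∃ π : Equiv.Perm (Fin n), π a = a' ∧ π b = b' ∧ Equiv.Perm.sign π = 1 := by
  obtain ⟨π, ha, hb⟩ := exists_perm a b a' b' hab hab'
  rcases Int.units_eq_one_or (Equiv.Perm.sign π) with h1 | h1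
  · exact ⟨π, ha, hb, h1⟩
  · have hcard : 1 < ((Finset.univ : Finset (Fin n)) \ {a, b}).card := by
      have h1 := Finset.le_card_sdiff ({a, b} : Finset (Fin n)) Finset.univ
      have h2 : ({a, b} : Finset (Fin n)).card ≤ 2 := Finset.card_le_two
      rw [Finset.card_univ, Fintype.card_fin] at h1
      omega
    obtain ⟨c, hc, d, hd, hcd⟩ := Finset.one_lt_card.mp hcard
    simp only [Finset.mem_sdiff, Finset.mem_univ, Finset.mem_insert, Finset.mem_singleton,
      true_and, not_or] at hc hd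
    refine ⟨π * Equiv.swap c d, ?_, ?_, ?_⟩
    · rw [Equiv.Perm.mul_apply, Equiv.swap_apply_of_ne_of_ne (Ne.symm hc.1) (Ne.symm hd.1), ha]
    · rw [Equiv.Perm.mul_apply, Equiv.swap_apply_of_ne_of_ne (Ne.symm hc.2) (Ne.symm hd.2), hb]
    · rw [map_mul, h1, Equiv.Perm.sign_swap hcd]
      rfl

/-- entries of the conjugate of `B` by a permutation matrix -/
theorem conj_apply (π : Equiv.Perm (Fin n)) (B : Matrix (Fin n) (Fin n) K) (i j : Fin n) :
    (mono π⁻¹ (fun _ => (1 : K)) * B * mono π (fun _ => (1 : K))) i j = B (π i) (π j) := by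
  have h1 : (mono π⁻¹ (fun _ => (1 : K)) * B * mono π (fun _ => (1 : K))) i j =
      ((mono π⁻¹ (fun _ => (1 : K)) * B * mono π (fun _ => (1 : K))) *ᵥ Pi.single j 1) i := by
    simp
  rw [h1, ← Matrix.mulVec_mulVec, ← Matrix.mulVec_mulVec, mono_mulVec_single, mono_mulVec, one_smul,
    one_mul]
  have h2 : (π⁻¹ : Equiv.Perm (Fin n)).symm i = π i := rfl
  rw [h2]
  simp

theorem perm_mul_inv (π : Equiv.Perm (Fin n)) :
    mono π (fun _ => (1 : K)) * mono π⁻¹ (fun _ => (1 : K)) = 1 := by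
  rw [mono_mul, mul_inv_cancel]
  simp only [mul_one]
  exact mono_one

theorem perm_mem (D : Frob K q) {M : Subgroup (Matrix.GeneralLinearGroup (Fin n) K)}
    (hN : HasN q M) (π : Equiv.Perm (Fin n)) (hπ : Equiv.Perm.sign π = 1) :
    mono π (fun _ => (1 : K)) ∈ MS M := by
  apply HasN.mono_mem D hN π _ (fun _ => IsU.one D)
  rw [hπ]
  simp

end PAIRS

/-- PAIRS (M): `N`-conjugation spreads `SU(W_ab)` to all pairs.  For `a' ≠ b'` take a permutation `π` with
`π a = a'`, `π b = b'`, made even by a swap of two other points (`n ≥ 4`); `P := mono π 1` (Defs) is monomial, unitary of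
determinant `sign π = 1`, so `P ∈ MS M` (`hN`); `B ↦ P⁻¹ * B * P` maps `SuppOn {a', b'}` to `SuppOn {a, b}`. -/
theorem PAIRS.all (D : Frob K q) (hn : 4 ≤ n) (M : Subgroup (Matrix.GeneralLinearGroup (Fin n) K))
    (hN : HasN q M) (a b : Fin n) (hab : a ≠ b) (h2 : HasSU2 q M a b) (a' b' : Fin n)
    (hab' : a' ≠ b') : HasSU2 q M a' b' := by
  obtain ⟨π, ha, hb, hsign⟩ := PAIRS.exists_even_perm hn a b a' b' hab hab'
  have hsign' : Equiv.Perm.sign π⁻¹ = 1 := by rw [Equiv.Perm.sign_inv, hsign]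
  intro B hBP hBdet hBsupp
  set P : Matrix (Fin n) (Fin n) K := mono π (fun _ => (1 : K)) with hP
  set P' : Matrix (Fin n) (Fin n) K := mono π⁻¹ (fun _ => (1 : K)) with hP'
  have hPM : P ∈ MS M := PAIRS.perm_mem D hN π hsign
  have hPM' : P' ∈ MS M := PAIRS.perm_mem D hN π⁻¹ hsign'
  have hPP' : P * P' = 1 := PAIRS.perm_mul_inv π
  have hPpres : Pres (q := q) P := mono_pres D π _ (fun _ => IsU.one D)
  have hPpres' : Pres (q := q) P' := mono_pres D π⁻¹ _ (fun _ => IsU.one D)
  have hdetP : P.det = 1 := by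
    rw [hP, mono_det, hsign]; simp
  have hdetP' : P'.det = 1 := by
    rw [hP', mono_det, hsign']; simp
  have hB' : P' * B * P ∈ MS M := by
    apply h2
    · exact (hPpres'.mul hBP).mul hPpres
    · rw [Matrix.det_mul, Matrix.det_mul, hdetP, hdetP', hBdet]; simp
    · intro i j hij
      rw [hP, hP', PAIRS.conj_apply]
      have hmem : ∀ k : Fin n, k ∉ ({a, b} : Finset (Fin n)) → π k ∉ ({a', b'} : Finset (Fin n)) := by
        intro k hk
        simp only [Finset.mem_insert, Finset.mem_singleton, not_or] at hk ⊢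
        refine ⟨fun hh => hk.1 (π.injective (hh.trans ha.symm)),
          fun hh => hk.2 (π.injective (hh.trans hb.symm))⟩
      have hij' : π i ∉ ({a', b'} : Finset (Fin n)) ∨ π j ∉ ({a', b'} : Finset (Fin n)) :=
        hij.imp (hmem i) (hmem j)
      rw [hBsupp _ _ hij', Matrix.one_apply, Matrix.one_apply]
      simp only [EmbeddingLike.apply_eq_iff_eq]
  have hfin : P * (P' * B * P) * P' = B := by
    have hP'P : P' * P = 1 := by
      rw [hP, hP']
      have := PAIRS.perm_mul_inv (K := K) π⁻¹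
      rwa [inv_inv] at this
    calc P * (P' * B * P) * P' = (P * P') * B * (P * P') := by
          simp only [Matrix.mul_assoc]
      _ = B := by rw [hPP', Matrix.one_mul, Matrix.mul_one]
  rw [← hfin]
  exact MS_mul (MS_mul hPM hB') hPM'

end Cfsg.Agent.S5655K1
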