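import Mathlib
import Cfsg.Prelude.Def_GeometricClasses
import Cfsg.Agent.Helper7.S5655.Defs
import Cfsg.Agent.Helper7.S5655.MonoLib
import Cfsg.Agent.Helper28.S5655GDefs
import Cfsg.Agent.Helper28.S5655QR

/-! S5655 (k = 1), chapter GEN, piece RED1 (helper4): weight reduction by an element of `SU(W_ab)`. -/

set_option autoImplicit false

namespace Cfsg.Agent.S5655K1

open Matrix
open Cfsg.Agent.S2644 Cfsg.Agent.Helper2.SUGen Cfsg.Agent.Helper28.SimMax Cfsg.Agent.MonoP

variable {K : Type*} [Field K] {q n : ℕ}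

local notation "h" => Cfsg.hermForm n K q
local notation "T" => Cfsg.unitaryTransvection n q

namespace RED1

/-- the form against a vector supported on `{a, b}` -/
theorem h_pair_right (D : Frob K q) {a b : Fin n} (hab : a ≠ b) (x u : Fin n → K)
    (hu : ∀ i, i ≠ a → i ≠ b → u i = 0) : h x u = x a * D.σ (u a) + x b * D.σ (u b) := by
  rw [h_apply_sigma D]
  apply Finset.sum_eq_add_of_mem a b (Finset.mem_univ _) (Finset.mem_univ _) hab
  intro c _ hc
  rw [hu c hc.1 hc.2, map_zero, mul_zero]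

/-- the form of a vector supported on `{a, b}` against any vector -/
theorem h_pair_left (D : Frob K q) {a b : Fin n} (hab : a ≠ b) (x u : Fin n → K)
    (hx : ∀ i, i ≠ a → i ≠ b → x i = 0) : h x u = x a * D.σ (u a) + x b * D.σ (u b) := by
  rw [h_apply_sigma D]
  apply Finset.sum_eq_add_of_mem a b (Finset.mem_univ _) (Finset.mem_univ _) hab
  intro c _ hc
  rw [hx c hc.1 hc.2, zero_mul]

/-- choice of `z` of norm `s` with `s - va * σ z ≠ 0` -/
theorem exists_z [Finite K] (D : Frob K q) (va s : K) (hs : s ≠ 0) (hfix : D.σ s = s) :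
    ∃ z : K, z * D.σ z = s ∧ s - va * D.σ z ≠ 0 := by
  obtain ⟨z₀, hz₀⟩ := exists_norm D s hs hfix
  by_cases h0 : s - va * D.σ z₀ = 0
  · obtain ⟨μ, hμ1, hμ⟩ := exists_norm_one_ne D
    refine ⟨μ * z₀, ?_, ?_⟩
    · rw [map_mul]
      linear_combination (z₀ * D.σ z₀) * hμ + hz₀
    · rw [map_mul]
      have h1 : va * D.σ z₀ = s := by linear_combination -h0
      have h2 : s - va * (D.σ μ * D.σ z₀) = s * (1 - D.σ μ) := by
        linear_combination (-D.σ μ) * h1
      rw [h2]
      apply mul_ne_zero hs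
      intro h3
      apply hμ1
      have h4 : D.σ μ = D.σ 1 := by rw [map_one]; linear_combination -h3
      exact σ_injective D h4
  · exact ⟨z₀, hz₀, h0⟩

end RED1

/-- RED1 (M; uses QR, SUPPT): weight reduction by an element of `SU(W_ab)`.  `s := N(v a) + N(v b) ≠ 0`,
`w := v a • e_a + v b • e_b`; `z₀` with `N z₀ = s` (`exists_norm`), `z := z₀` or `μ z₀` (`exists_norm_one_ne`) so that
`t := s - v a * σ z ≠ 0`; `r := T (w - z • e_a) (-t⁻¹)` (`QR.move` with `x = w`, `x' = z • e_a`), `δ := det r = -σ t / t`,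
`r' := T e_b (δ⁻¹ - 1)` (`QR.pres`; `N δ = 1`), `A := r' * r`.  `h v u = h w u` for `u` supported on `{a, b}`. -/
theorem RED1.exists [Finite K] (D : Frob K q) (hq : q ≠ 0) (a b : Fin n) (hab : a ≠ b) (v : Fin n → K)
    (hs : v a * D.σ (v a) + v b * D.σ (v b) ≠ 0) :
    ∃ (A : Matrix (Fin n) (Fin n) K) (z : K), Pres (q := q) A ∧ A.det = 1 ∧ SuppOn {a, b} A ∧ z ≠ 0 ∧
      A *ᵥ v = Function.update (Function.update v a z) b 0 := by
  classical
  set s : K := v a * D.σ (v a) + v b * D.σ (v b) with hsdef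
  have hsfix : D.σ s = s := by
    rw [hsdef, map_add, map_mul, map_mul, D.invol, D.invol]; ring
  obtain ⟨z, hz, htz⟩ := RED1.exists_z D (v a) s hs hsfix
  have hz0 : z ≠ 0 := by
    rintro rfl
    rw [zero_mul] at hz
    exact hs hz.symm
  -- the vectors
  set w : Fin n → K := fun i => if i = a ∨ i = b then v i else 0 with hw
  set x' : Fin n → K := Pi.single a z with hx'
  have hwa : w a = v a := by simp [hw]
  have hwb : w b = v b := by simp [hw]
  have hw0 : ∀ i, i ≠ a → i ≠ b → w i = 0 := by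
    intro i hia hib; simp [hw, hia, hib]
  have hxa : x' a = z := by simp [hx']
  have hxb : x' b = 0 := by simp [hx', hab.symm]
  have hx0 : ∀ i, i ≠ a → i ≠ b → x' i = 0 := by
    intro i hia _; simp [hx', hia]
  have hu0 : ∀ i, i ≠ a → i ≠ b → (w - x') i = 0 := by
    intro i hia hib; rw [Pi.sub_apply, hw0 i hia hib, hx0 i hia hib, sub_zero]
  have hww : h w w = s := by
    rw [RED1.h_pair_right D hab w w hw0, hwa, hwb]
  have hxx' : h x' x' = s := by
    rw [RED1.h_pair_right D hab x' x' hx0, hxa, hxb, map_zero, mul_zero, add_zero, hz]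
  have hwx : h w x' = v a * D.σ z := by
    rw [RED1.h_pair_right D hab w x' hx0, hwa, hwb, hxa, hxb, map_zero, mul_zero, add_zero]
  have ht : h w w - h w x' ≠ 0 := by rw [hww, hwx]; exact htz
  obtain ⟨hrP, hrw, hrdet⟩ := QR.move D w x' (hww.trans hxx'.symm) ht
  set t : K := h w w - h w x' with htdef
  set r : Matrix (Fin n) (Fin n) K := T (w - x') (-t⁻¹) with hr
  have hσt : D.σ t ≠ 0 := σ_ne_zero D ht
  set δ : K := -(D.σ t) / t with hδ
  have hδ0 : δ ≠ 0 := by
    rw [hδ]; exact div_ne_zero (neg_ne_zero.mpr hσt) ht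
  have hNδ : δ * D.σ δ = 1 := by
    rw [hδ, map_div₀, map_neg, D.invol]
    field_simp
  -- the second quasi-reflection
  set eb : Fin n → K := Pi.single b 1 with heb
  have hebb : h eb eb = 1 := by
    rw [heb, herm_single_right D.σ D.pow]; simp
  have hc : (δ⁻¹ - 1) + D.σ (δ⁻¹ - 1) + (δ⁻¹ - 1) * D.σ (δ⁻¹ - 1) * h eb eb = 0 := by
    rw [hebb, map_sub, map_one, map_inv₀]
    have hσδ0 : D.σ δ ≠ 0 := σ_ne_zero D hδ0
    field_simp
    linear_combination -hNδ
  have hr'P : Pres (q := q) (T eb (δ⁻¹ - 1)) := QR.pres D eb (δ⁻¹ - 1) hc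
  have hr'det : (T eb (δ⁻¹ - 1)).det = δ⁻¹ := by
    rw [det_T', hebb]; ring
  -- action of `r` on `v`
  have hvu : h v (w - x') = h w (w - x') := by
    rw [RED1.h_pair_right D hab v _ hu0, RED1.h_pair_right D hab w _ hu0, hwa, hwb]
  have hrv : r *ᵥ v = Function.update (Function.update v a z) b 0 := by
    have e1 : r *ᵥ v = v + (-t⁻¹ * h v (w - x')) • (w - x') := by rw [hr, T_mulVec]
    have e2 : r *ᵥ w = w + (-t⁻¹ * h w (w - x')) • (w - x') := by rw [hr, T_mulVec]
    rw [hrw] at e2
    rw [hvu] at e1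
    have e3 : r *ᵥ v = v + (x' - w) := by
      rw [e1]
      congr 1
      have : (-t⁻¹ * h w (w - x')) • (w - x') = x' - w := by
        rw [eq_sub_iff_add_eq, add_comm]; exact e2.symm
      exact this
    rw [e3]
    funext i
    by_cases hib : i = b
    · subst hib
      rw [Function.update_self, Pi.add_apply, Pi.sub_apply, hxb, hwb]; ring
    · rw [Function.update_of_ne hib]
      by_cases hia : i = a
      · subst hia
        rw [Function.update_self, Pi.add_apply, Pi.sub_apply, hxa, hwa]; ring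
      · rw [Function.update_of_ne hia, Pi.add_apply, Pi.sub_apply, hx0 i hia hib, hw0 i hia hib]
        ring
  refine ⟨T eb (δ⁻¹ - 1) * r, z, hr'P.mul hrP, ?_, ?_, hz0, ?_⟩
  · rw [Matrix.det_mul, hr'det, hrdet]
    exact inv_mul_cancel₀ hδ0
  · apply SUPPT.suppOn_mul
    · apply SUPPT.suppOn_T hq
      intro i hi
      simp only [Finset.mem_insert, Finset.mem_singleton, not_or] at hi
      rw [heb, Pi.single_eq_of_ne hi.2]
    · apply SUPPT.suppOn_T hq
      intro i hi
      simp only [Finset.mem_insert, Finset.mem_singleton, not_or] at hi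
      exact hu0 i hi.1 hi.2
  · rw [← Matrix.mulVec_mulVec, hrv, T_mulVec]
    have : h (Function.update (Function.update v a z) b 0) eb = 0 := by
      rw [heb, herm_single_right D.σ D.pow, Function.update_self]
    rw [this, mul_zero, zero_smul, add_zero]

end Cfsg.Agent.S5655K1
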