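import Mathlib
import Cfsg.Agent.Helper28.S5658.Defs
import Cfsg.Agent.Helper28.S5658.Lib
import Cfsg.Agent.Helper24.S5658SUMISO

set_option autoImplicit false

/-! # S5658, piece GENSU: a subgroup containing all `Q_b`, `b` rational isotropic, contains `SU` -/

namespace Cfsg.Agent.S5658P

open Matrix
open Cfsg.Agent.S2644 Cfsg.Agent.Helper2.SUGen Cfsg.Agent.Helper28.SimMax Cfsg.Agent.S5639P

variable {K : Type*} [Field K] {q n : ℕ}

local notation "h" => Cfsg.hermForm n K q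
local notation "T" => Cfsg.unitaryTransvection n q

/-- a rational isotropic partner of a rational isotropic vector (local copy of `HYPB.exists_partner`) -/
theorem GENSU.exists_partner_aux [Finite K] (D : Frob K q) (F₀ : Subfield K)
    (hθ : ∃ θ ∈ F₀, D.σ θ ≠ θ) {b : Fin n → K} (hb : Rat F₀ b) (hb0 : b ≠ 0) (hbb : h b b = 0) :
    ∃ f : Fin n → K, Rat F₀ f ∧ h f f = 0 ∧ h f b = 1 ∧ h b f = 1 := by
  obtain ⟨b₀, rfl⟩ := exists_up hb
  have hb₀ : b₀ ≠ 0 := by
    rintro rfl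
    exact hb0 rfl
  have hbb₀ : Cfsg.hermForm n F₀ q b₀ b₀ = 0 := by
    have e := herm_up (q := q) (F₀ := F₀) b₀ b₀
    rw [hbb] at e
    exact Subtype.ext e.symm
  obtain ⟨v, -, hvv, hbv, hvb⟩ := exists_partner (frob0 D F₀ hθ) (nonDeg_top (frob0 D F₀ hθ))
    (Submodule.mem_top (x := b₀)) hb₀ hbb₀
  refine ⟨up F₀ v, rat_up v, ?_, ?_, ?_⟩
  · rw [herm_up, hvv]; rfl
  · rw [herm_up, hvb]; rfl
  · rw [herm_up, hbv]; rfl

/-- rational isotropic vectors lie in `SS D M` -/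
theorem GENSU.rat_mem_SS (D : Frob K q) (F₀ : Subfield K)
    (M : Subgroup (Matrix.GeneralLinearGroup (Fin n) K))
    (hall : ∀ (b w : Fin n → K) (c : K), Rat F₀ b → h b b = 0 → h w b = 0 →
      c + D.σ c + h w w = 0 → Sg (q := q) b w c ∈ MS M)
    {b : Fin n → K} (hb : Rat F₀ b) (hbb : h b b = 0) :
    b ∈ Cfsg.Agent.Helper28.UPair.SS D M := by
  refine ⟨hbb, fun c hc => ?_⟩
  have := hall b 0 c hb hbb (h_zero_left b) (by rw [h_zero_left, hc]; ring)
  rw [Sg_zero D] at this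
  exact this

/-- every isotropic vector lies in `SS D M` -/
theorem GENSU.mem_SS [Finite K] (hn : 13 ≤ n) (D : Frob K q)
    (F₀ : Subfield K) (hθ : ∃ θ ∈ F₀, D.σ θ ≠ θ)
    (M : Subgroup (Matrix.GeneralLinearGroup (Fin n) K))
    (hall : ∀ (b w : Fin n → K) (c : K), Rat F₀ b → h b b = 0 → h w b = 0 →
      c + D.σ c + h w w = 0 → Sg (q := q) b w c ∈ MS M)
    {y : Fin n → K} (hyy : h y y = 0) :
    y ∈ Cfsg.Agent.Helper28.UPair.SS D M := by
  by_cases hy0 : y = 0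
  · subst hy0
    exact GENSU.rat_mem_SS D F₀ M hall (fun i => F₀.zero_mem) hyy
  -- some rational isotropic `x` with `h y x ≠ 0`
  have hex : ∃ x : Fin n → K, Rat F₀ x ∧ h x x = 0 ∧ h y x ≠ 0 := by
    by_contra hcon
    push Not at hcon
    apply hy0
    funext i
    have hsi : Rat F₀ (Pi.single i (1 : K)) := by
      intro j
      by_cases hji : j = i
      · subst hji; rw [Pi.single_eq_same]; exact F₀.one_mem
      · rw [Pi.single_eq_of_ne hji]; exact F₀.zero_mem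
    obtain ⟨x₁, x₂, hx₁, hx₂, hsum, h11, h22, -, -⟩ :=
      SUMISO.exists_sum (q := q) hn D F₀ hθ (b := 0) (x := Pi.single i (1 : K))
        (fun i => F₀.zero_mem) hsi (h_zero_right D _)
    have e := h_single_right (q := q) D y i
    rw [hsum, h_add_right D, hcon x₁ hx₁ h11, hcon x₂ hx₂ h22, add_zero] at e
    rw [← e]; rfl
  obtain ⟨x, hx, hxx, hyx⟩ := hex
  have hx0 : x ≠ 0 := by
    rintro rfl
    exact hyx (h_zero_right D y)
  obtain ⟨f, hf, hff, hfx, hxf⟩ := GENSU.exists_partner_aux (q := q) D F₀ hθ hx hx0 hxx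
  -- scale `y`
  set y' : Fin n → K := (h y x)⁻¹ • y with hy'
  have hy'y' : h y' y' = 0 := by
    rw [hy', h_smul_left, h_smul_right D, hyy, mul_zero, mul_zero]
  have hy'x : h y' x = h f x := by
    rw [hy', h_smul_left, hfx, inv_mul_cancel₀ hyx]
  obtain ⟨w, c, -, hwx, hc, hmap⟩ :=
    Sg_map D x f y' hxx hff hy'y' (by rw [hfx]; exact one_ne_zero) hy'x
  have hfS : f ∈ Cfsg.Agent.Helper28.UPair.SS D M := GENSU.rat_mem_SS D F₀ M hall hf hff
  have hSg : Sg (q := q) x w c ∈ MS M := hall x w c hx hxx hwx hc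
  have hy'S : y' ∈ Cfsg.Agent.Helper28.UPair.SS D M := by
    rw [← hmap]
    exact Cfsg.Agent.Helper28.UPair.SS_map D M hfS hSg (Sg_pres D x w c hxx hwx hc)
  have : y = (h y x) • y' := by
    rw [hy', smul_smul, mul_inv_cancel₀ hyx, one_smul]
  rw [this]
  exact Cfsg.Agent.Helper28.UPair.SS_smul D M hy'S _

theorem GENSU.le [Fintype K] (hK : Fintype.card K = q ^ 2) (hn : 13 ≤ n) (D : Frob K q)
    (F₀ : Subfield K) (hθ : ∃ θ ∈ F₀, D.σ θ ≠ θ)
    (M : Subgroup (Matrix.GeneralLinearGroup (Fin n) K))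
    (hall : ∀ (b w : Fin n → K) (c : K), Rat F₀ b → h b b = 0 → h w b = 0 →
      c + D.σ c + h w w = 0 → Sg (q := q) b w c ∈ MS M) :
    Cfsg.GU n K q ⊓ Cfsg.Geo.specialLinear (Fin n) K ≤ M := by
  intro g hg
  obtain ⟨hP, hdet⟩ := (mem_G_iff g).1 hg
  have hTT := SU_le_TT D hK (by omega) (by omega) hP hdet
  have key : ∀ A ∈ TT D (⊤ : Submodule K (Fin n → K)), A ∈ MS M := by
    intro A hA
    induction hA using Submonoid.closure_induction with
    | mem A hA =>
      obtain ⟨x, c, -, hxx, hc, rfl⟩ := hA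
      exact (GENSU.mem_SS hn D F₀ hθ M hall hxx).2 c hc
    | one => exact one_mem_MS M
    | mul A B _ _ ihA ihB => exact MS_mul ihA ihB
  obtain ⟨g', hg', hgg'⟩ := key _ hTT
  have : g' = g := Units.ext hgg'
  rw [← this]; exact hg'

end Cfsg.Agent.S5658P
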