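import Mathlib
import Cfsg.Prelude.Def_GeometricClasses
import Cfsg.Prelude.Def_Classical
import Cfsg.Prelude.Def_LieClassical
import Cfsg.Agent.Helper20.S6000Defs
import Cfsg.Agent.Helper28.S6001Defs
import Cfsg.Agent.Helper1.S6001HILB90

set_option autoImplicit false
open scoped MatrixGroups Matrix

/-! S6001 piece DETCENT2 (driver helper28): a unitary `x` with `x² + x + 1 = 0` (`ω` in the prime
field) has unitary centralizer elements of every determinant of norm one. -/

namespace Cfsg.Agent.S6001P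

open Cfsg.Agent.S6000P

namespace DETCENT2

section basic

variable {F : Type*} [Field F] (p : ℕ)

/-- entrywise Frobenius of a vector -/
def sig (v : Fin 4 → F) : Fin 4 → F := fun i => (v i) ^ p

/-- the rank one operator `u ↦ H(u, b) a` -/
def ketbra (a b : Fin 4 → F) : M4 F := Matrix.vecMulVec a (sig p b)

theorem ketbra_apply (a b : Fin 4 → F) (i j : Fin 4) : ketbra p a b i j = a i * (b j) ^ p := rfl

theorem sig_dot (b c : Fin 4 → F) : sig p b ⬝ᵥ c = Cfsg.hermForm 4 F p c b := by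
  unfold Cfsg.hermForm sig dotProduct
  apply Finset.sum_congr rfl
  intro i _
  ring

theorem ketbra_mul_ketbra (a b c d : Fin 4 → F) :
    ketbra p a b * ketbra p c d = Cfsg.hermForm 4 F p c b • ketbra p a d := by
  unfold ketbra
  rw [Matrix.vecMulVec_mul_vecMulVec, sig_dot]
  ext i j
  simp only [Matrix.vecMulVec_apply, Pi.smul_apply, Matrix.smul_apply, smul_eq_mul]
  ring

theorem mul_ketbra (M : M4 F) (a b : Fin 4 → F) : M * ketbra p a b = ketbra p (M *ᵥ a) b :=
  Matrix.mul_vecMulVec M a _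

theorem smul_ketbra (c : F) (a b : Fin 4 → F) : ketbra p (c • a) b = c • ketbra p a b := by
  ext i j
  simp only [ketbra_apply, Pi.smul_apply, Matrix.smul_apply, smul_eq_mul]
  ring

theorem ketbra_smul (c : F) (a b : Fin 4 → F) : ketbra p a (c • b) = c ^ p • ketbra p a b := by
  ext i j
  simp only [ketbra_apply, Pi.smul_apply, Matrix.smul_apply, smul_eq_mul, mul_pow]
  ring

theorem det_one_add_ketbra (c : F) (a b : Fin 4 → F) :
    (1 + c • ketbra p a b).det = 1 + c * Cfsg.hermForm 4 F p a b := by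
  have : c • ketbra p a b = Matrix.vecMulVec (c • a) (sig p b) := by
    ext i j
    simp only [ketbra_apply, Matrix.vecMulVec_apply, Pi.smul_apply, Matrix.smul_apply, smul_eq_mul,
      sig]
    ring
  rw [this, Matrix.vecMulVec_eq (Fin 1), Matrix.det_one_add_replicateCol_mul_replicateRow,
    dotProduct_smul, sig_dot, smul_eq_mul]

/-- products in the span of two orthogonal idempotents -/
theorem ortho_mul (A B : M4 F) (hAA : A * A = A) (hBB : B * B = B) (hAB : A * B = 0)
    (hBA : B * A = 0) (a b a' b' : F) :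
    (1 + a' • A + b' • B) * (1 + a • A + b • B) =
      1 + (a + a' + a' * a) • A + (b + b' + b' * b) • B := by
  simp only [mul_add, add_mul, Matrix.one_mul, Matrix.mul_one, Matrix.smul_mul, Matrix.mul_smul,
    hAA, hBB, hAB, hBA, smul_zero, add_zero, zero_add, smul_smul]
  module

end basic

section card

variable {F : Type*} [Field F] (p : ℕ) [Fact p.Prime] [CharP F p] [Fintype F]
  (hF : Fintype.card F = p ^ 2)

include hF

theorem ketbra_mul (a b : Fin 4 → F) (M : M4 F) :
    ketbra p a b * M = ketbra p a (dag p M *ᵥ b) := by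
  unfold ketbra
  rw [Matrix.vecMulVec_mul]
  congr 1
  funext j
  simp only [Matrix.vecMul, dotProduct, sig, Matrix.mulVec, dag_apply]
  rw [← frobenius_def, map_sum]
  apply Finset.sum_congr rfl
  intro i _
  rw [map_mul, frobenius_def, frobenius_def, pow_p_pow_p p hF]
  ring

theorem dag_ketbra (a b : Fin 4 → F) : dag p (ketbra p a b) = ketbra p b a := by
  ext i j
  rw [dag_apply, ketbra_apply, ketbra_apply, mul_pow, pow_p_pow_p p hF, mul_comm]

theorem herm_pow (u v : Fin 4 → F) :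
    (Cfsg.hermForm 4 F p u v) ^ p = Cfsg.hermForm 4 F p v u := by
  unfold Cfsg.hermForm
  rw [← frobenius_def, map_sum]
  apply Finset.sum_congr rfl
  intro i _
  rw [map_mul, frobenius_def, frobenius_def, pow_p_pow_p p hF, mul_comm]

end card

end DETCENT2

open DETCENT2 in
/-- DETCENT2 -/
theorem exists_cent_det_of_quadratic {F : Type*} [Field F] [Fintype F] {p : ℕ} [Fact p.Prime]
    [CharP F p] (hF : Fintype.card F = p ^ 2) (hp4 : p % 4 = 3) (x : GL (Fin 4) F)
    (hx : x ∈ Cfsg.GU 4 F p) (ω : F) (hω : ω * ω + ω + 1 = 0) (hωp : ω ^ p = ω)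
    (h3 : (3 : F) ≠ 0) (hq : (x : M4 F) * (x : M4 F) + (x : M4 F) + 1 = 0) :
    ∀ δ : F, δ ^ (p + 1) = 1 →
      ∃ k ∈ Cfsg.GU 4 F p, k * x = x * k ∧ (k : M4 F).det = δ := by
  classical
  intro δ hδ
  set X : M4 F := (x : M4 F) with hXdef
  have hXX : X * X = -1 - X := by
    have : X * X = (X * X + X + 1) - 1 - X := by abel
    rw [this, hq]; abel
  have hω3 : ω * (ω * ω) = 1 := by linear_combination (ω - 1) * hω
  have hz : ∀ M : M4 F, (ω * ω + ω + 1) • M = 0 := fun M => by rw [hω, zero_smul]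
  -- `dag X = X * X`
  have hX3 : X * X * X = 1 := by
    rw [hXX, sub_mul, neg_mul, one_mul, hXX]; abel
  have hdagX : dag p X = X * X := by
    have h1 := (mem_GU_iff_dag p x).mp hx
    calc dag p X = dag p X * (X * X * X) := by rw [hX3, mul_one]
      _ = (dag p X * X) * (X * X) := by simp only [mul_assoc]
      _ = X * X := by rw [h1, one_mul]
  -- the spectral projections
  set d : F := ω - ω * ω with hd
  have hd2 : d * d = -3 := by
    rw [hd]; linear_combination (ω * ω - 3 * ω + 3) * hω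
  have hd0 : d ≠ 0 := by
    intro e
    rw [e, mul_zero] at hd2
    apply h3
    linear_combination hd2
  have hdp : d ^ p = d := by
    rw [hd, ← frobenius_def, map_sub, map_mul, frobenius_def, hωp]
  have hkey1 : X * (X - (ω * ω) • (1 : M4 F)) = ω • (X - (ω * ω) • (1 : M4 F)) := by
    have e : X * (X - (ω * ω) • (1 : M4 F)) - ω • (X - (ω * ω) • (1 : M4 F)) =
        (X * X + X + 1) - (ω * ω + ω + 1) • X + (ω * (ω * ω) - 1) • (1 : M4 F) := by
      rw [mul_sub, Matrix.mul_smul, Matrix.mul_one]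
      module
    simp only [hq, hz, hω3, sub_self, zero_smul, add_zero, neg_zero] at e
    exact sub_eq_zero.mp e
  have hkey2 : X * (ω • (1 : M4 F) - X) = (ω * ω) • (ω • (1 : M4 F) - X) := by
    have e : X * (ω • (1 : M4 F) - X) - (ω * ω) • (ω • (1 : M4 F) - X) =
        -(X * X + X + 1) + (ω * ω + ω + 1) • X - (ω * (ω * ω) - 1) • (1 : M4 F) := by
      rw [mul_sub, Matrix.mul_smul, Matrix.mul_one]
      module
    simp only [hq, hz, hω3, sub_self, zero_smul, add_zero, neg_zero] at e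
    exact sub_eq_zero.mp e
  set P : M4 F := d⁻¹ • (X - (ω * ω) • (1 : M4 F)) with hP
  set Q : M4 F := d⁻¹ • (ω • (1 : M4 F) - X) with hQ
  have hPQ1 : P + Q = 1 := by
    rw [hP, hQ, ← smul_add]
    have : X - (ω * ω) • (1 : M4 F) + (ω • (1 : M4 F) - X) = d • (1 : M4 F) := by
      rw [hd]; module
    rw [this, smul_smul, inv_mul_cancel₀ hd0, one_smul]
  have hXP : X * P = ω • P := by
    rw [hP, Matrix.mul_smul, hkey1, smul_comm]
  have hXQ : X * Q = (ω * ω) • Q := by
    rw [hQ, Matrix.mul_smul, hkey2, smul_comm]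
  have hdagP : dag p P = Q := by
    have e : (ω * ω) ^ p = ω * ω := by rw [mul_pow, hωp]
    rw [hP, dag_smul, dag_sub, dag_smul, dag_one, hdagX, hQ, inv_pow, hdp, e]
    congr 1
    have e2 : X * X - (ω * ω) • (1 : M4 F) = ω • (1 : M4 F) - X - (ω * ω + ω + 1) • (1 : M4 F) := by
      rw [hXX]; module
    rw [e2, hz, sub_zero]
  have hdagQ : dag p Q = P := by rw [← hdagP, dag_dag p hF]
  -- `Q * P = 0`
  have hQP : Q * P = 0 := by
    have h1 : (ω • (1 : M4 F) - X) * P = 0 := by
      rw [sub_mul, Matrix.smul_mul, Matrix.one_mul, hXP, sub_self]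
    rw [hQ, Matrix.smul_mul, h1, smul_zero]
  have hPQ : P * Q = 0 := by
    have h1 : (X - (ω * ω) • (1 : M4 F)) * Q = 0 := by
      rw [sub_mul, Matrix.smul_mul, Matrix.one_mul, hXQ, sub_self]
    rw [hP, Matrix.smul_mul, h1, smul_zero]
  have hPP : P * P = P := by
    calc P * P = P * (1 - Q) := by rw [← hPQ1]; congr 1; abel
      _ = P := by rw [mul_sub, mul_one, hPQ, sub_zero]
  have hP0 : P ≠ 0 := by
    intro e
    have hQ1 : Q = 1 := by rw [← hPQ1, e, zero_add]
    have : dag p P = (1 : M4 F) := by rw [hdagP, hQ1]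
    rw [e, dag_zero] at this
    have h00 := congrFun (congrFun this 0) 0
    simp at h00
  -- the vectors `e`, `f`
  obtain ⟨i0, j0, hij⟩ : ∃ i j, P i j ≠ 0 := by
    by_contra hcon
    push Not at hcon
    apply hP0
    ext i j
    exact hcon i j
  set e : Fin 4 → F := P *ᵥ (Pi.single j0 1) with he
  have he_i : e i0 = P i0 j0 := by
    rw [he, Matrix.mulVec_single_one]
    rfl
  have hPe : P *ᵥ e = e := by rw [he, Matrix.mulVec_mulVec, hPP]
  have hXe : X *ᵥ e = ω • e := by
    rw [← hPe, Matrix.mulVec_mulVec, hXP, Matrix.smul_mulVec]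
  set f0 : Fin 4 → F := Pi.single i0 1 with hf0
  set f : Fin 4 → F := Q *ᵥ f0 with hf
  have hXf : X *ᵥ f = (ω * ω) • f := by
    rw [hf, Matrix.mulVec_mulVec, hXQ, Matrix.smul_mulVec]
  have hp0 : p ≠ 0 := (Fact.out : p.Prime).ne_zero
  have hzero : ∀ u : Fin 4 → F, Cfsg.hermForm 4 F p u 0 = 0 := by
    intro u
    unfold Cfsg.hermForm
    simp [hp0]
  have hH : Cfsg.hermForm 4 F p e f ≠ 0 := by
    have h1 : Cfsg.hermForm 4 F p e f = Cfsg.hermForm 4 F p e f0 := by
      rw [hf, ← hdagP, ← herm_mulVec_left p P e f0 hF, hPe]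
    rw [h1]
    unfold Cfsg.hermForm
    rw [Finset.sum_eq_single i0]
    · rw [hf0, Pi.single_eq_same, one_pow, mul_one, he_i]
      exact hij
    · intro b _ hb
      rw [hf0, Pi.single_eq_of_ne hb, zero_pow hp0, mul_zero]
    · intro h
      exact absurd (Finset.mem_univ i0) h
  have hQe : Q *ᵥ e = 0 := by
    calc Q *ᵥ e = Q *ᵥ (P *ᵥ e) := by rw [hPe]
      _ = (Q * P) *ᵥ e := by rw [Matrix.mulVec_mulVec]
      _ = 0 := by rw [hQP, Matrix.zero_mulVec]
  have hPf : P *ᵥ f = 0 := by
    rw [hf, Matrix.mulVec_mulVec, hPQ, Matrix.zero_mulVec]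
  have hee : Cfsg.hermForm 4 F p e e = 0 := by
    have h1 : Cfsg.hermForm 4 F p (P *ᵥ e) e = Cfsg.hermForm 4 F p e (Q *ᵥ e) := by
      rw [herm_mulVec_left p P e e hF, hdagP]
    rw [hPe] at h1
    rw [h1, hQe]
    exact hzero _
  have hff : Cfsg.hermForm 4 F p f f = 0 := by
    have h1 : Cfsg.hermForm 4 F p (Q *ᵥ f0) f = Cfsg.hermForm 4 F p f0 (P *ᵥ f) := by
      rw [herm_mulVec_left p Q f0 f hF, hdagQ]
    rw [← hf] at h1
    rw [h1, hPf]
    exact hzero _
  set h : F := Cfsg.hermForm 4 F p e f with hh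
  have hh' : Cfsg.hermForm 4 F p f e = h ^ p := (herm_pow p hF e f).symm
  have hhp0 : h ^ p ≠ 0 := pow_ne_zero _ hH
  set A : M4 F := h⁻¹ • ketbra p e f with hA
  set B : M4 F := (h ^ p)⁻¹ • ketbra p f e with hB
  clear_value A B
  have hAA : A * A = A := by
    rw [hA, Matrix.smul_mul, Matrix.mul_smul, ketbra_mul_ketbra, ← hh, smul_smul, smul_smul]
    congr 1
    field_simp
  have hBB : B * B = B := by
    rw [hB, Matrix.smul_mul, Matrix.mul_smul, ketbra_mul_ketbra, hh', smul_smul, smul_smul]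
    congr 1
    field_simp
  have hAB : A * B = 0 := by
    rw [hA, hB, Matrix.smul_mul, Matrix.mul_smul, ketbra_mul_ketbra, hff, zero_smul, smul_zero,
      smul_zero]
  have hBA : B * A = 0 := by
    rw [hA, hB, Matrix.smul_mul, Matrix.mul_smul, ketbra_mul_ketbra, hee, zero_smul, smul_zero,
      smul_zero]
  have hdagA : dag p A = B := by
    rw [hA, dag_smul, dag_ketbra p hF, inv_pow, hB]
  have hdagB : dag p B = A := by rw [← hdagA, dag_dag p hF]
  have hdXe : dag p X *ᵥ e = (ω * ω) • e := by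
    rw [hdagX, ← Matrix.mulVec_mulVec, hXe, Matrix.mulVec_smul, hXe, smul_smul]
  have hdXf : dag p X *ᵥ f = ω • f := by
    rw [hdagX, ← Matrix.mulVec_mulVec, hXf, Matrix.mulVec_smul, hXf, smul_smul]
    congr 1
    linear_combination ω * hω3
  have hXA : X * A = ω • A := by
    rw [hA, Matrix.mul_smul, mul_ketbra, hXe, smul_ketbra, smul_comm]
  have hAX : A * X = ω • A := by
    rw [hA, Matrix.smul_mul, ketbra_mul p hF, hdXf, ketbra_smul, hωp, smul_comm]
  have hXB : X * B = (ω * ω) • B := by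
    rw [hB, Matrix.mul_smul, mul_ketbra, hXf, smul_ketbra, smul_comm]
  have hBX : B * X = (ω * ω) • B := by
    have e2 : (ω * ω) ^ p = ω * ω := by rw [mul_pow, hωp]
    rw [hB, Matrix.smul_mul, ketbra_mul p hF, hdXe, ketbra_smul, e2, smul_comm]
  -- Hilbert 90
  obtain ⟨α, hα0, hα⟩ := exists_hilbert90 hF hp4 δ hδ
  have hαp0 : α ^ p ≠ 0 := pow_ne_zero _ hα0
  have hαpp : (α ^ p) ^ p = α := pow_p_pow_p p hF α
  set β : F := (α ^ p)⁻¹ with hβ
  have hβp : β ^ p = α⁻¹ := by rw [hβ, inv_pow, hαpp]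
  set K : M4 F := 1 + (α - 1) • A + (β - 1) • B with hK
  clear_value K
  have hdagK : dag p K = 1 + (α⁻¹ - 1) • A + (α ^ p - 1) • B := by
    have e1 : (α - 1) ^ p = α ^ p - 1 := by
      rw [← frobenius_def, map_sub, map_one, frobenius_def]
    have e2 : (β - 1) ^ p = α⁻¹ - 1 := by
      rw [← frobenius_def, map_sub, map_one, frobenius_def, hβp]
    rw [hK, dag_add, dag_add, dag_one, dag_smul, dag_smul, hdagA, hdagB, e1, e2]
    abel
  have hunit : dag p K * K = 1 := by
    rw [hdagK, hK, ortho_mul A B hAA hBB hAB hBA]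
    have e1 : α - 1 + (α⁻¹ - 1) + (α⁻¹ - 1) * (α - 1) = 0 := by
      field_simp; ring
    have e2 : β - 1 + (α ^ p - 1) + (α ^ p - 1) * (β - 1) = 0 := by
      rw [hβ]; field_simp; ring
    rw [e1, e2, zero_smul, zero_smul, add_zero, add_zero]
  have hunit' : K * dag p K = 1 := mul_eq_one_comm.mp hunit
  have hKX : K * X = X * K := by
    rw [hK, add_mul, add_mul, mul_add, mul_add, Matrix.one_mul, Matrix.mul_one, Matrix.smul_mul,
      Matrix.smul_mul, Matrix.mul_smul, Matrix.mul_smul, hAX, hXA, hBX, hXB]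
  have hdetK : K.det = δ := by
    have hfac : K = (1 + (α - 1) • A) * (1 + (β - 1) • B) := by
      rw [hK]
      simp only [mul_add, add_mul, Matrix.one_mul, Matrix.mul_one, Matrix.smul_mul,
        Matrix.mul_smul, hAB, smul_zero, add_zero]
    have d1 : (1 + (α - 1) • A).det = α := by
      rw [hA, smul_smul, det_one_add_ketbra, ← hh, mul_assoc, inv_mul_cancel₀ hH, mul_one]
      ring
    have d2 : (1 + (β - 1) • B).det = β := by
      rw [hB, smul_smul, det_one_add_ketbra, hh', mul_assoc, inv_mul_cancel₀ hhp0, mul_one]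
      ring
    rw [hfac, Matrix.det_mul, d1, d2, hβ]
    rw [mul_inv_eq_iff_eq_mul₀ hαp0]
    exact hα
  let k : GL (Fin 4) F := ⟨K, dag p K, hunit', hunit⟩
  have hk : (k : M4 F) = K := rfl
  refine ⟨k, ?_, ?_, ?_⟩
  · rw [mem_GU_iff_dag, hk]
    exact hunit
  · apply Units.ext
    rw [Units.val_mul, Units.val_mul, hk]
    exact hKX
  · rw [hk]
    exact hdetK

end Cfsg.Agent.S6001P
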