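import Mathlib
import Cfsg.Prelude.Def_GeometricClasses
import Cfsg.Prelude.Def_Classical
import Cfsg.Prelude.Def_LieClassical
import Cfsg.Agent.Helper20.S6000Defs
import Cfsg.Agent.Helper28.S6001Defs
import Cfsg.Agent.Helper18.S6001UCONJ

set_option autoImplicit false
open scoped MatrixGroups Matrix

/-! S6001 piece SUCONJ (driver helper28): unitary matrices conjugate in `GL₄` are conjugate in `SU₄`
when the unitary centralizer has all determinants of norm one. -/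

namespace Cfsg.Agent.S6001P

open Cfsg.Agent.S6000P

/-- SUCONJ -/
theorem su_conj_of_gl_conj {F : Type*} [Field F] [Fintype F] {p : ℕ} [Fact p.Prime]
    [CharP F p] (hF : Fintype.card F = p ^ 2) (x y g : GL (Fin 4) F)
    (hx : x ∈ Cfsg.GU 4 F p) (hy : y ∈ Cfsg.GU 4 F p) (hg : g⁻¹ * x * g = y)
    (hdet : ∀ δ : F, δ ^ (p + 1) = 1 →
      ∃ k ∈ Cfsg.GU 4 F p, k * x = x * k ∧ (k : M4 F).det = δ) :
    ∃ h ∈ Cfsg.GU 4 F p ⊓ Cfsg.Geo.specialLinear (Fin 4) F, h⁻¹ * x * h = y := by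
  obtain ⟨h0, hh0U, hh0⟩ := unitary_conj_of_gl_conj hF x y g hx hy hg
  set δ0 : F := (h0 : M4 F).det with hδ0
  have hδ0n : δ0 ^ (p + 1) = 1 := by
    have h1 := (mem_GU_iff_dag p h0).mp hh0U
    have h2 := congrArg Matrix.det h1
    rw [Matrix.det_mul, det_dag, Matrix.det_one] at h2
    rw [pow_succ]
    exact h2
  have hδ00 : δ0 ≠ 0 := by
    intro e
    rw [e, zero_pow (Nat.succ_ne_zero p)] at hδ0n
    exact zero_ne_one hδ0n
  have hδ : (δ0⁻¹) ^ (p + 1) = 1 := by rw [inv_pow, hδ0n, inv_one]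
  obtain ⟨k, hkU, hkx, hkdet⟩ := hdet δ0⁻¹ hδ
  have hSL : k * h0 ∈ Cfsg.Geo.specialLinear (Fin 4) F := by
    rw [mem_specialLinear_iff, Units.val_mul, Matrix.det_mul, hkdet, ← hδ0, inv_mul_cancel₀ hδ00]
  refine ⟨k * h0, Subgroup.mem_inf.mpr ⟨Subgroup.mul_mem _ hkU hh0U, hSL⟩, ?_⟩
  · have e : k⁻¹ * x * k = x := by
      rw [mul_assoc, ← hkx, ← mul_assoc, inv_mul_cancel, one_mul]
    calc (k * h0)⁻¹ * x * (k * h0) = h0⁻¹ * (k⁻¹ * x * k) * h0 := by group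
      _ = y := by rw [e, hh0]

end Cfsg.Agent.S6001P
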