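import Mathlib
import Cfsg.Prelude.Def_GeometricClasses
import Cfsg.Agent.Helper20.S6000Defs
import Cfsg.Agent.Helper4.S6002FIX
import Cfsg.Agent.Helper4.S6000CENTCARD64
import Cfsg.Agent.Helper14.S6000CENT2

set_option autoImplicit false
open scoped MatrixGroups Matrix

/-! S6000 piece NOSEVEN64 (driver helper20). -/

namespace Cfsg.Agent.S6000P

/-- local copy of SCAL4: a scalar element of `R` is one of `1, -1, ι, -ι` -/
theorem NOSEVEN.scalar_cases' {F : Type*} [Field F] {R : Subgroup (GL (Fin 4) F)} {ι : F}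
    (h : Hyp64 R ι) (a : GL (Fin 4) F) (ha : a ∈ R) (z : F) (hz : (a : M4 F) = z • (1 : M4 F)) :
    z = 1 ∨ z = -1 ∨ z = ι ∨ z = -ι := by
  have hzz : ((a * a : GL (Fin 4) F) : M4 F) = (z * z) • (1 : M4 F) := by
    rw [Units.val_mul, hz, Matrix.smul_mul, Matrix.mul_smul, Matrix.one_mul, smul_smul]
  rcases h.sq a ha with e | e
  · rw [e, Units.val_one] at hzz
    have h00 := congrFun (congrFun hzz 0) 0
    simp only [Matrix.one_apply_eq, Matrix.smul_apply, smul_eq_mul, mul_one] at h00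
    have : (z - 1) * (z + 1) = 0 := by linear_combination -h00
    rcases mul_eq_zero.mp this with e1 | e1
    · left; exact sub_eq_zero.mp e1
    · right; left; exact eq_neg_of_add_eq_zero_left e1
  · rw [e, coe_neg_one] at hzz
    have h00 := congrFun (congrFun hzz 0) 0
    simp only [Matrix.neg_apply, Matrix.one_apply_eq, Matrix.smul_apply, smul_eq_mul, mul_one] at h00
    have : (z - ι) * (z + ι) = 0 := by linear_combination -h00 - h.iota_sq
    rcases mul_eq_zero.mp this with e1 | e1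
    · right; right; left; exact sub_eq_zero.mp e1
    · right; right; right; exact eq_neg_of_add_eq_zero_left e1

/-- NOSEVEN64 -/
theorem not_card_cent_eight {F : Type*} [Field F] {R : Subgroup (GL (Fin 4) F)} {ι : F}
    (h : Hyp64 R ι) (y : GL (Fin 4) F) (hy : y ∈ Cfsg.Geo.subgroupNormalizer R)
    (hyr : ∃ z : F, ((y ^ 7 : GL (Fin 4) F) : M4 F) = z • (1 : M4 F))
    (hc : Nat.card {a : GL (Fin 4) F // a ∈ R ∧ y * a * y⁻¹ = a} = 8) : False := by
  classical
  haveI : Fact (Nat.Prime 7) := ⟨by norm_num⟩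
  obtain ⟨z, hz⟩ := hyr
  have hN := (mem_normalizer_iff' R y).mp hy
  haveI : Finite ↥R := Nat.finite_of_card_ne_zero (by rw [h.card]; norm_num)
  rw [card_centR] at hc
  have hle : centR R y ≤ R := inf_le_left
  haveI : Finite ↥(centR R y) := Finite.of_injective (fun a => (⟨a.1, hle a.2⟩ : ↥R))
    (fun a b e => Subtype.ext (congrArg (fun u : ↥R => u.1) e))
  haveI : Fintype ↥(centR R y) := Fintype.ofFinite _
  -- a nonscalar element of `C_R(y)`
  obtain ⟨c, hcns⟩ : ∃ c : ↥(centR R y), ∀ w : F, (c.1 : M4 F) ≠ w • (1 : M4 F) := by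
    by_contra hcon
    push Not at hcon
    choose f hf using hcon
    let T : Finset F := {1, -1, ι, -ι}
    have hfT : ∀ c : ↥(centR R y), f c ∈ T := by
      intro c
      have := NOSEVEN.scalar_cases' h c.1 (hle c.2) (f c) (hf c)
      simp only [T, Finset.mem_insert, Finset.mem_singleton]
      exact this
    have hinj : Function.Injective (fun c : ↥(centR R y) => (⟨f c, hfT c⟩ : ↥T)) := by
      intro c d hcd
      have e : f c = f d := congrArg Subtype.val hcd
      apply Subtype.ext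
      apply Units.ext
      rw [hf c, hf d, e]
    have h1 := Fintype.card_le_of_injective _ hinj
    rw [← Nat.card_eq_fintype_card, hc, Fintype.card_coe] at h1
    have h2 : T.card ≤ 4 := Finset.card_le_four
    omega
  obtain ⟨hcR, hcy⟩ := (mem_centR R y c.1).mp c.2
  have hcy' : y⁻¹ * c.1 * y = c.1 := by
    calc y⁻¹ * c.1 * y = y⁻¹ * (y * c.1 * y⁻¹) * y := by rw [hcy]
      _ = c.1 := by group
  -- the centralizer of `c`
  let S : Set (GL (Fin 4) F) := {a | a ∈ R ∧ a * c.1 = c.1 * a}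
  have hSfin : S.Finite :=
    Set.Finite.subset (Set.toFinite (R : Set (GL (Fin 4) F))) (fun a ha => ha.1)
  have hScard : Nat.card S = 32 := card_centralizer h c.1 hcR hcns
  have hconjS : ∀ a ∈ S, y * a * y⁻¹ ∈ S := by
    rintro a ⟨haR, hac⟩
    refine ⟨(hN a).mp haR, ?_⟩
    calc (y * a * y⁻¹) * c.1 = y * (a * (y⁻¹ * c.1 * y)) * y⁻¹ := by group
      _ = y * ((y⁻¹ * c.1 * y) * a) * y⁻¹ := by rw [hcy', hac]
      _ = c.1 * (y * a * y⁻¹) := by group
  have hfix := Cfsg.Agent.S6002P.card_modEq_card_fixed S hSfin y 7 hconjS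
    (fun a _ => conj_eq_of_scalar hz a)
  rw [hScard] at hfix
  -- the fixed points form the subgroup `C_R(y) ⊓ C(c)` of `C_R(y)`
  let E : Subgroup (GL (Fin 4) F) :=
    centR R y ⊓ Subgroup.centralizer ({c.1} : Set (GL (Fin 4) F))
  have hmemE : ∀ a : GL (Fin 4) F, a ∈ E ↔ a ∈ S ∧ y * a * y⁻¹ = a := by
    intro a
    show a ∈ centR R y ∧ a ∈ Subgroup.centralizer ({c.1} : Set (GL (Fin 4) F)) ↔ _
    rw [mem_centR, Subgroup.mem_centralizer_iff]
    constructor
    · rintro ⟨⟨haR, hay⟩, hac⟩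
      exact ⟨⟨haR, (hac c.1 rfl).symm⟩, hay⟩
    · rintro ⟨⟨haR, hac⟩, hay⟩
      refine ⟨⟨haR, hay⟩, ?_⟩
      intro g hg
      rw [Set.mem_singleton_iff] at hg
      rw [hg]; exact hac.symm
  have hEcard : Nat.card {a : GL (Fin 4) F // a ∈ S ∧ y * a * y⁻¹ = a} = Nat.card E :=
    Nat.card_congr (Equiv.subtypeEquivRight (fun a => (hmemE a).symm))
  rw [hEcard] at hfix
  have hEle : E ≤ centR R y := inf_le_left
  have hEdvd : Nat.card E ∣ 8 := by
    have := Subgroup.card_dvd_of_le hEle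
    rwa [hc] at this
  haveI : Finite ↥E := Finite.of_injective (fun a => (⟨a.1, hEle a.2⟩ : ↥(centR R y)))
    (fun a b e => Subtype.ext (congrArg (fun u : ↥(centR R y) => u.1) e))
  -- `E` contains the scalars of order 4 and `c`
  obtain ⟨ci, hciR, hci⟩ := h.iota_mem
  have hciE : ci ∈ E := by
    rw [hmemE]
    refine ⟨⟨hciR, gl_comm_of_scalar hci c.1⟩, ?_⟩
    rw [← gl_comm_of_scalar hci y, mul_assoc, mul_inv_cancel, mul_one]
  have hcE : c.1 ∈ E := by
    rw [hmemE]
    exact ⟨⟨hcR, rfl⟩, hcy⟩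
  have hZle : Subgroup.zpowers ci ≤ E := by
    rw [Subgroup.zpowers_le]
    exact hciE
  have hZcard : Nat.card (Subgroup.zpowers ci) = 4 := by
    rw [Nat.card_zpowers]
    exact h.orderOf_iota hci
  have hZsc : Subgroup.zpowers ci ≤ Cfsg.Geo.scalars (Fin 4) F := by
    rw [Subgroup.zpowers_le, Cfsg.Geo.mem_scalars_iff]
    have hι0 : ι ≠ 0 := by
      intro e
      have := h.iota_sq
      rw [e, mul_zero] at this
      exact one_ne_zero (neg_eq_zero.mp this.symm)
    exact ⟨Units.mk0 ι hι0, hci⟩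
  have hcnZ : c.1 ∉ Subgroup.zpowers ci := by
    intro hcZ
    obtain ⟨w, hw⟩ := (Cfsg.Geo.mem_scalars_iff c.1).mp (hZsc hcZ)
    exact hcns _ hw
  have hdvd4 : 4 ∣ Nat.card E := by
    have := Subgroup.card_dvd_of_le hZle
    rwa [hZcard] at this
  have hne4 : Nat.card E ≠ 4 := by
    intro e4
    have heq : Subgroup.zpowers ci = E := by
      apply Subgroup.eq_of_le_of_card_ge hZle
      rw [hZcard, e4]
    rw [← heq] at hcE
    exact hcnZ hcE
  have hle8 : Nat.card E ≤ 8 := Nat.le_of_dvd (by norm_num) hEdvd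
  have hpos : 0 < Nat.card E := Nat.card_pos
  obtain ⟨m, hm⟩ := hdvd4
  have h8 : Nat.card E = 8 := by omega
  rw [h8] at hfix
  exact absurd hfix (by decide)

end Cfsg.Agent.S6000P
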