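import Mathlib
import Cfsg.Prelude.Def_GeometricClasses
import Cfsg.Agent.Helper20.S6000Defs
import Cfsg.Agent.Helper23.S6000INVTRACE
import Cfsg.Agent.Helper13.InvolConj

set_option autoImplicit false
open scoped MatrixGroups Matrix

/-! S6000 piece INVCONJ (driver helper20): two nonscalar involutions of `GL₄(F)` (`2 ≠ 0`) with the same
trace are conjugate by a matrix of determinant one. -/

namespace Cfsg.Agent.S6000P

namespace INVCONJ

variable {F : Type*} [Field F]

open Module

/-- small natural numbers are determined by their images in a field with `2 ≠ 0` -/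
theorem nat_eq_of_cast (h2 : (2 : F) ≠ 0) (a b : ℕ) (ha1 : 1 ≤ a) (ha3 : a ≤ 3) (hb1 : 1 ≤ b)
    (hb3 : b ≤ 3) (e : (a : F) = (b : F)) : a = b := by
  interval_cases a <;> interval_cases b <;> push_cast at e <;>
    first
      | rfl
      | exact absurd (by linear_combination -e) (one_ne_zero : (1 : F) ≠ 0)
      | exact absurd (by linear_combination e) (one_ne_zero : (1 : F) ≠ 0)
      | exact absurd (by linear_combination -e) h2
      | exact absurd (by linear_combination e) h2

theorem eigenspace_neg_one (T : M4 F) :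
    End.eigenspace (Matrix.toLin' T) (-1) = INVTRACE.Em T := by
  ext v
  rw [End.mem_eigenspace_iff, INVTRACE.mem_Em, Matrix.toLin'_apply, neg_one_smul]

/-- an element of the centralizer of an involution `X ≠ -1` with prescribed determinant -/
theorem exists_cent_det (h2 : (2 : F) ≠ 0) (X : M4 F) (hX : X * X = 1)
    (hpos : 1 ≤ finrank F (INVTRACE.Ep X)) (l : F) :
    ∃ c : M4 F, c.det = l ∧ X * c = c * X := by
  classical
  have hne : INVTRACE.Ep X ≠ ⊥ := by
    intro e
    rw [e, finrank_bot] at hpos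
    omega
  obtain ⟨v, hv, hv0⟩ := Submodule.exists_mem_ne_zero_of_ne_bot hne
  rw [INVTRACE.mem_Ep] at hv
  obtain ⟨j, hj⟩ : ∃ j, v j ≠ 0 := by
    by_contra hcon
    push Not at hcon
    exact hv0 (funext hcon)
  set P : M4 F := (2 : F)⁻¹ • (1 + X) with hP
  have hPX : P * X = P := by
    rw [hP, Matrix.smul_mul, add_mul, Matrix.one_mul, hX, add_comm]
  have hPv : P.mulVec v = v := by
    rw [hP, Matrix.smul_mulVec, Matrix.add_mulVec, Matrix.one_mulVec, hv, ← two_smul F v, smul_smul,
      inv_mul_cancel₀ h2, one_smul]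
  set r : Fin 4 → F := fun i => (v j)⁻¹ * P j i with hr
  have hrv : r ⬝ᵥ v = 1 := by
    have : r ⬝ᵥ v = (v j)⁻¹ * (P.mulVec v) j := by
      simp only [dotProduct, hr, Matrix.mulVec, Finset.mul_sum, mul_assoc]
    rw [this, hPv, inv_mul_cancel₀ hj]
  have hrX : Matrix.vecMul r X = r := by
    funext i
    have : Matrix.vecMul r X i = (v j)⁻¹ * (P * X) j i := by
      simp only [Matrix.vecMul, dotProduct, hr, Matrix.mul_apply, Finset.mul_sum, mul_assoc]
    rw [this, hPX]
  set w : Fin 4 → F := (l - 1) • v with hw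
  have hXw : X.mulVec w = w := by rw [hw, Matrix.mulVec_smul, hv]
  refine ⟨1 + Matrix.vecMulVec w r, ?_, ?_⟩
  · rw [Matrix.vecMulVec_eq (Fin 1), Matrix.det_one_add_replicateCol_mul_replicateRow, hw,
      dotProduct_smul, hrv, smul_eq_mul, mul_one]
    ring
  · rw [mul_add, add_mul, Matrix.mul_one, Matrix.one_mul, Matrix.mul_vecMulVec, Matrix.vecMulVec_mul,
      hXw, hrX]

end INVCONJ

open INVCONJ Module in
/-- INVCONJ -/
theorem invol_conj_sl {F : Type*} [Field F] (h2 : (2 : F) ≠ 0) (x y : GL (Fin 4) F)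
    (hx : x * x = 1) (hy : y * y = 1) (hxns : ∀ z : F, (x : M4 F) ≠ z • (1 : M4 F))
    (hyns : ∀ z : F, (y : M4 F) ≠ z • (1 : M4 F))
    (htr : Matrix.trace (x : M4 F) = Matrix.trace (y : M4 F)) :
    ∃ g ∈ Cfsg.Geo.specialLinear (Fin 4) F, g⁻¹ * x * g = y := by
  classical
  set X : M4 F := (x : M4 F) with hXdef
  set Y : M4 F := (y : M4 F) with hYdef
  have hX : X * X = 1 := by rw [hXdef, ← Units.val_mul, hx, Units.val_one]
  have hY : Y * Y = 1 := by rw [hYdef, ← Units.val_mul, hy, Units.val_one]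
  obtain ⟨hx1, hx3⟩ := INVTRACE.finrank_pos h2 X hX hxns
  obtain ⟨hy1, hy3⟩ := INVTRACE.finrank_pos h2 Y hY hyns
  have hk : finrank F (INVTRACE.Ep X) = finrank F (INVTRACE.Ep Y) := by
    have e1 := INVTRACE.trace_eq h2 X hX
    have e2 := INVTRACE.trace_eq h2 Y hY
    have e : (2 : F) * (finrank F (INVTRACE.Ep X) : F) = 2 * (finrank F (INVTRACE.Ep Y) : F) := by
      linear_combination e2 - e1 + htr
    exact nat_eq_of_cast h2 _ _ hx1 hx3 hy1 hy3 (mul_left_cancel₀ h2 e)
  have hkm : finrank F (End.eigenspace (Matrix.toLin' X) (-(1 : F))) =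
      finrank F (End.eigenspace (Matrix.toLin' Y) (-(1 : F))) := by
    rw [eigenspace_neg_one, eigenspace_neg_one]
    have a1 := INVTRACE.finrank_add h2 X hX
    have a2 := INVTRACE.finrank_add h2 Y hY
    omega
  have hfX : Matrix.toLin' X * Matrix.toLin' X = ((1 : F) * 1) • (1 : Module.End F (Fin 4 → F)) := by
    rw [mul_one, one_smul]
    apply LinearMap.ext
    intro v
    show Matrix.toLin' X (Matrix.toLin' X v) = v
    rw [Matrix.toLin'_apply, Matrix.toLin'_apply, Matrix.mulVec_mulVec, hX, Matrix.one_mulVec]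
  have hfY : Matrix.toLin' Y * Matrix.toLin' Y = ((1 : F) * 1) • (1 : Module.End F (Fin 4 → F)) := by
    rw [mul_one, one_smul]
    apply LinearMap.ext
    intro v
    show Matrix.toLin' Y (Matrix.toLin' Y v) = v
    rw [Matrix.toLin'_apply, Matrix.toLin'_apply, Matrix.mulVec_mulVec, hY, Matrix.one_mulVec]
  obtain ⟨H, hH⟩ := Cfsg.Agent.Helper13.InvolConj.exists_intertwiner_split
    (Matrix.toLin' X) (Matrix.toLin' Y) (1 : F) one_ne_zero h2 hfX hfY hkm
  set G : M4 F := LinearMap.toMatrix' H.toLinearMap with hG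
  set Gi : M4 F := LinearMap.toMatrix' H.symm.toLinearMap with hGi
  have hGGi : G * Gi = 1 := by
    rw [hG, hGi, ← LinearMap.toMatrix'_comp]
    have : H.toLinearMap ∘ₗ H.symm.toLinearMap = LinearMap.id := by
      ext v : 1
      simp
    rw [this, LinearMap.toMatrix'_id]
  have hGiG : Gi * G = 1 := by
    rw [hG, hGi, ← LinearMap.toMatrix'_comp]
    have : H.symm.toLinearMap ∘ₗ H.toLinearMap = LinearMap.id := by
      ext v : 1
      simp
    rw [this, LinearMap.toMatrix'_id]
  have hGX : G * X = Y * G := by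
    have e : H.toLinearMap ∘ₗ Matrix.toLin' X = Matrix.toLin' Y ∘ₗ H.toLinearMap := by
      apply LinearMap.ext
      intro v
      exact hH v
    have := congrArg LinearMap.toMatrix' e
    rw [LinearMap.toMatrix'_comp, LinearMap.toMatrix'_comp, LinearMap.toMatrix'_toLin',
      LinearMap.toMatrix'_toLin'] at this
    exact this
  have hXGi : X * Gi = Gi * Y := by
    calc X * Gi = (Gi * G) * X * Gi := by rw [hGiG, Matrix.one_mul]
      _ = Gi * (G * X) * Gi := by simp only [Matrix.mul_assoc]
      _ = Gi * (Y * G) * Gi := by rw [hGX]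
      _ = Gi * Y * (G * Gi) := by simp only [Matrix.mul_assoc]
      _ = Gi * Y := by rw [hGGi, Matrix.mul_one]
  have hdet : G.det * Gi.det = 1 := by rw [← Matrix.det_mul, hGGi, Matrix.det_one]
  obtain ⟨c, hcdet, hcX⟩ := exists_cent_det h2 X hX hx1 G.det
  have hgdet : (c * Gi).det = 1 := by rw [Matrix.det_mul, hcdet, hdet]
  let g : GL (Fin 4) F := Matrix.GeneralLinearGroup.mkOfDetNeZero (c * Gi) (by
    rw [hgdet]; exact one_ne_zero)
  have hg : (g : M4 F) = c * Gi := rfl
  refine ⟨g, ?_, ?_⟩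
  · rw [mem_specialLinear_iff, hg, hgdet]
  · have hxg : x * g = g * y := by
      apply Units.ext
      rw [Units.val_mul, Units.val_mul, hg]
      show X * (c * Gi) = c * Gi * Y
      calc X * (c * Gi) = (X * c) * Gi := by rw [Matrix.mul_assoc]
        _ = c * (X * Gi) := by rw [hcX, Matrix.mul_assoc]
        _ = c * Gi * Y := by rw [hXGi, Matrix.mul_assoc]
    rw [mul_assoc, hxg, inv_mul_cancel_left]

end Cfsg.Agent.S6000P
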