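import Mathlib
import Cfsg.Agent.Helper29.EsnDefs
import Cfsg.Agent.Helper6.EsnLINA1
import Cfsg.Agent.Helper15.EsnWSP
import Cfsg.Agent.Helper5.EsnNIL

set_option autoImplicit false

/-! S5877 piece HFROM: a `g`-fixed non-scalar twist of order `r`. -/

namespace Cfsg.Agent.S5877P

open Matrix Module

variable {n : ℕ} {F : Type*} [Field F] {r : ℕ} {Q : Subgroup (GLn n F)} {ζ : Fˣ}

namespace HFROM

/-- the subgroup of elements of `Q` fixing `W` pointwise -/
def fixSub (Q : Subgroup (GLn n F)) (W : Submodule F (Fin n → F)) : Subgroup (GLn n F) where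
  carrier := {u | u ∈ Q ∧ Fixes u W}
  one_mem' := ⟨Q.one_mem, fun v _ => one_mulVec' v⟩
  mul_mem' := by
    rintro x y ⟨hx, hxW⟩ ⟨hy, hyW⟩
    refine ⟨Q.mul_mem hx hy, fun v hv => ?_⟩
    rw [mul_mulVec, hyW v hv, hxW v hv]
  inv_mem' := by
    rintro x ⟨hx, hxW⟩
    refine ⟨Q.inv_mem hx, fun v hv => ?_⟩
    have h1 := hxW v hv
    calc ((x⁻¹ : GLn n F) : Matrix (Fin n) (Fin n) F) *ᵥ v
        = ((x⁻¹ : GLn n F) : Matrix (Fin n) (Fin n) F) *ᵥ
            ((x : Matrix (Fin n) (Fin n) F) *ᵥ v) := by rw [h1]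
      _ = v := inv_mulVec_mulVec x v

theorem mem_fixSub (Q : Subgroup (GLn n F)) (W : Submodule F (Fin n → F)) (u : GLn n F) :
    u ∈ fixSub Q W ↔ u ∈ Q ∧ Fixes u W := Iff.rfl

theorem exists_ne_zero_of_ne_bot (W : Submodule F (Fin n → F)) (hW : W ≠ ⊥) :
    ∃ v ∈ W, v ≠ 0 := by
  by_contra hcon
  push Not at hcon
  apply hW
  rw [eq_bot_iff]
  intro v hv
  rw [Submodule.mem_bot]
  exact hcon v hv

/-- a scalar in `fixSub` is `1` -/
theorem eq_one_of_scalar (W : Submodule F (Fin n → F)) (hW : W ≠ ⊥) (u : GLn n F)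
    (hu : Fixes u W) (huZ : u ∈ Zs n F) : u = 1 := by
  obtain ⟨v, hv, hv0⟩ := exists_ne_zero_of_ne_bot W hW
  obtain ⟨s, rfl⟩ := (mem_Zs_iff u).mp huZ
  have := sc_eq_one_of_fixed s v hv0 (hu v hv)
  rw [this, map_one]

end HFROM

open HFROM in
theorem exists_fixed_twist (hC : Cfg n F r Q ζ) (g : GLn n F)
    (hg : ∀ a, a ∈ Q ↔ g * a * g⁻¹ ∈ Q) (hgr : g ^ r = 1) (c : F)
    (hd : n < 2 * finrank F (Eig g c)) (a : GLn n F) (ha : a ∈ Q) (hta : tw g a ∉ Zs n F) :
    ∃ b ∈ Q, tw g b ∉ Zs n F ∧ g * tw g b = tw g b * g ∧ (tw g b) ^ r = 1 := by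
  classical
  -- `c ≠ 0`
  have hc : c ≠ 0 := by
    rintro rfl
    rw [Eig_zero] at hd
    simp at hd
  -- `W ≠ ⊥`
  have hWge := finrank_Wsp_ge g c a
  set W := Wsp g c a with hWdef
  have hWpos : 0 < finrank F W := by omega
  have hW : W ≠ ⊥ := by
    intro h
    rw [h] at hWpos
    simp at hWpos
  have hWE : W ≤ Eig g c := by
    intro v hv
    exact ((mem_Wsp g c a v).mp hv).1
  -- the subgroup
  set A := fixSub Q W with hA
  have hAab : ∀ u ∈ A, ∀ v ∈ A, u * v = v * u := by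
    rintro u ⟨hu, huW⟩ v ⟨hv, hvW⟩
    exact comm_of_common_fixed hC u v hu hv W hW huW hvW
  have hAexp : ∀ u ∈ A, u ^ r = 1 := by
    rintro u ⟨hu, huW⟩
    have h1 : u ^ r ∈ A := A.pow_mem ⟨hu, huW⟩ r
    exact eq_one_of_scalar W hW _ h1.2 (hC.pow u hu)
  have hAg : ∀ u ∈ A, g * u * g⁻¹ ∈ A := by
    rintro u ⟨hu, huW⟩
    exact ⟨(hg u).mp hu, conj_fixes g u c hc W hWE huW⟩
  -- the twist map
  set f : GLn n F → GLn n F := fun x => x⁻¹ * (g * x * g⁻¹) with hf
  have hfQ : ∀ x ∈ Q, f x ∈ Q := fun x hx => Q.mul_mem (Q.inv_mem hx) ((hg x).mp hx)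
  have hfA : ∀ x ∈ A, f x ∈ A := fun x hx => A.mul_mem (A.inv_mem hx) (hAg x hx)
  have hftw : ∀ x, f x = tw g x := fun x => rfl
  have hitQ : ∀ i, f^[i] a ∈ Q := by
    intro i
    induction i with
    | zero => exact ha
    | succ i ih => rw [Function.iterate_succ_apply']; exact hfQ _ ih
  have hb0 : f a ∈ A := ⟨hfQ a ha, tw_fixes_Wsp g a c hc⟩
  have hitA : ∀ i, f^[i + 1] a ∈ A := by
    intro i
    induction i with
    | zero => exact hb0
    | succ i ih => rw [Function.iterate_succ_apply']; exact hfA _ ih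
  -- NIL
  have hnil : f^[r + 1] a = 1 := by
    rw [Function.iterate_succ_apply]
    exact iterate_twist_eq_one A hAab r hC.prime hAexp g hAg hgr (f a) hb0
  have hex : ∃ m, f^[m] a = 1 := ⟨r + 1, hnil⟩
  set m := Nat.find hex with hm
  have hm1 : f^[m] a = 1 := Nat.find_spec hex
  have hmin : ∀ i, i < m → f^[i] a ≠ 1 := fun i hi => Nat.find_min hex hi
  have h1Z : (1 : GLn n F) ∈ Zs n F := (Zs n F).one_mem
  have hm2 : 2 ≤ m := by
    by_contra hlt
    push Not at hlt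
    have : m = 0 ∨ m = 1 := by omega
    rcases this with h0 | h0
    · rw [h0] at hm1
      simp only [Function.iterate_zero, id_eq] at hm1
      apply hta
      rw [hm1]
      unfold tw
      simp only [inv_one, mul_one, one_mul, mul_inv_cancel]
      exact h1Z
    · rw [h0] at hm1
      simp only [Function.iterate_one] at hm1
      apply hta
      rw [← hftw, hm1]
      exact h1Z
  obtain ⟨m', hm'⟩ : ∃ m', m = m' + 2 := ⟨m - 2, by omega⟩
  refine ⟨f^[m'] a, hitQ m', ?_, ?_, ?_⟩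
  · -- not scalar
    rw [← hftw, ← Function.iterate_succ_apply' f m' a]
    intro hZ
    have := eq_one_of_scalar W hW _ (hitA m').2 hZ
    exact hmin (m' + 1) (by omega) this
  · -- commutes with g
    rw [← hftw, ← Function.iterate_succ_apply' f m' a]
    have h2 : f (f^[m' + 1] a) = 1 := by
      rw [← Function.iterate_succ_apply' f (m' + 1) a]
      show f^[m' + 2] a = 1
      rw [← hm', hm1]
    set x := f^[m' + 1] a with hx
    have h3 : x⁻¹ * (g * x * g⁻¹) = 1 := h2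
    have h4 : g * x * g⁻¹ = x := by
      have := congrArg (fun y => x * y) h3
      simpa [mul_assoc] using this
    calc g * x = g * x * g⁻¹ * g := by group
      _ = x * g := by rw [h4]
  · rw [← hftw, ← Function.iterate_succ_apply' f m' a]
    exact hAexp _ (hitA m')

end Cfsg.Agent.S5877P
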