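import Mathlib
import Cfsg.Agent.Helper4.LSDefs
import Cfsg.Agent.Helper12.SLTrans

set_option autoImplicit false

/-! S2334 piece GLT: `GL` is transitive on non-zero vectors. -/

namespace Cfsg.Agent.S2334P

open Matrix

variable {K : Type*} [Field K]

theorem exists_gl_mulVec_single (m : ℕ) (u : Fin (m + 1) → K) (hu : u ≠ 0) :
    ∃ g : Matrix.GeneralLinearGroup (Fin (m + 1)) K,
      (g : Matrix (Fin (m + 1)) (Fin (m + 1)) K) *ᵥ Pi.single 0 1 = u := by
  classical
  rcases Nat.eq_zero_or_pos m with hm | hm
  · subst hm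
    haveI : Subsingleton (Fin (0 + 1)) := by
      rw [Nat.zero_add]; infer_instance
    have hu0 : u 0 ≠ 0 := by
      intro h0
      apply hu
      funext i
      rw [Subsingleton.elim i 0, h0]
      rfl
    refine ⟨Matrix.GeneralLinearGroup.mkOfDetNeZero ((u 0) • (1 : Matrix (Fin 1) (Fin 1) K)) ?_, ?_⟩
    · rw [Matrix.det_smul, Matrix.det_one, mul_one, Fintype.card_fin, pow_one]
      exact hu0
    · show ((u 0) • (1 : Matrix (Fin 1) (Fin 1) K)) *ᵥ Pi.single 0 1 = u
      funext i
      rw [Subsingleton.elim i 0]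
      simp
  · have h1 : LinearIndependent K (fun _ : Fin 1 => (Pi.single 0 1 : Fin (m + 1) → K)) := by
      rw [linearIndependent_unique_iff]
      intro h
      have := congrFun h 0
      simp at this
    have h2 : LinearIndependent K (fun _ : Fin 1 => u) := by
      rw [linearIndependent_unique_iff]
      exact hu
    obtain ⟨g, hg⟩ := Cfsg.Agent.Helper12.exists_sl_map_family (F := K)
      (n := m + 1) (k := 1) (by omega) _ _ h1 h2
    refine ⟨(g : Matrix.GeneralLinearGroup (Fin (m + 1)) K), ?_⟩
    exact hg 0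

end Cfsg.Agent.S2334P
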