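import Mathlib
import Cfsg.Agent.Helper4.LSDefs
import Cfsg.Agent.Helper4.LS34GLT

set_option autoImplicit false

/-! S2334 piece ORBA: the quadratic function `u ↦ uᴴ S u` of an anti-Hermitian matrix:
congruence, polarisation, and the count of the solutions of `uᴴ S u = s₀`. -/

namespace Cfsg.Agent.Helper4.LS34ORBA

open Matrix Cfsg.Agent.S2334P Cfsg.Agent.Helper2.SUGen

variable {K : Type*} [Field K] {q : ℕ}

/-- the sesquilinear form `(u, v) ↦ uᴴ S v` -/
def sq (σ : K →+* K) {m : ℕ} (S : Matrix (Fin m) (Fin m) K) (u v : Fin m → K) : K :=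
  (σ ∘ u) ⬝ᵥ (S *ᵥ v)

theorem qf_eq_sq (σ : K →+* K) {m : ℕ} (S : Matrix (Fin m) (Fin m) K) (u : Fin m → K) :
    qf σ S u = sq σ S u u := rfl

theorem sq_add_left (σ : K →+* K) {m : ℕ} (S : Matrix (Fin m) (Fin m) K) (u u' v : Fin m → K) :
    sq σ S (u + u') v = sq σ S u v + sq σ S u' v := by
  unfold sq
  have : σ ∘ (u + u') = σ ∘ u + σ ∘ u' := by
    funext i; simp
  rw [this, add_dotProduct]

theorem sq_add_right (σ : K →+* K) {m : ℕ} (S : Matrix (Fin m) (Fin m) K) (u v v' : Fin m → K) :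
    sq σ S u (v + v') = sq σ S u v + sq σ S u v' := by
  unfold sq
  rw [Matrix.mulVec_add, dotProduct_add]

theorem sq_smul_right (σ : K →+* K) {m : ℕ} (S : Matrix (Fin m) (Fin m) K) (c : K)
    (u v : Fin m → K) : sq σ S u (c • v) = c * sq σ S u v := by
  unfold sq
  rw [Matrix.mulVec_smul, dotProduct_smul, smul_eq_mul]

theorem sq_single (σ : K →+* K) {m : ℕ} (S : Matrix (Fin m) (Fin m) K) (i j : Fin m) :
    sq σ S (Pi.single i 1) (Pi.single j 1) = S i j := by
  classical
  unfold sq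
  have h1 : σ ∘ (Pi.single i (1 : K) : Fin m → K) = Pi.single i 1 := by
    funext k
    by_cases h : k = i
    · subst h; simp
    · simp [Pi.single_apply, h]
  rw [h1, Matrix.mulVec_single_one, single_one_dotProduct]
  rfl

/-- for anti-Hermitian `S`: `vᴴ S u = -σ(uᴴ S v)` -/
theorem sq_swap (D : Frob K q) {m : ℕ} (S : AH D.σ m) (u v : Fin m → K) :
    sq D.σ S.1 v u = -D.σ (sq D.σ S.1 u v) := by
  have hS : ∀ i j, D.σ (S.1 j i) = -S.1 i j := by
    intro i j
    have := congrFun (congrFun ((mem_AH D.σ m S.1).mp S.2) i) j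
    rwa [ct_apply, Matrix.neg_apply] at this
  unfold sq
  simp only [dotProduct, Matrix.mulVec, Function.comp_apply, map_sum, map_mul, D.invol,
    Finset.mul_sum]
  rw [Finset.sum_comm, ← Finset.sum_neg_distrib]
  apply Finset.sum_congr rfl
  intro i _
  rw [← Finset.sum_neg_distrib]
  apply Finset.sum_congr rfl
  intro j _
  rw [hS j i]
  ring

end Cfsg.Agent.Helper4.LS34ORBA

namespace Cfsg.Agent.S2334P

open Matrix Cfsg.Agent.Helper2.SUGen Cfsg.Agent.Helper4.LS34ORBA

variable {K : Type*} [Field K] {q : ℕ}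

theorem qf_congT (D : Frob K q) {m : ℕ} (g : Matrix (Fin m) (Fin m) K) (S : AH D.σ m)
    (u : Fin m → K) : qf D.σ (congT D.invol g S).1 u = qf D.σ S.1 (g *ᵥ u) := by
  show (D.σ ∘ u) ⬝ᵥ ((ct D.σ g * S.1 * g) *ᵥ u) = (D.σ ∘ (g *ᵥ u)) ⬝ᵥ (S.1 *ᵥ (g *ᵥ u))
  rw [← Matrix.mulVec_mulVec, ← Matrix.mulVec_mulVec, Matrix.dotProduct_mulVec]
  congr 1
  funext j
  simp only [Matrix.vecMul, dotProduct, Function.comp_apply, ct_apply, Matrix.mulVec, map_sum,
    map_mul]
  apply Finset.sum_congr rfl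
  intro i _
  ring

theorem exists_qf_ne_zero (D : Frob K q) {m : ℕ} (S : AH D.σ m) (hS : S ≠ 0) :
    ∃ u, qf D.σ S.1 u ≠ 0 := by
  classical
  by_contra hcon
  push Not at hcon
  apply hS
  obtain ⟨t, ht⟩ : ∃ t, D.σ t ≠ t := by
    by_contra h
    push Not at h
    exact D.ne_id (RingHom.ext h)
  have hsym : ∀ u v, sq D.σ S.1 u v + sq D.σ S.1 v u = 0 := by
    intro u v
    have h1 := hcon (u + v)
    rw [qf_eq_sq, sq_add_left, sq_add_right, sq_add_right] at h1
    have h2 := hcon u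
    have h3 := hcon v
    rw [qf_eq_sq] at h2 h3
    rw [h2, h3] at h1
    linear_combination h1
  have hfix : ∀ u v, D.σ (sq D.σ S.1 u v) = sq D.σ S.1 u v := by
    intro u v
    have := hsym u v
    rw [sq_swap D S u v] at this
    linear_combination -this
  have hzero : ∀ u v, sq D.σ S.1 u v = 0 := by
    intro u v
    have h1 := hfix u (t • v)
    rw [sq_smul_right, map_mul, hfix u v] at h1
    have h2 : (D.σ t - t) * sq D.σ S.1 u v = 0 := by linear_combination h1
    rcases mul_eq_zero.mp h2 with h | h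
    · exact absurd (sub_eq_zero.mp h) ht
    · exact h
  apply Subtype.ext
  ext i j
  rw [← sq_single D.σ S.1 i j, hzero]
  rfl

end Cfsg.Agent.S2334P

namespace Cfsg.Agent.Helper4.LS34ORBA

open Matrix Polynomial Cfsg.Agent.S2334P Cfsg.Agent.Helper2.SUGen

variable {K : Type*} [Field K] {q : ℕ}

/-- expansion of `qf` in the first coordinate -/
theorem qf_expand (σ : K →+* K) {m : ℕ} (S : Matrix (Fin (m + 1)) (Fin (m + 1)) K)
    (u : Fin (m + 1) → K) :
    qf σ S u = S 0 0 * (σ (u 0) * u 0) + σ (u 0) * (∑ j : Fin m, S 0 j.succ * u j.succ)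
      + u 0 * (∑ i : Fin m, σ (u i.succ) * S i.succ 0)
      + ∑ i : Fin m, σ (u i.succ) * ∑ j : Fin m, S i.succ j.succ * u j.succ := by
  unfold qf
  simp only [dotProduct, Matrix.mulVec, Function.comp_apply, Fin.sum_univ_succ]
  rw [show (∑ i : Fin m, σ (u i.succ) * (S i.succ 0 * u 0 + ∑ j : Fin m, S i.succ j.succ * u j.succ))
      = u 0 * (∑ i : Fin m, σ (u i.succ) * S i.succ 0)
        + ∑ i : Fin m, σ (u i.succ) * ∑ j : Fin m, S i.succ j.succ * u j.succ from by
    rw [Finset.mul_sum, ← Finset.sum_add_distrib]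
    apply Finset.sum_congr rfl
    intro i _
    ring]
  ring

/-- the polynomial in the first coordinate -/
noncomputable def fibPoly (σ : K →+* K) (q : ℕ) {m : ℕ} (S : Matrix (Fin (m + 1)) (Fin (m + 1)) K)
    (s₀ : K) (a : Fin m → K) : K[X] :=
  C (S 0 0) * X ^ (q + 1) + C (∑ j : Fin m, S 0 j.succ * a j) * X ^ q
    + C (∑ i : Fin m, σ (a i) * S i.succ 0) * X
    + C ((∑ i : Fin m, σ (a i) * ∑ j : Fin m, S i.succ j.succ * a j) - s₀)

theorem fibPoly_natDegree_le (σ : K →+* K) (q : ℕ) {m : ℕ}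
    (S : Matrix (Fin (m + 1)) (Fin (m + 1)) K) (s₀ : K) (a : Fin m → K) :
    (fibPoly σ q S s₀ a).natDegree ≤ q + 1 := by
  unfold fibPoly
  compute_degree
  all_goals omega

theorem fibPoly_ne_zero (σ : K →+* K) (q : ℕ) (hq : 2 ≤ q) {m : ℕ}
    (S : Matrix (Fin (m + 1)) (Fin (m + 1)) K) (hs : S 0 0 ≠ 0) (s₀ : K) (a : Fin m → K) :
    fibPoly σ q S s₀ a ≠ 0 := by
  intro h
  have h1 := congrArg (fun p : K[X] => p.coeff (q + 1)) h
  unfold fibPoly at h1
  simp only [coeff_add, coeff_C_mul, coeff_X_pow, coeff_X, coeff_C, coeff_zero] at h1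
  have e1 : ¬ (q + 1 = q) := by omega
  have e2 : ¬ (1 = q + 1) := by omega
  have e3 : ¬ (q + 1 = 0) := by omega
  simp only [if_true, if_neg e1, if_neg e2, if_neg e3, mul_one, mul_zero, add_zero] at h1
  exact hs h1

theorem fibPoly_eval (D : Frob K q) {m : ℕ} (S : Matrix (Fin (m + 1)) (Fin (m + 1)) K)
    (s₀ : K) (u : Fin (m + 1) → K) :
    (fibPoly D.σ q S s₀ (Fin.tail u)).eval (u 0) = qf D.σ S u - s₀ := by
  rw [qf_expand]
  unfold fibPoly
  simp only [eval_add, eval_mul, eval_C, eval_pow, eval_X, Fin.tail]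
  rw [D.pow (u 0)]
  ring

theorem two_le_q [Fintype K] (hK : Fintype.card K = q ^ 2) : 2 ≤ q := by
  have h1 : 1 < Fintype.card K := Fintype.one_lt_card
  rw [hK] at h1
  by_contra hlt
  push Not at hlt
  interval_cases q <;> simp at h1

/-- the count when the leading coefficient is non-zero -/
theorem ncard_le_of_lead [Fintype K] (D : Frob K q) (hK : Fintype.card K = q ^ 2) (m : ℕ)
    (S : Matrix (Fin (m + 1)) (Fin (m + 1)) K) (hs : S 0 0 ≠ 0) (s₀ : K) :
    {u : Fin (m + 1) → K | qf D.σ S u = s₀}.ncard ≤ (q + 1) * q ^ (2 * m) := by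
  classical
  have hq := two_le_q hK
  set Xs : Finset (Fin (m + 1) → K) := Finset.univ.filter (fun u => qf D.σ S u = s₀) with hXs
  have hX : {u : Fin (m + 1) → K | qf D.σ S u = s₀}.ncard = Xs.card := by
    rw [Set.ncard_eq_toFinset_card']
    congr 1
    ext u
    simp [hXs]
  rw [hX]
  have hfib : ∀ a ∈ Xs.image (Fin.tail : (Fin (m + 1) → K) → (Fin m → K)),
      (Xs.filter (fun u => Fin.tail u = a)).card ≤ q + 1 := by
    intro a _
    have hp := fibPoly_ne_zero D.σ q hq S hs s₀ a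
    calc (Xs.filter (fun u => Fin.tail u = a)).card
        ≤ (fibPoly D.σ q S s₀ a).roots.toFinset.card := by
          apply Finset.card_le_card_of_injOn (fun u => u 0)
          · intro u hu
            rw [Finset.mem_coe, Finset.mem_filter] at hu
            obtain ⟨huX, hua⟩ := hu
            rw [hXs, Finset.mem_filter] at huX
            rw [Finset.mem_coe, Multiset.mem_toFinset, mem_roots hp, IsRoot.def, ← hua,
              fibPoly_eval D S s₀ u, huX.2, sub_self]
          · intro u hu u' hu' h0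
            rw [Finset.mem_coe, Finset.mem_filter] at hu hu'
            have h0' : u 0 = u' 0 := h0
            funext i
            refine Fin.cases ?_ (fun j => ?_) i
            · exact h0'
            · have := congrFun (hu.2.trans hu'.2.symm) j
              exact this
      _ ≤ Multiset.card (fibPoly D.σ q S s₀ a).roots := Multiset.toFinset_card_le _
      _ ≤ (fibPoly D.σ q S s₀ a).natDegree := card_roots' _
      _ ≤ q + 1 := fibPoly_natDegree_le D.σ q S s₀ a
  have h1 := Finset.card_le_mul_card_image Xs (q + 1) hfib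
  have h2 : (Xs.image (Fin.tail : (Fin (m + 1) → K) → (Fin m → K))).card ≤ q ^ (2 * m) := by
    calc (Xs.image (Fin.tail : (Fin (m + 1) → K) → (Fin m → K))).card
        ≤ Fintype.card (Fin m → K) := Finset.card_le_univ _
      _ = q ^ (2 * m) := by
          rw [Fintype.card_fun, Fintype.card_fin, hK, ← pow_mul]
  exact h1.trans (Nat.mul_le_mul_left _ h2)

end Cfsg.Agent.Helper4.LS34ORBA

namespace Cfsg.Agent.S2334P

open Matrix Cfsg.Agent.Helper2.SUGen Cfsg.Agent.Helper4.LS34ORBA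

variable {K : Type*} [Field K] {q : ℕ}

theorem ncard_qf_eq_le [Fintype K] (D : Frob K q) (hK : Fintype.card K = q ^ 2) (m : ℕ)
    (S : AH D.σ (m + 1)) (hS : S ≠ 0) (s₀ : K) (hs₀ : s₀ ≠ 0) :
    {u : Fin (m + 1) → K | qf D.σ S.1 u = s₀}.ncard ≤ (q + 1) * q ^ (2 * m) := by
  classical
  obtain ⟨u₁, hu₁⟩ := exists_qf_ne_zero D S hS
  have hu₁0 : u₁ ≠ 0 := by
    rintro rfl
    apply hu₁
    unfold qf
    rw [Matrix.mulVec_zero, dotProduct_zero]
  obtain ⟨g, hg⟩ := exists_gl_mulVec_single m u₁ hu₁0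
  set S' := congT D.invol (g : Matrix (Fin (m + 1)) (Fin (m + 1)) K) S with hS'
  have hS'00 : S'.1 0 0 ≠ 0 := by
    have h1 : qf D.σ S'.1 (Pi.single 0 1) = S'.1 0 0 := by
      rw [qf_eq_sq, sq_single]
    rw [← h1, hS', qf_congT, hg]
    exact hu₁
  have hle := ncard_le_of_lead D hK m S'.1 hS'00 s₀
  refine le_trans ?_ hle
  have hginv : (g : Matrix (Fin (m + 1)) (Fin (m + 1)) K) *
      ((g⁻¹ : Matrix.GeneralLinearGroup (Fin (m + 1)) K) :
        Matrix (Fin (m + 1)) (Fin (m + 1)) K) = 1 := by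
    rw [← Units.val_mul, mul_inv_cancel, Units.val_one]
  have hginv' : ((g⁻¹ : Matrix.GeneralLinearGroup (Fin (m + 1)) K) :
        Matrix (Fin (m + 1)) (Fin (m + 1)) K) *
      (g : Matrix (Fin (m + 1)) (Fin (m + 1)) K) = 1 := by
    rw [← Units.val_mul, inv_mul_cancel, Units.val_one]
  apply Set.ncard_le_ncard_of_injOn
    (fun u => ((g⁻¹ : Matrix.GeneralLinearGroup (Fin (m + 1)) K) :
      Matrix (Fin (m + 1)) (Fin (m + 1)) K) *ᵥ u)
  · intro u hu
    show qf D.σ S'.1 _ = s₀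
    have hu : qf D.σ S.1 u = s₀ := hu
    rw [hS', qf_congT, Matrix.mulVec_mulVec, hginv, Matrix.one_mulVec]
    exact hu
  · intro u _ u' _ h
    have := congrArg (fun w => (g : Matrix (Fin (m + 1)) (Fin (m + 1)) K) *ᵥ w) h
    simpa only [Matrix.mulVec_mulVec, hginv, Matrix.one_mulVec] using this

end Cfsg.Agent.S2334P
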