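import Mathlib
import Cfsg.Agent.Helper1.BG36L2a
import Cfsg.Agent.Lead.Coprime2
import Cfsg.Agent.Helper26.Basic
import Cfsg.Agent.Helper4.PqFP

/-!
# The Frobenius fixed point formula on a section (tool (FF) of S4306)
-/

set_option autoImplicit false
set_option linter.style.haveILetI false
set_option linter.unusedSectionVars false

namespace Cfsg.Agent.Helper4.PqFF

open Subgroup Cfsg.Agent.Helper4.PqFP

/-- The image of a subgroup meeting the kernel trivially has the same order. -/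
theorem card_map_of_disjoint {G G' : Type*} [Group G] [Group G'] (f : G →* G') (H : Subgroup G)
    (hd : ∀ x ∈ H, f x = 1 → x = 1) : Nat.card (H.map f) = Nat.card H := by
  symm
  apply Nat.card_congr
  refine Equiv.ofBijective (f.subgroupMap H) ⟨?_, MonoidHom.subgroupMap_surjective f H⟩
  rw [injective_iff_map_eq_one]
  intro x hx
  have h1 : f (x : G) = 1 := congrArg Subtype.val hx
  exact Subtype.ext (hd x x.2 h1)

/-- (FF) the Frobenius fixed point formula on the section `S/R` for the pair `(Q/Q0, ⟨y⟩)`. -/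
theorem frob_formula_section {Γ : Type*} [Group Γ] [Finite Γ] (S Q Q0 R C : Subgroup Γ)
    [S.Normal] [Q0.Normal] (y : Γ) (h : ℕ) (hh : h.Prime) (hyh : y ^ h = 1) (hy1 : y ≠ 1)
    (hSsolv : Group.IsSolvable ↥S)
    (hQ0 : ∀ x, x ∈ Q0 ↔ x ∈ Q ∧ ∀ u ∈ S, x * u = u * x)
    (hyQ : ∀ x ∈ Q, y * x * y⁻¹ ∈ Q)
    (hRS : R ≤ S) (hRS' : ∀ u ∈ S, ∀ v ∈ R, u * v * u⁻¹ ∈ R)
    (hRQ : ∀ x ∈ Q, ∀ v ∈ R, x * v * x⁻¹ ∈ R) (hRy : ∀ v ∈ R, y * v * y⁻¹ ∈ R)
    (hcopS : (Nat.card S).Coprime (Nat.card Q * h)) (hcopQ : (Nat.card Q).Coprime h)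
    (hfpf : ∀ x ∈ Q, y * x * y⁻¹ * x⁻¹ ∈ Q0 → x ∈ Q0)
    (hCSQ : ∀ u ∈ S, (∀ x ∈ Q, x * u * x⁻¹ * u⁻¹ ∈ R) → u ∈ R)
    (hC : ∀ u, u ∈ C ↔ u ∈ S ∧ y * u * y⁻¹ * u⁻¹ ∈ R) :
    R.relIndex S = (R.relIndex C) ^ h := by
  haveI : Fact h.Prime := ⟨hh⟩
  have hQ0Q : Q0 ≤ Q := fun x hx => ((hQ0 x).mp hx).1
  have hcopSQ : (Nat.card S).Coprime (Nat.card Q) := Nat.Coprime.coprime_mul_right_right hcopS
  have hcopSh : (Nat.card S).Coprime h := Nat.Coprime.coprime_mul_left_right hcopS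
  have hcopSQ0 : (Nat.card S).Coprime (Nat.card Q0) :=
    Nat.Coprime.coprime_dvd_right (Subgroup.card_dvd_of_le hQ0Q) hcopSQ
  have hSQ0 : ∀ x, x ∈ S → x ∈ Q0 → x = 1 := by
    intro x hxS hxQ0
    have hdisj := Subgroup.disjoint_of_coprime_natCard hcopSQ0
    have : x ∈ S ⊓ Q0 := ⟨hxS, hxQ0⟩
    rw [hdisj.eq_bot] at this
    exact this
  have hordy : orderOf y = h := orderOf_eq_prime hyh hy1
  have hcardY : Nat.card (zpowers y) = h := by rw [Nat.card_zpowers, hordy]
  have hYQ0 : ∀ x, x ∈ zpowers y → x ∈ Q0 → x = 1 := by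
    intro x hxY hxQ0
    have hc : (Nat.card (zpowers y)).Coprime (Nat.card Q0) := by
      rw [hcardY]
      exact (Nat.Coprime.coprime_dvd_left (Subgroup.card_dvd_of_le hQ0Q) hcopQ).symm
    have hdisj := Subgroup.disjoint_of_coprime_natCard hc
    have : x ∈ zpowers y ⊓ Q0 := ⟨hxY, hxQ0⟩
    rw [hdisj.eq_bot] at this
    exact this
  -- the quotient
  let mk := QuotientGroup.mk' Q0
  have hmk1 : ∀ x : Γ, mk x = 1 ↔ x ∈ Q0 := fun x => QuotientGroup.eq_one_iff x
  set Sb : Subgroup (Γ ⧸ Q0) := S.map mk with hSb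
  set Rb : Subgroup (Γ ⧸ Q0) := R.map mk with hRb
  set Qb : Subgroup (Γ ⧸ Q0) := Q.map mk with hQb
  set Yb : Subgroup (Γ ⧸ Q0) := (zpowers y).map mk with hYb
  have hcardSb : Nat.card Sb = Nat.card S :=
    card_map_of_disjoint mk S (fun x hx h1 => hSQ0 x hx ((hmk1 x).mp h1))
  have hcardRb : Nat.card Rb = Nat.card R :=
    card_map_of_disjoint mk R (fun x hx h1 => hSQ0 x (hRS hx) ((hmk1 x).mp h1))
  have hcardYb : Nat.card Yb = h := by
    rw [← hcardY]
    exact card_map_of_disjoint mk (zpowers y) (fun x hx h1 => hYQ0 x hx ((hmk1 x).mp h1))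
  -- normalizers in `Γ`
  have hyNQ : zpowers y ≤ normalizer (Q : Set Γ) := by
    rw [zpowers_le]
    exact mem_normalizer_fintype (fun n hn => hyQ n hn)
  have hyNR : zpowers y ≤ normalizer (R : Set Γ) := by
    rw [zpowers_le]
    exact mem_normalizer_fintype (fun n hn => hRy n hn)
  have hQNR : Q ≤ normalizer (R : Set Γ) := le_normalizer_of_conj_mem Q R hRQ
  have hSNR : S ≤ normalizer (R : Set Γ) := le_normalizer_of_conj_mem S R hRS'
  -- hypotheses of the formula
  have hRU : Yb ≤ normalizer (Qb : Set (Γ ⧸ Q0)) :=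
    (Subgroup.map_mono hyNQ).trans (le_normalizer_map mk)
  have hUR : Qb ⊓ centralizer (Yb : Set (Γ ⧸ Q0)) = ⊥ := by
    rw [eq_bot_iff]
    intro g hg
    obtain ⟨hgQ, hgC⟩ := Subgroup.mem_inf.mp hg
    obtain ⟨x, hx, rfl⟩ := Subgroup.mem_map.mp hgQ
    rw [Subgroup.mem_centralizer_iff] at hgC
    have h2 := hgC (mk y) (Subgroup.mem_map_of_mem mk (mem_zpowers y))
    rw [Subgroup.mem_bot, hmk1]
    apply hfpf x hx
    rw [← hmk1]
    simp only [map_mul, map_inv]
    rw [h2]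
    group
  have hSbn : Sb.Normal := by
    rw [hSb]
    exact Subgroup.Normal.map inferInstance mk (QuotientGroup.mk'_surjective Q0)
  have hUS : Qb ≤ normalizer (Sb : Set (Γ ⧸ Q0)) := by
    rw [Subgroup.normalizer_eq_top]; exact le_top
  have hYS : Yb ≤ normalizer (Sb : Set (Γ ⧸ Q0)) := by
    rw [Subgroup.normalizer_eq_top]; exact le_top
  have hUR' : Qb ≤ normalizer (Rb : Set (Γ ⧸ Q0)) :=
    (Subgroup.map_mono hQNR).trans (le_normalizer_map mk)
  have hYR' : Yb ≤ normalizer (Rb : Set (Γ ⧸ Q0)) :=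
    (Subgroup.map_mono hyNR).trans (le_normalizer_map mk)
  have hSbsolv : Group.IsSolvable ↥Sb :=
    solvable_of_surjective (MonoidHom.subgroupMap_surjective mk S)
  have hRsolv : Group.IsSolvable ↥R :=
    solvable_of_solvable_injective (Subgroup.inclusion_injective hRS)
  have hRbsolv : Group.IsSolvable ↥Rb :=
    solvable_of_surjective (MonoidHom.subgroupMap_surjective mk R)
  have hcopSbQb : (Nat.card Sb).Coprime (Nat.card Qb) := by
    rw [hcardSb]
    exact Nat.Coprime.coprime_dvd_right (Subgroup.card_map_dvd Q mk) hcopSQ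
  have hcopRbQb : (Nat.card Rb).Coprime (Nat.card Qb) := by
    rw [hcardRb]
    exact Nat.Coprime.coprime_dvd_left (Subgroup.card_dvd_of_le hRS)
      (Nat.Coprime.coprime_dvd_right (Subgroup.card_map_dvd Q mk) hcopSQ)
  have hcopRbh : (Nat.card Rb).Coprime h := by
    rw [hcardRb]
    exact Nat.Coprime.coprime_dvd_left (Subgroup.card_dvd_of_le hRS) hcopSh
  have hcopSbh : (Nat.card Sb).Coprime h := by rw [hcardSb]; exact hcopSh
  have F1 := Cfsg.Agent.Helper1.BG36L2.formula_prime Qb Yb Sb h hh hcardYb hRU hUR hUS hYS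
    hSbsolv hcopSbQb hcopSbh
  have F2 := Cfsg.Agent.Helper1.BG36L2.formula_prime Qb Yb Rb h hh hcardYb hRU hUR hUR' hYR'
    hRbsolv hcopRbQb hcopRbh
  -- the centralizers of `Qb` in `Sb` and `Rb` agree
  have hRbSb : Rb ≤ Sb := Subgroup.map_mono hRS
  have hCQ : Sb ⊓ centralizer (Qb : Set (Γ ⧸ Q0)) = Rb ⊓ centralizer (Qb : Set (Γ ⧸ Q0)) := by
    apply le_antisymm
    · intro g hg
      obtain ⟨hgS, hgC⟩ := Subgroup.mem_inf.mp hg
      refine Subgroup.mem_inf.mpr ⟨?_, hgC⟩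
      obtain ⟨u, hu, rfl⟩ := Subgroup.mem_map.mp hgS
      apply Subgroup.mem_map_of_mem mk
      apply hCSQ u hu
      intro x hx
      rw [Subgroup.mem_centralizer_iff] at hgC
      have h2 := hgC (mk x) (Subgroup.mem_map_of_mem mk hx)
      have h3 : x * u * x⁻¹ * u⁻¹ ∈ Q0 := by
        rw [← hmk1]
        simp only [map_mul, map_inv]
        rw [h2]
        group
      have h4 : x * u * x⁻¹ * u⁻¹ ∈ S :=
        mul_mem (Subgroup.Normal.conj_mem inferInstance u hu x) (inv_mem hu)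
      rw [hSQ0 _ h4 h3]
      exact one_mem R
    · exact inf_le_inf_right _ hRbSb
  rw [hCQ] at F1
  -- the centralizers of `Yb`
  have hcentY : ∀ T : Subgroup Γ, T ≤ S →
      Nat.card ↥(T.map mk ⊓ centralizer (Yb : Set (Γ ⧸ Q0))) =
        Nat.card ↥(T ⊓ centralizer ((zpowers y : Subgroup Γ) : Set Γ)) := by
    intro T hTS
    have heq : T.map mk ⊓ centralizer (Yb : Set (Γ ⧸ Q0)) =
        (T ⊓ centralizer ((zpowers y : Subgroup Γ) : Set Γ)).map mk := by
      apply le_antisymm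
      · intro g hg
        obtain ⟨hgT, hgC⟩ := Subgroup.mem_inf.mp hg
        obtain ⟨u, hu, rfl⟩ := Subgroup.mem_map.mp hgT
        apply Subgroup.mem_map_of_mem mk
        refine Subgroup.mem_inf.mpr ⟨hu, ?_⟩
        rw [Subgroup.mem_centralizer_iff] at hgC
        have h2 := hgC (mk y) (Subgroup.mem_map_of_mem mk (mem_zpowers y))
        have h3 : y * u * y⁻¹ * u⁻¹ ∈ Q0 := by
          rw [← hmk1]
          simp only [map_mul, map_inv]
          rw [h2]
          group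
        have h4 : y * u * y⁻¹ * u⁻¹ ∈ S :=
          mul_mem (Subgroup.Normal.conj_mem inferInstance u (hTS hu) y) (inv_mem (hTS hu))
        have h5 := hSQ0 _ h4 h3
        have hyu : y * u = u * y := by
          have : y * u = (y * u * y⁻¹ * u⁻¹) * (u * y) := by group
          rw [this, h5, one_mul]
        rw [Subgroup.mem_centralizer_iff]
        intro a ha
        obtain ⟨k, rfl⟩ := Subgroup.mem_zpowers_iff.mp ha
        exact ((Commute.zpow_left (show Commute y u from hyu) k)).eq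
      · intro g hg
        obtain ⟨u, hu, rfl⟩ := Subgroup.mem_map.mp hg
        obtain ⟨huT, huC⟩ := Subgroup.mem_inf.mp hu
        refine Subgroup.mem_inf.mpr ⟨Subgroup.mem_map_of_mem mk huT, ?_⟩
        rw [Subgroup.mem_centralizer_iff] at huC ⊢
        intro b hb
        obtain ⟨a, ha, rfl⟩ := Subgroup.mem_map.mp hb
        rw [← map_mul, ← map_mul, huC a ha]
    rw [heq]
    exact card_map_of_disjoint mk _
      (fun x hx h1 => hSQ0 x (hTS (Subgroup.mem_inf.mp hx).1) ((hmk1 x).mp h1))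
  have hcS := hcentY S le_rfl
  have hcR := hcentY R hRS
  rw [← hSb] at hcS
  rw [← hRb] at hcR
  rw [hcS, hcardSb] at F1
  rw [hcR, hcardRb] at F2
  -- the subgroup `C`
  set CS : Subgroup Γ := S ⊓ centralizer ((zpowers y : Subgroup Γ) : Set Γ) with hCS
  set CR : Subgroup Γ := R ⊓ centralizer ((zpowers y : Subgroup Γ) : Set Γ) with hCR
  have hCSle : CS ≤ C := by
    intro u hu
    obtain ⟨huS, huC⟩ := Subgroup.mem_inf.mp hu
    rw [hC]
    refine ⟨huS, ?_⟩
    rw [Subgroup.mem_centralizer_iff] at huC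
    have h2 := huC y (mem_zpowers y)
    have : y * u * y⁻¹ * u⁻¹ = 1 := by rw [h2]; group
    rw [this]
    exact one_mem R
  have hRleC : R ≤ C := by
    intro v hv
    rw [hC]
    exact ⟨hRS hv, mul_mem (hRy v hv) (inv_mem hv)⟩
  have hCeq : C = CS ⊔ R := by
    apply le_antisymm
    · intro u hu
      obtain ⟨huS, huR⟩ := (hC u).mp hu
      -- all powers of `y`
      have hpow : ∀ n : ℕ, y ^ n * u * (y ^ n)⁻¹ * u⁻¹ ∈ R := by
        intro n
        induction n with
        | zero => simp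
        | succ n ih =>
          have h1 := hRy _ ih
          have : y ^ (n + 1) * u * (y ^ (n + 1))⁻¹ * u⁻¹ =
              (y * (y ^ n * u * (y ^ n)⁻¹ * u⁻¹) * y⁻¹) * (y * u * y⁻¹ * u⁻¹) := by
            rw [pow_succ']; group
          rw [this]
          exact mul_mem h1 huR
      have hall : ∀ a ∈ zpowers y, a * u * a⁻¹ * u⁻¹ ∈ R := by
        intro a ha
        rw [← mem_powers_iff_mem_zpowers] at ha
        obtain ⟨n, rfl⟩ := ha
        exact hpow n
      have hAK : zpowers y ≤ normalizer (S : Set Γ) := by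
        rw [Subgroup.normalizer_eq_top]; exact le_top
      obtain ⟨c, hc, hcR⟩ := Cfsg.Agent.Lead.coprime_fixed_points_quotient (zpowers y) S hAK
        (by rw [hcardY]; exact hcopSh.symm) (Or.inr hSsolv) R hRS hSNR hyNR u huS hall
      have : u = c * (u⁻¹ * c)⁻¹ := by group
      rw [this]
      exact mul_mem ((le_sup_left : CS ≤ CS ⊔ R) hc) (inv_mem ((le_sup_right : R ≤ CS ⊔ R) hcR))
    · exact sup_le hCSle hRleC
  have hCSNR : CS ≤ normalizer (R : Set Γ) := inf_le_left.trans hSNR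
  have hinf : CS ⊓ R = CR := by
    rw [hCS, hCR]
    ext x
    simp only [Subgroup.mem_inf]
    constructor
    · rintro ⟨⟨-, h2⟩, h3⟩; exact ⟨h3, h2⟩
    · rintro ⟨h1, h2⟩; exact ⟨⟨hRS h1, h2⟩, h1⟩
  have F3 := Cfsg.Agent.Helper26.card_sup_mul_card_inf hCSNR
  rw [← hCeq, hinf] at F3
  -- arithmetic
  have hi := Cfsg.Agent.Helper26.card_mul_relIndex_of_le hRS
  have hj := Cfsg.Agent.Helper26.card_mul_relIndex_of_le hRleC
  set a := Nat.card ↥(Rb ⊓ centralizer (Qb : Set (Γ ⧸ Q0)) ⊓ centralizer (Yb : Set (Γ ⧸ Q0)))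
  set b := Nat.card ↥(Rb ⊓ centralizer (Qb : Set (Γ ⧸ Q0)))
  set s := Nat.card S
  set r := Nat.card R
  set c := Nat.card C
  set cs := Nat.card CS
  set cr := Nat.card CR
  set i := R.relIndex S
  set j := R.relIndex C
  have ha : 0 < a := Nat.card_pos
  have hb : 0 < b := Nat.card_pos
  have hr : 0 < r := Nat.card_pos
  have hcr : 0 < cr := Nat.card_pos
  -- F1 : a ^ h * s = cs ^ h * b ; F2 : a ^ h * r = cr ^ h * b ; F3 : c * cr = cs * r
  have h1 : cs = j * cr := by
    have : r * (j * cr) = r * cs := by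
      calc r * (j * cr) = (r * j) * cr := by ring
        _ = c * cr := by rw [hj]
        _ = cs * r := F3
        _ = r * cs := by ring
    exact (Nat.eq_of_mul_eq_mul_left hr this).symm
  have h2 : s * cr ^ h = r * cs ^ h := by
    have : (a ^ h * b) * (s * cr ^ h) = (a ^ h * b) * (r * cs ^ h) := by
      calc (a ^ h * b) * (s * cr ^ h) = (a ^ h * s) * (cr ^ h * b) := by ring
        _ = (cs ^ h * b) * (a ^ h * r) := by rw [F1, F2]
        _ = (a ^ h * b) * (r * cs ^ h) := by ring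
    exact Nat.eq_of_mul_eq_mul_left (Nat.mul_pos (pow_pos ha h) hb) this
  rw [h1, mul_pow, ← hi] at h2
  have h3 : (r * cr ^ h) * i = (r * cr ^ h) * j ^ h := by
    calc (r * cr ^ h) * i = r * i * cr ^ h := by ring
      _ = r * (j ^ h * cr ^ h) := h2
      _ = (r * cr ^ h) * j ^ h := by ring
  exact Nat.eq_of_mul_eq_mul_left (Nat.mul_pos hr (pow_pos hcr h)) h3

end Cfsg.Agent.Helper4.PqFF
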