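import Mathlib
import Cfsg.Prelude.Def_Perm

set_option autoImplicit false
set_option linter.style.haveILetI false
set_option linter.unusedSectionVars false

/-!
# Invariant subspaces of the permutation module of the alternating group
-/

namespace Cfsg.Agent.Helper4

open Equiv

section Swaps

variable {α : Type*} [DecidableEq α] {K : Type*} [Field K]

/-- Difference of a function and its composite with a double transposition. -/
theorem sub_comp_double_swap (w : α → K) {i j l m : α} (hij : i ≠ j) (hlm : l ≠ m)
    (hil : i ≠ l) (him : i ≠ m) (hjl : j ≠ l) (hjm : j ≠ m) (hw : w l = w m) :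
    (fun x => w x - w ((swap i j * swap l m) x)) =
      (w i - w j) • (Pi.single i (1 : K) - Pi.single j (1 : K)) := by
  funext x
  simp only [Perm.mul_apply, Pi.smul_apply, Pi.sub_apply, smul_eq_mul, Pi.single_apply]
  by_cases hxi : x = i
  · subst hxi
    rw [swap_apply_of_ne_of_ne hil him, swap_apply_left]
    simp [hij]
  by_cases hxj : x = j
  · subst hxj
    rw [swap_apply_of_ne_of_ne hjl hjm, swap_apply_right]
    simp [Ne.symm hij]
  by_cases hxl : x = l
  · subst hxl
    rw [swap_apply_left, swap_apply_of_ne_of_ne (Ne.symm him) (Ne.symm hjm)]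
    simp [hxi, hxj, hw]
  by_cases hxm : x = m
  · subst hxm
    rw [swap_apply_right, swap_apply_of_ne_of_ne (Ne.symm hil) (Ne.symm hjl)]
    simp [hxi, hxj, hw]
  · rw [swap_apply_of_ne_of_ne hxl hxm, swap_apply_of_ne_of_ne hxi hxj]
    simp [hxi, hxj]

/-- Values of the three-cycle `swap a b * swap a c`. -/
theorem three_cycle_apply {a b c : α} (hab : a ≠ b) (hac : a ≠ c) (hbc : b ≠ c) :
    (swap a b * swap a c) a = c ∧ (swap a b * swap a c) c = b ∧ (swap a b * swap a c) b = a ∧
      ∀ x, x ≠ a → x ≠ b → x ≠ c → (swap a b * swap a c) x = x := by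
  refine ⟨?_, ?_, ?_, ?_⟩
  · rw [Perm.mul_apply, swap_apply_left, swap_apply_of_ne_of_ne (Ne.symm hac) (Ne.symm hbc)]
  · rw [Perm.mul_apply, swap_apply_right, swap_apply_left]
  · rw [Perm.mul_apply, swap_apply_of_ne_of_ne (Ne.symm hab) hbc, swap_apply_right]
  · intro x hxa hxb hxc
    rw [Perm.mul_apply, swap_apply_of_ne_of_ne hxa hxc, swap_apply_of_ne_of_ne hxa hxb]

end Swaps

section Main

variable {α : Type*} [Fintype α] [DecidableEq α] {K : Type*} [Field K]

theorem double_swap_mem {i j l m : α} (hij : i ≠ j) (hlm : l ≠ m) :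
    swap i j * swap l m ∈ alternatingGroup α := by
  rw [Perm.mem_alternatingGroup, map_mul, Perm.sign_swap hij, Perm.sign_swap hlm]
  rfl

theorem three_cycle_mem {a b c : α} (hab : a ≠ b) (hac : a ≠ c) (hbc : b ≠ c) :
    swap a b * swap a c ∈ alternatingGroup α :=
  (Perm.isThreeCycle_swap_mul_swap_same hab hac hbc).mem_alternatingGroup

/-- A submodule invariant under composition with even permutations and containing a
non-constant function contains a difference of two basis vectors. -/
theorem exists_single_sub_single_mem (hα : 5 ≤ Fintype.card α) (W : Submodule K (α → K))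
    (hW : ∀ π : Perm α, π ∈ alternatingGroup α → ∀ f ∈ W, (fun x => f (π x)) ∈ W)
    (v : α → K) (hv : v ∈ W) (i j : α) (hvij : v i ≠ v j) :
    ∃ a b : α, a ≠ b ∧ (Pi.single a (1 : K) - Pi.single b (1 : K)) ∈ W := by
  have hij : i ≠ j := fun h => hvij (by rw [h])
  -- three more points
  have hcard : 2 < (({i, j} : Finset α)ᶜ).card := by
    rw [Finset.card_compl, Finset.card_pair hij]
    omega
  obtain ⟨k, l, m, hk, hl, hm, hkl, hkm, hlm⟩ := Finset.two_lt_card_iff.mp hcard
  simp only [Finset.mem_compl, Finset.mem_insert, Finset.mem_singleton, not_or] at hk hl hm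
  obtain ⟨hki, hkj⟩ := hk
  obtain ⟨hli, hlj⟩ := hl
  obtain ⟨hmi, hmj⟩ := hm
  have hik : i ≠ k := Ne.symm hki
  have hjk : j ≠ k := Ne.symm hkj
  have hil : i ≠ l := Ne.symm hli
  have hjl : j ≠ l := Ne.symm hlj
  have him : i ≠ m := Ne.symm hmi
  have hjm : j ≠ m := Ne.symm hmj
  -- the three cycle
  obtain ⟨hσi, hσk, hσj, hσx⟩ := three_cycle_apply hij hik hjk
  set σ := swap i j * swap i k with hσ
  let w : α → K := fun x => v x - v (σ x)
  have hwW : w ∈ W := W.sub_mem hv (hW σ (three_cycle_mem hij hik hjk) v hv)
  have hwi : w i = v i - v k := by simp only [w, hσi]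
  have hwj : w j = v j - v i := by simp only [w, hσj]
  have hwk : w k = v k - v j := by simp only [w, hσk]
  have hwx : ∀ x, x ≠ i → x ≠ j → x ≠ k → w x = 0 := by
    intro x h1 h2 h3
    simp only [w, hσx x h1 h2 h3, sub_self]
  have hwl : w l = 0 := hwx l hli hlj (Ne.symm hkl)
  have hwm : w m = 0 := hwx m hmi hmj (Ne.symm hkm)
  have hwj0 : w j ≠ 0 := by
    rw [hwj]
    exact sub_ne_zero.mpr (Ne.symm hvij)
  have hsmul : ∀ (c : K) (u : α → K), c ≠ 0 → c • u ∈ W → u ∈ W := by
    intro c u hc hu
    have := W.smul_mem c⁻¹ hu
    rwa [smul_smul, inv_mul_cancel₀ hc, one_smul] at this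
  by_cases h1 : w i = w j
  · by_cases h2 : w j = w k
    · -- all equal: use another three cycle
      obtain ⟨hρi, hρl, hρj, hρx⟩ := three_cycle_apply hij hil hjl
      set ρ := swap i j * swap i l with hρ
      have hw' : (fun x => w x - w (ρ x)) ∈ W :=
        W.sub_mem hwW (hW ρ (three_cycle_mem hij hil hjl) w hwW)
      have : (fun x => w x - w (ρ x)) = (w j) • (Pi.single i (1 : K) - Pi.single l (1 : K)) := by
        funext x
        simp only [Pi.smul_apply, Pi.sub_apply, smul_eq_mul, Pi.single_apply]
        by_cases hxi : x = i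
        · subst hxi
          rw [hρi, hwl, h1]
          simp [hil]
        by_cases hxj : x = j
        · subst hxj
          rw [hρj, h1]
          simp [Ne.symm hij, hjl]
        by_cases hxl : x = l
        · subst hxl
          rw [hρl, hwl]
          simp [hxi]
        · rw [hρx x hxi hxj hxl]
          simp [hxi, hxl]
      rw [this] at hw'
      exact ⟨i, l, hil, hsmul _ _ hwj0 hw'⟩
    · have hmem := W.sub_mem hwW (hW _ (double_swap_mem hjk hlm) w hwW)
      have := sub_comp_double_swap w hjk hlm hjl hjm hkl hkm
        (by rw [hwl, hwm])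
      change (fun x => w x - w ((swap j k * swap l m) x)) ∈ W at hmem
      rw [this] at hmem
      exact ⟨j, k, hjk, hsmul _ _ (sub_ne_zero.mpr h2) hmem⟩
  · have hmem := W.sub_mem hwW (hW _ (double_swap_mem hij hlm) w hwW)
    have := sub_comp_double_swap w hij hlm hil him hjl hjm (by rw [hwl, hwm])
    change (fun x => w x - w ((swap i j * swap l m) x)) ∈ W at hmem
    rw [this] at hmem
    exact ⟨i, j, hij, hsmul _ _ (sub_ne_zero.mpr h1) hmem⟩

/-- The four invariant subspaces of the permutation module of the alternating group. -/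
theorem alt_perm_module (hα : 5 ≤ Fintype.card α)
    (W : Subrepresentation (Cfsg.permRep K (alternatingGroup α) α)) :
    W.toSubmodule = ⊥ ∨ W = Cfsg.permConstants K (alternatingGroup α) α ∨
      W = Cfsg.permSumZero K (alternatingGroup α) α ∨ W.toSubmodule = ⊤ := by
  classical
  set S := W.toSubmodule with hS
  have hW : ∀ π : Perm α, π ∈ alternatingGroup α → ∀ f ∈ S, (fun x => f (π x)) ∈ S := by
    intro π hπ f hf
    have := W.apply_mem_toSubmodule (⟨π⁻¹, (alternatingGroup α).inv_mem hπ⟩ : alternatingGroup α) hf
    convert this using 1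
    funext x
    change f (π x) = f ((⟨π⁻¹, _⟩ : alternatingGroup α)⁻¹ • x)
    congr 1
  have hne : Nonempty α := Fintype.card_pos_iff.mp (by omega)
  by_cases hconst : ∀ v ∈ S, ∀ i j : α, v i = v j
  · -- contained in the constants
    by_cases hbot : S = ⊥
    · exact Or.inl hbot
    right; left
    apply Subrepresentation.toSubmodule_injective
    change S = Submodule.span K {fun _ => (1 : K)}
    obtain ⟨v, hvS, hv0⟩ := (Submodule.ne_bot_iff S).mp hbot
    obtain ⟨i0⟩ := hne
    have hvc : v = (v i0) • (fun _ => (1 : K)) := by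
      funext x
      simp only [Pi.smul_apply, smul_eq_mul, mul_one]
      exact hconst v hvS x i0
    have hc0 : v i0 ≠ 0 := by
      intro h
      apply hv0
      rw [hvc, h, zero_smul]
    apply le_antisymm
    · intro u hu
      rw [Submodule.mem_span_singleton]
      refine ⟨u i0, ?_⟩
      funext x
      simp only [Pi.smul_apply, smul_eq_mul, mul_one]
      exact (hconst u hu x i0).symm
    · rw [Submodule.span_singleton_le_iff_mem]
      have h1 : (v i0)⁻¹ • v = fun _ => (1 : K) := by
        funext x
        simp only [Pi.smul_apply, smul_eq_mul]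
        rw [hconst v hvS x i0]
        exact inv_mul_cancel₀ hc0
      rw [← h1]
      exact S.smul_mem _ hvS
  · -- contains the sum-zero functions
    right; right
    push Not at hconst
    obtain ⟨v, hvS, i, j, hvij⟩ := hconst
    obtain ⟨a, b, hab, hdiff⟩ := exists_single_sub_single_mem hα S hW v hvS i j hvij
    -- all differences
    have h2t : MulAction.IsMultiplyPretransitive (alternatingGroup α) α 2 := by
      have := alternatingGroup.isMultiplyPretransitive α
      refine MulAction.isMultiplyPretransitive_of_le (n := Nat.card α - 2) ?_ ?_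
      · rw [Nat.card_eq_fintype_card]; omega
      · exact Nat.sub_le _ _
    rw [MulAction.is_two_pretransitive_iff] at h2t
    have hall : ∀ c d : α, c ≠ d → (Pi.single c (1 : K) - Pi.single d (1 : K)) ∈ S := by
      intro c d hcd
      obtain ⟨g, hga, hgb⟩ := h2t hab hcd
      have := hW (g⁻¹ : alternatingGroup α).1 (g⁻¹).2 _ hdiff
      convert this using 1
      funext x
      simp only [Pi.sub_apply, Pi.single_apply]
      have e1 : (x = c) ↔ ((g⁻¹ : alternatingGroup α).1 x = a) := by
        rw [← hga]
        constructor
        · rintro rfl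
          change (g⁻¹ : alternatingGroup α) • (g • a) = a
          rw [inv_smul_smul]
        · intro h
          have : (g⁻¹ : alternatingGroup α) • x = a := h
          rw [inv_smul_eq_iff] at this
          exact this
      have e2 : (x = d) ↔ ((g⁻¹ : alternatingGroup α).1 x = b) := by
        rw [← hgb]
        constructor
        · rintro rfl
          change (g⁻¹ : alternatingGroup α) • (g • b) = b
          rw [inv_smul_smul]
        · intro h
          have : (g⁻¹ : alternatingGroup α) • x = b := h
          rw [inv_smul_eq_iff] at this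
          exact this
      simp only [e1, e2]
    have hsz : (Cfsg.permSumZero K (alternatingGroup α) α).toSubmodule ≤ S := by
      intro f hf
      have hf0 : ∑ x, f x = 0 := hf
      obtain ⟨x0⟩ := hne
      have hdecomp : f = ∑ x, f x • (Pi.single x (1 : K) - Pi.single x0 (1 : K)) := by
        funext y
        rw [Finset.sum_apply]
        simp only [Pi.smul_apply, Pi.sub_apply, smul_eq_mul, Pi.single_apply, mul_sub, mul_ite,
          mul_one, mul_zero, Finset.sum_sub_distrib]
        rw [Finset.sum_ite_eq Finset.univ y f]
        simp only [Finset.mem_univ, if_true]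
        by_cases hy : y = x0
        · simp [hy, hf0]
        · simp [hy]
      rw [hdecomp]
      apply Submodule.sum_mem
      intro x _
      by_cases hx : x = x0
      · rw [hx, sub_self, smul_zero]
        exact S.zero_mem
      · exact S.smul_mem _ (hall x x0 hx)
    by_cases hle : S ≤ (Cfsg.permSumZero K (alternatingGroup α) α).toSubmodule
    · left
      apply Subrepresentation.toSubmodule_injective
      exact le_antisymm hle hsz
    · right
      rw [SetLike.not_le_iff_exists] at hle
      obtain ⟨w, hwS, hw⟩ := hle
      have hws : ∑ x, w x ≠ 0 := hw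
      rw [eq_top_iff]
      intro f _
      have h1 : f - ((∑ x, f x) / (∑ x, w x)) • w ∈
          (Cfsg.permSumZero K (alternatingGroup α) α).toSubmodule := by
        change ∑ x, (f - ((∑ x, f x) / (∑ x, w x)) • w) x = 0
        simp only [Pi.sub_apply, Pi.smul_apply, smul_eq_mul, Finset.sum_sub_distrib,
          ← Finset.mul_sum]
        rw [div_mul_cancel₀ _ hws, sub_self]
      have h2 := S.add_mem (hsz h1) (S.smul_mem ((∑ x, f x) / (∑ x, w x)) hwS)
      rwa [sub_add_cancel] at h2

end Main

end Cfsg.Agent.Helper4
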