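import Mathlib
import Cfsg.Prelude.Def_OddOrderLocal
import Cfsg.Agent.Helper4.BG13T3
import Cfsg.Agent.Helper10.BG13Q

/-!
# `T3Basics` (helper10's hypothesis-Prop of `noPair_of`), from `Helper4.BG13T3`
-/

set_option autoImplicit false
set_option linter.unusedSectionVars false
set_option linter.unusedVariables false

namespace Cfsg.Agent.Helper4.BG13T3

open Subgroup Cfsg

universe u
variable {G : Type u} [Group G] [Finite G]

/-- helper10's `T3Basics` (F1, F2, F3, F4a), unconditionally. -/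
theorem t3Basics (hG : Cfsg.IsMinSimpleOddOrder G) : Cfsg.Agent.Helper10.BG13Q.T3Basics G := by
  intro M E X E3 E1 p hM hE hp3 hpκ hXE hXp hE3 hE1
  have c : T3 M E X p := ⟨hM, hE, hp3, hpκ, hXE, hXp⟩
  refine ⟨c.tau2_free hG, c.le_E3 hG hE3, c.le_normalizer hG, ?_, (c.centralizer_singleton_eq hG hE3).1,
    prime_action_tau1 hG hM hE hE1⟩
  intro H hH hNH
  exact ⟨c.mem_sigma hG hH hNH, c.not_conj hG hH hNH, c.sigmaCore_inf hG hH hNH, c.E_le hG hNH⟩

end Cfsg.Agent.Helper4.BG13T3
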