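import Mathlib
import Cfsg.Prelude.Def_OddOrderLocal
import Cfsg.Agent.Lead.BG142f
import Cfsg.Agent.Helper28.BG13Final
import Cfsg.Agent.Helper21.BG12f
import Cfsg.Agent.Helper21.BG13c
import Cfsg.Agent.Helper9.BG13Sa
import Cfsg.Agent.S1415
import Cfsg.Agent.S1427
import Cfsg.Agent.S1428

/-!
# S1430 (B&G Theorem 14.2) from `Tau3` alone: all other inputs of `Lead.BG142.s1430_of` are landed.
-/

set_option autoImplicit false
set_option linter.unusedSectionVars false
set_option linter.unusedVariables false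

namespace Cfsg.Agent.Helper4.BG142G

open Subgroup Cfsg

universe u
variable {G : Type u} [Group G] [Finite G]

/-- **S1430 relative to `Tau3` only.** -/
theorem st1430_of_tau3 (hG : Cfsg.IsMinSimpleOddOrder G) (hT3 : Cfsg.Agent.Lead.BG142.Tau3 G) :
    Cfsg.Agent.Lead.BG143.St1430 G :=
  Cfsg.Agent.Lead.BG142.s1430_of hG (Cfsg.Agent.Helper21.BG12.uniq hG)
    (Cfsg.Agent.Helper21.BG12.st1350 hG)
    (fun M hM E hE => Cfsg.Agent.S1415.result hG M hM E hE)
    (Cfsg.Agent.Helper21.BG13.st1417 hG) (Cfsg.Agent.Helper21.BG13.st1418 hG)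
    (Cfsg.Agent.H9.BG12.st1420' hG)
    (fun M hM E hE p _ S hS1 hSc => Cfsg.Agent.S1427.result hG M hM E hE p S hS1 hSc)
    (fun M hM E hE p hp P hPE hP R hRE hR => Cfsg.Agent.S1428.result hG M hM E hE p hp P hPE hP R hRE hR)
    (Cfsg.Agent.Helper28.BG13S.noStar hG) hT3

end Cfsg.Agent.Helper4.BG142G
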