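import Mathlib

set_option autoImplicit false

namespace Cfsg.Agent.Helper4

open MulAction

section
variable {G α : Type*} [Group G] [MulAction G α]

/-- Fixed points of `g` on tuples are tuples of fixed points. -/
def fixedByPiEquiv (g : G) (k : ℕ) : fixedBy (Fin k → α) g ≃ (Fin k → fixedBy α g) where
  toFun f := fun i => ⟨f.1 i, congrFun f.2 i⟩
  invFun h := ⟨fun i => (h i).1, funext fun i => (h i).2⟩
  left_inv f := rfl
  right_inv h := rfl

theorem card_fixedBy_pi [Finite α] (g : G) (k : ℕ) :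
    Nat.card (fixedBy (Fin k → α) g) = (Nat.card (fixedBy α g)) ^ k := by
  rw [Nat.card_congr (fixedByPiEquiv g k), Nat.card_fun, Nat.card_fin]

/-- Burnside's lemma applied to `k`-tuples: `|G|` divides `∑ fix(g)^k`. -/
theorem card_dvd_sum_pow_fixedBy [Fintype G] [Finite α] (k : ℕ) :
    (Nat.card G : ℤ) ∣ ∑ g : G, ((Nat.card (fixedBy α g) : ℕ) : ℤ) ^ k := by
  classical
  haveI : Fintype α := Fintype.ofFinite α
  have h := MulAction.sum_card_fixedBy_eq_card_orbits_mul_card_group G (Fin k → α)
  have h2 : ∑ g : G, ((Nat.card (fixedBy α g) : ℕ) : ℤ) ^ k =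
      ((∑ g : G, Fintype.card (fixedBy (Fin k → α) g) : ℕ) : ℤ) := by
    push_cast
    apply Finset.sum_congr rfl
    intro g _
    rw [← Nat.card_eq_fintype_card, card_fixedBy_pi]
    push_cast
    rfl
  rw [h2, h, Nat.card_eq_fintype_card]
  push_cast
  exact Dvd.intro_left _ rfl

/-- `|G|` divides `∑ P(fix(g))` for every integer polynomial `P`. -/
theorem card_dvd_sum_eval_fixedBy [Fintype G] [Finite α] (P : Polynomial ℤ) :
    (Nat.card G : ℤ) ∣ ∑ g : G, P.eval ((Nat.card (fixedBy α g) : ℕ) : ℤ) := by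
  simp_rw [Polynomial.eval_eq_sum_range]
  rw [Finset.sum_comm]
  apply Finset.dvd_sum
  intro i _
  rw [← Finset.mul_sum]
  exact Dvd.dvd.mul_left (card_dvd_sum_pow_fixedBy i) _

/-- Blichfeldt's theorem for a faithful-on-nonidentity hypothesis phrased on group elements. -/
theorem blichfeldt [Finite G] [Finite α] (L : Finset ℕ)
    (hL : ∀ g : G, g ≠ 1 → Nat.card (fixedBy α g) ∈ L) :
    Nat.card G ∣ ∏ l ∈ L, (Nat.card α - l) := by
  classical
  haveI : Fintype G := Fintype.ofFinite G
  by_cases hex : ∃ l ∈ L, Nat.card α ≤ l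
  · obtain ⟨l, hl, hle⟩ := hex
    have : ∏ l ∈ L, (Nat.card α - l) = 0 := by
      apply Finset.prod_eq_zero hl
      omega
    rw [this]
    exact dvd_zero _
  · push_neg at hex
    set P : Polynomial ℤ := ∏ l ∈ L, (Polynomial.X - Polynomial.C (l : ℤ)) with hP
    have hdvd := card_dvd_sum_eval_fixedBy (G := G) (α := α) P
    have hsum : ∑ g : G, P.eval ((Nat.card (fixedBy α g) : ℕ) : ℤ) =
        P.eval ((Nat.card α : ℕ) : ℤ) := by
      rw [Finset.sum_eq_single (1 : G)]
      · congr 2
        have : fixedBy α (1 : G) = Set.univ := by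
          ext x; simp [mem_fixedBy]
        rw [this, Nat.card_coe_set_eq, Set.ncard_univ]
      · intro g _ hg
        rw [hP, Polynomial.eval_prod]
        apply Finset.prod_eq_zero (hL g hg)
        simp
      · intro h; exact absurd (Finset.mem_univ _) h
    rw [hsum, hP, Polynomial.eval_prod] at hdvd
    have hcast : ((∏ l ∈ L, (Nat.card α - l) : ℕ) : ℤ) =
        ∏ l ∈ L, Polynomial.eval ((Nat.card α : ℕ) : ℤ) (Polynomial.X - Polynomial.C (l : ℤ)) := by
      push_cast
      apply Finset.prod_congr rfl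
      intro l hl
      rw [Nat.cast_sub (hex l hl).le]
      simp
    rw [← hcast] at hdvd
    exact_mod_cast hdvd

end

end Cfsg.Agent.Helper4
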