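import Mathlib
import Cfsg.Agent.Helper4.JordanNormal
import Cfsg.Agent.Helper1.FrobeniusThm
import Cfsg.Agent.Helper24.Burnside

set_option autoImplicit false
set_option linter.style.haveILetI false
set_option linter.unusedSectionVars false

/-!
# Burnside's theorem on minimal normal subgroups of doubly transitive groups
-/

namespace Cfsg.Agent.Helper4.BurnsideSocle

open MulAction
open scoped Pointwise

section Lines
variable {G : Type*} [Group G] {α : Type*} [MulAction G α]

/-- In a linear space all of whose lines are blocks of `N`, an element of `N` fixing two points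
fixes every point. -/
theorem fix_all_of_lines (N : Subgroup G) (ℒ : Set (Set α))
    (L1 : ∀ L ∈ ℒ, ∀ ν ∈ N, ∀ z ∈ L, ν • z ∈ L → ∀ y ∈ L, ν • y ∈ L)
    (L2 : ∀ L ∈ ℒ, ∀ L' ∈ ℒ, ∀ x y : α, x ≠ y → x ∈ L → y ∈ L → x ∈ L' → y ∈ L' → L = L')
    (L3 : ∀ x y : α, x ≠ y → ∃ L ∈ ℒ, x ∈ L ∧ y ∈ L)
    (L4 : ∀ L ∈ ℒ, ∃ y, y ∉ L)
    (a x : α) (hax : a ≠ x) (ν : G) (hν : ν ∈ N) (hνa : ν • a = a) (hνx : ν • x = x) :
    ∀ z : α, ν • z = z := by
  -- points outside a line through two fixed points are fixed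
  have step : ∀ a x : α, a ≠ x → ν • a = a → ν • x = x → ∀ L ∈ ℒ, a ∈ L → x ∈ L →
      ∀ y, y ∉ L → ν • y = y := by
    intro a x hax hνa hνx L hL haL hxL y hyL
    have hay : a ≠ y := fun h => hyL (h ▸ haL)
    have hxy : x ≠ y := fun h => hyL (h ▸ hxL)
    obtain ⟨L', hL', haL', hyL'⟩ := L3 a y hay
    obtain ⟨L'', hL'', hxL'', hyL''⟩ := L3 x y hxy
    have h1 : ν • y ∈ L' := L1 L' hL' ν hν a haL' (by rw [hνa]; exact haL') y hyL'
    have h2 : ν • y ∈ L'' := L1 L'' hL'' ν hν x hxL'' (by rw [hνx]; exact hxL'') y hyL''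
    by_contra hne
    have h3 : L' = L'' := L2 L' hL' L'' hL'' (ν • y) y hne h1 hyL' h2 hyL''
    have h4 : L = L' := L2 L hL L' hL' a x hax haL hxL haL' (by rw [h3]; exact hxL'')
    exact hyL (by rw [h4]; exact hyL')
  obtain ⟨L, hL, haL, hxL⟩ := L3 a x hax
  obtain ⟨y₀, hy₀⟩ := L4 L hL
  have hy₀fix : ν • y₀ = y₀ := step a x hax hνa hνx L hL haL hxL y₀ hy₀
  have hay₀ : a ≠ y₀ := fun h => hy₀ (h ▸ haL)
  obtain ⟨L', hL', haL', hy₀L'⟩ := L3 a y₀ hay₀
  intro z
  by_cases hzL : z ∈ L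
  · by_cases hza : z = a
    · rw [hza]; exact hνa
    · apply step a y₀ hay₀ hνa hy₀fix L' hL' haL' hy₀L' z
      intro hzL'
      have h4 : L = L' := L2 L hL L' hL' a z (Ne.symm hza) haL hzL haL' hzL'
      exact hy₀ (by rw [h4]; exact hy₀L')
  · exact step a x hax hνa hνx L hL haL hxL z hzL

end Lines

section Blocks
variable {G : Type*} [Group G] {α : Type*} [MulAction G α]

theorem isBlock_of_forall (N : Subgroup G) (B : Set α)
    (h : ∀ ν ∈ N, ∀ z ∈ B, ν • z ∈ B → ∀ y ∈ B, ν • y ∈ B) : IsBlock N B := by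
  rw [isBlock_iff_smul_eq_of_mem]
  intro ν a ha hνa
  apply Set.Subset.antisymm
  · rintro _ ⟨y, hy, rfl⟩
    exact h ν.1 ν.2 a ha hνa y hy
  · intro y hy
    rw [Set.mem_smul_set_iff_inv_smul_mem]
    have h1 : (ν⁻¹ : N) • (ν • a) = a := inv_smul_smul _ _
    exact h (ν⁻¹ : N).1 (ν⁻¹ : N).2 (ν • a) hνa (by rw [← h1] at ha; exact ha) y hy

theorem forall_of_isBlock (N : Subgroup G) (B : Set α) (hB : IsBlock N B) :
    ∀ ν ∈ N, ∀ z ∈ B, ν • z ∈ B → ∀ y ∈ B, ν • y ∈ B := by
  intro ν hν z hz hνz y hy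
  rw [isBlock_iff_smul_eq_of_mem] at hB
  have h1 : (⟨ν, hν⟩ : N) • B = B := hB hz hνz
  rw [← h1]
  exact Set.smul_mem_smul_set (a := (⟨ν, hν⟩ : N)) hy

/-- Translates of a block of a normal subgroup are blocks. -/
theorem forall_smul_of_forall (N : Subgroup G) [N.Normal] (B : Set α) (g : G)
    (h : ∀ ν ∈ N, ∀ z ∈ B, ν • z ∈ B → ∀ y ∈ B, ν • y ∈ B) :
    ∀ ν ∈ N, ∀ z ∈ g • B, ν • z ∈ g • B → ∀ y ∈ g • B, ν • y ∈ g • B := by
  rintro ν hν _ ⟨z, hz, rfl⟩ hνz _ ⟨y, hy, rfl⟩
  have hν' : g⁻¹ * ν * g ∈ N := by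
    have := ‹N.Normal›.conj_mem ν hν g⁻¹
    rwa [inv_inv] at this
  rw [Set.mem_smul_set_iff_inv_smul_mem] at hνz ⊢
  have h1 : (g⁻¹ * ν * g) • z ∈ B := by rw [mul_smul, mul_smul]; exact hνz
  have h2 := h _ hν' z hz h1 y hy
  rwa [mul_smul, mul_smul] at h2

end Blocks

section TwoPoint
variable {G : Type*} [Group G] {α : Type*} [MulAction G α] [Finite α]

/-- If a transitive normal subgroup `N` of a doubly transitive group is imprimitive, then an
element of `N` fixing two points fixes every point. -/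
theorem fix_all_of_not_preprimitive (h2 : IsMultiplyPretransitive G α 2)
    (N : Subgroup G) [N.Normal] (hNt : IsPretransitive N α) (hnp : ¬ IsPreprimitive N α) :
    ∀ a x : α, a ≠ x → ∀ ν ∈ N, ν • a = a → ν • x = x → ∀ z : α, ν • z = z := by
  classical
  -- a nontrivial block
  have hex : ∃ B : Set α, IsBlock N B ∧ ¬ IsTrivialBlock B := by
    by_contra hcon
    push Not at hcon
    exact hnp { toIsPretransitive := hNt, isTrivialBlock_of_isBlock := fun hB => hcon _ hB }
  -- of minimal cardinality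
  let S : Set ℕ := {k | ∃ B : Set α, IsBlock N B ∧ ¬ IsTrivialBlock B ∧ B.ncard = k}
  have hS : S.Nonempty := by
    obtain ⟨B, hB1, hB2⟩ := hex
    exact ⟨B.ncard, B, hB1, hB2, rfl⟩
  obtain ⟨B, hBblock, hBnt, hBcard⟩ := Nat.sInf_mem hS
  have hBmin : ∀ B' : Set α, IsBlock N B' → ¬ IsTrivialBlock B' → B.ncard ≤ B'.ncard := by
    intro B' h1 h2
    rw [hBcard]
    exact Nat.sInf_le ⟨B', h1, h2, rfl⟩
  have hBnt' : B.Nontrivial ∧ B ≠ Set.univ := by
    unfold IsTrivialBlock at hBnt
    push Not at hBnt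
    exact hBnt
  obtain ⟨b, hb, b', hb', hbb'⟩ : ∃ b ∈ B, ∃ b' ∈ B, b ≠ b' := hBnt'.1
  obtain ⟨c, hc⟩ : ∃ c, c ∉ B := by
    by_contra hcon
    push Not at hcon
    exact hBnt'.2 (Set.eq_univ_of_forall hcon)
  have hBel := forall_of_isBlock N B hBblock
  -- the lines
  let ℒ : Set (Set α) := {L | ∃ g : G, L = g • B}
  have hLblock : ∀ L ∈ ℒ, IsBlock N L := by
    rintro _ ⟨g, rfl⟩
    exact isBlock_of_forall N _ (forall_smul_of_forall N B g hBel)
  have hLcard : ∀ L ∈ ℒ, L.ncard = B.ncard := by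
    rintro _ ⟨g, rfl⟩
    rw [← Set.image_smul]
    exact Set.ncard_image_of_injective _ (MulAction.injective g)
  have hLne : ∀ L ∈ ℒ, ∃ y, y ∉ L := by
    rintro _ ⟨g, rfl⟩
    refine ⟨g • c, ?_⟩
    rw [Set.smul_mem_smul_set_iff]
    exact hc
  have L1 : ∀ L ∈ ℒ, ∀ ν ∈ N, ∀ z ∈ L, ν • z ∈ L → ∀ y ∈ L, ν • y ∈ L :=
    fun L hL => forall_of_isBlock N L (hLblock L hL)
  have L2 : ∀ L ∈ ℒ, ∀ L' ∈ ℒ, ∀ x y : α, x ≠ y → x ∈ L → y ∈ L → x ∈ L' → y ∈ L' →
      L = L' := by
    have key : ∀ L ∈ ℒ, ∀ L' ∈ ℒ, ∀ x y : α, x ≠ y → x ∈ L → y ∈ L → x ∈ L' → y ∈ L' →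
        L ⊆ L' := by
      intro L hL L' hL' x y hxy hxL hyL hxL' hyL'
      have hblock : IsBlock N (L ∩ L') := (hLblock L hL).inter (hLblock L' hL')
      have hnt : ¬ IsTrivialBlock (L ∩ L') := by
        unfold IsTrivialBlock
        push Not
        constructor
        · exact ⟨x, ⟨hxL, hxL'⟩, y, ⟨hyL, hyL'⟩, hxy⟩
        · intro huniv
          obtain ⟨y₀, hy₀⟩ := hLne L hL
          have : y₀ ∈ L ∩ L' := by rw [huniv]; trivial
          exact hy₀ this.1
      have h1 := hBmin _ hblock hnt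
      have h2 : L ∩ L' = L := by
        apply Set.eq_of_subset_of_ncard_le Set.inter_subset_left _ (Set.toFinite L)
        rw [hLcard L hL]
        exact h1
      rw [← h2]
      exact Set.inter_subset_right
    intro L hL L' hL' x y hxy hxL hyL hxL' hyL'
    exact Set.Subset.antisymm (key L hL L' hL' x y hxy hxL hyL hxL' hyL')
      (key L' hL' L hL x y hxy hxL' hyL' hxL hyL)
  have L3 : ∀ x y : α, x ≠ y → ∃ L ∈ ℒ, x ∈ L ∧ y ∈ L := by
    intro x y hxy
    rw [is_two_pretransitive_iff] at h2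
    obtain ⟨g, hgx, hgy⟩ := h2 hbb' hxy
    refine ⟨g • B, ⟨g, rfl⟩, ?_, ?_⟩
    · rw [← hgx]; exact Set.smul_mem_smul_set hb
    · rw [← hgy]; exact Set.smul_mem_smul_set hb'
  intro a x hax ν hν hνa hνx
  exact fix_all_of_lines N ℒ L1 L2 L3 hLne a x hax ν hν hνa hνx

end TwoPoint

section Primitive
variable {G : Type*} [Group G] {α : Type*} [MulAction G α] [Finite α] [FaithfulSMul G α]

/-- A non-regular minimal normal subgroup of a doubly transitive group is primitive. -/
theorem isPreprimitive_of_minimal_nonregular (h2 : IsMultiplyPretransitive G α 2)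
    (N : Subgroup G) [N.Normal] (hmin : ∀ M : Subgroup G, M.Normal → M ≤ N → M = ⊥ ∨ M = N)
    (hNt : IsPretransitive N α) (a₀ : α) (hnr : stabilizer N a₀ ≠ ⊥) : IsPreprimitive N α := by
  classical
  by_contra hnp
  have hfix := fix_all_of_not_preprimitive h2 N hNt hnp
  have h2pt : ∀ a x : α, a ≠ x → ∀ ν ∈ N, ν • a = a → ν • x = x → ν = 1 := by
    intro a x hax ν hν h1 h2'
    apply FaithfulSMul.eq_of_smul_eq_smul (α := α)
    intro z
    rw [one_smul]
    exact hfix a x hax ν hν h1 h2' z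
  haveI : Finite G := Finite.of_injective _ (MulAction.toPerm_injective (α := G) (β := α))
  haveI : Fintype N := Fintype.ofFinite _
  have hH : Cfsg.IsFrobeniusComplement (stabilizer N a₀) := by
    refine ⟨hnr, ?_, ?_⟩
    · intro htop
      apply hnr
      rw [Subgroup.eq_bot_iff_forall]
      intro ν _
      apply Subtype.ext
      apply FaithfulSMul.eq_of_smul_eq_smul (α := α)
      intro z
      rw [Subgroup.coe_one, one_smul]
      obtain ⟨μ, hμ⟩ := hNt.exists_smul_eq a₀ z
      have hμ' : μ ∈ stabilizer N a₀ := by rw [htop]; trivial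
      rw [mem_stabilizer_iff] at hμ'
      rw [hμ'] at hμ
      have hν' : ν ∈ stabilizer N a₀ := by rw [htop]; trivial
      rw [mem_stabilizer_iff] at hν'
      rw [← hμ]
      exact hν'
    · intro ν hν
      rw [Subgroup.eq_bot_iff_forall]
      intro x hx
      rw [Subgroup.mem_inf] at hx
      obtain ⟨hx1, hx2⟩ := hx
      rw [Subgroup.mem_pointwise_smul_iff_inv_smul_mem] at hx2
      have hx2' : (ν⁻¹ * x * ν) • a₀ = a₀ := by
        have h3 : (MulAut.conj ν)⁻¹ • x = ν⁻¹ * x * ν := by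
          rw [MulAut.smul_def, MulAut.conj_inv_apply]
        rw [h3] at hx2
        exact hx2
      have hνa : ν • a₀ ≠ a₀ := fun h => hν h
      apply Subtype.ext
      apply h2pt a₀ (ν • a₀) (Ne.symm hνa) x.1 x.2 hx1
      have h4 : (ν⁻¹ * x * ν) • a₀ = ν⁻¹ • (x • (ν • a₀)) := by
        rw [mul_smul, mul_smul]
      rw [h4, inv_smul_eq_iff] at hx2'
      exact hx2'
  obtain ⟨K, hKset, hKn, hKc⟩ := Cfsg.Agent.Helper1.frobenius_theorem hH
  -- the kernel is normal in `G`
  have hKmem : ∀ k : N, k ∈ K ↔ k = 1 ∨ ∀ z : α, k • z ≠ z := by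
    intro k
    have h1 : k ∈ K ↔ k ∈ Cfsg.frobeniusKernel (stabilizer N a₀) := by
      rw [← hKset]; rfl
    rw [h1]
    unfold Cfsg.frobeniusKernel
    rw [Set.mem_ofPred_eq]
    apply or_congr Iff.rfl
    constructor
    · intro h z hz
      obtain ⟨μ, hμ⟩ := hNt.exists_smul_eq a₀ z
      apply h μ
      rw [Subgroup.mem_pointwise_smul_iff_inv_smul_mem, MulAut.smul_def, MulAut.conj_inv_apply,
        mem_stabilizer_iff, mul_smul, mul_smul, hμ, hz, ← hμ, inv_smul_smul]
    · intro h μ hk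
      rw [Subgroup.mem_pointwise_smul_iff_inv_smul_mem, MulAut.smul_def, MulAut.conj_inv_apply,
        mem_stabilizer_iff, mul_smul, mul_smul, inv_smul_eq_iff] at hk
      exact h (μ • a₀) hk
  have hK'n : (K.map N.subtype).Normal := by
    constructor
    rintro _ ⟨k, hk, rfl⟩ g
    have hmem : g * (k : G) * g⁻¹ ∈ N := ‹N.Normal›.conj_mem _ k.2 g
    refine ⟨⟨g * (k : G) * g⁻¹, hmem⟩, ?_, rfl⟩
    rw [SetLike.mem_coe, hKmem] at hk ⊢
    rcases hk with hk | hk
    · left
      apply Subtype.ext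
      change g * (k : G) * g⁻¹ = 1
      rw [hk]
      simp
    · right
      intro z hz
      apply hk (g⁻¹ • z)
      change (k : G) • g⁻¹ • z = g⁻¹ • z
      have h5 : (g * (k : G) * g⁻¹) • z = z := hz
      rw [mul_smul, mul_smul] at h5
      rw [eq_inv_smul_iff]
      exact h5
  rcases hmin _ hK'n (Subgroup.map_subtype_le K) with h | h
  · have hKbot : K = ⊥ := by
      rw [Subgroup.eq_bot_iff_forall]
      intro k hk
      have : (k : G) ∈ K.map N.subtype := ⟨k, hk, rfl⟩
      rw [h, Subgroup.mem_bot] at this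
      exact Subtype.ext this
    rw [hKbot, Subgroup.isComplement'_bot_left] at hKc
    exact hH.2.1 hKc
  · have hKtop : K = ⊤ := by
      rw [Subgroup.eq_top_iff']
      intro k
      have : (k : G) ∈ K.map N.subtype := by rw [h]; exact k.2
      obtain ⟨k', hk', hkk'⟩ := this
      have : k' = k := Subtype.ext hkk'
      rwa [this] at hk'
    rw [hKtop, Subgroup.isComplement'_top_left] at hKc
    exact hH.1 hKc

end Primitive

section Conj
variable {G : Type*} [Group G]

/-- The conjugate `g M g⁻¹` of a subgroup. -/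
def cj (g : G) (M : Subgroup G) : Subgroup G := M.map (MulAut.conj g).toMonoidHom

theorem mem_cj {g : G} {M : Subgroup G} {x : G} : x ∈ cj g M ↔ g⁻¹ * x * g ∈ M := by
  unfold cj
  rw [Subgroup.mem_map]
  constructor
  · rintro ⟨m, hm, rfl⟩
    change g⁻¹ * (g * m * g⁻¹) * g ∈ M
    have : g⁻¹ * (g * m * g⁻¹) * g = m := by group
    rwa [this]
  · intro h
    refine ⟨g⁻¹ * x * g, h, ?_⟩
    change g * (g⁻¹ * x * g) * g⁻¹ = x
    group

theorem conj_mem_cj {g : G} {M : Subgroup G} {m : G} (hm : m ∈ M) : g * m * g⁻¹ ∈ cj g M := by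
  rw [mem_cj]
  have : g⁻¹ * (g * m * g⁻¹) * g = m := by group
  rwa [this]

theorem card_cj (g : G) (M : Subgroup G) : Nat.card (cj g M) = Nat.card M :=
  Subgroup.card_map_of_injective (MulAut.conj g).injective

theorem cj_cj (g h : G) (M : Subgroup G) : cj g (cj h M) = cj (g * h) M := by
  ext x
  rw [mem_cj, mem_cj, mem_cj]
  have : h⁻¹ * (g⁻¹ * x * g) * h = (g * h)⁻¹ * x * (g * h) := by group
  rw [this]

theorem cj_one (M : Subgroup G) : cj 1 M = M := by
  ext x
  rw [mem_cj]
  simp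

theorem cj_injective (g : G) {M M' : Subgroup G} (h : cj g M = cj g M') : M = M' := by
  have := congrArg (cj g⁻¹) h
  rwa [cj_cj, cj_cj, inv_mul_cancel, cj_one, cj_one] at this

end Conj

section Regular
variable {G : Type*} [Group G] {α : Type*} [MulAction G α] [FaithfulSMul G α]

/-- The centraliser of a transitive subgroup is semiregular. -/
theorem eq_one_of_centralizes_transitive (M : Subgroup G)
    (hMt : ∀ x y : α, ∃ m ∈ M, m • x = y) (c : G) (hc : ∀ m ∈ M, c * m = m * c) (a : α)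
    (hca : c • a = a) : c = 1 := by
  apply FaithfulSMul.eq_of_smul_eq_smul (α := α)
  intro z
  obtain ⟨m, hm, rfl⟩ := hMt a z
  rw [one_smul, ← mul_smul, hc m hm, mul_smul, hca]

/-- A transitive subgroup centralising a transitive subgroup is the full centraliser. -/
theorem centralizer_eq_of_transitive (M M' : Subgroup G)
    (hMt : ∀ x y : α, ∃ m ∈ M, m • x = y) (hM't : ∀ x y : α, ∃ m ∈ M', m • x = y)
    (hcomm : ∀ m ∈ M, ∀ m' ∈ M', m' * m = m * m') [Nonempty α] :
    Subgroup.centralizer (M : Set G) = M' := by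
  obtain ⟨a⟩ := ‹Nonempty α›
  apply le_antisymm
  · intro c hc
    rw [Subgroup.mem_centralizer_iff] at hc
    obtain ⟨m', hm', hm'a⟩ := hM't a (c • a)
    have h1 : m'⁻¹ * c = 1 := by
      apply eq_one_of_centralizes_transitive M hMt _ _ a
      · rw [mul_smul, ← hm'a, inv_smul_smul]
      · intro m hm
        have h2 := hc m hm
        have h3 := hcomm m hm m' hm'
        calc m'⁻¹ * c * m = m'⁻¹ * (c * m) := by group
          _ = m'⁻¹ * (m * c) := by rw [← h2]
          _ = m'⁻¹ * (m * m') * m'⁻¹ * c := by group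
          _ = m'⁻¹ * (m' * m) * m'⁻¹ * c := by rw [h3]
          _ = m * (m'⁻¹ * c) := by group
    rw [inv_mul_eq_one] at h1
    rw [← h1]
    exact hm'
  · intro m' hm'
    rw [Subgroup.mem_centralizer_iff]
    intro m hm
    exact (hcomm m hm m' hm').symm

end Regular

section Arithmetic

/-- A finite group in which any three non-identity elements include two of the same order has
order `p ^ a * q ^ b`. -/
theorem card_eq_prime_pow_mul_of_orders {M : Type*} [Group M] [Finite M]
    (h : ∀ x y z : M, x ≠ 1 → y ≠ 1 → z ≠ 1 →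
      orderOf x = orderOf y ∨ orderOf x = orderOf z ∨ orderOf y = orderOf z) :
    ∃ p q a b : ℕ, p.Prime ∧ q.Prime ∧ Nat.card M = p ^ a * q ^ b := by
  classical
  have hn : Nat.card M ≠ 0 := Nat.card_pos.ne'
  have hle : (Nat.card M).primeFactors.card ≤ 2 := by
    by_contra hlt
    push Not at hlt
    obtain ⟨p, hp, q, hq, r, hr, hpq, hpr, hqr⟩ := Finset.two_lt_card.mp hlt
    rw [Nat.mem_primeFactors] at hp hq hr
    haveI : Fact p.Prime := ⟨hp.1⟩
    haveI : Fact q.Prime := ⟨hq.1⟩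
    haveI : Fact r.Prime := ⟨hr.1⟩
    obtain ⟨x, hx⟩ := exists_prime_orderOf_dvd_card' p hp.2.1
    obtain ⟨y, hy⟩ := exists_prime_orderOf_dvd_card' q hq.2.1
    obtain ⟨z, hz⟩ := exists_prime_orderOf_dvd_card' r hr.2.1
    have hx1 : x ≠ 1 := by
      rintro rfl
      rw [orderOf_one] at hx
      exact hp.1.one_lt.ne hx
    have hy1 : y ≠ 1 := by
      rintro rfl
      rw [orderOf_one] at hy
      exact hq.1.one_lt.ne hy
    have hz1 : z ≠ 1 := by
      rintro rfl
      rw [orderOf_one] at hz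
      exact hr.1.one_lt.ne hz
    rcases h x y z hx1 hy1 hz1 with h1 | h1 | h1
    · rw [hx, hy] at h1; exact hpq h1
    · rw [hx, hz] at h1; exact hpr h1
    · rw [hy, hz] at h1; exact hqr h1
  have hprod := Nat.prod_factorization_pow_eq_self hn
  rw [Finsupp.prod, Nat.support_factorization] at hprod
  have hcases : (Nat.card M).primeFactors.card = 0 ∨ (Nat.card M).primeFactors.card = 1 ∨
      (Nat.card M).primeFactors.card = 2 := by omega
  rcases hcases with h0 | h1 | h2'
  · rw [Finset.card_eq_zero] at h0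
    rw [h0, Finset.prod_empty] at hprod
    exact ⟨2, 2, 0, 0, Nat.prime_two, Nat.prime_two, by rw [← hprod]; norm_num⟩
  · rw [Finset.card_eq_one] at h1
    obtain ⟨p, hp⟩ := h1
    have hpp : p.Prime := by
      have : p ∈ (Nat.card M).primeFactors := by rw [hp]; exact Finset.mem_singleton_self p
      exact (Nat.mem_primeFactors.mp this).1
    rw [hp, Finset.prod_singleton] at hprod
    exact ⟨p, 2, (Nat.card M).factorization p, 0, hpp, Nat.prime_two, by
      rw [pow_zero, mul_one]; exact hprod.symm⟩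
  · rw [Finset.card_eq_two] at h2'
    obtain ⟨p, q, hpq, hF⟩ := h2'
    have hpp : p.Prime := by
      have : p ∈ (Nat.card M).primeFactors := by rw [hF]; exact Finset.mem_insert_self _ _
      exact (Nat.mem_primeFactors.mp this).1
    have hqp : q.Prime := by
      have : q ∈ (Nat.card M).primeFactors := by
        rw [hF]; exact Finset.mem_insert_of_mem (Finset.mem_singleton_self q)
      exact (Nat.mem_primeFactors.mp this).1
    rw [hF, Finset.prod_pair hpq] at hprod
    exact ⟨p, q, _, _, hpp, hqp, hprod.symm⟩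

end Arithmetic

section Simple
variable {G : Type*} [Group G] {α : Type*} [MulAction G α] [Finite α] [FaithfulSMul G α]

/-- A non-trivial subgroup of a primitive group `N` which is normalised by `N` is transitive. -/
theorem transitive_of_normalIn (N : Subgroup G) (hprim : IsPreprimitive N α) (M : Subgroup G)
    (hle : M ≤ N) (hnorm : ∀ ν ∈ N, ∀ m ∈ M, ν * m * ν⁻¹ ∈ M) (hb : M ≠ ⊥) :
    ∀ x y : α, ∃ m ∈ M, m • x = y := by
  haveI : (M.subgroupOf N).Normal := by
    constructor
    intro n hn g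
    rw [Subgroup.mem_subgroupOf] at hn ⊢
    exact hnorm g.1 g.2 n.1 hn
  have hne : M.subgroupOf N ≠ ⊥ := by
    intro h
    apply hb
    rw [Subgroup.eq_bot_iff_forall]
    intro m hm
    have h1 : (⟨m, hle hm⟩ : N) ∈ M.subgroupOf N := Subgroup.mem_subgroupOf.mpr hm
    rw [h, Subgroup.mem_bot] at h1
    exact congrArg Subtype.val h1
  have ht := JordanNormal.normal_isPretransitive hprim (M.subgroupOf N) hne
  intro x y
  obtain ⟨m, hm⟩ := ht.exists_smul_eq x y
  exact ⟨((m : N) : G), Subgroup.mem_subgroupOf.mp m.2, hm⟩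

/-- A primitive minimal normal subgroup of a doubly transitive group is simple. -/
theorem isSimpleGroup_of_minimal_primitive (h2 : IsMultiplyPretransitive G α 2)
    (N : Subgroup G) [N.Normal] (hmin : ∀ M : Subgroup G, M.Normal → M ≤ N → M = ⊥ ∨ M = N)
    (hN : N ≠ ⊥) (hprim : IsPreprimitive N α) : IsSimpleGroup N := by
  classical
  haveI : Finite G := Finite.of_injective _ (MulAction.toPerm_injective (α := G) (β := α))
  haveI : Nontrivial N := (Subgroup.nontrivial_iff_ne_bot N).mpr hN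
  by_contra hns
  have hex0 : ∃ M₀ : Subgroup N, M₀.Normal ∧ M₀ ≠ ⊥ ∧ M₀ ≠ ⊤ := by
    by_contra hcon
    push Not at hcon
    apply hns
    exact
      { exists_pair_ne := exists_pair_ne N
        eq_bot_or_eq_top_of_normal := fun H hH => by
          by_cases h : H = ⊥
          · exact Or.inl h
          · exact Or.inr (hcon H hH h) }
  let P : Subgroup G → Prop := fun M =>
    M ≤ N ∧ (∀ ν ∈ N, ∀ m ∈ M, ν * m * ν⁻¹ ∈ M) ∧ M ≠ ⊥ ∧ M ≠ N
  have hexP : ∃ M, P M := by
    obtain ⟨M₀, hn, hb, ht⟩ := hex0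
    refine ⟨M₀.map N.subtype, Subgroup.map_subtype_le _, ?_, ?_, ?_⟩
    · rintro ν hν _ ⟨m, hm, rfl⟩
      exact ⟨⟨ν, hν⟩ * m * ⟨ν, hν⟩⁻¹, hn.conj_mem m hm ⟨ν, hν⟩, rfl⟩
    · intro h
      exact hb ((Subgroup.map_eq_bot_iff_of_injective _ (Subgroup.subtype_injective N)).mp h)
    · intro h
      apply ht
      rw [Subgroup.eq_top_iff']
      intro x
      have hx : (x : G) ∈ M₀.map N.subtype := by rw [h]; exact x.2
      obtain ⟨y, hy, hyx⟩ := hx
      have : y = x := Subtype.ext hyx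
      rwa [this] at hy
  let S : Set ℕ := {k | ∃ M, P M ∧ Nat.card M = k}
  have hS : S.Nonempty := by
    obtain ⟨M, hM⟩ := hexP
    exact ⟨_, M, hM, rfl⟩
  obtain ⟨M, hPM, hMcard⟩ := Nat.sInf_mem hS
  obtain ⟨hMN, hMnorm, hMbot, hMneN⟩ := hPM
  have hMmin : ∀ M' : Subgroup G, M' ≤ M → (∀ ν ∈ N, ∀ m ∈ M', ν * m * ν⁻¹ ∈ M') →
      M' = ⊥ ∨ M' = M := by
    intro M' hle hnorm
    by_cases hb : M' = ⊥
    · exact Or.inl hb
    · right
      have hP' : P M' :=
        ⟨hle.trans hMN, hnorm, hb, fun h => hMneN (le_antisymm hMN (h ▸ hle))⟩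
      have h1 : Nat.card M ≤ Nat.card M' := by
        rw [hMcard]
        exact Nat.sInf_le ⟨M', hP', rfl⟩
      exact Subgroup.eq_of_le_of_card_ge hle h1
  -- conjugates of `M`
  have hcjN : ∀ g : G, cj g M ≤ N := by
    intro g x hx
    rw [mem_cj] at hx
    have h1 := ‹N.Normal›.conj_mem _ (hMN hx) g
    have h3 : g * (g⁻¹ * x * g) * g⁻¹ = x := by group
    rwa [h3] at h1
  have hcjnorm : ∀ g : G, ∀ ν ∈ N, ∀ m ∈ cj g M, ν * m * ν⁻¹ ∈ cj g M := by
    intro g ν hν m hm
    rw [mem_cj] at hm ⊢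
    have hν' : g⁻¹ * ν * g ∈ N := by
      have := ‹N.Normal›.conj_mem ν hν g⁻¹
      rwa [inv_inv] at this
    have h1 := hMnorm _ hν' _ hm
    have h3 : g⁻¹ * ν * g * (g⁻¹ * m * g) * (g⁻¹ * ν * g)⁻¹ = g⁻¹ * (ν * m * ν⁻¹) * g := by
      group
    rwa [h3] at h1
  have hcjbot : ∀ g : G, cj g M ≠ ⊥ := by
    intro g h
    apply hMbot
    rw [← Subgroup.card_eq_one] at h ⊢
    rwa [card_cj] at h
  -- transitivity
  have hMt := transitive_of_normalIn N hprim M hMN hMnorm hMbot
  have hcjt : ∀ g : G, ∀ x y : α, ∃ m ∈ cj g M, m • x = y :=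
    fun g => transitive_of_normalIn N hprim (cj g M) (hcjN g) (hcjnorm g) (hcjbot g)
  haveI : Nonempty α := by
    by_contra hemp
    rw [not_nonempty_iff] at hemp
    apply hN
    rw [Subgroup.eq_bot_iff_forall]
    intro ν _
    apply FaithfulSMul.eq_of_smul_eq_smul (α := α)
    intro z
    exact (hemp.false z).elim
  -- a conjugate different from `M`
  have hexg : ∃ g : G, cj g M ≠ M := by
    by_contra hcon
    push Not at hcon
    have hMn : M.Normal := by
      constructor
      intro m hm g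
      have := conj_mem_cj (g := g) hm
      rwa [hcon g] at this
    rcases hmin M hMn hMN with h | h
    · exact hMbot h
    · exact hMneN h
  obtain ⟨g₀, hg₀⟩ := hexg
  -- a conjugate different from `M` is the centraliser of `M`
  have hcent : ∀ g : G, cj g M ≠ M → Subgroup.centralizer (M : Set G) = cj g M := by
    intro g hg
    have hinter : M ⊓ cj g M = ⊥ := by
      rcases hMmin (M ⊓ cj g M) inf_le_left (fun ν hν m hm =>
        ⟨hMnorm ν hν m hm.1, hcjnorm g ν hν m hm.2⟩) with h | h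
      · exact h
      · exfalso
        apply hg
        symm
        apply Subgroup.eq_of_le_of_card_ge (inf_eq_left.mp h)
        rw [card_cj]
    have hcomm : ∀ m ∈ M, ∀ m' ∈ cj g M, m' * m = m * m' := by
      intro m hm m' hm'
      have h1 : m * m' * m⁻¹ * m'⁻¹ ∈ M ⊓ cj g M := by
        constructor
        · have := hMnorm m' (hcjN g hm') m⁻¹ (M.inv_mem hm)
          have h4 : m * m' * m⁻¹ * m'⁻¹ = m * (m' * m⁻¹ * m'⁻¹) := by group
          rw [h4]
          exact M.mul_mem hm this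
        · have := hcjnorm g m (hMN hm) m' hm'
          exact (cj g M).mul_mem this ((cj g M).inv_mem hm')
      rw [hinter, Subgroup.mem_bot] at h1
      calc m' * m = (m * m' * m⁻¹ * m'⁻¹)⁻¹ * (m * m') := by group
        _ = m * m' := by rw [h1]; group
    exact centralizer_eq_of_transitive M (cj g M) hMt (hcjt g) hcomm
  have hM' := hcent g₀ hg₀
  have hdich : ∀ g : G, cj g M = M ∨ cj g M = cj g₀ M := by
    intro g
    by_cases h : cj g M = M
    · exact Or.inl h
    · right
      rw [← hcent g h, hM']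
  -- `M` is semiregular
  have hMsemi : ∀ m ∈ M, ∀ a : α, m • a = a → m = 1 := by
    intro m hm a hma
    apply eq_one_of_centralizes_transitive (cj g₀ M) (hcjt g₀) m _ a hma
    intro m' hm'
    have : m' ∈ Subgroup.centralizer (M : Set G) := by rw [hM']; exact hm'
    rw [Subgroup.mem_centralizer_iff] at this
    exact this m hm
  -- element orders
  obtain ⟨a⟩ := ‹Nonempty α›
  have horders : ∀ x y z : M, x ≠ 1 → y ≠ 1 → z ≠ 1 →
      orderOf x = orderOf y ∨ orderOf x = orderOf z ∨ orderOf y = orderOf z := by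
    intro x y z hx hy hz
    have hne : ∀ u : M, u ≠ 1 → (u : G) • a ≠ a := by
      intro u hu h
      exact hu (Subtype.ext (hMsemi u.1 u.2 a h))
    have h2' := h2
    rw [is_two_pretransitive_iff] at h2'
    -- conjugation by an element fixing `a` and normalising `M`
    have key : ∀ (g : G) (u v : M), g • a = a → cj g M = M → g • ((u : G) • a) = (v : G) • a →
        orderOf u = orderOf v := by
      intro g u v hga hgM hguv
      have h1 : g * (u : G) * g⁻¹ ∈ M := by
        have := conj_mem_cj (g := g) u.2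
        rwa [hgM] at this
      have h3 : (v : G)⁻¹ * (g * (u : G) * g⁻¹) = 1 := by
        apply hMsemi _ (M.mul_mem (M.inv_mem v.2) h1) a
        have hga' : g⁻¹ • a = a := by rw [inv_smul_eq_iff, hga]
        rw [mul_smul, mul_smul, mul_smul, hga', hguv, inv_smul_smul]
      rw [inv_mul_eq_one] at h3
      rw [← Subgroup.orderOf_coe u, ← Subgroup.orderOf_coe v, h3]
      have := MulEquiv.orderOf_eq (MulAut.conj g) (u : G)
      rw [MulAut.conj_apply] at this
      exact this.symm
    obtain ⟨g₁, hg₁a, hg₁⟩ := h2' (Ne.symm (hne x hx)) (Ne.symm (hne y hy))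
    obtain ⟨g₂, hg₂a, hg₂⟩ := h2' (Ne.symm (hne x hx)) (Ne.symm (hne z hz))
    rcases hdich g₁ with h1 | h1
    · exact Or.inl (key g₁ x y hg₁a h1 hg₁)
    rcases hdich g₂ with h2'' | h2''
    · exact Or.inr (Or.inl (key g₂ x z hg₂a h2'' hg₂))
    right; right
    -- `h = g₂ * g₁⁻¹` normalises `M` and maps `y a` to `z a`
    have hh1 : cj (g₂ * g₁⁻¹) (cj g₀ M) = cj g₀ M := by
      calc cj (g₂ * g₁⁻¹) (cj g₀ M) = cj (g₂ * g₁⁻¹) (cj g₁ M) := by rw [h1]
        _ = cj g₂ M := by rw [cj_cj, mul_assoc, inv_mul_cancel, mul_one]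
        _ = cj g₀ M := h2''
    have hh2 : cj (g₂ * g₁⁻¹) M = M := by
      rcases hdich (g₂ * g₁⁻¹) with h | h
      · exact h
      · exfalso
        rw [← hh1] at h
        exact hg₀ (cj_injective _ h).symm
    apply key (g₂ * g₁⁻¹) y z _ hh2
    · rw [mul_smul, ← hg₁, inv_smul_smul, hg₂]
    · rw [mul_smul, inv_smul_eq_iff.mpr hg₁a.symm, hg₂a]
  -- `M` is solvable, hence abelian
  obtain ⟨p, q, e, f, hp, hq, hcard⟩ := card_eq_prime_pow_mul_of_orders horders
  haveI hsolv : Group.IsSolvable M :=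
    Cfsg.Agent.Helper24.isSolvable_of_card_eq_prime_pow_mul p q e f hp hq hcard
  have hcjself : ∀ ν ∈ N, cj ν M = M := by
    intro ν hν
    apply Subgroup.eq_of_le_of_card_ge
    · intro x hx
      rw [mem_cj] at hx
      have h1 := hMnorm ν hν _ hx
      have h3 : ν * (ν⁻¹ * x * ν) * ν⁻¹ = x := by group
      rwa [h3] at h1
    · rw [card_cj]
  have hDnorm : ∀ ν ∈ N, ∀ d ∈ ⁅M, M⁆, ν * d * ν⁻¹ ∈ ⁅M, M⁆ := by
    intro ν hν d hd
    have h1 : (⁅M, M⁆).map (MulAut.conj ν).toMonoidHom = ⁅M, M⁆ := by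
      rw [Subgroup.map_commutator]
      have := hcjself ν hν
      unfold cj at this
      rw [this]
    rw [← h1]
    exact ⟨d, hd, rfl⟩
  haveI : Nontrivial M := (Subgroup.nontrivial_iff_ne_bot M).mpr hMbot
  rcases hMmin ⁅M, M⁆ (Subgroup.commutator_le_self M) hDnorm with h | h
  · rw [Subgroup.commutator_eq_bot_iff_le_centralizer, hM'] at h
    apply hMbot
    have hinter : M ⊓ cj g₀ M = ⊥ := by
      rcases hMmin (M ⊓ cj g₀ M) inf_le_left (fun ν hν m hm =>
        ⟨hMnorm ν hν m hm.1, hcjnorm g₀ ν hν m hm.2⟩) with h' | h'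
      · exact h'
      · exfalso
        apply hg₀
        symm
        apply Subgroup.eq_of_le_of_card_ge (inf_eq_left.mp h')
        rw [card_cj]
    rw [← hinter]
    exact (inf_eq_left.mpr h).symm
  · have h1 := Group.IsSolvable.commutator_lt_top_of_nontrivial M
    rw [← Subgroup.map_subtype_commutator] at h
    have h3 : (commutator M).map M.subtype = (⊤ : Subgroup M).map M.subtype := by
      rw [h, ← MonoidHom.range_eq_map, Subgroup.range_subtype]
    have h4 := Subgroup.map_injective (Subgroup.subtype_injective M) h3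
    exact h1.ne h4

end Simple

section Main
variable {G : Type*} [Group G] {α : Type*} [MulAction G α] [Finite α] [FaithfulSMul G α]

/-- Burnside: a minimal normal subgroup of a doubly transitive group is either regular and
elementary abelian, or simple and primitive. -/
theorem burnside_socle (h2 : IsMultiplyPretransitive G α 2) (N : Subgroup G) [N.Normal]
    (hN : N ≠ ⊥) (hmin : ∀ M : Subgroup G, M.Normal → M ≤ N → M = ⊥ ∨ M = N) :
    ((∀ n ∈ N, ∀ m ∈ N, n * m = m * n) ∧ (∃ p : ℕ, p.Prime ∧ ∀ n ∈ N, n ^ p = 1) ∧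
        ∀ a : α, stabilizer N a = ⊥) ∨ (IsSimpleGroup N ∧ IsPreprimitive N α) := by
  classical
  have hprimG : IsPreprimitive G α := isPreprimitive_of_is_two_pretransitive h2
  have hNt : IsPretransitive N α := JordanNormal.normal_isPretransitive hprimG N hN
  by_cases hreg : ∀ a : α, stabilizer N a = ⊥
  · left
    have hX : 2 ≤ Nat.card α := by
      by_contra hlt
      push Not at hlt
      haveI : Subsingleton α := Finite.card_le_one_iff_subsingleton.mp (by omega)
      apply hN
      rw [Subgroup.eq_bot_iff_forall]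
      intro ν _
      apply FaithfulSMul.eq_of_smul_eq_smul (α := α)
      intro z
      exact Subsingleton.elim _ _
    obtain ⟨p, hp, hpow, -, hcomm, -⟩ :=
      regular_normal_elementary_abelian N hX h2 hNt hreg
    exact ⟨hcomm, ⟨p, hp, hpow⟩, hreg⟩
  · right
    push Not at hreg
    obtain ⟨a₀, hnr⟩ := hreg
    have hprim := isPreprimitive_of_minimal_nonregular h2 N hmin hNt a₀ hnr
    exact ⟨isSimpleGroup_of_minimal_primitive h2 N hmin hN hprim, hprim⟩

end Main

end Cfsg.Agent.Helper4.BurnsideSocle
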