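import Mathlib
import Cfsg.Agent.Helper4.MinIdxCommon
import Cfsg.Agent.Helper4.MinIdxLin
import Cfsg.Agent.Helper12.SLNonzero

set_option autoImplicit false

/-! Linear algebra for S2272 (the product of two non-central classes of `PSL_d(F)`, `d ≥ 3`, is
not a single class).  For non-scalar `A ∈ SL_n`, `B ∈ M_n` there are a transvection family
`t_s = 1 + s v φ` and a conjugate `B'` of `B` such that `tr (t_s⁻¹ A t_s B') = tr (A B') + s κ`
with `κ ≠ 0`. -/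

namespace Cfsg.Agent.S2272P

open Matrix Cfsg.Agent.Helper12.TVG Cfsg.Agent.Helper12 Cfsg.Agent.S2140P

variable {n : ℕ} {F : Type*} [Field F]

local notation "Mn" => Matrix (Fin n) (Fin n) F

/-- a matrix all of whose vectors are eigenvectors is scalar -/
theorem scalar_of_all_eigen (B : Mn) (h : ∀ x : Fin n → F, ∃ c : F, B *ᵥ x = c • x) :
    ∃ c : F, B = c • (1 : Mn) := by
  choose lam hlam using fun i : Fin n => h (Pi.single i 1)
  have heq : ∀ i j : Fin n, lam i = lam j := by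
    intro i j
    by_cases hij : i = j
    · rw [hij]
    obtain ⟨c, hc⟩ := h (Pi.single i 1 + Pi.single j 1)
    rw [mulVec_add, hlam i, hlam j, smul_add] at hc
    have h1 := congrFun hc i
    have h2 := congrFun hc j
    simp only [Pi.add_apply, Pi.smul_apply, Pi.single_eq_same, smul_eq_mul, mul_one] at h1 h2
    rw [Pi.single_eq_of_ne hij, mul_zero, add_zero, mul_zero, add_zero] at h1
    rw [Pi.single_eq_of_ne (Ne.symm hij), mul_zero, zero_add, mul_zero, zero_add] at h2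
    rw [h1, h2]
  rcases isEmpty_or_nonempty (Fin n) with hE | ⟨⟨i₀⟩⟩
  · exact ⟨0, Matrix.ext fun i _ => (hE.false i).elim⟩
  · refine ⟨lam i₀, ?_⟩
    ext i j
    have h1 := congrFun (hlam j) i
    rw [mulVec_single_one] at h1
    rw [Matrix.col_apply] at h1
    rw [h1, heq j i₀, Pi.smul_apply, Matrix.smul_apply, Matrix.one_apply, Pi.single_apply]

/-- the matrix of `h B h⁻¹` -/
def cj (h : SLn n F) (B : Mn) : Mn := (h : Mn) * B * ((h⁻¹ : SLn n F) : Mn)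

theorem cj_mul (g h : SLn n F) (B : Mn) : cj (g * h) B = cj g (cj h B) := by
  unfold cj
  rw [_root_.mul_inv_rev, Matrix.SpecialLinearGroup.coe_mul, Matrix.SpecialLinearGroup.coe_mul]
  simp only [Matrix.mul_assoc]

theorem coe_inv_mul' (h : SLn n F) : ((h⁻¹ : SLn n F) : Mn) * (h : Mn) = 1 := by
  rw [← Matrix.SpecialLinearGroup.coe_mul, inv_mul_cancel, Matrix.SpecialLinearGroup.coe_one]

theorem coe_mul_inv' (h : SLn n F) : (h : Mn) * ((h⁻¹ : SLn n F) : Mn) = 1 := by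
  rw [← Matrix.SpecialLinearGroup.coe_mul, mul_inv_cancel, Matrix.SpecialLinearGroup.coe_one]

/-- conjugating by a transvection `g = 1 + a η` with `η u = 0` -/
theorem cj_TS_mulVec (a η : Fin n → F) (hη : η ⬝ᵥ a = 0) (B : Mn) (u : Fin n → F)
    (hu : η ⬝ᵥ u = 0) :
    cj (TS a η hη) B *ᵥ u = B *ᵥ u + (η ⬝ᵥ (B *ᵥ u)) • a := by
  unfold cj
  rw [← mulVec_mulVec, ← mulVec_mulVec, TS_inv_mulVec, hu, zero_smul, sub_zero, TS_mulVec]

/-- the incident-pair lemma: if `φ (h B h⁻¹) u = 0` for all `h` then `B` is scalar -/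
theorem exists_cj_pair_ne (hn : 2 ≤ n) (B : Mn) (hB : ¬ ∃ c : F, B = c • (1 : Mn))
    (φ u : Fin n → F) (hφ : φ ≠ 0) (hu : u ≠ 0) :
    ∃ h : SLn n F, φ ⬝ᵥ (cj h B *ᵥ u) ≠ 0 := by
  by_contra hall
  push Not at hall
  -- `u` is an eigenvector of every conjugate
  have key : ∀ h : SLn n F, ∃ c : F, cj h B *ᵥ u = c • u := by
    intro h
    apply mem_span_of_ann
    intro η hηu
    by_cases hm : ∃ c : F, φ = c • η
    · obtain ⟨c, hc⟩ := hm
      have hc0 : c ≠ 0 := by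
        rintro rfl
        rw [zero_smul] at hc
        exact hφ hc
      have h1 := hall h
      rw [hc, smul_dotProduct, smul_eq_mul] at h1
      exact (mul_eq_zero.mp h1).resolve_left hc0
    · obtain ⟨a, ha1, ha2⟩ := exists_cov_sep η φ hm
      have hηa : η ⬝ᵥ a = 0 := by rw [dotProduct_comm]; exact ha1
      have h1 := hall (TS a η hηa * h)
      rw [cj_mul, cj_TS_mulVec a η hηa _ u hηu, dotProduct_add, hall h, zero_add,
        dotProduct_smul, smul_eq_mul, dotProduct_comm φ a, ha2, mul_one] at h1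
      exact h1
  apply hB
  apply scalar_of_all_eigen
  intro x
  by_cases hx : x = 0
  · exact ⟨0, by rw [hx, mulVec_zero, smul_zero]⟩
  obtain ⟨h, hh⟩ := nzVec_exists_smul_eq hn (⟨x, hx⟩ : NzVec n F) ⟨u, hu⟩
  have hxu : (h : Mn) *ᵥ x = u := congrArg Subtype.val hh
  obtain ⟨c, hc⟩ := key h
  refine ⟨c, ?_⟩
  unfold cj at hc
  rw [← hxu, ← mulVec_mulVec, ← mulVec_mulVec, sl_inv_mulVec_mulVec] at hc
  have h2 : ((h⁻¹ : SLn n F) : Mn) *ᵥ ((h : Mn) *ᵥ (B *ᵥ x)) =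
      ((h⁻¹ : SLn n F) : Mn) *ᵥ (c • (h : Mn) *ᵥ x) := by rw [hc]
  rw [mulVec_smul] at h2
  have e : ∀ y : Fin n → F, ((h⁻¹ : SLn n F) : Mn) *ᵥ ((h : Mn) *ᵥ y) = y :=
    fun y => sl_inv_mulVec_mulVec h y
  rw [e, e] at h2
  exact h2

/-- the main lemma: a conjugate `B'` of `B` with `κ = φ B' A v - φ A B' v ≠ 0` -/
theorem exists_cj_kappa_ne (hn : 3 ≤ n) (A : SLn n F) (B : Mn)
    (hB : ¬ ∃ c : F, B = c • (1 : Mn)) (v φ : Fin n → F)
    (hv : ¬ ∃ c : F, (A : Mn) *ᵥ v = c • v) (hφ : φ ≠ 0) (h1 : φ ⬝ᵥ v = 0)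
    (h2 : φ ⬝ᵥ ((A : Mn) *ᵥ v) = 0) :
    ∃ h : SLn n F, φ ⬝ᵥ (cj h B *ᵥ ((A : Mn) *ᵥ v)) - (φ ᵥ* (A : Mn)) ⬝ᵥ (cj h B *ᵥ v) ≠ 0 := by
  by_contra hall
  push Not at hall
  have hv0 : v ≠ 0 := by
    rintro rfl
    exact hv ⟨0, by rw [mulVec_zero, smul_zero]⟩
  set w := (A : Mn) *ᵥ v with hw
  set ψ := φ ᵥ* (A : Mn) with hψ
  have hψv : ψ ⬝ᵥ v = 0 := by
    rw [hψ, ← dotProduct_mulVec]
    exact h2
  by_cases hm : ∃ c : F, ψ = c • φ
  · obtain ⟨c, hc⟩ := hm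
    have hw0 : w - c • v ≠ 0 := by
      intro h0
      exact hv ⟨c, sub_eq_zero.mp h0⟩
    obtain ⟨h, hh⟩ := exists_cj_pair_ne (by omega) B hB φ (w - c • v) hφ hw0
    apply hh
    have := hall h
    rw [hc, smul_dotProduct, smul_eq_mul] at this
    rw [mulVec_sub, mulVec_smul, dotProduct_sub, dotProduct_smul, smul_eq_mul]
    exact this
  · obtain ⟨a, ha1, ha2⟩ := exists_cov_sep φ ψ hm
    have hφa : φ ⬝ᵥ a = 0 := by rw [dotProduct_comm]; exact ha1
    obtain ⟨h, hh⟩ := exists_cj_pair_ne (by omega) B hB φ v hφ hv0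
    apply hh
    have e1 := hall h
    have e2 := hall (TS a φ hφa * h)
    rw [cj_mul, cj_TS_mulVec a φ hφa _ w h2, cj_TS_mulVec a φ hφa _ v h1, dotProduct_add,
      dotProduct_add, dotProduct_smul, dotProduct_smul, hφa, smul_zero, add_zero,
      dotProduct_comm ψ a, ha2, smul_eq_mul, mul_one] at e2
    have : φ ⬝ᵥ (cj h B *ᵥ w) - (ψ ⬝ᵥ (cj h B *ᵥ v) + φ ⬝ᵥ (cj h B *ᵥ v)) =
        (φ ⬝ᵥ (cj h B *ᵥ w) - ψ ⬝ᵥ (cj h B *ᵥ v)) - φ ⬝ᵥ (cj h B *ᵥ v) := by ring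
    rw [this, e1, zero_sub, neg_eq_zero] at e2
    exact e2

/-- the trace along the transvection family -/
theorem trace_TS_conj (A : Mn) (B' : Mn) (v φ : Fin n → F) (h1 : φ ⬝ᵥ v = 0)
    (h2 : φ ⬝ᵥ (A *ᵥ v) = 0) (s : F) (hs : (s • φ) ⬝ᵥ v = 0) :
    trace ((((TS v (s • φ) hs)⁻¹ : SLn n F) : Mn) * A * ((TS v (s • φ) hs : SLn n F) : Mn) * B') =
      trace (A * B') + s * (φ ⬝ᵥ (B' *ᵥ (A *ᵥ v)) - (φ ᵥ* A) ⬝ᵥ (B' *ᵥ v)) := by
  rw [TS_inv_coe, TS_coe]
  unfold TM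
  have hE : vecMulVec (-v) (s • φ) = -(s • vecMulVec v φ) := by
    ext i j
    simp only [vecMulVec_apply, Pi.neg_apply, Pi.smul_apply, smul_eq_mul, Matrix.neg_apply,
      Matrix.smul_apply]
    ring
  have hE' : vecMulVec v (s • φ) = s • vecMulVec v φ := by
    ext i j
    simp only [vecMulVec_apply, Pi.smul_apply, smul_eq_mul, Matrix.smul_apply]
    ring
  rw [hE, hE']
  set E := vecMulVec v φ with hEdef
  have hEAE : E * A * E = 0 := by
    rw [hEdef, vecMulVec_mul, vecMulVec_mul_vecMulVec, ← dotProduct_mulVec, h2, zero_smul]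
    ext i j
    simp [vecMulVec_apply]
  have hexp : (1 + -(s • E)) * A * (1 + s • E) = A + s • (A * E - E * A) := by
    have : (1 + -(s • E)) * A * (1 + s • E) =
        A + s • (A * E) - s • (E * A) - (s * s) • (E * A * E) := by
      simp only [add_mul, mul_add, Matrix.one_mul, Matrix.mul_one, neg_mul, Matrix.smul_mul,
        Matrix.mul_smul, smul_smul, Matrix.mul_assoc]
      abel
    rw [this, hEAE, smul_zero, sub_zero, smul_sub]
    abel
  have t1 : trace (A * E * B') = φ ⬝ᵥ (B' *ᵥ (A *ᵥ v)) := by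
    rw [Matrix.mul_assoc, trace_mul_comm, Matrix.mul_assoc, hEdef, vecMulVec_mul, trace_vecMulVec,
      dotProduct_comm, ← dotProduct_mulVec, mulVec_mulVec]
  have t2 : trace (E * A * B') = (φ ᵥ* A) ⬝ᵥ (B' *ᵥ v) := by
    rw [hEdef, vecMulVec_mul, vecMulVec_mul, trace_vecMulVec, dotProduct_comm,
      ← dotProduct_mulVec]
  rw [hexp, add_mul, trace_add, Matrix.smul_mul, trace_smul, smul_eq_mul, sub_mul, trace_sub,
    t1, t2]

end Cfsg.Agent.S2272P
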