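import Mathlib
import Cfsg.Agent.Helper4.ClassProdLin

set_option autoImplicit false

/-! S2272 assembly: the product of two non-central classes of `PSL_d(F)`, `d ≥ 3`, `F` finite, is
not a single class. -/

namespace Cfsg.Agent.S2272P

open Matrix Cfsg.Agent.Helper12.TVG Cfsg.Agent.Helper12 Cfsg.Agent.S2140P

variable {n : ℕ} {F : Type*} [Field F]

local notation "Mn" => Matrix (Fin n) (Fin n) F
local notation "PS" => Matrix.ProjectiveSpecialLinearGroup (Fin n) F
local notation "πc" => QuotientGroup.mk' (Subgroup.center (SLn n F))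

/-- a non-scalar matrix has a non-eigenvector -/
theorem exists_not_eigen (B : Mn) (hB : ¬ ∃ c : F, B = c • (1 : Mn)) :
    ∃ x : Fin n → F, ¬ ∃ c : F, B *ᵥ x = c • x := by
  by_contra h
  push Not at h
  exact hB (scalar_of_all_eigen B h)

/-- an element of `SL_n` with non-trivial image in `PSL_n` is not scalar -/
theorem not_scalar_of_mk_ne_one (A : SLn n F) (hA : (πc A : PS) ≠ 1) :
    ¬ ∃ c : F, (A : Mn) = c • (1 : Mn) := by
  rintro ⟨c, hc⟩
  apply hA
  rw [QuotientGroup.mk'_apply, QuotientGroup.eq_one_iff,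
    Matrix.SpecialLinearGroup.mem_center_iff]
  refine ⟨c, ?_, ?_⟩
  · have hdet : (A : Mn).det = 1 := A.2
    rw [hc, Matrix.det_smul, Matrix.det_one, mul_one] at hdet
    exact hdet
  · rw [hc]
    ext i j
    simp [Matrix.scalar_apply, Matrix.diagonal_apply, Matrix.one_apply]

/-- conjugate elements of `PSL_n`: the traces of the lifts differ by a nonzero scalar -/
theorem trace_of_isConj (X Y : SLn n F) (h : IsConj (πc X : PS) (πc Y)) :
    ∃ μ : Fˣ, trace (Y : Mn) = (μ : F) * trace (X : Mn) := by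
  rcases Nat.eq_zero_or_pos n with hn0 | hn0
  · subst hn0
    exact ⟨1, by simp [Matrix.trace]⟩
  rw [isConj_iff] at h
  obtain ⟨k, hk⟩ := h
  obtain ⟨K, rfl⟩ := QuotientGroup.mk'_surjective _ k
  rw [← map_inv, ← map_mul, ← map_mul] at hk
  have hz : (K * X * K⁻¹)⁻¹ * Y ∈ Subgroup.center (SLn n F) := by
    rw [← QuotientGroup.eq_one_iff, ← QuotientGroup.mk'_apply, map_mul, map_inv, hk,
      inv_mul_cancel]
  rw [Matrix.SpecialLinearGroup.mem_center_iff] at hz
  obtain ⟨r, hr1, hr2⟩ := hz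
  have hr0 : r ≠ 0 := by
    rintro rfl
    rw [Fintype.card_fin, zero_pow (by omega)] at hr1
    exact zero_ne_one hr1
  refine ⟨Units.mk0 r hr0, ?_⟩
  have hY : Y = (K * X * K⁻¹) * ((K * X * K⁻¹)⁻¹ * Y) := by group
  have hYm : (Y : Mn) = (K : Mn) * (X : Mn) * ((K⁻¹ : SLn n F) : Mn) * Matrix.scalar (Fin n) r := by
    rw [hr2]
    conv_lhs => rw [hY]
    simp only [Matrix.SpecialLinearGroup.coe_mul]
  rw [hYm, Units.val_mk0]
  have hsc : Matrix.scalar (Fin n) r = r • (1 : Mn) := by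
    ext i j
    simp [Matrix.scalar_apply, Matrix.diagonal_apply, Matrix.one_apply]
  rw [hsc, Matrix.mul_smul, Matrix.mul_one, trace_smul, smul_eq_mul, Matrix.mul_assoc,
    trace_mul_comm, Matrix.mul_assoc, coe_inv_mul', Matrix.mul_one]

/-- S2272 for `Fin n` -/
theorem main [Fintype F] (hn : 3 ≤ n) (a b : PS) (ha : a ≠ 1) (hb : b ≠ 1) :
    ∃ g h : PS, ¬ IsConj (a * b) (g * a * g⁻¹ * (h * b * h⁻¹)) := by
  classical
  obtain ⟨A, rfl⟩ := QuotientGroup.mk'_surjective _ a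
  obtain ⟨B, rfl⟩ := QuotientGroup.mk'_surjective _ b
  have hA := not_scalar_of_mk_ne_one A ha
  have hB := not_scalar_of_mk_ne_one B hb
  obtain ⟨v, hv⟩ := exists_not_eigen (A : Mn) hA
  obtain ⟨x, hx⟩ := exists_notMem_span_pair hn v ((A : Mn) *ᵥ v)
  obtain ⟨φ, h1, h2, h3⟩ := exists_cov_sep_pair v ((A : Mn) *ᵥ v) x hx
  have hφ : φ ≠ 0 := by
    rintro rfl
    rw [zero_dotProduct] at h3
    exact zero_ne_one h3
  obtain ⟨H, hκ⟩ := exists_cj_kappa_ne hn A (B : Mn) hB v φ hv hφ h1 h2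
  by_contra hall
  push Not at hall
  have hs : ∀ s : F, (s • φ) ⬝ᵥ v = 0 := fun s => by rw [smul_dotProduct, h1, smul_zero]
  have key : ∀ s : F, ∃ μ : Fˣ,
      trace ((A : Mn) * cj H (B : Mn)) +
        s * (φ ⬝ᵥ (cj H (B : Mn) *ᵥ ((A : Mn) *ᵥ v)) - (φ ᵥ* (A : Mn)) ⬝ᵥ (cj H (B : Mn) *ᵥ v)) =
      (μ : F) * trace ((A : Mn) * (B : Mn)) := by
    intro s
    have hc := hall (πc (TS v (s • φ) (hs s))⁻¹) (πc H)
    rw [← map_inv, ← map_inv, ← map_mul, ← map_mul, ← map_mul, ← map_mul, ← map_mul, ← map_mul]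
      at hc
    obtain ⟨μ, hμ⟩ := trace_of_isConj _ _ hc
    refine ⟨μ, ?_⟩
    rw [← trace_TS_conj (A : Mn) (cj H (B : Mn)) v φ h1 h2 s (hs s)]
    rw [Matrix.SpecialLinearGroup.coe_mul A B] at hμ
    rw [← hμ, inv_inv]
    simp only [Matrix.SpecialLinearGroup.coe_mul, cj, Matrix.mul_assoc]
  choose f hf using key
  have hinj : Function.Injective f := by
    intro s s' hss
    have e1 := hf s
    have e2 := hf s'
    rw [hss, ← e2] at e1
    have e3 := add_left_cancel e1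
    exact mul_right_cancel₀ hκ e3
  have hcard := Fintype.card_le_of_injective f hinj
  rw [Fintype.card_units] at hcard
  have hpos : 0 < Fintype.card F := Fintype.card_pos
  omega

end Cfsg.Agent.S2272P
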