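import Cfsg.Agent.Helper22.MinGen

set_option autoImplicit false

namespace Cfsg.Agent.Helper4.Co2Rep

open Cfsg Cfsg.Agent.Helper27 Cfsg.Agent.Helper22

/-- the field with 13 elements -/
abbrev K : Type := ZMod 13

instance fact13 : Fact (Nat.Prime 13) := ⟨by norm_num⟩

/-- the space of words of length 24 -/
abbrev W : Type := GolayPt → K

/-- reduction modulo 13 -/
def red : (GolayPt → ℤ) →+ W where
  toFun v := fun i => (v i : K)
  map_zero' := by funext i; simp
  map_add' a b := by funext i; simp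

theorem red_apply (v : GolayPt → ℤ) (i : GolayPt) : red v i = (v i : K) := rfl

/-- eight times a coordinate vector -/
def E (i : GolayPt) : leechLattice := ⟨Pi.single i 8, Co0Mono.single_mem i (dvd_refl 8)⟩

/-- an additive bijection of the lattice as a homomorphism -/
def gHom (g : Equiv.Perm leechLattice) (hg : g ∈ Co0) : leechLattice →+ leechLattice :=
  AddMonoidHom.mk' g hg.1

theorem gHom_apply (g : Equiv.Perm leechLattice) (hg : g ∈ Co0) (v : leechLattice) : gHom g hg v = g v := rfl

theorem eight_smul_eq (v : leechLattice) : (8 : ℤ) • v = ∑ i, (v.1 i) • E i := by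
  apply Subtype.ext
  have h : ((∑ i, (v.1 i) • E i : leechLattice) : GolayPt → ℤ) = ∑ i, (v.1 i) • (E i).1 := by
    rw [← AddSubgroup.subtype_apply, map_sum]
    rfl
  rw [h]
  funext j
  simp only [AddSubgroup.coe_zsmul, Pi.smul_apply, smul_eq_mul, Finset.sum_apply, E, Pi.single_apply]
  rw [Finset.sum_eq_single j]
  · simp; ring
  · intro b _ hb
    rw [if_neg (Ne.symm hb), mul_zero]
  · intro h; exact absurd (Finset.mem_univ j) h

/-- the matrix of `g` modulo 13 -/
def rho (g : Equiv.Perm leechLattice) : W →ₗ[K] W :=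
  ∑ i, (LinearMap.proj i : W →ₗ[K] K).smulRight ((8 : K)⁻¹ • red (g (E i)).1)

theorem rho_apply (g : Equiv.Perm leechLattice) (w : W) :
    rho g w = ∑ i, w i • ((8 : K)⁻¹ • red (g (E i)).1) := by
  simp [rho, LinearMap.sum_apply]

theorem eight_ne : (8 : K) ≠ 0 := by decide

theorem zsmul_eq_cast_smul (n : ℤ) (w : W) : n • w = (n : K) • w := (Int.cast_smul_eq_zsmul K n w).symm

theorem rho_red {g : Equiv.Perm leechLattice} (hg : g ∈ Co0) (v : leechLattice) :
    rho g (red v.1) = red (g v).1 := by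
  have h1 := congrArg (gHom g hg) (eight_smul_eq v)
  rw [map_zsmul, map_sum] at h1
  rw [gHom_apply] at h1
  have h1' : ∀ i, (gHom g hg) ((v.1 i) • E i) = (v.1 i) • g (E i) := by
    intro i
    rw [map_zsmul, gHom_apply]
  rw [Finset.sum_congr rfl (fun i _ => h1' i)] at h1
  have h2 := congrArg (fun u : leechLattice => red u.1) h1
  beta_reduce at h2
  have h3 : ((∑ i, (v.1 i) • g (E i) : leechLattice) : GolayPt → ℤ) = ∑ i, (v.1 i) • (g (E i)).1 := by
    rw [← AddSubgroup.subtype_apply, map_sum]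
    rfl
  rw [h3, AddSubgroup.coe_zsmul, map_zsmul, map_sum] at h2
  simp only [map_zsmul, zsmul_eq_cast_smul] at h2
  rw [rho_apply]
  have h4 : ∀ i, red v.1 i • ((8 : K)⁻¹ • red (g (E i)).1) = (8 : K)⁻¹ • (((v.1 i : ℤ) : K) • red (g (E i)).1) := by
    intro i
    rw [smul_comm, red_apply]
  rw [Finset.sum_congr rfl (fun i _ => h4 i), ← Finset.smul_sum, ← h2, smul_smul]
  have : (8 : K)⁻¹ * ((8 : ℤ) : K) = 1 := by
    rw [Int.cast_ofNat]
    exact inv_mul_cancel₀ eight_ne
  rw [this, one_smul]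

end Cfsg.Agent.Helper4.Co2Rep
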