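import Cfsg.Agent.Helper4.Co2RepA
import Cfsg.Prelude.Def_Spor_Conway

set_option autoImplicit false

namespace Cfsg.Agent.Helper4.Co2Rep

open Cfsg Cfsg.Agent.Helper27 Cfsg.Agent.Helper22

theorem forty_eq : ((40 : ℤ) : K) = 1 := by decide

theorem red_surj (w : W) : ∃ v : leechLattice, red v.1 = w := by
  choose t ht using fun i => ZMod.intCast_surjective (w i)
  refine ⟨∑ i, (5 * t i) • E i, ?_⟩
  have h : ((∑ i, (5 * t i) • E i : leechLattice) : GolayPt → ℤ) = ∑ i, (5 * t i) • (E i).1 := by
    rw [← AddSubgroup.subtype_apply, map_sum]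
    rfl
  rw [h]
  funext j
  rw [red_apply]
  simp only [Finset.sum_apply, Pi.smul_apply, smul_eq_mul, E, Pi.single_apply]
  rw [Finset.sum_eq_single j]
  · rw [if_pos rfl, ← ht j]
    have : 5 * t j * 8 = 40 * t j := by ring
    rw [this, Int.cast_mul, forty_eq, one_mul]
  · intro b _ hb
    rw [if_neg (Ne.symm hb), mul_zero]
  · intro h; exact absurd (Finset.mem_univ j) h

theorem rho_mul {g h : Equiv.Perm leechLattice} (hg : g ∈ Co0) (hh : h ∈ Co0) :
    rho (g * h) = rho g ∘ₗ rho h := by
  apply LinearMap.ext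
  intro w
  obtain ⟨v, rfl⟩ := red_surj w
  rw [LinearMap.comp_apply, rho_red hh, rho_red hg, rho_red (Co0.mul_mem hg hh)]
  rfl

theorem rho_one : rho 1 = LinearMap.id := by
  apply LinearMap.ext
  intro w
  obtain ⟨v, rfl⟩ := red_surj w
  rw [rho_red Co0.one_mem]
  rfl

/-- the dot product modulo 13 -/
def dotK (a b : W) : K := ∑ i, a i * b i

theorem dotK_red (v w : GolayPt → ℤ) : dotK (red v) (red w) = ((dotInt v w : ℤ) : K) := by
  simp only [dotK, dotInt, red_apply, Int.cast_sum, Int.cast_mul]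

theorem rho_dot {g : Equiv.Perm leechLattice} (hg : g ∈ Co0) (a b : W) :
    dotK (rho g a) (rho g b) = dotK a b := by
  obtain ⟨v, rfl⟩ := red_surj a
  obtain ⟨w, rfl⟩ := red_surj b
  rw [rho_red hg, rho_red hg, dotK_red, dotK_red]
  congr 1
  exact Co0Mono.co0_dot ⟨g, hg⟩ v w

/-- the fixed vector modulo 13 -/
def uK : W := red Spor.vecU

theorem leechU_val : (Spor.leechU : GolayPt → ℤ) = Spor.vecU := rfl

theorem rho_uK {g : Equiv.Perm leechLattice} (hg : g ∈ Spor.Co2) : rho g uK = uK := by
  have h1 : g Spor.leechU = Spor.leechU := hg.2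
  have h2 : rho g (red Spor.leechU.1) = red (g Spor.leechU).1 := rho_red hg.1 Spor.leechU
  have h3 : red (g Spor.leechU).1 = red Spor.leechU.1 := congrArg (fun u : leechLattice => red u.1) h1
  rw [leechU_val] at h2 h3
  unfold uK
  exact h2.trans h3

/-- the functional `dotK · uK` -/
def phi : W →ₗ[K] K where
  toFun w := dotK w uK
  map_add' a b := by simp only [dotK, Pi.add_apply, add_mul, Finset.sum_add_distrib]
  map_smul' r a := by
    simp only [dotK, Pi.smul_apply, smul_eq_mul, RingHom.id_apply, Finset.mul_sum, mul_assoc]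

theorem phi_apply (w : W) : phi w = dotK w uK := rfl

theorem dotInt_vecU : dotInt Spor.vecU Spor.vecU = 32 := by decide +kernel

theorem phi_uK : phi uK = 6 := by
  rw [phi_apply, uK, dotK_red, dotInt_vecU]
  decide

/-- the hyperplane orthogonal to the fixed vector -/
def H : Submodule K W := LinearMap.ker phi

theorem mem_H (w : W) : w ∈ H ↔ dotK w uK = 0 := LinearMap.mem_ker

theorem finrank_H : Module.finrank K H = 23 := by
  have h1 := LinearMap.finrank_range_add_finrank_ker phi
  have h2 : LinearMap.range phi = ⊤ := by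
    apply LinearMap.range_eq_top.mpr
    intro k
    refine ⟨(k * (6 : K)⁻¹) • uK, ?_⟩
    rw [map_smul, phi_uK, smul_eq_mul, mul_assoc, inv_mul_cancel₀ (by decide), mul_one]
  have h3 : Fintype.card GolayPt = 24 := by decide
  rw [h2, finrank_top, Module.finrank_self, Module.finrank_fintype_fun_eq_card, h3] at h1
  show Module.finrank K (LinearMap.ker phi) = 23
  omega

theorem rho_mem_H {g : Equiv.Perm leechLattice} (hg : g ∈ Spor.Co2) {w : W} (hw : w ∈ H) : rho g w ∈ H := by
  rw [mem_H] at hw ⊢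
  rw [← rho_uK hg, rho_dot hg.1]
  exact hw

end Cfsg.Agent.Helper4.Co2Rep
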