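import Cfsg.Agent.Helper4.Co2RepB

set_option autoImplicit false

namespace Cfsg.Agent.Helper4.Co2Rep

open Cfsg Cfsg.Agent.Helper27 Cfsg.Agent.Helper22

/-- the action on the hyperplane -/
def rhoH (g : Spor.Co2) : Module.End K H := (rho g.1).restrict (fun _ hw => rho_mem_H g.2 hw)

theorem rhoH_apply (g : Spor.Co2) (w : H) : ((rhoH g w : H) : W) = rho g.1 w.1 := rfl

/-- the action on the hyperplane as a homomorphism -/
def rhoHom : Spor.Co2 →* Module.End K H where
  toFun := rhoH
  map_one' := by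
    apply LinearMap.ext
    intro w
    apply Subtype.ext
    rw [rhoH_apply]
    show rho 1 w.1 = w.1
    rw [rho_one]
    rfl
  map_mul' g h := by
    apply LinearMap.ext
    intro w
    apply Subtype.ext
    rw [rhoH_apply, Module.End.mul_apply, rhoH_apply, rhoH_apply]
    have e : ((g * h : Spor.Co2) : Equiv.Perm leechLattice) = g.1 * h.1 := rfl
    rw [e, rho_mul g.2.1 h.2.1, LinearMap.comp_apply]

/-- a vector fixed modulo 13 by an isometry is fixed when it is short -/
theorem fixed_of_red {g : Equiv.Perm leechLattice} (hg : g ∈ Co0) {v : leechLattice}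
    (hv : sqNorm v.1 = 32) (hred : red (g v).1 = red v.1) : g v = v := by
  by_contra hne
  have hne' : (g v).1 - v.1 ≠ 0 := by
    intro h
    apply hne
    apply Subtype.ext
    exact sub_eq_zero.mp h
  obtain ⟨i, hi⟩ : ∃ i, ((g v).1 - v.1) i ≠ 0 := by
    by_contra hcon
    push Not at hcon
    exact hne' (funext hcon)
  have hdvd : (13 : ℤ) ∣ ((g v).1 - v.1) i := by
    have h1 := congrFun hred i
    rw [red_apply, red_apply] at h1
    rw [Pi.sub_apply]
    have h2 : (((g v).1 i - v.1 i : ℤ) : ZMod 13) = 0 := by rw [Int.cast_sub, h1, sub_self]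
    exact_mod_cast (ZMod.intCast_zmod_eq_zero_iff_dvd _ 13).mp h2
  have hsq : (169 : ℤ) ≤ (((g v).1 - v.1) i) ^ 2 := by
    obtain ⟨k, hk⟩ := hdvd
    rw [hk]
    have hk0 : k ≠ 0 := by
      intro h0
      rw [h0, mul_zero] at hk
      exact hi hk
    have : 1 ≤ k ^ 2 := by
      have := sq_pos_of_ne_zero hk0 |> Int.add_one_le_of_lt
      linarith
    nlinarith
  have hnorm : (169 : ℤ) ≤ sqNorm ((g v).1 - v.1) := by
    unfold sqNorm
    refine le_trans hsq ?_
    exact Finset.single_le_sum (f := fun j => (((g v).1 - v.1) j) ^ 2) (fun j _ => sq_nonneg _) (Finset.mem_univ i)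
  have h1 : sqNorm ((g v).1 + v.1) = sqNorm (g v).1 + sqNorm v.1 + 2 * dotInt (g v).1 v.1 := Co0Mono.sqNorm_add _ _
  have h2 : sqNorm ((g v).1 - v.1) = sqNorm (g v).1 + sqNorm v.1 - 2 * dotInt (g v).1 v.1 := by
    have := Co0Mono.sqNorm_add ((g v).1 - v.1) v.1
    rw [sub_add_cancel] at this
    have h3 : dotInt ((g v).1 - v.1) v.1 = dotInt (g v).1 v.1 - sqNorm v.1 := by
      simp only [dotInt, sqNorm, Pi.sub_apply, sub_mul, Finset.sum_sub_distrib, sq]
    rw [h3] at this
    linarith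
  have h4 : 0 ≤ sqNorm ((g v).1 + v.1) := by
    unfold sqNorm
    exact Finset.sum_nonneg (fun j _ => sq_nonneg _)
  have h5 : sqNorm (g v).1 = 32 := by rw [hg.2 v, hv]
  rw [h5, hv] at h1 h2
  linarith

/-- an isometry trivial modulo 13 is trivial -/
theorem eq_one_of_red {g : Equiv.Perm leechLattice} (hg : g ∈ Co0)
    (hred : ∀ v : leechLattice, red (g v).1 = red v.1) : g = 1 := by
  let A : AddSubgroup (GolayPt → ℤ) :=
    (AddMonoidHom.eqLocus (gHom g hg) (AddMonoidHom.id _)).map leechLattice.subtype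
  have hA : MinGen.M ≤ A := by
    unfold MinGen.M
    rw [AddSubgroup.closure_le]
    rintro y ⟨hy, hn⟩
    refine ⟨⟨y, hy⟩, ?_, rfl⟩
    show g ⟨y, hy⟩ = ⟨y, hy⟩
    exact fixed_of_red hg hn (hred _)
  apply Equiv.ext
  intro v
  have hv : v.1 ∈ A := hA (by rw [MinGen.closure_eq]; exact v.2)
  obtain ⟨v', hv', hvv'⟩ := hv
  have : v' = v := Subtype.ext hvv'
  subst this
  exact hv'

end Cfsg.Agent.Helper4.Co2Rep
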