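import Cfsg.Agent.Helper4.Co2RepC

set_option autoImplicit false

namespace Cfsg.Agent.Helper4.Co2Rep

open Cfsg Cfsg.Agent.Helper27 Cfsg.Agent.Helper22

theorem mem_H' (w : W) : w ∈ H ↔ phi w = 0 := LinearMap.mem_ker

/-- an element acting trivially on the hyperplane is trivial -/
theorem eq_one_of_rhoH {g : Spor.Co2} (h : rhoH g = 1) : g = 1 := by
  have hH : ∀ w ∈ H, rho g.1 w = w := by
    intro w hw
    have h1 : rhoH g ⟨w, hw⟩ = ⟨w, hw⟩ := by rw [h]; rfl
    have h2 := congrArg Subtype.val h1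
    rw [rhoH_apply] at h2
    exact h2
  have hall : ∀ w : W, rho g.1 w = w := by
    intro w
    have h6 : (6 : K) ≠ 0 := by decide
    have hw : w - (phi w * (6 : K)⁻¹) • uK ∈ H := by
      rw [mem_H']
      rw [map_sub, map_smul, phi_uK, smul_eq_mul, mul_assoc, inv_mul_cancel₀ h6, mul_one, sub_self]
    generalize phi w * (6 : K)⁻¹ = c at hw
    have h1 : rho g.1 (w - c • uK) = w - c • uK := hH _ hw
    have h2 : rho g.1 (w - c • uK) = rho g.1 w - c • uK := by
      rw [LinearMap.map_sub, LinearMap.map_smul, rho_uK g.2]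
    rw [h2] at h1
    exact sub_left_injective h1
  apply Subtype.ext
  apply eq_one_of_red g.2.1
  intro v
  rw [← rho_red g.2.1, hall]

theorem exists_embedding : ∃ f : ↥Spor.Co2 →* GL (Fin 23) (ZMod 13), Function.Injective f := by
  let b : Module.Basis (Fin 23) K H := Module.finBasisOfFinrankEq K H finrank_H
  let e : Module.End K H ≃ₐ[K] Matrix (Fin 23) (Fin 23) K := LinearMap.toMatrixAlgEquiv b
  let f0 : ↥Spor.Co2 →* Matrix (Fin 23) (Fin 23) K := (e : Module.End K H →* Matrix (Fin 23) (Fin 23) K).comp rhoHom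
  refine ⟨MonoidHom.toHomUnits f0, ?_⟩
  rw [injective_iff_map_eq_one]
  intro g hg
  apply eq_one_of_rhoH
  have h1 : f0 g = 1 := by
    have := congrArg (fun u : (Matrix (Fin 23) (Fin 23) K)ˣ => (u : Matrix (Fin 23) (Fin 23) K)) hg
    exact this
  have h2 : e (rhoH g) = e 1 := by
    rw [map_one]
    exact h1
  exact e.injective h2

end Cfsg.Agent.Helper4.Co2Rep
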