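import Mathlib

set_option autoImplicit false
set_option linter.style.haveILetI false
set_option linter.unusedSectionVars false

/-!
# The Dickson pair condition (number theory)
-/

namespace Cfsg.Agent.Helper4.Dickson

open Finset

/-- `q ^ i ≡ 1` modulo `M` iff `M ∣ q ^ i - 1` (for `q ≥ 1`). -/
theorem modEq_one_iff {q M i : ℕ} (hq : 1 ≤ q) : q ^ i ≡ 1 [MOD M] ↔ M ∣ q ^ i - 1 := by
  rw [Nat.ModEq.comm, Nat.modEq_iff_dvd' (Nat.one_le_pow _ _ hq)]

/-- Integer version of the divisibility `M ∣ q ^ i - 1`. -/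
theorem dvd_iff_int {q M i : ℕ} (hq : 1 ≤ q) :
    M ∣ q ^ i - 1 ↔ (M : ℤ) ∣ (q : ℤ) ^ i - 1 := by
  rw [← Int.natCast_dvd_natCast, Nat.cast_sub (Nat.one_le_pow _ _ hq)]
  simp

/-- Part 1: if every prime factor of `k` divides `Q - 1` then `k * (Q - 1) ∣ Q ^ k - 1`. -/
theorem part1_int (Q : ℤ) : ∀ k : ℕ, 1 ≤ k → (∀ r : ℕ, r.Prime → r ∣ k → (r : ℤ) ∣ Q - 1) →
    (k : ℤ) * (Q - 1) ∣ Q ^ k - 1 := by
  intro k
  induction k using Nat.strong_induction_on with
  | _ k ih =>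
    intro hk hprimes
    rcases Nat.eq_or_lt_of_le hk with hk1 | hk1
    · rw [← hk1]
      simp
    · have hr : (k.minFac).Prime := Nat.minFac_prime (by omega)
      obtain ⟨k', hk'⟩ := Nat.minFac_dvd k
      set r := k.minFac with hr_def
      have hk'pos : 1 ≤ k' := by
        rcases Nat.eq_zero_or_pos k' with h | h
        · rw [h, mul_zero] at hk'
          omega
        · exact h
      have hk'lt : k' < k := by
        rw [hk']
        have := hr.two_le
        nlinarith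
      have hih := ih k' hk'lt hk'pos (fun s hs hsk => hprimes s hs (by
        rw [hk']
        exact Dvd.dvd.mul_left hsk r))
      have hrQ : (r : ℤ) ∣ Q - 1 := hprimes r hr (Nat.minFac_dvd k)
      have hrR : (r : ℤ) ∣ Q ^ k' - 1 := by
        refine hrQ.trans ?_
        have := sub_dvd_pow_sub_pow Q 1 k'
        simpa using this
      have hsum : (r : ℤ) ∣ ∑ i ∈ range r, (Q ^ k') ^ i := by
        have := dvd_geom_sum₂_self (n := r) (x := Q ^ k') (y := 1) (by simpa using hrR)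
        simpa using this
      have hgeom : (∑ i ∈ range r, (Q ^ k') ^ i) * (Q ^ k' - 1) = Q ^ k - 1 := by
        rw [geom_sum_mul, ← pow_mul, hk', mul_comm]
      rw [← hgeom, hk']
      push_cast
      rw [mul_assoc]
      exact mul_dvd_mul hsum hih

theorem part1 {q : ℕ} (hq : 1 ≤ q) (k : ℕ) (hk : 1 ≤ k)
    (hprimes : ∀ r : ℕ, r.Prime → r ∣ k → r ∣ q - 1) : k * (q - 1) ∣ q ^ k - 1 := by
  rw [dvd_iff_int hq]
  have := part1_int (q : ℤ) k hk (fun r hr hrk => by
    have := hprimes r hr hrk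
    rw [← Int.natCast_dvd_natCast, Nat.cast_sub hq] at this
    simpa using this)
  rw [Nat.cast_mul, Nat.cast_sub hq]
  simpa using this

/-- For `r` prime, `n = r * m`: the key non-divisibility. -/
theorem part2_prime {q n : ℕ} (hq : 2 ≤ q) (hD1 : ∀ r : ℕ, r.Prime → r ∣ n → r ∣ q - 1)
    (hD2 : 4 ∣ n → 4 ∣ q - 1) (r m : ℕ) (hr : r.Prime) (hnrm : n = r * m) (hm : m ≠ 0) :
    ¬ n * (q - 1) ∣ q ^ m - 1 := by
  intro hdvd
  haveI : Fact r.Prime := ⟨hr⟩
  have hq1 : 1 ≤ q := by omega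
  have hd0 : q - 1 ≠ 0 := by omega
  have hrd : r ∣ q - 1 := hD1 r hr (by rw [hnrm]; exact dvd_mul_right r m)
  have hrq : ¬ r ∣ q := by
    intro h
    have : r ∣ q - (q - 1) := Nat.dvd_sub h hrd
    rw [Nat.sub_sub_self hq1] at this
    exact hr.one_lt.ne' (Nat.dvd_one.mp this)
  have hqm0 : q ^ m - 1 ≠ 0 := by
    have : 2 ^ m ≤ q ^ m := Nat.pow_le_pow_left hq m
    have : 2 ≤ 2 ^ m := by
      calc 2 = 2 ^ 1 := by norm_num
        _ ≤ 2 ^ m := Nat.pow_le_pow_right (by norm_num) (by omega)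
    omega
  have hn0 : n ≠ 0 := by
    rw [hnrm]
    exact mul_ne_zero hr.ne_zero hm
  -- valuation inequality from divisibility
  have hval : padicValNat r n + padicValNat r (q - 1) ≤ padicValNat r (q ^ m - 1) := by
    rw [← padicValNat.mul hn0 hd0, ← padicValNat_dvd_iff_le hqm0]
    exact (pow_padicValNat_dvd).trans hdvd
  have hvn : padicValNat r n = 1 + padicValNat r m := by
    rw [hnrm, padicValNat.mul hr.ne_zero hm, padicValNat.self hr.one_lt]
  by_cases hodd : Odd r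
  · have hlte := padicValNat.pow_sub_pow (p := r) hodd (x := q) (y := 1) (by omega)
      (by simpa using hrd) hrq hm
    rw [one_pow] at hlte
    omega
  · have hr2 : r = 2 := by
      rcases hr.eq_two_or_odd' with h | h
      · exact h
      · exact absurd h hodd
    subst hr2
    by_cases hmeven : Even m
    · have h4n : 4 ∣ n := by
        obtain ⟨c, hc⟩ := hmeven
        rw [hnrm, hc]
        exact ⟨c, by ring⟩
      have h4d := hD2 h4n
      have hlte := padicValNat.pow_two_sub_one (x := q) (by omega) hrq hm hmeven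
      have hq1v : padicValNat 2 (q + 1) = 1 := by
        obtain ⟨c, hc⟩ := h4d
        have : q + 1 = 2 * (2 * c + 1) := by omega
        rw [this, padicValNat.mul (by norm_num) (by omega), padicValNat.self (by norm_num),
          padicValNat.eq_zero_of_not_dvd (by omega)]
      omega
    · -- m odd: the geometric sum is odd
      have hmodd : Odd m := Nat.not_even_iff_odd.mp hmeven
      rw [dvd_iff_int hq1] at hdvd
      have hgeom : (∑ i ∈ range m, (q : ℤ) ^ i) * ((q : ℤ) - 1) = (q : ℤ) ^ m - 1 :=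
        geom_sum_mul _ _
      rw [← hgeom] at hdvd
      have hqz : ((q - 1 : ℕ) : ℤ) = (q : ℤ) - 1 := by
        rw [Nat.cast_sub hq1]
        simp
      rw [Nat.cast_mul, hqz] at hdvd
      have hqz0 : (q : ℤ) - 1 ≠ 0 := by
        have : (2 : ℤ) ≤ q := by exact_mod_cast hq
        omega
      have h2 : (n : ℤ) ∣ ∑ i ∈ range m, (q : ℤ) ^ i := (mul_dvd_mul_iff_right hqz0).mp hdvd
      have h3 : (2 : ℤ) ∣ ∑ i ∈ range m, (q : ℤ) ^ i := by
        refine Dvd.dvd.trans ?_ h2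
        rw [hnrm]
        push_cast
        exact dvd_mul_right _ _
      have h4 : (2 : ℤ) ∣ (q : ℤ) - 1 := by
        rw [← hqz]
        exact_mod_cast hrd
      have h5 := (dvd_geom_sum₂_iff_of_dvd_sub (n := m) (x := (q : ℤ)) (y := 1) (p := 2) h4).mp
        (by simpa using h3)
      simp only [one_pow, mul_one] at h5
      have h6 : 2 ∣ m := by exact_mod_cast h5
      exact hmeven (even_iff_two_dvd.mpr h6)

/-- Part 2: minimality of `n` under the Dickson condition. -/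
theorem part2 {q n : ℕ} (hq : 2 ≤ q) (hn : 1 < n)
    (hD1 : ∀ r : ℕ, r.Prime → r ∣ n → r ∣ q - 1) (hD2 : 4 ∣ n → 4 ∣ q - 1)
    (i : ℕ) (hi0 : 0 < i) (hin : i < n) : ¬ q ^ i ≡ 1 [MOD n * (q - 1)] := by
  intro hi
  have hq1 : 1 ≤ q := by omega
  set M := n * (q - 1) with hM
  have hn1 : q ^ n ≡ 1 [MOD M] := by
    rw [modEq_one_iff hq1]
    exact part1 hq1 n (by omega) hD1
  -- pass to ZMod M
  have e : ∀ k : ℕ, q ^ k ≡ 1 [MOD M] ↔ ((q : ZMod M)) ^ k = 1 := by
    intro k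
    rw [← ZMod.natCast_eq_natCast_iff]
    simp
  rw [e] at hi hn1
  set g := Nat.gcd i n with hg
  have hgpow : (q : ZMod M) ^ g = 1 := pow_gcd_eq_one.mpr ⟨hi, hn1⟩
  have hgn : g ∣ n := Nat.gcd_dvd_right i n
  have hgi : g ∣ i := Nat.gcd_dvd_left i n
  have hgpos : 0 < g := Nat.gcd_pos_of_pos_left n hi0
  have hglt : g < n := lt_of_le_of_lt (Nat.le_of_dvd hi0 hgi) hin
  obtain ⟨c, hc⟩ := hgn
  have hc1 : 1 < c := by
    by_contra hcon
    push Not at hcon
    interval_cases c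
    · omega
    · omega
  obtain ⟨r, hr, hrc⟩ := Nat.exists_prime_and_dvd (by omega : c ≠ 1)
  obtain ⟨c', hc'⟩ := hrc
  -- m = n / r = g * c'
  have hnrm : n = r * (g * c') := by rw [hc, hc']; ring
  have hm0 : g * c' ≠ 0 := by
    intro h
    rw [h, mul_zero] at hnrm
    omega
  have hmpow : (q : ZMod M) ^ (g * c') = 1 := by rw [pow_mul, hgpow, one_pow]
  rw [← e, modEq_one_iff hq1] at hmpow
  exact part2_prime hq hD1 hD2 r (g * c') hr hnrm hm0 hmpow

/-- Split `n` into a part whose primes divide `d` and a part coprime to `d`. -/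
theorem exists_split (d : ℕ) : ∀ n : ℕ, n ≠ 0 → ∃ n0 n1 : ℕ, n = n0 * n1 ∧
    (∀ r : ℕ, r.Prime → r ∣ n0 → r ∣ d) ∧ Nat.Coprime n1 d := by
  intro n
  induction n using Nat.recOnMul with
  | zero => intro h; exact absurd rfl h
  | one =>
    intro _
    exact ⟨1, 1, by simp, fun r hr h1 => absurd (Nat.dvd_one.mp h1) hr.one_lt.ne', by simp⟩
  | prime p hp =>
    intro _
    by_cases hpd : p ∣ d
    · refine ⟨p, 1, by simp, ?_, by simp⟩
      intro r hr hrp
      rw [(Nat.prime_dvd_prime_iff_eq hr hp).mp hrp]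
      exact hpd
    · refine ⟨1, p, by simp, fun r hr h1 => absurd (Nat.dvd_one.mp h1) hr.one_lt.ne', ?_⟩
      exact (Nat.Prime.coprime_iff_not_dvd hp).mpr hpd
  | mul a b iha ihb =>
    intro hab
    have ha : a ≠ 0 := fun h => hab (by rw [h, zero_mul])
    have hb : b ≠ 0 := fun h => hab (by rw [h, mul_zero])
    obtain ⟨a0, a1, hae, hap, hac⟩ := iha ha
    obtain ⟨b0, b1, hbe, hbp, hbc⟩ := ihb hb
    refine ⟨a0 * b0, a1 * b1, by rw [hae, hbe]; ring, ?_, Nat.Coprime.mul_left hac hbc⟩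
    intro r hr hrab
    rcases (Nat.Prime.dvd_mul hr).mp hrab with h | h
    · exact hap r hr h
    · exact hbp r hr h

/-- Claim A: the order condition forces every prime factor of `n` to divide `q - 1`. -/
theorem claimA {q n : ℕ} (hq : 2 ≤ q) (hn : 1 < n)
    (h1 : q ^ n ≡ 1 [MOD n * (q - 1)])
    (h2 : ∀ i : ℕ, 0 < i → i < n → ¬ q ^ i ≡ 1 [MOD n * (q - 1)]) :
    ∀ r : ℕ, r.Prime → r ∣ n → r ∣ q - 1 := by
  have hq1 : 1 ≤ q := by omega
  set d := q - 1 with hd
  set M := n * d with hM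
  obtain ⟨n0, n1, hn01, hn0p, hn1c⟩ := exists_split d n (by omega)
  have hn0pos : 0 < n0 := by
    rcases Nat.eq_zero_or_pos n0 with h | h
    · rw [h, zero_mul] at hn01; omega
    · exact h
  have hn1pos : 0 < n1 := by
    rcases Nat.eq_zero_or_pos n1 with h | h
    · rw [h, mul_zero] at hn01; omega
    · exact h
  -- it suffices to show `n1 = 1`
  suffices hn1 : n1 = 1 by
    rw [hn1, mul_one] at hn01
    rw [hn01]
    exact hn0p
  by_contra hn1ne
  have hn1gt : 1 < n1 := by omega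
  -- q ^ n0 ≡ 1 mod n0 * d
  have ha : q ^ n0 ≡ 1 [MOD n0 * d] := by
    rw [modEq_one_iff hq1]
    exact part1 hq1 n0 hn0pos hn0p
  -- q coprime to n1
  have hqn1 : Nat.Coprime q n1 := by
    have h1' : q ^ n ≡ 1 [MOD n1] := by
      refine Nat.ModEq.of_dvd ?_ h1
      rw [hM, hn01]
      exact ⟨n0 * d, by ring⟩
    apply Nat.coprime_of_mul_modEq_one (q ^ (n - 1))
    rwa [← pow_succ', Nat.sub_add_cancel (by omega)]
  have hb : q ^ Nat.totient n1 ≡ 1 [MOD n1] := Nat.ModEq.pow_totient hqn1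
  set x := n0 * Nat.totient n1 with hx
  have hxa : q ^ x ≡ 1 [MOD n0 * d] := by
    rw [hx, pow_mul]
    simpa using ha.pow (Nat.totient n1)
  have hxb : q ^ x ≡ 1 [MOD n1] := by
    rw [hx, mul_comm, pow_mul]
    simpa using hb.pow n0
  have hcop : Nat.Coprime (n0 * d) n1 := by
    apply Nat.Coprime.mul_left _ hn1c.symm
    apply Nat.coprime_of_dvd
    intro k hk hk0 hk1
    have hkd := hn0p k hk hk0
    have : k ∣ Nat.gcd n1 d := Nat.dvd_gcd hk1 hkd
    rw [hn1c] at this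
    exact hk.one_lt.ne' (Nat.dvd_one.mp this)
  have hxM : q ^ x ≡ 1 [MOD M] := by
    have := (Nat.modEq_and_modEq_iff_modEq_mul hcop).mp ⟨hxa, hxb⟩
    have hMe : n0 * d * n1 = M := by rw [hM, hn01]; ring
    rwa [hMe] at this
  have e : ∀ k : ℕ, q ^ k ≡ 1 [MOD M] ↔ ((q : ZMod M)) ^ k = 1 := by
    intro k
    rw [← ZMod.natCast_eq_natCast_iff]
    simp
  set i := Nat.gcd n x with hi
  have hipow : q ^ i ≡ 1 [MOD M] := by
    rw [e] at h1 hxM ⊢
    exact pow_gcd_eq_one.mpr ⟨h1, hxM⟩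
  have hipos : 0 < i := Nat.gcd_pos_of_pos_left x (by omega)
  have hin : i ∣ n := Nat.gcd_dvd_left n x
  have hile : i ≤ n := Nat.le_of_dvd (by omega) hin
  rcases Nat.eq_or_lt_of_le hile with hieq | hilt
  · -- then n ∣ x, so n1 ∣ φ(n1)
    have hnx : n ∣ x := by
      rw [← hieq]
      exact Nat.gcd_dvd_right n x
    rw [hn01, hx] at hnx
    have : n1 ∣ Nat.totient n1 := (Nat.mul_dvd_mul_iff_left hn0pos).mp hnx
    have hlt := Nat.totient_lt n1 hn1gt
    have hpos : 0 < Nat.totient n1 := Nat.totient_pos.mpr hn1pos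
    exact absurd (Nat.le_of_dvd hpos this) (by omega)
  · exact h2 i hipos hilt hipow

/-- Claim B: the order condition forces `4 ∣ q - 1` when `4 ∣ n`. -/
theorem claimB {q n : ℕ} (hq : 2 ≤ q) (hn : 1 < n)
    (hA : ∀ r : ℕ, r.Prime → r ∣ n → r ∣ q - 1)
    (h2 : ∀ i : ℕ, 0 < i → i < n → ¬ q ^ i ≡ 1 [MOD n * (q - 1)]) (h4 : 4 ∣ n) :
    4 ∣ q - 1 := by
  by_contra h4d
  have hq1 : 1 ≤ q := by omega
  have h2d : 2 ∣ q - 1 := hA 2 Nat.prime_two (Dvd.dvd.trans (by norm_num) h4)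
  obtain ⟨k, hk⟩ := h4
  have hkpos : 1 ≤ k := by omega
  -- 4 ∣ q + 1
  have h4q : 4 ∣ q + 1 := by omega
  -- apply part 1 to Q = q ^ 2
  have hQ1 : 1 ≤ q ^ 2 := Nat.one_le_pow _ _ hq1
  have hQd : q ^ 2 - 1 = (q - 1) * (q + 1) := by
    have : q ^ 2 = (q - 1) * (q + 1) + 1 := by
      obtain ⟨t, rfl⟩ : ∃ t, q = t + 1 := ⟨q - 1, by omega⟩
      simp
      ring
    omega
  have hp1 := part1 hQ1 k hkpos (fun r hr hrk => by
    rw [hQd]
    exact Dvd.dvd.mul_right (hA r hr (by rw [hk]; exact Dvd.dvd.mul_left hrk 4)) _)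
  rw [← pow_mul] at hp1
  have hMdvd : n * (q - 1) ∣ k * (q ^ 2 - 1) := by
    obtain ⟨c, hc⟩ := h4q
    rw [hQd, hc, hk]
    exact ⟨c, by ring⟩
  have := hMdvd.trans hp1
  rw [← modEq_one_iff hq1] at this
  exact h2 (2 * k) (by omega) (by omega) this

/-- The Dickson pair condition. -/
theorem dickson_iff (q n : ℕ) (hq : 2 ≤ q) (hn : 1 < n) :
    ((∀ r : ℕ, r.Prime → r ∣ n → r ∣ q - 1) ∧ (4 ∣ n → 4 ∣ q - 1)) ↔
    (q ^ n ≡ 1 [MOD n * (q - 1)] ∧
      ∀ i : ℕ, 0 < i → i < n → ¬ q ^ i ≡ 1 [MOD n * (q - 1)]) := by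
  constructor
  · rintro ⟨hD1, hD2⟩
    refine ⟨?_, fun i hi0 hin => part2 hq hn hD1 hD2 i hi0 hin⟩
    rw [modEq_one_iff (by omega)]
    exact part1 (by omega) n (by omega) hD1
  · rintro ⟨h1, h2⟩
    have hA := claimA hq hn h1 h2
    exact ⟨hA, claimB hq hn hA h2⟩

end Cfsg.Agent.Helper4.Dickson
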