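import Mathlib

set_option autoImplicit false
set_option linter.style.haveILetI false
set_option linter.unusedSectionVars false

namespace Cfsg.Agent.Helper4

open MulAction

section
variable {G α : Type*} [Group G] [MulAction G α]

/-- Two equivariant maps out of a transitive `G`-set that agree at a point are equal. -/
theorem equivariant_eq_of_eq_at [IsPretransitive G α] {β : Type*} [MulAction G β]
    (ψ ψ' : α → β)
    (hψ : ∀ (g : G) (x : α), ψ (g • x) = g • ψ x) (hψ' : ∀ (g : G) (x : α), ψ' (g • x) = g • ψ' x)
    (a : α) (ha : ψ a = ψ' a) : ψ = ψ' := by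
  funext x
  obtain ⟨g, rfl⟩ := exists_smul_eq G a x
  rw [hψ, hψ', ha]

/-- The equivariant map `α → α` sending `a` to `b` (meaningful when `b` is fixed by the
stabiliser of `a`). -/
noncomputable def eqvMap [IsPretransitive G α] (a b : α) : α → α :=
  fun x => (Classical.choose (exists_smul_eq G a x)) • b

theorem eqvMap_smul_base [IsPretransitive G α] {a b : α}
    (hb : b ∈ fixedPoints (stabilizer G a) α) (g : G) :
    eqvMap (G := G) a b (g • a) = g • b := by
  unfold eqvMap
  have h1 := Classical.choose_spec (exists_smul_eq G a (g • a))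
  set g1 := Classical.choose (exists_smul_eq G a (g • a))
  have hmem : g⁻¹ * g1 ∈ stabilizer G a := by
    rw [mem_stabilizer_iff, mul_smul, h1, inv_smul_smul]
  have := hb ⟨g⁻¹ * g1, hmem⟩
  have h2 : (g⁻¹ * g1) • b = b := this
  rw [mul_smul, inv_smul_eq_iff] at h2
  exact h2

theorem eqvMap_equivariant [IsPretransitive G α] {a b : α}
    (hb : b ∈ fixedPoints (stabilizer G a) α) (g : G) (x : α) :
    eqvMap (G := G) a b (g • x) = g • eqvMap (G := G) a b x := by
  obtain ⟨k, rfl⟩ := exists_smul_eq G a x
  rw [← mul_smul, eqvMap_smul_base hb, eqvMap_smul_base hb, mul_smul]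

theorem eqvMap_self [IsPretransitive G α] {a b : α}
    (hb : b ∈ fixedPoints (stabilizer G a) α) : eqvMap (G := G) a b a = b := by
  have := eqvMap_smul_base (G := G) hb 1
  simpa using this

/-- The value at `a` of an equivariant self-map is fixed by the stabiliser of `a`. -/
theorem equivariant_apply_mem_fixedPoints (ψ : α → α)
    (hψ : ∀ (g : G) (x : α), ψ (g • x) = g • ψ x) (a : α) :
    ψ a ∈ fixedPoints (stabilizer G a) α := by
  intro h
  have : (h : G) • ψ a = ψ a := by rw [← hψ, h.2]
  exact this

theorem eqvMap_mem_fixedPoints [IsPretransitive G α] {a b : α}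
    (hb : b ∈ fixedPoints (stabilizer G a) α) (x : α)
    (hx : x ∈ fixedPoints (stabilizer G a) α) :
    eqvMap (G := G) a b x ∈ fixedPoints (stabilizer G a) α := by
  intro h
  have h1 : (h : G) • x = x := hx h
  have : (h : G) • eqvMap (G := G) a b x = eqvMap (G := G) a b x := by
    rw [← eqvMap_equivariant hb, h1]
  exact this

/-- An equivariant self-map of a transitive `G`-set is the `eqvMap` of its value at `a`. -/
theorem equivariant_eq_eqvMap [IsPretransitive G α] (ψ : α → α)
    (hψ : ∀ (g : G) (x : α), ψ (g • x) = g • ψ x) (a : α) :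
    ψ = eqvMap (G := G) a (ψ a) := by
  have hb := equivariant_apply_mem_fixedPoints ψ hψ a
  apply equivariant_eq_of_eq_at (G := G) ψ _ hψ (eqvMap_equivariant hb) a
  rw [eqvMap_self hb]

theorem inv_smul_mem_fixedPoints_of_mem_normalizer {a : α} {n : G}
    (hn : n ∈ Subgroup.normalizer ((stabilizer G a : Subgroup G) : Set G)) :
    n⁻¹ • a ∈ fixedPoints (stabilizer G a) α := by
  intro h
  have h1 : n * (h : G) * n⁻¹ ∈ stabilizer G a := (Subgroup.mem_normalizer_iff.mp hn h).mp h.2
  rw [mem_stabilizer_iff, mul_smul, mul_smul] at h1
  have : (h : G) • n⁻¹ • a = n⁻¹ • a := by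
    rw [eq_inv_smul_iff]; exact h1
  exact this

/-- The equivariant permutation attached to an element of the normaliser of a point stabiliser. -/
noncomputable def normPerm [IsPretransitive G α] (a : α)
    (n : Subgroup.normalizer ((stabilizer G a : Subgroup G) : Set G)) : Equiv.Perm α where
  toFun := eqvMap (G := G) a ((n : G)⁻¹ • a)
  invFun := eqvMap (G := G) a ((n : G) • a)
  left_inv := by
    have hb := inv_smul_mem_fixedPoints_of_mem_normalizer (G := G) n.2
    have hb' : (n : G) • a ∈ fixedPoints (stabilizer G a) α := by
      have := inv_smul_mem_fixedPoints_of_mem_normalizer (G := G) (a := a) (inv_mem n.2)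
      simpa using this
    intro x
    have : (fun x => eqvMap (G := G) a ((n : G) • a) (eqvMap (G := G) a ((n : G)⁻¹ • a) x)) =
        id := by
      apply equivariant_eq_of_eq_at (G := G) _ _ _ (fun _ _ => rfl) a
      · simp only [id_eq, eqvMap_self hb, eqvMap_smul_base hb', inv_smul_smul]
      · intro g x
        simp only [eqvMap_equivariant hb, eqvMap_equivariant hb']
    exact congrFun this x
  right_inv := by
    have hb := inv_smul_mem_fixedPoints_of_mem_normalizer (G := G) n.2
    have hb' : (n : G) • a ∈ fixedPoints (stabilizer G a) α := by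
      have := inv_smul_mem_fixedPoints_of_mem_normalizer (G := G) (a := a) (inv_mem n.2)
      simpa using this
    intro x
    have : (fun x => eqvMap (G := G) a ((n : G)⁻¹ • a) (eqvMap (G := G) a ((n : G) • a) x)) =
        id := by
      apply equivariant_eq_of_eq_at (G := G) _ _ _ (fun _ _ => rfl) a
      · simp only [id_eq, eqvMap_self hb', eqvMap_smul_base hb, smul_inv_smul]
      · intro g x
        simp only [eqvMap_equivariant hb, eqvMap_equivariant hb']
    exact congrFun this x

theorem normPerm_apply [IsPretransitive G α] (a : α)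
    (n : Subgroup.normalizer ((stabilizer G a : Subgroup G) : Set G)) (x : α) :
    normPerm a n x = eqvMap (G := G) a ((n : G)⁻¹ • a) x := rfl

theorem normPerm_equivariant [IsPretransitive G α] (a : α)
    (n : Subgroup.normalizer ((stabilizer G a : Subgroup G) : Set G)) (g : G) (x : α) :
    normPerm a n (g • x) = g • normPerm a n x :=
  eqvMap_equivariant (inv_smul_mem_fixedPoints_of_mem_normalizer (G := G) n.2) g x

theorem normPerm_base [IsPretransitive G α] (a : α)
    (n : Subgroup.normalizer ((stabilizer G a : Subgroup G) : Set G)) :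
    normPerm a n a = (n : G)⁻¹ • a :=
  eqvMap_self (inv_smul_mem_fixedPoints_of_mem_normalizer (G := G) n.2)

theorem normPerm_mul [IsPretransitive G α] (a : α)
    (n m : Subgroup.normalizer ((stabilizer G a : Subgroup G) : Set G)) :
    normPerm a (n * m) = normPerm a n * normPerm a m := by
  apply Equiv.ext
  intro x
  have : (fun x => normPerm a (n * m) x) = fun x => (normPerm a n * normPerm a m) x := by
    apply equivariant_eq_of_eq_at (G := G) _ _ (normPerm_equivariant a (n * m)) _ a
    · simp only [Equiv.Perm.coe_mul, Function.comp_apply, normPerm_base, normPerm_equivariant,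
        Subgroup.coe_mul, mul_inv_rev, mul_smul]
    · intro g x
      simp only [Equiv.Perm.coe_mul, Function.comp_apply, normPerm_equivariant]
  exact congrFun this x

theorem normPerm_eq_one_iff [IsPretransitive G α] (a : α)
    (n : Subgroup.normalizer ((stabilizer G a : Subgroup G) : Set G)) :
    normPerm a n = 1 ↔ (n : G) ∈ stabilizer G a := by
  constructor
  · intro h
    have := congrArg (fun σ : Equiv.Perm α => σ a) h
    simp only [normPerm_base, Equiv.Perm.coe_one, id_eq] at this
    rw [mem_stabilizer_iff]
    rw [inv_smul_eq_iff] at this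
    exact this.symm
  · intro h
    apply Equiv.ext
    intro x
    have : (fun x => normPerm a n x) = id := by
      apply equivariant_eq_of_eq_at (G := G) _ _ (normPerm_equivariant a n) (fun _ _ => rfl) a
      rw [normPerm_base, id_eq, inv_smul_eq_iff]
      exact h.symm
    exact congrFun this x

end

end Cfsg.Agent.Helper4
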