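import Mathlib

/-!
# Counting pairs of involutions: general lemmas
-/

set_option autoImplicit false
set_option linter.style.haveILetI false
set_option linter.unusedSectionVars false

namespace Cfsg.Agent.Helper4.FeitCount

open Finset

variable {G : Type*} [Group G] [Fintype G] [DecidableEq G]

/-- The involutions. -/
def invs (G : Type*) [Group G] [Fintype G] [DecidableEq G] : Finset G :=
  univ.filter (fun s => s ≠ 1 ∧ s * s = 1)

theorem mem_invs {s : G} : s ∈ invs G ↔ s ≠ 1 ∧ s * s = 1 := by
  simp [invs]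

/-- The number of ways to write `g` as a product of two involutions. -/
def aCount (g : G) : ℕ := ((invs G).filter (fun s => s * g ∈ invs G)).card

/-- The order of the centraliser. -/
def cent (g : G) : ℕ := (univ.filter (fun x : G => x * g * x⁻¹ = g)).card

theorem sum_aCount : ∑ g : G, aCount g = (invs G).card ^ 2 := by
  unfold aCount
  simp_rw [card_filter]
  rw [sum_comm]
  have h : ∀ s ∈ invs G, (∑ g : G, if s * g ∈ invs G then 1 else 0) = (invs G).card := by
    intro s _
    rw [← card_filter]
    apply card_bij (fun g _ => s * g)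
    · intro g hg
      exact (mem_filter.mp hg).2
    · intro g₁ _ g₂ _ h
      exact mul_left_cancel h
    · intro t ht
      exact ⟨s⁻¹ * t, by simp [ht], by simp⟩
  rw [sum_congr rfl h, sum_const, smul_eq_mul, pow_two]

theorem inv_of_mem_invs {s : G} (hs : s ∈ invs G) : s⁻¹ = s :=
  inv_eq_of_mul_eq_one_left (mem_invs.mp hs).2

/-- An involution `s` with `s g` an involution inverts `g`. -/
theorem inverts {s g : G} (hs : s ∈ invs G) (hsg : s * g ∈ invs G) : s * g * s⁻¹ = g⁻¹ := by
  rw [inv_of_mem_invs hs]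
  have h := (mem_invs.mp hsg).2
  have : s * g * s * g = 1 := by rw [← h]; group
  exact eq_inv_of_mul_eq_one_left this

theorem aCount_one : aCount (1 : G) = (invs G).card := by
  unfold aCount
  congr 1
  ext s
  simp

theorem aCount_le_cent (g : G) : aCount g ≤ cent g := by
  unfold aCount cent
  by_cases hne : ((invs G).filter (fun s => s * g ∈ invs G)).Nonempty
  · obtain ⟨s₀, hs₀⟩ := hne
    have h₀ := inverts (mem_filter.mp hs₀).1 (mem_filter.mp hs₀).2
    apply card_le_card_of_injOn (fun s => s₀⁻¹ * s)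
    · intro s hs
      have hs' := mem_coe.mp hs
      have h1 := inverts (mem_filter.mp hs').1 (mem_filter.mp hs').2
      simp only [coe_filter, mem_univ, true_and, Set.mem_ofPred_eq]
      have e : s₀⁻¹ * s * g * (s₀⁻¹ * s)⁻¹ = s₀⁻¹ * (s * g * s⁻¹) * s₀ := by group
      rw [e, h1]
      have : g⁻¹ = s₀ * g * s₀⁻¹ := h₀.symm
      rw [this]; group
    · intro s₁ _ s₂ _ h
      exact mul_left_cancel h
  · rw [not_nonempty_iff_eq_empty] at hne
    rw [hne, card_empty]
    exact Nat.zero_le _

/-- `cent` is constant on conjugacy classes. -/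
theorem cent_conj (g x : G) : cent (x * g * x⁻¹) = cent g := by
  unfold cent
  apply card_bij (fun y _ => x⁻¹ * y * x)
  · intro y hy
    have hy' := (mem_filter.mp hy).2
    simp only [mem_filter, mem_univ, true_and]
    have e : x⁻¹ * y * x * g * (x⁻¹ * y * x)⁻¹ = x⁻¹ * (y * (x * g * x⁻¹) * y⁻¹) * x := by group
    rw [e, hy']; group
  · intro y₁ _ y₂ _ h
    have h' : x⁻¹ * (y₁ * x) = x⁻¹ * (y₂ * x) := by rw [← mul_assoc, ← mul_assoc]; exact h
    exact mul_right_cancel (mul_left_cancel h')
  · intro z hz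
    have hz' := (mem_filter.mp hz).2
    refine ⟨x * z * x⁻¹, ?_, by group⟩
    simp only [mem_filter, mem_univ, true_and]
    have e : x * z * x⁻¹ * (x * g * x⁻¹) * (x * z * x⁻¹)⁻¹ = x * (z * g * z⁻¹) * x⁻¹ := by group
    rw [e, hz']

/-- The sum of the centraliser orders over a conjugacy class is `|G|`. -/
theorem sum_cent_class (g₀ : G) :
    ∑ g ∈ univ.filter (fun g : G => ∃ x : G, x * g₀ * x⁻¹ = g), cent g = Fintype.card G := by
  have h1 : ∀ g ∈ univ.filter (fun g : G => ∃ x : G, x * g₀ * x⁻¹ = g),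
      cent g = (univ.filter (fun x : G => x * g₀ * x⁻¹ = g)).card := by
    intro g hg
    obtain ⟨x₁, hx₁⟩ := (mem_filter.mp hg).2
    unfold cent
    apply card_bij (fun y _ => y * x₁)
    · intro y hy
      have hy' := (mem_filter.mp hy).2
      simp only [mem_filter, mem_univ, true_and]
      have e : y * x₁ * g₀ * (y * x₁)⁻¹ = y * (x₁ * g₀ * x₁⁻¹) * y⁻¹ := by group
      rw [e, hx₁, hy']
    · intro y₁ _ y₂ _ h
      exact mul_right_cancel h
    · intro z hz
      have hz' := (mem_filter.mp hz).2
      refine ⟨z * x₁⁻¹, ?_, by group⟩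
      simp only [mem_filter, mem_univ, true_and]
      rw [← hx₁]
      have e : z * x₁⁻¹ * (x₁ * g₀ * x₁⁻¹) * (z * x₁⁻¹)⁻¹ = z * g₀ * z⁻¹ := by group
      rw [e, hz', hx₁]
  rw [sum_congr rfl h1, ← card_univ (α := G)]
  symm
  apply card_eq_sum_card_fiberwise
  intro x _
  simp only [coe_filter, mem_univ, true_and, Set.mem_ofPred_eq]
  exact ⟨x, rfl⟩

/-- For a conjugation-invariant set `S`, the sum of the centraliser orders is `|G|` times the
number of classes in `S`. -/
theorem sum_cent_eq (S : Finset G) (hS : ∀ g ∈ S, ∀ x : G, x * g * x⁻¹ ∈ S) :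
    ∑ g ∈ S, cent g = Fintype.card G * (S.image ConjClasses.mk).card := by
  rw [← sum_fiberwise_of_maps_to (t := S.image ConjClasses.mk) (g := ConjClasses.mk)
    (fun g hg => mem_image_of_mem _ hg)]
  have h : ∀ C ∈ S.image ConjClasses.mk,
      ∑ g ∈ S.filter (fun g => ConjClasses.mk g = C), cent g = Fintype.card G := by
    intro C hC
    obtain ⟨g₀, hg₀, rfl⟩ := mem_image.mp hC
    have e : S.filter (fun g => ConjClasses.mk g = ConjClasses.mk g₀) =
        univ.filter (fun g : G => ∃ x : G, x * g₀ * x⁻¹ = g) := by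
      ext g
      simp only [mem_filter, mem_univ, true_and]
      constructor
      · rintro ⟨-, hg⟩
        rw [ConjClasses.mk_eq_mk_iff_isConj, isConj_comm, isConj_iff] at hg
        exact hg
      · rintro ⟨x, rfl⟩
        refine ⟨hS g₀ hg₀ x, ?_⟩
        rw [ConjClasses.mk_eq_mk_iff_isConj, isConj_comm, isConj_iff]
        exact ⟨x, rfl⟩
    rw [e]
    exact sum_cent_class g₀
  rw [sum_congr rfl h, sum_const, smul_eq_mul, mul_comm]

end Cfsg.Agent.Helper4.FeitCount
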