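import Mathlib
import Cfsg.Prelude.Def_LieExceptional
import Cfsg.Agent.Helper4.FeitCountA
import Cfsg.Agent.Helper4.ZKPrelim

/-!
# Counting pairs of involutions in a Zassenhaus group: local lemmas
-/

set_option autoImplicit false
set_option linter.style.haveILetI false
set_option linter.unusedSectionVars false

namespace Cfsg.Agent.Helper4.FeitCount

open Finset MulAction Cfsg

variable {G Ω : Type*} [Group G] [Fintype G] [DecidableEq G] [MulAction G Ω] [Fintype Ω]
  [DecidableEq Ω]

/-- The standing hypotheses. -/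
structure Hyp (G Ω : Type*) [Group G] [MulAction G Ω] (a b : Ω) (e : ℕ) : Prop where
  hZ : IsZassenhausGroup G Ω
  hab : a ≠ b
  he : Nat.card ↥(stabilizer G a ⊓ stabilizer G b) = e
  hodd : Odd e
  hswap : ∀ s : G, s • a = b → s • b = a →
    s * s = 1 ∧ ∀ h ∈ stabilizer G a ⊓ stabilizer G b, s * h * s⁻¹ = h⁻¹

variable {a b : Ω} {e : ℕ}

theorem Hyp.swap_all (H : Hyp G Ω a b e) {c d : Ω} (hcd : c ≠ d) (s : G) (hsc : s • c = d)
    (hsd : s • d = c) :
    s * s = 1 ∧ ∀ h : G, h • c = c → h • d = d → s * h * s⁻¹ = h⁻¹ := by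
  obtain ⟨t, hta, htb⟩ := Cfsg.Agent.Helper5.Zassenhaus.two_trans H.hZ H.hab hcd
  have hta' : t⁻¹ • c = a := by rw [← hta, inv_smul_smul]
  have htb' : t⁻¹ • d = b := by rw [← htb, inv_smul_smul]
  have h1 : (t⁻¹ * s * t) • a = b := by rw [mul_smul, mul_smul, hta, hsc, htb']
  have h2 : (t⁻¹ * s * t) • b = a := by rw [mul_smul, mul_smul, htb, hsd, hta']
  obtain ⟨hss, hinv⟩ := H.hswap _ h1 h2
  constructor
  · have : s * s = t * ((t⁻¹ * s * t) * (t⁻¹ * s * t)) * t⁻¹ := by group
    rw [this, hss]; group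
  · intro h hc hd
    have hmem : t⁻¹ * h * t ∈ stabilizer G a ⊓ stabilizer G b := by
      refine Subgroup.mem_inf.mpr ⟨?_, ?_⟩
      · rw [mem_stabilizer_iff, mul_smul, mul_smul, hta, hc, hta']
      · rw [mem_stabilizer_iff, mul_smul, mul_smul, htb, hd, htb']
    have h3 := hinv _ hmem
    have : s * h * s⁻¹ = t * ((t⁻¹ * s * t) * (t⁻¹ * h * t) * (t⁻¹ * s * t)⁻¹) * t⁻¹ := by group
    rw [this, h3]; group

theorem Hyp.card_two_stab (H : Hyp G Ω a b e) {c d : Ω} (hcd : c ≠ d) :
    Nat.card ↥(stabilizer G c ⊓ stabilizer G d) = e := by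
  have h1 := Cfsg.Agent.Helper5.Zassenhaus.card_group H.hZ H.hab
  have h2 := Cfsg.Agent.Helper5.Zassenhaus.card_group H.hZ hcd
  have hN3 := Cfsg.Agent.Helper5.Zassenhaus.three_le_card H.hZ
  rw [h1, H.he] at h2
  have hpos : 0 < Fintype.card Ω * (Fintype.card Ω - 1) := Nat.mul_pos (by omega) (by omega)
  exact (Nat.eq_of_mul_eq_mul_left hpos h2).symm

theorem Hyp.two_stab_filter (H : Hyp G Ω a b e) {c d : Ω} (hcd : c ≠ d) :
    (univ.filter (fun h : G => h • c = c ∧ h • d = d)).card = e := by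
  haveI : Fintype ↥(stabilizer G c ⊓ stabilizer G d) := Fintype.ofFinite _
  rw [← H.card_two_stab hcd, Nat.card_eq_fintype_card]
  symm
  apply Fintype.card_of_subtype
  intro x
  simp [Subgroup.mem_inf, mem_stabilizer_iff]

theorem Hyp.eq_one_of_sq (H : Hyp G Ω a b e) {c d : Ω} (hcd : c ≠ d) (h : G) (hc : h • c = c)
    (hd : h • d = d) (hh : h * h = 1) : h = 1 := by
  have hmem : h ∈ stabilizer G c ⊓ stabilizer G d := Subgroup.mem_inf.mpr ⟨hc, hd⟩
  have h1 : (⟨h, hmem⟩ : ↥(stabilizer G c ⊓ stabilizer G d)) ^ e = 1 := by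
    rw [← H.card_two_stab hcd]; exact pow_card_eq_one'
  have h2 : (⟨h, hmem⟩ : ↥(stabilizer G c ⊓ stabilizer G d)) ^ 2 = 1 := by
    apply Subtype.ext
    show h ^ 2 = 1
    rw [pow_two, hh]
  have hcop : Nat.Coprime e 2 := Nat.coprime_two_right.mpr H.hodd
  have h3 := (pow_eq_one_iff_of_coprime hcop).mp ⟨h1, h2⟩
  exact congrArg Subtype.val h3

theorem Hyp.card_swappers_le (H : Hyp G Ω a b e) {c d : Ω} (hcd : c ≠ d) :
    (univ.filter (fun s : G => s • c = d ∧ s • d = c)).card ≤ e := by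
  by_cases hne : (univ.filter (fun s : G => s • c = d ∧ s • d = c)).Nonempty
  · obtain ⟨s₀, hs₀⟩ := hne
    obtain ⟨-, h1, h2⟩ := mem_filter.mp hs₀
    rw [← H.two_stab_filter hcd]
    apply card_le_card_of_injOn (fun s => s₀⁻¹ * s)
    · intro s hs
      obtain ⟨-, h3, h4⟩ := mem_filter.mp (mem_coe.mp hs)
      simp only [coe_filter, mem_univ, true_and, Set.mem_ofPred_eq]
      constructor
      · rw [mul_smul, h3, ← h1, inv_smul_smul]
      · rw [mul_smul, h4, ← h2, inv_smul_smul]
    · intro s₁ _ s₂ _ h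
      exact mul_left_cancel h
  · rw [not_nonempty_iff_eq_empty] at hne
    rw [hne, card_empty]
    exact Nat.zero_le _

/-- If `s` inverts `g`, then `s` permutes the fixed points of `g`. -/
theorem fix_of_inverts {s g : G} (h : s * g * s⁻¹ = g⁻¹) {c : Ω} (hc : g • c = c) :
    g • (s • c) = s • c := by
  have h1 : g⁻¹ • (s • c) = s • c := by
    rw [← h, mul_smul, mul_smul, inv_smul_smul, hc]
  rw [inv_smul_eq_iff] at h1
  exact h1.symm

/-- Elements with exactly two fixed points are products of at most `e` pairs. -/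
theorem Hyp.aCount_le_of_two (H : Hyp G Ω a b e) (g : G) (hg1 : g ≠ 1) {c d : Ω} (hcd : c ≠ d)
    (hc : g • c = c) (hd : g • d = d) : aCount g ≤ e := by
  have hfix : ∀ y : Ω, g • y = y → y = c ∨ y = d := by
    intro y hy
    by_contra hcon
    push Not at hcon
    exact hg1 (Cfsg.Agent.Helper5.Zassenhaus.eq_one_of_fix3 H.hZ hcd (Ne.symm hcon.2)
      (Ne.symm hcon.1) hc hd hy)
  refine le_trans ?_ (H.card_swappers_le hcd)
  unfold aCount
  apply card_le_card
  intro s hs
  obtain ⟨hs1, hs2⟩ := mem_filter.mp hs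
  have hinv := inverts hs1 hs2
  have hsc := hfix _ (fix_of_inverts hinv hc)
  have hsd := hfix _ (fix_of_inverts hinv hd)
  have hs1' := mem_invs.mp hs1
  simp only [mem_filter, mem_univ, true_and]
  rcases hsc with hsc | hsc
  · exfalso
    have hsd' : s • d = d := by
      rcases hsd with h | h
      · exact absurd (smul_left_cancel s (h.trans hsc.symm)) hcd.symm
      · exact h
    exact hs1'.1 (H.eq_one_of_sq hcd s hsc hsd' hs1'.2)
  · refine ⟨hsc, ?_⟩
    rcases hsd with h | h
    · exact h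
    · exact absurd (smul_left_cancel s (hsc.trans h.symm)) hcd

/-- Involutions fixing `c`. -/
def invsAt (c : Ω) : Finset G := (invs G).filter (fun s => s • c = c)

/-- Pairs of involutions fixing `c` with product `g`. -/
def bCount (c : Ω) (g : G) : ℕ := ((invsAt c).filter (fun s => s * g ∈ invsAt (G := G) c)).card

theorem aCount_le_bCount (g : G) {c : Ω} (hc : g • c = c) (huniq : ∀ y : Ω, g • y = y → y = c) :
    aCount g ≤ bCount c g := by
  unfold aCount bCount
  apply card_le_card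
  intro s hs
  obtain ⟨hs1, hs2⟩ := mem_filter.mp hs
  have hinv := inverts hs1 hs2
  have hsc := huniq _ (fix_of_inverts hinv hc)
  simp only [invsAt, mem_filter]
  refine ⟨⟨hs1, hsc⟩, hs2, ?_⟩
  rw [mul_smul, hc, hsc]

theorem sum_bCount_le (c : Ω) :
    ∑ g ∈ univ.filter (fun g : G => g ≠ 1), bCount c g ≤
      (invsAt (G := G) c).card * ((invsAt (G := G) c).card - 1) := by
  unfold bCount
  simp_rw [card_filter]
  rw [sum_comm]
  have h : ∀ s ∈ invsAt (G := G) c,
      (∑ g ∈ univ.filter (fun g : G => g ≠ 1), if s * g ∈ invsAt (G := G) c then 1 else 0) ≤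
        (invsAt (G := G) c).card - 1 := by
    intro s hs
    rw [← card_filter, ← card_erase_of_mem hs]
    apply card_le_card_of_injOn (fun g => s * g)
    · intro g hg
      obtain ⟨hg1, hg2⟩ := mem_filter.mp (mem_coe.mp hg)
      have hg1' := (mem_filter.mp hg1).2
      rw [mem_coe, mem_erase]
      refine ⟨?_, hg2⟩
      intro h
      apply hg1'
      have : s * g = s * 1 := by rw [mul_one]; exact h
      exact mul_left_cancel this
    · intro g₁ _ g₂ _ h
      exact mul_left_cancel h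
  calc _ ≤ ∑ _s ∈ invsAt (G := G) c, ((invsAt (G := G) c).card - 1) := sum_le_sum h
    _ = _ := by rw [sum_const, smul_eq_mul]

end Cfsg.Agent.Helper4.FeitCount
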