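import Mathlib
import Cfsg.Agent.Helper4.FeitCountB

/-!
# Counting pairs of involutions in a Zassenhaus group: the main inequality
-/

set_option autoImplicit false
set_option linter.style.haveILetI false
set_option linter.unusedSectionVars false

namespace Cfsg.Agent.Helper4.FeitCount

open Finset MulAction Cfsg
open scoped Classical

variable {G Ω : Type*} [Group G] [Fintype G] [MulAction G Ω] [Fintype Ω] {a b : Ω} {e : ℕ}

/-- The fixed-point-free elements. -/
noncomputable def fpfSet (G Ω : Type*) [Group G] [Fintype G] [MulAction G Ω] [Fintype Ω] :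
    Finset G :=
  univ.filter (fun g : G => ∀ c : Ω, g • c ≠ c)

/-- The non-identity elements with exactly one fixed point. -/
noncomputable def T1 (G Ω : Type*) [Group G] [Fintype G] [MulAction G Ω] [Fintype Ω] :
    Finset G :=
  univ.filter (fun g : G => g ≠ 1 ∧ ∃ c : Ω, g • c = c ∧ ∀ y : Ω, g • y = y → y = c)

/-- The non-identity elements with at least two fixed points. -/
noncomputable def T2 (G Ω : Type*) [Group G] [Fintype G] [MulAction G Ω] [Fintype Ω] :
    Finset G :=
  univ.filter (fun g : G => g ≠ 1 ∧ ∃ c d : Ω, c ≠ d ∧ g • c = c ∧ g • d = d)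

theorem trichotomy (g : G) (hg : g ≠ 1) : g ∈ fpfSet G Ω ∨ g ∈ T1 G Ω ∨ g ∈ T2 G Ω := by
  by_cases h0 : ∀ c : Ω, g • c ≠ c
  · left
    simp [fpfSet, h0]
  · push Not at h0
    obtain ⟨c, hc⟩ := h0
    by_cases h1 : ∀ y : Ω, g • y = y → y = c
    · right; left
      simp only [T1, mem_filter, mem_univ, true_and]
      exact ⟨hg, c, hc, h1⟩
    · push Not at h1
      obtain ⟨d, hd, hdc⟩ := h1
      right; right
      simp only [T2, mem_filter, mem_univ, true_and]
      exact ⟨hg, c, d, Ne.symm hdc, hc, hd⟩

/-- The pointwise bound. -/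
theorem Hyp.aCount_le (H : Hyp G Ω a b e) (g : G) :
    aCount g ≤ (if g = 1 then (invs G).card else 0) +
      (if g ∈ fpfSet G Ω then cent g else 0) +
      (if g ∈ T1 G Ω then ∑ c : Ω, bCount c g else 0) +
      (if g ∈ T2 G Ω then e else 0) := by
  by_cases hg : g = 1
  · rw [if_pos hg, hg, aCount_one]
    omega
  · rcases trichotomy (Ω := Ω) g hg with h | h | h
    · rw [if_pos h]
      have := aCount_le_cent g
      omega
    · rw [if_pos h]
      obtain ⟨-, c, hc, huniq⟩ := (mem_filter.mp h).2
      have h1 := aCount_le_bCount g hc huniq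
      have h2 : bCount c g ≤ ∑ c : Ω, bCount c g :=
        single_le_sum (f := fun c => bCount c g) (fun _ _ => Nat.zero_le _) (mem_univ c)
      omega
    · rw [if_pos h]
      obtain ⟨-, c, d, hcd, hc, hd⟩ := (mem_filter.mp h).2
      have := H.aCount_le_of_two g hg hcd hc hd
      omega

theorem fpfSet_conj (g : G) (hg : g ∈ fpfSet G Ω) (x : G) : x * g * x⁻¹ ∈ fpfSet G Ω := by
  simp only [fpfSet, mem_filter, mem_univ, true_and] at hg ⊢
  intro c hc
  apply hg (x⁻¹ • c)
  rw [mul_smul, mul_smul] at hc
  have := congrArg (fun y => x⁻¹ • y) hc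
  simpa using this

theorem Hyp.card_T2_le (H : Hyp G Ω a b e) :
    2 * (T2 G Ω).card ≤ (Fintype.card Ω * Fintype.card Ω - Fintype.card Ω) * (e - 1) := by
  have h1 : ∀ g ∈ T2 G Ω, 2 ≤ ((univ : Finset Ω).offDiag.filter
      (fun p => g • p.1 = p.1 ∧ g • p.2 = p.2)).card := by
    intro g hg
    obtain ⟨-, c, d, hcd, hc, hd⟩ := (mem_filter.mp hg).2
    have hsub : ({(c, d), (d, c)} : Finset (Ω × Ω)) ⊆ (univ : Finset Ω).offDiag.filter
        (fun p => g • p.1 = p.1 ∧ g • p.2 = p.2) := by
      intro p hp
      rw [mem_insert, mem_singleton] at hp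
      rcases hp with rfl | rfl
      · simp [hcd, hc, hd]
      · simp [hcd.symm, hc, hd]
    have hcard : ({(c, d), (d, c)} : Finset (Ω × Ω)).card = 2 := by
      rw [card_pair]
      intro h
      exact hcd (congrArg Prod.fst h)
    rw [← hcard]
    exact card_le_card hsub
  have h2 : ∀ p ∈ (univ : Finset Ω).offDiag,
      ((univ.filter (fun g : G => g ≠ 1)).filter
        (fun g => g • p.1 = p.1 ∧ g • p.2 = p.2)).card ≤ e - 1 := by
    intro p hp
    have hne : p.1 ≠ p.2 := (mem_offDiag.mp hp).2.2
    have h3 := H.two_stab_filter hne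
    have h4 : (1 : G) ∈ univ.filter (fun h : G => h • p.1 = p.1 ∧ h • p.2 = p.2) := by simp
    rw [← h3, ← card_erase_of_mem h4]
    apply card_le_card
    intro g hg
    simp only [mem_filter, mem_univ, true_and] at hg
    simp only [mem_erase, mem_filter, mem_univ, true_and]
    exact hg
  calc 2 * (T2 G Ω).card = ∑ _g ∈ T2 G Ω, 2 := by rw [sum_const, smul_eq_mul, mul_comm]
    _ ≤ ∑ g ∈ T2 G Ω, ((univ : Finset Ω).offDiag.filter
          (fun p => g • p.1 = p.1 ∧ g • p.2 = p.2)).card := sum_le_sum h1
    _ ≤ ∑ g ∈ univ.filter (fun g : G => g ≠ 1), ((univ : Finset Ω).offDiag.filter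
          (fun p => g • p.1 = p.1 ∧ g • p.2 = p.2)).card := by
        apply sum_le_sum_of_subset
        intro g hg
        simp only [T2, mem_filter, mem_univ, true_and] at hg ⊢
        exact hg.1
    _ = ∑ p ∈ (univ : Finset Ω).offDiag, ((univ.filter (fun g : G => g ≠ 1)).filter
          (fun g => g • p.1 = p.1 ∧ g • p.2 = p.2)).card := by
        simp_rw [card_filter]
        rw [sum_comm]
    _ ≤ ∑ _p ∈ (univ : Finset Ω).offDiag, (e - 1) := sum_le_sum h2
    _ = _ := by rw [sum_const, smul_eq_mul, offDiag_card, card_univ]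

/-- The main inequality. -/
theorem Hyp.main_ineq (H : Hyp G Ω a b e) :
    (invs G).card ^ 2 ≤ (invs G).card +
      Fintype.card G * ((fpfSet G Ω).image ConjClasses.mk).card +
      ∑ c : Ω, (invsAt (G := G) c).card * ((invsAt (G := G) c).card - 1) +
      e * (T2 G Ω).card := by
  rw [← sum_aCount]
  calc ∑ g : G, aCount g ≤ ∑ g : G, ((if g = 1 then (invs G).card else 0) +
      (if g ∈ fpfSet G Ω then cent g else 0) +
      (if g ∈ T1 G Ω then ∑ c : Ω, bCount c g else 0) +
      (if g ∈ T2 G Ω then e else 0)) := sum_le_sum (fun g _ => H.aCount_le g)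
    _ = (invs G).card + ∑ g ∈ fpfSet G Ω, cent g + ∑ g ∈ T1 G Ω, ∑ c : Ω, bCount c g +
        e * (T2 G Ω).card := by
      rw [sum_add_distrib, sum_add_distrib, sum_add_distrib]
      congr 1
      · congr 1
        · congr 1
          · rw [sum_ite_eq' univ (1 : G) (fun _ => (invs G).card)]
            simp
          · rw [← sum_filter]
            congr 1
            ext g; simp
        · rw [← sum_filter]
          congr 1
          ext g; simp
      · rw [← sum_filter, sum_const, smul_eq_mul, mul_comm]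
        congr 2
        ext g; simp
    _ ≤ _ := by
      have h1 : ∑ g ∈ fpfSet G Ω, cent g =
          Fintype.card G * ((fpfSet G Ω).image ConjClasses.mk).card :=
        sum_cent_eq _ (fun g hg x => fpfSet_conj g hg x)
      have h2 : ∑ g ∈ T1 G Ω, ∑ c : Ω, bCount c g ≤
          ∑ c : Ω, (invsAt (G := G) c).card * ((invsAt (G := G) c).card - 1) := by
        calc ∑ g ∈ T1 G Ω, ∑ c : Ω, bCount c g
            ≤ ∑ g ∈ univ.filter (fun g : G => g ≠ 1), ∑ c : Ω, bCount c g := by
              apply sum_le_sum_of_subset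
              intro g hg
              simp only [T1, mem_filter, mem_univ, true_and] at hg ⊢
              exact hg.1
          _ = ∑ c : Ω, ∑ g ∈ univ.filter (fun g : G => g ≠ 1), bCount c g := sum_comm
          _ ≤ _ := sum_le_sum (fun c _ => sum_bCount_le c)
      rw [h1]
      omega

end Cfsg.Agent.Helper4.FeitCount
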