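import Mathlib
import Cfsg.Agent.Helper4.FeitCountC
import Cfsg.Agent.Helper4.Zassenhaus

/-!
# Counting pairs of involutions in a Zassenhaus group: the two parities
-/

set_option autoImplicit false
set_option linter.style.haveILetI false
set_option linter.unusedSectionVars false

namespace Cfsg.Agent.Helper4.FeitCount

open Finset MulAction Cfsg
open scoped Classical

variable {G Ω : Type*} [Group G] [Fintype G] [MulAction G Ω] [Fintype Ω] {a b : Ω} {e : ℕ}

theorem orderOf_of_mem_invs {s : G} (hs : s ∈ invs G) : orderOf s = 2 := by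
  obtain ⟨h1, h2⟩ := mem_invs.mp hs
  exact orderOf_eq_prime (by rw [pow_two]; exact h2) h1

theorem mem_invsAt {s : G} {c : Ω} : s ∈ invsAt (G := G) c ↔ s ∈ invs G ∧ s • c = c := by
  simp [invsAt]

/-! ### Even degree -/

theorem Hyp.invsAt_empty (H : Hyp G Ω a b e) (heven : Even (Fintype.card Ω)) (c : Ω) :
    invsAt (G := G) c = ∅ := by
  rw [eq_empty_iff_forall_notMem]
  intro s hs
  obtain ⟨hs1, hs2⟩ := mem_invsAt.mp hs
  have hN3 := Cfsg.Agent.Helper5.Zassenhaus.three_le_card H.hZ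
  have hodd : Odd ((Fintype.card Ω - 1) *
      Nat.card ↥(stabilizer G a ⊓ stabilizer G b)) := by
    rw [H.he]
    refine Odd.mul ?_ H.hodd
    obtain ⟨k, hk⟩ := heven
    exact ⟨k - 1, by omega⟩
  exact Cfsg.Agent.Helper4.ZKPrelim.no_fix_of_odd H.hZ H.hab hodd s (orderOf_of_mem_invs hs1) c hs2

theorem Hyp.card_invs_ge (H : Hyp G Ω a b e) (heven : Even (Fintype.card Ω)) :
    (Fintype.card Ω - 1) * e ≤ (invs G).card := by
  have hN3 := Cfsg.Agent.Helper5.Zassenhaus.three_le_card H.hZ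
  have hcardG := Cfsg.Agent.Helper5.Zassenhaus.card_group H.hZ H.hab
  rw [H.he, Nat.card_eq_fintype_card] at hcardG
  -- an involution
  have h2 : 2 ∣ Fintype.card G := by
    rw [hcardG]
    exact Dvd.dvd.mul_right (Dvd.dvd.mul_right (even_iff_two_dvd.mp heven) _) _
  haveI : Fact (Nat.Prime 2) := ⟨Nat.prime_two⟩
  obtain ⟨s₀, hs₀⟩ := exists_prime_orderOf_dvd_card 2 h2
  have hs₀1 : s₀ ≠ 1 := by
    intro h; rw [h, orderOf_one] at hs₀; omega
  have hs₀2 : s₀ * s₀ = 1 := by
    have := pow_orderOf_eq_one s₀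
    rwa [hs₀, pow_two] at this
  have hs₀I : s₀ ∈ invs G := mem_invs.mpr ⟨hs₀1, hs₀2⟩
  have hs₀inv : s₀⁻¹ = s₀ := inv_of_mem_invs hs₀I
  have hnofix : ∀ y : Ω, s₀ • y ≠ y := by
    intro y hy
    have : s₀ ∈ invsAt (G := G) y := mem_invsAt.mpr ⟨hs₀I, hy⟩
    rw [H.invsAt_empty heven y] at this
    exact absurd this (notMem_empty _)
  -- the injection
  have hinj : Fintype.card G ≤ ((invs G) ×ˢ (univ : Finset Ω)).card := by
    rw [← card_univ (α := G)]
    apply card_le_card_of_injOn (fun x : G => (x * s₀ * x⁻¹, x • a))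
    · intro x _
      simp only [coe_product, Set.mem_prod, mem_coe, mem_univ, and_true]
      rw [mem_invs]
      constructor
      · intro h
        apply hs₀1
        have : s₀ = x⁻¹ * (x * s₀ * x⁻¹) * x := by group
        rw [this, h]; group
      · have : x * s₀ * x⁻¹ * (x * s₀ * x⁻¹) = x * (s₀ * s₀) * x⁻¹ := by group
        rw [this, hs₀2]; group
    · intro x _ y _ hxy
      simp only [Prod.mk.injEq] at hxy
      obtain ⟨h1, h2⟩ := hxy
      set z := y⁻¹ * x with hz
      have hza : z • a = a := by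
        rw [hz, mul_smul, h2, inv_smul_smul]
      have hzs : z * s₀ = s₀ * z := by
        have : y⁻¹ * (x * s₀ * x⁻¹) * y = y⁻¹ * (y * s₀ * y⁻¹) * y := by rw [h1]
        have h3 : z * s₀ * z⁻¹ = s₀ := by
          have e1 : z * s₀ * z⁻¹ = y⁻¹ * (x * s₀ * x⁻¹) * y := by rw [hz]; group
          rw [e1, this]; group
        have := congrArg (fun w => w * z) h3
        simpa [mul_assoc] using this
      have ha' : a ≠ s₀ • a := (hnofix a).symm
      have hsa' : s₀ • (s₀ • a) = a := by rw [← mul_smul, hs₀2, one_smul]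
      have hza' : z • (s₀ • a) = s₀ • a := by
        rw [← mul_smul, hzs, mul_smul, hza]
      obtain ⟨-, hinv⟩ := H.swap_all ha' s₀ rfl hsa'
      have h4 := hinv z hza hza'
      have h5 : s₀ * z * s₀⁻¹ = z := by rw [← hzs]; group
      rw [h5] at h4
      have hzz : z * z = 1 := by
        have := congrArg (fun w => z * w) h4
        simpa using this
      have hz1 := H.eq_one_of_sq ha' z hza hza' hzz
      have : x = y * z := by rw [hz]; group
      rw [this, hz1, mul_one]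
  rw [card_product, card_univ, hcardG] at hinj
  have hpos : 0 < Fintype.card Ω := by omega
  have : Fintype.card Ω * ((Fintype.card Ω - 1) * e) ≤ Fintype.card Ω * (invs G).card := by
    calc _ = Fintype.card Ω * (Fintype.card Ω - 1) * e := by ring
      _ ≤ _ := by rw [mul_comm (Fintype.card Ω) (invs G).card]; exact hinj
  exact Nat.le_of_mul_le_mul_left this hpos

/-! ### Odd degree -/

theorem Hyp.fix_unique (H : Hyp G Ω a b e) (hodd : Odd (Fintype.card Ω)) {s : G}
    (hs : s ∈ invs G) : ∃ c : Ω, s • c = c ∧ ∀ y : Ω, s • y = y → y = c := by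
  have h1 := Cfsg.Agent.Helper4.card_modEq_card_fixedBy_of_orderOf_two (Ω := Ω) s
    (orderOf_of_mem_invs hs)
  have h2 := Cfsg.Agent.Helper5.Zassenhaus.card_fixedBy_le_two H.hZ (mem_invs.mp hs).1
  rw [Nat.card_eq_fintype_card, Nat.card_eq_fintype_card] at h1
  have h3 : Fintype.card (fixedBy Ω s) = 1 := by
    have h4 : Fintype.card Ω % 2 = 1 := Nat.odd_iff.mp hodd
    have h5 : Fintype.card Ω % 2 = Fintype.card (fixedBy Ω s) % 2 := h1
    omega
  obtain ⟨x, hx⟩ := Fintype.card_eq_one_iff.mp h3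
  refine ⟨x.1, x.2, fun y hy => ?_⟩
  exact congrArg Subtype.val (hx ⟨y, hy⟩)

theorem Hyp.card_invs_eq (H : Hyp G Ω a b e) (hodd : Odd (Fintype.card Ω)) :
    (invs G).card = ∑ c : Ω, (invsAt (G := G) c).card := by
  unfold invsAt
  simp_rw [card_filter]
  rw [sum_comm]
  have h : ∀ s ∈ invs G, (∑ c : Ω, if s • c = c then 1 else 0) = 1 := by
    intro s hs
    obtain ⟨c, hc, huniq⟩ := H.fix_unique hodd hs
    rw [← card_filter, card_eq_one]
    refine ⟨c, ?_⟩
    ext y
    simp only [mem_filter, mem_univ, true_and, mem_singleton]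
    exact ⟨huniq y, fun h => h ▸ hc⟩
  rw [sum_congr rfl h, sum_const, smul_eq_mul, mul_one]

theorem Hyp.invsAt_card_eq (H : Hyp G Ω a b e) (c : Ω) :
    (invsAt (G := G) c).card = (invsAt (G := G) a).card := by
  have htr := Cfsg.Agent.Helper5.Zassenhaus.isPretransitive_of_zassenhaus H.hZ
  obtain ⟨g, hg⟩ := exists_smul_eq G a c
  apply card_bij (fun s _ => g⁻¹ * s * g)
  · intro s hs
    obtain ⟨hs1, hs2⟩ := mem_invsAt.mp hs
    obtain ⟨hs3, hs4⟩ := mem_invs.mp hs1
    rw [mem_invsAt, mem_invs]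
    refine ⟨⟨?_, ?_⟩, ?_⟩
    · intro h
      apply hs3
      have : s = g * (g⁻¹ * s * g) * g⁻¹ := by group
      rw [this, h]; group
    · have : g⁻¹ * s * g * (g⁻¹ * s * g) = g⁻¹ * (s * s) * g := by group
      rw [this, hs4]; group
    · rw [mul_smul, mul_smul, hg, hs2, ← hg, inv_smul_smul]
  · intro s₁ _ s₂ _ h
    have h' : g⁻¹ * (s₁ * g) = g⁻¹ * (s₂ * g) := by rw [← mul_assoc, ← mul_assoc]; exact h
    exact mul_right_cancel (mul_left_cancel h')
  · intro t ht
    obtain ⟨ht1, ht2⟩ := mem_invsAt.mp ht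
    obtain ⟨ht3, ht4⟩ := mem_invs.mp ht1
    refine ⟨g * t * g⁻¹, ?_, by group⟩
    rw [mem_invsAt, mem_invs]
    refine ⟨⟨?_, ?_⟩, ?_⟩
    · intro h
      apply ht3
      have : t = g⁻¹ * (g * t * g⁻¹) * g := by group
      rw [this, h]; group
    · have : g * t * g⁻¹ * (g * t * g⁻¹) = g * (t * t) * g⁻¹ := by group
      rw [this, ht4]; group
    · rw [mul_smul, mul_smul, ← hg, inv_smul_smul, ht2]

theorem Hyp.e_le (H : Hyp G Ω a b e) (hodd : Odd (Fintype.card Ω)) :
    e ≤ (invsAt (G := G) a).card := by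
  have hN3 := Cfsg.Agent.Helper5.Zassenhaus.three_le_card H.hZ
  have hcardG := Cfsg.Agent.Helper5.Zassenhaus.card_group H.hZ H.hab
  rw [H.he, Nat.card_eq_fintype_card] at hcardG
  -- an involution
  have h2 : 2 ∣ Fintype.card G := by
    rw [hcardG]
    have : Even (Fintype.card Ω - 1) := by
      obtain ⟨k, hk⟩ := hodd
      exact ⟨k, by omega⟩
    exact Dvd.dvd.mul_right (Dvd.dvd.mul_left (even_iff_two_dvd.mp this) _) _
  haveI : Fact (Nat.Prime 2) := ⟨Nat.prime_two⟩
  obtain ⟨s₀, hs₀⟩ := exists_prime_orderOf_dvd_card 2 h2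
  have hs₀I : s₀ ∈ invs G := by
    rw [mem_invs]
    constructor
    · intro h; rw [h, orderOf_one] at hs₀; omega
    · have := pow_orderOf_eq_one s₀
      rwa [hs₀, pow_two] at this
  have hipos : 0 < (invs G).card := card_pos.mpr ⟨s₀, hs₀I⟩
  have hi := H.card_invs_eq hodd
  rw [sum_congr rfl (fun c _ => H.invsAt_card_eq c), sum_const, smul_eq_mul] at hi
  have hia : 0 < (invsAt (G := G) a).card := by
    rcases Nat.eq_zero_or_pos (invsAt (G := G) a).card with h | h
    · rw [h, mul_zero] at hi; omega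
    · exact h
  obtain ⟨s₁, hs₁⟩ := card_pos.mp hia
  obtain ⟨hs₁I, hs₁a⟩ := mem_invsAt.mp hs₁
  obtain ⟨hs₁1, hs₁2⟩ := mem_invs.mp hs₁I
  obtain ⟨c₁, hc₁, huniq⟩ := H.fix_unique hodd hs₁I
  have hc₁a : c₁ = a := (huniq a hs₁a).symm
  have hs₁b : s₁ • b ≠ b := by
    intro h
    have := huniq b h
    rw [hc₁a] at this
    exact H.hab this.symm
  have hs₁ba : s₁ • b ≠ a := by
    intro h
    rw [← hs₁a] at h
    exact H.hab (smul_left_cancel s₁ h).symm
  rw [← H.two_stab_filter H.hab]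
  apply card_le_card_of_injOn (fun h : G => h * s₁ * h⁻¹)
  · intro h hh
    obtain ⟨-, hha, hhb⟩ := mem_filter.mp (mem_coe.mp hh)
    rw [mem_coe, mem_invsAt, mem_invs]
    show (h * s₁ * h⁻¹ ≠ 1 ∧ h * s₁ * h⁻¹ * (h * s₁ * h⁻¹) = 1) ∧ (h * s₁ * h⁻¹) • a = a
    refine ⟨⟨?_, ?_⟩, ?_⟩
    · intro h1
      apply hs₁1
      have : s₁ = h⁻¹ * (h * s₁ * h⁻¹) * h := by group
      rw [this, h1]; group
    · have : h * s₁ * h⁻¹ * (h * s₁ * h⁻¹) = h * (s₁ * s₁) * h⁻¹ := by group
      rw [this, hs₁2]; group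
    · have hha' : h⁻¹ • a = a := by rw [inv_smul_eq_iff, hha]
      rw [mul_smul, mul_smul, hha', hs₁a, hha]
  · intro h hh h' hh' heq
    obtain ⟨-, hha, hhb⟩ := mem_filter.mp (mem_coe.mp hh)
    obtain ⟨-, hha', hhb'⟩ := mem_filter.mp (mem_coe.mp hh')
    simp only at heq
    set z := h'⁻¹ * h with hz
    have hza : z • a = a := by rw [hz, mul_smul, hha, inv_smul_eq_iff, hha']
    have hzb : z • b = b := by rw [hz, mul_smul, hhb, inv_smul_eq_iff, hhb']
    have hzs : z * s₁ = s₁ * z := by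
      have h3 : z * s₁ * z⁻¹ = s₁ := by
        have e1 : z * s₁ * z⁻¹ = h'⁻¹ * (h * s₁ * h⁻¹) * h' := by rw [hz]; group
        rw [e1, heq]; group
      have := congrArg (fun w => w * z) h3
      simpa [mul_assoc] using this
    have hzsb : z • (s₁ • b) = s₁ • b := by rw [← mul_smul, hzs, mul_smul, hzb]
    have hz1 : z = 1 := Cfsg.Agent.Helper5.Zassenhaus.eq_one_of_fix3 H.hZ H.hab
      (Ne.symm hs₁b) (Ne.symm hs₁ba) hza hzb hzsb
    have : h = h' * z := by rw [hz]; group
    rw [this, hz1, mul_one]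

end Cfsg.Agent.Helper4.FeitCount
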