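import Mathlib
import Cfsg.Agent.Helper4.FeitCountD

/-!
# Counting pairs of involutions in a Zassenhaus group: the number of fixed-point-free classes
-/

set_option autoImplicit false
set_option linter.style.haveILetI false
set_option linter.unusedSectionVars false

namespace Cfsg.Agent.Helper4.FeitCount

open Finset MulAction Cfsg
open scoped Classical

theorem arith_even (n e i F T cG : ℕ) (hn : 3 ≤ n) (he1 : 1 ≤ e) (hen : e + 2 ≤ n)
    (hG : cG = n * (n - 1) * e) (hM : i ^ 2 ≤ i + cG * F + e * T)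
    (hT : 2 * T ≤ (n * n - n) * (e - 1)) (hi : (n - 1) * e ≤ i) (hF : 2 * F + 1 ≤ e) : False := by
  obtain ⟨n1, rfl⟩ : ∃ n1, n = n1 + 1 := ⟨n - 1, by omega⟩
  obtain ⟨e1, rfl⟩ : ∃ e1, e = e1 + 1 := ⟨e - 1, by omega⟩
  have h1 : (n1 + 1) * (n1 + 1) - (n1 + 1) = (n1 + 1) * n1 := by
    have : (n1 + 1) * (n1 + 1) = (n1 + 1) * n1 + (n1 + 1) := by ring
    omega
  rw [h1] at hT
  simp only [Nat.add_sub_cancel] at hT hi hG
  subst hG
  have hF' : 2 * F ≤ e1 := by omega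
  have hn1 : e1 + 2 ≤ n1 := by omega
  obtain ⟨r, rfl⟩ : ∃ r, i = n1 * (e1 + 1) + r := ⟨i - n1 * (e1 + 1), by omega⟩
  have h2 : (n1 + 1) * n1 * (e1 + 1) * (2 * F) ≤ (n1 + 1) * n1 * (e1 + 1) * e1 :=
    Nat.mul_le_mul_left _ hF'
  have h3 : (e1 + 1) * (2 * T) ≤ (e1 + 1) * ((n1 + 1) * n1 * e1) := Nat.mul_le_mul_left _ hT
  nlinarith [h2, h3, hM, Nat.zero_le r, Nat.zero_le (r * n1), Nat.zero_le (r * e1), Nat.zero_le (n1 * e1), Nat.zero_le (r*r), Nat.zero_le (r * n1 * e1)]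

theorem arith_odd (n e I F T cG : ℕ) (hn : 3 ≤ n) (he1 : 1 ≤ e)
    (hG : cG = n * (n - 1) * e)
    (hM : (n * I) ^ 2 ≤ n * I + cG * F + n * (I * (I - 1)) + e * T)
    (hT : 2 * T ≤ (n * n - n) * (e - 1)) (hI : e ≤ I) (hF : 2 * F + 1 ≤ e) : False := by
  obtain ⟨n1, rfl⟩ : ∃ n1, n = n1 + 1 := ⟨n - 1, by omega⟩
  obtain ⟨e1, rfl⟩ : ∃ e1, e = e1 + 1 := ⟨e - 1, by omega⟩
  obtain ⟨I1, rfl⟩ : ∃ I1, I = I1 + 1 := ⟨I - 1, by omega⟩
  have h1 : (n1 + 1) * (n1 + 1) - (n1 + 1) = (n1 + 1) * n1 := by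
    have : (n1 + 1) * (n1 + 1) = (n1 + 1) * n1 + (n1 + 1) := by ring
    omega
  rw [h1] at hT
  simp only [Nat.add_sub_cancel] at hT hG hM
  subst hG
  have hF' : 2 * F ≤ e1 := by omega
  have hn1 : 2 ≤ n1 := by omega
  obtain ⟨r, rfl⟩ : ∃ r, I1 = e1 + r := ⟨I1 - e1, by omega⟩
  have h2 : (n1 + 1) * n1 * (e1 + 1) * (2 * F) ≤ (n1 + 1) * n1 * (e1 + 1) * e1 :=
    Nat.mul_le_mul_left _ hF'
  have h3 : (e1 + 1) * (2 * T) ≤ (e1 + 1) * ((n1 + 1) * n1 * e1) := Nat.mul_le_mul_left _ hT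
  -- 2 n^2 I^2 ≤ 2 n I^2 + 2 n n1 e e1, i.e. n1 I^2 ≤ n1 e e1
  have h4 : (n1 + 1) * ((e1 + r + 1) * (e1 + r + 1)) ≤ (e1 + r + 1) * (e1 + r + 1) + n1 * (e1 + 1) * e1 := by
    have h5 : 2 * ((n1 + 1) * (e1 + r + 1)) ^ 2 ≤ 2 * ((n1 + 1) * (e1 + r + 1)) + (n1 + 1) * n1 * (e1 + 1) * e1 + 2 * ((n1 + 1) * ((e1 + r + 1) * (e1 + r))) + (e1 + 1) * ((n1 + 1) * n1 * e1) := by
      nlinarith [h2, h3, hM]
    have h6 : 2 * (n1 + 1) * ((n1 + 1) * ((e1 + r + 1) * (e1 + r + 1))) ≤ 2 * (n1 + 1) * ((e1 + r + 1) * (e1 + r + 1) + n1 * (e1 + 1) * e1) := by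
      nlinarith [h5]
    exact Nat.le_of_mul_le_mul_left h6 (by positivity)
  nlinarith [h4, Nat.zero_le (r * n1), Nat.zero_le (r * e1), Nat.zero_le (n1 * e1), Nat.zero_le (r*r), Nat.zero_le (r * n1 * e1), Nat.zero_le (r * r * n1), Nat.zero_le (e1 * e1)]

variable {G Ω : Type*} [Group G] [Fintype G] [MulAction G Ω] [Fintype Ω] {a b : Ω} {e : ℕ}

/-- At least `(e + 1) / 2` classes of fixed-point-free elements. -/
theorem Hyp.two_mul_F_ge (H : Hyp G Ω a b e) :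
    e + 1 ≤ 2 * ((fpfSet G Ω).image ConjClasses.mk).card := by
  by_contra hcon
  have hN3 := Cfsg.Agent.Helper5.Zassenhaus.three_le_card H.hZ
  have hcardG := Cfsg.Agent.Helper5.Zassenhaus.card_group H.hZ H.hab
  rw [H.he, Nat.card_eq_fintype_card] at hcardG
  have he1 : 1 ≤ e := H.hodd.pos
  have hdvd := Cfsg.Agent.Helper4.ZKPrelim.card_stab_dvd H.hZ H.hab
  rw [H.he] at hdvd
  have hen : e + 2 ≤ Fintype.card Ω := by
    have := Nat.le_of_dvd (by omega) hdvd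
    omega
  have hF : 2 * ((fpfSet G Ω).image ConjClasses.mk).card + 1 ≤ e := by
    obtain ⟨k, hk⟩ := H.hodd
    omega
  have hM := H.main_ineq
  have hT := H.card_T2_le
  rcases Nat.even_or_odd (Fintype.card Ω) with hev | hod
  · have h0 : ∑ c : Ω, (invsAt (G := G) c).card * ((invsAt (G := G) c).card - 1) = 0 := by
      apply sum_eq_zero
      intro c _
      rw [H.invsAt_empty hev c, card_empty, zero_mul]
    rw [h0, add_zero] at hM
    exact arith_even _ _ _ _ _ _ hN3 he1 hen hcardG hM hT (H.card_invs_ge hev) hF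
  · have hi := H.card_invs_eq hod
    rw [sum_congr rfl (fun c _ => H.invsAt_card_eq c), sum_const, smul_eq_mul, card_univ] at hi
    have h0 : ∑ c : Ω, (invsAt (G := G) c).card * ((invsAt (G := G) c).card - 1) =
        Fintype.card Ω * ((invsAt (G := G) a).card * ((invsAt (G := G) a).card - 1)) := by
      rw [sum_congr rfl (fun c _ => by rw [H.invsAt_card_eq c]), sum_const, smul_eq_mul, card_univ]
    rw [h0, hi] at hM
    exact arith_odd _ _ _ _ _ _ hN3 he1 hcardG hM hT (H.e_le hod) hF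

end Cfsg.Agent.Helper4.FeitCount
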