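import Mathlib
import Cfsg.Agent.Helper4.FeitCountE

/-!
# Counting conjugacy classes avoiding a subgroup of one-fixed-point elements
-/

set_option autoImplicit false
set_option linter.style.haveILetI false
set_option linter.unusedSectionVars false

namespace Cfsg.Agent.Helper4.FeitCount

open Finset MulAction Cfsg
open scoped Classical

variable {G Ω : Type*} [Group G] [Fintype G] [MulAction G Ω] [Fintype Ω] {a b : Ω} {e : ℕ}

/-- The non-identity elements of the two point stabilizer. -/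
noncomputable def EsSet (G : Type*) {Ω : Type*} [Group G] [Fintype G] [MulAction G Ω] (a b : Ω) :
    Finset G :=
  univ.filter (fun g : G => g ≠ 1 ∧ g • a = a ∧ g • b = b)

theorem mem_EsSet {g : G} : g ∈ EsSet G a b ↔ g ≠ 1 ∧ g • a = a ∧ g • b = b := by
  simp [EsSet]

theorem Hyp.card_EsSet (H : Hyp G Ω a b e) : (EsSet G a b).card + 1 = e := by
  have h1 := H.two_stab_filter H.hab
  have h2 : EsSet G a b = (univ.filter (fun h : G => h • a = a ∧ h • b = b)).erase 1 := by
    ext g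
    simp only [EsSet, mem_filter, mem_univ, true_and, mem_erase]
  have h3 : (1 : G) ∈ univ.filter (fun h : G => h • a = a ∧ h • b = b) := by
    simp
  rw [h2, card_erase_of_mem h3, h1]
  have := H.hodd.pos
  omega

/-- The two point stabilizer is commutative. -/
theorem Hyp.comm_two_stab (H : Hyp G Ω a b e) {g h : G} (hga : g • a = a) (hgb : g • b = b)
    (hha : h • a = a) (hhb : h • b = b) : g * h = h * g := by
  obtain ⟨t, hta, htb⟩ := Cfsg.Agent.Helper5.Zassenhaus.two_trans H.hZ H.hab (Ne.symm H.hab)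
  obtain ⟨-, hinv⟩ := H.hswap t hta htb
  have hgm : g ∈ stabilizer G a ⊓ stabilizer G b := Subgroup.mem_inf.mpr ⟨hga, hgb⟩
  have hhm : h ∈ stabilizer G a ⊓ stabilizer G b := Subgroup.mem_inf.mpr ⟨hha, hhb⟩
  have h1 := hinv g hgm
  have h2 := hinv h hhm
  have h3 := hinv (g * h) (mul_mem hgm hhm)
  have h4 : t * (g * h) * t⁻¹ = (t * g * t⁻¹) * (t * h * t⁻¹) := by group
  rw [h4, h1, h2, mul_inv_rev] at h3
  -- g⁻¹ * h⁻¹ = h⁻¹ * g⁻¹
  have h5 : (g⁻¹ * h⁻¹)⁻¹ = (h⁻¹ * g⁻¹)⁻¹ := congrArg _ h3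
  simpa [mul_inv_rev] using h5.symm

theorem Hyp.fix_EsSet (H : Hyp G Ω a b e) {g : G} (hg : g ∈ EsSet G a b) {y : Ω}
    (hy : g • y = y) : y = a ∨ y = b := by
  obtain ⟨hg1, hga, hgb⟩ := mem_EsSet.mp hg
  by_contra hcon
  push Not at hcon
  exact hg1 (Cfsg.Agent.Helper5.Zassenhaus.eq_one_of_fix3 H.hZ H.hab (Ne.symm hcon.2)
    (Ne.symm hcon.1) hga hgb hy)

/-- Conjugate elements of `EsSet` are equal or inverse. -/
theorem Hyp.conj_EsSet (H : Hyp G Ω a b e) {g g₀ : G} (hg : g ∈ EsSet G a b)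
    (hg₀ : g₀ ∈ EsSet G a b) (x : G) (hx : x * g₀ * x⁻¹ = g) : g = g₀ ∨ g = g₀⁻¹ := by
  obtain ⟨hg1, hga, hgb⟩ := mem_EsSet.mp hg
  obtain ⟨hg₀1, hg₀a, hg₀b⟩ := mem_EsSet.mp hg₀
  have hxa : g • (x • a) = x • a := by
    rw [← hx, mul_smul, mul_smul, inv_smul_smul, hg₀a]
  have hxb : g • (x • b) = x • b := by
    rw [← hx, mul_smul, mul_smul, inv_smul_smul, hg₀b]
  have h1 := H.fix_EsSet hg hxa
  have h2 := H.fix_EsSet hg hxb
  have hne : x • a ≠ x • b := fun h => H.hab (smul_left_cancel x h)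
  rcases h1 with h1 | h1
  · rcases h2 with h2 | h2
    · exact absurd (h1.trans h2.symm) hne
    · left
      rw [← hx, H.comm_two_stab h1 h2 hg₀a hg₀b, mul_inv_cancel_right]
  · rcases h2 with h2 | h2
    · right
      rw [← hx]
      exact (H.hswap x h1 h2).2 g₀ (Subgroup.mem_inf.mpr ⟨hg₀a, hg₀b⟩)
    · exact absurd (h1.trans h2.symm) hne

theorem Hyp.card_EsSet_le (H : Hyp G Ω a b e) :
    (EsSet G a b).card ≤ 2 * ((EsSet G a b).image ConjClasses.mk).card := by
  apply card_le_mul_card_image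
  intro C hC
  obtain ⟨g₀, hg₀, rfl⟩ := mem_image.mp hC
  have hsub : (EsSet G a b).filter (fun x => ConjClasses.mk x = ConjClasses.mk g₀) ⊆
      {g₀, g₀⁻¹} := by
    intro g hg
    obtain ⟨hgE, hgC⟩ := mem_filter.mp hg
    rw [ConjClasses.mk_eq_mk_iff_isConj, isConj_comm, isConj_iff] at hgC
    obtain ⟨x, hx⟩ := hgC
    rcases H.conj_EsSet hgE hg₀ x hx with h | h
    · rw [h]; exact mem_insert_self _ _
    · rw [h]; exact mem_insert_of_mem (mem_singleton_self _)
  exact le_trans (card_le_card hsub) card_le_two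

/-- The number of conjugacy classes avoiding a subgroup all of whose non-identity elements
have exactly one fixed point is at least the order of the two point stabilizer. -/
theorem classes_avoiding_ge (hZ : IsZassenhausGroup G Ω) {a b : Ω} (hab : a ≠ b)
    (hodd : Odd (Nat.card ↥(stabilizer G a ⊓ stabilizer G b)))
    (hswap : ∀ s : G, s • a = b → s • b = a →
      s * s = 1 ∧ ∀ h ∈ stabilizer G a ⊓ stabilizer G b, s * h * s⁻¹ = h⁻¹)
    (K : Subgroup G)
    (hK : ∀ u ∈ K, u ≠ 1 → ∃ c : Ω, u • c = c ∧ ∀ y : Ω, u • y = y → y = c) :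
    Nat.card ↥(stabilizer G a ⊓ stabilizer G b) ≤
      Nat.card {C : ConjClasses G // ∀ g : G, ConjClasses.mk g = C → g ∉ K} := by
  have H : Hyp G Ω a b (Nat.card ↥(stabilizer G a ⊓ stabilizer G b)) :=
    ⟨hZ, hab, rfl, hodd, hswap⟩
  set e := Nat.card ↥(stabilizer G a ⊓ stabilizer G b) with he
  have hE1 := H.card_EsSet
  have hE2 := H.card_EsSet_le
  have hF := H.two_mul_F_ge
  have hcard : Nat.card {C : ConjClasses G // ∀ g : G, ConjClasses.mk g = C → g ∉ K} =
      (univ.filter (fun C : ConjClasses G => ∀ g : G, ConjClasses.mk g = C → g ∉ K)).card := by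
    rw [Nat.card_eq_fintype_card, Fintype.card_subtype]
  rw [hcard]
  have hdisj : Disjoint ((EsSet G a b).image ConjClasses.mk)
      ((fpfSet G Ω).image ConjClasses.mk) := by
    rw [disjoint_left]
    intro C hC1 hC2
    obtain ⟨g₀, hg₀, rfl⟩ := mem_image.mp hC1
    obtain ⟨g₁, hg₁, hC⟩ := mem_image.mp hC2
    rw [ConjClasses.mk_eq_mk_iff_isConj, isConj_iff] at hC
    obtain ⟨x, hx⟩ := hC
    have h1 := fpfSet_conj g₁ hg₁ x
    rw [hx] at h1
    simp only [fpfSet, mem_filter, mem_univ, true_and] at h1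
    exact h1 a (mem_EsSet.mp hg₀).2.1
  have hsub : (EsSet G a b).image ConjClasses.mk ∪ (fpfSet G Ω).image ConjClasses.mk ⊆
      univ.filter (fun C : ConjClasses G => ∀ g : G, ConjClasses.mk g = C → g ∉ K) := by
    intro C hC
    simp only [mem_filter, mem_univ, true_and]
    intro g hgC hgK
    rcases mem_union.mp hC with hC | hC
    · obtain ⟨g₀, hg₀, rfl⟩ := mem_image.mp hC
      obtain ⟨hg₀1, hg₀a, hg₀b⟩ := mem_EsSet.mp hg₀
      rw [ConjClasses.mk_eq_mk_iff_isConj, isConj_comm, isConj_iff] at hgC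
      obtain ⟨x, hx⟩ := hgC
      have hg1 : g ≠ 1 := by
        intro h1
        apply hg₀1
        rw [h1] at hx
        have : g₀ = x⁻¹ * (x * g₀ * x⁻¹) * x := by group
        rw [this, hx]; group
      obtain ⟨c, hc, huniq⟩ := hK g hgK hg1
      have hxa : g • (x • a) = x • a := by
        rw [← hx, mul_smul, mul_smul, inv_smul_smul, hg₀a]
      have hxb : g • (x • b) = x • b := by
        rw [← hx, mul_smul, mul_smul, inv_smul_smul, hg₀b]
      exact hab (smul_left_cancel x ((huniq _ hxa).trans (huniq _ hxb).symm))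
    · obtain ⟨g₀, hg₀, rfl⟩ := mem_image.mp hC
      rw [ConjClasses.mk_eq_mk_iff_isConj, isConj_comm, isConj_iff] at hgC
      obtain ⟨x, hx⟩ := hgC
      have h1 := fpfSet_conj g₀ hg₀ x
      rw [hx] at h1
      simp only [fpfSet, mem_filter, mem_univ, true_and] at h1
      by_cases hg1 : g = 1
      · exact h1 a (by rw [hg1, one_smul])
      · obtain ⟨c, hc, -⟩ := hK g hgK hg1
        exact h1 c hc
  have h3 := card_le_card hsub
  rw [card_union_of_disjoint hdisj] at h3
  omega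

end Cfsg.Agent.Helper4.FeitCount
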