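import Mathlib
import Cfsg.Prelude.Def_LieExceptional
import Cfsg.Agent.Helper4.FeitGlue
import Cfsg.Agent.S0339

/-!
# Reduction of Feit's theorem on Zassenhaus groups to the case of a simple group
-/

set_option autoImplicit false
set_option linter.style.haveILetI false
set_option linter.unusedSectionVars false

namespace Cfsg.Agent.Helper4.FeitRed

open MulAction Cfsg

/-- The conclusion of Feit's theorem, for an abstract group `P` in the role of the kernel. -/
def ConclT (h e : ℕ) (P : Type*) [Group P] : Prop :=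
  h - 1 ≤ 2 * e ∨
    (IsPGroup 2 P ∧ (∃ u v : P, u * v ≠ v * u) ∧ (commutator P).index ≤ 4 * e ^ 2 + 1)

theorem ConclT.of_equiv {h e e' : ℕ} {P P' : Type*} [Group P] [Group P'] (φ : P ≃* P')
    (hee : e ≤ e') (hc : ConclT h e P) : ConclT h e' P' := by
  rcases hc with hc | ⟨h1, ⟨u, v, huv⟩, h3⟩
  · left; omega
  · right
    refine ⟨h1.of_equiv φ, ⟨φ u, φ v, ?_⟩, ?_⟩
    · intro hcon
      apply huv
      apply φ.injective
      rw [map_mul, map_mul, hcon]
    · have h4 : (commutator P').index = (commutator P).index := by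
        have : commutator P' = Subgroup.map (φ : P →* P') (commutator P) := by
          rw [commutator_def, commutator_def, Subgroup.map_commutator]
          have htop : Subgroup.map (φ : P →* P') ⊤ = ⊤ :=
            Subgroup.map_top_of_surjective _ φ.surjective
          rw [htop]
        rw [this, Subgroup.index_map_equiv]
      rw [h4]
      have : 4 * e ^ 2 + 1 ≤ 4 * e' ^ 2 + 1 := by
        have := Nat.pow_le_pow_left hee 2
        omega
      omega

variable {G Ω : Type*} [Group G] [MulAction G Ω]

/-- A non-trivial normal subgroup of a Zassenhaus group contains the Frobenius kernel of each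
point stabilizer. -/
theorem kernel_le_of_normal [Finite G] [Fintype Ω] (hZ : IsZassenhausGroup G Ω) (a : Ω)
    (H : Subgroup G) (hHa : H ≤ stabilizer G a) (hHcard : Nat.card H + 1 = Fintype.card Ω)
    (hHfix : ∀ u ∈ H, u ≠ 1 → ∀ c : Ω, u • c = c → c = a)
    (M : Subgroup G) [hMn : M.Normal] (hM : M ≠ ⊥) : H ≤ M := by
  haveI : Fintype G := Fintype.ofFinite G
  have hyp := Cfsg.Agent.Helper4.FeitGlue.hyp_of_zassenhaus hZ a H hHa hHcard hHfix
  have hZM : IsZassenhausGroup M Ω := Cfsg.Agent.S0339.result hZ M hM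
  obtain ⟨g, hg1, c, d, hcd, hgc, hgd⟩ := hZM.2.2.2.1
  have htr := Cfsg.Agent.Helper5.Zassenhaus.isPretransitive_of_zassenhaus hZ
  obtain ⟨t, ht⟩ := MulAction.exists_smul_eq G c a
  -- an element of `M` fixing `a` and another point
  set x : G := t * (g : G) * t⁻¹ with hx
  have hxM : x ∈ M := hMn.conj_mem _ g.2 t
  have hgc' : (g : G) • c = c := hgc
  have hgd' : (g : G) • d = d := hgd
  have hxa : x • a = a := by
    rw [hx, ← ht, mul_smul, mul_smul, inv_smul_smul, hgc']
  have hxb : x • (t • d) = t • d := by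
    rw [hx, mul_smul, mul_smul, inv_smul_smul, hgd']
  have hba : t • d ≠ a := by
    intro h
    rw [← ht] at h
    exact hcd (smul_left_cancel t h).symm
  have hx1 : x ≠ 1 := by
    intro h
    apply hg1
    apply Subtype.ext
    have : (g : G) = t⁻¹ * x * t := by rw [hx]; group
    rw [this, h]; simp
  have hxH : x ∉ H := fun h => hba (hHfix x h hx1 _ hxb)
  -- the commutator map
  have hnorm : ∀ u ∈ H, x * u * x⁻¹ ∈ H := by
    intro u hu
    have h1 := hyp.normal.conj_mem (⟨u, hHa hu⟩ : stabilizer G a)
      (Subgroup.mem_subgroupOf.mpr hu) ⟨x, hxa⟩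
    rw [Subgroup.mem_subgroupOf] at h1
    exact h1
  have hmem : ∀ u ∈ H, u * x * u⁻¹ * x⁻¹ ∈ H ⊓ M := by
    intro u hu
    refine Subgroup.mem_inf.mpr ⟨?_, ?_⟩
    · have h1 := hnorm u⁻¹ (inv_mem hu)
      have : u * x * u⁻¹ * x⁻¹ = u * (x * u⁻¹ * x⁻¹) := by group
      rw [this]
      exact mul_mem hu h1
    · exact mul_mem (hMn.conj_mem _ hxM u) (inv_mem hxM)
  let F : H → ↥(H ⊓ M) := fun u => ⟨(u : G) * x * (u : G)⁻¹ * x⁻¹, hmem u u.2⟩
  have hF : Function.Injective F := by
    intro u v huv
    have h1 : (u : G) * x * (u : G)⁻¹ * x⁻¹ = (v : G) * x * (v : G)⁻¹ * x⁻¹ :=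
      congrArg Subtype.val huv
    have h2 : (u : G) * x * (u : G)⁻¹ = (v : G) * x * (v : G)⁻¹ := mul_right_cancel h1
    -- `w = v⁻¹ u` commutes with `x`
    have h3 : ((v : G)⁻¹ * (u : G)) * x = x * ((v : G)⁻¹ * (u : G)) := by
      have : (v : G)⁻¹ * ((u : G) * x * (u : G)⁻¹) * (u : G) =
          (v : G)⁻¹ * ((v : G) * x * (v : G)⁻¹) * (u : G) := by rw [h2]
      calc ((v : G)⁻¹ * (u : G)) * x = (v : G)⁻¹ * ((u : G) * x * (u : G)⁻¹) * (u : G) := by group
        _ = (v : G)⁻¹ * ((v : G) * x * (v : G)⁻¹) * (u : G) := this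
        _ = x * ((v : G)⁻¹ * (u : G)) := by group
    have hw : (v : G)⁻¹ * (u : G) ∈ H := mul_mem (inv_mem v.2) u.2
    have hw1 : (v : G)⁻¹ * (u : G) = 1 := by
      by_contra hne
      apply hxH
      apply hyp.cent _ hw hne
      rw [Subgroup.mem_centralizer_iff]
      intro y hy
      rw [Set.mem_singleton_iff] at hy
      rw [hy]
      exact h3
    apply Subtype.ext
    have : (u : G) = (v : G) * ((v : G)⁻¹ * (u : G)) := by group
    rw [this, hw1, mul_one]
  have hcard : Nat.card H ≤ Nat.card ↥(H ⊓ M) := Nat.card_le_card_of_injective F hF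
  have heq : H ⊓ M = H := Subgroup.eq_of_le_of_card_ge inf_le_left hcard
  rw [← heq]
  exact inf_le_right

/-- The reduction: Feit's theorem for simple Zassenhaus groups implies it for all of them. -/
theorem reduction.{u, v} {Ω : Type v} [Fintype Ω]
    (hsimple : ∀ (G' : Type u) [Group G'] [Finite G'] [MulAction G' Ω] [IsSimpleGroup G'],
      IsZassenhausGroup G' Ω → ∀ {a b : Ω}, a ≠ b → ∀ (h e : ℕ), Fintype.card Ω = h + 1 →
      Nat.card ↥(stabilizer G' a ⊓ stabilizer G' b) = e → Odd e →
      ∀ (H : Subgroup G'), H ≤ stabilizer G' a → Nat.card H + 1 = Fintype.card Ω →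
      (∀ u ∈ H, u ≠ 1 → ∀ c : Ω, u • c = c → c = a) → ConclT h e H)
    {G : Type u} [Group G] [Finite G] [MulAction G Ω] (hZ : IsZassenhausGroup G Ω) {a b : Ω}
    (hab : a ≠ b) (h e : ℕ) (hh : Fintype.card Ω = h + 1)
    (he : Nat.card ↥(stabilizer G a ⊓ stabilizer G b) = e) (hodd : Odd e)
    (H : Subgroup G) (hHa : H ≤ stabilizer G a) (hHcard : Nat.card H + 1 = Fintype.card Ω)
    (hHfix : ∀ u ∈ H, u ≠ 1 → ∀ c : Ω, u • c = c → c = a) : ConclT h e H := by
  -- strong induction on the order of `G`
  have key : ∀ n : ℕ, ∀ (G : Type u) [Group G] [Finite G] [MulAction G Ω], Nat.card G = n →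
      IsZassenhausGroup G Ω → ∀ (e : ℕ),
      Nat.card ↥(stabilizer G a ⊓ stabilizer G b) = e → Odd e →
      ∀ (H : Subgroup G), H ≤ stabilizer G a → Nat.card H + 1 = Fintype.card Ω →
      (∀ u ∈ H, u ≠ 1 → ∀ c : Ω, u • c = c → c = a) → ConclT h e H := by
    intro n
    induction n using Nat.strong_induction_on with
    | _ n ih =>
      intro G _ _ _ hn hZ e he hodd H hHa hHcard hHfix
      by_cases hs : IsSimpleGroup G
      · exact hsimple G hZ hab h e hh he hodd H hHa hHcard hHfix
      · -- a proper non-trivial normal subgroup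
        have hnt : Nontrivial G := by
          obtain ⟨g, hg, -⟩ := hZ.2.2.2.1
          exact ⟨⟨g, 1, hg⟩⟩
        have hex : ∃ M : Subgroup G, M.Normal ∧ M ≠ ⊥ ∧ M ≠ ⊤ := by
          by_contra hcon
          push Not at hcon
          apply hs
          refine ⟨fun M hM => ?_⟩
          by_cases hb : M = ⊥
          · exact Or.inl hb
          · exact Or.inr (hcon M hM hb)
        obtain ⟨M, hMn, hMb, hMt⟩ := hex
        haveI := hMn
        have hZM : IsZassenhausGroup M Ω := Cfsg.Agent.S0339.result hZ M hMb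
        have hHM : H ≤ M := kernel_le_of_normal hZ a H hHa hHcard hHfix M hMb
        have hlt : Nat.card M < n := by
          rw [← hn]
          refine lt_of_le_of_ne (Subgroup.card_le_card_group M) ?_
          intro h
          exact hMt ((Subgroup.card_eq_iff_eq_top M).mp h)
        -- the two point stabilizer of `M`
        let ψ : ↥(stabilizer M a ⊓ stabilizer M b) →* ↥(stabilizer G a ⊓ stabilizer G b) :=
          { toFun := fun y => ⟨((y : M) : G), by
              have h1 := Subgroup.mem_inf.mp y.2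
              refine Subgroup.mem_inf.mpr ⟨?_, ?_⟩
              · exact h1.1
              · exact h1.2⟩
            map_one' := rfl
            map_mul' := fun _ _ => rfl }
        have hψ : Function.Injective ψ := by
          intro y z hyz
          have h1 : ((y : M) : G) = ((z : M) : G) :=
            congrArg (fun w : ↥(stabilizer G a ⊓ stabilizer G b) => (w : G)) hyz
          exact Subtype.ext (Subtype.ext h1)
        have hdvd : Nat.card ↥(stabilizer M a ⊓ stabilizer M b) ∣ e := by
          rw [← he]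
          exact Subgroup.card_dvd_of_injective ψ hψ
        have hodd' : Odd (Nat.card ↥(stabilizer M a ⊓ stabilizer M b)) := by
          obtain ⟨k, hk⟩ := hdvd
          rw [hk] at hodd
          exact (Nat.odd_mul.mp hodd).1
        have hle : Nat.card ↥(stabilizer M a ⊓ stabilizer M b) ≤ e :=
          Nat.le_of_dvd hodd.pos hdvd
        -- the kernel inside `M`
        have h1 : H.subgroupOf M ≤ stabilizer M a := by
          intro u hu
          rw [Subgroup.mem_subgroupOf] at hu
          exact hHa hu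
        have h2 : Nat.card (H.subgroupOf M) + 1 = Fintype.card Ω := by
          rw [Nat.card_congr (Subgroup.subgroupOfEquivOfLe hHM).toEquiv]
          exact hHcard
        have h3 : ∀ u ∈ H.subgroupOf M, u ≠ 1 → ∀ c : Ω, u • c = c → c = a := by
          intro u hu hu1 c hc
          rw [Subgroup.mem_subgroupOf] at hu
          exact hHfix _ hu (fun h => hu1 (Subtype.ext h)) c hc
        have h4 := ih _ hlt M rfl hZM _ rfl hodd' (H.subgroupOf M) h1 h2 h3
        exact h4.of_equiv (Subgroup.subgroupOfEquivOfLe hHM) hle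
  exact key _ G rfl hZ e he hodd H hHa hHcard hHfix

end Cfsg.Agent.Helper4.FeitRed
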