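import Mathlib
import Cfsg.Prelude.Def_FischerSpaces

set_option autoImplicit false
set_option linter.style.haveILetI false
set_option linter.unusedSectionVars false
set_option linter.unusedVariables false

/-!
# Fischer spaces: the point maps `t(x)` are automorphisms and form a set of 3-transpositions
-/

namespace Cfsg.Agent.Helper4.FischerSpace

open Cfsg Cfsg.LineSystem

section Basic

variable {X : Type*} (L : Set (Set X))

/-- `x, y, z` are the three points of a line. -/
def Tri (x y z : X) : Prop := z ≠ x ∧ z ≠ y ∧ x ≠ y ∧ ({x, y, z} : Set X) ∈ L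

variable {L}

theorem tri_swap {x y z : X} (h : Tri L x y z) : Tri L x z y := by
  obtain ⟨h1, h2, h3, h4⟩ := h
  refine ⟨h3.symm, h2.symm, h1.symm, ?_⟩
  have : ({x, z, y} : Set X) = {x, y, z} := by
    ext w; simp only [Set.mem_insert_iff, Set.mem_singleton_iff]; tauto
  rw [this]; exact h4

theorem tri_comm {x y z : X} (h : Tri L x y z) : Tri L y x z := by
  obtain ⟨h1, h2, h3, h4⟩ := h
  refine ⟨h2, h1, h3.symm, ?_⟩
  have : ({y, x, z} : Set X) = {x, y, z} := by
    ext w; simp only [Set.mem_insert_iff, Set.mem_singleton_iff]; tauto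
  rw [this]; exact h4

theorem tri_unique (hPL : IsPartialLinear L) {x y z z' : X} (h : Tri L x y z) (h' : Tri L x y z') :
    z = z' := by
  obtain ⟨h1, h2, h3, h4⟩ := h
  obtain ⟨h1', h2', -, h4'⟩ := h'
  have := hPL _ h4 _ h4' x y h3 (by simp) (by simp) (by simp) (by simp)
  have hz' : z' ∈ ({x, y, z} : Set X) := by rw [this]; simp
  simp only [Set.mem_insert_iff, Set.mem_singleton_iff] at hz'
  rcases hz' with h | h | h
  · exact absurd h h1'
  · exact absurd h h2'
  · exact h.symm

theorem lineMap_eq_of_tri (hPL : IsPartialLinear L) {x y z : X} (h : Tri L x y z) :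
    lineMap L x y = z := by
  have hex : ∃ z : X, z ≠ x ∧ z ≠ y ∧ x ≠ y ∧ ({x, y, z} : Set X) ∈ L := ⟨z, h⟩
  unfold lineMap
  rw [dif_pos hex]
  exact (tri_unique hPL h hex.choose_spec).symm

theorem lineMap_eq_self {x y : X} (h : ¬ ∃ z, Tri L x y z) : lineMap L x y = y := by
  have h' : ¬ ∃ z : X, z ≠ x ∧ z ≠ y ∧ x ≠ y ∧ ({x, y, z} : Set X) ∈ L := h
  unfold lineMap
  rw [dif_neg h']

theorem lineMap_involutive (hPL : IsPartialLinear L) (x : X) :
    Function.Involutive (lineMap L x) := by
  intro y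
  by_cases h : ∃ z, Tri L x y z
  · obtain ⟨z, hz⟩ := h
    rw [lineMap_eq_of_tri hPL hz, lineMap_eq_of_tri hPL (tri_swap hz)]
  · rw [lineMap_eq_self h, lineMap_eq_self h]

theorem lineMap_self (x : X) : lineMap L x x = x := by
  apply lineMap_eq_self
  rintro ⟨z, -, -, h, -⟩
  exact h rfl

/-- The points of a line through `x`. -/
theorem exists_tri_of_mem (h3 : ∀ l ∈ L, l.ncard = 3) {l : Set X} (hl : l ∈ L) {x : X}
    (hx : x ∈ l) : ∃ y z, Tri L x y z ∧ l = {x, y, z} := by
  obtain ⟨a, b, c, hab, hac, hbc, rfl⟩ := Set.ncard_eq_three.mp (h3 l hl)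
  simp only [Set.mem_insert_iff, Set.mem_singleton_iff] at hx
  rcases hx with rfl | rfl | rfl
  · exact ⟨b, c, ⟨hac.symm, hbc.symm, hab, hl⟩, rfl⟩
  · have e : ({a, x, c} : Set X) = {x, a, c} := by
      ext w; simp only [Set.mem_insert_iff, Set.mem_singleton_iff]; tauto
    exact ⟨a, c, ⟨hbc.symm, hac.symm, hab.symm, by rw [← e]; exact hl⟩, e⟩
  · have e : ({a, b, x} : Set X) = {x, a, b} := by
      ext w; simp only [Set.mem_insert_iff, Set.mem_singleton_iff]; tauto
    exact ⟨a, b, ⟨hbc, hab.symm, hac.symm, by rw [← e]; exact hl⟩, e⟩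

theorem exists_tri_of_mem_mem (h3 : ∀ l ∈ L, l.ncard = 3) {l : Set X} (hl : l ∈ L) {x y : X}
    (hx : x ∈ l) (hy : y ∈ l) (hxy : x ≠ y) : ∃ z, Tri L x y z ∧ l = {x, y, z} := by
  obtain ⟨b, c, ht, rfl⟩ := exists_tri_of_mem h3 hl hx
  simp only [Set.mem_insert_iff, Set.mem_singleton_iff] at hy
  rcases hy with h | rfl | rfl
  · exact absurd h.symm hxy
  · exact ⟨c, ht, rfl⟩
  · refine ⟨b, tri_swap ht, ?_⟩
    ext w; simp only [Set.mem_insert_iff, Set.mem_singleton_iff]; tauto

theorem span_isSubspace (S : Set X) : IsSubspace L (span L S) := by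
  intro l hl x hx y hy hxy hxl hyl w hw
  rw [span, Set.mem_sInter] at hx hy ⊢
  intro T hT
  exact hT.2 l hl x (hx T hT) y (hy T hT) hxy hxl hyl hw

theorem subset_span (S : Set X) : S ⊆ span L S := by
  intro x hx
  rw [span, Set.mem_sInter]
  intro T hT
  exact hT.1 hx

end Basic

section Good

variable {X : Type*} {Y : Type*}

/-- The combinatorial form of "every point map sends lines into lines". -/
def Good (N : Set (Set Y)) : Prop :=
  ∀ a : Y, ∀ l ∈ N, ∃ l' ∈ N, ∀ b ∈ l,
    (∀ c, Tri N a b c → c ∈ l') ∧ ((¬ ∃ c, Tri N a b c) → b ∈ l')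

theorem image_triple (e : X ≃ Y) (a b c : X) : e '' ({a, b, c} : Set X) = {e a, e b, e c} := by
  ext w
  simp only [Set.mem_image, Set.mem_insert_iff, Set.mem_singleton_iff]
  constructor
  · rintro ⟨u, (rfl | rfl | rfl), rfl⟩ <;> simp
  · rintro (rfl | rfl | rfl)
    · exact ⟨a, Or.inl rfl, rfl⟩
    · exact ⟨b, Or.inr (Or.inl rfl), rfl⟩
    · exact ⟨c, Or.inr (Or.inr rfl), rfl⟩

theorem tri_iso {M : Set (Set X)} {N : Set (Set Y)} {e : X ≃ Y} (he : IsIso M N e) (a b c : X) :
    Tri M a b c ↔ Tri N (e a) (e b) (e c) := by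
  unfold Tri
  rw [he, image_triple]
  simp only [ne_eq, EmbeddingLike.apply_eq_iff_eq]

/-- `Good` transfers along isomorphisms of line systems. -/
theorem good_of_iso {M : Set (Set X)} {N : Set (Set Y)} {e : X ≃ Y} (he : IsIso M N e)
    (hN : Good N) : Good M := by
  intro a l hl
  obtain ⟨l', hl', h⟩ := hN (e a) (e '' l) ((he l).mp hl)
  refine ⟨e.symm '' l', ?_, ?_⟩
  · rw [he]
    have : e '' (e.symm '' l') = l' := by
      rw [← Set.image_comp]; simp
    rw [this]; exact hl'
  · intro b hb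
    obtain ⟨h1, h2⟩ := h (e b) ⟨b, hb, rfl⟩
    constructor
    · intro c hc
      exact ⟨e c, h1 (e c) ((tri_iso he a b c).mp hc), by simp⟩
    · intro hno
      refine ⟨e b, h2 ?_, by simp⟩
      rintro ⟨c', hc'⟩
      apply hno
      refine ⟨e.symm c', ?_⟩
      rw [tri_iso he]
      simpa using hc'

end Good

section Restrict

variable {X : Type*} {L : Set (Set X)}

/-- A `Good` subspace gives the line-preservation property inside the ambient space. -/
theorem good_restrict {S : Set X} (hS : IsSubspace L S) (hgood : Good (restrict L S)) {x : X}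
    (hx : x ∈ S) {l : Set X} (hl : l ∈ L) (hlS : l ⊆ S) :
    ∃ l' ∈ L, ∀ b ∈ l, (∀ c, Tri L x b c → c ∈ l') ∧ ((¬ ∃ c, Tri L x b c) → b ∈ l') := by
  have hlt : {p : S | (p : X) ∈ l} ∈ restrict L S := ⟨l, hl, hlS, rfl⟩
  obtain ⟨lt', ⟨l', hl', hl'S, rfl⟩, h⟩ := hgood ⟨x, hx⟩ _ hlt
  refine ⟨l', hl', ?_⟩
  intro b hb
  obtain ⟨h1, h2⟩ := h ⟨b, hlS hb⟩ hb
  constructor
  · intro c hc
    have hcS : c ∈ S := by
      obtain ⟨-, -, hxb, hline⟩ := hc
      exact hS _ hline x hx b (hlS hb) hxb (by simp) (by simp) (by simp)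
    have := h1 ⟨c, hcS⟩ ?_
    · exact this
    · obtain ⟨c1, c2, c3, hline⟩ := hc
      refine ⟨fun h => c1 (congrArg Subtype.val h), fun h => c2 (congrArg Subtype.val h),
        fun h => c3 (congrArg Subtype.val h), ⟨{x, b, c}, hline, ?_, ?_⟩⟩
      · intro w hw
        simp only [Set.mem_insert_iff, Set.mem_singleton_iff] at hw
        rcases hw with rfl | rfl | rfl
        · exact hx
        · exact hlS hb
        · exact hcS
      · ext p
        simp only [Set.mem_insert_iff, Set.mem_singleton_iff, Set.mem_ofPred_eq, Subtype.ext_iff]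
  · intro hno
    apply h2
    rintro ⟨⟨c, hcS⟩, c1, c2, c3, l₀, hl₀, hl₀S, heq⟩
    apply hno
    refine ⟨c, fun h => c1 (Subtype.ext h), fun h => c2 (Subtype.ext h),
      fun h => c3 (Subtype.ext h), ?_⟩
    have : ({x, b, c} : Set X) = l₀ := by
      ext w
      constructor
      · intro hw
        simp only [Set.mem_insert_iff, Set.mem_singleton_iff] at hw
        have hmem : ∀ p : S, p ∈ ({⟨x, hx⟩, ⟨b, hlS hb⟩, ⟨c, hcS⟩} : Set S) → (p : X) ∈ l₀ := by
          intro p hp
          rw [heq] at hp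
          exact hp
        rcases hw with rfl | rfl | rfl
        · exact hmem ⟨_, hx⟩ (by simp)
        · exact hmem ⟨_, hlS hb⟩ (by simp)
        · exact hmem ⟨_, hcS⟩ (by simp)
      · intro hw
        have : (⟨w, hl₀S hw⟩ : S) ∈ ({⟨x, hx⟩, ⟨b, hlS hb⟩, ⟨c, hcS⟩} : Set S) := by
          rw [heq]; exact hw
        simp only [Set.mem_insert_iff, Set.mem_singleton_iff, Subtype.mk.injEq] at this
        simpa using this
    rw [this]; exact hl₀

end Restrict

section Affine

theorem three_zmod : (3 : ZMod 3) = 0 := by decide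

theorem zmod3_sum : ∀ t1 t2 t3 : ZMod 3, t1 ≠ t2 → t1 ≠ t3 → t2 ≠ t3 → t1 + t2 + t3 = 0 := by
  decide

/-- In the affine plane of order three the three points of a line add up to zero. -/
theorem ag3_sum {a b c : Fin 2 → ZMod 3} (h : Tri affinePlaneThree a b c) : a + b + c = 0 := by
  obtain ⟨hca, hcb, hab, v, w, hw, hl⟩ := h
  have ha : a ∈ ({a, b, c} : Set (Fin 2 → ZMod 3)) := by simp
  have hb : b ∈ ({a, b, c} : Set (Fin 2 → ZMod 3)) := by simp
  have hc : c ∈ ({a, b, c} : Set (Fin 2 → ZMod 3)) := by simp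
  rw [hl] at ha hb hc
  obtain ⟨t1, rfl⟩ := ha
  obtain ⟨t2, rfl⟩ := hb
  obtain ⟨t3, rfl⟩ := hc
  have h12 : t1 ≠ t2 := fun h => hab (by rw [h])
  have h13 : t1 ≠ t3 := fun h => hca (by rw [h])
  have h23 : t2 ≠ t3 := fun h => hcb (by rw [h])
  have hs := zmod3_sum t1 t2 t3 h12 h13 h23
  ext i
  simp only [Pi.add_apply, Pi.smul_apply, smul_eq_mul, Pi.zero_apply]
  linear_combination (w i) * hs + (v i) * three_zmod

theorem ag3_tri {a b : Fin 2 → ZMod 3} (hab : a ≠ b) : Tri affinePlaneThree a b (-a - b) := by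
  have h3 := three_zmod
  refine ⟨?_, ?_, hab, a, b - a, sub_ne_zero.mpr hab.symm, ?_⟩
  · intro h
    apply hab
    ext i
    have := congrFun h i
    simp only [Pi.sub_apply, Pi.neg_apply] at this
    linear_combination (1 : ZMod 3) * this + (a i) * h3
  · intro h
    apply hab
    ext i
    have := congrFun h i
    simp only [Pi.sub_apply, Pi.neg_apply] at this
    linear_combination (-1 : ZMod 3) * this - (b i) * h3
  · ext x
    simp only [Set.mem_insert_iff, Set.mem_singleton_iff, Set.mem_ofPred_eq]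
    constructor
    · rintro (rfl | rfl | rfl)
      · exact ⟨0, by simp⟩
      · exact ⟨1, by simp⟩
      · refine ⟨2, ?_⟩
        ext i
        simp only [Pi.sub_apply, Pi.neg_apply, Pi.add_apply, Pi.smul_apply, smul_eq_mul]
        linear_combination (-(b i)) * h3
    · rintro ⟨c, rfl⟩
      have hc : c = 0 ∨ c = 1 ∨ c = 2 := by revert c; decide
      rcases hc with rfl | rfl | rfl
      · left; simp
      · right; left; simp
      · right; right
        ext i
        simp only [Pi.sub_apply, Pi.neg_apply, Pi.add_apply, Pi.smul_apply, smul_eq_mul]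
        linear_combination (b i) * h3

theorem good_ag3 : Good affinePlaneThree := by
  intro a l hl
  obtain ⟨v, w, hw, rfl⟩ := hl
  have h3 := three_zmod
  refine ⟨{x | ∃ c : ZMod 3, x = (-a - v) + c • (-w)}, ⟨-a - v, -w, neg_ne_zero.mpr hw, rfl⟩, ?_⟩
  rintro b ⟨s, rfl⟩
  constructor
  · intro c hc
    have hsum := ag3_sum hc
    refine ⟨s, ?_⟩
    ext i
    have := congrFun hsum i
    simp only [Pi.add_apply, Pi.smul_apply, smul_eq_mul, Pi.zero_apply] at this
    simp only [Pi.sub_apply, Pi.neg_apply, Pi.add_apply, Pi.smul_apply, smul_eq_mul]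
    linear_combination this
  · intro hno
    have hab : a = v + s • w := by
      by_contra hne
      exact hno ⟨_, ag3_tri hne⟩
    refine ⟨s, ?_⟩
    ext i
    have := congrFun hab i
    simp only [Pi.add_apply, Pi.smul_apply, smul_eq_mul] at this
    simp only [Pi.sub_apply, Pi.neg_apply, Pi.add_apply, Pi.smul_apply, smul_eq_mul]
    linear_combination (1 : ZMod 3) * this + (v i + s * w i) * h3

end Affine

section Dual

/-- Decidable form of collinearity in the dual affine plane of order two. -/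
def TriD (a b c : DualAffinePoint) : Prop :=
  c ≠ a ∧ c ≠ b ∧ a ≠ b ∧ ∃ k : Fin 4, k ∉ a.val ∧ k ∉ b.val ∧ k ∉ c.val

instance (a b c : DualAffinePoint) : Decidable (TriD a b c) := by unfold TriD; infer_instance

set_option maxRecDepth 100000 in
theorem da_core : ∀ a : DualAffinePoint, ∀ i : Fin 4, ∃ j : Fin 4, ∀ b : DualAffinePoint,
    i ∉ b.val → (∀ c : DualAffinePoint, TriD a b c → j ∉ c.val) ∧
      ((¬ ∃ c : DualAffinePoint, TriD a b c) → j ∉ b.val) := by
  decide +kernel

set_option maxRecDepth 100000 in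
set_option synthInstance.maxHeartbeats 400000 in
set_option synthInstance.maxSize 4096 in
theorem da_fill : ∀ (k : Fin 4) (a b c s : DualAffinePoint), c ≠ a → c ≠ b → a ≠ b →
    k ∉ a.val → k ∉ b.val → k ∉ c.val → k ∉ s.val → s = a ∨ s = b ∨ s = c := by
  decide +kernel

theorem tri_da_iff (a b c : DualAffinePoint) : Tri dualAffinePlaneTwo a b c ↔ TriD a b c := by
  constructor
  · rintro ⟨h1, h2, h3, k, hk⟩
    refine ⟨h1, h2, h3, k, ?_, ?_, ?_⟩
    · have : a ∈ ({a, b, c} : Set DualAffinePoint) := by simp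
      rw [hk] at this; exact this
    · have : b ∈ ({a, b, c} : Set DualAffinePoint) := by simp
      rw [hk] at this; exact this
    · have : c ∈ ({a, b, c} : Set DualAffinePoint) := by simp
      rw [hk] at this; exact this
  · rintro ⟨h1, h2, h3, k, ka, kb, kc⟩
    refine ⟨h1, h2, h3, k, ?_⟩
    ext s
    simp only [Set.mem_insert_iff, Set.mem_singleton_iff, Set.mem_ofPred_eq]
    constructor
    · rintro (rfl | rfl | rfl) <;> assumption
    · intro hs
      exact da_fill k a b c s h1 h2 h3 ka kb kc hs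

theorem good_da2 : Good dualAffinePlaneTwo := by
  intro a l hl
  obtain ⟨i, rfl⟩ := hl
  obtain ⟨j, hj⟩ := da_core a i
  refine ⟨{s | j ∉ s.val}, ⟨j, rfl⟩, ?_⟩
  intro b hb
  obtain ⟨h1, h2⟩ := hj b hb
  constructor
  · intro c hc
    exact h1 c ((tri_da_iff a b c).mp hc)
  · intro hno
    apply h2
    rintro ⟨c, hc⟩
    exact hno ⟨c, (tri_da_iff a b c).mpr hc⟩

end Dual

section Main

variable {X : Type*} {L : Set (Set X)}

theorem good_plane (hL : IsFischerSpace L) {l m : Set X} (hl : l ∈ L) (hm : m ∈ L) (hne : l ≠ m)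
    (hmeet : (l ∩ m).Nonempty) : Good (restrict L (span L (l ∪ m))) := by
  rcases hL.2.2 l hl m hm hne hmeet with ⟨e, he⟩ | ⟨e, he⟩
  · exact good_of_iso he good_da2
  · exact good_of_iso he good_ag3

theorem lineMap_maps_line (hL : IsFischerSpace L) (x : X) {l : Set X} (hl : l ∈ L) :
    ∃ l' ∈ L, ∀ b ∈ l, lineMap L x b ∈ l' := by
  have hPL := hL.1
  have h3 := hL.2.1
  by_cases hx : x ∈ l
  · refine ⟨l, hl, fun b hb => ?_⟩
    by_cases hbx : b = x
    · rw [hbx, lineMap_self]; exact hx
    · obtain ⟨z, hz, hlz⟩ := exists_tri_of_mem_mem h3 hl hx hb (fun h => hbx h.symm)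
      rw [lineMap_eq_of_tri hPL hz, hlz]
      simp
  · by_cases hcol : ∃ y ∈ l, ∃ z, Tri L x y z
    · obtain ⟨y, hy, z, hz⟩ := hcol
      have hm : ({x, y, z} : Set X) ∈ L := hz.2.2.2
      have hne : l ≠ ({x, y, z} : Set X) := by
        intro h
        apply hx
        rw [h]; simp
      have hmeet : (l ∩ ({x, y, z} : Set X)).Nonempty := ⟨y, hy, by simp⟩
      have hgood := good_plane hL hl hm hne hmeet
      have hxπ : x ∈ span L (l ∪ ({x, y, z} : Set X)) :=
        subset_span _ (Or.inr (by simp))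
      have hlπ : l ⊆ span L (l ∪ ({x, y, z} : Set X)) :=
        fun w hw => subset_span _ (Or.inl hw)
      obtain ⟨l', hl', h⟩ := good_restrict (span_isSubspace _) hgood hxπ hl hlπ
      refine ⟨l', hl', fun b hb => ?_⟩
      by_cases hb' : ∃ c, Tri L x b c
      · obtain ⟨c, hc⟩ := hb'
        rw [lineMap_eq_of_tri hPL hc]
        exact (h b hb).1 c hc
      · rw [lineMap_eq_self hb']
        exact (h b hb).2 hb'
    · refine ⟨l, hl, fun b hb => ?_⟩
      have : ¬ ∃ c, Tri L x b c := fun ⟨c, hc⟩ => hcol ⟨b, hb, c, hc⟩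
      rw [lineMap_eq_self this]
      exact hb

theorem image_line (hL : IsFischerSpace L) (x : X) {l : Set X} (hl : l ∈ L) :
    lineMap L x '' l ∈ L := by
  obtain ⟨l', hl', h⟩ := lineMap_maps_line hL x hl
  have hsub : lineMap L x '' l ⊆ l' := by
    rintro w ⟨b, hb, rfl⟩
    exact h b hb
  have hcard : (lineMap L x '' l).ncard = 3 := by
    rw [Set.ncard_image_of_injective _ (lineMap_involutive hL.1 x).injective]
    exact hL.2.1 l hl
  have hl'3 := hL.2.1 l' hl'
  have hfin : l'.Finite := Set.finite_of_ncard_ne_zero (by rw [hl'3]; norm_num)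
  have := Set.eq_of_subset_of_ncard_le hsub (by rw [hcard, hl'3]) hfin
  rw [this]; exact hl'

/-- The permutation `t(x)`. -/
noncomputable def pointPerm (hL : IsFischerSpace L) (x : X) : Equiv.Perm X :=
  (lineMap_involutive hL.1 x).toPerm _

theorem pointPerm_apply (hL : IsFischerSpace L) (x y : X) :
    pointPerm hL x y = lineMap L x y := rfl

theorem pointPerm_mul_self (hL : IsFischerSpace L) (x : X) : pointPerm hL x * pointPerm hL x = 1 := by
  ext y
  simp only [Equiv.Perm.mul_apply, Equiv.Perm.one_apply, pointPerm_apply]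
  exact lineMap_involutive hL.1 x y

theorem isIso_pointPerm (hL : IsFischerSpace L) (x : X) : IsIso L L (pointPerm hL x) := by
  intro l
  constructor
  · intro hl
    exact image_line hL x hl
  · intro hl
    have h := image_line hL x hl
    have e : lineMap L x '' (⇑(pointPerm hL x) '' l) = l := by
      rw [← Set.image_comp]
      have : lineMap L x ∘ ⇑(pointPerm hL x) = id := by
        funext y
        exact lineMap_involutive hL.1 x y
      rw [this, Set.image_id]
    rwa [e] at h

/-- Automorphisms commute with the point maps. -/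
theorem lineMap_conj (hPL : IsPartialLinear L) (g : Equiv.Perm X) (hg : IsIso L L g) (x y : X) :
    lineMap L (g x) (g y) = g (lineMap L x y) := by
  by_cases h : ∃ z, Tri L x y z
  · obtain ⟨z, hz⟩ := h
    rw [lineMap_eq_of_tri hPL hz, lineMap_eq_of_tri hPL ((tri_iso hg x y z).mp hz)]
  · rw [lineMap_eq_self h, lineMap_eq_self]
    rintro ⟨c, hc⟩
    apply h
    refine ⟨g.symm c, ?_⟩
    rw [tri_iso hg]
    simpa using hc

theorem pointPerm_conj (hL : IsFischerSpace L) (x y : X) :
    pointPerm hL x * pointPerm hL y * pointPerm hL x = pointPerm hL (lineMap L x y) := by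
  ext w
  simp only [Equiv.Perm.mul_apply, pointPerm_apply]
  have h := lineMap_conj hL.1 (pointPerm hL x) (isIso_pointPerm hL x) y (lineMap L x w)
  simp only [pointPerm_apply] at h
  rw [lineMap_involutive hL.1 x w] at h
  exact h.symm

theorem pointPerm_ne_one (hL : IsFischerSpace L) (hnd : IsNondegenerate L) (x : X) :
    pointPerm hL x ≠ 1 := by
  obtain ⟨l, hl, hx⟩ := hnd x
  obtain ⟨y, z, ht, -⟩ := exists_tri_of_mem hL.2.1 hl hx
  intro h
  have := congrArg (fun σ : Equiv.Perm X => σ y) h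
  simp only [pointPerm_apply, Equiv.Perm.one_apply] at this
  rw [lineMap_eq_of_tri hL.1 ht] at this
  exact ht.2.1 this

theorem orderOf_pointPerm (hL : IsFischerSpace L) (hnd : IsNondegenerate L) (x : X) :
    orderOf (pointPerm hL x) = 2 := by
  haveI : Fact (Nat.Prime 2) := ⟨Nat.prime_two⟩
  apply orderOf_eq_prime
  · rw [pow_two]; exact pointPerm_mul_self hL x
  · exact pointPerm_ne_one hL hnd x

theorem pointPerm_prod (hL : IsFischerSpace L) (x y : X) :
    (pointPerm hL x * pointPerm hL y) ^ 2 = 1 ∨ (pointPerm hL x * pointPerm hL y) ^ 3 = 1 := by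
  by_cases h : ∃ z, Tri L x y z
  · right
    obtain ⟨z, hz⟩ := h
    have h1 := pointPerm_conj hL x y
    rw [lineMap_eq_of_tri hL.1 hz] at h1
    have h2 := pointPerm_conj hL y x
    rw [lineMap_eq_of_tri hL.1 (tri_comm hz)] at h2
    calc (pointPerm hL x * pointPerm hL y) ^ 3
        = (pointPerm hL x * pointPerm hL y * pointPerm hL x) *
            (pointPerm hL y * pointPerm hL x * pointPerm hL y) := by
          rw [pow_succ, pow_two]; simp only [mul_assoc]
      _ = 1 := by rw [h1, h2, pointPerm_mul_self]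
  · left
    have h1 := pointPerm_conj hL x y
    rw [lineMap_eq_self h] at h1
    calc (pointPerm hL x * pointPerm hL y) ^ 2
        = (pointPerm hL x * pointPerm hL y * pointPerm hL x) * pointPerm hL y := by
          rw [pow_two]; simp only [mul_assoc]
      _ = 1 := by rw [h1, pointPerm_mul_self]

end Main

end Cfsg.Agent.Helper4.FischerSpace
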