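import Mathlib

set_option autoImplicit false
set_option linter.style.haveILetI false
set_option linter.unusedSectionVars false

namespace Cfsg.Agent.Helper4

open MulAction

/-- For a `p`-group acting on a finite set, an invariant subset has cardinality congruent
modulo `p` to the number of its fixed points. -/
theorem ncard_modEq_ncard_inter_fixedPoints {P α : Type*} [Group P] [MulAction P α] [Finite α]
    {p : ℕ} [Fact p.Prime] (hP : IsPGroup p P) (O : Set α)
    (hO : ∀ (g : P), ∀ x ∈ O, g • x ∈ O) :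
    O.ncard ≡ (O ∩ fixedPoints P α).ncard [MOD p] := by
  classical
  let S : SubMulAction P α := { carrier := O, smul_mem' := fun g x hx => hO g x hx }
  have h1 := hP.card_modEq_card_fixedPoints (↥S)
  have e1 : Nat.card ↥S = O.ncard := Nat.card_coe_set_eq O
  have e2 : Nat.card (fixedPoints P ↥S) = (O ∩ fixedPoints P α).ncard := by
    rw [← Nat.card_coe_set_eq]
    apply Nat.card_congr
    refine ⟨fun x => ⟨x.1.1, x.1.2, fun g => ?_⟩, fun x => ⟨⟨x.1, x.2.1⟩, fun g => ?_⟩,
      fun x => rfl, fun x => rfl⟩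
    · have := x.2 g
      exact congrArg Subtype.val this
    · apply Subtype.ext
      exact x.2.2 g
  rw [e1, e2] at h1
  exact h1

/-- Gleason's lemma relative to a pointwise fixed set `T`. -/
theorem gleason_rel {G α : Type*} [Group G] [MulAction G α] [Finite α]
    {p : ℕ} [Fact p.Prime] (T : Set α)
    (hP : ∀ x : α, x ∉ T → ∃ P : Subgroup G, IsPGroup p P ∧ fixedPoints P α = insert x T)
    (u v : α) (hu : u ∉ T) (hv : v ∉ T) :
    ∃ g : G, (∀ x ∈ T, g • x = x) ∧ g • u = v := by
  classical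
  by_contra hcon
  set O : Set α := {w | ∃ g : G, (∀ x ∈ T, g • x = x) ∧ g • u = w} with hOdef
  have huO : u ∈ O := ⟨1, fun x _ => one_smul _ x, one_smul _ u⟩
  have hvO : v ∉ O := fun h => hcon h
  have hOT : ∀ w ∈ O, w ∉ T := by
    rintro w ⟨g, hgT, rfl⟩ hw
    apply hu
    have h1 : g • (g • u) = g • u := hgT _ hw
    have h2 : g • u = u := smul_left_cancel g h1
    rwa [h2] at hw
  have hinv : ∀ (P : Subgroup G) (x : α), fixedPoints P α = insert x T →
      ∀ (g : P), ∀ w ∈ O, g • w ∈ O := by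
    rintro P x hfix g w ⟨g', hg'T, rfl⟩
    refine ⟨g.1 * g', fun y hy => ?_, by rw [mul_smul]; rfl⟩
    rw [mul_smul, hg'T y hy]
    have : y ∈ fixedPoints P α := by rw [hfix]; exact Set.mem_insert_of_mem _ hy
    exact this g
  obtain ⟨Pu, hPu, hfu⟩ := hP u hu
  obtain ⟨Pv, hPv, hfv⟩ := hP v hv
  have h1 := ncard_modEq_ncard_inter_fixedPoints hPu O (hinv Pu u hfu)
  have h2 := ncard_modEq_ncard_inter_fixedPoints hPv O (hinv Pv v hfv)
  have e1 : O ∩ fixedPoints Pu α = {u} := by
    rw [hfu]
    ext w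
    simp only [Set.mem_inter_iff, Set.mem_insert_iff, Set.mem_singleton_iff]
    constructor
    · rintro ⟨hwO, hw | hw⟩
      · exact hw
      · exact absurd hw (hOT w hwO)
    · rintro rfl
      exact ⟨huO, Or.inl rfl⟩
  have e2 : O ∩ fixedPoints Pv α = ∅ := by
    rw [hfv]
    ext w
    simp only [Set.mem_inter_iff, Set.mem_insert_iff, Set.mem_empty_iff_false, iff_false, not_and,
      not_or]
    intro hwO
    exact ⟨fun e => hvO (e ▸ hwO), hOT w hwO⟩
  rw [e1, Set.ncard_singleton] at h1
  rw [e2, Set.ncard_empty] at h2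
  have h3 : 1 ≡ 0 [MOD p] := h1.symm.trans h2
  have hp : p.Prime := Fact.out
  rw [Nat.modEq_zero_iff_dvd] at h3
  exact hp.one_lt.ne' (Nat.dvd_one.mp h3)

end Cfsg.Agent.Helper4
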