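import Cfsg.Agent.Helper27.GolayInvariant

set_option autoImplicit false

namespace Cfsg.Agent.Helper4.Gol19

open Cfsg Cfsg.Agent.Helper27
open scoped Pointwise

/-- dot product of binary words -/
def dot (w a : GolayPt → ZMod 2) : ZMod 2 := ∑ i, w i * a i

theorem dot_add_left (v w a : GolayPt → ZMod 2) : dot (v + w) a = dot v a + dot w a := by
  simp only [dot, Pi.add_apply, add_mul, Finset.sum_add_distrib]

theorem dot_add_right (w a b : GolayPt → ZMod 2) : dot w (a + b) = dot w a + dot w b := by
  simp only [dot, Pi.add_apply, mul_add, Finset.sum_add_distrib]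

theorem dot_zero_right (w : GolayPt → ZMod 2) : dot w 0 = 0 := by
  simp [dot]

theorem dot_one_left (a : GolayPt → ZMod 2) : dot 1 a = ((support₂ a).card : ZMod 2) := by
  rw [← sum_eq_card]
  simp [dot]

theorem dot_ind (w : GolayPt → ZMod 2) (s : Finset GolayPt) : dot w (ind s) = ∑ i ∈ s, w i := by
  simp only [dot, ind, mul_ite, mul_one, mul_zero]
  rw [Finset.sum_ite_mem, Finset.univ_inter]

theorem dot_actW (σ : Equiv.Perm GolayPt) (w a : GolayPt → ZMod 2) : dot (actW σ w) (actW σ a) = dot w a := by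
  simp only [dot, actW]
  exact Equiv.sum_comp σ.symm (fun i => w i * a i)

theorem add_eq_zero_iff_eq2 {x y : ZMod 2} : x + y = 0 ↔ x = y := by
  revert x y; decide

theorem ind_support₂ (w : GolayPt → ZMod 2) : ind (support₂ w) = w :=
  support₂_injective (support₂_ind _)

theorem support₂_zero : support₂ (0 : GolayPt → ZMod 2) = ∅ := by
  simp [support₂]

theorem support₂_actW (σ : Equiv.Perm GolayPt) (w : GolayPt → ZMod 2) : support₂ (actW σ w) = σ • support₂ w :=
  (smul_support₂ σ w).symm

theorem card_support₂_actW (σ : Equiv.Perm GolayPt) (w : GolayPt → ZMod 2) :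
    (support₂ (actW σ w)).card = (support₂ w).card := by
  rw [support₂_actW, Finset.card_smul_finset]

/-! ### functionals on the code -/

theorem exists_vec (g : ↥golayCode →ₗ[ZMod 2] ZMod 2) :
    ∃ a : GolayPt → ZMod 2, ∀ c : golayCode, g c = dot c.1 a := by
  obtain ⟨g', hg'⟩ := LinearMap.exists_extend g
  refine ⟨fun i => g' (fun j => if i = j then 1 else 0), fun c => ?_⟩
  have h : g c = g' c.1 := by rw [← hg']; rfl
  rw [h, LinearMap.pi_apply_eq_sum_univ g' c.1]
  simp only [dot, smul_eq_mul]

theorem exists_light (g : ↥golayCode →ₗ[ZMod 2] ZMod 2) :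
    ∃ e : GolayPt → ZMod 2, (support₂ e).card ≤ 4 ∧ ∀ c : golayCode, g c = dot c.1 e := by
  obtain ⟨a, ha⟩ := exists_vec g
  by_cases hmem : a ∈ golayCode
  · refine ⟨0, by simp [support₂_zero], fun c => ?_⟩
    rw [ha, dot_zero_right]
    exact golay_orth c.2 hmem
  · obtain ⟨e, he, -, h4⟩ := exists_light_rep hmem
    refine ⟨e, h4, fun c => ?_⟩
    have h := golay_orth c.2 he
    change dot c.1 (a + e) = 0 at h
    rw [dot_add_right, add_eq_zero_iff_eq2] at h
    rw [ha, h]

end Cfsg.Agent.Helper4.Gol19
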