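import Cfsg.Agent.Helper4.Gol19A

set_option autoImplicit false

namespace Cfsg.Agent.Helper4.Gol19

open Cfsg Cfsg.Agent.Helper27
open scoped Pointwise

/-! ### the dual of the code -/

theorem natCast_zmod2_eq_zero_iff (n : ℕ) : ((n : ZMod 2) = 0) ↔ n % 2 = 0 := by
  rw [ZMod.natCast_eq_zero_iff, Nat.dvd_iff_mod_eq_zero]

theorem dot_decW' (a b : ℕ) : dot (decW a) (decW b) = (popc 24 (a &&& b) : ZMod 2) := dot_decW a b

theorem light_orth {e : GolayPt → ZMod 2} (h : ∀ c ∈ golayCode, dot c e = 0) (h4 : (support₂ e).card ≤ 4) :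
    e = 0 := by
  by_contra hne
  have h0 : (support₂ e).card ≠ 0 := by
    intro h0
    apply hne
    apply support₂_injective
    rw [support₂_zero]
    exact Finset.card_eq_zero.mp h0
  obtain ⟨j, hj⟩ : ∃ j, (support₂ e).card = j := ⟨_, rfl⟩
  have hj1 : 1 ≤ j := by omega
  have hj4 : j ≤ 4 := by omega
  have hcard : (support₂ (decW (2 ^ j - 1))).card = j := by
    rw [card_support_decW]
    interval_cases j <;> decide
  obtain ⟨σ, hσ, hs⟩ := exists_M24_smul_finset (j := j) (by omega) hj hcard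
  have hact : actW σ e = decW (2 ^ j - 1) := actW_eq_of_smul_support hs
  have hc : actW σ⁻¹ (decW (cw 1)) ∈ golayCode := actW_mem (M24.inv_mem hσ) (decW_cw_mem 1)
  have h1 := h _ hc
  rw [← dot_actW σ, ← actW_mul, mul_inv_cancel, actW_one, hact, dot_decW', natCast_zmod2_eq_zero_iff] at h1
  revert h1
  interval_cases j <;> decide

theorem orth_mem {a : GolayPt → ZMod 2} (h : ∀ c ∈ golayCode, dot c a = 0) : a ∈ golayCode := by
  by_contra hmem
  obtain ⟨e, he, h1, h4⟩ := exists_light_rep hmem
  have he0 : e = 0 := by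
    apply light_orth _ h4
    intro c hc
    have h2 : dot c (a + e) = 0 := golay_orth hc he
    rw [dot_add_right, h c hc, zero_add] at h2
    exact h2
  rw [he0, support₂_zero, Finset.card_empty] at h1
  omega

theorem orth_zero {a : GolayPt → ZMod 2} (h : ∀ c ∈ golayCode, dot c a = 0) (h8 : (support₂ a).card < 8) :
    a = 0 :=
  golay_eq_zero_of_weight_lt (orth_mem h) h8

end Cfsg.Agent.Helper4.Gol19
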