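import Cfsg.Agent.Helper4.Gol19B

set_option autoImplicit false

namespace Cfsg.Agent.Helper4.Gol19

open Cfsg Cfsg.Agent.Helper27
open scoped Pointwise

/-! ### counting octads and their complements killed by a functional -/

/-- codewords of weight 8 or 16 orthogonal to `a` -/
def NSet (a : GolayPt → ZMod 2) : Set (GolayPt → ZMod 2) :=
  {w | w ∈ golayCode ∧ ((support₂ w).card = 8 ∨ (support₂ w).card = 16) ∧ dot w a = 0}

theorem actW_injective (σ : Equiv.Perm GolayPt) : Function.Injective (actW σ) := by
  intro v w h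
  have := congrArg (actW σ⁻¹) h
  rwa [← actW_mul, ← actW_mul, inv_mul_cancel, actW_one, actW_one] at this

theorem ncard_NSet_actW {σ : Equiv.Perm GolayPt} (hσ : σ ∈ M24) (a : GolayPt → ZMod 2) :
    (NSet (actW σ a)).ncard = (NSet a).ncard := by
  have hset : NSet (actW σ a) = actW σ '' NSet a := by
    ext w
    constructor
    · rintro ⟨hw, hc, hd⟩
      refine ⟨actW σ⁻¹ w, ⟨actW_mem (M24.inv_mem hσ) hw, ?_, ?_⟩, ?_⟩
      · rw [card_support₂_actW]; exact hc
      · rw [← dot_actW σ, ← actW_mul, mul_inv_cancel, actW_one]; exact hd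
      · rw [← actW_mul, mul_inv_cancel, actW_one]
    · rintro ⟨v, ⟨hv, hc, hd⟩, rfl⟩
      refine ⟨actW_mem hσ hv, ?_, ?_⟩
      · rw [card_support₂_actW]; exact hc
      · rw [dot_actW]; exact hd
  rw [hset, Set.ncard_image_of_injective _ (actW_injective σ)]

/-- the Boolean test on the information bits -/
def cntP (m : ℕ) (k : ℕ) : Bool :=
  (popc 24 (cw k) == 8 || popc 24 (cw k) == 16) && (popc 24 (cw k &&& m) % 2 == 0)

theorem ncard_NSet_decW (m : ℕ) : (NSet (decW m)).ncard = countBelow (cntP m) 4096 := by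
  have hset : NSet (decW m) = (fun k => decW (cw k)) ''
      (((Finset.range 4096).filter (fun k => cntP m k = true) : Finset ℕ) : Set ℕ) := by
    ext w
    simp only [NSet, Set.mem_ofPred_eq, Set.mem_image, Finset.coe_filter, Finset.mem_range, cntP,
      Bool.and_eq_true, Bool.or_eq_true, beq_iff_eq]
    constructor
    · rintro ⟨hw, hc, hd⟩
      obtain ⟨k, hk, rfl⟩ := (mem_golayCode_iff w).mp hw
      rw [card_support_decW] at hc
      rw [dot_decW', natCast_zmod2_eq_zero_iff] at hd
      exact ⟨k, ⟨hk, hc, hd⟩, rfl⟩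
    · rintro ⟨k, ⟨hk, hc, hd⟩, rfl⟩
      refine ⟨decW_cw_mem k, ?_, ?_⟩
      · rw [card_support_decW]; exact hc
      · rw [dot_decW', natCast_zmod2_eq_zero_iff]; exact hd
  rw [hset, Set.InjOn.ncard_image, Set.ncard_coe_finset, countBelow_spec]
  intro k hk k' hk' h
  simp only [Finset.coe_filter, Finset.mem_range, Set.mem_ofPred_eq] at hk hk'
  exact decW_cw_injOn hk.1 hk'.1 h

theorem count_two : countBelow (cntP 3) 4096 = 814 := by decide +kernel

theorem count_four : countBelow (cntP 15) 4096 = 750 := by decide +kernel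

theorem ncard_NSet_two {a : GolayPt → ZMod 2} (h : (support₂ a).card = 2) : (NSet a).ncard = 814 := by
  have hcard : (support₂ (decW 3)).card = 2 := by rw [card_support_decW]; decide
  obtain ⟨σ, hσ, hs⟩ := exists_M24_smul_finset (j := 2) (by omega) h hcard
  have hact : actW σ a = decW 3 := actW_eq_of_smul_support hs
  rw [← ncard_NSet_actW hσ, hact, ncard_NSet_decW, count_two]

theorem ncard_NSet_four {a : GolayPt → ZMod 2} (h : (support₂ a).card = 4) : (NSet a).ncard = 750 := by
  have hcard : (support₂ (decW 15)).card = 4 := by rw [card_support_decW]; decide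
  obtain ⟨σ, hσ, hs⟩ := exists_M24_smul_finset (j := 4) (by omega) h hcard
  have hact : actW σ a = decW 15 := actW_eq_of_smul_support hs
  rw [← ncard_NSet_actW hσ, hact, ncard_NSet_decW, count_four]

end Cfsg.Agent.Helper4.Gol19
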