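import Cfsg.Agent.Helper4.Gol19C

set_option autoImplicit false

namespace Cfsg.Agent.Helper4.Gol19

open Cfsg Cfsg.Agent.Helper27
open scoped Pointwise

/-! ### linear maps of the code preserving weights up to complement -/

/-- the weight of the image is the weight or its complement -/
def WtOK (x : ↥golayCode ≃ₗ[ZMod 2] ↥golayCode) : Prop :=
  ∀ c : golayCode, (support₂ (x c).1).card = (support₂ c.1).card ∨
    (support₂ (x c).1).card = 24 - (support₂ c.1).card

/-- the functional `dot · b` pulls back along `x` to `dot · a` -/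
def Rel (x : ↥golayCode ≃ₗ[ZMod 2] ↥golayCode) (a b : GolayPt → ZMod 2) : Prop :=
  ∀ c : golayCode, dot (x c).1 b = dot c.1 a

/-- the functional `dot · a` -/
def dotL (a : GolayPt → ZMod 2) : (GolayPt → ZMod 2) →ₗ[ZMod 2] ZMod 2 where
  toFun w := dot w a
  map_add' v w := dot_add_left v w a
  map_smul' r w := by
    simp only [dot, Pi.smul_apply, smul_eq_mul, RingHom.id_apply, Finset.mul_sum, mul_assoc]

variable {x : ↥golayCode ≃ₗ[ZMod 2] ↥golayCode}

theorem ncard_NSet_of_rel (hx : WtOK x) (hx' : WtOK x.symm) {a b : GolayPt → ZMod 2} (hab : Rel x a b) :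
    (NSet b).ncard = (NSet a).ncard := by
  symm
  refine Set.ncard_congr (fun w hw => (x ⟨w, hw.1⟩).1) ?_ ?_ ?_
  · rintro w ⟨hw, hc, hd⟩
    refine ⟨(x ⟨w, hw⟩).2, ?_, ?_⟩
    · have := hx ⟨w, hw⟩
      simp only at this
      omega
    · rw [hab ⟨w, hw⟩]; exact hd
  · intro v w hv hw h
    have := x.injective (Subtype.ext h)
    exact congrArg Subtype.val this
  · rintro w ⟨hw, hc, hd⟩
    refine ⟨(x.symm ⟨w, hw⟩).1, ⟨(x.symm ⟨w, hw⟩).2, ?_, ?_⟩, ?_⟩
    · have := hx' ⟨w, hw⟩
      simp only at this
      omega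
    · have := hab (x.symm ⟨w, hw⟩)
      rw [LinearEquiv.apply_symm_apply] at this
      rw [← this]; exact hd
    · simp

theorem Rel.add {a b a' b' : GolayPt → ZMod 2} (h : Rel x a b) (h' : Rel x a' b') : Rel x (a + a') (b + b') := by
  intro c
  rw [dot_add_right, dot_add_right, h c, h' c]

theorem card_support₂_add_le (a b : GolayPt → ZMod 2) :
    (support₂ (a + b)).card ≤ (support₂ a).card + (support₂ b).card := by
  refine le_trans (Finset.card_le_card ?_) (Finset.card_union_le _ _)
  intro p hp
  simp only [support₂, Finset.mem_filter, Finset.mem_univ, true_and, Finset.mem_union, Pi.add_apply] at hp ⊢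
  by_contra hcon
  push Not at hcon
  rw [hcon.1, hcon.2, add_zero] at hp
  exact hp rfl

theorem add_self_eq_zero2 (a : GolayPt → ZMod 2) : a + a = 0 := add_self_word a

theorem eq_of_add_eq_zero2 {a b : GolayPt → ZMod 2} (h : a + b = 0) : a = b := by
  have h1 : a + b + b = 0 + b := by rw [h]
  rwa [add_add_self, zero_add] at h1

theorem Rel.right_unique {a b b' : GolayPt → ZMod 2} (h : Rel x a b) (h' : Rel x a b')
    (h8 : (support₂ b).card + (support₂ b').card < 8) : b = b' := by
  apply eq_of_add_eq_zero2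
  apply orth_zero _ (lt_of_le_of_lt (card_support₂_add_le b b') h8)
  intro c hc
  have h1 := h (x.symm ⟨c, hc⟩)
  have h2 := h' (x.symm ⟨c, hc⟩)
  rw [LinearEquiv.apply_symm_apply] at h1 h2
  rw [dot_add_right, h1, h2, add_eq_zero_iff_eq2]

theorem Rel.left_unique {a a' b : GolayPt → ZMod 2} (h : Rel x a b) (h' : Rel x a' b)
    (h8 : (support₂ a).card + (support₂ a').card < 8) : a = a' := by
  apply eq_of_add_eq_zero2
  apply orth_zero _ (lt_of_le_of_lt (card_support₂_add_le a a') h8)
  intro c hc
  have h1 := h ⟨c, hc⟩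
  have h2 := h' ⟨c, hc⟩
  rw [dot_add_right, ← h1, ← h2, add_eq_zero_iff_eq2]

/-- the image of a pair is a pair -/
theorem exists_image_pair (hx : WtOK x) (hx' : WtOK x.symm)
    (h1 : (x ⟨1, one_mem_golay⟩).1 = 1) {a : GolayPt → ZMod 2} (ha : (support₂ a).card = 2) :
    ∃ b : GolayPt → ZMod 2, (support₂ b).card = 2 ∧ Rel x a b := by
  obtain ⟨e, he4, he⟩ := exists_light ((dotL a).comp (golayCode.subtype.comp x.symm.toLinearMap))
  have hrel : Rel x a e := by
    intro c
    have := he (x c)
    simp only [LinearMap.coe_comp, LinearEquiv.coe_coe, Function.comp_apply, LinearEquiv.symm_apply_apply,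
      Submodule.subtype_apply] at this
    rw [← this]
    rfl
  refine ⟨e, ?_, hrel⟩
  -- `e` is not zero
  have hne : (support₂ e).card ≠ 0 := by
    intro h0
    have he0 : e = 0 := by
      apply support₂_injective
      rw [support₂_zero]
      exact Finset.card_eq_zero.mp h0
    have ha0 : a = 0 := by
      apply orth_zero _ (by omega)
      intro c hc
      rw [← hrel ⟨c, hc⟩, he0, dot_zero_right]
    rw [ha0, support₂_zero, Finset.card_empty] at ha
    omega
  -- the weight is even
  have heven : (support₂ e).card % 2 = 0 := by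
    have := hrel ⟨1, one_mem_golay⟩
    rw [h1, dot_one_left, dot_one_left, ha] at this
    rw [← natCast_zmod2_eq_zero_iff, this]
    rfl
  -- the weight is not four
  have hne4 : (support₂ e).card ≠ 4 := by
    intro h4
    have := ncard_NSet_of_rel hx hx' hrel
    rw [ncard_NSet_two ha, ncard_NSet_four h4] at this
    omega
  omega

end Cfsg.Agent.Helper4.Gol19
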