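import Cfsg.Agent.Helper4.Gol19D

set_option autoImplicit false

namespace Cfsg.Agent.Helper4.Gol19

open Cfsg Cfsg.Agent.Helper27
open scoped Pointwise

/-! ### combinatorics of pairs -/

section Comb

variable {α : Type*} [DecidableEq α]

theorem card_inter_of_symmDiff {S T : Finset α} (hS : S.card = 2) (hT : T.card = 2)
    (h : (symmDiff S T).card = 2) : (S ∩ T).card = 1 := by
  have h1 : symmDiff S T = (S \ T) ∪ (T \ S) := by
    rw [symmDiff_def]; rfl
  have h2 : Disjoint (S \ T) (T \ S) := disjoint_sdiff_sdiff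
  rw [h1, Finset.card_union_of_disjoint h2] at h
  have h3 := Finset.card_sdiff_add_card_inter S T
  have h4 := Finset.card_sdiff_add_card_inter T S
  rw [Finset.inter_comm T S] at h4
  omega

theorem symmDiff_pair_pair {a b c : α} (hab : a ≠ b) (hac : a ≠ c) (hbc : b ≠ c) :
    symmDiff ({a, b} : Finset α) {a, c} = {b, c} := by
  ext y
  simp only [Finset.mem_symmDiff, Finset.mem_insert, Finset.mem_singleton]
  by_cases h1 : y = a <;> by_cases h2 : y = b <;> by_cases h3 : y = c <;> simp_all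

theorem eq_pair_of_mem {S : Finset α} (hS : S.card = 2) {a b : α} (ha : a ∈ S) (hb : b ∈ S) (hab : a ≠ b) :
    S = {a, b} := by
  symm
  apply Finset.eq_of_subset_of_card_le
  · intro y hy
    simp only [Finset.mem_insert, Finset.mem_singleton] at hy
    rcases hy with rfl | rfl <;> assumption
  · rw [hS, Finset.card_pair hab]

theorem eq_symmDiff_of_triangle {S T U : Finset α} {a : α} (hS : S.card = 2) (hT : T.card = 2) (hU : U.card = 2)
    (hST : S ∩ T = {a}) (haU : a ∉ U) (hSU : (S ∩ U).card = 1) (hTU : (T ∩ U).card = 1) :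
    U = symmDiff S T := by
  obtain ⟨b, hb⟩ := Finset.card_eq_one.mp hSU
  obtain ⟨c, hc⟩ := Finset.card_eq_one.mp hTU
  have hbm : b ∈ S ∩ U := by rw [hb]; exact Finset.mem_singleton_self b
  have hcm : c ∈ T ∩ U := by rw [hc]; exact Finset.mem_singleton_self c
  have ham : a ∈ S ∩ T := by rw [hST]; exact Finset.mem_singleton_self a
  rw [Finset.mem_inter] at hbm hcm ham
  have hba : a ≠ b := fun h => haU (h ▸ hbm.2)
  have hca : a ≠ c := fun h => haU (h ▸ hcm.2)
  have hbc : b ≠ c := by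
    intro h
    have : b ∈ S ∩ T := Finset.mem_inter.mpr ⟨hbm.1, h ▸ hcm.1⟩
    rw [hST, Finset.mem_singleton] at this
    exact hba this.symm
  rw [eq_pair_of_mem hS ham.1 hbm.1 hba, eq_pair_of_mem hT ham.2 hcm.1 hca,
    eq_pair_of_mem hU hbm.2 hcm.2 hbc, symmDiff_pair_pair hba hca hbc]

end Comb

theorem symmDiff_pairs {p q r : GolayPt} (hpq : p ≠ q) (hqr : q ≠ r) (hpr : p ≠ r) :
    symmDiff ({p, q} : Finset GolayPt) {q, r} = {p, r} := by
  rw [Finset.pair_comm p q]
  exact symmDiff_pair_pair hpq.symm hqr hpr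

theorem exists_third (p q : GolayPt) : ∃ r : GolayPt, r ≠ p ∧ r ≠ q := by
  revert p q; decide

variable {x : ↥golayCode ≃ₗ[ZMod 2] ↥golayCode}

theorem exists_tau (hx : WtOK x) (hx' : WtOK x.symm) (h1 : (x ⟨1, one_mem_golay⟩).1 = 1) :
    ∃ τ : GolayPt → GolayPt → Finset GolayPt, ∀ p q, p ≠ q →
      (τ p q).card = 2 ∧ Rel x (ind {p, q}) (ind (τ p q)) := by
  have : ∀ p q : GolayPt, ∃ t : Finset GolayPt, p ≠ q → t.card = 2 ∧ Rel x (ind {p, q}) (ind t) := by
    intro p q
    by_cases h : p = q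
    · exact ⟨∅, fun h' => absurd h h'⟩
    · have hc : (support₂ (ind {p, q})).card = 2 := by rw [support₂_ind, Finset.card_pair h]
      obtain ⟨b, hb2, hb⟩ := exists_image_pair hx hx' h1 hc
      exact ⟨support₂ b, fun _ => ⟨hb2, by rw [ind_support₂]; exact hb⟩⟩
  choose τ hτ using this
  exact ⟨τ, hτ⟩

theorem ind_injective : Function.Injective ind := by
  intro s t h
  rw [← support₂_ind s, h, support₂_ind]

section Tau

variable {τ : GolayPt → GolayPt → Finset GolayPt}
  (hτ : ∀ p q, p ≠ q → (τ p q).card = 2 ∧ Rel x (ind {p, q}) (ind (τ p q)))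

include hτ

theorem tau_symm {p q : GolayPt} (h : p ≠ q) : τ p q = τ q p := by
  apply ind_injective
  have h1 := (hτ p q h).2
  have h2 := (hτ q p h.symm).2
  rw [Finset.pair_comm q p] at h2
  apply h1.right_unique h2
  rw [support₂_ind, support₂_ind, (hτ p q h).1, (hτ q p h.symm).1]
  norm_num

theorem tau_inj {p q p' q' : GolayPt} (h : p ≠ q) (h' : p' ≠ q') (he : τ p q = τ p' q') :
    ({p, q} : Finset GolayPt) = {p', q'} := by
  apply ind_injective
  have h1 := (hτ p q h).2
  have h2 := (hτ p' q' h').2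
  rw [← he] at h2
  apply h1.left_unique h2
  rw [support₂_ind, support₂_ind, Finset.card_pair h, Finset.card_pair h']
  norm_num

theorem tau_add {p q r : GolayPt} (hpq : p ≠ q) (hqr : q ≠ r) (hpr : p ≠ r) :
    symmDiff (τ p q) (τ q r) = τ p r := by
  apply ind_injective
  have h1 := ((hτ p q hpq).2).add (hτ q r hqr).2
  rw [ind_add, ind_add, symmDiff_pairs hpq hqr hpr] at h1
  apply h1.right_unique (hτ p r hpr).2
  rw [support₂_ind, support₂_ind, (hτ p r hpr).1]
  have : (symmDiff (τ p q) (τ q r)).card ≤ 4 := by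
    refine le_trans (Finset.card_le_card (s := symmDiff (τ p q) (τ q r)) (t := τ p q ∪ τ q r) ?_) ?_
    · intro y hy
      rw [Finset.mem_symmDiff] at hy
      rw [Finset.mem_union]
      tauto
    · refine le_trans (Finset.card_union_le _ _) ?_
      rw [(hτ p q hpq).1, (hτ q r hqr).1]
  omega

theorem card_tau_inter {p q r : GolayPt} (hpq : p ≠ q) (hpr : p ≠ r) (hqr : q ≠ r) :
    (τ p q ∩ τ p r).card = 1 := by
  apply card_inter_of_symmDiff (hτ p q hpq).1 (hτ p r hpr).1
  rw [tau_symm hτ hpq, tau_add hτ hpq.symm hpr hqr]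
  exact (hτ q r hqr).1

theorem star (p : GolayPt) : ∃ a, ∀ q, q ≠ p → a ∈ τ p q := by
  obtain ⟨q, hqp, -⟩ := exists_third p p
  obtain ⟨r, hrp, hrq⟩ := exists_third p q
  obtain ⟨a, ha⟩ := Finset.card_eq_one.mp (card_tau_inter hτ hqp.symm hrp.symm hrq.symm)
  have ham : a ∈ τ p q ∩ τ p r := by rw [ha]; exact Finset.mem_singleton_self a
  rw [Finset.mem_inter] at ham
  refine ⟨a, fun q' hq' => ?_⟩
  by_cases hq'q : q' = q
  · rw [hq'q]; exact ham.1
  by_cases hq'r : q' = r
  · rw [hq'r]; exact ham.2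
  by_contra haU
  have hU := eq_symmDiff_of_triangle (hτ p q hqp.symm).1 (hτ p r hrp.symm).1 (hτ p q' (Ne.symm hq')).1 ha haU
    (card_tau_inter hτ hqp.symm (Ne.symm hq') (Ne.symm hq'q))
    (card_tau_inter hτ hrp.symm (Ne.symm hq') (Ne.symm hq'r))
  rw [tau_symm hτ hqp.symm, tau_add hτ hqp hrp.symm hrq.symm] at hU
  have h2 := tau_inj hτ (Ne.symm hq') hrq.symm hU
  have : p ∈ ({q, r} : Finset GolayPt) := by rw [← h2]; simp
  simp only [Finset.mem_insert, Finset.mem_singleton] at this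
  rcases this with h | h
  · exact hqp h.symm
  · exact hrp h.symm

end Tau

end Cfsg.Agent.Helper4.Gol19
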