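import Cfsg.Agent.Helper4.Gol19E

set_option autoImplicit false

namespace Cfsg.Agent.Helper4.Gol19

open Cfsg Cfsg.Agent.Helper27
open scoped Pointwise

variable {x : ↥golayCode ≃ₗ[ZMod 2] ↥golayCode}

/-- a map of the points inducing the action on pairs -/
theorem exists_sigma (hx : WtOK x) (hx' : WtOK x.symm) (h1 : (x ⟨1, one_mem_golay⟩).1 = 1) :
    ∃ σ : GolayPt → GolayPt, Function.Injective σ ∧
      ∀ p q, p ≠ q → Rel x (ind {p, q}) (ind {σ p, σ q}) := by
  obtain ⟨τ, hτ⟩ := exists_tau hx hx' h1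
  choose σ hσ using star hτ
  have hne : ∀ p q, p ≠ q → σ p ≠ σ q := by
    intro p q hpq heq
    obtain ⟨r, hrp, hrq⟩ := exists_third p q
    have h2 := tau_add hτ hrp.symm hrq hpq
    have hp := hσ p r hrp
    have hq := hσ q r hrq
    rw [tau_symm hτ hrq.symm] at hq
    have hpq' := hσ p q hpq.symm
    rw [← h2, Finset.mem_symmDiff] at hpq'
    rw [← heq] at hq
    tauto
  refine ⟨σ, fun p q h => ?_, fun p q hpq => ?_⟩
  · by_contra hpq
    exact hne p q hpq h
  · have h3 : τ p q = {σ p, σ q} := by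
      apply eq_pair_of_mem (hτ p q hpq).1 (hσ p q hpq.symm) _ (hne p q hpq)
      rw [tau_symm hτ hpq]
      exact hσ q p hpq
    rw [← h3]
    exact (hτ p q hpq).2

theorem zmod2_cases (z : ZMod 2) : z = 0 ∨ z = 1 := by
  revert z; decide

theorem main (hx : WtOK x) (hx' : WtOK x.symm) (h1 : (x ⟨1, one_mem_golay⟩).1 = 1) :
    ∃ σ ∈ M24, ∀ c : golayCode, (x c).1 = actW σ c.1 ∨ (x c).1 = actW σ c.1 + fun _ => 1 := by
  obtain ⟨s, hs, hrel⟩ := exists_sigma hx hx' h1
  let σ : Equiv.Perm GolayPt := Equiv.ofBijective s (Finite.injective_iff_bijective.mp hs)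
  have hσ : ∀ p, σ p = s p := fun p => rfl
  -- the key relation
  have hkey : ∀ c : golayCode, ∀ p q, (x c).1 (σ p) + (x c).1 (σ q) = c.1 p + c.1 q := by
    intro c p q
    by_cases hpq : p = q
    · subst hpq
      rw [add_eq_zero_iff_eq2.mpr rfl, add_eq_zero_iff_eq2.mpr rfl]
    · have := hrel p q hpq c
      rw [dot_ind, dot_ind, Finset.sum_pair hpq, Finset.sum_pair (fun h => hpq (hs h))] at this
      exact this
  have hform : ∀ c : golayCode, ∃ k : ZMod 2, (x c).1 = actW σ c.1 + fun _ => k := by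
    intro c
    refine ⟨(x c).1 (σ none) + c.1 none, ?_⟩
    funext p'
    obtain ⟨p, rfl⟩ := σ.surjective p'
    have := hkey c p none
    simp only [Pi.add_apply, actW, Equiv.symm_apply_apply]
    generalize (x c).1 (σ p) = u at this ⊢
    generalize (x c).1 (σ none) = v at this ⊢
    generalize c.1 p = w at this ⊢
    generalize c.1 none = z at this ⊢
    revert u v w z
    decide
  have hmem : σ ∈ M24 := by
    rw [mem_M24_iff_symm]
    intro w hw
    obtain ⟨k, hk⟩ := hform ⟨w, hw⟩
    have h2 : actW σ w = (x ⟨w, hw⟩).1 + fun _ => k := by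
      rw [hk, add_add_self]
    show actW σ w ∈ golayCode
    rw [h2]
    apply golayCode.add_mem (x ⟨w, hw⟩).2
    rcases zmod2_cases k with rfl | rfl
    · exact golayCode.zero_mem
    · exact one_mem_golay
  refine ⟨σ, hmem, fun c => ?_⟩
  obtain ⟨k, hk⟩ := hform c
  rcases zmod2_cases k with rfl | rfl
  · left
    rw [hk]
    funext p
    simp
  · right
    exact hk

end Cfsg.Agent.Helper4.Gol19

namespace Cfsg.Agent.Helper4.Gol19

open Cfsg Cfsg.Agent.Helper27

theorem card_support₂_add_one (w : GolayPt → ZMod 2) :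
    (support₂ (w + fun _ => 1)).card = 24 - (support₂ w).card := by
  have h : support₂ (w + fun _ => 1) = (support₂ w)ᶜ := by
    ext p
    simp only [support₂, Finset.mem_filter, Finset.mem_univ, true_and, Pi.add_apply, Finset.mem_compl]
    generalize w p = z
    revert z
    decide
  rw [h, Finset.card_compl]
  have : Fintype.card GolayPt = 24 := by decide
  rw [this]

/-- the orbit condition gives the weight condition -/
theorem wtOK_of_orb {x : ↥golayCode ≃ₗ[ZMod 2] ↥golayCode}
    (horb : ∀ c : ↥golayCode, ∃ σ ∈ M24, ((x c : ↥golayCode) : (GolayPt → ZMod 2)) =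
        (fun p => (c : (GolayPt → ZMod 2)) (σ.symm p)) ∨
      ((x c : ↥golayCode) : (GolayPt → ZMod 2)) = (fun p => (c : (GolayPt → ZMod 2)) (σ.symm p)) + fun _ => (1 : ZMod 2)) :
    WtOK x := by
  intro c
  obtain ⟨σ, -, h | h⟩ := horb c
  · left
    rw [h]
    exact card_support₂_actW σ c.1
  · right
    rw [h, card_support₂_add_one]
    congr 1
    exact card_support₂_actW σ c.1

end Cfsg.Agent.Helper4.Gol19
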