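import Mathlib
import Cfsg.Agent.Helper4.Steiner22

/-!
# The point-block graph of S(3,6,22) is strongly regular (100,22,0,6)
-/

set_option autoImplicit false
set_option linter.unusedSectionVars false

namespace Cfsg.Agent.Helper4.Steiner22

open Finset Cfsg

section PB

variable {α : Type*} [Fintype α] {B : Set (Finset α)}

theorem natCard_option_sum_aux {β : Type*} [Finite β] (S : Set (Option (α ⊕ β))) (n : ℕ)
    (hn : (none ∈ S ∧ n = 1) ∨ (none ∉ S ∧ n = 0)) :
    Nat.card S = n + Nat.card {a : α // some (Sum.inl a) ∈ S} +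
      Nat.card {b : β // some (Sum.inr b) ∈ S} := by
  classical
  have := Fintype.ofFinite β
  rw [Nat.card_eq_fintype_card, Nat.card_eq_fintype_card, Nat.card_eq_fintype_card]
  rw [Fintype.card_subtype, Fintype.card_subtype, Fintype.card_subtype]
  rw [Finset.card_filter, Finset.card_filter, Finset.card_filter, Fintype.sum_option,
    Fintype.sum_sum_type, add_assoc]
  congr 1
  rcases hn with ⟨h1, rfl⟩ | ⟨h1, rfl⟩
  · rw [if_pos h1]
  · rw [if_neg h1]

theorem natCard_of_mem {β : Type*} [Finite β] (S : Set (Option (α ⊕ β))) (h : none ∈ S) :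
    Nat.card S = 1 + Nat.card {a : α // some (Sum.inl a) ∈ S} +
      Nat.card {b : β // some (Sum.inr b) ∈ S} :=
  natCard_option_sum_aux S 1 (Or.inl ⟨h, rfl⟩)

theorem natCard_of_not_mem {β : Type*} [Finite β] (S : Set (Option (α ⊕ β))) (h : none ∉ S) :
    Nat.card S = 0 + Nat.card {a : α // some (Sum.inl a) ∈ S} +
      Nat.card {b : β // some (Sum.inr b) ∈ S} :=
  natCard_option_sum_aux S 0 (Or.inr ⟨h, rfl⟩)

theorem natCard_subtype_B [Fintype B] [DecidableEq α] (P : Finset α → Prop) [DecidablePred P] :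
    Nat.card {d : B // P (d : Finset α)} = (B.toFinset.filter P).card := by
  have e1 : Nat.card {d : B // P (d : Finset α)} = Nat.card ↥{d : B | P (d : Finset α)} := rfl
  rw [e1]
  have : Fintype ↥{d : B | P (d : Finset α)} := Fintype.ofFinite _
  rw [Nat.card_eq_fintype_card]
  apply card_set_eq
  intro d
  simp only [mem_filter, Set.mem_toFinset, Set.mem_ofPred_eq]
  constructor
  · rintro ⟨h1, h2⟩
    exact ⟨h1, h2⟩
  · rintro ⟨h1, h2⟩
    exact ⟨h1, h2⟩

theorem natCard_subtype_mem [DecidableEq α] (b : Finset α) : Nat.card {a : α // a ∈ b} = b.card := by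
  rw [Nat.card_eq_fintype_card, Fintype.card_coe]

theorem pb_adj (u v : Option (α ⊕ B)) : (pointBlockGraph B).Adj u v ↔
    u ≠ v ∧ (pointBlockRel B u v ∨ pointBlockRel B v u) := by
  unfold pointBlockGraph
  rw [SimpleGraph.fromRel_adj]

@[simp] theorem adj_none_none : (pointBlockGraph B).Adj none none ↔ False := by
  simp

@[simp] theorem adj_none_pt (a : α) : (pointBlockGraph B).Adj none (some (Sum.inl a)) ↔ True := by
  simp [pb_adj, pointBlockRel]

@[simp] theorem adj_pt_none (a : α) : (pointBlockGraph B).Adj (some (Sum.inl a)) none ↔ True := by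
  simp [pb_adj, pointBlockRel]

@[simp] theorem adj_none_blk (b : B) : (pointBlockGraph B).Adj none (some (Sum.inr b)) ↔ False := by
  simp [pb_adj, pointBlockRel]

@[simp] theorem adj_blk_none (b : B) : (pointBlockGraph B).Adj (some (Sum.inr b)) none ↔ False := by
  simp [pb_adj, pointBlockRel]

@[simp] theorem adj_pt_pt (a a' : α) :
    (pointBlockGraph B).Adj (some (Sum.inl a)) (some (Sum.inl a')) ↔ False := by
  simp [pb_adj, pointBlockRel]

@[simp] theorem adj_pt_blk (a : α) (b : B) :
    (pointBlockGraph B).Adj (some (Sum.inl a)) (some (Sum.inr b)) ↔ a ∈ (b : Finset α) := by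
  simp [pb_adj, pointBlockRel]

@[simp] theorem adj_blk_pt (a : α) (b : B) :
    (pointBlockGraph B).Adj (some (Sum.inr b)) (some (Sum.inl a)) ↔ a ∈ (b : Finset α) := by
  simp [pb_adj, pointBlockRel]

@[simp] theorem adj_blk_blk (b c : B) :
    (pointBlockGraph B).Adj (some (Sum.inr b)) (some (Sum.inr c)) ↔
      (b : Finset α) ≠ c ∧ Disjoint (b : Finset α) (c : Finset α) := by
  simp only [pb_adj, pointBlockRel, ne_eq, Option.some.injEq, Sum.inr.injEq]
  constructor
  · rintro ⟨h1, h2 | h2⟩
    · exact ⟨fun e => h1 (Subtype.ext e), h2⟩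
    · exact ⟨fun e => h1 (Subtype.ext e), h2.symm⟩
  · rintro ⟨h1, h2⟩
    exact ⟨fun e => h1 (congrArg Subtype.val e), Or.inl h2⟩

end PB

section PB2

variable {α : Type*} [Fintype α] [DecidableEq α] {B : Set (Finset α)} [Fintype B]

theorem natCard_true : Nat.card {_a : α // True} = Fintype.card α := by
  rw [Nat.card_eq_fintype_card]
  exact Fintype.card_congr (Equiv.subtypeUnivEquiv (fun _ => trivial))

theorem natCard_false (β : Type*) : Nat.card {_b : β // False} = 0 := by
  have : IsEmpty {_b : β // False} := ⟨fun x => x.2⟩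
  exact Nat.card_of_isEmpty

theorem natCard_inter (b c : Finset α) : Nat.card {x : α // x ∈ b ∧ x ∈ c} = (b ∩ c).card := by
  rw [← natCard_subtype_mem (b ∩ c)]
  exact Nat.card_congr (Equiv.subtypeEquivRight (fun x => by rw [mem_inter]))

variable (h : IsS22 B.toFinset)
include h

theorem card_common' {b c : Finset α} (hb : b ∈ B.toFinset) (hc : c ∈ B.toFinset) (hbc : b ≠ c) :
    (B.toFinset.filter (fun d => (b ≠ d ∧ Disjoint b d) ∧ (c ≠ d ∧ Disjoint c d))).card =
      2 * (b ∩ c).card := by
  rw [← card_common h hb hc hbc]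
  congr 1
  ext d
  simp only [mem_filter, mem_erase]
  constructor
  · rintro ⟨hd, ⟨h1, h2⟩, ⟨h3, h4⟩⟩
    exact ⟨⟨h3.symm, h1.symm, hd⟩, h2, h4⟩
  · rintro ⟨⟨h3, h1, hd⟩, h2, h4⟩
    exact ⟨hd, ⟨h1.symm, h2⟩, ⟨h3.symm, h4⟩⟩

theorem card_disjoint' {b : Finset α} (hb : b ∈ B.toFinset) :
    (B.toFinset.filter (fun d => b ≠ d ∧ Disjoint b d)).card = 16 := by
  rw [← card_disjoint h hb]
  congr 1
  ext d
  simp only [mem_filter]
  constructor
  · rintro ⟨hd, -, h2⟩
    exact ⟨hd, h2⟩
  · rintro ⟨hd, h2⟩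
    exact ⟨hd, block_ne_of_disjoint h hb h2, h2⟩

theorem card_through_disjoint' {b : Finset α} (hb : b ∈ B.toFinset) {x : α} (hx : x ∉ b) :
    (B.toFinset.filter (fun d => x ∈ d ∧ (b ≠ d ∧ Disjoint b d))).card = 6 := by
  rw [← card_through_disjoint h hb hx]
  congr 1
  ext d
  simp only [mem_filter]
  constructor
  · rintro ⟨hd, h1, -, h2⟩
    exact ⟨hd, h1, h2⟩
  · rintro ⟨hd, h1, h2⟩
    exact ⟨hd, h1, block_ne_of_disjoint h hb h2, h2⟩

theorem card_through_mem_disjoint {b : Finset α} {x : α} (hx : x ∈ b) :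
    (B.toFinset.filter (fun d => x ∈ d ∧ (b ≠ d ∧ Disjoint b d))).card = 0 := by
  rw [card_eq_zero, filter_eq_empty_iff]
  rintro d - ⟨h1, -, h2⟩
  exact (Finset.disjoint_left.mp h2 hx) h1

omit h in
theorem hmemB (b : B) : (b : Finset α) ∈ B.toFinset := Set.mem_toFinset.mpr b.2

theorem deg_none : Nat.card ((pointBlockGraph B).neighborSet none) = 22 := by
  rw [natCard_of_not_mem _ (by simp [SimpleGraph.mem_neighborSet])]
  simp only [SimpleGraph.mem_neighborSet, adj_none_pt, adj_none_blk]
  rw [natCard_true, natCard_false, h.card_univ]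

theorem deg_pt (a : α) : Nat.card ((pointBlockGraph B).neighborSet (some (Sum.inl a))) = 22 := by
  rw [natCard_of_mem _ (by simp [SimpleGraph.mem_neighborSet])]
  simp only [SimpleGraph.mem_neighborSet, adj_pt_pt, adj_pt_blk]
  rw [natCard_false, natCard_subtype_B (fun d => a ∈ d), card_through h a]

theorem deg_blk (b : B) : Nat.card ((pointBlockGraph B).neighborSet (some (Sum.inr b))) = 22 := by
  rw [natCard_of_not_mem _ (by simp [SimpleGraph.mem_neighborSet])]
  simp only [SimpleGraph.mem_neighborSet, adj_blk_pt, adj_blk_blk]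
  rw [natCard_subtype_mem, h.card_block _ (hmemB b),
    natCard_subtype_B (fun d => (b : Finset α) ≠ d ∧ Disjoint (b : Finset α) d),
    card_disjoint' h (hmemB b)]

theorem cn_none_pt (a : α) :
    Nat.card ((pointBlockGraph B).commonNeighbors none (some (Sum.inl a))) = 0 := by
  rw [natCard_of_not_mem _ (by simp [SimpleGraph.mem_commonNeighbors])]
  simp only [SimpleGraph.mem_commonNeighbors, adj_none_pt, adj_none_blk, adj_pt_pt, adj_pt_blk,
    and_false, false_and]
  rw [natCard_false, natCard_false]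

theorem cn_none_blk (b : B) :
    Nat.card ((pointBlockGraph B).commonNeighbors none (some (Sum.inr b))) = 6 := by
  rw [natCard_of_not_mem _ (by simp [SimpleGraph.mem_commonNeighbors])]
  simp only [SimpleGraph.mem_commonNeighbors, adj_none_pt, adj_none_blk, adj_blk_pt, adj_blk_blk,
    true_and, false_and]
  rw [natCard_subtype_mem, natCard_false, h.card_block _ (hmemB b)]

theorem cn_pt_pt {a a' : α} (haa : a ≠ a') :
    Nat.card ((pointBlockGraph B).commonNeighbors (some (Sum.inl a)) (some (Sum.inl a'))) = 6 := by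
  rw [natCard_of_mem _ (by simp [SimpleGraph.mem_commonNeighbors])]
  simp only [SimpleGraph.mem_commonNeighbors, adj_pt_pt, adj_pt_blk, and_false]
  rw [natCard_false, natCard_subtype_B (fun d => a ∈ d ∧ a' ∈ d), card_through_two h haa]

theorem cn_pt_blk_mem {a : α} {b : B} (ha : a ∈ (b : Finset α)) :
    Nat.card ((pointBlockGraph B).commonNeighbors (some (Sum.inl a)) (some (Sum.inr b))) = 0 := by
  rw [natCard_of_not_mem _ (by simp [SimpleGraph.mem_commonNeighbors])]
  simp only [SimpleGraph.mem_commonNeighbors, adj_pt_pt, adj_pt_blk, adj_blk_pt, adj_blk_blk,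
    false_and]
  rw [natCard_false,
    natCard_subtype_B (fun d => a ∈ d ∧ ((b : Finset α) ≠ d ∧ Disjoint (b : Finset α) d)),
    card_through_mem_disjoint h ha]

theorem cn_pt_blk_not_mem {a : α} {b : B} (ha : a ∉ (b : Finset α)) :
    Nat.card ((pointBlockGraph B).commonNeighbors (some (Sum.inl a)) (some (Sum.inr b))) = 6 := by
  rw [natCard_of_not_mem _ (by simp [SimpleGraph.mem_commonNeighbors])]
  simp only [SimpleGraph.mem_commonNeighbors, adj_pt_pt, adj_pt_blk, adj_blk_pt, adj_blk_blk,
    false_and]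
  rw [natCard_false,
    natCard_subtype_B (fun d => a ∈ d ∧ ((b : Finset α) ≠ d ∧ Disjoint (b : Finset α) d)),
    card_through_disjoint' h (hmemB b) ha]

theorem cn_blk_blk {b c : B} (hbc : (b : Finset α) ≠ c) :
    Nat.card ((pointBlockGraph B).commonNeighbors (some (Sum.inr b)) (some (Sum.inr c))) =
      3 * ((b : Finset α) ∩ c).card := by
  rw [natCard_of_not_mem _ (by simp [SimpleGraph.mem_commonNeighbors])]
  simp only [SimpleGraph.mem_commonNeighbors, adj_blk_pt, adj_blk_blk]
  rw [natCard_inter, natCard_subtype_B (fun d => ((b : Finset α) ≠ d ∧ Disjoint (b : Finset α) d) ∧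
    ((c : Finset α) ≠ d ∧ Disjoint (c : Finset α) d)), card_common' h (hmemB b) (hmemB c) hbc]
  omega

end PB2

section Main

variable {α : Type*} [Fintype α]

theorem pointBlockGraph_srg (hα : Fintype.card α = 22) {B : Set (Finset α)}
    (hB : IsSteinerSystem 3 6 B) [Fintype B] [DecidableRel (pointBlockGraph B).Adj] :
    (pointBlockGraph B).IsSRGWith 100 22 0 6 := by
  classical
  have h := isS22_toFinset hα hB
  refine ⟨?_, ?_, ?_, ?_⟩
  · rw [Fintype.card_option, Fintype.card_sum, hα, ← Set.toFinset_card, card_blocks h]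
  · intro v
    rw [← SimpleGraph.card_neighborSet_eq_degree, ← Nat.card_eq_fintype_card]
    rcases v with _ | a | b
    · exact deg_none h
    · exact deg_pt h a
    · exact deg_blk h b
  · intro v w hvw
    rw [← Nat.card_eq_fintype_card]
    rcases v with _ | a | b <;> rcases w with _ | a' | c
    · exact absurd hvw (by simp)
    · exact cn_none_pt h a'
    · exact absurd hvw (by simp)
    · rw [SimpleGraph.commonNeighbors_symm]
      exact cn_none_pt h a
    · exact absurd hvw (by simp)
    · rw [adj_pt_blk] at hvw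
      exact cn_pt_blk_mem h hvw
    · exact absurd hvw (by simp)
    · rw [adj_blk_pt] at hvw
      rw [SimpleGraph.commonNeighbors_symm]
      exact cn_pt_blk_mem h hvw
    · rw [adj_blk_blk] at hvw
      rw [cn_blk_blk h hvw.1, (hdis _ _).mp hvw.2]
  · intro v w hne hvw
    rw [← Nat.card_eq_fintype_card]
    rcases v with _ | a | b <;> rcases w with _ | a' | c
    · exact absurd rfl hne
    · simp at hvw
    · exact cn_none_blk h c
    · simp at hvw
    · have haa : a ≠ a' := fun e => hne (by rw [e])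
      exact cn_pt_pt h haa
    · rw [adj_pt_blk] at hvw
      exact cn_pt_blk_not_mem h hvw
    · rw [SimpleGraph.commonNeighbors_symm]
      exact cn_none_blk h b
    · rw [adj_blk_pt] at hvw
      rw [SimpleGraph.commonNeighbors_symm]
      exact cn_pt_blk_not_mem h hvw
    · rw [adj_blk_blk] at hvw
      have hbc : (b : Finset α) ≠ c := fun e => hne (by rw [Subtype.ext e])
      have hnd : ¬ Disjoint (b : Finset α) c := fun hd => hvw ⟨hbc, hd⟩
      rw [cn_blk_blk h hbc]
      rcases inter_card h (hmemB b) (hmemB c) hbc with h0 | h2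
      · exact absurd ((hdis _ _).mpr h0) hnd
      · rw [h2]

end Main

end Cfsg.Agent.Helper4.Steiner22
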