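import Mathlib
import Cfsg.Agent.Helper4.S22Unique
import Cfsg.Agent.Helper4.Steiner22b

/-!
# Uniqueness of the strongly regular graph with parameters (100, 22, 0, 6)
-/

set_option autoImplicit false
set_option linter.unusedSectionVars false

namespace Cfsg.Agent.Helper4.HSGraph

open Finset Cfsg

section VLevel

variable {V : Type*} [Fintype V] [DecidableEq V] {G : SimpleGraph V} [DecidableRel G.Adj]

/-- neighbours -/
def nb (G : SimpleGraph V) [DecidableRel G.Adj] (v : V) : Finset V := univ.filter (fun x => G.Adj v x)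

theorem mem_nb {v x : V} : x ∈ nb G v ↔ G.Adj v x := by
  unfold nb
  rw [mem_filter]
  simp

theorem card_cn (v w : V) :
    Fintype.card (G.commonNeighbors v w) = (nb G v ∩ nb G w).card := by
  rw [← Fintype.card_coe]
  apply Fintype.card_congr
  refine Equiv.subtypeEquivRight ?_
  intro x
  rw [SimpleGraph.mem_commonNeighbors, mem_inter, mem_nb, mem_nb]

/-- the non-neighbours of the base vertex -/
def far (G : SimpleGraph V) [DecidableRel G.Adj] (o : V) : Finset V :=
  univ.filter (fun u => u ≠ o ∧ ¬G.Adj o u)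

theorem mem_far {o u : V} : u ∈ far G o ↔ u ≠ o ∧ ¬G.Adj o u := by
  unfold far
  rw [mem_filter]
  simp

/-- block of a vertex -/
def blk (G : SimpleGraph V) [DecidableRel G.Adj] (o u : V) : Finset V := nb G o ∩ nb G u

theorem mem_blk {o u p : V} : p ∈ blk G o u ↔ G.Adj o p ∧ G.Adj u p := by
  unfold blk
  rw [mem_inter, mem_nb, mem_nb]

theorem blk_subset (o u : V) : blk G o u ⊆ nb G o := inter_subset_left

variable (hG : G.IsSRGWith 100 22 0 6)
include hG

variable (o : V)

theorem card_nb (v : V) : (nb G v).card = 22 := by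
  have := hG.regular.degree_eq v
  rw [← this, ← SimpleGraph.card_neighborFinset_eq_degree]
  congr 1
  ext x
  rw [mem_nb, SimpleGraph.mem_neighborFinset]

theorem cn_adj {v w : V} (h : G.Adj v w) : nb G v ∩ nb G w = ∅ := by
  rw [← card_eq_zero, ← card_cn]
  exact hG.of_adj v w h

theorem cn_nadj {v w : V} (hne : v ≠ w) (h : ¬G.Adj v w) : (nb G v ∩ nb G w).card = 6 := by
  rw [← card_cn]
  exact hG.of_not_adj hne h

theorem coclique {p q : V} (hp : p ∈ nb G o) (hq : q ∈ nb G o) : ¬G.Adj p q := by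
  intro hpq
  have h1 := cn_adj hG hpq
  have h2 : o ∈ nb G p ∩ nb G q := by
    rw [mem_inter, mem_nb, mem_nb]
    exact ⟨(mem_nb.mp hp).symm, (mem_nb.mp hq).symm⟩
  rw [h1] at h2
  exact notMem_empty _ h2

theorem card_blk {u : V} (hu : u ∈ far G o) : (blk G o u).card = 6 := by
  rw [mem_far] at hu
  exact cn_nadj hG (Ne.symm hu.1) hu.2

theorem card_far : (far G o).card = 77 := by
  have e1 : far G o = univ \ insert o (nb G o) := by
    ext u
    rw [mem_far, mem_sdiff, mem_insert, mem_nb]
    simp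
  have hno : o ∉ nb G o := by
    rw [mem_nb]
    exact G.loopless.irrefl o
  rw [e1, card_sdiff_of_subset (subset_univ _), card_univ, hG.card, card_insert_of_notMem hno,
    card_nb hG]

/-- a neighbour of a point is `o` or far -/
theorem far_of_adj_point {p u : V} (hp : p ∈ nb G o) (hu : G.Adj p u) (huo : u ≠ o) :
    u ∈ far G o := by
  rw [mem_far]
  refine ⟨huo, fun h => ?_⟩
  exact coclique hG o hp (mem_nb.mpr h) hu

theorem card_through {p : V} (hp : p ∈ nb G o) :
    ((far G o).filter (fun u => p ∈ blk G o u)).card = 21 := by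
  have e1 : (far G o).filter (fun u => p ∈ blk G o u) = (nb G p).erase o := by
    ext u
    rw [mem_filter, mem_erase, mem_blk, mem_nb]
    constructor
    · rintro ⟨hu, -, hup⟩
      exact ⟨(mem_far.mp hu).1, hup.symm⟩
    · rintro ⟨huo, hpu⟩
      exact ⟨far_of_adj_point hG o hp hpu huo, mem_nb.mp hp, hpu.symm⟩
  rw [e1, card_erase_of_mem (mem_nb.mpr (mem_nb.mp hp).symm), card_nb hG]

theorem card_through_two {p q : V} (hp : p ∈ nb G o) (hq : q ∈ nb G o) (hpq : p ≠ q) :
    ((far G o).filter (fun u => p ∈ blk G o u ∧ q ∈ blk G o u)).card = 5 := by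
  have e1 : (far G o).filter (fun u => p ∈ blk G o u ∧ q ∈ blk G o u) =
      (nb G p ∩ nb G q).erase o := by
    ext u
    rw [mem_filter, mem_erase, mem_blk, mem_blk, mem_inter, mem_nb, mem_nb]
    constructor
    · rintro ⟨hu, ⟨-, hup⟩, -, huq⟩
      exact ⟨(mem_far.mp hu).1, hup.symm, huq.symm⟩
    · rintro ⟨huo, hpu, hqu⟩
      exact ⟨far_of_adj_point hG o hp hpu huo, ⟨mem_nb.mp hp, hpu.symm⟩, mem_nb.mp hq, hqu.symm⟩
  have ho : o ∈ nb G p ∩ nb G q := by
    rw [mem_inter, mem_nb, mem_nb]
    exact ⟨(mem_nb.mp hp).symm, (mem_nb.mp hq).symm⟩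
  rw [e1, card_erase_of_mem ho, cn_nadj hG hpq (coclique hG o hp hq)]

theorem blk_inter_of_adj {u w : V} (huw : G.Adj u w) : blk G o u ∩ blk G o w = ∅ := by
  rw [← subset_empty, ← cn_adj hG huw]
  intro p hp
  rw [mem_inter, mem_blk, mem_blk] at hp
  rw [mem_inter, mem_nb, mem_nb]
  exact ⟨hp.1.2, hp.2.2⟩

theorem card_far_adj {u : V} (hu : u ∈ far G o) :
    ((far G o).filter (fun w => G.Adj u w)).card = 16 := by
  have e1 : nb G u = blk G o u ∪ (far G o).filter (fun w => G.Adj u w) := by
    ext w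
    rw [mem_union, mem_nb, mem_blk, mem_filter, mem_far]
    constructor
    · intro huw
      by_cases how : G.Adj o w
      · exact Or.inl ⟨how, huw⟩
      · refine Or.inr ⟨⟨?_, how⟩, huw⟩
        rintro rfl
        exact (mem_far.mp hu).2 huw.symm
    · rintro (⟨-, h⟩ | ⟨-, h⟩) <;> exact h
  have hdis : Disjoint (blk G o u) ((far G o).filter (fun w => G.Adj u w)) := by
    rw [disjoint_left]
    intro w hw hw'
    rw [mem_blk] at hw
    rw [mem_filter, mem_far] at hw'
    exact hw'.1.2 hw.1
  have h1 := card_nb hG u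
  rw [e1, card_union_of_disjoint hdis, card_blk hG o hu] at h1
  omega

end VLevel

section Count

variable {V : Type*} [Fintype V] [DecidableEq V] {G : SimpleGraph V} [DecidableRel G.Adj]
variable (hG : G.IsSRGWith 100 22 0 6) (o : V)
include hG

theorem sum_inter {u : V} (hu : u ∈ far G o) :
    ∑ w ∈ far G o, (blk G o u ∩ blk G o w).card = 126 := by
  have key := Finset.sum_card_bipartiteAbove_eq_sum_card_bipartiteBelow
    (s := blk G o u) (t := far G o) (fun p w => p ∈ blk G o w)
  have h1 : ∀ p ∈ blk G o u, ((far G o).bipartiteAbove (fun p w => p ∈ blk G o w) p).card = 21 := by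
    intro p hp
    exact card_through hG o (blk_subset o u hp)
  have h2 : ∀ w ∈ far G o, ((blk G o u).bipartiteBelow (fun p w => p ∈ blk G o w) w).card =
      (blk G o u ∩ blk G o w).card := by
    intro w _
    have e1 : (blk G o u).bipartiteBelow (fun p w => p ∈ blk G o w) w = blk G o u ∩ blk G o w := by
      ext x
      simp [Finset.bipartiteBelow]
    rw [e1]
  rw [sum_congr rfl h1, sum_congr rfl h2, sum_const, card_blk hG o hu] at key
  rw [← key]
  rfl

theorem sum_inter_offDiag {u : V} (hu : u ∈ far G o) :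
    ∑ w ∈ far G o, (blk G o u ∩ blk G o w).offDiag.card = 150 := by
  have key := Finset.sum_card_bipartiteAbove_eq_sum_card_bipartiteBelow
    (s := (blk G o u).offDiag) (t := far G o) (fun p w => p.1 ∈ blk G o w ∧ p.2 ∈ blk G o w)
  have h1 : ∀ p ∈ (blk G o u).offDiag,
      ((far G o).bipartiteAbove (fun p w => p.1 ∈ blk G o w ∧ p.2 ∈ blk G o w) p).card = 5 := by
    intro p hp
    rw [mem_offDiag] at hp
    exact card_through_two hG o (blk_subset o u hp.1) (blk_subset o u hp.2.1) hp.2.2
  have h2 : ∀ w ∈ far G o, ((blk G o u).offDiag.bipartiteBelow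
      (fun p w => p.1 ∈ blk G o w ∧ p.2 ∈ blk G o w) w).card =
      (blk G o u ∩ blk G o w).offDiag.card := by
    intro w _
    have e1 : (blk G o u).offDiag.bipartiteBelow
        (fun p w => p.1 ∈ blk G o w ∧ p.2 ∈ blk G o w) w = (blk G o u ∩ blk G o w).offDiag := by
      ext p
      simp only [Finset.bipartiteBelow, mem_filter, mem_offDiag, mem_inter]
      tauto
    rw [e1]
  rw [sum_congr rfl h1, sum_congr rfl h2, sum_const, offDiag_card, card_blk hG o hu] at key
  rw [← key]
  rfl

theorem inter_far {u w : V} (hu : u ∈ far G o) (hw : w ∈ far G o) (hne : u ≠ w)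
    (hnadj : ¬G.Adj u w) : (blk G o u ∩ blk G o w).card = 2 := by
  have h1 := sum_inter hG o hu
  have h2 := sum_inter_offDiag hG o hu
  rw [← add_sum_erase _ _ hu] at h1 h2
  rw [inter_self, card_blk hG o hu] at h1
  rw [inter_self, offDiag_card, card_blk hG o hu] at h2
  rw [← sum_filter_add_sum_filter_not ((far G o).erase u) (fun w => G.Adj u w)] at h1 h2
  have hz : ∀ w ∈ ((far G o).erase u).filter (fun w => G.Adj u w),
      (blk G o u ∩ blk G o w).card = 0 := by
    intro w hw
    rw [mem_filter] at hw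
    rw [blk_inter_of_adj hG o hw.2, card_empty]
  have hz' : ∀ w ∈ ((far G o).erase u).filter (fun w => G.Adj u w),
      (blk G o u ∩ blk G o w).offDiag.card = 0 := by
    intro w hw
    rw [mem_filter] at hw
    rw [blk_inter_of_adj hG o hw.2, offDiag_empty, card_empty]
  rw [sum_congr rfl hz, sum_const_zero] at h1
  rw [sum_congr rfl hz', sum_const_zero] at h2
  have hA : ((far G o).erase u).filter (fun w => G.Adj u w) =
      (far G o).filter (fun w => G.Adj u w) := by
    ext w
    rw [mem_filter, mem_filter, mem_erase]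
    constructor
    · rintro ⟨⟨-, h⟩, h'⟩
      exact ⟨h, h'⟩
    · rintro ⟨h, h'⟩
      exact ⟨⟨fun e => G.loopless.irrefl u (e ▸ h'), h⟩, h'⟩
  have hR := card_filter_add_card_filter_not (s := (far G o).erase u) (fun w => G.Adj u w)
  rw [hA, card_far_adj hG o hu, card_erase_of_mem hu, card_far hG o] at hR
  set R := ((far G o).erase u).filter (fun w => ¬G.Adj u w) with hRdef
  have hle : ∀ w ∈ R, 3 * (blk G o u ∩ blk G o w).card ≤
      (blk G o u ∩ blk G o w).offDiag.card + 4 := by
    intro w _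
    rw [offDiag_card]
    have h6 : (blk G o u ∩ blk G o w).card ≤ 6 := by
      rw [← card_blk hG o hu]
      exact card_le_card inter_subset_left
    interval_cases (blk G o u ∩ blk G o w).card <;> omega
  have hsum : ∑ w ∈ R, 3 * (blk G o u ∩ blk G o w).card =
      ∑ w ∈ R, ((blk G o u ∩ blk G o w).offDiag.card + 4) := by
    rw [← mul_sum, sum_add_distrib, sum_const, smul_eq_mul]
    omega
  have heq := (sum_eq_sum_iff_of_le hle).mp hsum w (by
    rw [hRdef, mem_filter, mem_erase]
    exact ⟨⟨Ne.symm hne, hw⟩, hnadj⟩)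
  rw [offDiag_card] at heq
  have h6 : (blk G o u ∩ blk G o w).card ≤ 6 := by
    rw [← card_blk hG o hu]
    exact card_le_card inter_subset_left
  interval_cases (blk G o u ∩ blk G o w).card <;> omega

theorem inter_far_le {u w : V} (hu : u ∈ far G o) (hw : w ∈ far G o) (hne : u ≠ w) :
    (blk G o u ∩ blk G o w).card ≤ 2 := by
  by_cases hadj : G.Adj u w
  · rw [blk_inter_of_adj hG o hadj, card_empty]
    omega
  · rw [inter_far hG o hu hw hne hadj]

theorem blk_injOn {u w : V} (hu : u ∈ far G o) (hw : w ∈ far G o)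
    (h : blk G o u = blk G o w) : u = w := by
  by_contra hne
  have h1 := inter_far_le hG o hu hw hne
  rw [← h, inter_self, card_blk hG o hu] at h1
  omega

theorem adj_far_iff {u w : V} (hu : u ∈ far G o) (hw : w ∈ far G o) :
    G.Adj u w ↔ u ≠ w ∧ Disjoint (blk G o u) (blk G o w) := by
  constructor
  · intro hadj
    refine ⟨G.ne_of_adj hadj, ?_⟩
    rw [disjoint_iff_inter_eq_empty]
    exact blk_inter_of_adj hG o hadj
  · rintro ⟨hne, hdis⟩
    by_contra hnadj
    have h1 := inter_far hG o hu hw hne hnadj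
    rw [disjoint_iff_inter_eq_empty] at hdis
    rw [hdis, card_empty] at h1
    omega

theorem steiner_unique {T : Finset V} (hT : T.card = 3) {u w : V} (hu : u ∈ far G o)
    (hw : w ∈ far G o) (hTu : T ⊆ blk G o u) (hTw : T ⊆ blk G o w) : u = w := by
  by_contra hne
  have h1 := inter_far_le hG o hu hw hne
  have h2 := card_le_card (subset_inter hTu hTw)
  omega

theorem steiner_exists {T : Finset V} (hTN : T ⊆ nb G o) (hT : T.card = 3) :
    ∃ u ∈ far G o, T ⊆ blk G o u := by
  have key := Finset.sum_card_bipartiteAbove_eq_sum_card_bipartiteBelow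
    (s := powersetCard 3 (nb G o)) (t := far G o) (fun T u => T ⊆ blk G o u)
  have h2 : ∀ u ∈ far G o,
      ((powersetCard 3 (nb G o)).bipartiteBelow (fun T u => T ⊆ blk G o u) u).card = 20 := by
    intro u hu
    have e1 : (powersetCard 3 (nb G o)).bipartiteBelow (fun T u => T ⊆ blk G o u) u =
        powersetCard 3 (blk G o u) := by
      unfold Finset.bipartiteBelow
      ext S
      simp only [mem_filter, mem_powersetCard]
      constructor
      · rintro ⟨⟨-, h3⟩, hS⟩
        exact ⟨hS, h3⟩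
      · rintro ⟨hS, h3⟩
        exact ⟨⟨hS.trans (blk_subset o u), h3⟩, hS⟩
    rw [e1, card_powersetCard, card_blk hG o hu]
    rfl
  rw [sum_congr rfl h2, sum_const, card_far hG o, smul_eq_mul] at key
  have hle : ∀ S ∈ powersetCard 3 (nb G o),
      ((far G o).bipartiteAbove (fun T u => T ⊆ blk G o u) S).card ≤ 1 := by
    intro S hS
    rw [mem_powersetCard] at hS
    rw [card_le_one]
    intro u hu w hw
    unfold Finset.bipartiteAbove at hu hw
    rw [mem_filter] at hu hw
    exact steiner_unique hG o hS.2 hu.1 hw.1 hu.2 hw.2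
  have hsum : ∑ S ∈ powersetCard 3 (nb G o),
      ((far G o).bipartiteAbove (fun T u => T ⊆ blk G o u) S).card =
      ∑ _S ∈ powersetCard 3 (nb G o), 1 := by
    rw [key, sum_const, card_powersetCard, card_nb hG o, smul_eq_mul]
    rfl
  have h1 := (sum_eq_sum_iff_of_le hle).mp hsum T (mem_powersetCard.mpr ⟨hTN, hT⟩)
  obtain ⟨u, hu⟩ := card_pos.mp (by rw [h1]; omega :
    0 < ((far G o).bipartiteAbove (fun T u => T ⊆ blk G o u) T).card)
  unfold Finset.bipartiteAbove at hu
  rw [mem_filter] at hu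
  exact ⟨u, hu.1, hu.2⟩

end Count

section Design

variable {V : Type*} [Fintype V] [DecidableEq V] {G : SimpleGraph V} [DecidableRel G.Adj]

/-- the points -/
abbrev Pts (G : SimpleGraph V) [DecidableRel G.Adj] (o : V) := {x : V // x ∈ nb G o}

/-- block as a finset of points -/
def blkP (G : SimpleGraph V) [DecidableRel G.Adj] (o u : V) : Finset (Pts G o) :=
  (blk G o u).subtype (fun x => x ∈ nb G o)

theorem mem_blkP {o u : V} {p : Pts G o} : p ∈ blkP G o u ↔ G.Adj u p.1 := by
  unfold blkP
  rw [mem_subtype, mem_blk]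
  exact ⟨fun h => h.2, fun h => ⟨mem_nb.mp p.2, h⟩⟩

theorem map_blkP (o u : V) :
    (blkP G o u).map (Function.Embedding.subtype _) = blk G o u :=
  subtype_map_of_mem (fun _ hx => blk_subset o u hx)

/-- the design -/
def design (G : SimpleGraph V) [DecidableRel G.Adj] (o : V) : Set (Finset (Pts G o)) :=
  {b | ∃ u ∈ far G o, b = blkP G o u}

theorem trichotomy (o v : V) : v = o ∨ v ∈ nb G o ∨ v ∈ far G o := by
  by_cases h : v = o
  · exact Or.inl h
  · by_cases h2 : G.Adj o v
    · exact Or.inr (Or.inl (mem_nb.mpr h2))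
    · exact Or.inr (Or.inr (mem_far.mpr ⟨h, h2⟩))

theorem o_notMem_nb (o : V) : o ∉ nb G o := by
  rw [mem_nb]
  exact G.loopless.irrefl o

theorem notMem_nb_of_far {o u : V} (hu : u ∈ far G o) : u ∉ nb G o := by
  rw [mem_nb]
  exact (mem_far.mp hu).2

variable (hG : G.IsSRGWith 100 22 0 6) (o : V)
include hG

theorem card_Pts : Fintype.card (Pts G o) = 22 := by
  rw [Fintype.card_coe, card_nb hG]

theorem isSteiner_design : IsSteinerSystem 3 6 (design G o) := by
  constructor
  · rintro b ⟨u, hu, rfl⟩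
    rw [← card_map (Function.Embedding.subtype _), map_blkP, card_blk hG o hu]
  · intro s hs
    have hTN : s.map (Function.Embedding.subtype _) ⊆ nb G o := by
      intro x hx
      obtain ⟨p, -, rfl⟩ := mem_map.mp hx
      exact p.2
    have hT : (s.map (Function.Embedding.subtype (fun x => x ∈ nb G o))).card = 3 := by
      rw [card_map, hs]
    obtain ⟨u, hu, hTu⟩ := steiner_exists hG o hTN hT
    refine ⟨blkP G o u, ⟨⟨u, hu, rfl⟩, ?_⟩, ?_⟩
    · intro p hp
      rw [mem_blkP]
      exact (mem_blk.mp (hTu (mem_map_of_mem _ hp))).2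
    · rintro b ⟨⟨w, hw, rfl⟩, hsw⟩
      have hTw : s.map (Function.Embedding.subtype (fun x => x ∈ nb G o)) ⊆ blk G o w := by
        intro x hx
        obtain ⟨p, hp, rfl⟩ := mem_map.mp hx
        rw [mem_blk]
        exact ⟨mem_nb.mp p.2, mem_blkP.mp (hsw hp)⟩
      rw [steiner_unique hG o hT hu hw hTu hTw]

theorem blkP_injOn {u w : V} (hu : u ∈ far G o) (hw : w ∈ far G o)
    (h : blkP G o u = blkP G o w) : u = w := by
  apply blk_injOn hG o hu hw
  rw [← map_blkP, ← map_blkP, h]

theorem adj_far_iff' {u w : V} (hu : u ∈ far G o) (hw : w ∈ far G o) :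
    G.Adj u w ↔ blkP G o u ≠ blkP G o w ∧ Disjoint (blkP G o u) (blkP G o w) := by
  rw [adj_far_iff hG o hu hw, ← map_blkP o u, ← map_blkP o w, disjoint_map]
  constructor
  · rintro ⟨h1, h2⟩
    exact ⟨fun e => h1 (blkP_injOn hG o hu hw e), h2⟩
  · rintro ⟨h1, h2⟩
    exact ⟨fun e => h1 (e ▸ rfl), h2⟩

end Design

section Iso

open Cfsg.Agent.Helper4.Steiner22

variable {V : Type*} [Fintype V] [DecidableEq V] {G : SimpleGraph V} [DecidableRel G.Adj]

/-- the vertex map to the point-block graph -/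
def toPB (G : SimpleGraph V) [DecidableRel G.Adj] (o : V) (v : V) :
    Option (Pts G o ⊕ design G o) :=
  if h : v = o then none
  else if h2 : v ∈ nb G o then some (Sum.inl ⟨v, h2⟩)
  else some (Sum.inr ⟨blkP G o v, v, mem_far.mpr ⟨h, fun h3 => h2 (mem_nb.mpr h3)⟩, rfl⟩)

theorem toPB_o (o : V) : toPB G o o = none := by
  unfold toPB
  rw [dif_pos rfl]

theorem toPB_pt {o p : V} (hp : p ∈ nb G o) : toPB G o p = some (Sum.inl ⟨p, hp⟩) := by
  unfold toPB
  have h : p ≠ o := fun e => o_notMem_nb o (e ▸ hp)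
  rw [dif_neg h, dif_pos hp]

theorem toPB_far {o u : V} (hu : u ∈ far G o) :
    toPB G o u = some (Sum.inr ⟨blkP G o u, u, hu, rfl⟩) := by
  unfold toPB
  rw [dif_neg (mem_far.mp hu).1, dif_neg (notMem_nb_of_far hu)]

variable (hG : G.IsSRGWith 100 22 0 6) (o : V)
include hG

theorem toPB_injective : Function.Injective (toPB G o) := by
  intro v w hvw
  rcases trichotomy (G := G) o v with hv | hv | hv <;>
    rcases trichotomy (G := G) o w with hw | hw | hw
  · rw [hv, hw]
  · rw [hv, toPB_o, toPB_pt hw] at hvw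
    exact absurd hvw (by simp)
  · rw [hv, toPB_o, toPB_far hw] at hvw
    exact absurd hvw (by simp)
  · rw [hw, toPB_o, toPB_pt hv] at hvw
    exact absurd hvw (by simp)
  · rw [toPB_pt hv, toPB_pt hw] at hvw
    simpa using hvw
  · rw [toPB_pt hv, toPB_far hw] at hvw
    exact absurd hvw (by simp)
  · rw [hw, toPB_o, toPB_far hv] at hvw
    exact absurd hvw (by simp)
  · rw [toPB_far hv, toPB_pt hw] at hvw
    exact absurd hvw (by simp)
  · rw [toPB_far hv, toPB_far hw] at hvw
    have : blkP G o v = blkP G o w := congrArg Subtype.val (Sum.inr.inj (Option.some.inj hvw))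
    exact blkP_injOn hG o hv hw this

theorem toPB_surjective : Function.Surjective (toPB G o) := by
  rintro (_ | ⟨p⟩ | ⟨b, u, hu, rfl⟩)
  · exact ⟨o, toPB_o o⟩
  · exact ⟨p.1, toPB_pt p.2⟩
  · exact ⟨u, toPB_far hu⟩

theorem toPB_adj (v w : V) :
    (pointBlockGraph (design G o)).Adj (toPB G o v) (toPB G o w) ↔ G.Adj v w := by
  rcases trichotomy (G := G) o v with hv | hv | hv <;>
    rcases trichotomy (G := G) o w with hw | hw | hw
  · rw [hv, hw, toPB_o]
    simp
  · rw [hv, toPB_o, toPB_pt hw]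
    simp [mem_nb.mp hw]
  · rw [hv, toPB_o, toPB_far hw]
    simp [(mem_far.mp hw).2]
  · rw [hw, toPB_o, toPB_pt hv]
    simp [(mem_nb.mp hv).symm]
  · rw [toPB_pt hv, toPB_pt hw]
    simp [coclique hG o hv hw]
  · rw [toPB_pt hv, toPB_far hw, adj_pt_blk]
    show (⟨v, hv⟩ : Pts G o) ∈ blkP G o w ↔ _
    rw [mem_blkP]
    exact ⟨fun h => h.symm, fun h => h.symm⟩
  · rw [hw, toPB_o, toPB_far hv]
    simp only [adj_blk_none, false_iff]
    exact fun h => (mem_far.mp hv).2 h.symm
  · rw [toPB_far hv, toPB_pt hw, adj_blk_pt]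
    show (⟨w, hw⟩ : Pts G o) ∈ blkP G o v ↔ _
    rw [mem_blkP]
  · rw [toPB_far hv, toPB_far hw, adj_blk_blk]
    exact (adj_far_iff' hG o hv hw).symm

theorem graphIso : Nonempty (G ≃g pointBlockGraph (design G o)) :=
  ⟨{ toEquiv := Equiv.ofBijective (toPB G o) ⟨toPB_injective hG o, toPB_surjective hG o⟩
     map_rel_iff' := by
       intro v w
       exact toPB_adj hG o v w }⟩

end Iso

section PBIso

open Cfsg.Agent.Helper4.Steiner22

variable {α β : Type*} [Fintype α] [Fintype β] [DecidableEq α] [DecidableEq β]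

theorem pbIso {B : Set (Finset α)} {B' : Set (Finset β)} (h : SetSystemIso B B') :
    Nonempty (pointBlockGraph B ≃g pointBlockGraph B') := by
  obtain ⟨e, he⟩ := h
  have hmem : ∀ b : B, (b : Finset α).image e ∈ B' := by
    intro b
    rw [← he]
    exact ⟨b.1, b.2, rfl⟩
  let f : B → B' := fun b => ⟨(b : Finset α).image e, hmem b⟩
  have hf : Function.Bijective f := by
    constructor
    · intro b c hbc
      apply Subtype.ext
      exact Finset.image_injective e.injective (congrArg Subtype.val hbc)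
    · rintro ⟨b', hb'⟩
      rw [← he] at hb'
      obtain ⟨b, hb, rfl⟩ := hb'
      exact ⟨⟨b, hb⟩, rfl⟩
  let F : B ≃ B' := Equiv.ofBijective f hf
  have hF : ∀ b : B, ((F b : B') : Finset β) = (b : Finset α).image e := fun b => rfl
  refine ⟨{ toEquiv := Equiv.optionCongr (Equiv.sumCongr e F), map_rel_iff' := ?_ }⟩
  rintro (_ | a | b) (_ | a' | b') <;>
    simp only [Equiv.optionCongr_apply, Option.map_none, Option.map_some, Equiv.sumCongr_apply,
      Sum.map_inl, Sum.map_inr, adj_none_none, adj_none_pt, adj_pt_none, adj_none_blk,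
      adj_blk_none, adj_pt_pt, adj_pt_blk, adj_blk_pt, adj_blk_blk, hF]
  · rw [mem_image]
    constructor
    · rintro ⟨x, hx, hxe⟩
      exact e.injective hxe ▸ hx
    · intro h
      exact ⟨a, h, rfl⟩
  · rw [mem_image]
    constructor
    · rintro ⟨x, hx, hxe⟩
      exact e.injective hxe ▸ hx
    · intro h
      exact ⟨a', h, rfl⟩
  · rw [disjoint_image e.injective, (Finset.image_injective e.injective).ne_iff]

end PBIso

section Main

theorem hs_unique {V W : Type*} [Fintype V] [Fintype W] {G : SimpleGraph V} {H : SimpleGraph W}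
    [DecidableRel G.Adj] [DecidableRel H.Adj] (hG : G.IsSRGWith 100 22 0 6)
    (hH : H.IsSRGWith 100 22 0 6) : Nonempty (G ≃g H) := by
  classical
  have hV : Nonempty V := Fintype.card_pos_iff.mp (by rw [hG.card]; omega)
  have hW : Nonempty W := Fintype.card_pos_iff.mp (by rw [hH.card]; omega)
  obtain ⟨o⟩ := hV
  obtain ⟨o'⟩ := hW
  obtain ⟨f⟩ := graphIso hG o
  obtain ⟨f'⟩ := graphIso hH o'
  have hiso := Cfsg.Agent.Helper4.S22Unique.s22_unique (card_Pts hG o) (card_Pts hH o')
    (isSteiner_design hG o) (isSteiner_design hH o')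
  obtain ⟨g⟩ := pbIso hiso
  exact ⟨f.trans (g.trans f'.symm)⟩

end Main

end Cfsg.Agent.Helper4.HSGraph
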