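import Mathlib
import Cfsg.Agent.Helper4.S22Unique

/-!
# Automorphisms of the Steiner system `S(3,6,22)`: flag isomorphisms and the order of the group
-/

set_option autoImplicit false
set_option linter.unusedSectionVars false

namespace Cfsg.Agent.Helper4.S22Aut

open Finset Cfsg Cfsg.Agent.Helper4.Steiner22 Cfsg.Agent.Helper4.Plane4
  Cfsg.Agent.Helper4.S22Unique

section DownEquiv

variable {α : Type*} [Fintype α] [DecidableEq α]

/-- the points of `down a b` are the points of `b` when `a ∉ b` -/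
def downEquiv {a : α} {b : Finset α} (hab : a ∉ b) : ↥(down a b) ≃ ↥b where
  toFun y := ⟨y.1.1, mem_down.mp y.2⟩
  invFun p := ⟨⟨p.1, fun h => hab (h ▸ p.2)⟩, mem_down.mpr p.2⟩
  left_inv _ := rfl
  right_inv _ := rfl

theorem downEquiv_apply {a : α} {b : Finset α} (hab : a ∉ b) (y : ↥(down a b)) :
    ((downEquiv hab y : ↥b) : α) = ((y : Pt a) : α) := rfl

theorem downEquiv_symm_apply {a : α} {b : Finset α} (hab : a ∉ b) (p : ↥b) :
    ((((downEquiv hab).symm p : ↥(down a b)) : Pt a) : α) = (p : α) := rfl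

end DownEquiv

section Key

variable {α β : Type*} [Fintype α] [DecidableEq α] [Fintype β] [DecidableEq β]

theorem block_iff_of_plane_iso (hα : Fintype.card α = 22) (hβ : Fintype.card β = 22)
    {B : Set (Finset α)} {B' : Set (Finset β)} (hB : IsSteinerSystem 3 6 B)
    (hB' : IsSteinerSystem 3 6 B') {a : α} {a' : β} {H : Finset (Pt a)} (hH : H ∈ dOvals B a)
    {H' : Finset (Pt a')} (hH' : H' ∈ dOvals B' a') (e : Pt a ≃ Pt a')
    (he : ∀ l, l ∈ linesFinset (dLines B a) ↔ l.image e ∈ linesFinset (dLines B' a'))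
    (hHim : H.image e = H') : ∀ b, b ∈ B ↔ b.image (extEquiv e) ∈ B' := by
  have hov : ∀ K, K ∈ dOvals B a ↔ K.image e ∈ dOvals B' a' := by
    intro K
    rw [← mem_linesFinset, ← mem_linesFinset (L := dOvals B' a'), ovals_eq_evenClass hα hB a hH,
      ovals_eq_evenClass hβ hB' a' hH', ← hHim, mem_evenClass_image_iff e he]
  have hline : ∀ l, l ∈ dLines B a ↔ l.image e ∈ dLines B' a' := by
    intro l
    rw [← mem_linesFinset, ← mem_linesFinset (L := dLines B' a')]
    exact he l
  intro b
  by_cases hab : a ∈ b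
  · have e1 := insert_up_down_of_mem hab
    rw [← e1, image_insert_up]
    exact hline (down a b)
  · have e1 := up_down_of_notMem hab
    rw [← e1, image_up]
    exact hov (down a b)

/-- restriction of a map to the punctured types -/
def restr {a : α} {a' : β} (e' : α ≃ β) (ha : e' a = a') : Pt a → Pt a' :=
  fun y => ⟨e' y.1, fun h => y.2 (e'.injective (h.trans ha.symm))⟩

theorem restr_injective {a : α} {a' : β} (e' : α ≃ β) (ha : e' a = a') :
    Function.Injective (restr e' ha) := by
  intro y z hyz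
  exact Subtype.ext (e'.injective (congrArg Subtype.val hyz))

theorem image_up_restr {a : α} {a' : β} (e' : α ≃ β) (ha : e' a = a') (l : Finset (Pt a)) :
    (up a l).image e' = up a' (l.image (restr e' ha)) := by
  ext y
  rw [mem_image, mem_up]
  constructor
  · rintro ⟨x, hx, rfl⟩
    rw [mem_up] at hx
    obtain ⟨hx, hxl⟩ := hx
    refine ⟨(restr e' ha ⟨x, hx⟩).2, ?_⟩
    rw [mem_image]
    exact ⟨⟨x, hx⟩, hxl, rfl⟩
  · rintro ⟨hy, hyl⟩
    rw [mem_image] at hyl
    obtain ⟨x, hxl, hxy⟩ := hyl
    exact ⟨x, coe_mem_up.mpr hxl, congrArg Subtype.val hxy⟩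

theorem flag_iso (hα : Fintype.card α = 22) (hβ : Fintype.card β = 22)
    {B : Set (Finset α)} {B' : Set (Finset β)} (hB : IsSteinerSystem 3 6 B)
    (hB' : IsSteinerSystem 3 6 B') {a : α} {b : Finset α} (hb : b ∈ B) (hab : a ∉ b)
    {a' : β} {b' : Finset β} (hb' : b' ∈ B') (hab' : a' ∉ b') (s : ↥b ≃ ↥b') :
    ∃ e : α ≃ β, (∀ c, c ∈ B ↔ c.image e ∈ B') ∧ e a = a' ∧ (∀ p : ↥b, e p = s p) ∧
      ∀ e' : α ≃ β, (∀ c ∈ B, c.image e' ∈ B') → e' a = a' → (∀ p : ↥b, e' p = s p) →
        e' = e := by
  have hP := isPlane4_dLines hα hB a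
  have hP' := isPlane4_dLines hβ hB' a'
  have hH : down a b ∈ dOvals B a := by
    show up a (down a b) ∈ B
    rw [up_down_of_notMem hab]
    exact hb
  have hH' : down a' b' ∈ dOvals B' a' := by
    show up a' (down a' b') ∈ B'
    rw [up_down_of_notMem hab']
    exact hb'
  have hHo := isHyperoval_of_mem hα hB a hH
  have hHo' := isHyperoval_of_mem hβ hB' a' hH'
  obtain ⟨e, he, hag, huniq⟩ := exists_iso hP hP' hHo hHo'
    ((downEquiv hab).trans (s.trans (downEquiv hab').symm))
  have hHim : (down a b).image e = down a' b' := by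
    apply eq_of_subset_of_card_le
    · intro y hy
      obtain ⟨x, hx, rfl⟩ := mem_image.mp hy
      have := hag ⟨x, hx⟩
      simp only at this
      rw [this]
      exact Finset.coe_mem _
    · rw [card_image_of_injective _ e.injective, hHo.card, hHo'.card]
  have key := block_iff_of_plane_iso hα hβ hB hB' hH hH' e he hHim
  refine ⟨extEquiv e, key, extEquiv_self e, ?_, ?_⟩
  · intro p
    have hpa : (p : α) ≠ a := fun h => hab (h ▸ p.2)
    have h1 := extEquiv_coe e ⟨p.1, hpa⟩
    simp only at h1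
    rw [h1]
    have h2 := hag ⟨⟨p.1, hpa⟩, mem_down.mpr p.2⟩
    simp only at h2
    rw [h2]
    rfl
  · intro e' hline ha hs
    have hfun := huniq (restr e' ha) (restr_injective e' ha) ?_ ?_
    · apply Equiv.ext
      intro x
      by_cases hxa : x = a
      · rw [hxa, ha, extEquiv_self]
      · have h1 := extEquiv_coe e ⟨x, hxa⟩
        simp only at h1
        rw [h1, ← hfun]
        rfl
    · intro l hl
      rw [mem_linesFinset] at hl ⊢
      show insert a' (up a' (l.image (restr e' ha))) ∈ B'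
      rw [← image_up_restr, ← ha, ← image_insert]
      exact hline _ hl
    · intro p
      apply Subtype.ext
      show e' p.1.1 = _
      have := hs ⟨p.1.1, mem_down.mp p.2⟩
      simp only at this
      rw [this]
      rfl

end Key

section Order

open scoped Pointwise

variable {α : Type*} [Fintype α] [DecidableEq α]

theorem smul_finset_eq_image (g : Equiv.Perm α) (l : Finset α) : g • l = l.image g := rfl

theorem mem_iff_of_image_eq (g : Equiv.Perm α) (b : Finset α) (h : b.image g = b) (x : α) :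
    g x ∈ b ↔ x ∈ b := by
  constructor
  · intro hx
    have hx' : g x ∈ b.image g := by rw [h]; exact hx
    obtain ⟨y, hy, hye⟩ := mem_image.mp hx'
    exact g.injective hye ▸ hy
  · intro hx
    rw [← h]
    exact mem_image_of_mem _ hx

theorem card_flags (hα : Fintype.card α = 22) {B : Set (Finset α)}
    (hB : IsSteinerSystem 3 6 B) :
    {f : α × Finset α | f.2 ∈ B ∧ f.1 ∉ f.2}.ncard = 1232 := by
  have h22 := isS22_linesFinset hα hB
  have e1 : {f : α × Finset α | f.2 ∈ B ∧ f.1 ∉ f.2} =
      ↑(((univ : Finset α) ×ˢ linesFinset B).filter (fun f => f.1 ∉ f.2)) := by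
    ext f
    rw [Set.mem_ofPred_eq, mem_coe, mem_filter, mem_product, mem_linesFinset]
    simp
  rw [e1, Set.ncard_coe_finset, card_filter, sum_product_right]
  have h2 : ∀ b ∈ linesFinset B, (∑ a : α, if a ∉ b then 1 else 0) = 16 := by
    intro b hb
    rw [← card_filter, filter_not, filter_mem_eq_inter, univ_inter,
      card_sdiff_of_subset (subset_univ b), card_univ, hα, h22.card_block b hb]
  rw [sum_congr rfl h2, sum_const, Steiner22.card_blocks h22]
  rfl

theorem card_setSystemAut (hα : Fintype.card α = 22) {B : Set (Finset α)}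
    (hB : IsSteinerSystem 3 6 B) : Nat.card (setSystemAut B) = 887040 := by
  have h22 := isS22_linesFinset hα hB
  obtain ⟨b₀, hb₀⟩ := card_pos.mp (by rw [Steiner22.card_blocks h22]; omega :
    0 < (linesFinset B).card)
  have hb₀6 := h22.card_block b₀ hb₀
  rw [mem_linesFinset] at hb₀
  obtain ⟨a₀, ha₀⟩ : ∃ a₀, a₀ ∉ b₀ := by
    by_contra hcon
    have : b₀ = univ := eq_univ_iff_forall.mpr (fun x => by
      by_contra hx
      exact hcon ⟨x, hx⟩)
    rw [this, card_univ, hα] at hb₀6
    omega
  have hmem : ∀ g : Equiv.Perm α, g ∈ setSystemAut B ↔ ∀ l, l ∈ B ↔ l.image g ∈ B :=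
    mem_setSystemAut_iff B
  have hsm : ∀ (g : setSystemAut B) (a : α) (b : Finset α),
      g • ((a, b) : α × Finset α) = ((g : Equiv.Perm α) a, b.image (g : Equiv.Perm α)) := by
    intro g a b
    rfl
  -- the orbit
  have horb : MulAction.orbit (setSystemAut B) ((a₀, b₀) : α × Finset α) =
      {f : α × Finset α | f.2 ∈ B ∧ f.1 ∉ f.2} := by
    ext f
    rw [MulAction.mem_orbit_iff, Set.mem_ofPred_eq]
    constructor
    · rintro ⟨g, rfl⟩
      rw [hsm]
      refine ⟨((hmem g.1).mp g.2 b₀).mp hb₀, ?_⟩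
      intro hin
      obtain ⟨x, hx, hxe⟩ := mem_image.mp hin
      exact ha₀ ((g : Equiv.Perm α).injective hxe ▸ hx)
    · rintro ⟨hfb, hfa⟩
      obtain ⟨e, he, hea, hes, -⟩ := flag_iso hα hα hB hB hb₀ ha₀ hfb hfa
        (Finset.equivOfCardEq (hb₀6.trans (hB.1 _ hfb).symm))
      refine ⟨⟨e, (hmem e).mpr he⟩, ?_⟩
      rw [hsm]
      apply Prod.ext
      · exact hea
      · show b₀.image e = f.2
        apply eq_of_subset_of_card_le
        · intro y hy
          obtain ⟨x, hx, rfl⟩ := mem_image.mp hy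
          have := hes ⟨x, hx⟩
          simp only at this
          rw [this]
          exact Finset.coe_mem _
        · rw [card_image_of_injective _ e.injective, hb₀6, hB.1 _ hfb]
  -- the stabilizer
  have hstab : ∀ g : setSystemAut B, g ∈ MulAction.stabilizer (setSystemAut B)
      ((a₀, b₀) : α × Finset α) ↔ (g : Equiv.Perm α) a₀ = a₀ ∧ b₀.image (g : Equiv.Perm α) = b₀ := by
    intro g
    rw [MulAction.mem_stabilizer_iff, hsm, Prod.mk.injEq]
  have hpres : ∀ g : MulAction.stabilizer (setSystemAut B) ((a₀, b₀) : α × Finset α),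
      ∀ x, ((g.1 : Equiv.Perm α) x ∈ b₀) ↔ x ∈ b₀ := fun g x =>
    mem_iff_of_image_eq (g.1 : Equiv.Perm α) b₀ ((hstab g.1).mp g.2).2 x
  let ρ : MulAction.stabilizer (setSystemAut B) ((a₀, b₀) : α × Finset α) →
      Equiv.Perm {x // x ∈ b₀} := fun g => (g.1 : Equiv.Perm α).subtypePerm (hpres g)
  have hρ : ∀ g p, ((ρ g p : {x // x ∈ b₀}) : α) = (g.1 : Equiv.Perm α) p := fun g p => rfl
  have hbij : Function.Bijective ρ := by
    constructor
    · intro g g' hgg
      obtain ⟨e, -, -, -, huniq⟩ := flag_iso hα hα hB hB hb₀ ha₀ hb₀ ha₀ (ρ g)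
      have h1 := huniq (g.1 : Equiv.Perm α)
        (fun c hc => ((hmem g.1.1).mp g.1.2 c).mp hc) ((hstab g.1).mp g.2).1 (fun p => rfl)
      have h2 := huniq (g'.1 : Equiv.Perm α)
        (fun c hc => ((hmem g'.1.1).mp g'.1.2 c).mp hc) ((hstab g'.1).mp g'.2).1
        (fun p => by rw [hgg]; rfl)
      exact Subtype.ext (Subtype.ext (h1.trans h2.symm))
    · intro π
      obtain ⟨e, he, hea, hes, -⟩ := flag_iso hα hα hB hB hb₀ ha₀ hb₀ ha₀ π
      have hbe : b₀.image e = b₀ := by
        apply eq_of_subset_of_card_le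
        · intro y hy
          obtain ⟨x, hx, rfl⟩ := mem_image.mp hy
          have := hes ⟨x, hx⟩
          simp only at this
          rw [this]
          exact Finset.coe_mem _
        · rw [card_image_of_injective _ e.injective]
      refine ⟨⟨⟨e, (hmem e).mpr he⟩, (hstab _).mpr ⟨hea, hbe⟩⟩, ?_⟩
      apply Equiv.ext
      intro p
      apply Subtype.ext
      rw [hρ]
      exact hes p
  have hcard : Nat.card (MulAction.stabilizer (setSystemAut B) ((a₀, b₀) : α × Finset α)) = 720 := by
    rw [Nat.card_congr (Equiv.ofBijective ρ hbij), Nat.card_perm, Nat.card_eq_fintype_card,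
      Fintype.card_coe, hb₀6]
    rfl
  have h1 := Subgroup.card_mul_index
    (MulAction.stabilizer (setSystemAut B) ((a₀, b₀) : α × Finset α))
  rw [MulAction.index_stabilizer, horb, card_flags hα hB, hcard] at h1
  omega

end Order

end Cfsg.Agent.Helper4.S22Aut
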