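import Mathlib
import Cfsg.Agent.Helper4.S22Aut
import Cfsg.Agent.Helper4.HSGraph

/-!
# The automorphism group of the Higman–Sims graph has order 88704000
-/

set_option autoImplicit false
set_option linter.unusedSectionVars false

namespace Cfsg.Agent.Helper4.HSAut

open Finset Cfsg Cfsg.Agent.Helper4.Steiner22 Cfsg.Agent.Helper4.HSGraph

section Base

variable {V : Type*} [Fintype V] [DecidableEq V] {G : SimpleGraph V} [DecidableRel G.Adj]

theorem graphIso_base (hG : G.IsSRGWith 100 22 0 6) (o : V) :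
    ∃ f : G ≃g pointBlockGraph (design G o), f o = none :=
  ⟨{ toEquiv := Equiv.ofBijective (toPB G o) ⟨toPB_injective hG o, toPB_surjective hG o⟩
     map_rel_iff' := by
       intro v w
       exact toPB_adj hG o v w }, toPB_o o⟩

end Base

section PB

variable {α β : Type*} [Fintype α] [Fintype β] [DecidableEq α] [DecidableEq β]

theorem pbIso_of_equiv {B : Set (Finset α)} {B' : Set (Finset β)} (e : α ≃ β)
    (he : (fun b => b.image e) '' B = B') :
    ∃ g : pointBlockGraph B ≃g pointBlockGraph B', g none = none ∧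
      (∀ a, g (some (Sum.inl a)) = some (Sum.inl (e a))) ∧
      ∀ b : B, ∃ b' : B', g (some (Sum.inr b)) = some (Sum.inr b') ∧
        (b' : Finset β) = (b : Finset α).image e := by
  have hmem : ∀ b : B, (b : Finset α).image e ∈ B' := by
    intro b
    rw [← he]
    exact ⟨b.1, b.2, rfl⟩
  let f : B → B' := fun b => ⟨(b : Finset α).image e, hmem b⟩
  have hf : Function.Bijective f := by
    constructor
    · intro b c hbc
      apply Subtype.ext
      exact Finset.image_injective e.injective (congrArg Subtype.val hbc)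
    · rintro ⟨b', hb'⟩
      rw [← he] at hb'
      obtain ⟨b, hb, rfl⟩ := hb'
      exact ⟨⟨b, hb⟩, rfl⟩
  let F : B ≃ B' := Equiv.ofBijective f hf
  have hF : ∀ b : B, ((F b : B') : Finset β) = (b : Finset α).image e := fun b => rfl
  refine ⟨{ toEquiv := Equiv.optionCongr (Equiv.sumCongr e F), map_rel_iff' := ?_ }, rfl,
    fun a => rfl, fun b => ⟨F b, rfl, hF b⟩⟩
  rintro (_ | a | b) (_ | a' | b') <;>
    simp only [Equiv.optionCongr_apply, Option.map_none, Option.map_some, Equiv.sumCongr_apply,
      Sum.map_inl, Sum.map_inr, adj_none_none, adj_none_pt, adj_pt_none, adj_none_blk,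
      adj_blk_none, adj_pt_pt, adj_pt_blk, adj_blk_pt, adj_blk_blk, hF]
  · rw [mem_image]
    constructor
    · rintro ⟨x, hx, hxe⟩
      exact e.injective hxe ▸ hx
    · intro h
      exact ⟨a, h, rfl⟩
  · rw [mem_image]
    constructor
    · rintro ⟨x, hx, hxe⟩
      exact e.injective hxe ▸ hx
    · intro h
      exact ⟨a', h, rfl⟩
  · rw [disjoint_image e.injective, (Finset.image_injective e.injective).ne_iff]

end PB

section Unique

theorem hs_unique_base {V W : Type*} [Fintype V] [Fintype W] {G : SimpleGraph V}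
    {H : SimpleGraph W} [DecidableRel G.Adj] [DecidableRel H.Adj]
    (hG : G.IsSRGWith 100 22 0 6) (hH : H.IsSRGWith 100 22 0 6) (o : V) (o' : W) :
    ∃ f : G ≃g H, f o = o' := by
  classical
  obtain ⟨f, hf⟩ := graphIso_base hG o
  obtain ⟨f', hf'⟩ := graphIso_base hH o'
  obtain ⟨e, he⟩ := Cfsg.Agent.Helper4.S22Unique.s22_unique (card_Pts hG o) (card_Pts hH o')
    (isSteiner_design hG o) (isSteiner_design hH o')
  obtain ⟨g, hg, -, -⟩ := pbIso_of_equiv e he
  refine ⟨f.trans (g.trans f'.symm), ?_⟩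
  show f'.symm (g (f o)) = o'
  rw [hf, hg, ← hf', RelIso.symm_apply_apply]

end Unique

section Stab

open scoped Pointwise

variable {α : Type*} [Fintype α] [DecidableEq α] {B : Set (Finset α)}

theorem aut_pt (φ : pointBlockGraph B ≃g pointBlockGraph B) (h0 : φ none = none) (a : α) :
    ∃ a', φ (some (Sum.inl a)) = some (Sum.inl a') := by
  have h1 : (pointBlockGraph B).Adj (φ none) (φ (some (Sum.inl a))) :=
    φ.map_rel_iff.mpr (by simp)
  rw [h0] at h1
  rcases hx : φ (some (Sum.inl a)) with _ | a' | b'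
  · rw [hx] at h1
    simp at h1
  · exact ⟨a', rfl⟩
  · rw [hx] at h1
    simp at h1

theorem aut_blk (φ : pointBlockGraph B ≃g pointBlockGraph B) (h0 : φ none = none) (b : B) :
    ∃ b' : B, φ (some (Sum.inr b)) = some (Sum.inr b') := by
  have h1 : ¬ (pointBlockGraph B).Adj (φ none) (φ (some (Sum.inr b))) := by
    rw [φ.map_rel_iff]
    simp
  rw [h0] at h1
  rcases hx : φ (some (Sum.inr b)) with _ | a' | b'
  · have := φ.injective (hx.trans h0.symm)
    simp at this
  · rw [hx] at h1
    simp at h1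
  · exact ⟨b', rfl⟩

/-- the relation between an automorphism of the design and one of the graph -/
def Rel (σ : Equiv.Perm α) (φ : pointBlockGraph B ≃g pointBlockGraph B) : Prop :=
  φ none = none ∧ (∀ a, φ (some (Sum.inl a)) = some (Sum.inl (σ a))) ∧
    ∀ b : B, ∃ b' : B, φ (some (Sum.inr b)) = some (Sum.inr b') ∧
      (b' : Finset α) = (b : Finset α).image σ

theorem Rel.ext_aut {σ : Equiv.Perm α} {φ φ' : pointBlockGraph B ≃g pointBlockGraph B}
    (h : Rel σ φ) (h' : Rel σ φ') : φ = φ' := by
  apply RelIso.ext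
  rintro (_ | a | b)
  · rw [h.1, h'.1]
  · rw [h.2.1, h'.2.1]
  · obtain ⟨b1, hb1, e1⟩ := h.2.2 b
    obtain ⟨b2, hb2, e2⟩ := h'.2.2 b
    rw [hb1, hb2, Subtype.ext (e1.trans e2.symm)]

theorem Rel.ext_perm {σ σ' : Equiv.Perm α} {φ : pointBlockGraph B ≃g pointBlockGraph B}
    (h : Rel σ φ) (h' : Rel σ' φ) : σ = σ' := by
  apply Equiv.ext
  intro a
  have := (h.2.1 a).symm.trans (h'.2.1 a)
  simpa using this

theorem mem_setSystemAut_of_forall (σ : Equiv.Perm α) (h : ∀ b ∈ B, b.image σ ∈ B) :
    σ ∈ setSystemAut B := by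
  rw [Cfsg.Agent.Helper4.Plane4.mem_setSystemAut_iff]
  intro l
  refine ⟨h l, fun hl => ?_⟩
  let F : B → B := fun b => ⟨(b : Finset α).image σ, h b.1 b.2⟩
  have hF : Function.Injective F := by
    intro b c hbc
    apply Subtype.ext
    exact Finset.image_injective σ.injective (congrArg Subtype.val hbc)
  have hFs : Function.Surjective F := Finite.injective_iff_surjective.mp hF
  obtain ⟨b, hb⟩ := hFs ⟨l.image σ, hl⟩
  have : (b : Finset α).image σ = l.image σ := congrArg Subtype.val hb
  rw [← Finset.image_injective σ.injective this]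
  exact b.2

theorem exists_rel_of_mem {σ : Equiv.Perm α} (hσ : σ ∈ setSystemAut B) :
    ∃ φ : pointBlockGraph B ≃g pointBlockGraph B, Rel σ φ := by
  have he : (fun b : Finset α => b.image σ) '' B = B := MulAction.mem_stabilizer_iff.mp hσ
  exact pbIso_of_equiv σ he

theorem exists_rel_of_aut (φ : pointBlockGraph B ≃g pointBlockGraph B) (h0 : φ none = none) :
    ∃ σ : Equiv.Perm α, σ ∈ setSystemAut B ∧ Rel σ φ := by
  choose σ hσ using aut_pt φ h0
  choose τ hτ using aut_blk φ h0
  have hinj : Function.Injective σ := by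
    intro a a' haa
    have := (hσ a).trans ((congrArg (fun x => some (Sum.inl x)) haa).trans (hσ a').symm)
    simpa using φ.injective this
  let σp : Equiv.Perm α := Equiv.ofBijective σ (Finite.injective_iff_bijective.mp hinj)
  have hσp : ∀ a, σp a = σ a := fun a => rfl
  have hinc : ∀ (a : α) (b : B), a ∈ (b : Finset α) ↔ σ a ∈ (τ b : Finset α) := by
    intro a b
    rw [← adj_pt_blk a b, ← φ.map_rel_iff, hσ, hτ, adj_pt_blk]
  have himg : ∀ b : B, (τ b : Finset α) = (b : Finset α).image σp := by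
    intro b
    ext x
    rw [mem_image]
    constructor
    · intro hx
      refine ⟨σp.symm x, ?_, σp.apply_symm_apply x⟩
      rw [hinc, ← hσp, σp.apply_symm_apply]
      exact hx
    · rintro ⟨a, ha, rfl⟩
      rw [hσp, ← hinc]
      exact ha
  refine ⟨σp, mem_setSystemAut_of_forall σp ?_, h0, fun a => hσ a, fun b => ⟨τ b, hτ b, himg b⟩⟩
  intro b hb
  rw [← himg ⟨b, hb⟩]
  exact (τ ⟨b, hb⟩).2

theorem card_stabilizer_none :
    Nat.card (MulAction.stabilizer (pointBlockGraph B ≃g pointBlockGraph B)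
      (none : Option (α ⊕ B))) = Nat.card (setSystemAut B) := by
  choose Ψ hΨ using fun σ : setSystemAut B => exists_rel_of_mem σ.2
  let Ψ' : setSystemAut B → MulAction.stabilizer (pointBlockGraph B ≃g pointBlockGraph B)
      (none : Option (α ⊕ B)) := fun σ => ⟨Ψ σ, (hΨ σ).1⟩
  have hbij : Function.Bijective Ψ' := by
    constructor
    · intro σ σ' h
      have h1 : Ψ σ = Ψ σ' := congrArg Subtype.val h
      have h2 := hΨ σ'
      rw [← h1] at h2
      exact Subtype.ext ((hΨ σ).ext_perm h2)
    · rintro ⟨φ, hφ⟩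
      obtain ⟨σ, hσ, hrel⟩ := exists_rel_of_aut φ hφ
      exact ⟨⟨σ, hσ⟩, Subtype.ext ((hΨ ⟨σ, hσ⟩).ext_aut hrel)⟩
  exact (Nat.card_congr (Equiv.ofBijective Ψ' hbij)).symm

end Stab

section Final

variable {α : Type*} [Fintype α] [DecidableEq α]

theorem card_aut (hα : Fintype.card α = 22) {B : Set (Finset α)} (hB : IsSteinerSystem 3 6 B) :
    Nat.card (pointBlockGraph B ≃g pointBlockGraph B) = 88704000 := by
  classical
  haveI : Fintype B := Fintype.ofFinite B
  have hΓ : (pointBlockGraph B).IsSRGWith 100 22 0 6 := pointBlockGraph_srg hα hB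
  have horb : MulAction.orbit (pointBlockGraph B ≃g pointBlockGraph B)
      (none : Option (α ⊕ B)) = Set.univ := by
    ext x
    simp only [Set.mem_univ, iff_true]
    obtain ⟨f, hf⟩ := hs_unique_base hΓ hΓ none x
    exact ⟨f, hf⟩
  have h1 := Subgroup.card_mul_index
    (MulAction.stabilizer (pointBlockGraph B ≃g pointBlockGraph B) (none : Option (α ⊕ B)))
  rw [MulAction.index_stabilizer, horb, Set.ncard_univ, card_stabilizer_none,
    Cfsg.Agent.Helper4.S22Aut.card_setSystemAut hα hB, Nat.card_eq_fintype_card, hΓ.card] at h1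
  omega

end Final

end Cfsg.Agent.Helper4.HSAut
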