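import Mathlib

/-!
# A simplicity criterion for rank three groups of degree 100
-/

set_option autoImplicit false
set_option linter.unusedSectionVars false
set_option linter.unusedVariables false

namespace Cfsg.Agent.Helper4.HSSimple

open MulAction

section Abstract

variable {G V : Type*} [Group G] [Finite G] [Fintype V] [DecidableEq V] [MulAction G V]
  [FaithfulSMul G V]

/-- A normal subgroup fixing a point of a transitive faithful action is trivial. -/
theorem eq_bot_of_fix [IsPretransitive G V] {N : Subgroup G} [hN : N.Normal] {x : V}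
    (h : ∀ n ∈ N, n • x = x) : N = ⊥ := by
  rw [Subgroup.eq_bot_iff_forall]
  intro n hn
  apply FaithfulSMul.eq_of_smul_eq_smul (α := V)
  intro v
  obtain ⟨g, rfl⟩ := exists_smul_eq G x v
  have h1 : g⁻¹ * n * g ∈ N := hN.conj_mem' n hn g
  have h2 := h _ h1
  rw [one_smul]
  calc n • g • x = g • (g⁻¹ * n * g) • x := by simp [mul_smul]
    _ = g • x := by rw [h2]

theorem transitive_of_normal (hV : Fintype.card V = 100) [IsPretransitive G V] (x : V)
    (S₁ S₂ : Finset V) (h1 : S₁.card = 22) (h2 : S₂.card = 77)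
    (hcover : ∀ v, v = x ∨ v ∈ S₁ ∨ v ∈ S₂)
    (htr1 : ∀ v ∈ S₁, ∀ w ∈ S₁, ∃ g : G, g • x = x ∧ g • v = w)
    (htr2 : ∀ v ∈ S₂, ∀ w ∈ S₂, ∃ g : G, g • x = x ∧ g • v = w)
    (N : Subgroup G) [hN : N.Normal] (hNb : N ≠ ⊥) : ∀ v, ∃ n ∈ N, n • x = v := by
  classical
  have hblock : IsBlock G (orbit N x) := IsBlock.orbit_of_normal x
  have hdvd := hblock.ncard_dvd_card ⟨x, mem_orbit_self x⟩
  rw [Nat.card_eq_fintype_card, hV] at hdvd
  have hmemO : ∀ v, v ∈ orbit N x ↔ ∃ n ∈ N, n • x = v := by
    intro v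
    constructor
    · rintro ⟨⟨n, hn⟩, rfl⟩
      exact ⟨n, hn, rfl⟩
    · rintro ⟨n, hn, rfl⟩
      exact ⟨⟨n, hn⟩, rfl⟩
  have hinv : ∀ g : G, g • x = x → ∀ v ∈ orbit N x, g • v ∈ orbit N x := by
    intro g hg v hv
    obtain ⟨n, hn, rfl⟩ := (hmemO v).mp hv
    refine (hmemO _).mpr ⟨g * n * g⁻¹, hN.conj_mem n hn g, ?_⟩
    rw [mul_smul, mul_smul]
    congr 2
    rw [inv_smul_eq_iff, hg]
  have hsub1 : (∃ v ∈ S₁, v ∈ orbit N x) → ∀ w ∈ S₁, w ∈ orbit N x := by
    rintro ⟨v, hv, hvO⟩ w hw
    obtain ⟨g, hgx, rfl⟩ := htr1 v hv w hw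
    exact hinv g hgx v hvO
  have hsub2 : (∃ v ∈ S₂, v ∈ orbit N x) → ∀ w ∈ S₂, w ∈ orbit N x := by
    rintro ⟨v, hv, hvO⟩ w hw
    obtain ⟨g, hgx, rfl⟩ := htr2 v hv w hw
    exact hinv g hgx v hvO
  set Of : Finset V := Finset.univ.filter (fun v => v ∈ orbit N x) with hOf
  have hcardO : (orbit N x).ncard = Of.card := by
    rw [← Set.ncard_coe_finset]
    congr 1
    ext v
    simp [hOf]
  rw [hcardO] at hdvd
  by_cases c1 : ∃ v ∈ S₁, v ∈ orbit N x
  · by_cases c2 : ∃ v ∈ S₂, v ∈ orbit N x
    · intro v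
      rw [← hmemO]
      rcases hcover v with rfl | hv | hv
      · exact mem_orbit_self _
      · exact hsub1 c1 v hv
      · exact hsub2 c2 v hv
    · exfalso
      have hle : S₁ ⊆ Of := by
        intro w hw
        rw [hOf, Finset.mem_filter]
        exact ⟨Finset.mem_univ _, hsub1 c1 w hw⟩
      have hge : Of ⊆ insert x S₁ := by
        intro w hw
        rw [hOf, Finset.mem_filter] at hw
        rcases hcover w with rfl | hw' | hw'
        · exact Finset.mem_insert_self _ _
        · exact Finset.mem_insert_of_mem hw'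
        · exact (c2 ⟨w, hw', hw.2⟩).elim
      have hc1 := Finset.card_le_card hle
      have hc2 := (Finset.card_le_card hge).trans (Finset.card_insert_le _ _)
      rw [h1] at hc1 hc2
      have : Of.card = 22 ∨ Of.card = 23 := by omega
      rcases this with h | h <;> rw [h] at hdvd <;> norm_num at hdvd
  · by_cases c2 : ∃ v ∈ S₂, v ∈ orbit N x
    · exfalso
      have hle : S₂ ⊆ Of := by
        intro w hw
        rw [hOf, Finset.mem_filter]
        exact ⟨Finset.mem_univ _, hsub2 c2 w hw⟩
      have hge : Of ⊆ insert x S₂ := by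
        intro w hw
        rw [hOf, Finset.mem_filter] at hw
        rcases hcover w with rfl | hw' | hw'
        · exact Finset.mem_insert_self _ _
        · exact (c1 ⟨w, hw', hw.2⟩).elim
        · exact Finset.mem_insert_of_mem hw'
      have hc1 := Finset.card_le_card hle
      have hc2 := (Finset.card_le_card hge).trans (Finset.card_insert_le _ _)
      rw [h2] at hc1 hc2
      have : Of.card = 77 ∨ Of.card = 78 := by omega
      rcases this with h | h <;> rw [h] at hdvd <;> norm_num at hdvd
    · exfalso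
      apply hNb
      apply eq_bot_of_fix (x := x)
      intro n hn
      have hO : n • x ∈ orbit N x := (hmemO _).mpr ⟨n, hn, rfl⟩
      rcases hcover (n • x) with h | h | h
      · exact h
      · exact (c1 ⟨_, h, hO⟩).elim
      · exact (c2 ⟨_, h, hO⟩).elim

theorem simple_of_rank3 (hV : Fintype.card V = 100) [IsPretransitive G V] (x : V)
    (hsimple : IsSimpleGroup (stabilizer G x))
    (S₁ S₂ : Finset V) (h1 : S₁.card = 22) (h2 : S₂.card = 77)
    (hcover : ∀ v, v = x ∨ v ∈ S₁ ∨ v ∈ S₂)
    (htr1 : ∀ v ∈ S₁, ∀ w ∈ S₁, ∃ g : G, g • x = x ∧ g • v = w)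
    (htr2 : ∀ v ∈ S₂, ∀ w ∈ S₂, ∃ g : G, g • x = x ∧ g • v = w) : IsSimpleGroup G := by
  classical
  have hnt : Nontrivial G := by
    obtain ⟨a, b, hab⟩ := hsimple.toNontrivial
    exact ⟨a.1, b.1, fun h => hab (Subtype.ext h)⟩
  refine ⟨fun N hN => ?_⟩
  by_contra hcon
  push Not at hcon
  obtain ⟨hbot, htop⟩ := hcon
  have htrans := transitive_of_normal hV x S₁ S₂ h1 h2 hcover htr1 htr2 N hbot
  have hKn : (N.subgroupOf (stabilizer G x)).Normal := hN.subgroupOf _
  rcases hsimple.eq_bot_or_eq_top_of_normal _ hKn with hK | hK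
  · -- the regular case
    rw [Subgroup.subgroupOf_eq_bot] at hK
    have hstab : stabilizer N x = ⊥ := by
      rw [Subgroup.eq_bot_iff_forall]
      rintro ⟨n, hn⟩ hnx
      have h3 : n ∈ N ⊓ stabilizer G x := ⟨hn, hnx⟩
      rw [hK.eq_bot, Subgroup.mem_bot] at h3
      exact Subtype.ext h3
    have horb : orbit N x = Set.univ := by
      ext v
      simp only [Set.mem_univ, iff_true]
      obtain ⟨n, hn, rfl⟩ := htrans v
      exact ⟨⟨n, hn⟩, rfl⟩
    have hNcard : Nat.card N = 100 := by
      have h3 := Subgroup.card_mul_index (stabilizer N x)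
      rw [index_stabilizer, horb, Set.ncard_univ, Nat.card_eq_fintype_card (α := V), hV, hstab,
        Subgroup.card_bot] at h3
      omega
    have : Fact (Nat.Prime 5) := ⟨by norm_num⟩
    obtain ⟨P⟩ : Nonempty (Sylow 5 N) := inferInstance
    have hPcard : Nat.card P = 25 := by
      rw [Sylow.card_eq_multiplicity, hNcard]
      have : (100 : ℕ).factorization 5 = 2 := by
        rw [show (100 : ℕ) = 5 ^ 2 * 4 from rfl,
          Nat.factorization_mul (by norm_num) (by norm_num)]
        have h1 : (5 ^ 2 : ℕ).factorization 5 = 2 := by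
          rw [Nat.Prime.factorization_pow (by norm_num)]
          simp
        have h2 : (4 : ℕ).factorization 5 = 0 :=
          Nat.factorization_eq_zero_of_not_dvd (by norm_num)
        rw [Finsupp.add_apply, h1, h2]
      rw [this]
      norm_num
    have hPidx : (P : Subgroup N).index = 4 := by
      have := Subgroup.card_mul_index (P : Subgroup N)
      rw [hPcard, hNcard] at this
      omega
    have hsyl1 := card_sylow_modEq_one 5 N
    have hsyl2 := P.card_dvd_index
    rw [hPidx] at hsyl2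
    have hsyl3 : Nat.card (Sylow 5 N) = 1 := by
      have hle := Nat.le_of_dvd (by norm_num) hsyl2
      have hmod : Nat.card (Sylow 5 N) % 5 = 1 := hsyl1
      interval_cases h : Nat.card (Sylow 5 N) <;> simp_all
    have : Subsingleton (Sylow 5 N) := (Nat.card_eq_one_iff_unique.mp hsyl3).1
    have : (P : Subgroup N).Characteristic := Sylow.characteristic_of_subsingleton P
    have hPn : ((P : Subgroup N).map N.subtype).Normal := inferInstance
    have hP'card : Nat.card ((P : Subgroup N).map N.subtype) = 25 := by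
      rw [← hPcard]
      exact Nat.card_congr
        ((P : Subgroup N).equivMapOfInjective N.subtype N.subtype_injective).symm.toEquiv
    have hP'ne : (P : Subgroup N).map N.subtype ≠ ⊥ := by
      intro h
      rw [h, Subgroup.card_bot] at hP'card
      norm_num at hP'card
    have htrP := transitive_of_normal hV x S₁ S₂ h1 h2 hcover htr1 htr2
      ((P : Subgroup N).map N.subtype) hP'ne
    have hsurj : Function.Surjective
        (fun p : ((P : Subgroup N).map N.subtype) => (p : G) • x) := by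
      intro v
      obtain ⟨n, hn, hnv⟩ := htrP v
      exact ⟨⟨n, hn⟩, hnv⟩
    have := Nat.card_le_card_of_surjective _ hsurj
    rw [hP'card, Nat.card_eq_fintype_card, hV] at this
    omega
  · -- the stabilizer lies in `N`
    rw [Subgroup.subgroupOf_eq_top] at hK
    apply htop
    rw [eq_top_iff]
    intro g _
    obtain ⟨n, hn, hnx⟩ := htrans (g • x)
    have h3 : n⁻¹ * g ∈ stabilizer G x := by
      rw [mem_stabilizer_iff, mul_smul, ← hnx, inv_smul_smul]
    have h4 : n * (n⁻¹ * g) ∈ N := N.mul_mem hn (hK h3)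
    rwa [mul_inv_cancel_left] at h4

end Abstract


section Kernel

variable {A V : Type*} [Group A] [Finite A] [Fintype V] [DecidableEq V] [MulAction A V]
  [FaithfulSMul A V]

theorem units_int_eq (u : ℤˣ) : u = 1 ∨ u = -1 := Int.units_eq_one_or u

/-- Adjusting an element by an odd element of a stabilizer. -/
theorem exists_ker_adjust (s : A →* ℤˣ) {t : A} (hst : s t = -1) (a : A) :
    a ∈ s.ker ∨ a * t ∈ s.ker := by
  rcases units_int_eq (s a) with h | h
  · exact Or.inl h
  · right
    rw [MonoidHom.mem_ker, map_mul, h, hst]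
    simp

theorem ker_simple (hV : Fintype.card V = 100) (hA : Nat.card A = 88704000)
    [IsPretransitive A V] (x : V)
    (S₁ S₂ : Finset V) (h1 : S₁.card = 22) (h2 : S₂.card = 77)
    (hcover : ∀ v, v = x ∨ v ∈ S₁ ∨ v ∈ S₂)
    (htr1 : ∀ v ∈ S₁, ∀ w ∈ S₁, ∃ g : A, g • x = x ∧ g • v = w)
    (htr2 : ∀ v ∈ S₂, ∀ w ∈ S₂, ∃ g : A, g • x = x ∧ g • v = w)
    (M : Subgroup A) (hMx : M ≤ stabilizer A x) (hMs : IsSimpleGroup M)
    (hMc : Nat.card M = 443520)
    (s : A →* ℤˣ) (t : A) (hst : s t = -1) (htx : t • x = x)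
    (y₁ : V) (hy₁ : y₁ ∈ S₁) (hty₁ : t • y₁ = y₁)
    (y₂ : V) (hy₂ : y₂ ∈ S₂) (hty₂ : t • y₂ = y₂) :
    IsSimpleGroup s.ker ∧ Nat.card s.ker = 44352000 := by
  classical
  -- the order of the kernel
  have hrange : Nat.card s.range = 2 := by
    have htop : s.range = ⊤ := by
      rw [eq_top_iff]
      intro u _
      rcases units_int_eq u with rfl | rfl
      · exact s.range.one_mem
      · exact ⟨t, hst⟩
    rw [htop, Subgroup.card_top]
    simp
  have hcard : Nat.card s.ker = 44352000 := by
    have h3 := Subgroup.card_mul_index s.ker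
    rw [Subgroup.index_ker, hrange, hA] at h3
    omega
  refine ⟨?_, hcard⟩
  -- the action of the kernel
  have : FaithfulSMul s.ker V := ⟨fun {k₁ k₂} h => Subtype.ext
    (FaithfulSMul.eq_of_smul_eq_smul (α := V) (fun v => h v))⟩
  have : IsPretransitive s.ker V := by
    refine ⟨fun v w => ?_⟩
    obtain ⟨a, rfl⟩ := exists_smul_eq A v w
    obtain ⟨b, rfl⟩ := exists_smul_eq A x v
    -- move `x` to `b • x` and to `a • b • x` inside the kernel
    have key : ∀ c : A, ∃ k : s.ker, k • x = c • x := by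
      intro c
      rcases exists_ker_adjust s hst c with h | h
      · exact ⟨⟨c, h⟩, rfl⟩
      · refine ⟨⟨c * t, h⟩, ?_⟩
        show (c * t) • x = c • x
        rw [mul_smul, htx]
    obtain ⟨k₁, hk₁⟩ := key b
    obtain ⟨k₂, hk₂⟩ := key (a * b)
    refine ⟨k₂ * k₁⁻¹, ?_⟩
    rw [mul_smul, ← hk₁, inv_smul_smul, hk₂, mul_smul, hk₁]
  have htr : ∀ (S : Finset V) (y : V), y ∈ S → t • y = y →
      (∀ v ∈ S, ∀ w ∈ S, ∃ g : A, g • x = x ∧ g • v = w) →
      ∀ v ∈ S, ∀ w ∈ S, ∃ g : s.ker, g • x = x ∧ g • v = w := by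
    intro S y hy hty htrS v hv w hw
    have key : ∀ u ∈ S, ∃ k : s.ker, k • x = x ∧ k • y = u := by
      intro u hu
      obtain ⟨c, hcx, hcy⟩ := htrS y hy u hu
      rcases exists_ker_adjust s hst c with h | h
      · exact ⟨⟨c, h⟩, hcx, hcy⟩
      · refine ⟨⟨c * t, h⟩, ?_, ?_⟩
        · show (c * t) • x = x
          rw [mul_smul, htx, hcx]
        · show (c * t) • y = u
          rw [mul_smul, hty, hcy]
    obtain ⟨k₁, hk₁x, hk₁y⟩ := key v hv
    obtain ⟨k₂, hk₂x, hk₂y⟩ := key w hw
    refine ⟨k₂ * k₁⁻¹, ?_, ?_⟩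
    · rw [mul_smul, inv_smul_eq_iff.mpr hk₁x.symm, hk₂x]
    · rw [mul_smul, ← hk₁y, inv_smul_smul, hk₂y]
  -- `M` lies in the kernel
  have hMker : ∀ m ∈ M, s m = 1 := by
    have hn : (s.comp M.subtype).ker.Normal := inferInstance
    rcases hMs.eq_bot_or_eq_top_of_normal _ hn with h | h
    · exfalso
      have hinj : Function.Injective (s.comp M.subtype) := (MonoidHom.ker_eq_bot_iff _).mp h
      have := Nat.card_le_card_of_injective _ hinj
      rw [hMc] at this
      simp at this
    · intro m hm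
      have : (⟨m, hm⟩ : M) ∈ (s.comp M.subtype).ker := by rw [h]; exact Subgroup.mem_top _
      exact this
  -- the stabilizer in the kernel
  have hstabcard : Nat.card (stabilizer s.ker x) = 443520 := by
    have h3 := Subgroup.card_mul_index (stabilizer s.ker x)
    rw [index_stabilizer_of_transitive, Nat.card_eq_fintype_card (α := V), hV, hcard] at h3
    omega
  let ι : M →* stabilizer s.ker x :=
    { toFun := fun m => ⟨⟨m.1, hMker m.1 m.2⟩, hMx m.2⟩
      map_one' := rfl
      map_mul' := fun _ _ => rfl }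
  have hιinj : Function.Injective ι := by
    intro m m' h
    exact Subtype.ext (congrArg (fun k : stabilizer s.ker x => ((k : s.ker) : A)) h)
  have hιsurj : Function.Surjective ι := by
    have hfin : Finite (stabilizer s.ker x) := inferInstance
    have hbij : Function.Bijective ι := by
      rw [Nat.bijective_iff_injective_and_card]
      exact ⟨hιinj, by rw [hMc, hstabcard]⟩
    exact hbij.2
  have : Nontrivial (stabilizer s.ker x) := by
    rw [← Finite.one_lt_card_iff_nontrivial, hstabcard]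
    norm_num
  have hstabsimple : IsSimpleGroup (stabilizer s.ker x) :=
    IsSimpleGroup.isSimpleGroup_of_surjective ι hιsurj
  exact simple_of_rank3 hV x hstabsimple S₁ S₂ h1 h2 hcover (htr S₁ y₁ hy₁ hty₁ htr1)
    (htr S₂ y₂ hy₂ hty₂ htr2)

end Kernel

end Cfsg.Agent.Helper4.HSSimple
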