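import Mathlib
import Cfsg.Agent.Helper4.S22Aut
import Cfsg.Agent.Helper4.M12Rigid

/-!
# The automorphism group of the Steiner system `S(3,6,22)`
-/

set_option autoImplicit false
set_option linter.unusedSectionVars false
set_option linter.unusedVariables false

namespace Cfsg.Agent.Helper4.S22Group

open Finset Cfsg Function Cfsg.Agent.Helper4.SteinerOpt Cfsg.Agent.Helper4.S22Unique
  Cfsg.Agent.Helper4.Plane4 Cfsg.Agent.Helper4.M12Rigid

section Trans

variable {α : Type*} [Fintype α] [DecidableEq α]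

theorem exists_flag (hα : Fintype.card α = 22) {B : Set (Finset α)}
    (hB : IsSteinerSystem 3 6 B) (x : Fin 3 ↪ α) :
    ∃ b ∈ B, x 0 ∉ b ∧ x 1 ∈ b ∧ x 2 ∈ b := by
  have h01 : x 0 ≠ x 1 := fun h => absurd (x.injective h) (by decide)
  have h02 : x 0 ≠ x 2 := fun h => absurd (x.injective h) (by decide)
  have h12 : x 1 ≠ x 2 := fun h => absurd (x.injective h) (by decide)
  obtain ⟨b1, ⟨hb1, hS1⟩, hu1⟩ := hB.2 {x 0, x 1, x 2} (by
    rw [card_insert_of_notMem, card_pair h12]
    simp only [mem_insert, mem_singleton, not_or]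
    exact ⟨h01, h02⟩)
  obtain ⟨z, -, hz⟩ := exists_mem_notMem_of_card_lt_card
    (by rw [hB.1 b1 hb1, card_univ, hα]; norm_num : b1.card < (univ : Finset α).card)
  have hz1 : z ≠ x 1 := fun h => hz (h ▸ hS1 (by simp))
  have hz2 : z ≠ x 2 := fun h => hz (h ▸ hS1 (by simp))
  obtain ⟨b, ⟨hb, hS2⟩, -⟩ := hB.2 {z, x 1, x 2} (by
    rw [card_insert_of_notMem, card_pair h12]
    simp only [mem_insert, mem_singleton, not_or]
    exact ⟨hz1, hz2⟩)
  refine ⟨b, hb, ?_, hS2 (by simp), hS2 (by simp)⟩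
  intro h0
  have : b = b1 := hu1 b ⟨hb, by
    intro y hy
    simp only [mem_insert, mem_singleton] at hy
    rcases hy with rfl | rfl | rfl
    · exact h0
    · exact hS2 (by simp)
    · exact hS2 (by simp)⟩
  exact hz (this ▸ hS2 (by simp))

theorem s22_trans (hα : Fintype.card α = 22) {B : Set (Finset α)}
    (hB : IsSteinerSystem 3 6 B) : MulAction.IsMultiplyPretransitive (setSystemAut B) α 3 := by
  refine ⟨fun x y => ?_⟩
  obtain ⟨b, hb, hx0, hx1, hx2⟩ := exists_flag hα hB x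
  obtain ⟨b', hb', hy0, hy1, hy2⟩ := exists_flag hα hB y
  have hcard : Fintype.card {z // z ∈ b} = Fintype.card {z // z ∈ b'} := by
    rw [Fintype.card_coe, Fintype.card_coe, hB.1 b hb, hB.1 b' hb']
  have hu : Injective (![⟨x 1, hx1⟩, ⟨x 2, hx2⟩] : Fin 2 → {z // z ∈ b}) := by
    intro i j h
    fin_cases i <;> fin_cases j <;> first | rfl | (exfalso; revert h; simp [x.injective.eq_iff])
  have hw : Injective (![⟨y 1, hy1⟩, ⟨y 2, hy2⟩] : Fin 2 → {z // z ∈ b'}) := by
    intro i j h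
    fin_cases i <;> fin_cases j <;> first | rfl | (exfalso; revert h; simp [y.injective.eq_iff])
  obtain ⟨s, hs⟩ := exists_equiv_extending ⟨_, hu⟩ ⟨_, hw⟩ ⟨Fintype.equivOfCardEq hcard⟩
  obtain ⟨e, he, hea, hes, -⟩ := Cfsg.Agent.Helper4.S22Aut.flag_iso hα hα hB hB hb hx0 hb' hy0 s
  refine ⟨⟨e, (mem_setSystemAut_iff B e).mpr he⟩, ?_⟩
  ext i
  show e (x i) = y i
  fin_cases i
  · exact hea
  · have h1 := hes ⟨x 1, hx1⟩
    have h2 : s ⟨x 1, hx1⟩ = ⟨y 1, hy1⟩ := hs 0
    show e (x 1) = y 1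
    rw [h1, h2]
  · have h1 := hes ⟨x 2, hx2⟩
    have h2 : s ⟨x 2, hx2⟩ = ⟨y 2, hy2⟩ := hs 1
    show e (x 2) = y 2
    rw [h1, h2]

end Trans

section Transfer

variable {X α : Type*} [DecidableEq X] [DecidableEq α]

/-- Restriction of the two-point stabilizer of an extension to the derived design. -/
theorem exists_hom (O : Set (Finset X)) (B : Set (Finset α)) (p q : X) (j : α → X)
    (hj : Injective j) (hrange : ∀ x, x ≠ p → x ≠ q → ∃ a, j a = x) (hjp : ∀ a, j a ≠ p)
    (hjq : ∀ a, j a ≠ q)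
    (hB : ∀ l : Finset α, l ∈ B ↔ insert p (insert q (l.image j)) ∈ O) :
    ∃ ψ : ↥(MulAction.stabilizer (setSystemAut O) p ⊓ MulAction.stabilizer (setSystemAut O) q) →*
      setSystemAut B, Injective ψ := by
  classical
  let K := ↥(MulAction.stabilizer (setSystemAut O) p ⊓ MulAction.stabilizer (setSystemAut O) q)
  let θ : K → Equiv.Perm X := fun k => ((k : setSystemAut O) : Equiv.Perm X)
  have hθmul : ∀ k k' : K, ∀ x, θ (k * k') x = θ k (θ k' x) := fun k k' x => rfl
  have hθone : ∀ x, θ (1 : K) x = x := fun x => rfl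
  have hθp : ∀ k : K, θ k p = p := fun k => k.2.1
  have hθq : ∀ k : K, θ k q = q := fun k => k.2.2
  have hθO : ∀ k : K, ∀ c, c ∈ O ↔ c.image (θ k) ∈ O := fun k =>
    (mem_setSystemAut_iff O _).mp (k : setSystemAut O).2
  have h1 : ∀ (k : K) (a : α), θ k (j a) ≠ p := by
    intro k a h
    rw [← hθp k] at h
    exact hjp a ((θ k).injective h)
  have h2 : ∀ (k : K) (a : α), θ k (j a) ≠ q := by
    intro k a h
    rw [← hθq k] at h
    exact hjq a ((θ k).injective h)
  let fwd : K → α → α := fun k a => Classical.choose (hrange (θ k (j a)) (h1 k a) (h2 k a))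
  have hfwd : ∀ k a, j (fwd k a) = θ k (j a) := fun k a =>
    Classical.choose_spec (hrange (θ k (j a)) (h1 k a) (h2 k a))
  have hmul : ∀ k k' a, fwd (k * k') a = fwd k (fwd k' a) := by
    intro k k' a
    apply hj
    rw [hfwd, hfwd, hfwd, hθmul]
  have hone : ∀ a, fwd 1 a = a := by
    intro a
    apply hj
    rw [hfwd, hθone]
  let ψ₀ : K → Equiv.Perm α := fun k =>
    ⟨fwd k, fwd k⁻¹, fun a => by rw [← hmul, inv_mul_cancel, hone],
      fun a => by rw [← hmul, mul_inv_cancel, hone]⟩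
  have hmem : ∀ k, ψ₀ k ∈ setSystemAut B := by
    intro k
    rw [mem_setSystemAut_iff]
    intro l
    have e1 : (l.image (ψ₀ k)).image j = (l.image j).image (θ k) := by
      rw [image_image, image_image]
      apply image_congr
      intro a _
      exact hfwd k a
    have e2 : insert p (insert q ((l.image j).image (θ k))) =
        (insert p (insert q (l.image j))).image (θ k) := by
      rw [image_insert, image_insert, hθp, hθq]
    rw [hB, hB (l.image (ψ₀ k)), e1, e2]
    exact hθO k _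
  refine ⟨⟨⟨fun k => ⟨ψ₀ k, hmem k⟩, Subtype.ext (Equiv.ext hone)⟩,
    fun k k' => Subtype.ext (Equiv.ext (hmul k k'))⟩, ?_⟩
  intro k k' hkk
  have h3 : ∀ a, fwd k a = fwd k' a := fun a =>
    congrArg (fun t : setSystemAut B => (t : Equiv.Perm α) a) hkk
  have h4 : θ k = θ k' := by
    ext1 x
    by_cases hxp : x = p
    · rw [hxp, hθp, hθp]
    by_cases hxq : x = q
    · rw [hxq, hθq, hθq]
    obtain ⟨a, rfl⟩ := hrange x hxp hxq
    rw [← hfwd, ← hfwd, h3]
  exact Subtype.ext (Subtype.ext h4)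

end Transfer

end Cfsg.Agent.Helper4.S22Group
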