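import Mathlib
import Cfsg.Agent.Helper4.S22Group
import Cfsg.Agent.S0351
import Cfsg.Agent.S0363
import Cfsg.Agent.S0369
import Cfsg.Agent.S0378
import Cfsg.Agent.S0379
import Cfsg.Prelude.Def_Sporadic

set_option autoImplicit false
set_option linter.unusedSectionVars false
set_option linter.unusedVariables false

namespace Cfsg.Agent.Helper4.S22Group

open Finset Cfsg Function Cfsg.Agent.Helper4.SteinerOpt Cfsg.Agent.Helper4.S22Unique
  Cfsg.Agent.Helper4.Plane4 Cfsg.Agent.Helper4.M12Rigid

section Setup

variable {α : Type*} [Fintype α] [DecidableEq α]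

theorem golayPt_card : Fintype.card GolayPt = 24 := by
  simp [GolayPt, Fintype.card_option, ZMod.card]

/-- Every `S(3,6,22)` is the doubly derived design of the octad system. -/
theorem exists_embedding (hα : Fintype.card α = 22) {B : Set (Finset α)}
    (hB : IsSteinerSystem 3 6 B) (p q : GolayPt) (hpq : p ≠ q) :
    ∃ j : α → GolayPt, Injective j ∧ (∀ x, x ≠ p → x ≠ q → ∃ a, j a = x) ∧ (∀ a, j a ≠ p) ∧
      (∀ a, j a ≠ q) ∧ ∀ l : Finset α, l ∈ B ↔ insert p (insert q (l.image j)) ∈ octads := by
  have hO := Cfsg.Agent.S0363.result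
  set q' : Pt p := ⟨q, fun h => hpq h.symm⟩ with hq'
  have hD23 : IsSteinerSystem 4 7 (der octads p) := Cfsg.Agent.S0351.result hO p
  have hD22 : IsSteinerSystem 3 6 (der (der octads p) q') := Cfsg.Agent.S0351.result hD23 q'
  have hc23 : Fintype.card (Pt p) = 23 := by rw [card_Pt, golayPt_card]
  have hc22 : Fintype.card (Pt q') = 22 := by rw [card_Pt, hc23]
  obtain ⟨e, he⟩ := s22_unique hc22 hα hD22 hB
  refine ⟨fun a => ((e.symm a).1).1, ?_, ?_, ?_, ?_, ?_⟩
  · intro a a' h
    exact e.symm.injective (Subtype.ext (Subtype.ext h))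
  · intro x hxp hxq
    refine ⟨e ⟨⟨x, hxp⟩, fun h => hxq (congrArg Subtype.val h)⟩, ?_⟩
    simp
  · intro a
    exact (e.symm a).1.2
  · intro a h
    exact (e.symm a).2 (Subtype.ext h)
  · intro l
    have h1 : l ∈ B ↔ l.image e.symm ∈ der (der octads p) q' := by
      rw [← he]
      constructor
      · rintro ⟨m, hm, rfl⟩
        rw [image_image]
        simpa using hm
      · intro hm
        refine ⟨_, hm, ?_⟩
        show (l.image e.symm).image e = l
        rw [image_image]
        simp
    rw [h1, mem_der_iff, mem_der_iff]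
    have h2 : insert p (up p (insert q' (up q' (l.image e.symm)))) =
        insert p (insert q (l.image (fun a => ((e.symm a).1).1))) := by
      ext x
      simp only [mem_insert, mem_up, mem_image]
      constructor
      · rintro (hxp | ⟨hx, hxq | ⟨hx', a, ha, hae⟩⟩)
        · exact Or.inl hxp
        · exact Or.inr (Or.inl (congrArg Subtype.val hxq))
        · refine Or.inr (Or.inr ⟨a, ha, ?_⟩)
          rw [hae]
      · rintro (hxp | hxq | ⟨a, ha, hax⟩)
        · exact Or.inl hxp
        · subst hxq
          exact Or.inr ⟨fun h => hpq h.symm, Or.inl rfl⟩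
        · subst hax
          exact Or.inr ⟨(e.symm a).1.2, Or.inr ⟨(e.symm a).2, a, ha, rfl⟩⟩
    rw [h2]

end Setup

section Final

variable {α : Type*} [Fintype α] [DecidableEq α]

theorem s22_aut (hα : Fintype.card α = 22) {B : Set (Finset α)}
    (hB : IsSteinerSystem 3 6 B) :
    Nat.card (setSystemAut B) = 887040 ∧ MulAction.IsMultiplyPretransitive (setSystemAut B) α 3 ∧
      ∃ H : Subgroup (setSystemAut B), H.index = 2 ∧ IsM22 H := by
  have hcard := Cfsg.Agent.Helper4.S22Aut.card_setSystemAut hα hB
  refine ⟨hcard, s22_trans hα hB, ?_⟩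
  have hpq : (none : GolayPt) ≠ some 0 := by simp
  obtain ⟨j, hj, hrange, hjp, hjq, hjB⟩ := exists_embedding hα hB none (some 0) hpq
  have key : ∀ A : Subgroup (Equiv.Perm GolayPt), A = setSystemAut octads →
      IsSimpleGroup ↥(MulAction.stabilizer A (none : GolayPt) ⊓
        MulAction.stabilizer A (some 0 : GolayPt)) →
      Nat.card ↥(MulAction.stabilizer A (none : GolayPt) ⊓
        MulAction.stabilizer A (some 0 : GolayPt)) = 443520 →
      ∃ H : Subgroup (setSystemAut B), H.index = 2 ∧ IsM22 H := by
    intro A hA hsimple hK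
    subst hA
    obtain ⟨ψ, hψ⟩ := exists_hom octads B none (some 0) j hj hrange hjp hjq hjB
    have hHcard : Nat.card ψ.range = 443520 := by
      rw [← hK]
      exact Nat.card_congr (MonoidHom.ofInjective hψ).toEquiv.symm
    have : Finite (setSystemAut B) := Nat.finite_of_card_ne_zero (by rw [hcard]; norm_num)
    have : Nontrivial ψ.range := by
      rw [← Finite.one_lt_card_iff_nontrivial, hHcard]
      norm_num
    refine ⟨ψ.range, ?_, ?_, hHcard⟩
    · have := Subgroup.card_mul_index ψ.range
      rw [hHcard, hcard] at this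
      omega
    · exact IsSimpleGroup.isSimpleGroup_of_surjective ψ.rangeRestrict ψ.rangeRestrict_surjective
  exact key M24 Cfsg.Agent.S0369.result (Cfsg.Agent.S0379.result _ _ hpq)
    (Cfsg.Agent.S0378.result _ _ hpq)

end Final

end Cfsg.Agent.Helper4.S22Group
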