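import Mathlib
import Cfsg.Agent.Helper4.HSAut

/-!
# A standard `S(3,6,22)` with an odd automorphism of its point-block graph
-/

set_option autoImplicit false
set_option linter.unusedSectionVars false
set_option linter.unusedVariables false

namespace Cfsg.Agent.Helper4.S22Std

open Finset Cfsg Cfsg.Agent.Helper4.HSAut

/-! ## Involutions -/

section Involution

variable {X : Type*} [Fintype X] [DecidableEq X]

/-- The sign of an involution. -/
theorem sign_of_involution (σ : Equiv.Perm X) (h2 : ∀ x, σ (σ x) = x) :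
    Equiv.Perm.sign σ = (-1) ^ (σ.support.card / 2) := by
  by_cases h1 : σ = 1
  · subst h1
    simp
  · have hsq : σ ^ 2 = 1 := by
      ext x
      simp [pow_two, h2]
    have hord : orderOf σ = 2 := orderOf_eq_prime hsq h1
    have hp : (orderOf σ).Prime := by rw [hord]; exact Nat.prime_two
    obtain ⟨n, hn⟩ := Equiv.Perm.cycleType_prime_order hp
    rw [hord] at hn
    have hsum : σ.support.card = 2 * (n + 1) := by
      rw [← Equiv.Perm.sum_cycleType, hn, Multiset.sum_replicate, smul_eq_mul, mul_comm]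
    rw [Equiv.Perm.sign_of_cycleType, hn, Multiset.sum_replicate, Multiset.card_replicate,
      hsum, smul_eq_mul]
    have h3 : 2 * (n + 1) / 2 = n + 1 := by omega
    rw [h3, pow_add, mul_comm (n + 1) 2, pow_mul]
    simp

end Involution

/-- The 22 points. -/
abbrev Q := Fin 22

/-- The subset of `Q` coded by a bit mask. -/
def toSet (m : ℕ) : Finset Q := univ.filter (fun i : Q => m.testBit i)

/-- Number of points in a mask. -/
def pop (m : ℕ) : ℕ :=
  m % 2 + m / 2 % 2 + m / 4 % 2 + m / 8 % 2 + m / 16 % 2 + m / 32 % 2 + m / 64 % 2 + m / 128 % 2 + m / 256 % 2 + m / 512 % 2 + m / 1024 % 2 + m / 2048 % 2 + m / 4096 % 2 + m / 8192 % 2 + m / 16384 % 2 + m / 32768 % 2 + m / 65536 % 2 + m / 131072 % 2 + m / 262144 % 2 + m / 524288 % 2 + m / 1048576 % 2 + m / 2097152 % 2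

theorem mem_toSet {m : ℕ} {i : Q} : i ∈ toSet m ↔ m.testBit i = true := by
  simp [toSet]

theorem toSet_land (m n : ℕ) : toSet (m &&& n) = toSet m ∩ toSet n := by
  ext i
  simp [mem_toSet]

theorem card_toSet (m : ℕ) : (toSet m).card = pop m := by
  have h : ∀ i : Q, (if m.testBit i = true then 1 else 0) = m / 2 ^ (i : ℕ) % 2 := by
    intro i
    rw [← Nat.toNat_testBit]
    cases m.testBit i <;> rfl
  rw [toSet, Finset.card_filter, Finset.sum_congr rfl (fun i _ => h i), pop,
    Fin.sum_univ_eq_sum_range (fun i => m / 2 ^ i % 2) 22]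
  simp [Finset.sum_range_succ]

theorem toSet_injOn : Set.InjOn toSet (Set.Iio 4194304) := by
  intro m hm n hn h
  apply Nat.eq_of_testBit_eq
  intro i
  by_cases hi : i < 22
  · have := congrArg (fun s => (⟨i, hi⟩ : Q) ∈ s) h
    simp only [mem_toSet, eq_iff_iff] at this
    exact Bool.eq_iff_iff.mpr this
  · have h1 : m < 2 ^ i := lt_of_lt_of_le hm (by
      calc 4194304 = 2 ^ 22 := by norm_num
        _ ≤ 2 ^ i := Nat.pow_le_pow_right (by norm_num) (by omega))
    have h2 : n < 2 ^ i := lt_of_lt_of_le hn (by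
      calc 4194304 = 2 ^ 22 := by norm_num
        _ ≤ 2 ^ i := Nat.pow_le_pow_right (by norm_num) (by omega))
    rw [Nat.testBit_lt_two_pow h1, Nat.testBit_lt_two_pow h2]

theorem testBit_foldl_lor (l : List ℕ) (a k : ℕ)
    (h : (l.foldl (fun x y => x ||| y) a).testBit k = true) :
    a.testBit k = true ∨ ∃ m ∈ l, m.testBit k = true := by
  induction l generalizing a with
  | nil => exact Or.inl h
  | cons b l ih =>
    rw [List.foldl_cons] at h
    rcases ih _ h with h1 | ⟨m, hm, hmk⟩
    · rw [Nat.testBit_lor, Bool.or_eq_true] at h1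
      rcases h1 with h1 | h1
      · exact Or.inl h1
      · exact Or.inr ⟨b, List.mem_cons_self, h1⟩
    · exact Or.inr ⟨m, List.mem_cons_of_mem _ hm, hmk⟩

/-- Masks of the 77 blocks. -/
def blkN : List ℕ :=
  [2236962, 2097633, 3179556, 2641968, 2426920, 2097183, 2376770, 3215618, 2656386, 2104833,
   2687556, 2392848, 3162760, 4063233, 2265160, 2246916, 2294928, 2220033, 3156048, 2630920,
   2371716, 1656, 1926, 6246, 6552, 27808, 29504, 43532, 46098, 49364,
   49450, 73930, 74036, 84498, 87052, 101696, 103072, 140357, 151683, 165937,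
   197385, 272643, 279077, 296073, 331857, 395968, 398624, 417816, 491526, 533137,
   542793, 561413, 590883, 655532, 655698, 706048, 735232, 789524, 791050, 827488,
   868736, 1060905, 1066257, 1081923, 1116293, 1182730, 1184276, 1220992, 1261664, 1310898,
   1311052, 1366016, 1385984, 1575712, 1578176, 1597446, 1671192]

/-- The standard system. -/
def E22 : Set (Finset Q) := {b | ∃ m ∈ blkN, toSet m = b}

/-! ## Table facts -/

theorem blk_len : blkN.length = 77 := by decide +kernel

theorem blk_nodup : blkN.Nodup := by decide +kernel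

theorem blk_pop : ∀ m ∈ blkN, pop m = 6 ∧ m < 4194304 := by decide +kernel

theorem blk_meet : ∀ m ∈ blkN, ∀ m' ∈ blkN, m ≠ m' → pop (m &&& m') ≤ 2 := by decide +kernel

theorem blk_cover : ∀ i ∈ List.range 22, ∀ j ∈ List.range 22, i ≠ j →
    (blkN.filter (fun m => m.testBit i && m.testBit j)).foldl (fun x y => x ||| y) 0 = 4194303 := by
  decide +kernel

theorem blk_join (i j k : Q) (hij : i ≠ j) :
    ∃ m ∈ blkN, m.testBit i = true ∧ m.testBit j = true ∧ m.testBit k = true := by
  have h1 := blk_cover i.1 (List.mem_range.mpr i.2) j.1 (List.mem_range.mpr j.2)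
    (fun h => hij (Fin.ext h))
  have h2 : (4194303 : ℕ).testBit k = true := by
    rw [show (4194303 : ℕ) = 2 ^ 22 - 1 from rfl, Nat.testBit_two_pow_sub_one]
    exact decide_eq_true k.2
  rw [← h1] at h2
  rcases testBit_foldl_lor _ _ _ h2 with h3 | ⟨m, hm, hmk⟩
  · simp at h3
  · rw [List.mem_filter, Bool.and_eq_true] at hm
    exact ⟨m, hm.1, hm.2.1, hm.2.2, hmk⟩

theorem e22_steiner : IsSteinerSystem 3 6 E22 := by
  refine ⟨?_, ?_⟩
  · rintro b ⟨m, hm, rfl⟩
    rw [card_toSet]
    exact (blk_pop m hm).1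
  · intro s hs
    obtain ⟨i, j, k, hij, hik, hjk, rfl⟩ := card_eq_three.mp hs
    obtain ⟨m, hm, hi, hj, hk⟩ := blk_join i j k hij
    refine ⟨toSet m, ⟨⟨m, hm, rfl⟩, ?_⟩, ?_⟩
    · intro x hx
      simp only [mem_insert, mem_singleton] at hx
      rcases hx with rfl | rfl | rfl
      · exact mem_toSet.mpr hi
      · exact mem_toSet.mpr hj
      · exact mem_toSet.mpr hk
    · rintro b ⟨⟨m', hm', rfl⟩, hsub⟩
      by_contra hne
      have hmm : m' ≠ m := fun h => hne (by rw [h])
      have h1 := blk_meet m' hm' m hm hmm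
      rw [← card_toSet, toSet_land] at h1
      have h2 : ({i, j, k} : Finset Q) ⊆ toSet m' ∩ toSet m := by
        intro x hx
        rw [mem_inter]
        refine ⟨hsub hx, ?_⟩
        simp only [mem_insert, mem_singleton] at hx
        rcases hx with rfl | rfl | rfl
        · exact mem_toSet.mpr hi
        · exact mem_toSet.mpr hj
        · exact mem_toSet.mpr hk
      have h3 := card_le_card h2
      rw [hs] at h3
      omega

/-! ## The involution -/

/-- A Baer involution extended to the 22 points, as a table. -/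
def tqN : List ℕ := [0, 2, 1, 3, 4, 5, 6, 8, 7, 10, 9, 11, 12, 20, 19, 17, 18, 15, 16, 14, 13, 21]

/-- The action on the block indices, as a table. -/
def piN : List ℕ := [2, 1, 0, 3, 4, 5, 10, 20, 15, 9, 6, 16, 19, 17, 14, 8, 11, 13, 18, 12, 7, 21, 22, 23, 24, 73, 74, 65, 66, 54, 53, 70, 69, 57, 58, 45, 46, 63, 51, 39, 43, 64, 52, 40, 44, 35, 36, 76, 48, 62, 50, 38, 42, 30, 29, 55, 71, 33, 34, 68, 60, 61, 49, 37, 41, 27, 28, 67, 59, 32, 31, 56, 72, 25, 26, 75, 47]

/-- The involution of the points. -/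
def tq (i : Fin 22) : Fin 22 := ⟨tqN.getD i.1 0 % 22, Nat.mod_lt _ (by norm_num)⟩

/-- The involution of the block indices. -/
def pf (i : Fin 77) : Fin 77 := ⟨piN.getD i.1 0 % 77, Nat.mod_lt _ (by norm_num)⟩

theorem tq_tq : ∀ i, tq (tq i) = i := by decide +kernel

theorem pf_pf : ∀ i, pf (pf i) = i := by decide +kernel

/-- `tq` as a permutation. -/
def gq : Equiv.Perm Q := ⟨tq, tq, tq_tq, tq_tq⟩

/-- `pf` as a permutation. -/
def gp : Equiv.Perm (Fin 77) := ⟨pf, pf, pf_pf, pf_pf⟩

/-- The mask `m'` is the image of the mask `m` under `tq`. -/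
def imgOK (m m' : ℕ) : Bool :=
  (List.range 22).all fun i => m'.testBit (tqN.getD i 0 % 22) == m.testBit i

theorem blk_img : ∀ i ∈ List.range 77,
    imgOK (blkN.getD i 0) (blkN.getD (piN.getD i 0 % 77) 0) = true := by
  decide +kernel

theorem gq_supp : gq.support.card = 14 := by decide +kernel

theorem gp_supp : gp.support.card = 56 := by decide +kernel

theorem sign_gq : Equiv.Perm.sign gq = -1 := by
  rw [sign_of_involution gq tq_tq, gq_supp]
  decide

theorem sign_gp : Equiv.Perm.sign gp = 1 := by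
  rw [sign_of_involution gp pf_pf, gp_supp]
  decide

theorem toSet_img {m m' : ℕ} (h : imgOK m m' = true) : (toSet m).image gq = toSet m' := by
  have h' : ∀ i : Fin 22, m'.testBit (tq i) = m.testBit i := by
    intro i
    have := List.all_eq_true.mp h i.1 (List.mem_range.mpr i.2)
    exact beq_iff_eq.mp this
  ext y
  rw [mem_image, mem_toSet]
  constructor
  · rintro ⟨x, hx, rfl⟩
    rw [mem_toSet] at hx
    show m'.testBit (tq x) = true
    rw [h' x, hx]
  · intro hy
    refine ⟨tq y, ?_, tq_tq y⟩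
    rw [mem_toSet, ← h' (tq y), tq_tq]
    exact hy

/-! ## The blocks as a list -/

theorem getD_mem (i : Fin 77) : blkN.getD i.1 0 ∈ blkN := by
  have hi : i.1 < blkN.length := by rw [blk_len]; exact i.2
  rw [List.getD_eq_getElem _ _ hi]
  exact List.getElem_mem hi

/-- The `i`-th block. -/
def blkAt (i : Fin 77) : E22 := ⟨toSet (blkN.getD i.1 0), blkN.getD i.1 0, getD_mem i, rfl⟩

theorem blkAt_injective : Function.Injective blkAt := by
  intro i j h
  have h1 : toSet (blkN.getD i.1 0) = toSet (blkN.getD j.1 0) := congrArg Subtype.val h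
  have h2 := toSet_injOn (blk_pop _ (getD_mem i)).2 (blk_pop _ (getD_mem j)).2 h1
  have hi : i.1 < blkN.length := by rw [blk_len]; exact i.2
  have hj : j.1 < blkN.length := by rw [blk_len]; exact j.2
  rw [List.getD_eq_getElem _ _ hi, List.getD_eq_getElem _ _ hj] at h2
  exact Fin.ext ((blk_nodup.getElem_inj_iff).mp h2)

theorem blkAt_surjective : Function.Surjective blkAt := by
  rintro ⟨b, m, hm, rfl⟩
  obtain ⟨i, hi, rfl⟩ := List.getElem_of_mem hm
  refine ⟨⟨i, by rw [← blk_len]; exact hi⟩, Subtype.ext ?_⟩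
  show toSet (blkN.getD i 0) = _
  rw [List.getD_eq_getElem _ _ hi]

/-- The blocks are numbered by `Fin 77`. -/
noncomputable def blkEquiv : Fin 77 ≃ E22 :=
  Equiv.ofBijective blkAt ⟨blkAt_injective, blkAt_surjective⟩

theorem image_blkAt (i : Fin 77) : ((blkAt i : E22) : Finset Q).image gq = (blkAt (pf i) : E22) := by
  have := blk_img i.1 (List.mem_range.mpr i.2)
  exact toSet_img this

theorem gq_mem : gq ∈ setSystemAut E22 := by
  apply mem_setSystemAut_of_forall
  intro b hb
  obtain ⟨i, hi⟩ := blkAt_surjective ⟨b, hb⟩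
  have := image_blkAt i
  rw [hi] at this
  rw [this]
  exact (blkAt (pf i)).2

/-- The action of `gq` on the blocks. -/
noncomputable def gB : Equiv.Perm E22 := (blkEquiv.symm.trans gp).trans blkEquiv

theorem gB_val (b : E22) : ((gB b : E22) : Finset Q) = (b : Finset Q).image gq := by
  obtain ⟨i, rfl⟩ := blkAt_surjective b
  have h1 : blkEquiv.symm (blkAt i) = i := by
    rw [Equiv.symm_apply_eq]; rfl
  show ((blkEquiv (gp (blkEquiv.symm (blkAt i))) : E22) : Finset Q) = _
  rw [h1, image_blkAt]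
  rfl


/-! ## The odd automorphism -/

theorem pf_one : pf 1 = 1 := by decide +kernel

theorem tq_zero : tq 0 = 0 := by decide +kernel

theorem exists_odd :
    ∃ φ : pointBlockGraph E22 ≃g pointBlockGraph E22,
      (∀ (i1 : Fintype (Option (Q ⊕ E22))) (i2 : DecidableEq (Option (Q ⊕ E22))),
        @Equiv.Perm.sign _ i2 i1 φ.toEquiv = -1) ∧
      φ none = none ∧ (∃ a : Q, φ (some (Sum.inl a)) = some (Sum.inl a)) ∧
      ∃ b : E22, φ (some (Sum.inr b)) = some (Sum.inr b) := by
  classical
  obtain ⟨φ, hφ⟩ := exists_rel_of_mem gq_mem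
  have hblk : ∀ b : E22, φ (some (Sum.inr b)) = some (Sum.inr (gB b)) := by
    intro b
    obtain ⟨b', hb', e1⟩ := hφ.2.2 b
    rw [hb']
    congr 2
    apply Subtype.ext
    rw [e1, gB_val]
  have hφeq : φ.toEquiv = Equiv.optionCongr (Equiv.sumCongr gq gB) := by
    ext1 v
    rcases v with _ | a | b
    · exact hφ.1
    · exact hφ.2.1 a
    · exact hblk b
  let iE : Fintype E22 := Fintype.ofEquiv _ blkEquiv
  have h1 : Equiv.Perm.sign (Equiv.optionCongr (Equiv.sumCongr gq gB)) = -1 := by
    rw [Equiv.optionCongr_sign]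
    have h2 : Equiv.sumCongr gq gB = Equiv.Perm.sumCongr gq gB := rfl
    rw [h2, Equiv.Perm.sign_sumCongr, sign_gq]
    have h3 : Equiv.Perm.sign gB = Equiv.Perm.sign gp :=
      Equiv.Perm.sign_symm_trans_trans gp blkEquiv
    rw [h3, sign_gp]
    rfl
  refine ⟨φ, ?_, hφ.1, ⟨0, ?_⟩, ⟨blkAt 1, ?_⟩⟩
  · intro i1 i2
    rw [hφeq]
    convert h1
  · rw [hφ.2.1 0]
    show some (Sum.inl (tq 0)) = _
    rw [tq_zero]
  · rw [hblk]
    congr 2
    apply Subtype.ext
    rw [gB_val, image_blkAt, pf_one]

end Cfsg.Agent.Helper4.S22Std
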