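import Mathlib
import Cfsg.Agent.Helper4.HSAut
import Cfsg.Agent.Helper4.HSSimple
import Cfsg.Agent.Helper4.S22Std
import Cfsg.Agent.Helper4.S22Group2

/-!
# The Higman–Sims group inside the automorphism group of the point-block graph
-/

set_option autoImplicit false
set_option linter.unusedSectionVars false
set_option linter.unusedVariables false

namespace Cfsg.Agent.Helper4.HSMain

open Finset Cfsg Function Cfsg.Agent.Helper4.HSAut Cfsg.Agent.Helper4.HSGraph
  Cfsg.Agent.Helper4.Steiner22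

section Rel

variable {α : Type*} [Fintype α] [DecidableEq α] {B : Set (Finset α)}

theorem rel_mul {σ τ : Equiv.Perm α} {φ ψ : pointBlockGraph B ≃g pointBlockGraph B}
    (hφ : Rel σ φ) (hψ : Rel τ ψ) : Rel (σ * τ) (φ * ψ) := by
  refine ⟨?_, ?_, ?_⟩
  · show φ (ψ none) = none
    rw [hψ.1, hφ.1]
  · intro a
    show φ (ψ (some (Sum.inl a))) = _
    rw [hψ.2.1, hφ.2.1]
    rfl
  · intro b
    obtain ⟨b₁, h1, e1⟩ := hψ.2.2 b
    obtain ⟨b₂, h2, e2⟩ := hφ.2.2 b₁
    refine ⟨b₂, ?_, ?_⟩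
    · show φ (ψ (some (Sum.inr b))) = _
      rw [h1, h2]
    · rw [e2, e1, image_image]
      rfl

end Rel

section Main

variable {α : Type*} [Fintype α]

theorem hs_main (hα : Fintype.card α = 22) {B : Set (Finset α)} (hB : IsSteinerSystem 3 6 B) :
    ∃ H : Subgroup (pointBlockGraph B ≃g pointBlockGraph B), IsHS H := by
  classical
  haveI : Fintype B := Fintype.ofFinite B
  have hΓ : (pointBlockGraph B).IsSRGWith 100 22 0 6 := pointBlockGraph_srg hα hB
  have hV : Fintype.card (Option (α ⊕ B)) = 100 := hΓ.card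
  have hBcard : Fintype.card B = 77 := by
    rw [Fintype.card_option, Fintype.card_sum, hα] at hV
    omega
  have hA := card_aut hα hB
  have : Finite (pointBlockGraph B ≃g pointBlockGraph B) :=
    Nat.finite_of_card_ne_zero (by rw [hA]; norm_num)
  have : MulAction.IsPretransitive (pointBlockGraph B ≃g pointBlockGraph B) (Option (α ⊕ B)) :=
    ⟨fun v w => by
      obtain ⟨f, hf⟩ := hs_unique_base hΓ hΓ v w
      exact ⟨f, hf⟩⟩
  -- the two suborbits
  set S₁ : Finset (Option (α ⊕ B)) := univ.image (fun a : α => some (Sum.inl a)) with hS₁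
  set S₂ : Finset (Option (α ⊕ B)) := univ.image (fun b : B => some (Sum.inr b)) with hS₂
  have h1 : S₁.card = 22 := by
    rw [hS₁, card_image_of_injective _ (fun a a' h => by simpa using h), card_univ, hα]
  have h2 : S₂.card = 77 := by
    rw [hS₂, card_image_of_injective _ (fun a a' h => by simpa using h), card_univ, hBcard]
  have hcover : ∀ v : Option (α ⊕ B), v = none ∨ v ∈ S₁ ∨ v ∈ S₂ := by
    rintro (_ | a | b)
    · exact Or.inl rfl
    · exact Or.inr (Or.inl (mem_image_of_mem _ (mem_univ a)))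
    · exact Or.inr (Or.inr (mem_image_of_mem _ (mem_univ b)))
  -- transitivity of the design group
  have h3tr := Cfsg.Agent.Helper4.S22Group.s22_trans hα hB
  have h1tr : MulAction.IsMultiplyPretransitive (setSystemAut B) α 1 :=
    MulAction.isMultiplyPretransitive_of_le (n := 3) (by norm_num)
      (by rw [Nat.card_eq_fintype_card, hα]; norm_num)
  have htrα : MulAction.IsPretransitive (setSystemAut B) α :=
    MulAction.is_one_pretransitive_iff.mp h1tr
  have htr1 : ∀ v ∈ S₁, ∀ w ∈ S₁, ∃ g : pointBlockGraph B ≃g pointBlockGraph B,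
      g • (none : Option (α ⊕ B)) = none ∧ g • v = w := by
    intro v hv w hw
    obtain ⟨a, -, rfl⟩ := mem_image.mp hv
    obtain ⟨a', -, rfl⟩ := mem_image.mp hw
    obtain ⟨σ, hσ⟩ := MulAction.exists_smul_eq (setSystemAut B) a a'
    obtain ⟨φ, hφ⟩ := exists_rel_of_mem σ.2
    refine ⟨φ, hφ.1, ?_⟩
    show φ (some (Sum.inl a)) = _
    rw [hφ.2.1]
    exact congrArg (fun x => some (Sum.inl x)) hσ
  have htr2 : ∀ v ∈ S₂, ∀ w ∈ S₂, ∃ g : pointBlockGraph B ≃g pointBlockGraph B,
      g • (none : Option (α ⊕ B)) = none ∧ g • v = w := by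
    intro v hv w hw
    obtain ⟨b, -, rfl⟩ := mem_image.mp hv
    obtain ⟨b', -, rfl⟩ := mem_image.mp hw
    obtain ⟨a, -, ha⟩ := exists_mem_notMem_of_card_lt_card
      (by rw [hB.1 b.1 b.2, card_univ, hα]; norm_num : b.1.card < (univ : Finset α).card)
    obtain ⟨a', -, ha'⟩ := exists_mem_notMem_of_card_lt_card
      (by rw [hB.1 b'.1 b'.2, card_univ, hα]; norm_num : b'.1.card < (univ : Finset α).card)
    have hcard : Fintype.card {z // z ∈ b.1} = Fintype.card {z // z ∈ b'.1} := by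
      rw [Fintype.card_coe, Fintype.card_coe, hB.1 b.1 b.2, hB.1 b'.1 b'.2]
    obtain ⟨e, he, -, hes, -⟩ := Cfsg.Agent.Helper4.S22Aut.flag_iso hα hα hB hB b.2 ha b'.2 ha'
      (Fintype.equivOfCardEq hcard)
    have heB : e ∈ setSystemAut B :=
      (Cfsg.Agent.Helper4.Plane4.mem_setSystemAut_iff B e).mpr he
    obtain ⟨φ, hφ⟩ := exists_rel_of_mem heB
    refine ⟨φ, hφ.1, ?_⟩
    obtain ⟨b₁, hb₁, e1⟩ := hφ.2.2 b
    show φ (some (Sum.inr b)) = _
    rw [hb₁]
    congr 2
    apply Subtype.ext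
    rw [e1]
    apply eq_of_subset_of_card_le
    · intro y hy
      obtain ⟨x, hx, rfl⟩ := mem_image.mp hy
      rw [hes ⟨x, hx⟩]
      exact (Fintype.equivOfCardEq hcard ⟨x, hx⟩).2
    · rw [card_image_of_injective _ e.injective, hB.1 b.1 b.2, hB.1 b'.1 b'.2]
  -- the Mathieu group inside the stabilizer
  obtain ⟨-, -, H₀, -, hH₀s, hH₀c⟩ := Cfsg.Agent.Helper4.S22Group.s22_aut hα hB
  have hex : ∀ σ : setSystemAut B, ∃ φ : pointBlockGraph B ≃g pointBlockGraph B,
      Rel (σ : Equiv.Perm α) φ := fun σ => exists_rel_of_mem σ.2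
  choose Ψ hΨ using hex
  have hΨmul : ∀ σ τ, Ψ (σ * τ) = Ψ σ * Ψ τ := by
    intro σ τ
    exact (hΨ (σ * τ)).ext_aut (rel_mul (hΨ σ) (hΨ τ))
  let ρ : setSystemAut B →* (pointBlockGraph B ≃g pointBlockGraph B) := MonoidHom.mk' Ψ hΨmul
  have hρinj : Injective ρ := by
    intro σ τ h
    have h' : Ψ σ = Ψ τ := h
    have h2 := hΨ τ
    rw [← h'] at h2
    exact Subtype.ext ((hΨ σ).ext_perm h2)
  have hMx : H₀.map ρ ≤ MulAction.stabilizer (pointBlockGraph B ≃g pointBlockGraph B)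
      (none : Option (α ⊕ B)) := by
    rintro _ ⟨σ, -, rfl⟩
    exact (hΨ σ).1
  have hMc : Nat.card (H₀.map ρ) = 443520 := by
    rw [← hH₀c]
    exact Nat.card_congr (H₀.equivMapOfInjective ρ hρinj).symm.toEquiv
  have hMs : IsSimpleGroup (H₀.map ρ) := by
    have := hH₀s
    have : Nontrivial (H₀.map ρ) := by
      rw [← Finite.one_lt_card_iff_nontrivial, hMc]
      norm_num
    exact IsSimpleGroup.isSimpleGroup_of_surjective
      (H₀.equivMapOfInjective ρ hρinj).toMonoidHom (H₀.equivMapOfInjective ρ hρinj).surjective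
  -- the sign character and the odd element
  let s : (pointBlockGraph B ≃g pointBlockGraph B) →* ℤˣ :=
    Equiv.Perm.sign.comp (MulAction.toPermHom _ (Option (α ⊕ B)))
  obtain ⟨e, he⟩ := Cfsg.Agent.Helper4.S22Unique.s22_unique hα (Fintype.card_fin 22) hB
    Cfsg.Agent.Helper4.S22Std.e22_steiner
  obtain ⟨g, hg0, hgpt, hgblk⟩ := pbIso_of_equiv e he
  obtain ⟨φ₀, hsign, hφ0, ⟨a₀, ha₀⟩, ⟨b₀, hb₀⟩⟩ := Cfsg.Agent.Helper4.S22Std.exists_odd
  have hgs0 : g.symm none = none := by rw [RelIso.symm_apply_eq, hg0]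
  let t : pointBlockGraph B ≃g pointBlockGraph B := g.trans (φ₀.trans g.symm)
  have ht : ∀ v, t v = g.symm (φ₀ (g v)) := fun v => rfl
  haveI : Fintype Cfsg.Agent.Helper4.S22Std.E22 := Fintype.ofFinite _
  have hst : s t = -1 := by
    have h5 : MulAction.toPermHom _ (Option (α ⊕ B)) t =
        (g.toEquiv.symm.symm.trans φ₀.toEquiv).trans g.toEquiv.symm := by
      ext1 v
      rfl
    show Equiv.Perm.sign (MulAction.toPermHom _ (Option (α ⊕ B)) t) = -1
    rw [h5, Equiv.Perm.sign_symm_trans_trans]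
    exact hsign _ _
  have htx : t • (none : Option (α ⊕ B)) = none := by
    show t none = none
    rw [ht, hg0, hφ0, hgs0]
  have hy₁ : g.symm (some (Sum.inl a₀)) ∈ S₁ := by
    have : g.symm (some (Sum.inl a₀)) = some (Sum.inl (e.symm a₀)) := by
      rw [RelIso.symm_apply_eq, hgpt, Equiv.apply_symm_apply]
    rw [this]
    exact mem_image_of_mem _ (mem_univ _)
  have hty₁ : t • g.symm (some (Sum.inl a₀)) = g.symm (some (Sum.inl a₀)) := by
    show t _ = _
    rw [ht, RelIso.apply_symm_apply, ha₀]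
  have hy₂ : g.symm (some (Sum.inr b₀)) ∈ S₂ := by
    rcases hv : g.symm (some (Sum.inr b₀)) with _ | a | b
    · rw [RelIso.symm_apply_eq, hg0] at hv
      simp at hv
    · rw [RelIso.symm_apply_eq, hgpt] at hv
      simp at hv
    · exact mem_image_of_mem _ (mem_univ _)
  have hty₂ : t • g.symm (some (Sum.inr b₀)) = g.symm (some (Sum.inr b₀)) := by
    show t _ = _
    rw [ht, RelIso.apply_symm_apply, hb₀]
  obtain ⟨hsimple, hcard⟩ := Cfsg.Agent.Helper4.HSSimple.ker_simple hV hA none S₁ S₂ h1 h2 hcover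
    htr1 htr2 (H₀.map ρ) hMx hMs hMc s t hst htx _ hy₁ hty₁ _ hy₂ hty₂
  exact ⟨s.ker, hsimple, hcard⟩

end Main

end Cfsg.Agent.Helper4.HSMain
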