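import Mathlib

set_option autoImplicit false
set_option linter.style.haveILetI false
set_option linter.unusedSectionVars false
set_option linter.unusedVariables false

/-!
# Involutions normalizing Sylow 3-subgroups: the abelian step

`V` is a normal elementary abelian 2-subgroup, `P` a 3-subgroup, `d = u n` an involution with
`u ∈ V` and `n` normalizing `P`, such that the conjugates of `d` under `P` are 3-transpositions with
`d`.  Then some `V`-conjugate of `d` normalizes `P`.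
-/

namespace Cfsg.Agent.Helper4.InvSylow

open Subgroup

section Basic

variable {H : Type*} [Group H]

theorem pow_two_mul (a r : H) : (a * r) ^ 2 = a * (r * a * r⁻¹) * r ^ 2 := by
  rw [pow_two, pow_two]; group

theorem pow_three_mul (a r : H) :
    (a * r) ^ 3 = a * (r * a * r⁻¹) * (r ^ 2 * a * (r ^ 2)⁻¹) * r ^ 3 := by
  simp only [pow_succ, pow_zero, one_mul]; group

/-- A 2-torsion element of a 3-group is trivial. -/
theorem eq_one_of_sq_of_isPGroup_three {P : Subgroup H} (hP : IsPGroup 3 P) {z : H} (hz : z ∈ P)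
    (h2 : z ^ 2 = 1) : z = 1 := by
  obtain ⟨k, hk⟩ := hP ⟨z, hz⟩
  have h1 : z ^ (3 ^ k) = 1 := by
    have := congrArg (fun u : P => (u : H)) hk
    simpa using this
  have h3 : orderOf z ∣ Nat.gcd (3 ^ k) 2 :=
    Nat.dvd_gcd (orderOf_dvd_of_pow_eq_one h1) (orderOf_dvd_of_pow_eq_one h2)
  have h4 : Nat.gcd (3 ^ k) 2 = 1 := by
    apply Nat.Coprime.pow_left; norm_num
  rw [h4, Nat.dvd_one, orderOf_eq_one_iff] at h3
  exact h3

end Basic

section Core

variable {H : Type*} [Group H] [Finite H] (V : Subgroup H) [hVn : V.Normal]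
  (hVc : ∀ a ∈ V, ∀ b ∈ V, a * b = b * a) (hV2 : ∀ a ∈ V, a * a = 1)
  (P : Subgroup H) (hP : IsPGroup 3 P)

include hV2 hP in
theorem inter_trivial {z : H} (hzV : z ∈ V) (hzP : z ∈ P) : z = 1 :=
  eq_one_of_sq_of_isPGroup_three hP hzP (by rw [pow_two]; exact hV2 z hzV)

include hV2 in
theorem inv_eq_self {z : H} (hzV : z ∈ V) : z⁻¹ = z := inv_eq_of_mul_eq_one_left (hV2 z hzV)

variable (d u n : H) (hd : d * d = 1) (hu : u ∈ V) (hn : n = u⁻¹ * d)
  (hφ : ∀ x ∈ P, n * x * n⁻¹ ∈ P)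

include hd hu hn in
theorem nn_mem : n * n ∈ V := by
  have hdi : d⁻¹ = d := inv_eq_of_mul_eq_one_left hd
  have : n * n = u⁻¹ * (d * u⁻¹ * d⁻¹) := by rw [hn, hdi]; group
  rw [this]
  exact V.mul_mem (V.inv_mem hu) (hVn.conj_mem _ (V.inv_mem hu) d)

include hV2 hP hd hu hn hφ in
/-- `n * n` centralizes `P`. -/
theorem nn_comm {x : H} (hx : x ∈ P) : (n * n) * x = x * (n * n) := by
  have hnnV : n * n ∈ V := nn_mem V d u n hd hu hn
  have h1 : (n * n) * x * (n * n)⁻¹ ∈ P := by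
    have := hφ _ (hφ x hx)
    have e : n * (n * x * n⁻¹) * n⁻¹ = (n * n) * x * (n * n)⁻¹ := by group
    rwa [e] at this
  have h2 : (n * n) * x * (n * n)⁻¹ * x⁻¹ ∈ P := P.mul_mem h1 (P.inv_mem hx)
  have h3 : (n * n) * x * (n * n)⁻¹ * x⁻¹ ∈ V := by
    have e : (n * n) * x * (n * n)⁻¹ * x⁻¹ = (n * n) * (x * (n * n)⁻¹ * x⁻¹) := by group
    rw [e]
    exact V.mul_mem hnnV (hVn.conj_mem _ (V.inv_mem hnnV) x)
  have h4 := inter_trivial V hV2 P hP h3 h2
  have e : (n * n) * x = ((n * n) * x * (n * n)⁻¹ * x⁻¹) * (x * (n * n)) := by group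
  rw [e, h4, one_mul]

include hV2 hP hd hu hn hφ in
theorem phi_phi {x : H} (hx : x ∈ P) : n * (n * x * n⁻¹) * n⁻¹ = x := by
  have := nn_comm V hV2 P hP d u n hd hu hn hφ hx
  have e : n * (n * x * n⁻¹) * n⁻¹ = ((n * n) * x) * (n * n)⁻¹ := by group
  rw [e, this]
  group

include hV2 hP hd hu hn hφ in
/-- The 3-transposition condition for `d` and `x d x⁻¹`, `x ∈ P` not fixed by `n`. -/
theorem K2 {x : H} (hx : x ∈ P)
    (h3 : (d * (x * d * x⁻¹)) ^ 2 = 1 ∨ (d * (x * d * x⁻¹)) ^ 3 = 1)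
    (hne : n * x * n⁻¹ ≠ x) (y r a : H) (hy : y = n * x * n⁻¹) (hr : r = y * x⁻¹)
    (ha : a = u * (y * u * y⁻¹)) :
    r ^ 3 = 1 ∧ a * (r * a * r⁻¹) * ((r * r) * a * (r * r)⁻¹) = 1 := by
  have hdi : d⁻¹ = d := inv_eq_of_mul_eq_one_left hd
  have hui : u⁻¹ = u := inv_eq_self V hV2 hu
  have hyP : y ∈ P := hy ▸ hφ x hx
  have hrP : r ∈ P := hr ▸ P.mul_mem hyP (P.inv_mem hx)
  have haV : a ∈ V := ha ▸ V.mul_mem hu (hVn.conj_mem _ hu y)
  have hr1 : r ≠ 1 := by
    intro h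
    apply hne
    rw [hr, mul_inv_eq_one] at h
    rw [← hy]
    exact h
  have e : d * (x * d * x⁻¹) = a * r := by
    have e1 : d * (x * d * x⁻¹) = (d * x * d⁻¹) * x⁻¹ := by
      rw [hdi]; simp only [mul_assoc]
    have e2 : d * x * d⁻¹ = u * y * u⁻¹ := by rw [hy, hn]; group
    have e3 : a = u * (y * u⁻¹ * y⁻¹) := by rw [ha, hui]
    rw [e1, e2, e3, hr]; group
  rw [e] at h3
  rw [← pow_two]
  rcases h3 with h | h
  · exfalso
    rw [pow_two_mul] at h
    have h1 : r ^ 2 = (a * (r * a * r⁻¹))⁻¹ := eq_inv_of_mul_eq_one_right h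
    have h2 : r ^ 2 ∈ V := by
      rw [h1]
      exact V.inv_mem (V.mul_mem haV (hVn.conj_mem _ haV r))
    have h3 : r ^ 2 = 1 := inter_trivial V hV2 P hP h2 (P.pow_mem hrP 2)
    exact hr1 (eq_one_of_sq_of_isPGroup_three hP hrP h3)
  · rw [pow_three_mul] at h
    have h1 : r ^ 3 = (a * (r * a * r⁻¹) * (r ^ 2 * a * (r ^ 2)⁻¹))⁻¹ :=
      eq_inv_of_mul_eq_one_right h
    have h2 : r ^ 3 ∈ V := by
      rw [h1]
      exact V.inv_mem (V.mul_mem (V.mul_mem haV (hVn.conj_mem _ haV r))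
        (hVn.conj_mem _ haV (r ^ 2)))
    have h3 : r ^ 3 = 1 := inter_trivial V hV2 P hP h2 (P.pow_mem hrP 3)
    refine ⟨h3, ?_⟩
    rw [h3, mul_one] at h
    exact h

include hVc hV2 hP hd hu hn hφ in
theorem lemmaA_core
    (h3 : ∀ x ∈ P, (d * (x * d * x⁻¹)) ^ 2 = 1 ∨ (d * (x * d * x⁻¹)) ^ 3 = 1)
    {y : H} (hy : y ∈ P) (hyn : n * y * n⁻¹ ≠ y) :
    ∃ m ∈ V, ∀ x ∈ P, (m⁻¹ * d * m) * x * (m⁻¹ * d * m)⁻¹ ∈ P := by
  classical
  letI : CommGroup V :=
    { (inferInstance : Group V) with mul_comm := fun a b => Subtype.ext (hVc a a.2 b b.2) }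
  haveI : Fintype P := Fintype.ofFinite P
  have hdi : d⁻¹ = d := inv_eq_of_mul_eq_one_left hd
  have hdun : d = u * n := by rw [hn]; group
  let c : H →* MulAut V := MulAut.conjNormal
  have hc : ∀ (g : H) (w : V), ((c g w : V) : H) = g * w * g⁻¹ := fun g w => rfl
  have hcmul : ∀ (g h : H) (w : V), c (g * h) w = c g (c h w) := by
    intro g h w
    rw [map_mul, MulAut.mul_apply]
  have hcV : ∀ v ∈ V, ∀ w : V, c v w = w := by
    intro v hv w
    apply Subtype.ext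
    rw [hc, hVc v hv w w.2, mul_assoc, mul_inv_cancel, mul_one]
  have hwsq : ∀ w : V, w * w = 1 := fun w => Subtype.ext (hV2 w w.2)
  have hwinv : ∀ w : V, w⁻¹ = w := fun w => inv_eq_of_mul_eq_one_left (hwsq w)
  let uV : V := ⟨u, hu⟩
  have hnnV : n * n ∈ V := nn_mem V d u n hd hu hn
  let φ : P → P := fun x => ⟨n * x * n⁻¹, hφ x x.2⟩
  have hφφ : ∀ x : P, φ (φ x) = x :=
    fun x => Subtype.ext (phi_phi V hV2 P hP d u n hd hu hn hφ x.2)
  have hσc : ∀ (g : H) (w : V), c n (c g w) = c (n * g * n⁻¹) (c n w) := by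
    intro g w
    apply Subtype.ext
    rw [hc, hc, hc, hc]
    group
  set c₀ : V := uV * c n uV with hc₀
  have hc₀H : (c₀ : H) = (n * n)⁻¹ := by
    show u * (n * u * n⁻¹) = (n * n)⁻¹
    have e1 : u * (n * u * n⁻¹) = d * u * d⁻¹ * u := by rw [hn]; group
    have e2 : (n * n)⁻¹ = d⁻¹ * u * d⁻¹ * u := by rw [hn]; group
    rw [e1, e2, hdi]
  have hc₀P : ∀ x ∈ P, c x c₀ = c₀ := by
    intro x hx
    apply Subtype.ext
    rw [hc, hc₀H]
    have hnn : (n * n) * x = x * (n * n) := nn_comm V hV2 P hP d u n hd hu hn hφ hx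
    calc x * (n * n)⁻¹ * x⁻¹ = (n * n)⁻¹ * ((n * n) * x) * (n * n)⁻¹ * x⁻¹ := by group
      _ = (n * n)⁻¹ * (x * (n * n)) * (n * n)⁻¹ * x⁻¹ := by rw [hnn]
      _ = (n * n)⁻¹ := by group
  have hσu : c n uV = uV * c₀ := by rw [hc₀, ← mul_assoc, hwsq, one_mul]
  let f : P → V := fun x => uV * c (x : H) uV
  have hf : ∀ x : P, f x = uV * c (x : H) uV := fun x => rfl
  have hσf : ∀ x : P, c n (f x) = f (φ x) := by
    intro x
    rw [hf, hf, map_mul, hσc, hσu, map_mul]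
    show uV * c₀ * (c (φ x : H) uV * c (φ x : H) c₀) = uV * c (φ x : H) uV
    rw [hc₀P _ (φ x).2]
    calc uV * c₀ * (c (φ x : H) uV * c₀) = uV * c (φ x : H) uV * (c₀ * c₀) :=
          mul_mul_mul_comm _ _ _ _
      _ = uV * c (φ x : H) uV := by rw [hwsq, mul_one]
  set Tr : V := ∏ x : P, c (x : H) uV with hTrdef
  have hTr : ∀ z : P, c (z : H) Tr = Tr := by
    intro z
    rw [hTrdef, map_prod]
    refine Fintype.prod_equiv (Equiv.mulLeft z) _ _ (fun x => ?_)
    show c (z : H) (c (x : H) uV) = c ((z * x : P) : H) uV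
    rw [Subgroup.coe_mul, hcmul]
  have hprod : ∏ x : P, f x = uV * Tr := by
    show ∏ x : P, (uV * c (x : H) uV) = uV * Tr
    rw [Finset.prod_mul_distrib, Finset.prod_const, Finset.card_univ]
    congr 1
    haveI : Fact (Nat.Prime 3) := ⟨Nat.prime_three⟩
    obtain ⟨k, hk⟩ := IsPGroup.exists_card_eq hP
    rw [Nat.card_eq_fintype_card] at hk
    rw [hk]
    have hodd : Odd (3 ^ k) := Odd.pow (by decide)
    obtain ⟨j, hj⟩ := hodd
    rw [hj, pow_succ, pow_mul, pow_two, hwsq, one_pow, one_mul]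
  let μ : V →* V :=
    { toFun := fun w => w * c n w
      map_one' := by simp
      map_mul' := by
        intro a b
        rw [map_mul]
        exact mul_mul_mul_comm _ _ _ _ }
  have hμ : ∀ w : V, μ w = w * c n w := fun w => rfl
  have hA : ∏ x ∈ Finset.univ.filter (fun x : P => φ x ≠ x), f x ∈ μ.range := by
    rw [← QuotientGroup.eq_one_iff, QuotientGroup.mk_prod]
    apply Finset.prod_involution (fun x _ => φ x)
    · intro x _
      rw [← QuotientGroup.mk_mul, QuotientGroup.eq_one_iff]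
      exact ⟨f x, by rw [hμ, hσf]⟩
    · intro x hx _
      exact (Finset.mem_filter.mp hx).2
    · intro x hx
      rw [Finset.mem_filter]
      refine ⟨Finset.mem_univ _, ?_⟩
      rw [hφφ]
      exact fun h => (Finset.mem_filter.mp hx).2 h.symm
    · intro x _
      exact hφφ x
  have hB : ∏ x ∈ Finset.univ.filter (fun x : P => ¬ φ x ≠ x), f x ∈ μ.range := by
    set s : V := ∏ x ∈ Finset.univ.filter (fun x : P => ¬ φ x ≠ x), f x with hs
    obtain ⟨Y, hY⟩ : ∃ Y : H, Y = n * y * n⁻¹ := ⟨_, rfl⟩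
    have hYP : Y ∈ P := hY ▸ hφ y hy
    obtain ⟨r, hr⟩ : ∃ r : H, r = Y * y⁻¹ := ⟨_, rfl⟩
    obtain ⟨r', hr'⟩ : ∃ r' : H, r' = y⁻¹ * Y := ⟨_, rfl⟩
    let Nm : H → V →* V := fun ρ =>
      { toFun := fun w => w * c ρ w * c (ρ * ρ) w
        map_one' := by simp
        map_mul' := by
          intro a b
          rw [map_mul, map_mul]
          calc a * b * (c ρ a * c ρ b) * (c (ρ * ρ) a * c (ρ * ρ) b)
              = (a * c ρ a) * (b * c ρ b) * (c (ρ * ρ) a * c (ρ * ρ) b) := by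
                rw [mul_mul_mul_comm a b]
            _ = a * c ρ a * c (ρ * ρ) a * (b * c ρ b * c (ρ * ρ) b) :=
                mul_mul_mul_comm _ _ _ _ }
    have hNm : ∀ ρ w, Nm ρ w = w * c ρ w * c (ρ * ρ) w := fun ρ w => rfl
    have hNmconj : ∀ (g ρ : H) (w : V), c g⁻¹ (Nm ρ (c g w)) = Nm (g⁻¹ * ρ * g) w := by
      intro g ρ w
      rw [hNm, hNm, map_mul, map_mul]
      have e0 : c g⁻¹ (c g w) = w := by
        apply Subtype.ext; rw [hc, hc]; group
      have e1 : c g⁻¹ (c ρ (c g w)) = c (g⁻¹ * ρ * g) w := by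
        apply Subtype.ext; rw [hc, hc, hc, hc]; group
      have e2 : c g⁻¹ (c (ρ * ρ) (c g w)) = c (g⁻¹ * ρ * g * (g⁻¹ * ρ * g)) w := by
        apply Subtype.ext; rw [hc, hc, hc, hc]; group
      rw [e0, e1, e2]
    -- the two instances of `K2`
    have k1 := K2 V hV2 P hP d u n hd hu hn hφ hy (h3 y hy) hyn Y r (u * (Y * u * Y⁻¹)) hY hr rfl
    have hNmfix : ∀ cP : P, φ cP = cP → Nm r' (f cP) = 1 := by
      intro cP hcP
      have hcfix : n * (cP : H) * n⁻¹ = cP := congrArg Subtype.val hcP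
      have hycP : y * (cP : H) ∈ P := P.mul_mem hy cP.2
      have e1 : Y * cP = n * (y * (cP : H)) * n⁻¹ := by
        calc Y * cP = (n * y * n⁻¹) * (n * (cP : H) * n⁻¹) := by rw [hcfix, hY]
          _ = n * (y * (cP : H)) * n⁻¹ := by group
      have hne2 : n * (y * (cP : H)) * n⁻¹ ≠ y * cP := by
        rw [← e1]
        intro h
        exact hyn (hY ▸ mul_right_cancel h)
      have e2 : r = Y * (cP : H) * (y * (cP : H))⁻¹ := by rw [hr]; group
      have k2 := K2 V hV2 P hP d u n hd hu hn hφ hycP (h3 _ hycP) hne2 (Y * cP) r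
        (u * (Y * cP * u * (Y * cP)⁻¹)) e1 e2 rfl
      obtain ⟨A₁, hA₁⟩ : ∃ A₁ : V, A₁ = uV * c Y uV := ⟨_, rfl⟩
      obtain ⟨A₂, hA₂⟩ : ∃ A₂ : V, A₂ = uV * c (Y * cP) uV := ⟨_, rfl⟩
      have hN1 : Nm r A₁ = 1 := by
        apply Subtype.ext
        rw [hNm, hA₁]
        exact k1.2
      have hN2 : Nm r A₂ = 1 := by
        apply Subtype.ext
        rw [hNm, hA₂]
        exact k2.2
      have hAA : A₁ * A₂ = c Y (f cP) := by
        rw [hA₁, hA₂, hf, map_mul (c Y), hcmul]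
        calc uV * c Y uV * (uV * c Y (c (cP : H) uV))
            = (uV * uV) * (c Y uV * c Y (c (cP : H) uV)) := mul_mul_mul_comm _ _ _ _
          _ = c Y uV * c Y (c (cP : H) uV) := by rw [hwsq, one_mul]
      have hN3 : Nm r (c Y (f cP)) = 1 := by rw [← hAA, map_mul, hN1, hN2, one_mul]
      have := hNmconj Y r (f cP)
      rw [hN3, map_one] at this
      have e3 : Y⁻¹ * r * Y = r' := by rw [hr, hr']; group
      rw [e3] at this
      exact this.symm
    have hNs : Nm r' s = 1 := by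
      rw [hs, map_prod]
      apply Finset.prod_eq_one
      intro x hx
      exact hNmfix x (not_not.mp (Finset.mem_filter.mp hx).2)
    have hσs : c n s = s := by
      rw [hs, map_prod]
      apply Finset.prod_congr rfl
      intro x hx
      rw [hσf, not_not.mp (Finset.mem_filter.mp hx).2]
    have hr'3 : r' * r' * r' = 1 := by
      have : r' * r' * r' = Y⁻¹ * r ^ 3 * Y := by
        rw [hr, hr', pow_succ, pow_two]; group
      rw [this, k1.1]; group
    have hnr' : n * r' * n⁻¹ = r'⁻¹ := by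
      have h1 : n * Y * n⁻¹ = y := by
        rw [hY]; exact phi_phi V hV2 P hP d u n hd hu hn hφ hy
      calc n * r' * n⁻¹ = (n * y * n⁻¹)⁻¹ * (n * Y * n⁻¹) := by rw [hr']; group
        _ = Y⁻¹ * y := by rw [h1, hY]
        _ = r'⁻¹ := by rw [hr']; group
    refine ⟨c r' s, ?_⟩
    rw [hμ]
    have h1 : c n (c r' s) = c (r' * r') s := by
      rw [hσc, hσs, hnr']
      have : r'⁻¹ = r' * r' := (eq_inv_of_mul_eq_one_left hr'3).symm
      rw [this]
    rw [h1]
    have h2 : s * (c r' s * c (r' * r') s) = 1 := by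
      rw [← mul_assoc]
      exact hNs
    have := eq_inv_of_mul_eq_one_right h2
    rw [this, hwinv]
  have hall : uV * Tr ∈ μ.range := by
    rw [← hprod, ← Finset.prod_filter_mul_prod_filter_not Finset.univ (fun x : P => φ x ≠ x)]
    exact mul_mem hA hB
  obtain ⟨m, hm⟩ := hall
  rw [hμ] at hm
  refine ⟨m, m.2, ?_⟩
  have hkey : (m : H)⁻¹ * d * m = Tr * n := by
    have e1 : (m : H)⁻¹ * d * m = ((m * c d m : V) : H) * d := by
      rw [Subgroup.coe_mul, hc, ← Subgroup.coe_inv, hwinv m, hdi]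
      simp only [mul_assoc]
      rw [hd, mul_one]
    have hcd : c d m = c n m := by
      rw [hdun, hcmul, hcV u hu]
    rw [e1, hcd, hm, Subgroup.coe_mul, hdun]
    show u * (Tr : H) * (u * n) = Tr * n
    rw [hVc u hu Tr Tr.2]
    simp only [mul_assoc]
    rw [← mul_assoc u u n, hV2 u hu, one_mul]
  intro x hx
  rw [hkey]
  have h1 := hTr (φ ⟨x, hx⟩)
  have h2 : (n * x * n⁻¹) * (Tr : H) * (n * x * n⁻¹)⁻¹ = Tr := congrArg Subtype.val h1
  have e : (Tr : H) * n * x * ((Tr : H) * n)⁻¹ = (Tr : H) * (n * x * n⁻¹) * (Tr : H)⁻¹ := by group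
  have h4 : (Tr : H) * (n * x * n⁻¹) = (n * x * n⁻¹) * (Tr : H) := by
    calc (Tr : H) * (n * x * n⁻¹) = ((n * x * n⁻¹) * (Tr : H) * (n * x * n⁻¹)⁻¹) * (n * x * n⁻¹) := by
          rw [h2]
      _ = (n * x * n⁻¹) * (Tr : H) := by group
  rw [e, h4, mul_assoc, mul_inv_cancel, mul_one]
  exact hφ x hx

end Core

end Cfsg.Agent.Helper4.InvSylow
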