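import Mathlib
import Cfsg.Agent.Helper4.InvSylowA

set_option autoImplicit false
set_option linter.style.haveILetI false
set_option linter.unusedSectionVars false
set_option linter.unusedVariables false

/-!
# Involutions normalizing Sylow 3-subgroups: Sylow conjugation, the full abelian step
-/

namespace Cfsg.Agent.Helper4.InvSylow

open Subgroup

section

variable {H : Type*} [Group H] [Finite H]

/-- An element which is both a 2-element and a 3-element is trivial. -/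
theorem eq_one_of_two_three {v : H} {j k : ℕ} (h2 : v ^ (2 ^ j) = 1) (h3 : v ^ (3 ^ k) = 1) :
    v = 1 := by
  have h : orderOf v ∣ Nat.gcd (2 ^ j) (3 ^ k) :=
    Nat.dvd_gcd (orderOf_dvd_of_pow_eq_one h2) (orderOf_dvd_of_pow_eq_one h3)
  have h4 : Nat.gcd (2 ^ j) (3 ^ k) = 1 := by
    apply Nat.Coprime.pow; norm_num
  rw [h4, Nat.dvd_one, orderOf_eq_one_iff] at h
  exact h

theorem exists_pow_of_isPGroup {p : ℕ} {T : Subgroup H} (hT : IsPGroup p T) {v : H} (hv : v ∈ T) :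
    ∃ k : ℕ, v ^ (p ^ k) = 1 := by
  obtain ⟨k, hk⟩ := hT ⟨v, hv⟩
  refine ⟨k, ?_⟩
  have := congrArg (fun u : T => (u : H)) hk
  simpa using this

/-- A 3-subgroup of `V P` (`V` a normal 2-subgroup, `P` a 3-subgroup) is `V`-conjugate into `P`. -/
theorem exists_conj_into (V : Subgroup H) [hVn : V.Normal] (hV : IsPGroup 2 V) (P : Subgroup H)
    (hP : IsPGroup 3 P) (P' : Subgroup H) (hP' : IsPGroup 3 P') (hle : P' ≤ V ⊔ P) :
    ∃ v ∈ V, ∀ x ∈ P', v⁻¹ * x * v ∈ P := by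
  haveI : Fact (Nat.Prime 3) := ⟨Nat.prime_three⟩
  set K := V ⊔ P with hK
  have hPK : P ≤ K := le_sup_right
  have hmemK : ∀ s : H, s ∈ K → ∃ v ∈ V, ∃ y ∈ P, v * y = s := by
    intro s hs
    have : s ∈ ((V ⊔ P : Subgroup H) : Set H) := hs
    rw [normal_mul] at this
    exact Set.mem_mul.mp this
  have hPk : IsPGroup 3 (P.subgroupOf K) :=
    hP.comap_of_injective K.subtype (subtype_injective K)
  have hPk' : IsPGroup 3 (P'.subgroupOf K) :=
    hP'.comap_of_injective K.subtype (subtype_injective K)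
  obtain ⟨S, hS⟩ := hPk.exists_le_sylow
  obtain ⟨S', hS'⟩ := hPk'.exists_le_sylow
  have hSP : ∀ s : K, s ∈ S → (s : H) ∈ P := by
    intro s hs
    obtain ⟨v, hv, y, hy, hvy⟩ := hmemK s.1 s.2
    have hyS : (⟨y, hPK hy⟩ : K) ∈ S := hS (by rw [mem_subgroupOf]; exact hy)
    have hvS : s * (⟨y, hPK hy⟩ : K)⁻¹ ∈ S := mul_mem hs (inv_mem hyS)
    have hvv : ((s * (⟨y, hPK hy⟩ : K)⁻¹ : K) : H) = v := by
      show (s : H) * y⁻¹ = v
      rw [← hvy]; group
    obtain ⟨k, hk⟩ := S.2 ⟨_, hvS⟩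
    have h3 : v ^ (3 ^ k) = 1 := by
      have := congrArg (fun u : S => ((u : K) : H)) hk
      simp only [SubgroupClass.coe_pow, OneMemClass.coe_one] at this
      rw [hvv] at this
      exact this
    obtain ⟨j, h2⟩ := exists_pow_of_isPGroup hV hv
    have hv1 := eq_one_of_two_three h2 h3
    rw [← hvy, hv1, one_mul]
    exact hy
  obtain ⟨g, hg⟩ := MulAction.exists_smul_eq K S S'
  obtain ⟨v, hv, y₀, hy₀, hvy⟩ := hmemK g.1 g.2
  refine ⟨v, hv, ?_⟩
  intro x hx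
  have hxK : x ∈ K := hle hx
  have hxS' : (⟨x, hxK⟩ : K) ∈ S' := hS' (by rw [mem_subgroupOf]; exact hx)
  have hxS'' : (⟨x, hxK⟩ : K) ∈ ((g • S : Sylow 3 K) : Subgroup K) := by
    rw [hg]; exact hxS'
  rw [Sylow.coe_subgroup_smul, mem_pointwise_smul_iff_inv_smul_mem] at hxS''
  have h1 := hSP _ hxS''
  have h2 : (((MulAut.conj g)⁻¹ • (⟨x, hxK⟩ : K) : K) : H) = (g : H)⁻¹ * x * g := by
    rw [MulAut.smul_def, MulAut.conj_inv_apply]
    rfl
  rw [h2, ← hvy] at h1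
  have e : v⁻¹ * x * v = y₀ * ((v * y₀)⁻¹ * x * (v * y₀)) * y₀⁻¹ := by group
  rw [e]
  exact P.mul_mem (P.mul_mem hy₀ h1) (P.inv_mem hy₀)

/-- The abelian step. -/
theorem lemmaA (V : Subgroup H) [hVn : V.Normal] (hVc : ∀ a ∈ V, ∀ b ∈ V, a * b = b * a)
    (hV2 : ∀ a ∈ V, a * a = 1) (P : Subgroup H) (hP : IsPGroup 3 P) (d : H) (hd : d * d = 1)
    (h3 : ∀ g : H, (d * (g * d * g⁻¹)) ^ 2 = 1 ∨ (d * (g * d * g⁻¹)) ^ 3 = 1)
    (hnorm : ∀ x ∈ P, d * x * d⁻¹ ∈ V ⊔ P)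
    (hgen : (∀ x ∈ P, d * x * d⁻¹ * x⁻¹ ∈ V) → P = ⊥) :
    ∃ m ∈ V, ∀ x ∈ P, (m⁻¹ * d * m) * x * (m⁻¹ * d * m)⁻¹ ∈ P := by
  have hV : IsPGroup 2 V := by
    intro v
    refine ⟨1, ?_⟩
    apply Subtype.ext
    rw [pow_one, pow_two]
    exact hV2 v v.2
  have hP' : IsPGroup 3 (P.map (MulAut.conj d).toMonoidHom) := hP.map _
  have hle : P.map (MulAut.conj d).toMonoidHom ≤ V ⊔ P := by
    rintro _ ⟨x, hx, rfl⟩
    exact hnorm x hx
  obtain ⟨u, hu, hconj⟩ := exists_conj_into V hV P hP _ hP' hle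
  obtain ⟨n, hn⟩ : ∃ n : H, n = u⁻¹ * d := ⟨_, rfl⟩
  have hφ : ∀ x ∈ P, n * x * n⁻¹ ∈ P := by
    intro x hx
    have := hconj (d * x * d⁻¹) ⟨x, hx, rfl⟩
    have e : n * x * n⁻¹ = u⁻¹ * (d * x * d⁻¹) * u := by rw [hn]; group
    rw [e]
    exact this
  by_cases h : ∃ y ∈ P, n * y * n⁻¹ ≠ y
  · obtain ⟨y, hy, hyn⟩ := h
    exact lemmaA_core V hVc hV2 P hP d u n hd hu hn hφ (fun x _ => h3 x) hy hyn
  · push Not at h
    have hPbot : P = ⊥ := by
      apply hgen
      intro x hx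
      have e : d * x * d⁻¹ * x⁻¹ = u * (n * x * n⁻¹) * u⁻¹ * x⁻¹ := by rw [hn]; group
      rw [e, h x hx]
      have e2 : u * x * u⁻¹ * x⁻¹ = u * (x * u⁻¹ * x⁻¹) := by group
      rw [e2]
      exact V.mul_mem hu (hVn.conj_mem _ (V.inv_mem hu) x)
    refine ⟨1, V.one_mem, ?_⟩
    intro x hx
    rw [hPbot, mem_bot] at hx
    rw [hx, mul_one, mul_inv_cancel]
    exact P.one_mem

/-- A non-trivial normal 2-subgroup contains a non-trivial normal elementary abelian subgroup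
of the ambient group. -/
theorem exists_normal_elementary (T : Subgroup H) [hTn : T.Normal] (hT : IsPGroup 2 T)
    (hne : T ≠ ⊥) :
    ∃ V : Subgroup H, V ≤ T ∧ V.Normal ∧ V ≠ ⊥ ∧ (∀ a ∈ V, ∀ b ∈ V, a * b = b * a) ∧
      ∀ a ∈ V, a * a = 1 := by
  haveI : Fact (Nat.Prime 2) := ⟨Nat.prime_two⟩
  let V : Subgroup H :=
    { carrier := {z | z ∈ T ∧ (∀ s ∈ T, s * z = z * s) ∧ z * z = 1}
      one_mem' := ⟨T.one_mem, fun s _ => by rw [mul_one, one_mul], by rw [mul_one]⟩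
      mul_mem' := by
        rintro a b ⟨haT, hac, ha2⟩ ⟨hbT, hbc, hb2⟩
        refine ⟨T.mul_mem haT hbT, fun s hs => ?_, ?_⟩
        · rw [← mul_assoc, hac s hs, mul_assoc, hbc s hs, mul_assoc]
        · calc a * b * (a * b) = a * (b * a) * b := by simp only [mul_assoc]
            _ = a * (a * b) * b := by rw [hac b hbT]
            _ = (a * a) * (b * b) := by simp only [mul_assoc]
            _ = 1 := by rw [ha2, hb2, one_mul]
      inv_mem' := by
        rintro a ⟨haT, hac, ha2⟩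
        have hai : a⁻¹ = a := inv_eq_of_mul_eq_one_left ha2
        rw [Set.mem_ofPred_eq, hai]
        exact ⟨haT, hac, ha2⟩ }
  have hVmem : ∀ z, z ∈ V ↔ z ∈ T ∧ (∀ s ∈ T, s * z = z * s) ∧ z * z = 1 := fun z => Iff.rfl
  refine ⟨V, fun z hz => hz.1, ?_, ?_, ?_, fun a ha => ha.2.2⟩
  · constructor
    intro z hz g
    obtain ⟨hzT, hzc, hz2⟩ := hz
    refine ⟨hTn.conj_mem z hzT g, fun s hs => ?_, ?_⟩
    · have h1 := hzc (g⁻¹ * s * g) (by
        have := hTn.conj_mem s hs g⁻¹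
        rwa [inv_inv] at this)
      calc s * (g * z * g⁻¹) = g * ((g⁻¹ * s * g) * z) * g⁻¹ := by group
        _ = g * (z * (g⁻¹ * s * g)) * g⁻¹ := by rw [h1]
        _ = g * z * g⁻¹ * s := by group
    · calc g * z * g⁻¹ * (g * z * g⁻¹) = g * (z * z) * g⁻¹ := by group
        _ = 1 := by rw [hz2, mul_one, mul_inv_cancel]
  · -- nontrivial
    haveI : Nontrivial T := (nontrivial_iff_ne_bot T).mpr hne
    haveI : Nontrivial (center T) := hT.center_nontrivial
    have hZ : IsPGroup 2 (center T) := hT.to_subgroup (center T)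
    have h2 : 2 ∣ Nat.card (center T) := by
      obtain ⟨k, hk⟩ := IsPGroup.exists_card_eq hZ
      have hk0 : k ≠ 0 := by
        rintro rfl
        rw [pow_zero] at hk
        have := Finite.one_lt_card (α := center T)
        omega
      rw [hk]
      exact dvd_pow_self 2 hk0
    obtain ⟨z, hz⟩ := exists_prime_orderOf_dvd_card' 2 h2
    intro hbot
    have hzV : ((z : T) : H) ∈ V := by
      rw [hVmem]
      refine ⟨(z : T).2, fun s hs => ?_, ?_⟩
      · have := mem_center_iff.mp z.2 ⟨s, hs⟩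
        exact congrArg Subtype.val this
      · have : z ^ 2 = 1 := by rw [← hz]; exact pow_orderOf_eq_one z
        rw [pow_two] at this
        have := congrArg (fun w : center T => ((w : T) : H)) this
        simpa using this
    rw [hbot, mem_bot] at hzV
    have : z = 1 := by
      apply Subtype.ext; apply Subtype.ext; exact hzV
    rw [this, orderOf_one] at hz
    omega
  · intro a ha b hb
    exact (hb.2.1 a ha.1)

end

end Cfsg.Agent.Helper4.InvSylow
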