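import Mathlib
import Cfsg.Agent.Helper4.InvSylowB

set_option autoImplicit false
set_option linter.style.haveILetI false
set_option linter.unusedSectionVars false
set_option linter.unusedVariables false

/-!
# Involutions normalizing Sylow 3-subgroups: induction over the normal 2-subgroup
-/

namespace Cfsg.Agent.Helper4.InvSylow

open Subgroup

universe u

theorem card_map_lt {H : Type u} [Group H] [Finite H] (T V : Subgroup H) [V.Normal] (hVT : V ≤ T)
    (hV : V ≠ ⊥) : Nat.card (T.map (QuotientGroup.mk' V)) < Nat.card T := by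
  classical
  haveI : Fintype T := Fintype.ofFinite T
  haveI : Fintype (T.map (QuotientGroup.mk' V)) := Fintype.ofFinite _
  rw [Nat.card_eq_fintype_card, Nat.card_eq_fintype_card]
  let f : T → T.map (QuotientGroup.mk' V) := fun x => ⟨QuotientGroup.mk' V x, mem_map_of_mem _ x.2⟩
  apply Fintype.card_lt_of_surjective_not_injective f
  · rintro ⟨_, ⟨x, hx, rfl⟩⟩
    exact ⟨⟨x, hx⟩, rfl⟩
  · intro hinj
    apply hV
    rw [eq_bot_iff]
    intro v hv
    have h1 : f ⟨v, hVT hv⟩ = f 1 := by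
      apply Subtype.ext
      show QuotientGroup.mk' V v = QuotientGroup.mk' V 1
      rw [map_one, ← MonoidHom.mem_ker, QuotientGroup.ker_mk']
      exact hv
    have := hinj h1
    rw [mem_bot]
    exact congrArg Subtype.val this

theorem main_aux : ∀ (n : ℕ) (H : Type u) [Group H] [Finite H] (T : Subgroup H) [T.Normal],
    IsPGroup 2 T → Nat.card T = n → ∀ (P : Subgroup H), IsPGroup 3 P → ∀ d : H, d * d = 1 →
    (∀ g : H, (d * (g * d * g⁻¹)) ^ 2 = 1 ∨ (d * (g * d * g⁻¹)) ^ 3 = 1) →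
    (∀ x ∈ P, d * x * d⁻¹ ∈ T ⊔ P) → ((∀ x ∈ P, d * x * d⁻¹ * x⁻¹ ∈ T) → P = ⊥) →
    ∃ t ∈ T, ∀ x ∈ P, (t⁻¹ * d * t) * x * (t⁻¹ * d * t)⁻¹ ∈ P := by
  intro n
  induction n using Nat.strong_induction_on with
  | _ n ih =>
  intro H _ _ T hTn hT hcard P hP d hd h3 hnorm hgen
  by_cases hTbot : T = ⊥
  · refine ⟨1, T.one_mem, ?_⟩
    intro x hx
    have := hnorm x hx
    rw [hTbot, bot_sup_eq] at this
    simpa using this
  · obtain ⟨V, hVT, hVn, hVne, hVc, hV2⟩ := exists_normal_elementary T hT hTbot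
    haveI := hVn
    obtain ⟨π, hπdef⟩ : ∃ π : H →* H ⧸ V, π = QuotientGroup.mk' V := ⟨_, rfl⟩
    have hπ : Function.Surjective π := hπdef ▸ QuotientGroup.mk'_surjective V
    have hker : ∀ z : H, π z = 1 ↔ z ∈ V := by
      intro z
      rw [hπdef, ← MonoidHom.mem_ker, QuotientGroup.ker_mk']
    have hT' : IsPGroup 2 (T.map π) := hT.map π
    have hcard' : Nat.card (T.map π) < n := by
      rw [← hcard, hπdef]
      exact card_map_lt T V hVT hVne
    haveI : (T.map π).Normal := Normal.map hTn π hπ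
    have hP' : IsPGroup 3 (P.map π) := hP.map π
    have hd' : π d * π d = 1 := by rw [← map_mul, hd, map_one]
    have h3' : ∀ g' : H ⧸ V, (π d * (g' * π d * g'⁻¹)) ^ 2 = 1 ∨
        (π d * (g' * π d * g'⁻¹)) ^ 3 = 1 := by
      intro g'
      obtain ⟨g, rfl⟩ := hπ g'
      rcases h3 g with h | h
      · left
        rw [← map_inv, ← map_mul, ← map_mul, ← map_mul, ← map_pow, h, map_one]
      · right
        rw [← map_inv, ← map_mul, ← map_mul, ← map_mul, ← map_pow, h, map_one]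
    have hnorm' : ∀ x' ∈ P.map π, π d * x' * (π d)⁻¹ ∈ T.map π ⊔ P.map π := by
      rintro _ ⟨x, hx, rfl⟩
      rw [← Subgroup.map_sup, ← map_inv, ← map_mul, ← map_mul]
      exact mem_map_of_mem π (hnorm x hx)
    have hgen' : (∀ x' ∈ P.map π, π d * x' * (π d)⁻¹ * x'⁻¹ ∈ T.map π) → P.map π = ⊥ := by
      intro h
      have hPb : P = ⊥ := by
        apply hgen
        intro x hx
        have h1 := h (π x) (mem_map_of_mem π hx)
        rw [← map_inv, ← map_inv, ← map_mul, ← map_mul, ← map_mul] at h1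
        obtain ⟨t, ht, hte⟩ := h1
        have h2 : t⁻¹ * (d * x * d⁻¹ * x⁻¹) ∈ V := by
          rw [← hker, map_mul, map_inv, hte, inv_mul_cancel]
        have e : d * x * d⁻¹ * x⁻¹ = t * (t⁻¹ * (d * x * d⁻¹ * x⁻¹)) := by group
        rw [e]
        exact T.mul_mem ht (hVT h2)
      rw [hPb, Subgroup.map_bot]
    obtain ⟨t', ht', hconc'⟩ := ih _ hcard' (H ⧸ V) (T.map π) hT' rfl (P.map π) hP' (π d) hd' h3'
      hnorm' hgen'
    obtain ⟨t, ht, rfl⟩ := ht'
    obtain ⟨d₁, hd₁⟩ : ∃ d₁ : H, d₁ = t⁻¹ * d * t := ⟨_, rfl⟩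
    have hd₁2 : d₁ * d₁ = 1 := by
      calc d₁ * d₁ = t⁻¹ * (d * d) * t := by rw [hd₁]; group
        _ = 1 := by rw [hd]; group
    have h3₁ : ∀ g : H, (d₁ * (g * d₁ * g⁻¹)) ^ 2 = 1 ∨ (d₁ * (g * d₁ * g⁻¹)) ^ 3 = 1 := by
      intro g
      have e : d₁ * (g * d₁ * g⁻¹) =
          t⁻¹ * (d * ((t * g * t⁻¹) * d * (t * g * t⁻¹)⁻¹)) * t⁻¹⁻¹ := by rw [hd₁]; group
      rcases h3 (t * g * t⁻¹) with h | h
      · left
        rw [e, conj_pow, h]; group
      · right
        rw [e, conj_pow, h]; group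
    have hnorm₁ : ∀ x ∈ P, d₁ * x * d₁⁻¹ ∈ V ⊔ P := by
      intro x hx
      have h1 := hconc' (π x) (mem_map_of_mem π hx)
      have e : (π t)⁻¹ * π d * π t * π x * ((π t)⁻¹ * π d * π t)⁻¹ = π (d₁ * x * d₁⁻¹) := by
        rw [hd₁]
        simp only [map_mul, map_inv]
      rw [e] at h1
      obtain ⟨p, hp, hpe⟩ := h1
      have hv : p⁻¹ * (d₁ * x * d₁⁻¹) ∈ V := by
        rw [← hker, map_mul, map_inv, hpe, inv_mul_cancel]
      have e2 : d₁ * x * d₁⁻¹ = p * (p⁻¹ * (d₁ * x * d₁⁻¹)) := by group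
      rw [e2]
      exact mul_mem (mem_sup_right hp) (mem_sup_left hv)
    have hgen₁ : (∀ x ∈ P, d₁ * x * d₁⁻¹ * x⁻¹ ∈ V) → P = ⊥ := by
      intro h
      apply hgen
      intro x hx
      have h1 := hVT (h x hx)
      rw [← QuotientGroup.eq_one_iff] at h1 ⊢
      have hρt : ((t : H) : H ⧸ T) = 1 := (QuotientGroup.eq_one_iff t).mpr ht
      have hρd : ((d₁ : H) : H ⧸ T) = (d : H ⧸ T) := by
        rw [hd₁, QuotientGroup.mk_mul, QuotientGroup.mk_mul, QuotientGroup.mk_inv, hρt, inv_one,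
          one_mul, mul_one]
      rw [QuotientGroup.mk_mul, QuotientGroup.mk_mul, QuotientGroup.mk_mul, QuotientGroup.mk_inv,
        hρd] at h1
      rw [QuotientGroup.mk_mul, QuotientGroup.mk_mul, QuotientGroup.mk_mul, QuotientGroup.mk_inv]
      exact h1
    obtain ⟨m, hm, hfin⟩ := lemmaA V hVc hV2 P hP d₁ hd₁2 h3₁ hnorm₁ hgen₁
    refine ⟨t * m, T.mul_mem ht (hVT hm), ?_⟩
    intro x hx
    have := hfin x hx
    have e : (t * m)⁻¹ * d * (t * m) = m⁻¹ * d₁ * m := by rw [hd₁]; group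
    rw [e]
    exact this

/-- Main theorem: an involution `d` whose conjugates are 3-transpositions with it, normalizing
`T P` (`T` a normal 2-subgroup, `P` a 3-subgroup), acting non-trivially on `T P / T`, normalizes a
`T`-conjugate of `P`. -/
theorem main {H : Type u} [Group H] [Finite H] (T : Subgroup H) [T.Normal] (hT : IsPGroup 2 T)
    (P : Subgroup H) (hP : IsPGroup 3 P) (d : H) (hd : d * d = 1)
    (h3 : ∀ g : H, (d * (g * d * g⁻¹)) ^ 2 = 1 ∨ (d * (g * d * g⁻¹)) ^ 3 = 1)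
    (hnorm : ∀ x ∈ P, d * x * d⁻¹ ∈ T ⊔ P)
    (hgen : (∀ x ∈ P, d * x * d⁻¹ * x⁻¹ ∈ T) → P = ⊥) :
    ∃ t ∈ T, ∀ x ∈ P, (t⁻¹ * d * t) * x * (t⁻¹ * d * t)⁻¹ ∈ P :=
  main_aux _ H T hT rfl P hP d hd h3 hnorm hgen

end Cfsg.Agent.Helper4.InvSylow
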