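import Mathlib
import Cfsg.Prelude.Def_FischerSpaces
import Cfsg.Agent.Helper4.InvSylowC
import Cfsg.Agent.Helper4.ThreeTransFStarC

set_option autoImplicit false
set_option linter.style.haveILetI false
set_option linter.unusedSectionVars false
set_option linter.unusedVariables false

/-!
# 3-transposition groups of width one modulo `O₂(G)`: a `d`-invariant Sylow 3-subgroup
-/

namespace Cfsg.Agent.Helper4.InvSylow

open Subgroup
open scoped Pointwise

section

variable {G : Type*} [Group G] [Finite G] {D : Set G}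
variable (hD : Cfsg.IsThreeTranspositionSet D) (hconj : ∀ g : G, ∀ x ∈ D, g * x * g⁻¹ ∈ D)
  (hgen : Subgroup.closure D = ⊤) (hconjd : ∀ d ∈ D, ∀ e ∈ D, ∃ g : G, g * d * g⁻¹ = e)

theorem commute_of_sq' {a b : G} (ha : a * a = 1) (hb : b * b = 1) (h : (a * b) ^ 2 = 1) :
    Commute a b := by
  have hai : a⁻¹ = a := inv_eq_of_mul_eq_one_left ha
  have hbi : b⁻¹ = b := inv_eq_of_mul_eq_one_left hb
  have h1 : a * b = (a * b)⁻¹ := by
    rw [pow_two] at h
    exact (inv_eq_of_mul_eq_one_left h).symm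
  rw [mul_inv_rev, hai, hbi] at h1
  exact h1

theorem mem_smul_sylow_iff {p : ℕ} [Fact p.Prime] (P : Sylow p G) (t x : G) :
    x ∈ ((t • P : Sylow p G) : Subgroup G) ↔ t⁻¹ * x * t ∈ (P : Subgroup G) := by
  rw [Sylow.coe_subgroup_smul, mem_pointwise_smul_iff_inv_smul_mem, MulAut.smul_def,
    MulAut.conj_inv_apply]

include hD hconj hgen hconjd in
/-- If commuting members of `D` are congruent modulo `O₂(G)`, then `d ∈ D` normalizes a Sylow
3-subgroup `P` with `G = ⟨d⟩ P O₂(G)`. -/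
theorem exists_invariant_sylow
    (hwidth : ∀ a ∈ D, ∀ b ∈ D, Commute a b → a⁻¹ * b ∈ Cfsg.pCore 2 G) {d : G} (hd : d ∈ D) :
    ∃ P : Sylow 3 G, d ∈ Subgroup.normalizer (P : Set G) ∧
      Subgroup.zpowers d ⊔ (P : Subgroup G) ⊔ Cfsg.pCore 2 G = ⊤ := by
  classical
  haveI : Fact (Nat.Prime 3) := ⟨Nat.prime_three⟩
  haveI : Fact (Nat.Prime 2) := ⟨Nat.prime_two⟩
  obtain ⟨T, hTdef⟩ : ∃ T : Subgroup G, T = Cfsg.pCore 2 G := ⟨_, rfl⟩
  rw [← hTdef]
  have hwidth' : ∀ a ∈ D, ∀ b ∈ D, Commute a b → a⁻¹ * b ∈ T := by rw [hTdef]; exact hwidth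
  haveI hTn : T.Normal := hTdef ▸ Cfsg.Agent.Helper14.pCore_normal 2
  have hT : IsPGroup 2 T := hTdef ▸ Cfsg.Agent.Helper14.pCore_isPGroup 2
  have hd2 : d * d = 1 := ThreeTransO2.sq_eq_one hD hd
  have hdi : d⁻¹ = d := inv_eq_of_mul_eq_one_left hd2
  have hTP : ∀ (P : Subgroup G), IsPGroup 3 P → ∀ x, x ∈ T → x ∈ P → x = 1 := by
    intro P hP x hxT hxP
    obtain ⟨j, h2⟩ := exists_pow_of_isPGroup hT hxT
    obtain ⟨k, h3⟩ := exists_pow_of_isPGroup hP hxP
    exact eq_one_of_two_three h2 h3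
  by_cases hdT : d ∈ T
  · -- `G` is a 2-group
    have hDT : D ⊆ (T : Set G) := by
      intro a ha
      obtain ⟨g, rfl⟩ := hconjd d hd a ha
      exact hTn.conj_mem d hdT g
    have hTtop : T = ⊤ := by
      rw [eq_top_iff, ← hgen]
      exact (closure_le T).mpr hDT
    obtain ⟨P⟩ : Nonempty (Sylow 3 G) := inferInstance
    have hPbot : ∀ x, x ∈ (P : Subgroup G) → x = 1 := by
      intro x hx
      exact hTP P P.2 x (by rw [hTtop]; exact mem_top x) hx
    refine ⟨P, ?_, ?_⟩
    · show d ∈ normalizer ((P : Subgroup G) : Set G)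
      rw [mem_normalizer_iff]
      intro h
      constructor
      · intro hh
        rw [hPbot h hh, mul_one, mul_inv_cancel]
        exact one_mem _
      · intro hh
        have := hPbot _ hh
        have e : h = d⁻¹ * (d * h * d⁻¹) * d := by group
        rw [e, this, mul_one, inv_mul_cancel]
        exact one_mem _
    · rw [hTtop]
      exact sup_top_eq _
  · -- the main case
    obtain ⟨π, hπdef⟩ : ∃ π : G →* G ⧸ T, π = QuotientGroup.mk' T := ⟨_, rfl⟩
    have hπ : Function.Surjective π := hπdef ▸ QuotientGroup.mk'_surjective T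
    have hker : ∀ z : G, π z = 1 ↔ z ∈ T := by
      intro z
      rw [hπdef, ← MonoidHom.mem_ker, QuotientGroup.ker_mk']
    have hπeq : ∀ a b : G, π a = π b ↔ a⁻¹ * b ∈ T := by
      intro a b
      rw [← hker, map_mul, map_inv, inv_mul_eq_one]
    have hsq : ∀ a ∈ D, a * a = 1 := fun a ha => ThreeTransO2.sq_eq_one hD ha
    have hnotT : ∀ a ∈ D, a ∉ T := by
      intro a ha haT
      obtain ⟨g, hg⟩ := hconjd a ha d hd
      exact hdT (hg ▸ hTn.conj_mem a haT g)
    -- the image of `D`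
    have hDs : Cfsg.IsThreeTranspositionSet (π '' D) := by
      constructor
      · rintro _ ⟨a, ha, rfl⟩
        apply orderOf_eq_prime
        · rw [pow_two, ← map_mul, hsq a ha, map_one]
        · rw [Ne, hker]
          exact hnotT a ha
      · rintro _ ⟨a, ha, rfl⟩ _ ⟨b, hb, rfl⟩
        rcases hD.2 a ha b hb with h | h
        · left; rw [← map_mul, ← map_pow, h, map_one]
        · right; rw [← map_mul, ← map_pow, h, map_one]
    have hDsconj : ∀ a ∈ π '' D, ∀ b ∈ π '' D, b * a * b⁻¹ ∈ π '' D := by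
      rintro _ ⟨a, ha, rfl⟩ _ ⟨b, hb, rfl⟩
      exact ⟨b * a * b⁻¹, hconj b a ha, by rw [map_mul, map_mul, map_inv]⟩
    have hDsw : ∀ a ∈ π '' D, ∀ b ∈ π '' D, Commute a b → a = b := by
      rintro _ ⟨a, ha, rfl⟩ _ ⟨b, hb, rfl⟩ hc
      have ha2 := hsq a ha
      have hb2 := hsq b hb
      have hai : a⁻¹ = a := inv_eq_of_mul_eq_one_left ha2
      have hbi : b⁻¹ = b := inv_eq_of_mul_eq_one_left hb2
      have hcT : (a * b) ^ 2 ∈ T := by
        rw [← hker, map_pow, map_mul, pow_two]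
        calc π a * π b * (π a * π b) = π a * (π b * π a) * π b := by simp only [mul_assoc]
          _ = π a * (π a * π b) * π b := by rw [hc.eq]
          _ = π (a * a) * π (b * b) := by simp only [map_mul, mul_assoc]
          _ = 1 := by rw [ha2, hb2, map_one, one_mul]
      rw [hπeq]
      rcases hD.2 a ha b hb with h | h
      · exact hwidth' a ha b hb (commute_of_sq' ha2 hb2 h)
      · have h1 : ((a * b) ^ 2) ^ 3 = 1 := by rw [← pow_mul, mul_comm, pow_mul, h, one_pow]
        have h2 : (a * b) ^ 2 = 1 := by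
          rw [hTdef] at hcT
          exact ThreeTransFStar.eq_one_of_cube_of_mem_pCore_two hcT h1
        have h3 : a * b = 1 := by
          have : (a * b) ^ 3 = (a * b) ^ 2 * (a * b) := pow_succ _ _
          rw [h, h2, one_mul] at this
          exact this.symm
        rw [hai, h3]
        exact T.one_mem
    obtain ⟨T₃, hT₃, hT₃mem⟩ :=
      ThreeTransO3.exists_three_group_of_width_one hDs (π '' D) (le_refl _) hDsconj hDsw
    -- the normal 3-subgroup `R*`
    obtain ⟨Rs, hRsdef⟩ : ∃ Rs : Subgroup (G ⧸ T),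
        Rs = closure {z | ∃ a ∈ D, ∃ b ∈ D, z = π a * π b} := ⟨_, rfl⟩
    have hRsgen : ∀ a ∈ D, ∀ b ∈ D, π a * π b ∈ Rs := by
      intro a ha b hb
      rw [hRsdef]
      exact subset_closure ⟨a, ha, b, hb, rfl⟩
    have hRs3 : IsPGroup 3 Rs := by
      apply hT₃.to_le
      rw [hRsdef, closure_le]
      rintro _ ⟨a, ha, b, hb, rfl⟩
      exact hT₃mem _ ⟨a, ha, rfl⟩ _ ⟨b, hb, rfl⟩
    haveI hRsn : Rs.Normal := by
      constructor
      intro z hz g'
      obtain ⟨g, rfl⟩ := hπ g'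
      have key : Rs ≤ Rs.comap (MulAut.conj (π g)).toMonoidHom := by
        rw [hRsdef, closure_le]
        rintro _ ⟨a, ha, b, hb, rfl⟩
        show π g * (π a * π b) * (π g)⁻¹ ∈ closure {z | ∃ a ∈ D, ∃ b ∈ D, z = π a * π b}
        refine subset_closure ⟨g * a * g⁻¹, hconj g a ha, g * b * g⁻¹, hconj g b hb, ?_⟩
        simp only [map_mul, map_inv]
        group
      exact key hz
    -- `G/T = R* ⟨π d⟩`
    have hdecomp : ∀ z : G ⧸ T, ∃ ρ ∈ Rs, ∃ i : ℤ, z = ρ * π d ^ i := by
      have htop : Rs ⊔ zpowers (π d) = ⊤ := by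
        rw [eq_top_iff]
        have h1 : (⊤ : Subgroup (G ⧸ T)) = (closure D).map π := by
          rw [hgen, ← MonoidHom.range_eq_map, MonoidHom.range_eq_top.mpr hπ]
        rw [h1, MonoidHom.map_closure, closure_le]
        rintro _ ⟨a, ha, rfl⟩
        have e' : π a = (π d)⁻¹ * (π d * π a) := by group
        rw [e']
        exact mul_mem (mem_sup_right (inv_mem (mem_zpowers _))) (mem_sup_left (hRsgen d hd a ha))
      intro z
      have hz : z ∈ Rs ⊔ zpowers (π d) := by rw [htop]; exact mem_top z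
      have : z ∈ ((Rs ⊔ zpowers (π d) : Subgroup (G ⧸ T)) : Set (G ⧸ T)) := hz
      rw [normal_mul] at this
      obtain ⟨ρ, hρ, δ, hδ, rfl⟩ := Set.mem_mul.mp this
      obtain ⟨i, rfl⟩ := mem_zpowers_iff.mp hδ
      exact ⟨ρ, hρ, i, rfl⟩
    have hQ : ∀ z : G ⧸ T, z ^ 2 ∈ Rs := by
      intro z
      obtain ⟨ρ, hρ, i, rfl⟩ := hdecomp z
      have hδ2 : (π d ^ i) * (π d ^ i) = 1 := by
        rw [← zpow_add, ← two_mul, zpow_mul, zpow_ofNat, pow_two, ← map_mul, hd2, map_one, one_zpow]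
      rw [pow_two]
      have e : ρ * π d ^ i * (ρ * π d ^ i) = ρ * (π d ^ i * ρ * (π d ^ i)⁻¹) * (π d ^ i * π d ^ i) := by
        group
      rw [e, hδ2, mul_one]
      exact mul_mem hρ (hRsn.conj_mem ρ hρ _)
    have h3mem : ∀ (P : Subgroup G), IsPGroup 3 P → ∀ x ∈ P, π x ∈ Rs := by
      intro P hP x hx
      obtain ⟨k, hk⟩ := exists_pow_of_isPGroup hP hx
      have hodd : Odd (3 ^ k) := Odd.pow (by decide)
      obtain ⟨j, hj⟩ := hodd
      have e : (x ^ 2) ^ (j + 1) = x := by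
        rw [← pow_mul, show 2 * (j + 1) = (2 * j + 1) + 1 by ring, pow_succ, ← hj, hk, one_mul]
      rw [← e, map_pow, map_pow]
      exact pow_mem (hQ (π x)) _
    obtain ⟨P₀⟩ : Nonempty (Sylow 3 G) := inferInstance
    have hRsle : Rs ≤ (P₀ : Subgroup G).map π := by
      have h1 : IsPGroup 3 (Rs ⊔ ((P₀.mapSurjective hπ : Sylow 3 (G ⧸ T)) : Subgroup (G ⧸ T)) :
          Subgroup (G ⧸ T)) := hRs3.to_sup_of_normal_left (P₀.mapSurjective hπ).2
      have h2 := (P₀.mapSurjective hπ).3 h1 le_sup_right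
      rw [Sylow.coe_mapSurjective] at h2
      calc Rs ≤ Rs ⊔ (P₀ : Subgroup G).map π := le_sup_left
        _ = (P₀ : Subgroup G).map π := h2
    have hcomap : ∀ z : G, π z ∈ Rs → z ∈ T ⊔ (P₀ : Subgroup G) := by
      intro z hz
      obtain ⟨p, hp, hpz⟩ := hRsle hz
      have hv : p⁻¹ * z ∈ T := (hπeq p z).mp hpz
      have e : z = p * (p⁻¹ * z) := by group
      rw [e]
      exact mul_mem (mem_sup_right hp) (mem_sup_left hv)
    have hnorm : ∀ x ∈ (P₀ : Subgroup G), d * x * d⁻¹ ∈ T ⊔ (P₀ : Subgroup G) := by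
      intro x hx
      apply hcomap
      rw [map_mul, map_mul, map_inv]
      exact hRsn.conj_mem _ (h3mem P₀ P₀.2 x hx) _
    have hgen' : (∀ x ∈ (P₀ : Subgroup G), d * x * d⁻¹ * x⁻¹ ∈ T) → (P₀ : Subgroup G) = ⊥ := by
      intro h
      have hc1 : ∀ ρ ∈ Rs, π d * ρ = ρ * π d := by
        intro ρ hρ
        obtain ⟨x, hx, rfl⟩ := hRsle hρ
        have h1 := (hker _).mpr (h x hx)
        rw [map_mul, map_mul, map_mul, map_inv, map_inv] at h1
        have h2 := mul_inv_eq_one.mp h1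
        exact mul_inv_eq_iff_eq_mul.mp h2
      have hcen : ∀ z : G ⧸ T, π d * z = z * π d := by
        intro z
        obtain ⟨ρ, hρ, i, rfl⟩ := hdecomp z
        rw [← mul_assoc, hc1 ρ hρ, mul_assoc, mul_assoc]
        congr 1
        exact ((Commute.refl (π d)).zpow_right i).eq
      have hall : ∀ a ∈ D, π a = π d := by
        intro a ha
        obtain ⟨g, rfl⟩ := hconjd d hd a ha
        rw [map_mul, map_mul, map_inv, ← hcen, mul_assoc, mul_inv_cancel, mul_one]
      have hRsbot : Rs = ⊥ := by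
        rw [hRsdef, closure_eq_bot_iff]
        rintro _ ⟨a, ha, b, hb, rfl⟩
        rw [hall a ha, hall b hb, ← map_mul, hd2, map_one]
        rfl
      rw [eq_bot_iff]
      intro x hx
      have h1 := h3mem P₀ P₀.2 x hx
      rw [hRsbot, mem_bot, hker] at h1
      rw [mem_bot]
      exact hTP P₀ P₀.2 x h1 hx
    have h3 : ∀ g : G, (d * (g * d * g⁻¹)) ^ 2 = 1 ∨ (d * (g * d * g⁻¹)) ^ 3 = 1 :=
      fun g => hD.2 d hd _ (hconj g d hd)
    obtain ⟨t, ht, hfin⟩ := main T hT (P₀ : Subgroup G) P₀.2 d hd2 h3 hnorm hgen'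
    refine ⟨t • P₀, ?_, ?_⟩
    · show d ∈ normalizer (((t • P₀ : Sylow 3 G) : Subgroup G) : Set G)
      rw [mem_normalizer_iff]
      have key : ∀ h, h ∈ ((t • P₀ : Sylow 3 G) : Subgroup G) →
          d * h * d⁻¹ ∈ ((t • P₀ : Sylow 3 G) : Subgroup G) := by
        intro h hh
        rw [mem_smul_sylow_iff] at hh ⊢
        have := hfin _ hh
        have e : t⁻¹ * (d * h * d⁻¹) * t =
            (t⁻¹ * d * t) * (t⁻¹ * h * t) * (t⁻¹ * d * t)⁻¹ := by group
        rw [e]
        exact this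
      intro h
      refine ⟨key h, fun hh => ?_⟩
      have := key _ hh
      have e : d * (d * h * d⁻¹) * d⁻¹ = h := by
        rw [hdi]
        calc d * (d * h * d) * d = (d * d) * h * (d * d) := by group
          _ = h := by rw [hd2, one_mul, mul_one]
      rwa [e] at this
    · rw [eq_top_iff, ← hgen, closure_le]
      intro a ha
      have h1 : π (d * a) ∈ Rs := by rw [map_mul]; exact hRsgen d hd a ha
      have h2 := hcomap _ h1
      have h4 : T ⊔ (P₀ : Subgroup G) ≤ T ⊔ ((t • P₀ : Sylow 3 G) : Subgroup G) := by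
        apply sup_le le_sup_left
        intro x hx
        have hx' : t * x * t⁻¹ ∈ ((t • P₀ : Sylow 3 G) : Subgroup G) := by
          rw [mem_smul_sylow_iff]
          have e : t⁻¹ * (t * x * t⁻¹) * t = x := by group
          rw [e]
          exact hx
        have e : x = t⁻¹ * (t * x * t⁻¹) * t := by group
        rw [e]
        exact mul_mem (mul_mem (mem_sup_left (inv_mem ht)) (mem_sup_right hx')) (mem_sup_left ht)
      have h5 : T ⊔ ((t • P₀ : Sylow 3 G) : Subgroup G) ≤
          zpowers d ⊔ ((t • P₀ : Sylow 3 G) : Subgroup G) ⊔ T :=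
        sup_le le_sup_right (le_sup_of_le_left le_sup_right)
      have e : a = d * (d * a) := by rw [← mul_assoc, hd2, one_mul]
      rw [SetLike.mem_coe, e]
      exact mul_mem (mem_sup_left (mem_sup_left (mem_zpowers d))) (h5 (h4 h2))

end

end Cfsg.Agent.Helper4.InvSylow
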