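import Mathlib

set_option autoImplicit false

namespace Cfsg.Agent.Helper4

open MulAction SubMulAction

/-- Jordan: a primitive group in which the pointwise stabiliser of an `m`-set is doubly
transitive on the complement is `(m+2)`-transitive. -/
theorem jordan_two_pretransitive {G α : Type*} [Group G] [MulAction G α]
    (hG : IsPreprimitive G α) {s : Set α} {m : ℕ} (hsm : s.ncard = m)
    (hm : m + 2 ≤ Nat.card α)
    (h2 : IsMultiplyPretransitive (fixingSubgroup G s) (ofFixingSubgroup G s) 2) :
    IsMultiplyPretransitive G α (m + 2) := by
  have hα : Finite α := Nat.finite_of_card_ne_zero (by omega)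
  induction m generalizing α G with
  | zero =>
    have hs : s = ∅ := by
      rwa [Set.ncard_eq_zero] at hsm
    subst hs
    exact (IsPretransitive.of_embedding_congr
      (of_fixingSubgroupEmpty_mapScalars_surjective (M := G) (α := α))
      (ofFixingSubgroupEmpty_equivariantMap_bijective (M := G) (α := α))).mp h2
  | succ n hrec =>
    have hprim : IsPreprimitive (fixingSubgroup G s) (ofFixingSubgroup G s) :=
      isPreprimitive_of_is_two_pretransitive h2
    have h2prim : IsMultiplyPreprimitive G α 2 :=
      hG.is_two_preprimitive hsm (by omega) hprim
    have hne : s.Nonempty := by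
      rw [← Set.ncard_pos, hsm]; exact Nat.succ_pos n
    obtain ⟨a, ha⟩ := hne
    set t : Set (ofStabilizer G a) := Subtype.val ⁻¹' s with ht
    have hst : s = insert a (Subtype.val '' t) := by
      ext x
      by_cases hx : x = a <;> simp [hx, mem_ofStabilizer_iff, ha, t]
    have ha' : a ∉ Subtype.val '' t := by
      intro h; rw [Set.mem_image] at h; obtain ⟨x, hx⟩ := h
      apply x.prop; rw [hx.right]; exact Set.mem_singleton a
    have hGtrans : IsPretransitive G α := hG.toIsPretransitive
    have ht_prim : IsPreprimitive (stabilizer G a) (ofStabilizer G a) := by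
      rw [← is_one_preprimitive_iff]
      rw [← isMultiplyPreprimitive_succ_iff_ofStabilizer]
      · exact h2prim
      · norm_num
    have h2' : IsMultiplyPretransitive ↥(fixingSubgroup G (insert a (Subtype.val '' t)))
        (ofFixingSubgroup G (insert a (Subtype.val '' t))) 2 :=
      (IsPretransitive.of_embedding_congr (MulEquiv.surjective _)
        (ofFixingSubgroup_of_eq_bijective (M := G) (hst := hst))).mp h2
    have h2'' : IsMultiplyPretransitive (fixingSubgroup (stabilizer G a) t)
        (ofFixingSubgroup (stabilizer G a) t) 2 :=
      (IsPretransitive.of_embedding_congr (MulEquiv.surjective _)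
        (ofFixingSubgroup_insert_map_bijective (M := G) (a := a) (s := t))).mp h2'
    have hcard : t.ncard = n := by
      rw [← Set.ncard_image_of_injective t Subtype.val_injective]
      apply Nat.add_right_cancel
      rw [← Set.ncard_insert_of_notMem ha', ← hst, hsm]
    have hcard' : n + 2 ≤ Nat.card (ofStabilizer G a) := by
      have := nat_card_ofStabilizer_add_one_eq (G := G) a
      omega
    have := hrec ht_prim hcard hcard' h2'' Subtype.finite
    rw [show n + 1 + 2 = (n + 2).succ from rfl]
    exact (ofStabilizer.isMultiplyPretransitive (G := G) (a := a)).mpr this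

end Cfsg.Agent.Helper4
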