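import Mathlib

set_option autoImplicit false
set_option linter.unusedSectionVars false
set_option linter.unusedVariables false

/-! # Kreknin's theorem for `ℤ/n`-graded Lie rings with trivial zero component

A projection-free formulation: a graded "subring" of a Lie ring `L` is a family
`N : ℕ → AddSubgroup L` (only the indices `< n` matter) with `N 0 = ⊥` and
`⁅N i, N j⁆ ⊆ N ((i + j) mod n)`.  Its derived family `D n N` has as `i`-th component the additive
span of the brackets `⁅a, b⁆`, `a ∈ N j`, `b ∈ N k`, `j + k ≡ i`.  The main result `kreknin` says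
that the `(2^(n-1) - 1)`-th derived family vanishes. -/

namespace Cfsg.Agent.Helper4.Kreknin

variable {L : Type*} [LieRing L]

/-- a `ℤ/n`-graded family of additive subgroups closed under the bracket, with trivial component
of degree `0` -/
structure IsGraded (n : ℕ) (N : ℕ → AddSubgroup L) : Prop where
  zero : N 0 = ⊥
  lie_lt : ∀ i j, i < n → j < n → i + j < n → ∀ a ∈ N i, ∀ b ∈ N j, ⁅a, b⁆ ∈ N (i + j)
  lie_ge : ∀ i j, i < n → j < n → n ≤ i + j → ∀ a ∈ N i, ∀ b ∈ N j, ⁅a, b⁆ ∈ N (i + j - n)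

/-- the derived family -/
def D (n : ℕ) (N : ℕ → AddSubgroup L) : ℕ → AddSubgroup L := fun i =>
  AddSubgroup.closure {z | ∃ j k, j < n ∧ k < n ∧ (j + k = i ∨ j + k = n + i) ∧
    ∃ a ∈ N j, ∃ b ∈ N k, z = ⁅a, b⁆}

/-- the span of the "wrap brackets" of degree `i` -/
def W (n : ℕ) (N : ℕ → AddSubgroup L) (i : ℕ) : AddSubgroup L :=
  AddSubgroup.closure {z | ∃ j k, i < j ∧ j < n ∧ i < k ∧ k < n ∧ j + k = n + i ∧
    ∃ a ∈ N j, ∃ b ∈ N k, z = ⁅a, b⁆}

theorem D_le {n : ℕ} {N : ℕ → AddSubgroup L} (hN : IsGraded n N) (i : ℕ) (hi : i < n) :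
    D n N i ≤ N i := by
  unfold D
  rw [AddSubgroup.closure_le]
  rintro z ⟨j, k, hj, hk, hjk, a, ha, b, hb, rfl⟩
  rcases hjk with h | h
  · have := hN.lie_lt j k hj hk (by omega) a ha b hb
    rwa [h] at this
  · have := hN.lie_ge j k hj hk (by omega) a ha b hb
    have e : j + k - n = i := by omega
    rwa [e] at this

theorem mem_D_of_lt {n : ℕ} {N : ℕ → AddSubgroup L} {j k : ℕ} (hj : j < n) (hk : k < n)
    {a b : L} (ha : a ∈ N j) (hb : b ∈ N k) : ⁅a, b⁆ ∈ D n N (j + k) :=
  AddSubgroup.subset_closure ⟨j, k, hj, hk, Or.inl rfl, a, ha, b, hb, rfl⟩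

theorem mem_D_of_ge {n : ℕ} {N : ℕ → AddSubgroup L} {j k : ℕ} (hj : j < n) (hk : k < n)
    (hjk : n ≤ j + k) {a b : L} (ha : a ∈ N j) (hb : b ∈ N k) : ⁅a, b⁆ ∈ D n N (j + k - n) :=
  AddSubgroup.subset_closure ⟨j, k, hj, hk, Or.inr (by omega), a, ha, b, hb, rfl⟩

theorem D_isGraded {n : ℕ} {N : ℕ → AddSubgroup L} (hN : IsGraded n N) : IsGraded n (D n N) := by
  refine ⟨?_, ?_, ?_⟩
  · rcases Nat.eq_zero_or_pos n with h0 | h0
    · subst h0
      unfold D
      rw [AddSubgroup.closure_eq_bot_iff]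
      rintro z ⟨j, k, hj, -⟩
      omega
    · have := D_le hN 0 h0
      rw [hN.zero] at this
      exact le_bot_iff.mp this
  · intro i j hi hj hij a ha b hb
    exact mem_D_of_lt hi hj (D_le hN i hi ha) (D_le hN j hj hb)
  · intro i j hi hj hij a ha b hb
    exact mem_D_of_ge hi hj hij (D_le hN i hi ha) (D_le hN j hj hb)

theorem iterate_isGraded {n : ℕ} {N : ℕ → AddSubgroup L} (hN : IsGraded n N) (m : ℕ) :
    IsGraded n ((D n)^[m] N) := by
  induction m with
  | zero => exact hN
  | succ m ih =>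
    rw [Function.iterate_succ_apply']
    exact D_isGraded ih

theorem D_mono {n : ℕ} {N N' : ℕ → AddSubgroup L} (h : ∀ i, i < n → N i ≤ N' i) (i : ℕ) :
    D n N i ≤ D n N' i := by
  unfold D
  apply AddSubgroup.closure_mono
  rintro z ⟨j, k, hj, hk, hjk, a, ha, b, hb, rfl⟩
  exact ⟨j, k, hj, hk, hjk, a, h j hj ha, b, h k hk hb, rfl⟩

theorem iterate_le {n : ℕ} {N : ℕ → AddSubgroup L} (hN : IsGraded n N) (m : ℕ) (i : ℕ)
    (hi : i < n) : (D n)^[m] N i ≤ N i := by
  induction m with
  | zero => exact le_rfl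
  | succ m ih =>
    rw [Function.iterate_succ_apply']
    exact (D_le (iterate_isGraded hN m) i hi).trans ih

/-- deeper derived families are smaller -/
theorem iterate_anti {n : ℕ} {N : ℕ → AddSubgroup L} (hN : IsGraded n N) {m m' : ℕ}
    (h : m' ≤ m) (i : ℕ) (hi : i < n) : (D n)^[m] N i ≤ (D n)^[m'] N i := by
  obtain ⟨d, rfl⟩ := Nat.exists_eq_add_of_le h
  rw [add_comm, Function.iterate_add_apply]
  exact iterate_le (iterate_isGraded hN m') d i hi

theorem W_mono {n : ℕ} {N N' : ℕ → AddSubgroup L} (h : ∀ i, i < n → N i ≤ N' i) (i : ℕ) :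
    W n N i ≤ W n N' i := by
  unfold W
  apply AddSubgroup.closure_mono
  rintro z ⟨j, k, hij, hj, hik, hk, hjk, a, ha, b, hb, rfl⟩
  exact ⟨j, k, hij, hj, hik, hk, hjk, a, h j hj ha, b, h k hk hb, rfl⟩

/-- the key step: one of the two terms of the Jacobi expansion of `⁅⁅a1, a2⁆, b⁆` -/
theorem term_mem {n : ℕ} {N P : ℕ → AddSubgroup L} (hN : IsGraded n N)
    (hPN : ∀ j, j < n → P j ≤ N j) {i g g1 g2 : ℕ} (hi : i < n) (hg : g < i) (hg1 : g < g1)
    (hg1n : g1 < n) (hg2 : g < g2) (hg2n : g2 < n) (hsum : g1 + g2 = n + g)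
    (IH : g1 < i → ∀ c ∈ N (i - g1), ∀ a ∈ P g1, ⁅a, c⁆ ∈ W n N i)
    {a1 a2 b : L} (ha1 : a1 ∈ P g1) (ha2 : a2 ∈ P g2) (hb : b ∈ N (i - g)) :
    ⁅a1, ⁅a2, b⁆⁆ ∈ W n N i := by
  rcases lt_trichotomy (g2 + (i - g)) n with hs | hs | hs
  · have hc : ⁅a2, b⁆ ∈ N (g2 + (i - g)) :=
      hN.lie_lt g2 (i - g) hg2n (by omega) hs a2 (hPN g2 hg2n ha2) b hb
    exact AddSubgroup.subset_closure ⟨g1, g2 + (i - g), by omega, hg1n, by omega, hs, by omega,
      a1, hPN g1 hg1n ha1, _, hc, rfl⟩
  · have hc : ⁅a2, b⁆ ∈ N (g2 + (i - g) - n) :=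
      hN.lie_ge g2 (i - g) hg2n (by omega) (by omega) a2 (hPN g2 hg2n ha2) b hb
    have e : g2 + (i - g) - n = 0 := by omega
    rw [e, hN.zero, AddSubgroup.mem_bot] at hc
    rw [hc, lie_zero]
    exact zero_mem _
  · have hc : ⁅a2, b⁆ ∈ N (g2 + (i - g) - n) :=
      hN.lie_ge g2 (i - g) hg2n (by omega) (by omega) a2 (hPN g2 hg2n ha2) b hb
    have e : g2 + (i - g) - n = i - g1 := by omega
    rw [e] at hc
    exact IH (by omega) _ hc a1 ha1

/-- Subclaim B: a deep element of degree `g < i` bracketed with any element of degree `i - g`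
is a sum of wrap brackets of degree `i`. -/
theorem B_aux {n : ℕ} (i : ℕ) (hi : i < n)
    (A : ∀ g, 1 ≤ g → g < i → ∀ P : ℕ → AddSubgroup L, IsGraded n P →
      (D n)^[2 ^ (g - 1)] P g ≤ W n P g) :
    ∀ d : ℕ, ∀ g, 1 ≤ g → g < i → i - g = d → ∀ N : ℕ → AddSubgroup L, IsGraded n N →
      ∀ e, 2 ^ (i - 1) ≤ e + 2 ^ (g - 1) → ∀ a ∈ (D n)^[e] N g, ∀ b ∈ N (i - g),
        ⁅a, b⁆ ∈ W n N i := by
  intro d
  induction d using Nat.strong_induction_on with
  | _ d ih =>
    intro g hg1 hgi hd N hN e he a ha b hb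
    have hpow : 2 ^ (i - 1) ≥ 2 * 2 ^ (g - 1) := by
      have h1 : 2 * 2 ^ (g - 1) = 2 ^ g := by
        rw [← pow_succ']
        congr 1
        omega
      rw [h1]
      exact Nat.pow_le_pow_right (by norm_num) (by omega)
    obtain ⟨e', rfl⟩ : ∃ e', e = 2 ^ (g - 1) + e' := ⟨e - 2 ^ (g - 1), by omega⟩
    rw [Function.iterate_add_apply] at ha
    set P := (D n)^[e'] N with hP
    have hPg : IsGraded n P := iterate_isGraded hN e'
    have hPN : ∀ j, j < n → P j ≤ N j := fun j hj => iterate_le hN e' j hj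
    have haW := A g hg1 hgi P hPg ha
    clear ha
    revert haW
    generalize a = a₀
    intro haW
    unfold W at haW
    induction haW using AddSubgroup.closure_induction with
    | mem x hx =>
      obtain ⟨g1, g2, hgg1, hg1n, hgg2, hg2n, hsum, a1, ha1, a2, ha2, rfl⟩ := hx
      rw [lie_lie]
      have IH : ∀ g', g < g' → g' < i → ∀ c ∈ N (i - g'), ∀ a ∈ P g', ⁅a, c⁆ ∈ W n N i := by
        intro g' hgg' hg'i c hc a' ha'
        refine ih (i - g') (by omega) g' (by omega) hg'i rfl N hN e' ?_ a' ha' c hc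
        have h2 : 2 ^ (g' - 1) ≥ 2 * 2 ^ (g - 1) := by
          have h1 : 2 * 2 ^ (g - 1) = 2 ^ g := by
            rw [← pow_succ']
            congr 1
            omega
          rw [h1]
          exact Nat.pow_le_pow_right (by norm_num) (by omega)
        omega
      apply sub_mem
      · exact term_mem hN hPN hi hgi hgg1 hg1n hgg2 hg2n hsum
          (fun h c hc a' ha' => IH g1 hgg1 h c hc a' ha') ha1 ha2 hb
      · exact term_mem hN hPN hi hgi hgg2 hg2n hgg1 hg1n (by omega)
          (fun h c hc a' ha' => IH g2 hgg2 h c hc a' ha') ha2 ha1 hb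
    | zero =>
      rw [zero_lie]
      exact zero_mem _
    | add x y hx hy hx' hy' =>
      rw [add_lie]
      exact add_mem hx' hy'
    | neg x hx hx' =>
      rw [neg_lie]
      exact neg_mem hx'

/-- Claim A (Kreknin's lemma, strong form): the component of degree `i` of the `2^(i-1)`-th
derived family is spanned by wrap brackets. -/
theorem A_main {n : ℕ} : ∀ i, 1 ≤ i → i < n → ∀ N : ℕ → AddSubgroup L, IsGraded n N →
    (D n)^[2 ^ (i - 1)] N i ≤ W n N i := by
  intro i
  induction i using Nat.strong_induction_on with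
  | _ i ih =>
    intro hi1 hin N hN
    have A' : ∀ g, 1 ≤ g → g < i → ∀ P : ℕ → AddSubgroup L, IsGraded n P →
        (D n)^[2 ^ (g - 1)] P g ≤ W n P g :=
      fun g hg1 hgi P hP => ih g hgi hg1 (by omega) P hP
    have B := B_aux i hin A'
    have hpos : 1 ≤ 2 ^ (i - 1) := Nat.one_le_two_pow
    obtain ⟨m, hm⟩ : ∃ m, 2 ^ (i - 1) = m + 1 := ⟨2 ^ (i - 1) - 1, by omega⟩
    rw [hm, Function.iterate_succ_apply']
    set Q := (D n)^[m] N with hQ
    have hQN : ∀ j, j < n → Q j ≤ N j := fun j hj => iterate_le hN m j hj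
    intro x hx
    unfold D at hx
    induction hx using AddSubgroup.closure_induction with
    | mem x hx =>
      obtain ⟨j, k, hj, hk, hjk, a, ha, b, hb, rfl⟩ := hx
      rcases hjk with hjk | hjk
      · -- non-wrap bracket
        rcases Nat.eq_zero_or_pos j with hj0 | hj0
        · subst hj0
          have h0 : a ∈ N 0 := hQN 0 hj ha
          rw [hN.zero, AddSubgroup.mem_bot] at h0
          rw [h0, zero_lie]
          exact zero_mem _
        rcases Nat.eq_zero_or_pos k with hk0 | hk0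
        · subst hk0
          have h0 : b ∈ N 0 := hQN 0 hk hb
          rw [hN.zero, AddSubgroup.mem_bot] at h0
          rw [h0, lie_zero]
          exact zero_mem _
        have hki : k = i - j := by omega
        have hb' : b ∈ N (i - j) := hki ▸ hQN k hk hb
        refine B (i - j) j hj0 (by omega) rfl N hN m ?_ a ha b hb'
        have : 1 ≤ 2 ^ (j - 1) := Nat.one_le_two_pow
        omega
      · -- wrap bracket
        exact AddSubgroup.subset_closure ⟨j, k, by omega, hj, by omega, hk, hjk,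
          a, hQN j hj ha, b, hQN k hk hb, rfl⟩
    | zero => exact zero_mem _
    | add x y hx hy hx' hy' => exact add_mem hx' hy'
    | neg x hx hx' => exact neg_mem hx'

/-- if all components of degree `> t` vanish, then `2^(t-1)` further derivations kill the
component of degree `t` -/
theorem kill {n : ℕ} {N : ℕ → AddSubgroup L} (hN : IsGraded n N) (t : ℕ) (ht1 : 1 ≤ t)
    (htn : t < n) (hvan : ∀ j, t < j → j < n → N j = ⊥) :
    ∀ j, t ≤ j → j < n → (D n)^[2 ^ (t - 1)] N j = ⊥ := by
  intro j htj hjn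
  rcases Nat.lt_or_ge t j with h | h
  · have := iterate_le hN (2 ^ (t - 1)) j hjn
    rw [hvan j h hjn] at this
    exact le_bot_iff.mp this
  · have hjt : j = t := le_antisymm h htj
    subst hjt
    have h1 := A_main j ht1 htn N hN
    have h2 : W n N j = ⊥ := by
      unfold W
      rw [AddSubgroup.closure_eq_bot_iff]
      rintro z ⟨j', k, hjj', hj'n, -, -, -, a, ha, b, -, rfl⟩
      rw [hvan j' hjj' hj'n, AddSubgroup.mem_bot] at ha
      rw [ha, zero_lie]
      exact Set.mem_singleton 0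
    rw [h2] at h1
    exact le_bot_iff.mp h1

/-- the top `m` components are killed by `2^(n-1) - 2^(n-1-m)` derivations -/
theorem kill_top {n : ℕ} {N : ℕ → AddSubgroup L} (hN : IsGraded n N) :
    ∀ m, m ≤ n - 1 → ∀ e, e + 2 ^ (n - 1 - m) = 2 ^ (n - 1) →
      ∀ j, n - m ≤ j → j < n → (D n)^[e] N j = ⊥ := by
  intro m
  induction m with
  | zero =>
    intro _ e _ j h1 h2
    omega
  | succ m ih =>
    intro hm e he j hj hjn
    -- t = n - m - 1
    have hpow : 2 ^ (n - 1 - m) = 2 * 2 ^ (n - 1 - (m + 1)) := by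
      rw [← pow_succ']
      congr 1
      omega
    have hle : 2 ^ (n - 1 - m) ≤ 2 ^ (n - 1) := Nat.pow_le_pow_right (by norm_num) (by omega)
    have hae : 2 ^ (n - 1 - (m + 1)) ≤ e := by omega
    have hvan := ih (by omega) (e - 2 ^ (n - 1 - (m + 1))) (by omega)
    have he' : e = 2 ^ (n - m - 1 - 1) + (e - 2 ^ (n - 1 - (m + 1))) := by
      have : n - m - 1 - 1 = n - 1 - (m + 1) := by omega
      rw [this]
      omega
    rw [he', Function.iterate_add_apply]
    apply kill (iterate_isGraded hN _) (n - m - 1) (by omega) (by omega)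
    · intro j' h1 h2
      exact hvan j' (by omega) h2
    · omega
    · exact hjn

/-- **Kreknin's theorem**: a `ℤ/n`-graded Lie ring with trivial zero component is soluble of
derived length at most `2^(n-1) - 1`. -/
theorem kreknin {n : ℕ} {N : ℕ → AddSubgroup L} (hN : IsGraded n N) :
    ∀ i, i < n → (D n)^[2 ^ (n - 1) - 1] N i = ⊥ := by
  intro i hi
  rcases Nat.eq_zero_or_pos i with h0 | h0
  · subst h0
    exact (iterate_isGraded hN _).zero
  · have h1 : 1 ≤ 2 ^ (n - 1) := Nat.one_le_two_pow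
    refine kill_top hN (n - 1) le_rfl (2 ^ (n - 1) - 1) ?_ i (by omega) hi
    rw [Nat.sub_self, pow_zero]
    omega

/-! ### Bridge to the derived series of the sum of the components -/

/-- the sum of the components of a family -/
def total (n : ℕ) (N : ℕ → AddSubgroup L) : AddSubgroup L := ⨆ i : Fin n, N i

/-- the additive span of the brackets of the elements of an additive subgroup -/
def der (A : AddSubgroup L) : AddSubgroup L :=
  AddSubgroup.closure {z | ∃ a ∈ A, ∃ b ∈ A, z = ⁅a, b⁆}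

theorem le_total {n : ℕ} (N : ℕ → AddSubgroup L) {i : ℕ} (hi : i < n) : N i ≤ total n N :=
  le_iSup (fun i : Fin n => N i) ⟨i, hi⟩

theorem der_total (n : ℕ) (N : ℕ → AddSubgroup L) : der (total n N) = total n (D n N) := by
  apply le_antisymm
  · unfold der
    rw [AddSubgroup.closure_le]
    rintro z ⟨x, hx, y, hy, rfl⟩
    show ⁅x, y⁆ ∈ total n (D n N)
    refine AddSubgroup.iSup_induction (fun i : Fin n => N i)
      (C := fun x => ⁅x, y⁆ ∈ total n (D n N)) hx ?_ ?_ ?_
    · intro j a ha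
      refine AddSubgroup.iSup_induction (fun i : Fin n => N i)
        (C := fun y => ⁅a, y⁆ ∈ total n (D n N)) hy ?_ ?_ ?_
      · intro k b hb
        rcases Nat.lt_or_ge ((j : ℕ) + (k : ℕ)) n with h | h
        · exact le_total (D n N) h (mem_D_of_lt j.2 k.2 ha hb)
        · exact le_total (D n N) (by omega) (mem_D_of_ge j.2 k.2 h ha hb)
      · show ⁅a, (0 : L)⁆ ∈ total n (D n N)
        rw [lie_zero]
        exact zero_mem _
      · intro y₁ y₂ h₁ h₂
        show ⁅a, y₁ + y₂⁆ ∈ total n (D n N)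
        rw [lie_add]
        exact add_mem h₁ h₂
    · show ⁅(0 : L), y⁆ ∈ total n (D n N)
      rw [zero_lie]
      exact zero_mem _
    · intro x₁ x₂ h₁ h₂
      show ⁅x₁ + x₂, y⁆ ∈ total n (D n N)
      rw [add_lie]
      exact add_mem h₁ h₂
  · unfold total
    rw [iSup_le_iff]
    intro i
    unfold D
    rw [AddSubgroup.closure_le]
    rintro z ⟨j, k, hj, hk, -, a, ha, b, hb, rfl⟩
    exact AddSubgroup.subset_closure ⟨a, le_total N hj ha, b, le_total N hk hb, rfl⟩

theorem der_iterate_total (n : ℕ) (N : ℕ → AddSubgroup L) (m : ℕ) :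
    der^[m] (total n N) = total n ((D n)^[m] N) := by
  induction m with
  | zero => rfl
  | succ m ih =>
    rw [Function.iterate_succ_apply', Function.iterate_succ_apply', ih, der_total]

/-- **Kreknin's theorem**, for the sum of the components: the `(2^(n-1)-1)`-th derived term
(additive span of iterated brackets) of the sum of a `ℤ/n`-graded family with trivial zero
component vanishes. -/
theorem kreknin_total {n : ℕ} {N : ℕ → AddSubgroup L} (hN : IsGraded n N) :
    der^[2 ^ (n - 1) - 1] (total n N) = ⊥ := by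
  rw [der_iterate_total]
  unfold total
  rw [eq_bot_iff, iSup_le_iff]
  intro i
  rw [kreknin hN i i.2]

end Cfsg.Agent.Helper4.Kreknin
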