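import Mathlib
import Cfsg.Agent.Helper4.LSDefs
import Cfsg.Agent.Helper4.LSWeights
import Cfsg.Agent.Helper29.LS34HEIS
import Cfsg.Agent.Helper19.LS34DUAL
import Cfsg.Agent.Helper29.LS34ORBC

set_option autoImplicit false

/-! S2334: the abstract counting argument. -/

namespace Cfsg.Agent.Helper4.LSC

open Matrix Module Cfsg.Agent.S2334P Cfsg.Agent.Helper2.SUGen Cfsg.Agent.Helper4.LSW

variable {K : Type*} [Field K] {q : ℕ}

section

variable (D : Frob K q) {m : ℕ} {G : Type*} [Group G]

/-- `z` as a monoid homomorphism from `Multiplicative (AH σ m)` -/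
def zHom (z : AH D.σ m → G) (hz : ∀ S T, z (S + T) = z S * z T) :
    Multiplicative (AH D.σ m) →* G where
  toFun a := z (Multiplicative.toAdd a)
  map_one' := by
    have h := hz 0 0
    rw [add_zero] at h
    show z 0 = 1
    exact (mul_eq_left.mp h.symm)
  map_mul' a b := hz _ _

theorem zHom_apply (z : AH D.σ m → G) (hz : ∀ S T, z (S + T) = z S * z T)
    (a : Multiplicative (AH D.σ m)) : zHom D z hz a = z (Multiplicative.toAdd a) := rfl

end

theorem cong_cong (D : Frob K q) {m : ℕ} (g gi : Matrix (Fin m) (Fin m) K) (h : g * gi = 1)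
    (S : AH D.σ m) : cong D.invol g (cong D.invol gi S) = S := by
  apply Subtype.ext
  show g * (gi * S.1 * ct D.σ gi) * ct D.σ g = S.1
  have h2 : ct D.σ gi * ct D.σ g = 1 := by rw [← ct_mul, h, ct_one]
  calc g * (gi * S.1 * ct D.σ gi) * ct D.σ g
      = (g * gi) * S.1 * (ct D.σ gi * ct D.σ g) := by simp only [Matrix.mul_assoc]
    _ = S.1 := by rw [h, h2, Matrix.one_mul, Matrix.mul_one]

/-- the abstract Landazuri–Seitz count -/
theorem degree_ge [Fintype K] (D : Frob K q) (hK : Fintype.card K = q ^ 2) (m : ℕ)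
    {G : Type*} [Group G] {V : Type*} [AddCommGroup V] [Module ℂ V] [FiniteDimensional ℂ V]
    (z : AH D.σ m → G) (l : Matrix.GeneralLinearGroup (Fin m) K → G) (x : (Fin m → K) → G)
    (hz : ∀ S T, z (S + T) = z S * z T)
    (hl : ∀ (g : Matrix.GeneralLinearGroup (Fin m) K) S,
      l g * z S * (l g)⁻¹ = z (cong D.invol (g : Matrix (Fin m) (Fin m) K) S))
    (hxz : ∀ a S, x a * z S = z S * x a)
    (hxx : ∀ a b, x a * x b = z (cm D.invol b a) * (x b * x a))
    (ρ : G →* Module.End ℂ V) (hnt : ∃ S, ρ (z S) ≠ 1) :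
    q * BB q m ≤ finrank ℂ V := by
  classical
  haveI : Finite (Multiplicative (AH D.σ m)) := by
    have : Finite (AH D.σ m) := Finite.of_injective (fun S : AH D.σ m => S.1) Subtype.val_injective
    exact this
  obtain ⟨Ψ, hΨmul, hΨ0, hΨinj, hΨsurj, hΨeq⟩ := exists_dual D hK m
  set φ : Multiplicative (AH D.σ m) →* Module.End ℂ V := ρ.comp (zHom D z hz) with hφ
  -- the weight attached to `S`
  let wS : AH D.σ m → (Multiplicative (AH D.σ m) → ℂ) := fun S a => Ψ S (Multiplicative.toAdd a)
  have hwS_inj : Function.Injective wS := by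
    intro S S' h
    apply hΨinj
    funext T
    exact congrFun h (Multiplicative.ofAdd T)
  set W : Set (AH D.σ m) := {S | S ≠ 0 ∧ wt φ (wS S) ≠ ⊥} with hW
  -- nonempty
  have hne : W.Nonempty := by
    obtain ⟨S₀, hS₀⟩ := hnt
    have h1 : φ (Multiplicative.ofAdd S₀) ≠ 1 := hS₀
    obtain ⟨χ, hχ, hχ1⟩ := exists_wt_ne_one φ h1
    obtain ⟨S, hS⟩ := hΨsurj (fun T => χ (Multiplicative.ofAdd T))
      (fun T T' => by
        have := wt_mul φ hχ (Multiplicative.ofAdd T) (Multiplicative.ofAdd T')
        rwa [← ofAdd_add] at this)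
      (wt_one φ hχ)
    have hχS : χ = wS S := by
      funext a
      exact congrFun hS (Multiplicative.toAdd a)
    refine ⟨S, ?_, ?_⟩
    · rintro rfl
      apply hχ1
      rw [hχS]
      exact hΨ0 _
    · rw [← hχS]; exact hχ
  -- nontriviality of the weights in `W`
  have hnontriv : ∀ S : AH D.σ m, S ≠ 0 → ∃ T, Ψ S T ≠ 1 := by
    intro S hS
    by_contra hcon
    push Not at hcon
    apply hS
    apply hΨinj
    funext T
    rw [hcon T, hΨ0 T]
  -- transport
  have htrans : ∀ (g : Matrix.GeneralLinearGroup (Fin m) K) (S : AH D.σ m),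
      finrank ℂ (wt φ (wS S)) ≤
        finrank ℂ (wt φ (wS (congT D.invol (g : Matrix (Fin m) (Fin m) K) S))) := by
    intro g S
    have h := finrank_wt_le_of_conj φ (ρ (l g)⁻¹) (ρ (l g))
      (by rw [← map_mul, mul_inv_cancel, map_one])
      (fun b => Multiplicative.ofAdd
        (cong D.invol (g : Matrix (Fin m) (Fin m) K) (Multiplicative.toAdd b)))
      (by
        intro b
        show ρ (z (Multiplicative.toAdd b)) * ρ (l g)⁻¹ =
          ρ (l g)⁻¹ * ρ (z (cong D.invol (g : Matrix (Fin m) (Fin m) K) (Multiplicative.toAdd b)))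
        rw [← map_mul, ← map_mul, ← hl g]
        congr 1
        group)
      (wS S)
    have e : (fun b : Multiplicative (AH D.σ m) => wS S (Multiplicative.ofAdd
        (cong D.invol (g : Matrix (Fin m) (Fin m) K) (Multiplicative.toAdd b)))) =
        wS (congT D.invol (g : Matrix (Fin m) (Fin m) K) S) := by
      funext b
      exact hΨeq S _ _
    rwa [e] at h
  -- closure
  have hcl : ∀ S ∈ W, ∀ g : Matrix.GeneralLinearGroup (Fin m) K,
      congT D.invol (g : Matrix (Fin m) (Fin m) K) S ∈ W := by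
    intro S hS g
    obtain ⟨hS0, hSw⟩ := hS
    have hpos : 0 < finrank ℂ (wt φ (wS S)) := by
      rw [Nat.pos_iff_ne_zero]
      intro h0
      exact hSw (Submodule.finrank_eq_zero.mp h0)
    refine ⟨?_, ?_⟩
    · intro h0
      obtain ⟨T, hT⟩ := hnontriv S hS0
      apply hT
      have hgg : (g : Matrix (Fin m) (Fin m) K) *
          ((g⁻¹ : Matrix.GeneralLinearGroup (Fin m) K) : Matrix (Fin m) (Fin m) K) = 1 := by
        rw [← Units.val_mul, mul_inv_cancel, Units.val_one]
      have := hΨeq S (g : Matrix (Fin m) (Fin m) K)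
        (cong D.invol ((g⁻¹ : Matrix.GeneralLinearGroup (Fin m) K) : Matrix (Fin m) (Fin m) K) T)
      rw [cong_cong D _ _ hgg, h0, hΨ0] at this
      exact this
    · intro hbot
      have := htrans g S
      rw [hbot, finrank_bot] at this
      omega
  have h0 : (0 : AH D.σ m) ∉ W := fun h => h.1 rfl
  have horb := orbit_bound D hK m W hne h0 hcl
  -- dimension count
  have hfin : W.Finite := Set.toFinite W
  set T : Finset (Multiplicative (AH D.σ m) → ℂ) := hfin.toFinset.image wS with hT
  have hTcard : T.card = W.ncard := by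
    rw [hT, Finset.card_image_of_injective _ hwS_inj, Set.ncard_eq_toFinset_card W hfin]
  have hsum := sum_finrank_le φ T
  have hge : ∀ χ ∈ T, q ≤ finrank ℂ (wt φ χ) := by
    intro χ hχ
    rw [hT, Finset.mem_image] at hχ
    obtain ⟨S, hS, rfl⟩ := hχ
    rw [Set.Finite.mem_toFinset] at hS
    obtain ⟨hS0, hSw⟩ := hS
    apply finrank_wt_ge D hK m z x hz hxz hxx ρ (Ψ S) (hnontriv S hS0) (wt φ (wS S)) ?_ hSw
    intro v
    rw [mem_wt]
    constructor
    · intro h S'
      exact h (Multiplicative.ofAdd S')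
    · intro h a
      exact h (Multiplicative.toAdd a)
  have h1 : T.card * q ≤ ∑ χ ∈ T, finrank ℂ (wt φ χ) := by
    rw [← smul_eq_mul, ← Finset.sum_const]
    exact Finset.sum_le_sum hge
  have h2 : W.ncard * q ≤ finrank ℂ V := by
    rw [← hTcard]; exact h1.trans hsum
  have h3 : BB q m ≤ W.ncard := by
    unfold BB
    apply Nat.div_le_of_le_mul
    exact horb
  calc q * BB q m ≤ q * W.ncard := Nat.mul_le_mul_left q h3
    _ = W.ncard * q := Nat.mul_comm _ _
    _ ≤ finrank ℂ V := h2

end Cfsg.Agent.Helper4.LSC
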