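import Mathlib
import Cfsg.Agent.Helper4.LSCount
import Cfsg.Agent.Helper28.Herm
import Cfsg.Agent.S0837

import Cfsg.Agent.Helper2.LS34KER
import Cfsg.Agent.Helper2.LS34ELP

set_option autoImplicit false

/-! S2334: final assembly. -/

namespace Cfsg.Agent.Helper4.LSC

open Matrix Module Cfsg.Agent.S2334P Cfsg.Agent.Helper2.SUGen Cfsg.Agent.Helper4.LSW

/-- the arithmetic identity `(q^(2m+1) - q)/(q+1) = q * BB q m` -/
theorem arith (q m : ℕ) : (q ^ (2 * m + 1) - q) / (q + 1) = q * BB q m := by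
  unfold BB
  have hdvd : (q + 1) ∣ q ^ (2 * m) - 1 := by
    have h1 : q ^ 2 - 1 ∣ (q ^ 2) ^ m - 1 := Nat.sub_one_dvd_pow_sub_one (q ^ 2) m
    rw [← pow_mul] at h1
    have h2 : (q + 1) ∣ q ^ 2 - 1 := by
      refine ⟨q - 1, ?_⟩
      rcases Nat.eq_zero_or_pos q with h | h
      · subst h; simp
      · obtain ⟨r, rfl⟩ : ∃ r, q = r + 1 := ⟨q - 1, by omega⟩
        have : (r + 1) ^ 2 = (r + 1 + 1) * r + 1 := by ring
        rw [this]
        simp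
    exact h2.trans h1
  have e : q ^ (2 * m + 1) - q = q * (q ^ (2 * m) - 1) := by
    rw [pow_succ, Nat.mul_sub, Nat.mul_one, Nat.mul_comm]
  rw [e, Nat.mul_div_assoc _ hdvd]

/-- a non-zero anti-Hermitian matrix -/
theorem exists_AH_ne_zero {K : Type*} [Field K] {q : ℕ} (D : Frob K q) (m : ℕ) (hm : 1 ≤ m) :
    ∃ S : AH D.σ m, S ≠ 0 := by
  obtain ⟨s, hs0, hs⟩ := exists_skew D
  let i0 : Fin m := ⟨0, hm⟩
  refine ⟨⟨Matrix.single i0 i0 s, ?_⟩, ?_⟩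
  · rw [mem_AH]
    ext i j
    rw [ct_apply, Matrix.neg_apply, Matrix.single_apply, Matrix.single_apply]
    by_cases h : i0 = j ∧ i0 = i
    · rw [if_pos h, if_pos ⟨h.2, h.1⟩, hs]
    · rw [if_neg h, if_neg (fun h' => h ⟨h'.2, h'.1⟩), map_zero, neg_zero]
  · intro h
    have := congrArg (fun S : AH D.σ m => S.1 i0 i0) h
    simp only [Matrix.single_apply_same] at this
    exact hs0 this

theorem su_odd_min_degree {F : Type*} [Field F] [Fintype F] (n q : ℕ) (hn : 3 ≤ n) (hodd : Odd n)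
    (hF : Fintype.card F = q ^ 2) (hex : (n, q) ≠ (3, 2)) :
    ∀ (k : ℕ) (ρ : Representation ℂ (Cfsg.SU n F q) (Fin k → ℂ)), ρ.IsIrreducible → 2 ≤ k →
      (q ^ n - q) / (q + 1) ≤ k := by
  classical
  intro k ρ hirr hk
  obtain ⟨m, rfl⟩ := hodd
  have hm : 1 ≤ m := by omega
  have h32 : ¬ (2 * m + 1 = 3 ∧ q = 2) := by
    rintro ⟨h1, h2⟩
    apply hex
    rw [h1, h2]
  obtain ⟨σ, hσ, hσ2⟩ := Cfsg.Agent.Helper28.exists_frob hF
  have hσid := Cfsg.Agent.S0837.frob_ne_id hF σ hσ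
  let D : Frob F q := ⟨σ, hσ, hσ2, hσid⟩
  obtain ⟨z, l, x, hz, hzc, hl, hxz, hxx⟩ := exists_elements D hF m
  obtain ⟨S₀, hS₀⟩ := exists_AH_ne_zero D m hm
  have hnt : ∃ S, ρ (z S) ≠ 1 :=
    ⟨S₀, rho_ne_one hF (2 * m + 1) hn h32 k ρ hirr hk (z S₀) (hzc S₀ hS₀)⟩
  have h := degree_ge D hF m z l x hz hl hxz hxx ρ hnt
  rw [Module.finrank_fin_fun] at h
  rw [arith]
  exact h

end Cfsg.Agent.Helper4.LSC
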