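import Mathlib
import Cfsg.Agent.Helper9.LieGr
import Cfsg.Agent.Helper1.LieGrp

set_option autoImplicit false
set_option linter.unusedSectionVars false
set_option linter.unusedVariables false

/-! # S3779, piece LG2b: vanishing of the left-normed products of length `c+1` in the associated
graded Lie ring forces `γ_{c+1}(G) = γ_{c+2}(G)`, hence `γ_{c+1}(G) = 1` for nilpotent `G`. -/

namespace Cfsg.Agent.LieGrp.Aux4

open Cfsg.Agent.Helper9.LieGr Cfsg.Agent.LieGrp
open scoped commutatorElement

universe u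
variable {G : Type u} [Group G]

section Aux

variable {L : Type*} [LieRing L]

theorem lnProd_singleton (a : L) : lnProd [a] = a := rfl

theorem lnProd_append_singleton (l : List L) (hl : l ≠ []) (b : L) :
    lnProd (l ++ [b]) = ⁅lnProd l, b⁆ := by
  cases l with
  | nil => exact absurd rfl hl
  | cons x l =>
    show (l ++ [b]).foldl (fun a b => ⁅a, b⁆) x = ⁅l.foldl (fun a b => ⁅a, b⁆) x, b⁆
    rw [List.foldl_append]
    rfl

/-- the additive span of the left-normed products of length `n + 1` -/
def lnSpan (L : Type*) [LieRing L] (n : ℕ) : AddSubgroup L :=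
  AddSubgroup.closure {z | ∃ l : List L, l.length = n + 1 ∧ lnProd l = z}

theorem lie_mem_lnSpan {n : ℕ} {x : L} (hx : x ∈ lnSpan L n) (b : L) : ⁅x, b⁆ ∈ lnSpan L (n + 1) := by
  unfold lnSpan at hx
  induction hx using AddSubgroup.closure_induction with
  | mem z hz =>
    obtain ⟨l, hl, rfl⟩ := hz
    have hne : l ≠ [] := by
      intro h
      rw [h] at hl
      simp at hl
    rw [← lnProd_append_singleton l hne b]
    exact AddSubgroup.subset_closure ⟨l ++ [b], by simp [hl], rfl⟩
  | zero =>
    rw [zero_lie]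
    exact zero_mem _
  | add x y hx hy hx' hy' =>
    rw [add_lie]
    exact add_mem hx' hy'
  | neg x hx hx' =>
    rw [neg_lie]
    exact neg_mem hx'

theorem lnSpan_eq_bot {c : ℕ} (h : ∀ l : List L, l.length = c + 1 → lnProd l = 0) :
    lnSpan L c = ⊥ := by
  unfold lnSpan
  rw [AddSubgroup.closure_eq_bot_iff]
  rintro z ⟨l, hl, rfl⟩
  exact h l hl

end Aux

theorem cls_one (n : ℕ) : cls n (1 : G) (H G n).one_mem = 0 := by
  rw [cls_eq_zero_iff]
  exact (H G (n + 1)).one_mem

theorem cls_inv (n : ℕ) (x : G) (hx : x ∈ H G n) :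
    cls n x⁻¹ ((H G n).inv_mem hx) = - cls n x hx := by
  have h := cls_mul n x x⁻¹ hx ((H G n).inv_mem hx)
  have h1 : cls n (x * x⁻¹) ((H G n).mul_mem hx ((H G n).inv_mem hx)) = 0 := by
    rw [cls_eq_zero_iff, mul_inv_cancel]
    exact (H G (n + 1)).one_mem
  rw [h1] at h
  exact (neg_eq_of_add_eq_zero_right h.symm).symm

/-- every homogeneous element of degree `n` is a sum of left-normed products of length `n + 1` -/
theorem ι_cls_mem_lnSpan : ∀ (n : ℕ) (x : G) (hx : x ∈ H G n),
    ι G n (cls n x hx) ∈ lnSpan (LG G) n := by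
  intro n
  induction n with
  | zero =>
    intro x hx
    exact AddSubgroup.subset_closure ⟨[ι G 0 (cls 0 x hx)], rfl, rfl⟩
  | succ n ih =>
    intro x hx
    have key : ∀ y, y ∈ H G (n + 1) → ∀ hy : y ∈ H G (n + 1),
        ι G (n + 1) (cls (n + 1) y hy) ∈ lnSpan (LG G) (n + 1) := by
      intro y hy
      have hy' : y ∈ Subgroup.closure {z | ∃ p ∈ H G n, ∃ q ∈ (⊤ : Subgroup G), ⁅p, q⁆ = z} := hy
      induction hy' using Subgroup.closure_induction with
      | mem z hz =>
        obtain ⟨p, hp, q, hq, rfl⟩ := hz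
        intro hy2
        have h1 := lie_ι_ι n 0 p q hp (show q ∈ H G 0 from hq)
        have h2 : ι G (n + 1) (cls (n + 1) ⁅p, q⁆ hy2) =
            ⁅ι G n (cls n p hp), ι G 0 (cls 0 q (show q ∈ H G 0 from hq))⁆ := h1.symm
        rw [h2]
        exact lie_mem_lnSpan (ih p hp) _
      | one =>
        intro hy2
        rw [cls_one, map_zero]
        exact zero_mem _
      | mul a b ha hb ha' hb' =>
        intro hy2
        have ha2 : a ∈ H G (n + 1) := ha
        have hb2 : b ∈ H G (n + 1) := hb
        rw [cls_mul (n + 1) a b ha2 hb2, map_add]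
        exact add_mem (ha' ha2 ha2) (hb' hb2 hb2)
      | inv a ha ha' =>
        intro hy2
        have ha2 : a ∈ H G (n + 1) := ha
        rw [cls_inv (n + 1) a ha2, map_neg]
        exact neg_mem (ha' ha2 ha2)
    exact key x hx hx

end Cfsg.Agent.LieGrp.Aux4

namespace Cfsg.Agent.LieGrp

open Cfsg.Agent.Helper9.LieGr Cfsg.Agent.LieGrp.Aux4
open scoped commutatorElement

universe u
variable {G : Type u} [Group G]

theorem lcs_le_succ_of_lnProd (c : ℕ)
    (h : ∀ l : List (LG G), l.length = c + 1 → lnProd l = 0) : H G c ≤ H G (c + 1) := by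
  intro x hx
  have h1 := ι_cls_mem_lnSpan c x hx
  rw [lnSpan_eq_bot h, AddSubgroup.mem_bot] at h1
  have h2 : cls c x hx = 0 := by
    have hinj : Function.Injective (ι G c) := DirectSum.of_injective (β := A G) c
    apply hinj
    rw [h1, map_zero]
  exact (cls_eq_zero_iff c x hx).mp h2

theorem lcs_eq_bot_of_lnProd (hnil : Group.IsNilpotent G) (c : ℕ)
    (h : ∀ l : List (LG G), l.length = c + 1 → lnProd l = 0) : H G c = ⊥ := by
  have h1 : H G c ≤ H G (c + 1) := lcs_le_succ_of_lnProd c h
  have h2 : H G (c + 1) = H G c :=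
    le_antisymm ((⊤ : Subgroup G).lowerCentralSeries_antitone (Nat.le_succ c)) h1
  have h3 : ∀ k, H G (c + k) = H G c := by
    intro k
    induction k with
    | zero => rfl
    | succ k ih =>
      show ⁅H G (c + k), (⊤ : Subgroup G)⁆ = H G c
      rw [ih]
      exact h2
  obtain ⟨m, hm⟩ := Subgroup.nilpotent_iff_lowerCentralSeries.mp hnil
  rcases Nat.le_total m c with hmc | hmc
  · have := (⊤ : Subgroup G).lowerCentralSeries_antitone hmc
    rw [hm] at this
    exact le_bot_iff.mp this
  · obtain ⟨k, rfl⟩ := Nat.exists_eq_add_of_le hmc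
    rw [← h3 k]
    exact hm

end Cfsg.Agent.LieGrp
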