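import Mathlib
import Cfsg.Agent.Helper4.Plane4b
import Cfsg.Agent.Helper4.SteinerOpt

/-!
# The projective plane over a field with 4 elements as a Steiner system, with its `PSL` action
-/

set_option autoImplicit false
set_option linter.unusedSectionVars false
set_option linter.unusedVariables false

namespace Cfsg.Agent.Helper4.ProjPlane4

open Finset Cfsg Module
open scoped LinearAlgebra.Projectivization

variable (F : Type) [Field F] [Fintype F]

/-- The ambient space. -/
abbrev V3 := Fin 3 → F

/-- The points. -/
abbrev X := ℙ F (V3 F)

noncomputable instance : Fintype (X F) := Fintype.ofFinite _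
noncomputable instance : DecidableEq (X F) := Classical.decEq _

variable {F}

theorem card_X (hF : Fintype.card F = 4) : Fintype.card (X F) = 21 := by
  rw [← Nat.card_eq_fintype_card,
    Projectivization.card_of_finrank F (V3 F) (n := 3) (by simp), Nat.card_eq_fintype_card, hF]
  decide

/-- The points on a subspace. -/
noncomputable def pline (W : Submodule F (V3 F)) : Finset (X F) := by
  classical exact univ.filter (fun p => p.submodule ≤ W)

theorem mem_pline {W : Submodule F (V3 F)} {p : X F} : p ∈ pline W ↔ p.submodule ≤ W := by
  classical
  simp [pline]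

theorem mk_mem_pline {W : Submodule F (V3 F)} {v : V3 F} (hv : v ≠ 0) :
    Projectivization.mk F v hv ∈ pline W ↔ v ∈ W := by
  rw [mem_pline, Projectivization.submodule_mk, Submodule.span_singleton_le_iff_mem]

/-- The lines of the plane. -/
def PL : Set (Finset (X F)) := {l | ∃ W : Submodule F (V3 F), finrank F W = 2 ∧ l = pline W}

theorem card_pline (hF : Fintype.card F = 4) {W : Submodule F (V3 F)} (hW : finrank F W = 2) :
    (pline W).card = 5 := by
  classical
  letI : Fintype (ℙ F W) := Fintype.ofFinite _
  have hinj := Projectivization.map_injective (W.subtype) W.injective_subtype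
  have himg : pline W = univ.image (Projectivization.map W.subtype W.injective_subtype) := by
    ext p
    rw [mem_image]
    constructor
    · intro hp
      induction p using Projectivization.ind with | _ v hv =>
      rw [mk_mem_pline] at hp
      refine ⟨Projectivization.mk F (⟨v, hp⟩ : W) (fun h => hv (congrArg Subtype.val h)),
        mem_univ _, ?_⟩
      rw [Projectivization.map_mk]
      rfl
    · rintro ⟨p', -, rfl⟩
      induction p' using Projectivization.ind with | _ w hw =>
      rw [Projectivization.map_mk, mk_mem_pline]
      exact w.2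
  rw [himg, card_image_of_injective _ hinj, card_univ, ← Nat.card_eq_fintype_card,
    Projectivization.card_of_finrank_two F W hW, Nat.card_eq_fintype_card, hF]

theorem inf_submodule_eq_bot {p q : X F} (hpq : p ≠ q) : p.submodule ⊓ q.submodule = ⊥ := by
  by_contra hne
  have h0 : finrank F ↥(p.submodule ⊓ q.submodule) ≠ 0 := by
    rw [Ne, Submodule.finrank_eq_zero]
    exact hne
  have h1 : finrank F ↥(p.submodule ⊓ q.submodule) ≤ 1 := by
    rw [← p.finrank_submodule]
    exact Submodule.finrank_mono inf_le_left
  have h2 : finrank F ↥(p.submodule ⊓ q.submodule) = 1 := by omega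
  have e1 : p.submodule ⊓ q.submodule = p.submodule :=
    Submodule.eq_of_le_of_finrank_eq inf_le_left (by rw [h2, p.finrank_submodule])
  have e2 : p.submodule ⊓ q.submodule = q.submodule :=
    Submodule.eq_of_le_of_finrank_eq inf_le_right (by rw [h2, q.finrank_submodule])
  exact hpq (Projectivization.submodule_injective (e1.symm.trans e2))

theorem finrank_sup {p q : X F} (hpq : p ≠ q) :
    finrank F ↥(p.submodule ⊔ q.submodule) = 2 := by
  have h := Submodule.finrank_sup_add_finrank_inf_eq p.submodule q.submodule
  rw [inf_submodule_eq_bot hpq, finrank_bot, p.finrank_submodule, q.finrank_submodule] at h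
  omega

theorem steiner (hF : Fintype.card F = 4) : IsSteinerSystem 2 5 (PL (F := F)) := by
  constructor
  · rintro l ⟨W, hW, rfl⟩
    exact card_pline hF hW
  · intro s hs
    obtain ⟨p, q, hpq, rfl⟩ := Finset.card_eq_two.mp hs
    refine ⟨pline (p.submodule ⊔ q.submodule), ⟨⟨_, finrank_sup hpq, rfl⟩, ?_⟩, ?_⟩
    · intro x hx
      rw [mem_insert, mem_singleton] at hx
      rw [mem_pline]
      rcases hx with rfl | rfl
      · exact le_sup_left
      · exact le_sup_right
    · rintro l ⟨⟨W, hW, rfl⟩, hsub⟩
      have hp : p.submodule ≤ W := mem_pline.mp (hsub (by simp))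
      have hq : q.submodule ≤ W := mem_pline.mp (hsub (by simp))
      have : p.submodule ⊔ q.submodule = W :=
        Submodule.eq_of_le_of_finrank_eq (sup_le hp hq) (by rw [finrank_sup hpq, hW])
      rw [this]

section Action

open Matrix

theorem smul_mem_pline (g : SpecialLinearGroup (Fin 3) F) (W : Submodule F (V3 F)) (p : X F)
    (hp : p ∈ pline W) :
    g • p ∈ pline (W.map (SpecialLinearGroup.toLin' g : V3 F →ₗ[F] V3 F)) := by
  induction p using Projectivization.ind with | _ v hv =>
  rw [mk_mem_pline] at hp
  rw [Projectivization.smul_mk, mk_mem_pline]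
  exact Submodule.mem_map_of_mem (f := (SpecialLinearGroup.toLin' g : V3 F →ₗ[F] V3 F)) hp

theorem image_pline_subset (g : SpecialLinearGroup (Fin 3) F) (W : Submodule F (V3 F)) :
    (pline W).image (fun p => g • p) ⊆
      pline (W.map (SpecialLinearGroup.toLin' g : V3 F →ₗ[F] V3 F)) := by
  intro x hx
  obtain ⟨p, hp, rfl⟩ := mem_image.mp hx
  exact smul_mem_pline g W p hp

theorem finrank_map (g : SpecialLinearGroup (Fin 3) F) (W : Submodule F (V3 F)) :
    finrank F ↥(W.map (SpecialLinearGroup.toLin' g : V3 F →ₗ[F] V3 F)) = finrank F W :=
  LinearEquiv.finrank_map_eq (SpecialLinearGroup.toLin' g) W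

theorem image_pline (hF : Fintype.card F = 4) (g : SpecialLinearGroup (Fin 3) F)
    {W : Submodule F (V3 F)} (hW : finrank F W = 2) :
    (pline W).image (fun p => g • p) =
      pline (W.map (SpecialLinearGroup.toLin' g : V3 F →ₗ[F] V3 F)) := by
  apply eq_of_subset_of_card_le (image_pline_subset g W)
  rw [card_pline hF (by rw [finrank_map, hW]), card_image_of_injective _ (MulAction.injective g),
    card_pline hF hW]

/-- The action of `PSL(3, F)` on the plane by collineations. -/
theorem exists_hom (hF : Fintype.card F = 4) :
    ∃ ψ : ProjectiveSpecialLinearGroup (Fin 3) F →* setSystemAut (PL (F := F)),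
      Function.Injective ψ := by
  classical
  have hmem : ∀ x : ProjectiveSpecialLinearGroup (Fin 3) F,
      Projectivization.PSLAction.toPermHom x ∈ setSystemAut (PL (F := F)) := by
    intro x
    induction x using QuotientGroup.induction_on with | _ g =>
    rw [Cfsg.Agent.Helper4.Plane4.mem_setSystemAut_iff]
    have key : ∀ (h : SpecialLinearGroup (Fin 3) F) (l : Finset (X F)), l ∈ PL (F := F) →
        l.image (fun p => h • p) ∈ PL (F := F) := by
      rintro h l ⟨W, hW, rfl⟩
      exact ⟨_, (finrank_map h W).trans hW, image_pline hF h hW⟩
    intro l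
    have hσ : ∀ p : X F, Projectivization.PSLAction.toPermHom
        (QuotientGroup.mk g : ProjectiveSpecialLinearGroup (Fin 3) F) p = g • p := fun p => rfl
    have himg : l.image (Projectivization.PSLAction.toPermHom
        (QuotientGroup.mk g : ProjectiveSpecialLinearGroup (Fin 3) F)) = l.image (fun p => g • p) :=
      image_congr (fun p _ => hσ p)
    rw [himg]
    constructor
    · exact key g l
    · intro hl
      have := key g⁻¹ _ hl
      rw [image_image] at this
      have hid : l.image ((fun p => g⁻¹ • p) ∘ fun p => g • p) = l := by
        have : ((fun p : X F => g⁻¹ • p) ∘ fun p => g • p) = id := by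
          funext p; simp
        rw [this, image_id]
      rwa [hid] at this
  refine ⟨MonoidHom.codRestrict Projectivization.PSLAction.toPermHom _ hmem, ?_⟩
  intro x y h
  apply Matrix.ProjectiveSpecialLinearGroup.toPermHom_injective
  exact congrArg Subtype.val h

end Action

end Cfsg.Agent.Helper4.ProjPlane4
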