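import Mathlib
import Cfsg.Agent.Helper4.S22Group2
import Cfsg.Agent.Helper4.S24Main
import Cfsg.Agent.Helper4.ProjPlane4
import Cfsg.Agent.Helper4.RigidFrame
import Cfsg.Agent.Helper4.Plane4b
import Cfsg.Agent.Helper12.SLCardDvd
import Cfsg.Agent.Helper2.PSLSimple
import Cfsg.Agent.Helper27.M24Trans
import Cfsg.Agent.S0369

/-!
# The three-point stabilizer of `M24` is `PSL(3,4)`
-/

set_option autoImplicit false
set_option linter.unusedSectionVars false
set_option linter.unusedVariables false

namespace Cfsg.Agent.Helper4.M21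

open Finset Cfsg Function Cfsg.Agent.Helper4.SteinerOpt Cfsg.Agent.Helper4.S22Unique
  Cfsg.Agent.Helper4.Plane4 Cfsg.Agent.Helper4.M12Rigid Cfsg.Agent.Helper4.RigidFrame



section Transfer

variable {X α : Type*} [DecidableEq X] [DecidableEq α]

/-- Restriction of the three-point stabilizer of an extension to the derived design. -/
theorem exists_hom3 (O : Set (Finset X)) (B : Set (Finset α)) (p q r : X) (j : α → X)
    (hj : Injective j) (hrange : ∀ x, x ≠ p → x ≠ q → x ≠ r → ∃ a, j a = x) (hjp : ∀ a, j a ≠ p)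
    (hjq : ∀ a, j a ≠ q) (hjr : ∀ a, j a ≠ r)
    (hB : ∀ l : Finset α, l ∈ B ↔ insert p (insert q (insert r (l.image j))) ∈ O) :
    ∃ ψ : ↥(MulAction.stabilizer (setSystemAut O) p ⊓ MulAction.stabilizer (setSystemAut O) q ⊓
      MulAction.stabilizer (setSystemAut O) r) →* setSystemAut B, Injective ψ := by
  classical
  let K := ↥(MulAction.stabilizer (setSystemAut O) p ⊓ MulAction.stabilizer (setSystemAut O) q ⊓
      MulAction.stabilizer (setSystemAut O) r)
  let θ : K → Equiv.Perm X := fun k => ((k : setSystemAut O) : Equiv.Perm X)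
  have hθmul : ∀ k k' : K, ∀ x, θ (k * k') x = θ k (θ k' x) := fun k k' x => rfl
  have hθone : ∀ x, θ (1 : K) x = x := fun x => rfl
  have hθp : ∀ k : K, θ k p = p := fun k => k.2.1.1
  have hθq : ∀ k : K, θ k q = q := fun k => k.2.1.2
  have hθr : ∀ k : K, θ k r = r := fun k => k.2.2
  have hθO : ∀ k : K, ∀ c, c ∈ O ↔ c.image (θ k) ∈ O := fun k =>
    (mem_setSystemAut_iff O _).mp (k : setSystemAut O).2
  have h1 : ∀ (k : K) (a : α), θ k (j a) ≠ p := by
    intro k a h
    rw [← hθp k] at h
    exact hjp a ((θ k).injective h)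
  have h2 : ∀ (k : K) (a : α), θ k (j a) ≠ q := by
    intro k a h
    rw [← hθq k] at h
    exact hjq a ((θ k).injective h)
  have h2r : ∀ (k : K) (a : α), θ k (j a) ≠ r := by
    intro k a h
    rw [← hθr k] at h
    exact hjr a ((θ k).injective h)
  let fwd : K → α → α := fun k a =>
    Classical.choose (hrange (θ k (j a)) (h1 k a) (h2 k a) (h2r k a))
  have hfwd : ∀ k a, j (fwd k a) = θ k (j a) := fun k a =>
    Classical.choose_spec (hrange (θ k (j a)) (h1 k a) (h2 k a) (h2r k a))
  have hmul : ∀ k k' a, fwd (k * k') a = fwd k (fwd k' a) := by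
    intro k k' a
    apply hj
    rw [hfwd, hfwd, hfwd, hθmul]
  have hone : ∀ a, fwd 1 a = a := by
    intro a
    apply hj
    rw [hfwd, hθone]
  let ψ₀ : K → Equiv.Perm α := fun k =>
    ⟨fwd k, fwd k⁻¹, fun a => by rw [← hmul, inv_mul_cancel, hone],
      fun a => by rw [← hmul, mul_inv_cancel, hone]⟩
  have hmem : ∀ k, ψ₀ k ∈ setSystemAut B := by
    intro k
    rw [mem_setSystemAut_iff]
    intro l
    have e1 : (l.image (ψ₀ k)).image j = (l.image j).image (θ k) := by
      rw [image_image, image_image]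
      apply image_congr
      intro a _
      exact hfwd k a
    have e2 : insert p (insert q (insert r ((l.image j).image (θ k)))) =
        (insert p (insert q (insert r (l.image j)))).image (θ k) := by
      rw [image_insert, image_insert, image_insert, hθp, hθq, hθr]
    rw [hB, hB (l.image (ψ₀ k)), e1, e2]
    exact hθO k _
  refine ⟨⟨⟨fun k => ⟨ψ₀ k, hmem k⟩, Subtype.ext (Equiv.ext hone)⟩,
    fun k k' => Subtype.ext (Equiv.ext (hmul k k'))⟩, ?_⟩
  intro k k' hkk
  have h3 : ∀ a, fwd k a = fwd k' a := fun a =>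
    congrArg (fun t : setSystemAut B => (t : Equiv.Perm α) a) hkk
  have h4 : θ k = θ k' := by
    ext1 x
    by_cases hxp : x = p
    · rw [hxp, hθp, hθp]
    by_cases hxq : x = q
    · rw [hxq, hθq, hθq]
    by_cases hxr : x = r
    · rw [hxr, hθr, hθr]
    obtain ⟨a, rfl⟩ := hrange x hxp hxq hxr
    rw [← hfwd, ← hfwd, h3]
  exact Subtype.ext (Subtype.ext h4)

end Transfer

section Setup

variable {α : Type*} [Fintype α] [DecidableEq α]

open Cfsg.Agent.Helper4.S22Group

/-- Every `S(2,5,21)` is the triply derived design of the octad system. -/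
theorem exists_embedding3 (hα : Fintype.card α = 21) {B : Set (Finset α)}
    (hB : IsSteinerSystem 2 5 B) (p q r : GolayPt) (hpq : p ≠ q) (hpr : p ≠ r) (hqr : q ≠ r) :
    ∃ j : α → GolayPt, Injective j ∧ (∀ x, x ≠ p → x ≠ q → x ≠ r → ∃ a, j a = x) ∧
      (∀ a, j a ≠ p) ∧ (∀ a, j a ≠ q) ∧ (∀ a, j a ≠ r) ∧
      ∀ l : Finset α, l ∈ B ↔ insert p (insert q (insert r (l.image j))) ∈ octads := by
  have hO := Cfsg.Agent.S0363.result
  set q' : Pt p := ⟨q, fun h => hpq h.symm⟩ with hq'
  set r' : Pt q' := ⟨⟨r, fun h => hpr h.symm⟩, fun h => hqr (congrArg Subtype.val h).symm⟩ with hr'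
  have hD23 : IsSteinerSystem 4 7 (der octads p) := Cfsg.Agent.S0351.result hO p
  have hD22 : IsSteinerSystem 3 6 (der (der octads p) q') := Cfsg.Agent.S0351.result hD23 q'
  have hD21 : IsSteinerSystem 2 5 (der (der (der octads p) q') r') :=
    Cfsg.Agent.S0351.result hD22 r'
  have hc23 : Fintype.card (Pt p) = 23 := by rw [card_Pt, golayPt_card]
  have hc22 : Fintype.card (Pt q') = 22 := by rw [card_Pt, hc23]
  have hc21 : Fintype.card (Pt r') = 21 := by rw [card_Pt, hc22]
  obtain ⟨e, he⟩ := plane4_unique hc21 hα hD21 hB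
  refine ⟨fun a => (((e.symm a).1).1).1, ?_, ?_, ?_, ?_, ?_, ?_⟩
  · intro a a' h
    exact e.symm.injective (Subtype.ext (Subtype.ext (Subtype.ext h)))
  · intro x hxp hxq hxr
    refine ⟨e ⟨⟨⟨x, hxp⟩, fun h => hxq (congrArg Subtype.val h)⟩,
      fun h => hxr (congrArg (fun t => t.1.1) h)⟩, ?_⟩
    simp
  · intro a
    exact (e.symm a).1.1.2
  · intro a h
    exact (e.symm a).1.2 (Subtype.ext h)
  · intro a h
    exact (e.symm a).2 (Subtype.ext (Subtype.ext h))
  · intro l
    have h1 : l ∈ B ↔ l.image e.symm ∈ der (der (der octads p) q') r' := by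
      rw [← he]
      constructor
      · rintro ⟨m, hm, rfl⟩
        rw [image_image]
        simpa using hm
      · intro hm
        refine ⟨_, hm, ?_⟩
        show (l.image e.symm).image e = l
        rw [image_image]
        simp
    rw [h1, mem_der_iff, mem_der_iff, mem_der_iff]
    have h2 : insert p (up p (insert q' (up q' (insert r' (up r' (l.image e.symm)))))) =
        insert p (insert q (insert r (l.image (fun a => (((e.symm a).1).1).1)))) := by
      ext x
      simp only [mem_insert, mem_up, mem_image]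
      constructor
      · rintro (hxp | ⟨hx, hxq | ⟨hx', hxr | ⟨hx'', a, ha, hae⟩⟩⟩)
        · exact Or.inl hxp
        · exact Or.inr (Or.inl (congrArg Subtype.val hxq))
        · exact Or.inr (Or.inr (Or.inl (congrArg (fun t => t.1.1) hxr)))
        · refine Or.inr (Or.inr (Or.inr ⟨a, ha, ?_⟩))
          rw [hae]
      · rintro (hxp | hxq | hxr | ⟨a, ha, hax⟩)
        · exact Or.inl hxp
        · subst hxq
          exact Or.inr ⟨fun h => hpq h.symm, Or.inl rfl⟩
        · subst hxr
          exact Or.inr ⟨fun h => hpr h.symm, Or.inr ⟨fun h => hqr (congrArg Subtype.val h).symm,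
            Or.inl rfl⟩⟩
        · subst hax
          exact Or.inr ⟨(e.symm a).1.1.2, Or.inr ⟨(e.symm a).1.2, Or.inr ⟨(e.symm a).2, a, ha, rfl⟩⟩⟩
    rw [h2]

end Setup




section Bound

variable {α : Type*} [Fintype α] [DecidableEq α]

theorem card_aut_le (hα : Fintype.card α = 21) {B : Set (Finset α)} (hB : IsSteinerSystem 2 5 B) :
    Nat.card (setSystemAut B) ≤ 120960 := by
  classical
  have h := isPlane4_linesFinset hα hB
  obtain ⟨H, hH⟩ := card_pos.mp
    (by rw [card_arcs_six h]; omega : 0 < (arcs (linesFinset B) 6).card)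
  have hH' := mem_arcs.mp hH
  set D : Set (Finset α) := ↑(arcs (linesFinset B) 6) with hD
  have hk : ∀ b ∈ D, b.card = 6 := fun b hb => (mem_arcs.mp hb).1
  have hcf := card_frames D hk
  have hDn : D.ncard = 168 := by rw [hD, Set.ncard_coe_finset, card_arcs_six h]
  let s : ↥H ≃ Fin 6 := H.equivFinOfCardEq hH'.1
  let f₀ : Fin 6 → α := fun i => (s.symm i : α)
  have hf₀inj : Injective f₀ := fun i j hij => s.symm.injective (Subtype.ext hij)
  have hf₀img : univ.image f₀ = H := by
    ext y
    simp only [mem_image, mem_univ, true_and]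
    constructor
    · rintro ⟨i, rfl⟩; exact (s.symm i).2
    · intro hy; exact ⟨s ⟨y, hy⟩, by simp [f₀]⟩
  have haut : ∀ g : setSystemAut B, ∀ l, l ∈ linesFinset B ↔
      l.image (g : Equiv.Perm α) ∈ linesFinset B := by
    intro g l
    rw [mem_linesFinset, mem_linesFinset]
    exact (mem_setSystemAut_iff B _).mp g.2 l
  have himg : ∀ g : setSystemAut B, univ.image (⇑(g : Equiv.Perm α) ∘ f₀) =
      H.image (g : Equiv.Perm α) := by
    intro g
    rw [← hf₀img, image_image]
  let Φ : setSystemAut B × {x // x ∉ H} → {p : (Fin 6 → α) × α // IsFrame D p.1 p.2} := fun p =>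
    ⟨(⇑(p.1 : Equiv.Perm α) ∘ f₀, (p.1 : Equiv.Perm α) p.2.1), by
      refine ⟨(p.1 : Equiv.Perm α).injective.comp hf₀inj, ?_, ?_⟩
      · rw [himg, hD, mem_coe, mem_arcs]
        refine ⟨by rw [card_image_of_injective _ (p.1 : Equiv.Perm α).injective]; exact hH'.1, ?_⟩
        exact (isArc_image_iff (p.1 : Equiv.Perm α) (haut p.1) H).mpr hH'.2
      · rw [himg]
        intro hx
        obtain ⟨y, hy, hyx⟩ := mem_image.mp hx
        exact p.2.2 ((p.1 : Equiv.Perm α).injective hyx ▸ hy)⟩
  have hΦ : Injective Φ := by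
    rintro ⟨g, x⟩ ⟨g', x'⟩ hgg
    have h' := congrArg Subtype.val hgg
    simp only [Φ, Prod.mk.injEq] at h'
    obtain ⟨h1, h2⟩ := h'
    have hfix : ∀ p : ↥H, ((g'⁻¹ * g : setSystemAut B) : Equiv.Perm α) p =
        ((1 : Equiv.Perm ↥H) p : α) := by
      intro p
      show (g' : Equiv.Perm α)⁻¹ ((g : Equiv.Perm α) p) = p
      have := congrFun h1 (s p)
      simp only [comp_apply, f₀, Equiv.symm_apply_apply] at this
      rw [this]
      simp
    obtain ⟨u, -, hu⟩ := hyperoval_perm_ext hα B hB H ⟨hH'.1, isArc_linesFinset.mp hH'.2⟩ 1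
    have e1 := hu _ ⟨(g'⁻¹ * g : setSystemAut B).2, hfix⟩
    have e2 := hu 1 ⟨(setSystemAut B).one_mem, fun p => rfl⟩
    have hgg1 : g'⁻¹ * g = 1 := Subtype.ext (e1.trans e2.symm)
    have hg : g = g' := by
      have := congrArg (fun t => g' * t) hgg1
      simpa using this
    subst hg
    have hx : x = x' := Subtype.ext ((g : Equiv.Perm α).injective h2)
    rw [hx]
  have hle := Nat.card_le_card_of_injective Φ hΦ
  have hHc : Nat.card {x // x ∉ H} = 15 := by
    rw [Nat.card_eq_fintype_card, Fintype.card_subtype_compl, Fintype.card_coe, hα, hH'.1]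
  rw [Nat.card_prod, hHc, hcf, hDn, hα] at hle
  have h6 : Nat.factorial 6 = 720 := by decide
  rw [h6] at hle
  omega

end Bound




section Abstract

variable {Γ : Type*} [Group Γ] [Finite Γ]

/-- A simple subgroup coincides with any subgroup of the same order and small index. -/
theorem eq_of_simple_of_small_index (S L : Subgroup Γ) [IsSimpleGroup S]
    (hcard : Nat.card S = Nat.card L) (hidx : (L.index).factorial < Nat.card S) : S = L := by
  classical
  have : Fintype (Γ ⧸ L) := Fintype.ofFinite _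
  let φ : S →* Equiv.Perm (Γ ⧸ L) := MulAction.toPermHom S (Γ ⧸ L)
  have hker : φ.ker = ⊥ ∨ φ.ker = ⊤ := (φ.normal_ker).eq_bot_or_eq_top
  have hle : S ≤ L := by
    rcases hker with hbot | htop
    · exfalso
      have hinj : Injective φ := (MonoidHom.ker_eq_bot_iff φ).mp hbot
      have h1 := Nat.card_le_card_of_injective φ hinj
      rw [Nat.card_perm, ← Subgroup.index_eq_card] at h1
      omega
    · intro s hs
      have h1 : (⟨s, hs⟩ : S) ∈ φ.ker := by rw [htop]; exact Subgroup.mem_top _
      have h2 : φ ⟨s, hs⟩ = 1 := h1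
      have h3 := congrArg (fun t : Equiv.Perm (Γ ⧸ L) => t ((1 : Γ) : Γ ⧸ L)) h2
      simp only [Equiv.Perm.coe_one, id_eq] at h3
      have h4 : ((s * 1 : Γ) : Γ ⧸ L) = ((1 : Γ) : Γ ⧸ L) := h3
      rw [mul_one, QuotientGroup.eq, mul_one] at h4
      exact (Subgroup.inv_mem_iff L).mp h4
  exact Subgroup.eq_of_le_of_card_ge hle (le_of_eq hcard.symm)

end Abstract

section PSLCard

open Matrix

variable (F : Type) [Field F] [Fintype F]

theorem card_PSL3 (hF : Fintype.card F = 4) :
    Nat.card (Matrix.ProjectiveSpecialLinearGroup (Fin 3) F) = 20160 := by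
  have h1 := Cfsg.Agent.Helper12.SLCardDvd.card_SL_succ (F := F) 2
  have h2 := Cfsg.Agent.Helper2.card_center_SL (F := F) 3 (by norm_num)
  rw [Cfsg.Agent.Helper2.card_units_field, hF] at h2
  rw [hF] at h1
  have h3 : Nat.card (SpecialLinearGroup (Fin 3) F) = 60480 := by
    rw [h1]; decide
  have h4 : Nat.card (Subgroup.center (SpecialLinearGroup (Fin 3) F)) = 3 := by
    rw [h2]; decide
  have h5 := Subgroup.card_eq_card_quotient_mul_card_subgroup
    (Subgroup.center (SpecialLinearGroup (Fin 3) F))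
  rw [h3, h4] at h5
  have h6 : Nat.card (Matrix.ProjectiveSpecialLinearGroup (Fin 3) F) =
      Nat.card (SpecialLinearGroup (Fin 3) F ⧸ Subgroup.center (SpecialLinearGroup (Fin 3) F)) := rfl
  rw [h6]
  omega

end PSLCard




theorem card_stabilizer3_M24 (p q r : GolayPt) (hpq : p ≠ q) (hpr : p ≠ r) (hqr : q ≠ r) :
    Nat.card ↥(MulAction.stabilizer M24 p ⊓ MulAction.stabilizer M24 q ⊓
      MulAction.stabilizer M24 r) = 20160 := by
  have h3p : MulAction.IsMultiplyPretransitive M24 GolayPt 3 :=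
    Cfsg.Agent.Helper27.M24_isMultiplyPretransitive_of_le (by norm_num)
  have hs : ({p, q, r} : Set GolayPt).ncard = 3 := by
    rw [Set.ncard_insert_of_notMem (by simp [hpq, hpr]), Set.ncard_pair hqr]
  have h1 := h3p.index_of_fixingSubgroup_mul hs
  have hfs : fixingSubgroup M24 ({p, q, r} : Set GolayPt) =
      MulAction.stabilizer M24 p ⊓ MulAction.stabilizer M24 q ⊓ MulAction.stabilizer M24 r := by
    ext g
    simp [mem_fixingSubgroup_iff, MulAction.mem_stabilizer_iff, and_assoc]
  rw [hfs, Cfsg.Agent.Helper27.card_GolayPt] at h1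
  have h2 := Subgroup.card_mul_index (MulAction.stabilizer M24 p ⊓ MulAction.stabilizer M24 q ⊓
    MulAction.stabilizer M24 r)
  rw [Cfsg.Agent.Helper27.card_M24] at h2
  have h3 : (24 : ℕ).factorial = 12144 * (21 : ℕ).factorial := by
    rw [show (24:ℕ) = 21 + 1 + 1 + 1 from rfl, Nat.factorial_succ, Nat.factorial_succ,
      Nat.factorial_succ]; ring
  rw [h3] at h1
  have h4 : (MulAction.stabilizer M24 p ⊓ MulAction.stabilizer M24 q ⊓
      MulAction.stabilizer M24 r).index = 12144 :=
    Nat.eq_of_mul_eq_mul_right (Nat.factorial_pos 21) h1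
  rw [h4] at h2
  omega


section Final

open Matrix

theorem m21_iso (p q r : GolayPt) (hpq : p ≠ q) (hpr : p ≠ r) (hqr : q ≠ r) (F : Type) [Field F]
    [Fintype F] (hF : Fintype.card F = 4) :
    Nonempty (↥(MulAction.stabilizer M24 p ⊓ MulAction.stabilizer M24 q ⊓
      MulAction.stabilizer M24 r) ≃* Matrix.ProjectiveSpecialLinearGroup (Fin 3) F) := by
  have key : ∀ A : Subgroup (Equiv.Perm GolayPt), A = setSystemAut octads →
      Nat.card ↥(MulAction.stabilizer A p ⊓ MulAction.stabilizer A q ⊓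
        MulAction.stabilizer A r) = 20160 →
      Nonempty (↥(MulAction.stabilizer A p ⊓ MulAction.stabilizer A q ⊓
        MulAction.stabilizer A r) ≃* Matrix.ProjectiveSpecialLinearGroup (Fin 3) F) := by
    intro A hA hK
    subst hA
    have hX := Cfsg.Agent.Helper4.ProjPlane4.card_X (F := F) hF
    have hB := Cfsg.Agent.Helper4.ProjPlane4.steiner (F := F) hF
    obtain ⟨j, hj, hrange, hjp, hjq, hjr, hjB⟩ := exists_embedding3 hX hB p q r hpq hpr hqr
    obtain ⟨ψ₁, hψ₁⟩ := exists_hom3 octads _ p q r j hj hrange hjp hjq hjr hjB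
    obtain ⟨ψ₂, hψ₂⟩ := Cfsg.Agent.Helper4.ProjPlane4.exists_hom (F := F) hF
    have hΓ := card_aut_le hX hB
    have hS : Nat.card ψ₂.range = 20160 := by
      rw [← card_PSL3 F hF]
      exact Nat.card_congr (MonoidHom.ofInjective hψ₂).toEquiv.symm
    have hL : Nat.card ψ₁.range = 20160 := by
      rw [← hK]
      exact Nat.card_congr (MonoidHom.ofInjective hψ₁).toEquiv.symm
    have hsimple : IsSimpleGroup (Matrix.ProjectiveSpecialLinearGroup (Fin 3) F) :=
      Cfsg.Agent.Helper2.PSL_isSimpleGroup (by simp)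
    have hnt : Nontrivial ψ₂.range := by
      rw [← Finite.one_lt_card_iff_nontrivial, hS]
      norm_num
    have hsimple' : IsSimpleGroup ψ₂.range :=
      IsSimpleGroup.isSimpleGroup_of_surjective ψ₂.rangeRestrict ψ₂.rangeRestrict_surjective
    have hidx : ψ₁.range.index ≤ 6 := by
      have := Subgroup.card_mul_index ψ₁.range
      rw [hL] at this
      omega
    have hfac : (ψ₁.range.index).factorial < Nat.card ψ₂.range := by
      have h1 := Nat.factorial_le hidx
      have h6 : Nat.factorial 6 = 720 := by decide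
      rw [hS]
      omega
    have heq : ψ₂.range = ψ₁.range :=
      eq_of_simple_of_small_index _ _ (hS.trans hL.symm) hfac
    exact ⟨(MonoidHom.ofInjective hψ₁).trans ((MulEquiv.subgroupCongr heq.symm).trans
      (MonoidHom.ofInjective hψ₂).symm)⟩
  exact key M24 Cfsg.Agent.S0369.result (card_stabilizer3_M24 p q r hpq hpr hqr)

end Final

end Cfsg.Agent.Helper4.M21
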