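import Mathlib
import Cfsg.Prelude.Def_AxialAlgebras

set_option autoImplicit false
set_option linter.style.haveILetI false
set_option linter.unusedSectionVars false

/-!
# Toolkit for Majorana involutions (axes of Monster type `(1/4, 1/32)` over the reals)
-/

namespace Cfsg.Agent.Helper4.Majorana

open Cfsg Cfsg.Axial

variable {V : Type*} [AddCommGroup V] [Module ℝ V]
variable {mul : V →ₗ[ℝ] V →ₗ[ℝ] V} {B : LinearMap.BilinForm ℝ V}

theorem mem_eigen {a v : V} {c : ℝ} : v ∈ eigen mul a c ↔ mul a v = c • v := by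
  unfold eigen
  rw [Module.End.mem_eigenspace_iff]

theorem eigenSum_singleton (a : V) (c : ℝ) : eigenSum mul a {c} = eigen mul a c := by
  unfold eigenSum
  rw [iSup_singleton]

theorem eigenSum_pair (a : V) (c d : ℝ) : eigenSum mul a {c, d} = eigen mul a c ⊔ eigen mul a d := by
  unfold eigenSum
  rw [iSup_insert, iSup_singleton]

theorem eigenSum_insert (a : V) (c : ℝ) (S : Set ℝ) :
    eigenSum mul a (insert c S) = eigen mul a c ⊔ eigenSum mul a S := by
  unfold eigenSum
  rw [iSup_insert]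

theorem eigen_le_eigenSum (a : V) {c : ℝ} {S : Set ℝ} (hc : c ∈ S) :
    eigen mul a c ≤ eigenSum mul a S := by
  unfold eigenSum
  exact le_iSup₂_of_le c hc le_rfl

section Pair

variable {μ : V ≃ₗ[ℝ] V} {a : V}

theorem mul_self (h : IsMajoranaPair mul B μ a) : mul a a = a := h.2.2.1.1.2.1

theorem ne_zero (h : IsMajoranaPair mul B μ a) : a ≠ 0 := h.2.2.1.1.1

theorem map_mul (h : IsMajoranaPair mul B μ a) (u v : V) : μ (mul u v) = mul (μ u) (μ v) := h.1 u v

theorem map_form (h : IsMajoranaPair mul B μ a) (u v : V) : B (μ u) (μ v) = B u v := h.2.1 u v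

/-- A `1`-eigenvector is a multiple of the axis. -/
theorem eigen_one (h : IsMajoranaPair mul B μ a) {v : V} (hv : mul a v = v) : ∃ l : ℝ, v = l • a := by
  have h1 : v ∈ eigen mul a 1 := by rw [mem_eigen, one_smul]; exact hv
  rw [h.2.2.1.2, Submodule.mem_span_singleton] at h1
  obtain ⟨l, hl⟩ := h1
  exact ⟨l, hl.symm⟩

/-- Decomposition of a vector along the four eigenspaces of a Majorana axis. -/
theorem decomp (h : IsMajoranaPair mul B μ a) (v : V) :
    ∃ (l : ℝ) (v0 v4 v32 : V), v = l • a + v0 + v4 + v32 ∧ mul a v0 = 0 ∧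
      mul a v4 = (1 / 4 : ℝ) • v4 ∧ mul a v32 = (1 / 32 : ℝ) • v32 := by
  have htop : eigenSum mul a majoranaSpectrum = ⊤ := h.2.2.1.1.2.2.1
  have hv : v ∈ eigenSum mul a majoranaSpectrum := by rw [htop]; trivial
  unfold majoranaSpectrum at hv
  rw [eigenSum_insert, eigenSum_insert, eigenSum_pair] at hv
  obtain ⟨w1, hw1, r1, hr1, rfl⟩ := Submodule.mem_sup.mp hv
  obtain ⟨w0, hw0, r2, hr2, rfl⟩ := Submodule.mem_sup.mp hr1
  obtain ⟨w4, hw4, w32, hw32, rfl⟩ := Submodule.mem_sup.mp hr2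
  rw [mem_eigen] at hw1 hw0 hw4 hw32
  rw [one_smul] at hw1
  rw [zero_smul] at hw0
  obtain ⟨l, rfl⟩ := eigen_one h hw1
  refine ⟨l, w0, w4, w32, ?_, hw0, hw4, hw32⟩
  abel

theorem fix_axis (h : IsMajoranaPair mul B μ a) : μ a = a := by
  have h1 := h.2.2.2.1 a
  apply h1
  apply eigen_le_eigenSum a (c := 1) (by simp)
  rw [mem_eigen, one_smul]; exact mul_self h

theorem fix_zero (h : IsMajoranaPair mul B μ a) {v : V} (hv : mul a v = 0) : μ v = v := by
  have h1 := h.2.2.2.1 v
  apply h1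
  apply eigen_le_eigenSum a (c := 0) (by simp)
  rw [mem_eigen, zero_smul]; exact hv

theorem fix_quarter (h : IsMajoranaPair mul B μ a) {v : V} (hv : mul a v = (1 / 4 : ℝ) • v) :
    μ v = v := by
  have h1 := h.2.2.2.1 v
  apply h1
  apply eigen_le_eigenSum a (c := 1 / 4) (by simp)
  rw [mem_eigen]; exact hv

theorem neg_thirtysecond (h : IsMajoranaPair mul B μ a) {v : V}
    (hv : mul a v = (1 / 32 : ℝ) • v) : μ v = -v := by
  have h1 := h.2.2.2.2 v
  apply h1
  rw [mem_eigen]; exact hv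

theorem mem_spectrum_zero : (0 : ℝ) ∈ majoranaSpectrum := by unfold majoranaSpectrum; simp
theorem mem_spectrum_one : (1 : ℝ) ∈ majoranaSpectrum := by unfold majoranaSpectrum; simp
theorem mem_spectrum_quarter : (1 / 4 : ℝ) ∈ majoranaSpectrum := by unfold majoranaSpectrum; simp
theorem mem_spectrum_thirtysecond : (1 / 32 : ℝ) ∈ majoranaSpectrum := by
  unfold majoranaSpectrum; simp

/-- Fusion rule `0 ⋆ 0 = {0}`. -/
theorem fusion00 (h : IsMajoranaPair mul B μ a) {u v : V} (hu : mul a u = 0) (hv : mul a v = 0) :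
    mul a (mul u v) = 0 := by
  have hf := h.2.2.1.1.2.2.2 0 mem_spectrum_zero 0 mem_spectrum_zero u
    (by rw [mem_eigen, zero_smul]; exact hu) v (by rw [mem_eigen, zero_smul]; exact hv)
  have hlaw : monsterLaw (1 / 4 : ℝ) (1 / 32) 0 0 = {0} := by
    unfold monsterLaw
    norm_num
  rw [hlaw, eigenSum_singleton, mem_eigen, zero_smul] at hf
  exact hf

/-- Fusion rule `0 ⋆ 1/4 = {1/4}`. -/
theorem fusion04 (h : IsMajoranaPair mul B μ a) {u v : V} (hu : mul a u = 0)
    (hv : mul a v = (1 / 4 : ℝ) • v) : mul a (mul u v) = (1 / 4 : ℝ) • mul u v := by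
  have hf := h.2.2.1.1.2.2.2 0 mem_spectrum_zero (1 / 4) mem_spectrum_quarter u
    (by rw [mem_eigen, zero_smul]; exact hu) v (by rw [mem_eigen]; exact hv)
  have hlaw : monsterLaw (1 / 4 : ℝ) (1 / 32) 0 (1 / 4) = {1 / 4} := by
    unfold monsterLaw
    norm_num
  rw [hlaw, eigenSum_singleton, mem_eigen] at hf
  exact hf

/-- Fusion rule `1/4 ⋆ 1/4 = {1, 0}`. -/
theorem fusion44 (h : IsMajoranaPair mul B μ a) {u v : V} (hu : mul a u = (1 / 4 : ℝ) • u)
    (hv : mul a v = (1 / 4 : ℝ) • v) : ∃ (κ : ℝ) (z : V), mul u v = κ • a + z ∧ mul a z = 0 := by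
  have hf := h.2.2.1.1.2.2.2 (1 / 4) mem_spectrum_quarter (1 / 4) mem_spectrum_quarter u
    (by rw [mem_eigen]; exact hu) v (by rw [mem_eigen]; exact hv)
  have hlaw : monsterLaw (1 / 4 : ℝ) (1 / 32) (1 / 4) (1 / 4) = {1, 0} := by
    unfold monsterLaw
    norm_num
  rw [hlaw, eigenSum_pair] at hf
  obtain ⟨w1, hw1, z, hz, hsum⟩ := Submodule.mem_sup.mp hf
  rw [mem_eigen] at hw1 hz
  rw [one_smul] at hw1
  rw [zero_smul] at hz
  obtain ⟨κ, rfl⟩ := eigen_one h hw1
  exact ⟨κ, z, hsum.symm, hz⟩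

end Pair

section Transport

variable {μ : V ≃ₗ[ℝ] V} {a : V}

theorem symm_map_mul (g : V ≃ₗ[ℝ] V) (hgm : ∀ u v, g (mul u v) = mul (g u) (g v)) (u v : V) :
    g.symm (mul u v) = mul (g.symm u) (g.symm v) := by
  apply g.injective
  rw [hgm, LinearEquiv.apply_symm_apply, LinearEquiv.apply_symm_apply,
    LinearEquiv.apply_symm_apply]

theorem eigen_map (g : V ≃ₗ[ℝ] V) (hgm : ∀ u v, g (mul u v) = mul (g u) (g v)) (a : V) (c : ℝ) :
    eigen mul (g a) c = (eigen mul a c).map (g : V →ₗ[ℝ] V) := by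
  ext v
  rw [Submodule.mem_map_equiv, mem_eigen, mem_eigen]
  constructor
  · intro hv
    have := congrArg g.symm hv
    rw [symm_map_mul g hgm, LinearEquiv.symm_apply_apply, map_smul] at this
    exact this
  · intro hv
    have := congrArg g hv
    rw [hgm, LinearEquiv.apply_symm_apply, map_smul, LinearEquiv.apply_symm_apply] at this
    exact this

theorem eigenSum_map (g : V ≃ₗ[ℝ] V) (hgm : ∀ u v, g (mul u v) = mul (g u) (g v)) (a : V)
    (S : Set ℝ) : eigenSum mul (g a) S = (eigenSum mul a S).map (g : V →ₗ[ℝ] V) := by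
  unfold eigenSum
  rw [Submodule.map_iSup]
  congr 1
  funext c
  rw [Submodule.map_iSup]
  congr 1
  funext _
  exact eigen_map g hgm a c

/-- The image of a Majorana pair under an automorphism of the algebra and the form. -/
theorem transport (h : IsMajoranaPair mul B μ a) (g : V ≃ₗ[ℝ] V)
    (hgm : ∀ u v, g (mul u v) = mul (g u) (g v)) (hgB : ∀ u v, B (g u) (g v) = B u v) :
    IsMajoranaPair mul B (g * μ * g⁻¹) (g a) := by
  have hsB : ∀ u v, B (g.symm u) (g.symm v) = B u v := by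
    intro u v
    rw [← hgB, LinearEquiv.apply_symm_apply, LinearEquiv.apply_symm_apply]
  refine ⟨?_, ?_, ⟨⟨?_, ?_, ?_, ?_⟩, ?_⟩, ?_, ?_⟩
  · intro u v
    simp only [LinearEquiv.mul_apply, LinearEquiv.coe_inv]
    rw [symm_map_mul g hgm, map_mul h, hgm]
  · intro u v
    simp only [LinearEquiv.mul_apply, LinearEquiv.coe_inv]
    rw [hgB, map_form h, hsB]
  · intro h0
    apply ne_zero h
    apply g.injective
    rw [h0, map_zero]
  · rw [← hgm, mul_self h]
  · rw [eigenSum_map g hgm, h.2.2.1.1.2.2.1, Submodule.map_top, LinearEquiv.range]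
  · intro c hc d hd u hu v hv
    rw [eigen_map g hgm, Submodule.mem_map_equiv] at hu hv
    rw [eigenSum_map g hgm, Submodule.mem_map_equiv, symm_map_mul g hgm]
    exact h.2.2.1.1.2.2.2 c hc d hd _ hu _ hv
  · rw [eigen_map g hgm, h.2.2.1.2, Submodule.map_span, Set.image_singleton]
    rfl
  · intro v hv
    rw [eigenSum_map g hgm, Submodule.mem_map_equiv] at hv
    have := h.2.2.2.1 _ hv
    change g (μ (g.symm v)) = v
    have h2 : μ (g.symm v) = g.symm v := this
    rw [h2, LinearEquiv.apply_symm_apply]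
  · intro v hv
    rw [eigen_map g hgm, Submodule.mem_map_equiv] at hv
    have := h.2.2.2.2 _ hv
    change g (μ (g.symm v)) = -v
    have h2 : μ (g.symm v) = -g.symm v := this
    rw [h2, map_neg, LinearEquiv.apply_symm_apply]

end Transport

section Key

variable {μ : V ≃ₗ[ℝ] V} {a : V}

/-- Eigenvectors of an axis for eigenvalues other than `1` are orthogonal to the axis. -/
theorem orth (hV : IsMajoranaAmbient mul B) (h : IsMajoranaPair mul B μ a) {v : V} {c : ℝ}
    (hv : mul a v = c • v) (hc : c ≠ 1) : B a v = 0 := by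
  obtain ⟨-, -, -, hass, -⟩ := hV
  have h1 := hass a a v
  rw [mul_self h, hv, map_smul, smul_eq_mul] at h1
  have h2 : (c - 1) * B a v = 0 := by linear_combination h1
  rcases mul_eq_zero.mp h2 with h3 | h3
  · exact absurd (sub_eq_zero.mp h3) hc
  · exact h3

/-- The structure of an idempotent `b` fixed by the Majorana involution of the axis `a`. -/
theorem key (hV : IsMajoranaAmbient mul B) (h : IsMajoranaPair mul B μ a) (hn : B a a = 1)
    {b : V} (hb : mul b b = b) (hfix : μ b = b) :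
    ∃ v0 v4 : V, b = (B a b) • a + v0 + v4 ∧ mul a v0 = 0 ∧ mul a v4 = (1 / 4 : ℝ) • v4 ∧
      mul v0 v4 = (1 / 2 - B a b / 4) • v4 ∧ B v4 v4 = 4 * (B a b - (B a b) ^ 2) := by
  have hcomm : ∀ u v, mul u v = mul v u := hV.1
  have hsymm : ∀ u v, B u v = B v u := hV.2.1
  have hass : ∀ u v w : V, B u (mul v w) = B (mul u v) w := hV.2.2.2.1
  obtain ⟨l, v0, v4, v32, hdec, h0, h4, h32⟩ := decomp h b
  -- the 1/32-component vanishes
  have hv32 : v32 = 0 := by
    have h1 : μ b = l • a + v0 + v4 - v32 := by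
      rw [hdec]
      simp only [map_add, map_smul]
      rw [fix_axis h, fix_zero h h0, fix_quarter h h4, neg_thirtysecond h h32]
      abel
    rw [hfix] at h1
    have h2 : (2 : ℝ) • v32 = 0 := by
      have : l • a + v0 + v4 + v32 = l • a + v0 + v4 - v32 := by rw [← hdec]; exact h1
      linear_combination (norm := module) (1 / 1 : ℝ) • this
    rcases smul_eq_zero.mp h2 with h3 | h3
    · norm_num at h3
    · exact h3
  subst hv32
  rw [add_zero] at hdec
  have ho0 : B a v0 = 0 := orth hV h (c := 0) (by rw [zero_smul]; exact h0) (by norm_num)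
  have ho4 : B a v4 = 0 := orth hV h h4 (by norm_num)
  have hl : B a b = l := by
    rw [hdec]
    simp only [map_add, map_smul, smul_eq_mul]
    rw [hn, ho0, ho4]; ring
  rw [hl]
  obtain ⟨κ, z, h44, hz⟩ := fusion44 h h4 h4
  have h00 := fusion00 h h0 h0
  have h04 := fusion04 h h0 h4
  have hv0a : mul v0 a = 0 := by rw [hcomm]; exact h0
  have hv4a : mul v4 a = (1 / 4 : ℝ) • v4 := by rw [hcomm]; exact h4
  have hv4v0 : mul v4 v0 = mul v0 v4 := hcomm _ _
  -- expansion of `b * b`
  have hexp : mul b b = (l ^ 2 + κ) • a + (mul v0 v0 + z) + ((l / 2) • v4 + (2 : ℝ) • mul v0 v4) := by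
    rw [hdec]
    simp only [map_add, map_smul, LinearMap.add_apply, LinearMap.smul_apply]
    rw [mul_self h, h0, h4, hv0a, hv4a, hv4v0, h44]
    module
  -- the three components of `b * b - b`
  have hsum : (l ^ 2 + κ - l) • a + (mul v0 v0 + z - v0) +
      ((l / 2) • v4 + (2 : ℝ) • mul v0 v4 - v4) = 0 := by
    have h1 : mul b b = b := hb
    rw [hexp] at h1
    have h2 : (l ^ 2 + κ) • a + (mul v0 v0 + z) + ((l / 2) • v4 + (2 : ℝ) • mul v0 v4) =
        l • a + v0 + v4 := by rw [h1]; exact hdec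
    linear_combination (norm := module) (1 / 1 : ℝ) • h2
  have hA1 : (l ^ 2 + κ - l) • a + (1 / 4 : ℝ) • ((l / 2) • v4 + (2 : ℝ) • mul v0 v4 - v4) = 0 := by
    have := congrArg (mul a) hsum
    simp only [map_add, map_sub, map_smul, map_zero] at this
    rw [mul_self h, h00, hz, h0, h4, h04] at this
    linear_combination (norm := module) (1 / 1 : ℝ) • this
  have hA2 : (l ^ 2 + κ - l) • a + (1 / 16 : ℝ) • ((l / 2) • v4 + (2 : ℝ) • mul v0 v4 - v4) = 0 := by
    have := congrArg (mul a) hA1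
    simp only [map_add, map_sub, map_smul, map_zero] at this
    rw [mul_self h, h4, h04] at this
    linear_combination (norm := module) (1 / 1 : ℝ) • this
  have hX4 : (l / 2) • v4 + (2 : ℝ) • mul v0 v4 - v4 = 0 := by
    linear_combination (norm := module) (16 / 3 : ℝ) • hA1 - (16 / 3 : ℝ) • hA2
  have hX1 : (l ^ 2 + κ - l) • a = 0 := by
    linear_combination (norm := module) (1 / 1 : ℝ) • hA1 - (1 / 4 : ℝ) • hX4
  have hκ : κ = l - l ^ 2 := by
    rcases smul_eq_zero.mp hX1 with h1 | h1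
    · linarith
    · exact absurd h1 (ne_zero h)
  refine ⟨v0, v4, hdec, h0, h4, ?_, ?_⟩
  · linear_combination (norm := module) (1 / 2 : ℝ) • hX4
  · have hoz : B a z = 0 := orth hV h (c := 0) (by rw [zero_smul]; exact hz) (by norm_num)
    have h1 := hass v4 v4 a
    rw [hv4a, h44, map_smul, smul_eq_mul] at h1
    simp only [map_add, map_smul, LinearMap.add_apply, LinearMap.smul_apply, smul_eq_mul] at h1
    rw [hn, hsymm z a, hoz] at h1
    rw [← hκ]
    linarith

end Key

end Cfsg.Agent.Helper4.Majorana
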