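import Mathlib

set_option autoImplicit false
set_option linter.style.haveILetI false
set_option linter.unusedSectionVars false

/-!
# Explicit finite subgroups of `GL(2, p)` given by generators

A small framework to enumerate `Subgroup.closure S` for a finite set `S` of `2 × 2` matrices
over `ZMod p` by kernel computation on tuples of natural numbers.
-/

namespace Cfsg.Agent.Helper4.MatGroup

/-- Codes for `2 × 2` matrices: `(a, b, c, d)` stands for `!![a, b; c, d]`. -/
abbrev T := ℕ × ℕ × ℕ × ℕ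

/-- Product of codes modulo `p`. -/
def tmul (p : ℕ) (x y : T) : T :=
  ((x.1 * y.1 + x.2.1 * y.2.2.1) % p, (x.1 * y.2.1 + x.2.1 * y.2.2.2) % p,
   (x.2.2.1 * y.1 + x.2.2.2 * y.2.2.1) % p, (x.2.2.1 * y.2.1 + x.2.2.2 * y.2.2.2) % p)

/-- The code of the identity. -/
def tone : T := (1, 0, 0, 1)

/-- The matrix of a code. -/
def toM (p : ℕ) (x : T) : Matrix (Fin 2) (Fin 2) (ZMod p) :=
  !![(x.1 : ZMod p), (x.2.1 : ZMod p); (x.2.2.1 : ZMod p), (x.2.2.2 : ZMod p)]

theorem toM_tmul (p : ℕ) (x y : T) : toM p (tmul p x y) = toM p x * toM p y := by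
  simp only [toM, tmul, Matrix.mul_fin_two, ZMod.natCast_mod]
  push_cast
  rfl

theorem toM_tone (p : ℕ) : toM p tone = 1 := by
  simp [toM, tone, Matrix.one_fin_two]

/-- The code is bounded by `p`. -/
def tbounded (p : ℕ) (x : T) : Prop := x.1 < p ∧ x.2.1 < p ∧ x.2.2.1 < p ∧ x.2.2.2 < p

instance (p : ℕ) (x : T) : Decidable (tbounded p x) := by unfold tbounded; infer_instance

theorem toM_injOn (p : ℕ) [NeZero p] (x y : T) (hx : tbounded p x) (hy : tbounded p y)
    (h : toM p x = toM p y) : x = y := by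
  obtain ⟨a, b, c, d⟩ := x
  obtain ⟨a', b', c', d'⟩ := y
  obtain ⟨h1, h2, h3, h4⟩ := hx
  obtain ⟨h1', h2', h3', h4'⟩ := hy
  simp only at h1 h2 h3 h4 h1' h2' h3' h4'
  have e : ∀ {u v : ℕ}, u < p → v < p → ((u : ZMod p) = (v : ZMod p)) → u = v := by
    intro u v hu hv huv
    have := congrArg ZMod.val huv
    rwa [ZMod.val_natCast_of_lt hu, ZMod.val_natCast_of_lt hv] at this
  have h00 := congrFun (congrFun h 0) 0
  have h01 := congrFun (congrFun h 0) 1
  have h10 := congrFun (congrFun h 1) 0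
  have h11 := congrFun (congrFun h 1) 1
  simp only [toM, Matrix.of_apply, Matrix.cons_val_zero, Matrix.cons_val_one,
    Matrix.cons_val', Matrix.cons_val_fin_one] at h00 h01 h10 h11
  rw [e h1 h1' h00, e h2 h2' h01, e h3 h3' h10, e h4 h4' h11]

/-- Evaluate a word (a list of codes). -/
def evalT (p : ℕ) (w : List T) : T := w.foldr (tmul p) tone

section Closure

variable {G M : Type*} [Group G] [Finite G] [Monoid M]

/-- In a finite group, to show that a property of the image under a monoid hom holds on the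
closure of `S` it is enough to check that it is preserved by left multiplication by elements
of `S`. -/
theorem closure_induction_finite (φ : G →* M) (S : Set G) (mem : M → Prop) (h1 : mem 1)
    (hmul : ∀ s ∈ S, ∀ m, mem m → mem (φ s * m)) :
    ∀ g ∈ Subgroup.closure S, mem (φ g) := by
  intro g hg
  induction hg using Subgroup.closure_induction_left with
  | one => rw [map_one]; exact h1
  | mul_left s hs y _ ih => rw [map_mul]; exact hmul s hs _ ih
  | inv_mul_cancel s hs y _ ih =>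
    have hpow : ∀ k : ℕ, mem (φ (s ^ k * y)) := by
      intro k
      induction k with
      | zero => rw [pow_zero, one_mul]; exact ih
      | succ k ihk =>
        rw [pow_succ', mul_assoc, map_mul]
        exact hmul s hs _ ihk
    have hinv : s⁻¹ = s ^ (orderOf s - 1) := by
      rw [inv_eq_iff_mul_eq_one, ← pow_succ', Nat.sub_add_cancel (orderOf_pos s),
        pow_orderOf_eq_one]
    rw [hinv]
    exact hpow _

end Closure

section GLTwo

variable {p : ℕ} [Fact p.Prime]

/-- Words in the generators give elements of the closure. -/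
theorem exists_of_word (S : Set (Matrix.GeneralLinearGroup (Fin 2) (ZMod p))) (St : List T)
    (hS : ∀ s ∈ St, ∃ g ∈ S, (g : Matrix (Fin 2) (Fin 2) (ZMod p)) = toM p s)
    (w : List T) (hw : ∀ x ∈ w, x ∈ St) :
    ∃ g ∈ Subgroup.closure S, (g : Matrix (Fin 2) (Fin 2) (ZMod p)) = toM p (evalT p w) := by
  induction w with
  | nil => exact ⟨1, Subgroup.one_mem _, by simp [evalT, toM_tone]⟩
  | cons x w ih =>
    obtain ⟨g, hg, hgm⟩ := ih (fun y hy => hw y (List.mem_cons_of_mem _ hy))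
    obtain ⟨s, hs, hsm⟩ := hS x (hw x List.mem_cons_self)
    refine ⟨s * g, Subgroup.mul_mem _ (Subgroup.subset_closure hs) hg, ?_⟩
    rw [Matrix.GeneralLinearGroup.coe_mul, hsm, hgm]
    change _ = toM p (tmul p x (evalT p w))
    rw [toM_tmul]

/-- Every element of the closure has a code in the list. -/
theorem exists_code_of_mem_closure (S : Set (Matrix.GeneralLinearGroup (Fin 2) (ZMod p)))
    (St : List T)
    (hS' : ∀ g ∈ S, ∃ s ∈ St, (g : Matrix (Fin 2) (Fin 2) (ZMod p)) = toM p s)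
    (Lt : List T)
    (hone : tone ∈ Lt) (hclosed : ∀ s ∈ St, ∀ t ∈ Lt, tmul p s t ∈ Lt)
    (g : Matrix.GeneralLinearGroup (Fin 2) (ZMod p)) (hg : g ∈ Subgroup.closure S) :
    ∃ t ∈ Lt, (g : Matrix (Fin 2) (Fin 2) (ZMod p)) = toM p t := by
  have := closure_induction_finite
    (Units.coeHom (Matrix (Fin 2) (Fin 2) (ZMod p))) S
    (fun m => ∃ t ∈ Lt, m = toM p t) ⟨tone, hone, (toM_tone p).symm⟩ ?_ g hg
  · exact this
  · intro s hs m ⟨t, ht, hm⟩
    obtain ⟨st, hst, hsm⟩ := hS' s hs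
    refine ⟨tmul p st t, hclosed st hst t ht, ?_⟩
    rw [toM_tmul, hm]
    change (s : Matrix (Fin 2) (Fin 2) (ZMod p)) * _ = _
    rw [hsm]

/-- Every code in the list of evaluated words comes from the closure. -/
theorem exists_mem_closure_of_code (S : Set (Matrix.GeneralLinearGroup (Fin 2) (ZMod p)))
    (St : List T)
    (hS : ∀ s ∈ St, ∃ g ∈ S, (g : Matrix (Fin 2) (Fin 2) (ZMod p)) = toM p s)
    (W : List (List T)) (Lt : List T) (hLt : W.map (evalT p) = Lt)
    (hW : ∀ w ∈ W, ∀ x ∈ w, x ∈ St) (t : T) (ht : t ∈ Lt) :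
    ∃ g ∈ Subgroup.closure S, (g : Matrix (Fin 2) (Fin 2) (ZMod p)) = toM p t := by
  rw [← hLt, List.mem_map] at ht
  obtain ⟨w, hw, rfl⟩ := ht
  exact exists_of_word S St hS w (hW w hw)

/-- Cardinality of a subgroup described by a duplicate-free list of bounded codes. -/
theorem card_of_codes (K : Subgroup (Matrix.GeneralLinearGroup (Fin 2) (ZMod p)))
    (Lt : List T)
    (hK : ∀ g ∈ K, ∃ t ∈ Lt, (g : Matrix (Fin 2) (Fin 2) (ZMod p)) = toM p t)
    (hall : ∀ t ∈ Lt, ∃ g ∈ K, (g : Matrix (Fin 2) (Fin 2) (ZMod p)) = toM p t)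
    (hnodup : Lt.Nodup) (hb : ∀ t ∈ Lt, tbounded p t) :
    Nat.card K = Lt.length := by
  classical
  haveI : NeZero p := ⟨(Fact.out : p.Prime).ne_zero⟩
  have hinj : Function.Injective
      (fun g : Matrix.GeneralLinearGroup (Fin 2) (ZMod p) =>
        (g : Matrix (Fin 2) (Fin 2) (ZMod p))) := fun a b h => Units.ext h
  have h1 : Nat.card K = Set.ncard ((fun g : Matrix.GeneralLinearGroup (Fin 2) (ZMod p) =>
        (g : Matrix (Fin 2) (Fin 2) (ZMod p))) '' (K : Set _)) := by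
    rw [Set.ncard_image_of_injective _ hinj]
    rfl
  have h2 : ((fun g : Matrix.GeneralLinearGroup (Fin 2) (ZMod p) =>
        (g : Matrix (Fin 2) (Fin 2) (ZMod p))) '' (K : Set _)) =
      (toM p) '' {t | t ∈ Lt} := by
    ext m
    constructor
    · rintro ⟨g, hg, rfl⟩
      obtain ⟨t, ht, hgt⟩ := hK g hg
      exact ⟨t, ht, hgt.symm⟩
    · rintro ⟨t, ht, rfl⟩
      obtain ⟨g, hgK, hg⟩ := hall t ht
      exact ⟨g, hgK, hg⟩
  rw [h1, h2, Set.InjOn.ncard_image]
  · have : {t | t ∈ Lt} = (Lt.toFinset : Set T) := by ext; simp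
    rw [this, Set.ncard_coe_finset, List.toFinset_card_of_nodup hnodup]
  · intro x hx y hy hxy
    exact toM_injOn p x y (hb x hx) (hb y hy) hxy

/-- If only the identity code fixes the first basis vector, the same holds in the group. -/
theorem stab_of_codes (K : Subgroup (Matrix.GeneralLinearGroup (Fin 2) (ZMod p)))
    (Lt : List T)
    (hK : ∀ g ∈ K, ∃ t ∈ Lt, (g : Matrix (Fin 2) (Fin 2) (ZMod p)) = toM p t)
    (hb : ∀ t ∈ Lt, tbounded p t)
    (hst : ∀ t ∈ Lt, t.1 = 1 → t.2.2.1 = 0 → t = tone) :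
    ∀ h ∈ K, (h : Matrix (Fin 2) (Fin 2) (ZMod p)).mulVec ![1, 0] = ![1, 0] → h = 1 := by
  haveI : NeZero p := ⟨(Fact.out : p.Prime).ne_zero⟩
  intro h hh hfix
  obtain ⟨t, ht, hht⟩ := hK h hh
  rw [hht] at hfix
  obtain ⟨b1, _, b3, _⟩ := hb t ht
  have h0 := congrFun hfix 0
  have h1 := congrFun hfix 1
  simp [toM, Matrix.mulVec, dotProduct, Fin.sum_univ_two] at h0 h1
  have hp1 : 1 < p := (Fact.out : p.Prime).one_lt
  have e1 : t.1 = 1 := by
    have := congrArg ZMod.val h0
    rwa [ZMod.val_natCast_of_lt b1, ZMod.val_one'' (by omega)] at this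
  have e3 : t.2.2.1 = 0 := by
    have := congrArg ZMod.val h1
    rwa [ZMod.val_natCast_of_lt b3, ZMod.val_zero] at this
  have := hst t ht e1 e3
  apply Units.ext
  rw [hht, this, toM_tone]
  rfl

/-- A subgroup of `GL(2, p)` of order `p ^ 2 - 1` in which only the identity fixes `![1, 0]`
is regular on the non-zero vectors. -/
theorem existsUnique_of_card (K : Subgroup (Matrix.GeneralLinearGroup (Fin 2) (ZMod p)))
    (hcard : Nat.card K = p ^ 2 - 1)
    (hstab : ∀ h ∈ K, (h : Matrix (Fin 2) (Fin 2) (ZMod p)).mulVec ![1, 0] = ![1, 0] → h = 1)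
    (v w : Fin 2 → ZMod p) (hv : v ≠ 0) (hw : w ≠ 0) :
    ∃! h : K, Matrix.mulVec ((h : Matrix.GeneralLinearGroup (Fin 2) (ZMod p)) :
      Matrix (Fin 2) (Fin 2) (ZMod p)) v = w := by
  classical
  haveI : NeZero p := ⟨(Fact.out : p.Prime).ne_zero⟩
  set e1 : Fin 2 → ZMod p := ![1, 0] with he1
  have he1ne : e1 ≠ 0 := by
    intro h
    have := congrFun h 0
    simp [he1] at this
  -- action facts
  have hmulvec : ∀ (a b : Matrix.GeneralLinearGroup (Fin 2) (ZMod p)) (x : Fin 2 → ZMod p),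
      ((a * b : Matrix.GeneralLinearGroup (Fin 2) (ZMod p)) :
        Matrix (Fin 2) (Fin 2) (ZMod p)).mulVec x =
      (a : Matrix (Fin 2) (Fin 2) (ZMod p)).mulVec
        ((b : Matrix (Fin 2) (Fin 2) (ZMod p)).mulVec x) := by
    intro a b x
    rw [Matrix.GeneralLinearGroup.coe_mul, Matrix.mulVec_mulVec]
  have honevec : ∀ x : Fin 2 → ZMod p,
      ((1 : Matrix.GeneralLinearGroup (Fin 2) (ZMod p)) :
        Matrix (Fin 2) (Fin 2) (ZMod p)).mulVec x = x := by
    intro x
    rw [Matrix.GeneralLinearGroup.coe_one, Matrix.one_mulVec]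
  have hinvvec : ∀ (a : Matrix.GeneralLinearGroup (Fin 2) (ZMod p)) (x y : Fin 2 → ZMod p),
      (a : Matrix (Fin 2) (Fin 2) (ZMod p)).mulVec x = y →
      (a⁻¹ : Matrix.GeneralLinearGroup (Fin 2) (ZMod p)).1.mulVec y = x := by
    intro a x y h
    rw [← h]
    rw [← hmulvec, inv_mul_cancel, honevec]
  have hne : ∀ (a : Matrix.GeneralLinearGroup (Fin 2) (ZMod p)) (x : Fin 2 → ZMod p),
      x ≠ 0 → (a : Matrix (Fin 2) (Fin 2) (ZMod p)).mulVec x ≠ 0 := by
    intro a x hx h0
    apply hx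
    have := hinvvec a x 0 h0
    rw [← this, Matrix.mulVec_zero]
  -- the orbit map
  let X := {x : Fin 2 → ZMod p // x ≠ 0}
  let f : K → X := fun h => ⟨(h.1 : Matrix (Fin 2) (Fin 2) (ZMod p)).mulVec e1, hne h.1 e1 he1ne⟩
  have hfinj : Function.Injective f := by
    intro a b hab
    have hab' : (a.1 : Matrix (Fin 2) (Fin 2) (ZMod p)).mulVec e1 =
        (b.1 : Matrix (Fin 2) (Fin 2) (ZMod p)).mulVec e1 := congrArg Subtype.val hab
    have h1 : ((b.1⁻¹ * a.1 : Matrix.GeneralLinearGroup (Fin 2) (ZMod p)) :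
        Matrix (Fin 2) (Fin 2) (ZMod p)).mulVec e1 = e1 := by
      rw [hmulvec, hab']
      exact hinvvec b.1 e1 _ rfl
    have h2 := hstab (b.1⁻¹ * a.1) (K.mul_mem (K.inv_mem b.2) a.2) h1
    apply Subtype.ext
    rw [inv_mul_eq_one] at h2
    exact h2.symm
  have hcardX : Nat.card X = p ^ 2 - 1 := by
    rw [Nat.card_eq_fintype_card, Fintype.card_subtype_compl, Fintype.card_subtype_eq,
      Fintype.card_fun, ZMod.card, Fintype.card_fin]
  have hfbij : Function.Bijective f := by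
    haveI : Finite K := Nat.finite_of_card_ne_zero (by
      rw [hcard]
      have : 2 ≤ p := (Fact.out : p.Prime).two_le
      have : 4 ≤ p ^ 2 := by nlinarith
      omega)
    exact hfinj.bijective_of_nat_card_le (by omega)
  obtain ⟨h1, hh1⟩ := hfbij.2 ⟨v, hv⟩
  obtain ⟨h2, hh2⟩ := hfbij.2 ⟨w, hw⟩
  have hh1' : (h1.1 : Matrix (Fin 2) (Fin 2) (ZMod p)).mulVec e1 = v := congrArg Subtype.val hh1
  have hh2' : (h2.1 : Matrix (Fin 2) (Fin 2) (ZMod p)).mulVec e1 = w := congrArg Subtype.val hh2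
  refine ⟨h2 * h1⁻¹, ?_, ?_⟩
  · change ((h2.1 * h1.1⁻¹ : Matrix.GeneralLinearGroup (Fin 2) (ZMod p)) :
      Matrix (Fin 2) (Fin 2) (ZMod p)).mulVec v = w
    rw [hmulvec, hinvvec h1.1 e1 v hh1', hh2']
  · intro h hh
    have hh' : (h.1 : Matrix (Fin 2) (Fin 2) (ZMod p)).mulVec v = w := hh
    have : f (h * h1) = f h2 := by
      apply Subtype.ext
      change ((h.1 * h1.1 : Matrix.GeneralLinearGroup (Fin 2) (ZMod p)) :
        Matrix (Fin 2) (Fin 2) (ZMod p)).mulVec e1 = _
      rw [hmulvec, hh1', hh', ← hh2']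
    have := hfinj this
    rw [← this, mul_inv_cancel_right]

/-- Master statement: enumeration of a closure by words, its order and its regularity on the
non-zero vectors. -/
theorem closure_regular (S : Set (Matrix.GeneralLinearGroup (Fin 2) (ZMod p))) (St : List T)
    (hS : ∀ s ∈ St, ∃ g ∈ S, (g : Matrix (Fin 2) (Fin 2) (ZMod p)) = toM p s)
    (hS' : ∀ g ∈ S, ∃ s ∈ St, (g : Matrix (Fin 2) (Fin 2) (ZMod p)) = toM p s)
    (W : List (List T)) (Lt : List T) (hLt : W.map (evalT p) = Lt)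
    (hW : ∀ w ∈ W, ∀ x ∈ w, x ∈ St)
    (hone : tone ∈ Lt) (hclosed : ∀ s ∈ St, ∀ t ∈ Lt, tmul p s t ∈ Lt)
    (hnodup : Lt.Nodup) (hb : ∀ t ∈ Lt, tbounded p t)
    (hst : ∀ t ∈ Lt, t.1 = 1 → t.2.2.1 = 0 → t = tone)
    (hlen : Lt.length = p ^ 2 - 1) :
    Nat.card (Subgroup.closure S) = p ^ 2 - 1 ∧
    ∀ v w : Fin 2 → ZMod p, v ≠ 0 → w ≠ 0 → ∃! h : Subgroup.closure S,
      Matrix.mulVec ((h : Matrix.GeneralLinearGroup (Fin 2) (ZMod p)) :
        Matrix (Fin 2) (Fin 2) (ZMod p)) v = w := by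
  have h1 := exists_code_of_mem_closure S St hS' Lt hone hclosed
  have h2 := exists_mem_closure_of_code S St hS W Lt hLt hW
  have hcard : Nat.card (Subgroup.closure S) = p ^ 2 - 1 := by
    rw [card_of_codes (Subgroup.closure S) Lt h1 h2 hnodup hb, hlen]
  refine ⟨hcard, ?_⟩
  intro v w hv hw
  exact existsUnique_of_card (Subgroup.closure S) hcard
    (stab_of_codes (Subgroup.closure S) Lt h1 hb hst) v w hv hw

end GLTwo

end Cfsg.Agent.Helper4.MatGroup
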