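import Mathlib
import Cfsg.Agent.Helper4.McLDefs
import Cfsg.Agent.Helper20.McLDDPART
import Cfsg.Agent.Helper24.McLSTAR
import Cfsg.Agent.Helper19.McLCLAIMB1
import Cfsg.Agent.Helper20.McLCLAIMB2
import Cfsg.Agent.Helper8.McLCOMPL
import Cfsg.Agent.Helper15.McLELEMFULL

set_option autoImplicit false

/-! S5075 piece CONCLL: the conclusion of the linear case. -/

namespace Cfsg.Agent.S5075P

variable {p : ℕ} [Fact p.Prime] {V : Type*} [AddCommGroup V] [Module (ZMod p) V]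
variable {G : Subgroup (V ≃ₗ[ZMod p] V)}

/-- every nonzero vector of `range π` is killed by a nonzero functional factoring through `π` -/
theorem CONCLL.exists_axis [Finite V] {π : V →ₗ[ZMod p] V} (hidem : π ∘ₗ π = π)
    (h2 : 2 ≤ Module.finrank (ZMod p) ↥(LinearMap.range π)) {m : V} (hm0 : m ≠ 0)
    (hm : π m = m) : ∃ μ : Module.Dual (ZMod p) V, μ ∘ₗ π = μ ∧ μ ≠ 0 ∧ μ m = 0 := by
  obtain ⟨l, hl⟩ := Module.Projective.exists_dual_ne_zero (ZMod p) hm0
  obtain ⟨m₂, hm₂0, hπm₂, hlm₂⟩ := ddpart_exists_ker hidem h2 l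
  obtain ⟨l₂, hl₂⟩ := Module.Projective.exists_dual_ne_zero (ZMod p) hm₂0
  set g : Module.Dual (ZMod p) V := l₂ - (l₂ m / l m) • l with hg
  refine ⟨g ∘ₗ π, by rw [LinearMap.comp_assoc, hidem], ?_, ?_⟩
  · intro h0
    have := LinearMap.congr_fun h0 m₂
    rw [LinearMap.comp_apply, hπm₂, hg, LinearMap.sub_apply, LinearMap.smul_apply, hlm₂,
      smul_zero, sub_zero, LinearMap.zero_apply] at this
    exact hl₂ this
  · rw [LinearMap.comp_apply, hm, hg, LinearMap.sub_apply, LinearMap.smul_apply, smul_eq_mul,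
      div_mul_cancel₀ _ hl, sub_self]

theorem concl_L [Finite V] (_hp : p ≠ 2) (hG : Conn G) {π : V →ₗ[ZMod p] V} (h : SLfull G π)
    (h3 : 3 ≤ Module.finrank (ZMod p) ↥(LinearMap.range π)) :
    IsCompl (Wspan G) (Uker G) ∧ ConclSL G := by
  have h2 : 2 ≤ Module.finrank (ZMod p) ↥(LinearMap.range π) := by omega
  have hππ : ∀ x, π (π x) = π x := fun x => LinearMap.congr_fun h.idem x
  -- a nontrivial pure pair
  obtain ⟨m₁, hm₁0, hπm₁, -⟩ := ddpart_exists_ker h.idem h2 (0 : Module.Dual (ZMod p) V)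
  obtain ⟨μ₁, hμ₁π, hμ₁0, hμ₁m₁⟩ := CONCLL.exists_axis h.idem h2 hm₁0 hπm₁
  have h11 : InI0 G m₁ μ₁ := ⟨h.full m₁ μ₁ hπm₁ hμ₁π hμ₁m₁, hm₁0, hμ₁0⟩
  -- every nonzero `m ∈ M` is a centre
  have hMcentre : ∀ m, π m = m → m ≠ 0 → ∃ μ, InI0 G m μ ∧ μ ∘ₗ π = μ := by
    intro m hm hm0
    obtain ⟨μ, hμπ, hμ0, hμm⟩ := CONCLL.exists_axis h.idem h2 hm0 hm
    exact ⟨μ, ⟨h.full m μ hm hμπ hμm, hm0, hμ0⟩, hμπ⟩
  -- every nonzero `μ ∈ N^⊥` is an axis
  have hMaxis : ∀ μ : Module.Dual (ZMod p) V, μ ∘ₗ π = μ → μ ≠ 0 → ∃ m, InI0 G m μ := by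
    intro μ hμπ hμ0
    obtain ⟨m, hm0, hπm, hμm⟩ := ddpart_exists_ker h.idem h2 μ
    exact ⟨m, h.full m μ hπm hμπ hμm, hm0, hμ0⟩
  -- (1) `Wspan G = M ⊔ DD`
  have hW : Wspan G = LinearMap.range π ⊔ DD G π := by
    apply le_antisymm
    · have hstar := star hG (LinearMap.range π ⊔ DD G π)
        (fun v φ hvφ => claimB_left h h3 hvφ)
      rcases hstar with hs | hs
      · unfold Wspan
        rw [Submodule.span_le]
        rintro v ⟨φ, hvφ⟩
        exact hs v φ hvφ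
      · exfalso
        have := hs m₁ μ₁ h11 m₁ (Submodule.mem_sup_left ⟨m₁, hπm₁⟩)
        -- `μ₁` kills `M`, so `μ₁ = 0`
        apply hμ₁0
        apply LinearMap.ext
        intro x
        rw [← hμ₁π, LinearMap.comp_apply]
        exact hs m₁ μ₁ h11 (π x) (Submodule.mem_sup_left ⟨x, rfl⟩)
    · apply sup_le
      · rintro _ ⟨x, rfl⟩
        by_cases hx : π x = 0
        · rw [hx]; exact Submodule.zero_mem _
        · obtain ⟨μ, hμ, -⟩ := hMcentre (π x) (hππ x) hx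
          exact Submodule.subset_span ⟨μ, hμ⟩
      · intro d hd
        by_cases hd0 : d = 0
        · rw [hd0]; exact Submodule.zero_mem _
        · exact Submodule.subset_span ⟨μ₁, hd.2 μ₁ hμ₁π, hd0, hμ₁0⟩
  -- (2) `Uker G = UU`
  have hU : Uker G = UU G π := by
    apply le_antisymm
    · intro x hx
      refine ⟨?_, ?_⟩
      · by_contra hπx
        obtain ⟨l, hl⟩ := Module.Projective.exists_dual_ne_zero (ZMod p) hπx
        have hlπ : (l ∘ₗ π) ∘ₗ π = l ∘ₗ π := by rw [LinearMap.comp_assoc, h.idem]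
        have hl0 : l ∘ₗ π ≠ 0 := by
          intro h0
          apply hl
          have := LinearMap.congr_fun h0 x
          simpa using this
        obtain ⟨m, hm⟩ := hMaxis (l ∘ₗ π) hlπ hl0
        have := hx m _ hm
        rw [LinearMap.comp_apply] at this
        exact hl this
      · intro ξ hξ
        by_cases hξ0 : ξ = 0
        · rw [hξ0]; rfl
        · exact hx m₁ ξ ⟨hξ.2 m₁ hπm₁, hm₁0, hξ0⟩
    · have hstar := star hG (UU G π) (fun v φ hvφ => claimB_right h h3 hvφ)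
      rcases hstar with hs | hs
      · exfalso
        have := (hs m₁ μ₁ h11).1
        rw [hπm₁] at this
        exact hm₁0 this
      · intro x hx v φ hvφ
        exact hs v φ hvφ x hx
  have hUeq : UU G π = LinearMap.ker π ⊓ (CC G π).dualCoannihilator := by
    ext x
    rw [mem_UU, Submodule.mem_inf, LinearMap.mem_ker, Submodule.mem_dualCoannihilator]
  obtain ⟨hp1, hp2⟩ := pairing h h3 hG.opp
  obtain ⟨hcompl, ι, hFin, hDec, b, f, s, hbf, hst, hsf, hspan, hdual⟩ :=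
    compl_of_pairing h.idem (DD G π) (CC G π) (fun d hd => hd.1) (fun ξ hξ => hξ.1) hp1 hp2
  refine ⟨by rw [hW, hU, hUeq]; exact hcompl, ?_⟩
  -- (4) `ConclSL`
  obtain ⟨l₁, hl₁⟩ := Module.Projective.exists_dual_ne_zero (ZMod p) hm₁0
  have hl₁π : (l₁ ∘ₗ π) ∘ₗ π = l₁ ∘ₗ π := by rw [LinearMap.comp_assoc, h.idem]
  have hl₁m₁ : (l₁ ∘ₗ π) m₁ ≠ 0 := by
    rw [LinearMap.comp_apply, hπm₁]; exact hl₁
  have hI : ∀ i j, i ≠ j → InI G (b j) (f i) := by
    intro i j hij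
    have h0 : f i (b j) = 0 := by rw [hbf, if_neg hij]
    rcases hsi : s i with _ | _ <;> rcases hsj : s j with _ | _
    · -- both in the `D`/`C` part
      have hd := (hsf j hsj).1
      have hξ := (hsf i hsi).2
      exact InI.lemma1 (hd.2 (l₁ ∘ₗ π) hl₁π) (hξ.2 m₁ hπm₁) h0 hl₁m₁
    · -- `f i ∈ C`, `b j ∈ M`
      exact (hsf i hsi).2.2 (b j) (hst j hsj).1
    · -- `f i ∈ N^⊥`, `b j ∈ D`
      exact (hsf j hsj).1.2 (f i) (hst i hsi).2
    · exact h.full (b j) (f i) (hst j hsj).1 (hst i hsi).2 h0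
  intro x hx ξ hξ h0
  apply elem_full b f hbf hI x _ ξ _ h0
  · rw [hspan, ← hW]; exact hx
  · apply hdual
    intro y hy
    apply hξ
    rw [hU, hUeq]
    exact hy

end Cfsg.Agent.S5075P
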