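import Mathlib
import Cfsg.Agent.Helper4.McLDefs
import Cfsg.Agent.Lead.McLSUMMARY
import Cfsg.Agent.Lead.McLZTRICK
import Cfsg.Agent.Helper15.McLSEEDSP

set_option autoImplicit false

/-! S5075 piece EXTSEED: a mixed transvection yields a hyperbolic plane inside `ker π` together
with a mixed symplectic transvection for the enlarged form. -/

namespace Cfsg.Agent.S5075P

variable {p : ℕ} [Fact p.Prime] {V : Type*} [AddCommGroup V] [Module (ZMod p) V]
variable {G : Subgroup (V ≃ₗ[ZMod p] V)}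

theorem ext_seed [Finite V] (hp : p ≠ 2)
    (hopp : ∀ v φ, InI0 G v φ → ∃ w ψ, InI G w ψ ∧ φ w ≠ 0 ∧ ψ v ≠ 0) {π : V →ₗ[ZMod p] V}
    {B : LinearMap.BilinForm (ZMod p) V} (hS : SPfull G π B) (hL : DimL G) (hR : DimR G)
    (hmix : ∃ u χ, InI0 G u χ ∧ π u ≠ u ∧ π u ≠ 0) :
    ∃ (π' : V →ₗ[ZMod p] V) (B' : LinearMap.BilinForm (ZMod p) V), SPfull G π' B' ∧
      Module.finrank (ZMod p) ↥(LinearMap.range π') = 2 ∧ π ∘ₗ π' = 0 ∧ π' ∘ₗ π = 0 ∧
      ∃ m₀ e₀ : V, π m₀ = m₀ ∧ m₀ ≠ 0 ∧ π' e₀ = e₀ ∧ e₀ ≠ 0 ∧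
        InI G (m₀ + e₀) (B m₀ + B' e₀) := by
  obtain ⟨u, χ, huχ, hne, hne0⟩ := hmix
  obtain ⟨a, ha, hχM⟩ := summary hp hS hL hR huχ
  have hππ : ∀ x, π (π x) = π x := fun x => LinearMap.congr_fun hS.idem x
  have hχπ : ∀ y, χ (π y) = a * B (π u) y := by
    intro y
    have := LinearMap.congr_fun hχM y
    simpa using this
  set uN : V := u - π u with huNdef
  set χN : Module.Dual (ZMod p) V := χ - χ ∘ₗ π with hχNdef
  have hN : InI G uN χN := ztrick hp hS hL hR huχ.1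
  have huN0 : uN ≠ 0 := by
    intro h
    exact hne (sub_eq_zero.mp h).symm
  have hπuN : π uN = 0 := by
    rw [huNdef, map_sub, hππ, sub_self]
  have hχNπ : ∀ x, χN (π x) = 0 := by
    intro x
    rw [hχNdef, LinearMap.sub_apply, LinearMap.comp_apply, hππ, sub_self]
  -- `χN ≠ 0`
  have hχN0 : χN ≠ 0 := by
    intro h
    have hχ : χ = a • B (π u) := by
      rw [← hχM]
      exact sub_eq_zero.mp h
    have h1 : InI G u (B (π u)) := by
      have := huχ.1.smul_right a⁻¹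
      rwa [hχ, smul_smul, inv_mul_cancel₀ ha, one_smul] at this
    have h2 : InI0 G (π u) (B (π u)) := by
      refine ⟨hS.full _ (hππ u), hne0, ?_⟩
      intro h0
      apply hne0
      apply hS.nondeg _ (hππ u)
      intro y
      rw [h0]
      rfl
    obtain ⟨c, hc⟩ := hR _ _ _ h2 h1
    apply hne
    conv_lhs => rw [hc, map_smul, hππ]
    exact hc.symm
  obtain ⟨w, ψ, hwψ, hχNw, hψuN⟩ := hopp uN χN ⟨hN, huN0, hχN0⟩
  set wN : V := w - π w with hwNdef
  set ψN : Module.Dual (ZMod p) V := ψ - ψ ∘ₗ π with hψNdef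
  have hwN : InI G wN ψN := ztrick hp hS hL hR hwψ
  have hπwN : π wN = 0 := by
    rw [hwNdef, map_sub, hππ, sub_self]
  have hψNπ : ∀ x, ψN (π x) = 0 := by
    intro x
    rw [hψNdef, LinearMap.sub_apply, LinearMap.comp_apply, hππ, sub_self]
  have hχNwN : χN wN ≠ 0 := by
    rw [hwNdef, map_sub, hχNπ, sub_zero]
    exact hχNw
  have hψNuN : ψN uN ≠ 0 := by
    rw [hψNdef, LinearMap.sub_apply, LinearMap.comp_apply, hπuN, map_zero, sub_zero]
    exact hψuN
  have hOpp : Opp G uN χN wN ψN := ⟨hN, hwN, hχNwN, hψNuN⟩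
  have hc : (a * ψN uN)⁻¹ ≠ 0 := inv_ne_zero (mul_ne_zero ha hψNuN)
  obtain ⟨π', B', hS', hr', hπ', hB'⟩ := seedSP hp hOpp (a * ψN uN)⁻¹ hc
  refine ⟨π', B', hS', hr', ?_, ?_, π u, uN, hππ u, hne0, ?_, huN0, ?_⟩
  · apply LinearMap.ext
    intro x
    rw [LinearMap.comp_apply, hπ', map_add, map_smul, map_smul, hπuN, hπwN, smul_zero, smul_zero,
      add_zero]
    rfl
  · apply LinearMap.ext
    intro x
    rw [LinearMap.comp_apply, hπ', hψNπ, hχNπ, zero_div, zero_div, zero_smul, zero_smul, add_zero]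
    rfl
  · rw [hπ', hN.1, zero_div, zero_smul, add_zero, div_self hψNuN, one_smul]
  · have e1 : π u + uN = u := by rw [huNdef]; abel
    have e2 : B (π u) + B' uN = a⁻¹ • χ := by
      apply LinearMap.ext
      intro y
      rw [LinearMap.add_apply, hB', hN.1, zero_mul, sub_zero, LinearMap.smul_apply, smul_eq_mul]
      have h3 : χN y = χ y - a * B (π u) y := by
        rw [hχNdef, LinearMap.sub_apply, LinearMap.comp_apply, hχπ]
      rw [h3]
      field_simp
      ring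
    rw [e1, e2]
    exact huχ.1.smul_right _

end Cfsg.Agent.S5075P
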