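import Mathlib
import Cfsg.Agent.Helper4.McLDefs
import Cfsg.Agent.Helper15.McLSL2FULL
import Cfsg.Agent.Helper15.McLELEMFULL

set_option autoImplicit false

/-! S5075 piece SEED3: a centre with two independent axes gives `SL₃`. -/

namespace Cfsg.Agent.S5075P

variable {p : ℕ} [Fact p.Prime] {V : Type*} [AddCommGroup V] [Module (ZMod p) V]
variable {G : Subgroup (V ≃ₗ[ZMod p] V)}

/-- the projection attached to a pair of dual families -/
noncomputable def SEED3.proj {ι : Type*} [Fintype ι] (b : ι → V)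
    (f : ι → Module.Dual (ZMod p) V) : V →ₗ[ZMod p] V :=
  ∑ i, (f i).smulRight (b i)

theorem SEED3.proj_apply {ι : Type*} [Fintype ι] (b : ι → V)
    (f : ι → Module.Dual (ZMod p) V) (x : V) : SEED3.proj b f x = ∑ i, f i x • b i := by
  unfold SEED3.proj
  rw [LinearMap.sum_apply]
  rfl

theorem SEED3.proj_basis {ι : Type*} [Fintype ι] [DecidableEq ι] (b : ι → V)
    (f : ι → Module.Dual (ZMod p) V) (hbf : ∀ i j, f i (b j) = if i = j then 1 else 0) (j : ι) :
    SEED3.proj b f (b j) = b j := by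
  rw [SEED3.proj_apply]
  rw [Finset.sum_eq_single j]
  · rw [hbf, if_pos rfl, one_smul]
  · intro i _ hij
    rw [hbf, if_neg hij, zero_smul]
  · intro h
    exact absurd (Finset.mem_univ j) h

/-- dual families with all elementary transvections in `G` give `SLfull` -/
theorem SEED3.slfull_of_dual [Finite V] {ι : Type*} [Fintype ι] [DecidableEq ι] (b : ι → V)
    (f : ι → Module.Dual (ZMod p) V) (hbf : ∀ i j, f i (b j) = if i = j then 1 else 0)
    (hI : ∀ i j, i ≠ j → InI G (b j) (f i)) :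
    SLfull G (SEED3.proj b f) ∧
      Fintype.card ι ≤ Module.finrank (ZMod p) ↥(LinearMap.range (SEED3.proj b f)) := by
  have hfull := elem_full (G := G) b f hbf hI
  refine ⟨⟨?_, ?_⟩, ?_⟩
  · apply LinearMap.ext
    intro x
    rw [LinearMap.comp_apply]
    conv_lhs => rw [SEED3.proj_apply b f x, map_sum]
    rw [SEED3.proj_apply]
    apply Finset.sum_congr rfl
    intro i _
    rw [map_smul, SEED3.proj_basis b f hbf]
  · intro m μ hm hμ h0
    apply hfull m _ μ _ h0
    · rw [← hm, SEED3.proj_apply]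
      apply Submodule.sum_mem
      intro i _
      exact Submodule.smul_mem _ _ (Submodule.subset_span ⟨i, rfl⟩)
    · have : μ = ∑ i, μ (b i) • f i := by
        apply LinearMap.ext
        intro x
        conv_lhs => rw [← hμ]
        rw [LinearMap.comp_apply, SEED3.proj_apply, map_sum, LinearMap.sum_apply]
        apply Finset.sum_congr rfl
        intro i _
        rw [map_smul, LinearMap.smul_apply, smul_eq_mul, smul_eq_mul, mul_comm]
      rw [this]
      apply Submodule.sum_mem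
      intro i _
      exact Submodule.smul_mem _ _ (Submodule.subset_span ⟨i, rfl⟩)
  · have hli : LinearIndependent (ZMod p)
        (fun i => (⟨b i, ⟨b i, SEED3.proj_basis b f hbf i⟩⟩ :
          ↥(LinearMap.range (SEED3.proj b f)))) := by
      rw [Fintype.linearIndependent_iff]
      intro c hc i
      have h1 := congrArg (fun y : ↥(LinearMap.range (SEED3.proj b f)) => f i (y : V)) hc
      simp only [Submodule.coe_sum, Submodule.coe_smul, map_sum, map_smul, smul_eq_mul,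
        ZeroMemClass.coe_zero, map_zero] at h1
      rw [Finset.sum_eq_single i] at h1
      · rwa [hbf, if_pos rfl, mul_one] at h1
      · intro j _ hji
        rw [hbf, if_neg (Ne.symm hji), mul_zero]
      · intro h
        exact absurd (Finset.mem_univ i) h
    exact hli.fintype_card_le_finrank

theorem seed3 [Finite V] (hp : p ≠ 2)
    (hopp : ∀ v φ, InI0 G v φ → ∃ w ψ, InI G w ψ ∧ φ w ≠ 0 ∧ ψ v ≠ 0)
    (hL : ∃ v φ φ₂, InI0 G v φ ∧ InI G v φ₂ ∧ ¬ ∃ c : ZMod p, φ₂ = c • φ) :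
    ∃ π : V →ₗ[ZMod p] V, SLfull G π ∧ 3 ≤ Module.finrank (ZMod p) ↥(LinearMap.range π) := by
  obtain ⟨v, φ, φ₂', hvφ, hvφ₂', hind⟩ := hL
  obtain ⟨w, ψ, hwψ, hφw, hψv⟩ := hopp v φ hvφ
  have hφv : φ v = 0 := hvφ.1.1
  have hψw : ψ w = 0 := hwψ.1
  -- adjust the second axis
  set φ₂ : Module.Dual (ZMod p) V := φ₂' - (φ₂' w / φ w) • φ with hφ₂def
  have hvφ₂ : InI G v φ₂ := hvφ₂'.sub_right (hvφ.1.smul_right _)
  have hφ₂v : φ₂ v = 0 := hvφ₂.1
  have hφ₂w : φ₂ w = 0 := by
    rw [hφ₂def, LinearMap.sub_apply, LinearMap.smul_apply, smul_eq_mul, div_mul_cancel₀ _ hφw,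
      sub_self]
  have hφ₂0 : φ₂ ≠ 0 := by
    intro h
    apply hind
    refine ⟨φ₂' w / φ w, ?_⟩
    rw [hφ₂def] at h
    exact sub_eq_zero.mp h
  have hwφ₂ : InI G w φ₂ := InI.lemma1 hwψ hvφ₂ hφ₂w hψv
  obtain ⟨w₂, ψ₂, hw₂, hφ₂w₂, hψ₂v⟩ := hopp v φ₂ ⟨hvφ₂, hvφ.2.1, hφ₂0⟩
  -- move the opposite pair into `ker φ ∩ ker ψ`
  set e : V := (-(φ₂ w₂)⁻¹) • ((ψ w₂ / ψ v) • v + (φ w₂ / φ w) • w) with hedef
  have he : InI G e φ₂ := ((hvφ₂.smul_left _).add_left (hwφ₂.smul_left _)).smul_left _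
  set d : V := w₂ + φ₂ w₂ • e with hddef
  set ε : Module.Dual (ZMod p) V := ψ₂ - ψ₂ e • φ₂ with hεdef
  have hdε : InI G d ε := hw₂.conj_tv he
  have hd_eq : d = w₂ - (ψ w₂ / ψ v) • v - (φ w₂ / φ w) • w := by
    rw [hddef, hedef, smul_smul, mul_neg, mul_inv_cancel₀ hφ₂w₂, neg_one_smul]
    abel
  have hφd : φ d = 0 := by
    rw [hd_eq]
    simp only [map_sub, map_smul, smul_eq_mul, hφv, mul_zero, sub_zero]
    rw [div_mul_cancel₀ _ hφw, sub_self]
  have hψd : ψ d = 0 := by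
    rw [hd_eq]
    simp only [map_sub, map_smul, smul_eq_mul, hψw, mul_zero, sub_zero]
    rw [div_mul_cancel₀ _ hψv, sub_self]
  have hφ₂d : φ₂ d ≠ 0 := by
    rw [hd_eq]
    simp only [map_sub, map_smul, smul_eq_mul, hφ₂v, hφ₂w, mul_zero, sub_zero]
    exact hφ₂w₂
  have hεv : ε v ≠ 0 := by
    rw [hεdef, LinearMap.sub_apply, LinearMap.smul_apply, hφ₂v, smul_zero, sub_zero]
    exact hψ₂v
  -- `(d, φ) ∈ I`
  have hdφ : InI G d φ := by
    have h1 : InI G (d + φ d • v) (ε - ε v • φ) := hdε.conj_tv hvφ.1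
    rw [hφd, zero_smul, add_zero] at h1
    have h2 : InI G d (ε - (ε - ε v • φ)) := hdε.sub_right h1
    rw [sub_sub_cancel] at h2
    have h3 := h2.smul_right (ε v)⁻¹
    rwa [smul_smul, inv_mul_cancel₀ hεv, one_smul] at h3
  -- `(d, ψ) ∈ I`
  have hOpp : Opp G v φ w ψ := ⟨hvφ.1, hwψ, hφw, hψv⟩
  have h2ne : (2 : ZMod p) ≠ 0 := by
    intro h
    have h2 : ((2 : ℕ) : ZMod p) = 0 := by exact_mod_cast h
    rw [ZMod.natCast_eq_zero_iff] at h2
    have := (Nat.prime_dvd_prime_iff_eq Fact.out Nat.prime_two).mp h2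
    exact hp this
  obtain ⟨t, ht0, htε⟩ : ∃ t : ZMod p, t ≠ 0 ∧ ε v + t * ε w ≠ 0 := by
    by_cases h1 : ε v + 1 * ε w ≠ 0
    · exact ⟨1, one_ne_zero, h1⟩
    · push Not at h1
      refine ⟨-1, neg_ne_zero.mpr one_ne_zero, ?_⟩
      have h2 : ε w = -ε v := by
        rw [one_mul] at h1
        exact (neg_eq_of_add_eq_zero_right h1).symm
      rw [h2]
      have : ε v + -1 * -ε v = 2 * ε v := by ring
      rw [this]
      exact mul_ne_zero h2ne hεv
  have hdψ : InI G d ψ := by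
    have hmμ : InI G ((1 : ZMod p) • v + t • w) (ψ v • φ + (-(t * φ w)) • ψ) := by
      apply sl2_full hOpp
      simp only [LinearMap.add_apply, LinearMap.smul_apply, map_add, map_smul, smul_eq_mul, hφv,
        hψw]
      ring
    set μ : Module.Dual (ZMod p) V := ψ v • φ + (-(t * φ w)) • ψ with hμdef
    set m : V := (1 : ZMod p) • v + t • w with hmdef
    have hμd : μ d = 0 := by
      rw [hμdef]
      simp only [LinearMap.add_apply, LinearMap.smul_apply, hφd, hψd, smul_zero, add_zero]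
    have hεm : ε m ≠ 0 := by
      rw [hmdef, map_add, map_smul, map_smul, smul_eq_mul, smul_eq_mul, one_mul]
      exact htε
    have h1 : InI G (d + μ d • m) (ε - ε m • μ) := hdε.conj_tv hmμ
    rw [hμd, zero_smul, add_zero] at h1
    have h2 : InI G d (ε - (ε - ε m • μ)) := hdε.sub_right h1
    rw [sub_sub_cancel] at h2
    have h3 := h2.smul_right (ε m)⁻¹
    rw [smul_smul, inv_mul_cancel₀ hεm, one_smul] at h3
    have h4 : InI G d (μ - ψ v • φ) := h3.sub_right (hdφ.smul_right _)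
    rw [hμdef, add_sub_cancel_left] at h4
    have hne : -(t * φ w) ≠ 0 := neg_ne_zero.mpr (mul_ne_zero ht0 hφw)
    have h5 := h4.smul_right (-(t * φ w))⁻¹
    rwa [smul_smul, inv_mul_cancel₀ hne, one_smul] at h5
  -- the dual bases
  let b : Fin 3 → V := ![v, w, d]
  let f : Fin 3 → Module.Dual (ZMod p) V := ![(ψ v)⁻¹ • ψ, (φ w)⁻¹ • φ, (φ₂ d)⁻¹ • φ₂]
  have hbf : ∀ i j, f i (b j) = if i = j then 1 else 0 := by
    intro i j
    fin_cases i <;> fin_cases j <;>
      simp [b, f, hφv, hψw, hφd, hψd, hφ₂v, hφ₂w, hφw, hψv, hφ₂d]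
  have hI : ∀ i j, i ≠ j → InI G (b j) (f i) := by
    intro i j hij
    fin_cases i <;> fin_cases j
    · exact absurd rfl hij
    · exact hwψ.smul_right _
    · exact hdψ.smul_right _
    · exact hvφ.1.smul_right _
    · exact absurd rfl hij
    · exact hdφ.smul_right _
    · exact hvφ₂.smul_right _
    · exact hwφ₂.smul_right _
    · exact absurd rfl hij
  obtain ⟨h1, h2⟩ := SEED3.slfull_of_dual (G := G) b f hbf hI
  refine ⟨SEED3.proj b f, h1, ?_⟩
  simpa using h2

end Cfsg.Agent.S5075P
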