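import Cfsg.Agent.Helper19.McLTVFORM
import Cfsg.Agent.Helper24.McLPGRP
import Cfsg.Agent.Helper19.McLOPP
import Cfsg.Agent.Helper15.McLSL2FULL
import Cfsg.Agent.Helper15.McLSL2Z
import Cfsg.Agent.Helper15.McLELEMFULL
import Cfsg.Agent.Helper24.McLSTAR
import Cfsg.Agent.Helper4.McLSEED3
import Cfsg.Agent.Helper20.McLDDPART
import Cfsg.Agent.Helper16.McLCLAIMA
import Cfsg.Agent.Helper19.McLCLAIMB1
import Cfsg.Agent.Helper20.McLCLAIMB2
import Cfsg.Agent.Helper8.McLCOMPL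
import Cfsg.Agent.Helper4.McLCONCLL
import Cfsg.Agent.Helper24.McLDIMR
import Cfsg.Agent.Helper15.McLSEEDSP
import Cfsg.Agent.Lead.McLSUMMARY
import Cfsg.Agent.Lead.McLZTRICK
import Cfsg.Agent.Helper8.McLSPORBIT
import Cfsg.Agent.Helper4.McLEXTSEED
import Cfsg.Agent.Helper19.McLEXTSPREAD
import Cfsg.Agent.Lead.McLTERMIN
import Cfsg.Agent.Helper28.McLCLSNORMAL
import Cfsg.Agent.Helper28.McLCLSI0
import Cfsg.Agent.Helper28.McLCLSCONN
import Cfsg.Agent.Helper28.McLCLSDISJ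
import Cfsg.Agent.Helper28.McLENUM
import Cfsg.Agent.Helper8.McLDECOMP
import Cfsg.Agent.Helper26.McLSLGEN
import Cfsg.Agent.Helper26.McLSPGEN
import Cfsg.Agent.Helper7.McLRHOSL
import Cfsg.Agent.Helper7.McLRHOSP
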