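import Mathlib
import Cfsg.Agent.Helper4.McLDefs
import Cfsg.Agent.Helper4.McLAll

set_option autoImplicit false

/-! S5075: the connected case (assembly). -/

namespace Cfsg.Agent.S5075P

variable {p : ℕ} [Fact p.Prime] {V : Type*} [AddCommGroup V] [Module (ZMod p) V]
variable {G : Subgroup (V ≃ₗ[ZMod p] V)}

/-- EXTEND: a mixed transvection enlarges the symplectic seed by a hyperbolic plane -/
theorem extend [Finite V] (hp : p ≠ 2)
    (hopp : ∀ v φ, InI0 G v φ → ∃ w ψ, InI G w ψ ∧ φ w ≠ 0 ∧ ψ v ≠ 0) {π : V →ₗ[ZMod p] V}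
    {B : LinearMap.BilinForm (ZMod p) V} (hS : SPfull G π B) (hL : DimL G) (hR : DimR G)
    (hmix : ∃ u χ, InI0 G u χ ∧ π u ≠ u ∧ π u ≠ 0) :
    ∃ (π₁ : V →ₗ[ZMod p] V) (B₁ : LinearMap.BilinForm (ZMod p) V), SPfull G π₁ B₁ ∧
      Module.finrank (ZMod p) ↥(LinearMap.range π₁) =
        Module.finrank (ZMod p) ↥(LinearMap.range π) + 2 := by
  obtain ⟨π', B', hS', hr', h1, h2, m₀, e₀, hm, hm0, he, he0, hmx⟩ :=
    ext_seed hp hopp hS hL hR hmix
  obtain ⟨hS₁, hr₁⟩ := ext_spread hp hS hS' h1 h2 hm hm0 he he0 hmx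
  exact ⟨π + π', B + B', hS₁, by rw [hr₁, hr']⟩

/-- the symplectic case, by induction on the codimension of `range π` -/
theorem concl_S [Finite V] (hp : p ≠ 2) (hG : Conn G) (hL : DimL G) (hR : DimR G) :
    ∀ (n : ℕ) (π : V →ₗ[ZMod p] V) (B : LinearMap.BilinForm (ZMod p) V), SPfull G π B →
      LinearMap.range π ≠ ⊥ →
      Module.finrank (ZMod p) V - Module.finrank (ZMod p) ↥(LinearMap.range π) = n →
      IsCompl (Wspan G) (Uker G) ∧ ConclSp G := by
  intro n
  induction n using Nat.strong_induction_on with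
  | _ n ih =>
    intro π B hS h0 hn
    by_cases hmix : ∃ u χ, InI0 G u χ ∧ π u ≠ u ∧ π u ≠ 0
    · obtain ⟨π₁, B₁, hS₁, hr⟩ := extend hp hG.opp hS hL hR hmix
      have hle : Module.finrank (ZMod p) ↥(LinearMap.range π₁) ≤ Module.finrank (ZMod p) V :=
        Submodule.finrank_le _
      have h01 : LinearMap.range π₁ ≠ ⊥ := by
        intro h
        rw [h, finrank_bot] at hr
        omega
      exact ih (Module.finrank (ZMod p) V - Module.finrank (ZMod p) ↥(LinearMap.range π₁))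
        (by omega) π₁ B₁ hS₁ h01 rfl
    · exact terminate hp hG hS hL hR h0 hmix

theorem conn_main [Finite V] (hp : p ≠ 2) (hG : Conn G) :
    IsCompl (Wspan G) (Uker G) ∧ (ConclSL G ∨ ConclSp G) := by
  by_cases hL : ∃ v φ φ₂, InI0 G v φ ∧ InI G v φ₂ ∧ ¬ ∃ c : ZMod p, φ₂ = c • φ
  · obtain ⟨π, hπ, h3⟩ := seed3 hp hG.opp hL
    have := concl_L hp hG hπ h3
    exact ⟨this.1, Or.inl this.2⟩
  · have hDL : DimL G := by
      intro v φ φ₂ h1 h2
      by_contra hc
      exact hL ⟨v, φ, φ₂, h1, h2, hc⟩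
    have hDR := dimR_of_dimL hG.opp hDL
    by_cases hne : ∃ v φ, InI0 G v φ
    · obtain ⟨v, φ, hvφ⟩ := hne
      obtain ⟨w, ψ, hw, h1, h2⟩ := hG.opp v φ hvφ
      have hopp : Opp G v φ w ψ := ⟨hvφ.1, hw, h1, h2⟩
      obtain ⟨π, B, hS, hr, -, -⟩ := seedSP hp hopp 1 one_ne_zero
      have h0 : LinearMap.range π ≠ ⊥ := by
        intro h
        rw [h, finrank_bot] at hr
        omega
      have := concl_S hp hG hDL hDR _ π B hS h0 rfl
      exact ⟨this.1, Or.inr this.2⟩
    · push Not at hne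
      have hW : Wspan G = ⊥ := by
        unfold Wspan
        rw [Submodule.span_eq_bot]
        rintro v ⟨φ, h⟩
        exact absurd h (hne v φ)
      have hU : Uker G = ⊤ := by
        rw [eq_top_iff]
        intro x _ v φ h
        exact absurd h (hne v φ)
      refine ⟨by rw [hW, hU]; exact isCompl_bot_top, Or.inl ?_⟩
      intro x hx ξ _ _
      rw [hW, Submodule.mem_bot] at hx
      rw [hx]
      exact inI_zero_left G ξ

end Cfsg.Agent.S5075P
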