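import Mathlib
import Cfsg.Prelude.Def_Solvable
import Cfsg.Agent.Helper4.McLDefs
import Cfsg.Agent.Helper4.McLAll
import Cfsg.Agent.Helper4.McLConnMain

set_option autoImplicit false

/-! S5075: final packaging. -/

namespace Cfsg.Agent.S5075P

variable {p : ℕ} [Fact p.Prime] {V : Type*} [AddCommGroup V] [Module (ZMod p) V]

theorem conn_bot : Conn (⊥ : Subgroup (V ≃ₗ[ZMod p] V)) := by
  have hno : ∀ (v : V) (φ : Module.Dual (ZMod p) V),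
      ¬ InI0 (⊥ : Subgroup (V ≃ₗ[ZMod p] V)) v φ := by
    intro v φ h
    have h1 : tv v φ = 1 := Subgroup.mem_bot.mp h.1.2
    rcases (tv_eq_one_iff h.1.1).mp h1 with h2 | h2
    · exact h.2.1 h2
    · exact h.2.2 h2
  refine ⟨?_, fun v φ h => absurd h (hno v φ), fun P _ => Or.inl fun v φ h => absurd h (hno v φ)⟩
  have : TV (⊥ : Subgroup (V ≃ₗ[ZMod p] V)) = ∅ := by
    ext t
    simp only [Set.mem_empty_iff_false, iff_false]
    rintro ⟨v, φ, h, -⟩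
    exact hno v φ h
  rw [this, Subgroup.closure_empty]

/-- CLASSES: the subgroup generated by a class of the non-commuting graph -/
theorem classes (H : Subgroup (V ≃ₗ[ZMod p] V))
    (hgen : H = Subgroup.closure (TV H))
    (hopp : ∀ v φ, InI0 H v φ → ∃ w ψ, InI H w ψ ∧ φ w ≠ 0 ∧ ψ v ≠ 0) (v₀ : V)
    (φ₀ : Module.Dual (ZMod p) V) :
    Gc H v₀ φ₀ ≤ H ∧ (∀ h ∈ H, ∀ k ∈ Gc H v₀ φ₀, h * k * h⁻¹ ∈ Gc H v₀ φ₀) ∧
      (∀ v φ, InI0 (Gc H v₀ φ₀) v φ ↔ Cls H v₀ φ₀ v φ) ∧ Conn (Gc H v₀ φ₀) := by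
  refine ⟨?_, cls_normal H hgen v₀ φ₀, cls_inI0 H hopp v₀ φ₀,
    cls_conn H hopp v₀ φ₀ (cls_inI0 H hopp v₀ φ₀)⟩
  unfold Gc
  rw [Subgroup.closure_le]
  rintro _ ⟨v, φ, h, rfl⟩
  exact h.1.1.2

/-- `enum_classes` with at least one class -/
theorem enum_classes' [Finite V] (hp : p ≠ 2) (H : Subgroup (V ≃ₗ[ZMod p] V))
    (hgen : H = Subgroup.closure (TV H))
    (hopp : ∀ v φ, InI0 H v φ → ∃ w ψ, InI H w ψ ∧ φ w ≠ 0 ∧ ψ v ≠ 0) :
    ∃ (n : ℕ) (K : Fin n → Subgroup (V ≃ₗ[ZMod p] V)), 1 ≤ n ∧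
      (∀ j, K j ≤ H ∧ (∀ h ∈ H, ∀ k ∈ K j, h * k * h⁻¹ ∈ K j) ∧ Conn (K j)) ∧
      ⨆ j, K j = H ∧
      (∀ j j', j ≠ j' → (∀ v φ w ψ, InI0 (K j) v φ → InI0 (K j') w ψ → φ w = 0 ∧ ψ v = 0) ∧
        (∀ a ∈ K j, ∀ b ∈ K j', a * b = b * a)) := by
  obtain ⟨n, K, h1, h2, h3⟩ := enum_classes H hgen
    (fun v₀ φ₀ _ => classes H hgen hopp v₀ φ₀)
    (fun v₀ v₁ φ₀ φ₁ h0 h1 => classes_disjoint H v₀ v₁ φ₀ φ₁ h0 h1)
  rcases Nat.eq_zero_or_pos n with hn | hn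
  · subst hn
    have hH : H = ⊥ := by
      rw [← h2]
      simp
    refine ⟨1, fun _ => ⊥, le_refl 1, ?_, ?_, ?_⟩
    · intro j
      refine ⟨bot_le, ?_, conn_bot⟩
      intro h _ k hk
      rw [Subgroup.mem_bot] at hk ⊢
      rw [hk, mul_one, mul_inv_cancel]
    · rw [hH]; simp
    · intro j j' hne
      exact absurd (Subsingleton.elim j j') hne
  · exact ⟨n, K, hn, h1, h2, h3⟩

theorem final [Finite V] (hp : p ≠ 2) (H : Subgroup (V ≃ₗ[ZMod p] V))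
    (hgen : H = Subgroup.closure (TV H))
    (hopp : ∀ v φ, InI0 H v φ → ∃ w ψ, InI H w ψ ∧ φ w ≠ 0 ∧ ψ v ≠ 0) :
    ∃ (n : ℕ) (W : Fin (n + 1) → Submodule (ZMod p) V) (K : Fin n → Subgroup (V ≃ₗ[ZMod p] V)),
      1 ≤ n ∧ DirectSum.IsInternal W ∧
      (∀ h ∈ H, ∀ i, (W i).map (h : V →ₗ[ZMod p] V) = W i) ∧
      (∀ j, K j ≤ H ∧ ((K j).subgroupOf H).Normal) ∧ ⨆ j, K j = H ∧
      (∀ j, K j ⊓ (⨆ j' ∈ {j' : Fin n | j' ≠ j}, K j') = ⊥) ∧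
      (∀ j j', j ≠ j' → ∀ a ∈ K j, ∀ b ∈ K j', a * b = b * a) ∧
      (∀ j, ∀ h ∈ K j, ∀ i : Fin (n + 1), i ≠ j.succ → ∀ v ∈ W i, h v = v) ∧
      (∀ j, ∃ ρ : ↥(K j) →* (↥(W j.succ) ≃ₗ[ZMod p] ↥(W j.succ)),
        (∀ (h : ↥(K j)) (v : ↥(W j.succ)), ((ρ h v : ↥(W j.succ)) : V) = (h : V ≃ₗ[ZMod p] V) (v : V)) ∧
        ((ρ.range : Set (↥(W j.succ) ≃ₗ[ZMod p] ↥(W j.succ))) =
            {f : ↥(W j.succ) ≃ₗ[ZMod p] ↥(W j.succ) | LinearMap.det (f : ↥(W j.succ) →ₗ[ZMod p] ↥(W j.succ)) = 1} ∨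
          ∃ B : LinearMap.BilinForm (ZMod p) ↥(W j.succ), B.IsAlt ∧ B.Nondegenerate ∧
            (ρ.range : Set (↥(W j.succ) ≃ₗ[ZMod p] ↥(W j.succ))) = {f : ↥(W j.succ) ≃ₗ[ZMod p] ↥(W j.succ) | ∀ x y, B (f x) (f y) = B x y})) := by
  obtain ⟨n, K, hn, hK, hsup, hcross⟩ := enum_classes' hp H hgen hopp
  have hmain : ∀ j, IsCompl (Wspan (K j)) (Uker (K j)) ∧ (ConclSL (K j) ∨ ConclSp (K j)) :=
    fun j => conn_main hp (hK j).2.2
  have hle : ∀ i j, i ≠ j → Wspan (K i) ≤ Uker (K j) := by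
    intro i j hij
    unfold Wspan
    rw [Submodule.span_le]
    rintro v ⟨φ, hv⟩ w ψ hw
    exact ((hcross i j hij).1 v φ w ψ hv hw).2
  have hint := decomp_internal (fun j => Wspan (K j)) (fun j => Uker (K j))
    (fun j => (hmain j).1) hle
  -- invariance
  have hWinv : ∀ j, ∀ h ∈ H, (Wspan (K j)).map (h : V →ₗ[ZMod p] V) ≤ Wspan (K j) := by
    intro j h hh
    unfold Wspan
    rw [Submodule.map_span, Submodule.span_le]
    rintro _ ⟨v, ⟨φ, hv⟩, rfl⟩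
    exact Submodule.subset_span ⟨_, hv.conj_normal ((hK j).2.1 h hh)⟩
  have hUinv : ∀ j, ∀ h ∈ H, (Uker (K j)).map (h : V →ₗ[ZMod p] V) ≤ Uker (K j) := by
    intro j h hh
    rintro _ ⟨x, hx, rfl⟩ v φ hv
    have h2 := hv.conj_normal ((hK j).2.1 h⁻¹ (H.inv_mem hh))
    have h3 := hx _ _ h2
    have e : (h⁻¹).symm = h := by
      apply LinearEquiv.ext; intro y; rfl
    rw [e] at h3
    exact h3
  have hmap_eq : ∀ (S : Submodule (ZMod p) V),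
      (∀ h ∈ H, S.map (h : V →ₗ[ZMod p] V) ≤ S) → ∀ h ∈ H, S.map (h : V →ₗ[ZMod p] V) = S := by
    intro S hS h hh
    apply le_antisymm (hS h hh)
    intro x hx
    refine ⟨h⁻¹ x, hS h⁻¹ (H.inv_mem hh) ⟨x, hx, rfl⟩, ?_⟩
    change h (h⁻¹ x) = x
    rw [← LinearEquiv.mul_apply, mul_inv_cancel]; rfl
  have hfix : ∀ j, ∀ h ∈ K j, ∀ x ∈ Uker (K j), h x = x :=
    fun j h hh x hx => fix_of_mem_Uker (hK j).2.2.gen hh hx
  refine ⟨n, Fin.cons (⨅ j, Uker (K j)) (fun j => Wspan (K j)), K, hn, hint, ?_, ?_, hsup, ?_,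
    fun j j' hne => (hcross j j' hne).2, ?_, ?_⟩
  · intro h hh i
    refine Fin.cases ?_ (fun j => ?_) i
    · rw [Fin.cons_zero]
      apply hmap_eq _ _ h hh
      intro g hg
      rintro _ ⟨x, hx, rfl⟩
      have hx : x ∈ ⨅ j, Uker (K j) := hx
      rw [Submodule.mem_iInf] at hx ⊢
      intro j
      exact hUinv j g hg ⟨x, hx j, rfl⟩
    · rw [Fin.cons_succ]
      exact hmap_eq _ (hWinv j) h hh
  · intro j
    refine ⟨(hK j).1, ?_⟩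
    constructor
    intro k hk g
    rw [Subgroup.mem_subgroupOf] at hk ⊢
    exact (hK j).2.1 g g.2 k hk
  · intro j
    rw [eq_bot_iff]
    intro g hg
    rw [Subgroup.mem_bot]
    obtain ⟨hg1, hg2⟩ := Subgroup.mem_inf.mp hg
    -- g fixes Uker (K j)
    have hfU : ∀ x ∈ Uker (K j), g x = x := hfix j g hg1
    -- g fixes Wspan (K j)
    have hfW : ∀ x ∈ Wspan (K j), g x = x := by
      intro x hx
      have hstab : (⨆ j' ∈ {j' : Fin n | j' ≠ j}, K j') ≤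
          (MulAction.stabilizer (V ≃ₗ[ZMod p] V) x) := by
        apply iSup₂_le
        intro j' hj'
        intro k hk
        rw [MulAction.mem_stabilizer_iff]
        exact hfix j' k hk x (hle j j' (Ne.symm hj') hx)
      exact hstab hg2
    apply LinearEquiv.ext
    intro x
    have hx : x ∈ Wspan (K j) ⊔ Uker (K j) := by
      rw [(hmain j).1.sup_eq_top]; trivial
    obtain ⟨a, ha, b, hb, rfl⟩ := Submodule.mem_sup.mp hx
    rw [map_add, hfW a ha, hfU b hb]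
    rfl
  · intro j h hh i
    refine Fin.cases ?_ (fun j' => ?_) i
    · intro _ v hv
      rw [Fin.cons_zero, Submodule.mem_iInf] at hv
      exact hfix j h hh v (hv j)
    · intro hne v hv
      rw [Fin.cons_succ] at hv
      have hjj : j' ≠ j := fun e => hne (by rw [e])
      exact hfix j h hh v (hle j' j hjj hv)
  · intro j
    rcases (hmain j).2 with hSL | hSp
    · obtain ⟨ρ, h1, h2⟩ := rho_SL (K j) (hK j).2.2.gen (hmain j).1 hSL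
      exact ⟨ρ, h1, Or.inl h2⟩
    · obtain ⟨ρ, h1, B, hB1, hB2, hB3⟩ := rho_Sp (K j) (hK j).2.2.gen (hmain j).1 hSp
      exact ⟨ρ, h1, Or.inr ⟨B, hB1, hB2, hB3⟩⟩

end Cfsg.Agent.S5075P
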