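import Mathlib
import Cfsg.Agent.Helper4.MinIdxDefs
import Cfsg.Agent.Helper4.MinIdxCommon
import Cfsg.Agent.Helper4.MinIdxLin

set_option autoImplicit false

/-! CASEB piece of the S2140 drive: case (B) at every centre `v`, for one point `ω`, is impossible. -/

namespace Cfsg.Agent.S2140P

open Matrix Cfsg.Agent.Helper12.TVG

namespace CASEB

variable {n : ℕ} {F : Type*} [Field F]
variable {Ω : Type*} [MulAction (SLn n F) Ω]

/-- The hypothesis of the piece, with a chosen second vector `X u`. -/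
structure Hyp (ω : Ω) (X : (Fin n → F) → (Fin n → F)) : Prop where
  indep : ∀ u : Fin n → F, u ≠ 0 → ¬ ∃ c : F, X u = c • u
  fix : ∀ u : Fin n → F, u ≠ 0 → fixCov u ω = {φ | φ ⬝ᵥ u = 0 ∧ φ ⬝ᵥ X u = 0}

/-- The 2-space attached to `u`. -/
def E (X : (Fin n → F) → (Fin n → F)) (u : Fin n → F) : Submodule F (Fin n → F) :=
  Submodule.span F {u, X u}

theorem self_mem_E (X : (Fin n → F) → (Fin n → F)) (u : Fin n → F) : u ∈ E X u :=
  Submodule.subset_span (by simp)

theorem X_mem_E (X : (Fin n → F) → (Fin n → F)) (u : Fin n → F) : X u ∈ E X u :=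
  Submodule.subset_span (by simp)

theorem finrank_pair (u x : Fin n → F) (hu : u ≠ 0) (hx : ¬ ∃ c : F, x = c • u) :
    Module.finrank F (Submodule.span F ({u, x} : Set (Fin n → F))) = 2 := by
  have hli : LinearIndependent F ![u, x] := by
    rw [LinearIndependent.pair_iff' hu]
    intro a ha
    exact hx ⟨a, ha.symm⟩
  have := finrank_span_eq_card hli
  rw [Fintype.card_fin] at this
  have h2 : Set.range ![u, x] = ({u, x} : Set (Fin n → F)) := by
    ext z
    simp [eq_comm]
    exact or_comm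
  rw [h2] at this
  exact this

theorem finrank_E {ω : Ω} {X : (Fin n → F) → (Fin n → F)} (H : Hyp ω X) (u : Fin n → F)
    (hu : u ≠ 0) : Module.finrank F (E X u) = 2 :=
  finrank_pair u (X u) hu (H.indep u hu)

/-- Two-dimensional subspace containing an independent pair. -/
theorem eq_span_of_finrank_two (W : Submodule F (Fin n → F)) (hW : Module.finrank F W = 2)
    (u v : Fin n → F) (hu : u ≠ 0) (hv : ¬ ∃ c : F, v = c • u) (huW : u ∈ W) (hvW : v ∈ W) :
    W = Submodule.span F {u, v} := by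
  symm
  apply Submodule.eq_of_le_of_finrank_eq
  · rw [Submodule.span_le]
    intro z hz
    simp only [Set.mem_insert_iff, Set.mem_singleton_iff] at hz
    rcases hz with rfl | rfl
    · exact huW
    · exact hvW
  · rw [finrank_pair u v hu hv, hW]

theorem mem_fixCov_iff {ω : Ω} {X : (Fin n → F) → (Fin n → F)} (H : Hyp ω X) {u : Fin n → F}
    (hu : u ≠ 0) (φ : Fin n → F) : φ ∈ fixCov u ω ↔ φ ⬝ᵥ u = 0 ∧ φ ⬝ᵥ X u = 0 := by
  rw [H.fix u hu]
  rfl

/-- Claim 1. -/
theorem L1 {ω : Ω} {X : (Fin n → F) → (Fin n → F)} (H : Hyp ω X) {u : Fin n → F} (hu : u ≠ 0)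
    (t : SLn n F) (htω : t • ω = ω) (htu : (t : Matrix (Fin n) (Fin n) F) *ᵥ u = u) :
    (t : Matrix (Fin n) (Fin n) F) *ᵥ X u ∈ E X u := by
  obtain ⟨a, b, hab⟩ := mem_span_pair_of_ann u (X u) ((t : Matrix (Fin n) (Fin n) F) *ᵥ X u) (by
    intro ψ h1 h2
    have hψ : ψ ∈ fixCov u ω := (mem_fixCov_iff H hu ψ).mpr ⟨h1, h2⟩
    have htu' : ((t⁻¹ : SLn n F) : Matrix (Fin n) (Fin n) F) *ᵥ u = u := by
      conv_lhs => rw [← htu]
      rw [mulVec_mulVec, coe_inv_mul, one_mulVec]
    have htω' : t⁻¹ • ω = ω := by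
      conv_lhs => rw [← htω]
      rw [inv_smul_smul]
    have := fixCov_vecMul_of_fix t⁻¹ u ψ ω htu' htω' hψ
    rw [inv_inv] at this
    have h3 := ((mem_fixCov_iff H hu _).mp this).2
    rw [← dotProduct_mulVec] at h3
    exact h3)
  rw [hab]
  exact (E X u).add_mem ((E X u).smul_mem a (self_mem_E X u)) ((E X u).smul_mem b (X_mem_E X u))

/-- (★★) -/
theorem L2 {ω : Ω} {X : (Fin n → F) → (Fin n → F)} (H : Hyp ω X) {u v : Fin n → F} (hu : u ≠ 0)
    (hv : v ≠ 0) (hvu : v ∉ E X u) : X u ∈ E X v ⊔ Submodule.span F {u} := by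
  by_contra hx
  obtain ⟨φ, hφW, hφx⟩ := exists_cov_of_notMem _ (X u) hx
  have h1 : φ ⬝ᵥ v = 0 := hφW v (Submodule.mem_sup_left (self_mem_E X v))
  have h2 : φ ⬝ᵥ X v = 0 := hφW _ (Submodule.mem_sup_left (X_mem_E X v))
  have h3 : φ ⬝ᵥ u = 0 := hφW u (Submodule.mem_sup_right (Submodule.mem_span_singleton_self u))
  obtain ⟨h, hfix⟩ := (mem_fixCov_iff H hv φ).mpr ⟨h1, h2⟩
  have htu : ((TS v φ h : SLn n F) : Matrix (Fin n) (Fin n) F) *ᵥ u = u := by
    rw [TS_mulVec, h3, zero_smul, add_zero]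
  have := L1 H hu (TS v φ h) hfix htu
  rw [TS_mulVec, hφx, one_smul] at this
  apply hvu
  have h4 := (E X u).sub_mem this (X_mem_E X u)
  rwa [add_sub_cancel_left] at h4

/-- Symmetry. -/
theorem L3 {ω : Ω} {X : (Fin n → F) → (Fin n → F)} (H : Hyp ω X) {u v : Fin n → F} (hu : u ≠ 0)
    (hv : v ≠ 0) (huv : u ∈ E X v) : v ∈ E X u := by
  by_contra hvu
  have hx := L2 H hu hv hvu
  have hsup : E X v ⊔ Submodule.span F {u} = E X v := by
    rw [sup_eq_left, Submodule.span_le]
    intro z hz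
    rw [Set.mem_singleton_iff] at hz
    rw [hz]; exact huv
  rw [hsup] at hx
  have hle : E X u ≤ E X v := by
    unfold E
    rw [Submodule.span_le]
    intro z hz
    simp only [Set.mem_insert_iff, Set.mem_singleton_iff] at hz
    rcases hz with rfl | rfl
    · exact huv
    · exact hx
  have heq : E X u = E X v :=
    Submodule.eq_of_le_of_finrank_eq hle (by rw [finrank_E H u hu, finrank_E H v hv])
  apply hvu
  rw [heq]
  exact self_mem_E X v

/-- Claim 2. -/
theorem L4 {ω : Ω} {X : (Fin n → F) → (Fin n → F)} (H : Hyp ω X) {u v : Fin n → F}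
    (hv : v ≠ 0) (huv : u ∈ E X v) (hind : ¬ ∃ c : F, u = c • v) : E X u = E X v := by
  have hu : u ≠ 0 := by
    rintro rfl
    exact hind ⟨0, by simp⟩
  have hvu := L3 H hu hv huv
  rw [eq_span_of_finrank_two (E X u) (finrank_E H u hu) v u hv hind hvu (self_mem_E X u),
    eq_span_of_finrank_two (E X v) (finrank_E H v hv) v u hv hind (self_mem_E X v) huv]

theorem main (hn : 3 ≤ n) {ω : Ω} {X : (Fin n → F) → (Fin n → F)} (H : Hyp ω X) : False := by
  -- a nonzero vector
  have hv : (Pi.single ⟨0, by omega⟩ 1 : Fin n → F) ≠ 0 := by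
    intro h
    have := congrFun h ⟨0, by omega⟩
    simp at this
  set v : Fin n → F := Pi.single ⟨0, by omega⟩ 1 with hvdef
  obtain ⟨x, hx⟩ := exists_notMem_span_pair hn v (X v)
  have hxE : x ∉ E X v := by
    intro h
    unfold E at h
    rw [Submodule.mem_span_pair] at h
    obtain ⟨a, b, hab⟩ := h
    exact hx ⟨a, b, hab.symm⟩
  have hx0 : x ≠ 0 := by
    rintro rfl
    exact hxE (Submodule.zero_mem _)
  -- `E x ∩ E v = 0`
  have hint : ∀ w : Fin n → F, w ∈ E X v → w ∈ E X x → w = 0 := by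
    intro w hwv hwx
    by_contra hw0
    by_cases hwFv : ∃ c : F, w = c • v
    · obtain ⟨c, hc⟩ := hwFv
      have hc0 : c ≠ 0 := by
        rintro rfl
        apply hw0
        rw [hc, zero_smul]
      have hvx : v ∈ E X x := by
        have := (E X x).smul_mem c⁻¹ hwx
        rwa [hc, smul_smul, inv_mul_cancel₀ hc0, one_smul] at this
      exact hxE (L3 H hv hx0 hvx)
    · have h1 : E X w = E X v := L4 H hv hwv hwFv
      have hwFx : ¬ ∃ c : F, w = c • x := by
        rintro ⟨c, hc⟩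
        have hc0 : c ≠ 0 := by
          rintro rfl
          apply hw0
          rw [hc, zero_smul]
        apply hxE
        have := (E X v).smul_mem c⁻¹ hwv
        rwa [hc, smul_smul, inv_mul_cancel₀ hc0, one_smul] at this
      have h2 : E X w = E X x := L4 H hx0 hwx hwFx
      apply hxE
      rw [← h1, h2]
      exact self_mem_E X x
  -- the covector `η`
  obtain ⟨η, hη1, hη2, hη3⟩ := exists_cov_sep_pair v (X v) x hx
  obtain ⟨h, hfix⟩ := (mem_fixCov_iff H hv η).mpr ⟨hη1, hη2⟩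
  set t := TS v η h with htdef
  -- the vector `y`
  set y : Fin n → F := X x - (η ⬝ᵥ X x) • x with hydef
  have hyE : y ∈ E X x :=
    (E X x).sub_mem (X_mem_E X x) ((E X x).smul_mem _ (self_mem_E X x))
  have hyη : η ⬝ᵥ y = 0 := by
    rw [hydef, dotProduct_sub, dotProduct_smul, hη3, smul_eq_mul, mul_one, sub_self]
  have hyFx : ¬ ∃ c : F, y = c • x := by
    rintro ⟨c, hc⟩
    apply H.indep x hx0
    refine ⟨c + η ⬝ᵥ X x, ?_⟩
    rw [add_smul, ← hc, hydef, sub_add_cancel]
  have hy0 : y ≠ 0 := by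
    intro h0
    exact hyFx ⟨0, by rw [h0, zero_smul]⟩
  have hEy : E X y = E X x := L4 H hx0 hyE hyFx
  have hty : ((t : SLn n F) : Matrix (Fin n) (Fin n) F) *ᵥ y = y := by
    rw [htdef, TS_mulVec, hyη, zero_smul, add_zero]
  -- `t` preserves `E y = E x`
  have hxy : x ∈ E X y := by rw [hEy]; exact self_mem_E X x
  have htx : ((t : SLn n F) : Matrix (Fin n) (Fin n) F) *ᵥ x ∈ E X x := by
    unfold E at hxy
    rw [Submodule.mem_span_pair] at hxy
    obtain ⟨a, b, hab⟩ := hxy
    have hcalc : ((t : SLn n F) : Matrix (Fin n) (Fin n) F) *ᵥ x =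
        a • y + b • (((t : SLn n F) : Matrix (Fin n) (Fin n) F) *ᵥ X y) := by
      rw [← hab, mulVec_add, mulVec_smul, mulVec_smul, hty]
    rw [hcalc, ← hEy]
    exact (E X y).add_mem ((E X y).smul_mem a (self_mem_E X y))
      ((E X y).smul_mem b (L1 H hy0 t hfix hty))
  rw [htdef, TS_mulVec, hη3, one_smul] at htx
  have hvx : v ∈ E X x := by
    have := (E X x).sub_mem htx (self_mem_E X x)
    rwa [add_sub_cancel_left] at this
  exact hv (hint v (self_mem_E X v) hvx)

end CASEB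

theorem caseB_point_false {n : ℕ} {F : Type*} [Field F] {Ω : Type*} [MulAction (SLn n F) Ω]
    (hn : 3 ≤ n) (ω : Ω)
    (hB : ∀ v : Fin n → F, v ≠ 0 → ∃ x : Fin n → F, (¬ ∃ c : F, x = c • v) ∧
      fixCov v ω = {φ | φ ⬝ᵥ v = 0 ∧ φ ⬝ᵥ x = 0}) : False := by
  classical
  let X : (Fin n → F) → (Fin n → F) := fun u =>
    if hu : u ≠ 0 then Classical.choose (hB u hu) else 0
  have hX : ∀ u (hu : u ≠ 0), X u = Classical.choose (hB u hu) := by
    intro u hu
    simp only [X, dif_pos hu]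
  refine CASEB.main hn (ω := ω) (X := X) ⟨?_, ?_⟩
  · intro u hu
    rw [hX u hu]
    exact (Classical.choose_spec (hB u hu)).1
  · intro u hu
    rw [hX u hu]
    exact (Classical.choose_spec (hB u hu)).2

end Cfsg.Agent.S2140P
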