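import Mathlib

set_option autoImplicit false

/-! The first standard basis vector, for the S2140 drive. -/

namespace Cfsg.Agent.S2140P

/-- The first standard basis vector. -/
abbrev e0 (m : ℕ) (F : Type*) [Field F] : Fin (m + 1) → F := Pi.single 0 1

end Cfsg.Agent.S2140P
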