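import Mathlib
import Cfsg.Agent.Helper4.MinIdxDefs
import Cfsg.Agent.Helper18.Dickson31
import Cfsg.Agent.Lead.AISLPSL

set_option autoImplicit false

/-! Backup for the SL2MIN piece of the S2140 drive. -/

namespace Cfsg.Agent.S2140P

namespace SL2MINb

open scoped commutatorElement

theorem comm_mul_center_left {G : Type*} [Group G] (g₁ g₂ z : G) (hz : z ∈ Subgroup.center G) :
    ⁅g₁ * z, g₂⁆ = ⁅g₁, g₂⁆ := by
  have h : z * g₂ * z⁻¹ = g₂ := by
    rw [← Subgroup.mem_center_iff.mp hz g₂, mul_inv_cancel_right]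
  rw [commutatorElement_def, commutatorElement_def, mul_inv_rev]
  calc g₁ * z * g₂ * (z⁻¹ * g₁⁻¹) * g₂⁻¹ = g₁ * (z * g₂ * z⁻¹) * g₁⁻¹ * g₂⁻¹ := by group
    _ = g₁ * g₂ * g₁⁻¹ * g₂⁻¹ := by rw [h]

theorem comm_mul_center_right {G : Type*} [Group G] (g₁ g₂ z : G) (hz : z ∈ Subgroup.center G) :
    ⁅g₁, g₂ * z⁆ = ⁅g₁, g₂⁆ := by
  have h : z * g₁⁻¹ * z⁻¹ = g₁⁻¹ := by
    rw [← Subgroup.mem_center_iff.mp hz g₁⁻¹, mul_inv_cancel_right]
  rw [commutatorElement_def, commutatorElement_def, mul_inv_rev]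
  calc g₁ * (g₂ * z) * g₁⁻¹ * (z⁻¹ * g₂⁻¹) = g₁ * g₂ * (z * g₁⁻¹ * z⁻¹) * g₂⁻¹ := by group
    _ = g₁ * g₂ * g₁⁻¹ * g₂⁻¹ := by rw [h]

/-- A subgroup that together with the centre generates a perfect group is everything. -/
theorem eq_top_of_sup_center {G : Type*} [Group G] (hperf : commutator G = ⊤) (T : Subgroup G)
    (h : T ⊔ Subgroup.center G = ⊤) : T = ⊤ := by
  rw [eq_top_iff, ← hperf, commutator_def, Subgroup.commutator_le]
  intro g₁ _ g₂ _
  have h1 : g₁ ∈ T ⊔ Subgroup.center G := by rw [h]; exact Subgroup.mem_top _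
  have h2 : g₂ ∈ T ⊔ Subgroup.center G := by rw [h]; exact Subgroup.mem_top _
  rw [← SetLike.mem_coe, Subgroup.mul_normal] at h1 h2
  obtain ⟨t₁, ht₁, z₁, hz₁, e1⟩ := h1
  obtain ⟨t₂, ht₂, z₂, hz₂, e2⟩ := h2
  have e1' : g₁ = t₁ * z₁ := e1.symm
  have e2' : g₂ = t₂ * z₂ := e2.symm
  rw [e1', e2', comm_mul_center_left _ _ _ hz₁, comm_mul_center_right _ _ _ hz₂,
    commutatorElement_def]
  exact T.mul_mem (T.mul_mem (T.mul_mem ht₁ ht₂) (T.inv_mem ht₁)) (T.inv_mem ht₂)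

theorem sl2_min {F : Type*} [Field F] [Fintype F]
    (hq : Fintype.card F ∉ ({2, 3, 5, 7, 9, 11} : Finset ℕ)) (T : Subgroup (SLn 2 F)) (hT : T ≠ ⊤) :
    Fintype.card F + 1 ≤ T.index := by
  classical
  have hq4 : 4 ≤ Fintype.card F := by
    have h2 : 2 ≤ Fintype.card F := Fintype.one_lt_card
    simp only [Finset.mem_insert, Finset.mem_singleton, not_or] at hq
    omega
  have hperf := Cfsg.Agent.Lead.AI.sl2_commutator_eq_top hq4
  set Z := Subgroup.center (SLn 2 F) with hZ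
  have hsurj : Function.Surjective (QuotientGroup.mk' Z) := QuotientGroup.mk'_surjective _
  have hne : T.map (QuotientGroup.mk' Z) ≠ ⊤ := by
    intro htop
    apply hT
    apply eq_top_of_sup_center hperf
    have := congrArg (Subgroup.comap (QuotientGroup.mk' Z)) htop
    rw [Subgroup.comap_map_eq, QuotientGroup.ker_mk', Subgroup.comap_top] at this
    exact this
  have h1 := (Cfsg.Agent.Helper18.Dickson.min_index hq).1 _ hne
  have h2 : (T.map (QuotientGroup.mk' Z)).index = (T ⊔ Z).index := by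
    rw [Subgroup.index_map, QuotientGroup.ker_mk', MonoidHom.range_eq_top.mpr hsurj,
      Subgroup.index_top, mul_one]
  have h3 : (T ⊔ Z).index ∣ T.index := Subgroup.index_dvd_of_le le_sup_left
  have h4 : T.index ≠ 0 := Subgroup.index_ne_zero_of_finite
  have := Nat.le_of_dvd (Nat.pos_of_ne_zero h4) h3
  omega

end SL2MINb

end Cfsg.Agent.S2140P
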