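import Mathlib
import Cfsg.Agent.Helper4.MinIdxDefs

set_option autoImplicit false

/-! TRACE piece of the S2140 drive: the pairing `(φ, x) ↦ τ (φ ⬝ᵥ x)` separates subgroups. -/

namespace Cfsg.Agent.S2140P

open Matrix

namespace TRACE

variable {n : ℕ} {F : Type*} [Field F]

/-- The additive map `φ ↦ τ (φ ⬝ᵥ x)`. -/
def pair {p : ℕ} (τ : F →+ ZMod p) (x : Fin n → F) : (Fin n → F) →+ ZMod p :=
  τ.comp
    { toFun := fun φ => φ ⬝ᵥ x
      map_zero' := zero_dotProduct x
      map_add' := fun a b => add_dotProduct a b x }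

theorem pair_apply {p : ℕ} (τ : F →+ ZMod p) (x φ : Fin n → F) : pair τ x φ = τ (φ ⬝ᵥ x) := rfl

theorem pair_injective {p : ℕ} (τ : F →+ ZMod p) (hτ : τ ≠ 0) :
    Function.Injective (pair (n := n) τ) := by
  intro x x' h
  by_contra hne
  have hd : x - x' ≠ 0 := sub_ne_zero.mpr hne
  obtain ⟨i, hi⟩ : ∃ i, (x - x') i ≠ 0 := by
    by_contra hcon
    push Not at hcon
    exact hd (funext hcon)
  apply hτ
  ext c
  have h1 := DFunLike.congr_fun h (Pi.single i (c / (x - x') i))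
  rw [pair_apply, pair_apply] at h1
  have h2 : τ ((Pi.single i (c / (x - x') i) : Fin n → F) ⬝ᵥ (x - x')) = 0 := by
    rw [dotProduct_sub, map_sub, h1, sub_self]
  rw [single_dotProduct, div_mul_cancel₀ _ hi] at h2
  rw [h2, AddMonoidHom.zero_apply]

end TRACE

open TRACE in
theorem trace_sep {n : ℕ} {F : Type*} [Field F] [Fintype F] (p : ℕ) [Fact p.Prime] [CharP F p]
    (τ : F →+ ZMod p) (hτ : τ ≠ 0)
    (S : AddSubgroup (Fin n → F)) (y : Fin n → F) (hy : y ∉ S) :
    ∃ x : Fin n → F, (∀ φ ∈ S, τ (φ ⬝ᵥ x) = 0) ∧ τ (y ⬝ᵥ x) ≠ 0 := by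
  classical
  letI : Algebra (ZMod p) F := ZMod.algebra F p
  let Ssub : Submodule (ZMod p) (Fin n → F) := AddSubgroup.toZModSubmodule p S
  have hy' : y ∉ Ssub := hy
  obtain ⟨f, hfy, hfS⟩ := Submodule.exists_dual_map_eq_bot_of_notMem hy' inferInstance
  let Ψ : (Fin n → F) → Module.Dual (ZMod p) (Fin n → F) :=
    fun x => (pair τ x).toZModLinearMap p
  have hΨ : Function.Injective Ψ := by
    intro x x' h
    apply pair_injective τ hτ
    exact AddMonoidHom.toZModLinearMap_injective p h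
  have e : (Fin n → F) ≃ Module.Dual (ZMod p) (Fin n → F) :=
    (Module.finBasis (ZMod p) (Fin n → F)).toDualEquiv.toEquiv
  have hsurj : Function.Surjective Ψ := (Finite.injective_iff_surjective_of_equiv e).mp hΨ
  obtain ⟨x, hx⟩ := hsurj f
  refine ⟨x, ?_, ?_⟩
  · intro φ hφ
    have h1 : f φ ∈ Ssub.map f := Submodule.mem_map_of_mem (show φ ∈ Ssub from hφ)
    rw [hfS, Submodule.mem_bot] at h1
    rw [← hx] at h1
    exact h1
  · rw [← hx] at hfy
    exact hfy

end Cfsg.Agent.S2140P
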