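import Mathlib
import Cfsg.Agent.Helper4.MinIdxDefs
import Cfsg.Agent.Helper4.MinIdxE0
import Cfsg.Agent.Helper4.MinIdxCommon
import Cfsg.Agent.Helper4.MinIdxLin
import Cfsg.Agent.Lead.MinIdxHeisDefs
import Cfsg.Agent.Helper12.CrossCharA
import Cfsg.Agent.Helper6.MinIdxAFIX
import Cfsg.Agent.Helper6.MinIdxARITH
import Cfsg.Agent.Helper4.MinIdxCASEB
import Cfsg.Agent.Helper18.MinIdxCONJ
import Cfsg.Agent.Helper5.MinIdxCOUNT1
import Cfsg.Agent.Helper5.MinIdxCOUNT2
import Cfsg.Agent.Helper4.MinIdxDICH1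
import Cfsg.Agent.Helper7.MinIdxDICH2
import Cfsg.Agent.Helper18.MinIdxFAITH
import Cfsg.Agent.Helper7.MinIdxHEISa1
import Cfsg.Agent.Lead.MinIdxHEISa2
import Cfsg.Agent.Lead.MinIdxHEISb
import Cfsg.Agent.Helper22.MinIdxINDEX
import Cfsg.Agent.Helper3.MinIdxNUM
import Cfsg.Agent.Helper22.MinIdxORB
import Cfsg.Agent.Helper19.MinIdxOVER
import Cfsg.Agent.Helper4.MinIdxSL2MINb
import Cfsg.Agent.Helper22.MinIdxSL2SMALL
import Cfsg.Agent.Helper5.MinIdxTAU
import Cfsg.Agent.Helper18.MinIdxTORUS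
import Cfsg.Agent.Helper4.MinIdxTRACE
import Cfsg.Agent.Helper6.MinIdxTRANSP
import Cfsg.Agent.Helper20.MinIdxUNIQ
import Cfsg.Agent.Helper12.SLNonzero

set_option autoImplicit false

/-! Assembly of the S2140 drive: the minimal index of a proper subgroup of `SL_n(q)` is
`(q^n-1)/(q-1)` for `n ≥ 3`, `(n,q) ≠ (4,2)`. -/

namespace Cfsg.Agent.S2140P

open Matrix Cfsg.Agent.Helper12.TVG Cfsg.Agent.Helper12

theorem gsN_lt_pow (q n : ℕ) (hq : 2 ≤ q) : gsN q n < q ^ n := by
  induction n with
  | zero => simp [gsN]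
  | succ k ih =>
    rw [gsN_succ', pow_succ]
    have h1 : q * gsN q k + q ≤ q * q ^ k := by
      have : q * (gsN q k + 1) ≤ q * q ^ k := Nat.mul_le_mul_left q ih
      linarith [this]
    have h2 : q ^ k * q = q * q ^ k := mul_comm _ _
    omega

theorem e0_ne_zero (m : ℕ) (F : Type*) [Field F] : e0 m F ≠ 0 := by
  intro h
  have := congrFun h 0
  simp [e0] at this

section step

variable {m : ℕ} {F : Type*} [Field F] [Fintype F]

/-- The arithmetic/inductive hypothesis on `SL_m(F)` used by the step. -/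
def SubHyp (m : ℕ) (F : Type*) [Field F] [Fintype F] : Prop :=
  ∀ T : Subgroup (SLn m F), T ≠ ⊤ → ∀ f : ℕ, T.index ≤ f → f < gsN (Fintype.card F) m →
    ¬ ((f + (Fintype.card F) ^ m) ∣ ((Fintype.card F) ^ (m + 1) - 1) * T.index)

theorem subHyp_of_minIdx (h : MinIdx m F) : SubHyp m F := by
  intro T hT f hf hlt _
  have := h T hT
  omega

/-- Case (A) with `f ≥ 1` fixed points of `Qc e₀` is impossible when `|Ω| < N_{m+1}`. -/
theorem caseA_false (hm : 2 ≤ m) (hsub : SubHyp m F)
    {Ω : Type*} [MulAction (SLn (m + 1) F) Ω] [Finite Ω]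
    [MulAction.IsPretransitive (SLn (m + 1) F) Ω] (hd1 : 1 < Nat.card Ω)
    (hdN : Nat.card Ω < gsN (Fintype.card F) (m + 1)) (f : ℕ) (hf1 : 1 ≤ f)
    (hd : Nat.card Ω = f + (Fintype.card F) ^ m)
    (hA : CaseA Ω (e0 m F)) : False := by
  classical
  have hcard := caseA_card_fixed (Ω := Ω) (n := m + 1) (by omega) (e0 m F) (e0_ne_zero m F) f hA
    (by simpa using hd)
  have hne : Nonempty {ω : Ω // ∀ (φ : Fin (m + 1) → F) (h : φ ⬝ᵥ e0 m F = 0),
      TS (e0 m F) φ h • ω = ω} := by
    by_contra hemp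
    rw [not_nonempty_iff] at hemp
    rw [Nat.card_of_isEmpty] at hcard
    omega
  obtain ⟨⟨ω, hω⟩⟩ := hne
  set T := (MulAction.stabilizer (SLn (m + 1) F) ω).comap (blockSL m F) with hTdef
  have hTle : T.index ≤ f := by
    have := orbit_index_le (m := m) (F := F) ω hω
    rw [hcard] at this
    exact this
  have hTmem : ∀ g ∈ T, blockSL m F g • ω = ω := by
    intro g hg
    exact MulAction.mem_stabilizer_iff.mp (Subgroup.mem_comap.mp hg)
  have hflt : f < gsN (Fintype.card F) m := by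
    rw [gsN_succ] at hdN
    omega
  by_cases hT : T = ⊤
  · -- `ω` is fixed by `Qc e₀` and the block `SL_m`
    set M := MulAction.stabilizer (SLn (m + 1) F) ω with hMdef
    have hMne : M ≠ ⊤ := by
      intro hM
      have hall : ∀ ω' : Ω, ω' = ω := by
        intro ω'
        obtain ⟨g, hg⟩ := MulAction.exists_smul_eq (SLn (m + 1) F) ω ω'
        have : g ∈ M := by rw [hM]; exact Subgroup.mem_top g
        rw [← hg]
        exact MulAction.mem_stabilizer_iff.mp this
      have : Subsingleton Ω := ⟨fun a b => (hall a).trans (hall b).symm⟩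
      have := Finite.card_le_one_iff_subsingleton.mpr this
      omega
    have hle : M ≤ Gl (e0 m F) := by
      apply over_le_Gl hm M hMne
      · intro φ h
        exact MulAction.mem_stabilizer_iff.mpr (hω φ h)
      · intro g
        have : g ∈ T := by rw [hT]; exact Subgroup.mem_top g
        exact MulAction.mem_stabilizer_iff.mpr (hTmem g this)
    have hidx : M.index = Nat.card Ω := MulAction.index_stabilizer_of_transitive _ ω
    have hGl := index_Gl (n := m + 1) (F := F) (by omega) (e0 m F) (e0_ne_zero m F)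
    have hdvd := Subgroup.index_dvd_of_le hle
    rw [hidx, hGl] at hdvd
    have := Nat.le_of_dvd (by omega) hdvd
    omega
  · have hdvd := arith_dvd (m := m) (F := F) (by omega) ω hω T hTmem
    rw [hd] at hdvd
    exact hsub T hT f hTle hflt hdvd

/-- The case `f = 0`. -/
theorem heis_data {k : ℕ} {Ω : Type*} [MulAction (SLn (k + 2) F) Ω] [Finite Ω]
    (hd : Nat.card Ω = (Fintype.card F) ^ (k + 1))
    (h0 : TransvFix (n := k + 2) (F := F) Ω 0) : HeisData k F := by
  obtain ⟨r, hmul, hinj, hleft, hright, hlev⟩ := heis_matrix k F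
  have hfree : ∀ (v φ : Fin (k + 2) → F) (h : φ ⬝ᵥ v = 0), v ≠ 0 → φ ≠ 0 → ∀ ω : Ω,
      TS v φ h • ω ≠ ω := by
    intro v φ h hv hφ ω hω
    have hc := h0 v φ h hv hφ
    have hfin : Finite (MulAction.fixedBy Ω (TS v φ h)) := Subtype.finite
    have hemp := (Nat.card_eq_zero.mp hc).resolve_right (fun hinf => hinf.not_finite hfin)
    exact hemp.false ⟨ω, hω⟩
  refine heis_abstract hd r hmul hinj ?_ ?_ hlev
  · intro a z ω hω
    by_contra hne
    have hne' : a ≠ 0 ∨ z ≠ 0 := by
      by_contra hcon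
      push Not at hcon
      exact hne hcon
    obtain ⟨v, φ, h, hv, hφ, hr⟩ := hleft a z hne'
    rw [hr] at hω
    exact hfree v φ h hv hφ ω hω
  · intro b z ω hω
    by_contra hne
    have hne' : b ≠ 0 ∨ z ≠ 0 := by
      by_contra hcon
      push Not at hcon
      exact hne hcon
    obtain ⟨v, φ, h, hv, hφ, hr⟩ := hright b z hne'
    rw [hr] at hω
    exact hfree v φ h hv hφ ω hω

/-- The inductive step. -/
theorem step (hm : 2 ≤ m) (hexc : ¬ (m = 3 ∧ Fintype.card F = 2)) (hsub : SubHyp m F) :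
    MinIdx (m + 1) F := by
  classical
  intro H hH
  by_contra hlt
  push Not at hlt
  have hq2 : 2 ≤ Fintype.card F := Fintype.one_lt_card
  obtain ⟨p, hp⟩ := CharP.exists F
  haveI := hp
  haveI : Fact p.Prime := ⟨CharP.char_is_prime F p⟩
  obtain ⟨τ, hτ⟩ := exists_tau F p
  -- the coset action
  let Ω := SLn (m + 1) F ⧸ H
  have hcard : Nat.card Ω = H.index := (Subgroup.index_eq_card H).symm
  have hidx0 : H.index ≠ 0 := Subgroup.index_ne_zero_of_finite
  have hidx1 : H.index ≠ 1 := fun h => hH (Subgroup.index_eq_one.mp h)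
  have hd1 : 1 < Nat.card Ω := by omega
  have hdN : Nat.card Ω < gsN (Fintype.card F) (m + 1) := by omega
  haveI : Nonempty Ω := ⟨QuotientGroup.mk 1⟩
  obtain ⟨f, hf⟩ := exists_transvFix (n := m + 1) (F := F) (Ω := Ω) (by omega)
  have hfd := transvFix_lt (n := m + 1) (F := F) (Ω := Ω) (by omega) hd1 f hf
  -- numerics for an arbitrary nonzero vector
  have hnum : ∀ v : Fin (m + 1) → F, v ≠ 0 → Nat.card Ω = f + (Fintype.card F) ^ m ∧
      Nat.card (MulAction.orbitRel.Quotient (Qc v) Ω) = f + 1 := by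
    intro v hv
    obtain ⟨a, ha1, ha2⟩ := num_Qc (n := m + 1) (F := F) (Ω := Ω) (by omega) v hv f hf
    simp only [Nat.add_sub_cancel] at ha1
    have hlt2 : gsN (Fintype.card F) (m + 1) < 2 * (Fintype.card F) ^ m := by
      rw [gsN_succ]
      have := gsN_lt_pow (Fintype.card F) m hq2
      omega
    have ha : a = 1 := by
      rcases Nat.lt_or_ge a 1 with h | h
      · have : a = 0 := by omega
        subst this
        omega
      · rcases Nat.lt_or_ge 1 a with h' | h'
        · exfalso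
          have : 2 * (Fintype.card F) ^ m ≤ a * (Fintype.card F) ^ m := Nat.mul_le_mul_right _ h'
          omega
        · omega
    subst ha
    refine ⟨by omega, ha2⟩
  have hd : Nat.card Ω = f + (Fintype.card F) ^ m := (hnum (e0 m F) (e0_ne_zero m F)).1
  have hflt : f < gsN (Fintype.card F) m := by
    rw [gsN_succ] at hdN
    omega
  rcases Nat.eq_zero_or_pos f with hf0 | hfpos
  · -- `f = 0`: the Heisenberg argument
    subst hf0
    obtain ⟨k, rfl⟩ : ∃ k, m = k + 1 := ⟨m - 1, by omega⟩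
    have hdata := heis_data (k := k) (F := F) (Ω := Ω) (by simpa using hd) hf
    exact heis_false (m := k) (F := F) (by omega) (fun h => hexc ⟨by omega, h.2⟩) hdata
  · -- `f ≥ 1`
    have hdich : ∀ v : Fin (m + 1) → F, v ≠ 0 → CaseA Ω v ∨ CaseB Ω v := by
      intro v hv
      have H1 : ∀ x : Fin (m + 1) → F, (¬ ∃ c : F, x = c • v) →
          ∃ ω₀ : Ω, (∀ φ ∈ fixCov v ω₀, τ (φ ⬝ᵥ x) = 0) ∧
            ∀ ω : Ω, (∀ φ ∈ fixCov v ω, τ (φ ⬝ᵥ x) = 0) →
              ∃ (φ : Fin (m + 1) → F) (h : φ ⬝ᵥ v = 0), TS v φ h • ω₀ = ω := by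
        intro x hx
        exact uniq_Qc (n := m + 1) (F := F) (Ω := Ω) (by omega) v hv f hf
          (by simpa using hd) p τ hτ x hx
      rcases dich_weak (n := m + 1) (F := F) (Ω := Ω) (by omega) v hv p τ hτ H1 with hA | hW
      · exact Or.inl hA
      · right
        exact dich_exact (n := m + 1) (F := F) (Ω := Ω) (by omega) v hv f hW (by simpa using hd)
          (hnum v hv).2 (by simpa using hflt)
    by_cases hex : ∃ v : Fin (m + 1) → F, v ≠ 0 ∧ CaseA Ω v
    · obtain ⟨v, hv, hA⟩ := hex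
      obtain ⟨g, hg⟩ := nzVec_exists_smul_eq (n := m + 1) (F := F) (by omega) ⟨v, hv⟩
        ⟨e0 m F, e0_ne_zero m F⟩
      have hg' : (g : Matrix (Fin (m + 1)) (Fin (m + 1)) F) *ᵥ v = e0 m F :=
        congrArg Subtype.val hg
      have hA0 : CaseA Ω (e0 m F) := by
        rw [← hg']
        exact caseA_smul g v hA
      exact caseA_false hm hsub hd1 hdN f hfpos hd hA0
    · push Not at hex
      obtain ⟨ω⟩ := (inferInstance : Nonempty Ω)
      apply caseB_point_false (n := m + 1) (F := F) (Ω := Ω) (by omega) ω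
      intro v hv
      rcases hdich v hv with hA | hB
      · exact absurd hA (hex v hv)
      · exact hB ω

end step

section top

variable {F : Type*} [Field F] [Fintype F]

theorem arith3 : ∀ q ∈ ({2, 3, 5, 7, 9, 11} : Finset ℕ), ∀ f s : ℕ, 2 ≤ s → (4 ≤ q → 5 ≤ s) →
    s ≤ f → f < q + 1 → ¬ (f + q ^ 2 ∣ (q ^ 3 - 1) * s) := by
  intro q hq f s h2 h5 hsf hf
  simp only [Finset.mem_insert, Finset.mem_singleton] at hq
  rcases hq with rfl | rfl | rfl | rfl | rfl | rfl
  all_goals
    norm_num at h5 hf ⊢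
    interval_cases f <;> interval_cases s <;> omega

theorem index_two_le (G : Type*) [Group G] [Finite G] (T : Subgroup G) (hT : T ≠ ⊤) :
    2 ≤ T.index := by
  have h0 : T.index ≠ 0 := Subgroup.index_ne_zero_of_finite
  have h1 : T.index ≠ 1 := fun h => hT (Subgroup.index_eq_one.mp h)
  omega

theorem subHyp2 : SubHyp 2 F := by
  classical
  intro T hT f hTf hflt
  have hN : gsN (Fintype.card F) 2 = Fintype.card F + 1 := by
    simp [gsN, Finset.sum_range_succ, add_comm]
  rw [hN] at hflt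
  by_cases hq : Fintype.card F ∈ ({2, 3, 5, 7, 9, 11} : Finset ℕ)
  · have h2 := index_two_le _ T hT
    have h5 : 4 ≤ Fintype.card F → 5 ≤ T.index := fun h => sl2_small h T hT
    have := arith3 _ hq f T.index h2 h5 hTf hflt
    simpa using this
  · have := SL2MINb.sl2_min hq T hT
    omega

theorem minIdx3 : MinIdx 3 F :=
  step (m := 2) (F := F) le_rfl (by omega) subHyp2

theorem minIdx4 (hq : Fintype.card F ≠ 2) : MinIdx 4 F :=
  step (m := 3) (F := F) (by omega) (fun h => hq h.2) (subHyp_of_minIdx minIdx3)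

theorem subHyp4_two (hq : Fintype.card F = 2) : SubHyp 4 F := by
  classical
  intro T hT f hTf hflt
  have h2 := index_two_le _ T hT
  rw [hq] at hflt ⊢
  have hN : gsN 2 4 = 15 := by decide
  rw [hN] at hflt
  generalize T.index = s at *
  norm_num
  interval_cases f <;> omega

theorem minIdx5 : MinIdx 5 F := by
  by_cases hq : Fintype.card F = 2
  · exact step (m := 4) (F := F) (by omega) (by omega) (subHyp4_two hq)
  · exact step (m := 4) (F := F) (by omega) (by omega) (subHyp_of_minIdx (minIdx4 hq))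

theorem minIdx_ge5 (n : ℕ) (hn : 5 ≤ n) : MinIdx n F := by
  induction n, hn using Nat.le_induction with
  | base => exact minIdx5
  | succ k hk ih => exact step (m := k) (F := F) (by omega) (by omega) (subHyp_of_minIdx ih)

theorem minIdx_all (n : ℕ) (hn : 3 ≤ n) (hexc : ¬ (n = 4 ∧ Fintype.card F = 2)) : MinIdx n F := by
  rcases Nat.lt_or_ge n 5 with h | h
  · have : n = 3 ∨ n = 4 := by omega
    rcases this with rfl | rfl
    · exact minIdx3
    · exact minIdx4 (fun hq => hexc ⟨rfl, hq⟩)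
  · exact minIdx_ge5 n h

/-- Scalar matrices stabilize every line. -/
theorem center_le_Gl {n : ℕ} (hn : 1 ≤ n) (v : Fin n → F) :
    Subgroup.center (SLn n F) ≤ Gl v := by
  intro g hg
  rw [Matrix.SpecialLinearGroup.mem_center_iff] at hg
  obtain ⟨r, hr, hg⟩ := hg
  have hr0 : r ≠ 0 := by
    rintro rfl
    simp only [Fintype.card_fin] at hr
    rw [zero_pow (by omega)] at hr
    exact zero_ne_one hr
  have h1 : (g : Matrix (Fin n) (Fin n) F) *ᵥ v = r • v := by
    rw [← hg]
    ext i
    simp [Matrix.mulVec, dotProduct, Matrix.scalar_apply, Matrix.diagonal_apply]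
  refine ⟨r, h1, ?_, hr0⟩
  have h2 : ((g⁻¹ : SLn n F) : Matrix (Fin n) (Fin n) F) *ᵥ
      ((g : Matrix (Fin n) (Fin n) F) *ᵥ v) = v := by
    rw [Matrix.mulVec_mulVec, ← Matrix.SpecialLinearGroup.coe_mul, inv_mul_cancel,
      Matrix.SpecialLinearGroup.coe_one, Matrix.one_mulVec]
  rw [h1, Matrix.mulVec_smul] at h2
  exact ((inv_smul_eq_iff₀ hr0).mpr h2.symm).symm

/-- The final statement, with `N = gsN q n`. -/
theorem main_psl (n : ℕ) (hn : 3 ≤ n) (hexc : ¬ (n = 4 ∧ Fintype.card F = 2)) :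
    (∀ H : Subgroup (Matrix.ProjectiveSpecialLinearGroup (Fin n) F), H ≠ ⊤ →
      gsN (Fintype.card F) n ≤ H.index) ∧
    (∃ H : Subgroup (Matrix.ProjectiveSpecialLinearGroup (Fin n) F),
      H.index = gsN (Fintype.card F) n) := by
  classical
  obtain ⟨k, rfl⟩ : ∃ k, n = k + 1 := ⟨n - 1, by omega⟩
  have hsurj : Function.Surjective (QuotientGroup.mk' (Subgroup.center (SLn (k + 1) F))) :=
    QuotientGroup.mk'_surjective _
  constructor
  · intro H hH
    have h1 : H.comap (QuotientGroup.mk' (Subgroup.center (SLn (k + 1) F))) ≠ ⊤ := by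
      intro h
      apply hH
      rw [eq_top_iff]
      intro x _
      obtain ⟨y, rfl⟩ := hsurj x
      have : y ∈ H.comap (QuotientGroup.mk' (Subgroup.center (SLn (k + 1) F))) := by
        rw [h]; exact Subgroup.mem_top y
      exact this
    have := minIdx_all (F := F) (k + 1) hn hexc _ h1
    rwa [Subgroup.index_comap_of_surjective _ hsurj] at this
  · refine ⟨(Gl (e0 k F)).map (QuotientGroup.mk' (Subgroup.center (SLn (k + 1) F))), ?_⟩
    rw [Subgroup.index_map_eq _ hsurj]
    · exact index_Gl (n := k + 1) (F := F) (by omega) (e0 k F) (e0_ne_zero k F)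
    · rw [QuotientGroup.ker_mk']
      exact center_le_Gl (by omega) _

end top

end Cfsg.Agent.S2140P
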