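import Mathlib
import Cfsg.Agent.Helper4.MinIdxDefs
import Cfsg.Agent.Helper4.MinIdxCommon
import Cfsg.Agent.Helper4.MinIdxLin
import Cfsg.Agent.Helper4.MinIdxTRACE
import Cfsg.Agent.Helper18.MinIdxTORUS

set_option autoImplicit false

/-! DICH1 piece of the S2140 drive: the dichotomy CaseA ∨ WeakB. -/

namespace Cfsg.Agent.S2140P

open Matrix Cfsg.Agent.Helper12.TVG

namespace DICH1

variable {n : ℕ} {F : Type*} [Field F]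
variable {Ω : Type*} [MulAction (SLn n F) Ω]

/-- Scaling the centre. -/
theorem TS_smul_center (c : F) (v ψ : Fin n → F) (h : ψ ⬝ᵥ (c • v) = 0) (h' : (c • ψ) ⬝ᵥ v = 0) :
    TS (c • v) ψ h = TS v (c • ψ) h' := by
  apply Subtype.ext
  show TM (c • v) ψ = TM v (c • ψ)
  unfold TM
  rw [smul_vecMulVec, vecMulVec_smul]

theorem mem_fixCov_smul_center (c : F) (v ψ : Fin n → F) (ω : Ω) :
    ψ ∈ fixCov (c • v) ω ↔ c • ψ ∈ fixCov v ω := by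
  constructor
  · rintro ⟨h, h1⟩
    have h' : (c • ψ) ⬝ᵥ v = 0 := by
      rw [smul_dotProduct, ← dotProduct_smul]; exact h
    exact ⟨h', by rw [← TS_smul_center c v ψ h h']; exact h1⟩
  · rintro ⟨h', h1⟩
    have h : ψ ⬝ᵥ (c • v) = 0 := by
      rw [dotProduct_smul, ← smul_dotProduct]; exact h'
    exact ⟨h, by rw [TS_smul_center c v ψ h h']; exact h1⟩

/-- Transport along `g` with `g v = c • v`. -/
theorem mem_fixCov_of_line (g : SLn n F) (c : F) (v φ : Fin n → F) (ω : Ω)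
    (hg : (g : Matrix (Fin n) (Fin n) F) *ᵥ v = c • v) :
    φ ∈ fixCov v ω ↔
      c • (φ ᵥ* ((g⁻¹ : SLn n F) : Matrix (Fin n) (Fin n) F)) ∈ fixCov v (g • ω) := by
  rw [mem_fixCov_smul g v φ ω, hg, mem_fixCov_smul_center]

section main

variable {p : ℕ} (τ : F →+ ZMod p) (v : Fin n → F)

/-- `S_ω ≤ Λ_x`. -/
def Le (ω : Ω) (x : Fin n → F) : Prop := ∀ φ ∈ fixCov v ω, τ (φ ⬝ᵥ x) = 0

/-- SYM. -/
theorem le_smul (g : SLn n F) (c : F) (hc : c ≠ 0)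
    (hg : (g : Matrix (Fin n) (Fin n) F) *ᵥ v = c • v) (ω : Ω) (x : Fin n → F)
    (hle : Le τ v ω x) : Le τ v (g • ω) (c⁻¹ • ((g : Matrix (Fin n) (Fin n) F) *ᵥ x)) := by
  intro φ' hφ'
  -- `φ := c⁻¹ • (φ' g) ∈ fixCov v ω`
  have hφ : c⁻¹ • (φ' ᵥ* (g : Matrix (Fin n) (Fin n) F)) ∈ fixCov v ω := by
    rw [mem_fixCov_of_line g c v _ ω hg, smul_vecMul, smul_smul, mul_inv_cancel₀ hc, one_smul,
      vecMul_vecMul, coe_mul_inv, vecMul_one]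
    exact hφ'
  have := hle _ hφ
  rw [smul_dotProduct, ← dotProduct_mulVec, ← dotProduct_smul] at this
  exact this

variable (H1 : ∀ x : Fin n → F, (¬ ∃ c : F, x = c • v) →
      ∃ ω₀ : Ω, (Le τ v ω₀ x) ∧
        ∀ ω : Ω, (Le τ v ω x) →
          ∃ (φ : Fin n → F) (h : φ ⬝ᵥ v = 0), TS v φ h • ω₀ = ω)

include H1

/-- U: two points with `S ≤ Λ_x` are in the same `Qc v`-orbit. -/
theorem orbit_of_le (x : Fin n → F) (hx : ¬ ∃ c : F, x = c • v) (ω ω' : Ω)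
    (h : Le τ v ω x) (h' : Le τ v ω' x) :
    ∃ (φ : Fin n → F) (hφ : φ ⬝ᵥ v = 0), TS v φ hφ • ω = ω' := by
  obtain ⟨ω₀, -, huniq⟩ := H1 x hx
  obtain ⟨φ1, h1, e1⟩ := huniq ω h
  obtain ⟨φ2, h2, e2⟩ := huniq ω' h'
  have h3 : (φ2 + -φ1) ⬝ᵥ v = 0 := by
    rw [add_dotProduct, neg_dotProduct, h1, h2, neg_zero, add_zero]
  have h1' : (-φ1) ⬝ᵥ v = 0 := by rw [neg_dotProduct, h1, neg_zero]
  refine ⟨φ2 + -φ1, h3, ?_⟩
  have h4 : (-φ1 + φ1) ⬝ᵥ v = 0 := by simp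
  rw [← TS_mul_TS_cov v φ2 (-φ1) h2 h1' h3, mul_smul, ← e1, ← mul_smul (TS v (-φ1) h1'),
    TS_mul_TS_cov v (-φ1) φ1 h1' h1 h4]
  have : TS v (-φ1 + φ1) h4 = 1 := by
    apply Subtype.ext
    show TM v (-φ1 + φ1) = 1
    rw [neg_add_cancel, TM_zero_right]
  rw [this, one_smul, e2]

theorem fixCov_eq_of_le (x : Fin n → F) (hx : ¬ ∃ c : F, x = c • v) (ω ω' : Ω)
    (h : Le τ v ω x) (h' : Le τ v ω' x) : fixCov v ω' = fixCov v ω := by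
  obtain ⟨φ, hφ, e⟩ := orbit_of_le τ v H1 x hx ω ω' h h'
  rw [← e, fixCov_TS_smul]

/-- INV. -/
theorem inv_mem (x : Fin n → F) (hx : ¬ ∃ c : F, x = c • v) (ω : Ω) (h : Le τ v ω x)
    (g : SLn n F) (hgv : (g : Matrix (Fin n) (Fin n) F) *ᵥ v = v)
    (hgx : (g : Matrix (Fin n) (Fin n) F) *ᵥ x = x) (φ : Fin n → F) (hφ : φ ∈ fixCov v ω) :
    φ ᵥ* ((g⁻¹ : SLn n F) : Matrix (Fin n) (Fin n) F) ∈ fixCov v ω := by
  have hle := le_smul τ v g 1 one_ne_zero (by rw [hgv, one_smul]) ω x h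
  rw [inv_one, one_smul, hgx] at hle
  have heq := fixCov_eq_of_le τ v H1 x hx ω (g • ω) h hle
  have := (mem_fixCov_smul g v φ ω).mp hφ
  rw [hgv, heq] at this
  exact this

/-- Step (c). -/
theorem hyper_of_ne (x : Fin n → F) (hx : ¬ ∃ c : F, x = c • v) (ω : Ω) (h : Le τ v ω x)
    (φ : Fin n → F) (hφ : φ ∈ fixCov v ω) (hφx : φ ⬝ᵥ x ≠ 0) :
    {ψ | ψ ⬝ᵥ v = 0 ∧ ψ ⬝ᵥ x = 0} ⊆ fixCov v ω := by
  rintro ψ ⟨hψv, hψx⟩
  set c := φ ⬝ᵥ x with hc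
  have hψ' : (c⁻¹ • ψ) ⬝ᵥ x = 0 := by rw [smul_dotProduct, hψx, smul_zero]
  have hgv : ((TS x (c⁻¹ • ψ) hψ' : SLn n F) : Matrix (Fin n) (Fin n) F) *ᵥ v = v := by
    rw [TS_mulVec, smul_dotProduct, hψv, smul_zero, zero_smul, add_zero]
  have hgx : ((TS x (c⁻¹ • ψ) hψ' : SLn n F) : Matrix (Fin n) (Fin n) F) *ᵥ x = x := by
    rw [TS_mulVec, hψ', zero_smul, add_zero]
  have := inv_mem τ v H1 x hx ω h _ hgv hgx φ hφ
  rw [vecMul_TS_inv, ← hc, smul_smul, mul_inv_cancel₀ hφx, one_smul] at this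
  have h2 := add_mem_fixCov hφ (neg_mem_fixCov this)
  rwa [neg_sub, add_sub_cancel] at h2

/-- Step (d1): closure under scalars when `S_ω ⊆ A_x`. -/
theorem smul_mem_of_sub (hv : v ≠ 0) (x : Fin n → F) (hx : ¬ ∃ c : F, x = c • v) (ω : Ω)
    (hsub : ∀ φ ∈ fixCov v ω, φ ⬝ᵥ x = 0) (c : F) (hc : c ≠ 0) (φ : Fin n → F)
    (hφ : φ ∈ fixCov v ω) : c • φ ∈ fixCov v ω := by
  obtain ⟨g, hgv, hgx, hgφ⟩ := exists_torus v x hv hx c hc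
  have hle : ∀ y : F, Le τ v ω (y • x) := by
    intro y ψ hψ
    rw [dotProduct_smul, hsub ψ hψ, smul_zero, map_zero]
  have hle2 := le_smul τ v g c hc hgv ω ((c * c) • x) (hle _)
  rw [mulVec_smul, hgx, smul_smul, smul_smul] at hle2
  have hcc : c⁻¹ * (c * c) * c⁻¹ = 1 := by
    field_simp
  rw [hcc, one_smul] at hle2
  have h1 : Le τ v ω x := by
    have := hle 1
    rwa [one_smul] at this
  have heq := fixCov_eq_of_le τ v H1 x hx ω (g • ω) h1 hle2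
  have := (mem_fixCov_of_line g c v φ ω hgv).mp hφ
  rw [heq] at this
  have hφg : φ ᵥ* ((g⁻¹ : SLn n F) : Matrix (Fin n) (Fin n) F) = φ := by
    have h2 := hgφ φ hφ.1 (hsub φ hφ)
    conv_lhs => rw [← h2]
    rw [vecMul_vecMul, coe_mul_inv, vecMul_one]
  rwa [hφg] at this

/-- Step (d2). -/
theorem hyper_of_sub (hv : v ≠ 0) (x : Fin n → F) (hx : ¬ ∃ c : F, x = c • v) (ω : Ω)
    (hsub : ∀ φ ∈ fixCov v ω, φ ⬝ᵥ x = 0) (ψ₀ : Fin n → F) (hψ₀ : ψ₀ ∈ fixCov v ω)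
    (hne : ψ₀ ≠ 0) : {ψ | ψ ⬝ᵥ v = 0 ∧ ψ ⬝ᵥ x = 0} ⊆ fixCov v ω := by
  obtain ⟨u, hu⟩ := exists_vec_one ψ₀ hne
  have h1 : Le τ v ω x := by
    intro ψ hψ
    rw [hsub ψ hψ, map_zero]
  -- covectors of `A_x` killing `u`
  have key : ∀ η : Fin n → F, η ⬝ᵥ v = 0 → η ⬝ᵥ x = 0 → η ⬝ᵥ u = 0 → η ∈ fixCov v ω := by
    intro η hηv hηx hηu
    have hgv : ((TS u η hηu : SLn n F) : Matrix (Fin n) (Fin n) F) *ᵥ v = v := by
      rw [TS_mulVec, hηv, zero_smul, add_zero]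
    have hgx : ((TS u η hηu : SLn n F) : Matrix (Fin n) (Fin n) F) *ᵥ x = x := by
      rw [TS_mulVec, hηx, zero_smul, add_zero]
    have := inv_mem τ v H1 x hx ω h1 _ hgv hgx ψ₀ hψ₀
    rw [vecMul_TS_inv, hu, one_smul] at this
    have h2 := add_mem_fixCov hψ₀ (neg_mem_fixCov this)
    rwa [neg_sub, add_sub_cancel] at h2
  rintro η ⟨hηv, hηx⟩
  have hψ₀v : ψ₀ ⬝ᵥ v = 0 := hψ₀.1
  have hψ₀x : ψ₀ ⬝ᵥ x = 0 := hsub ψ₀ hψ₀
  have h3 : η - (η ⬝ᵥ u) • ψ₀ ∈ fixCov v ω := by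
    apply key
    · rw [sub_dotProduct, smul_dotProduct, hηv, hψ₀v, smul_zero, sub_zero]
    · rw [sub_dotProduct, smul_dotProduct, hηx, hψ₀x, smul_zero, sub_zero]
    · rw [sub_dotProduct, smul_dotProduct, hu, smul_eq_mul, mul_one, sub_self]
  have h4 : (η ⬝ᵥ u) • ψ₀ ∈ fixCov v ω := by
    by_cases hc : η ⬝ᵥ u = 0
    · rw [hc, zero_smul]; exact zero_mem_fixCov v ω
    · exact smul_mem_of_sub τ v H1 hv x hx ω hsub _ hc ψ₀ hψ₀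
  have := add_mem_fixCov h3 h4
  rwa [sub_add_cancel] at this

/-- Every point whose stabilizer lies in some `Λ_x` has `S = 0` or `S ⊇ A_x`. -/
theorem zero_or_hyper (hv : v ≠ 0) (x : Fin n → F) (hx : ¬ ∃ c : F, x = c • v) (ω : Ω)
    (h : Le τ v ω x) :
    fixCov v ω = {0} ∨ {ψ | ψ ⬝ᵥ v = 0 ∧ ψ ⬝ᵥ x = 0} ⊆ fixCov v ω := by
  by_cases hex : ∃ φ ∈ fixCov v ω, φ ⬝ᵥ x ≠ 0
  · obtain ⟨φ, hφ, hφx⟩ := hex
    exact Or.inr (hyper_of_ne τ v H1 x hx ω h φ hφ hφx)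
  · push Not at hex
    by_cases hz : ∃ ψ₀ ∈ fixCov v ω, ψ₀ ≠ 0
    · obtain ⟨ψ₀, hψ₀, hne⟩ := hz
      exact Or.inr (hyper_of_sub τ v H1 hv x hx ω hex ψ₀ hψ₀ hne)
    · push Not at hz
      left
      ext φ
      simp only [Set.mem_singleton_iff]
      constructor
      · exact hz φ
      · rintro rfl
        exact zero_mem_fixCov v ω

end main

/-- Step (a). -/
theorem exists_le [Fintype F] (p : ℕ) [Fact p.Prime] [CharP F p] (τ : F →+ ZMod p) (hτ : τ ≠ 0)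
    (v : Fin n → F) (ω : Ω) (hne : fixCov v ω ≠ {φ | φ ⬝ᵥ v = 0}) :
    ∃ x : Fin n → F, (¬ ∃ c : F, x = c • v) ∧ Le τ v ω x := by
  have hex : ∃ y : Fin n → F, y ⬝ᵥ v = 0 ∧ y ∉ fixCov v ω := by
    by_contra hcon
    push Not at hcon
    apply hne
    ext φ
    constructor
    · intro hφ; exact hφ.1
    · intro hφ; exact hcon φ hφ
  obtain ⟨y, hyv, hy⟩ := hex
  obtain ⟨x, hx1, hx2⟩ := trace_sep p τ hτ (fixCovSub v ω) y hy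
  refine ⟨x, ?_, fun φ hφ => hx1 φ hφ⟩
  rintro ⟨c, rfl⟩
  apply hx2
  rw [dotProduct_smul, hyv, smul_zero, map_zero]

end DICH1

open DICH1 in
theorem dich_weak {n : ℕ} {F : Type*} [Field F] [Fintype F] {Ω : Type*} [MulAction (SLn n F) Ω]
    (hn : 3 ≤ n) (v : Fin n → F) (hv : v ≠ 0) (p : ℕ) [Fact p.Prime] [CharP F p]
    (τ : F →+ ZMod p) (hτ : τ ≠ 0)
    (H1 : ∀ x : Fin n → F, (¬ ∃ c : F, x = c • v) →
      ∃ ω₀ : Ω, (∀ φ ∈ fixCov v ω₀, τ (φ ⬝ᵥ x) = 0) ∧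
        ∀ ω : Ω, (∀ φ ∈ fixCov v ω, τ (φ ⬝ᵥ x) = 0) →
          ∃ (φ : Fin n → F) (h : φ ⬝ᵥ v = 0), TS v φ h • ω₀ = ω) :
    CaseA Ω v ∨ WeakB Ω v := by
  have H1' : ∀ x : Fin n → F, (¬ ∃ c : F, x = c • v) →
      ∃ ω₀ : Ω, (Le τ v ω₀ x) ∧ ∀ ω : Ω, (Le τ v ω x) →
        ∃ (φ : Fin n → F) (h : φ ⬝ᵥ v = 0), TS v φ h • ω₀ = ω := H1
  -- every non-fixed point has `S = 0` or `S ⊇ A_x`
  have hkey : ∀ ω : Ω, fixCov v ω ≠ {φ | φ ⬝ᵥ v = 0} →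
      ∃ x : Fin n → F, (¬ ∃ c : F, x = c • v) ∧ Le τ v ω x ∧
        (fixCov v ω = {0} ∨ {ψ | ψ ⬝ᵥ v = 0 ∧ ψ ⬝ᵥ x = 0} ⊆ fixCov v ω) := by
    intro ω hne
    obtain ⟨x, hx, hle⟩ := exists_le p τ hτ v ω hne
    exact ⟨x, hx, hle, zero_or_hyper τ v H1' hv x hx ω hle⟩
  have hle0 : ∀ (ω : Ω) (x : Fin n → F), fixCov v ω = {0} → Le τ v ω x := by
    intro ω x h0 φ hφ
    rw [h0, Set.mem_singleton_iff] at hφ
    rw [hφ, zero_dotProduct, map_zero]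
  by_cases hreg : ∃ ω₁ : Ω, fixCov v ω₁ = {0}
  · left
    obtain ⟨ω₁, hω₁⟩ := hreg
    refine ⟨?_, ⟨ω₁, hω₁⟩, ?_⟩
    · intro ω
      by_cases hfix : fixCov v ω = {φ | φ ⬝ᵥ v = 0}
      · exact Or.inr hfix
      · left
        obtain ⟨x, hx, hle, -⟩ := hkey ω hfix
        rw [fixCov_eq_of_le τ v H1' x hx ω₁ ω (hle0 ω₁ x hω₁) hle, hω₁]
    · intro ω ω' h h'
      obtain ⟨x, hx⟩ := exists_notMem_span_pair hn v v
      have hx' : ¬ ∃ c : F, x = c • v := by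
        rintro ⟨c, hc⟩
        exact hx ⟨c, 0, by rw [zero_smul, add_zero]; exact hc⟩
      exact orbit_of_le τ v H1' x hx' ω ω' (hle0 ω x h) (hle0 ω' x h')
  · right
    intro ω
    by_cases hfix : fixCov v ω = {φ | φ ⬝ᵥ v = 0}
    · exact Or.inl hfix
    · right
      obtain ⟨x, hx, -, h0 | hA⟩ := hkey ω hfix
      · exact absurd ⟨ω, h0⟩ hreg
      · exact ⟨x, hx, hA⟩

end Cfsg.Agent.S2140P
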