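import Mathlib

/-!
# Groups in which every non-normal subgroup has a maximal normalizer (`NM`)

Basic closure properties: transport along isomorphisms, direct products with an abelian group of
coprime order, and central extensions by a group of order two containing every involution.
-/

set_option autoImplicit false

namespace Cfsg.Agent.Helper4.NM

open Subgroup

/-- every non-normal subgroup has a maximal normalizer -/
def NM (G : Type*) [Group G] : Prop :=
  ∀ H : Subgroup G, ¬ H.Normal → IsCoatom (Subgroup.normalizer (H : Set G))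

section transport

variable {G G' : Type*} [Group G] [Group G']

theorem nm_of_equiv (e : G ≃* G') (h : NM G) : NM G' := by
  intro H' hH'
  set H : Subgroup G := H'.comap e.toMonoidHom with hH
  have hmap : H.map e.toMonoidHom = H' := by
    rw [hH]; exact Subgroup.map_comap_eq_self_of_surjective e.surjective H'
  have hn : ¬ H.Normal := by
    intro hN
    apply hH'
    rw [← hmap]
    exact hN.map e.toMonoidHom e.surjective
  have hc := h H hn
  rw [← hmap, ← Subgroup.map_equiv_normalizer_eq]
  exact (e.mapSubgroup.isCoatom_iff _).2 hc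

end transport

end Cfsg.Agent.Helper4.NM

namespace Cfsg.Agent.Helper4.NM

open Subgroup

section prod

variable {K S : Type*} [Group K] [CommGroup S]

theorem isCoatom_prod_top {M : Subgroup K} (hM : IsCoatom M) :
    IsCoatom (M.prod (⊤ : Subgroup S)) := by
  constructor
  · intro h
    apply hM.1
    rw [eq_top_iff]
    intro k _
    have : ((k, 1) : K × S) ∈ M.prod (⊤ : Subgroup S) := by rw [h]; trivial
    exact (Subgroup.mem_prod.1 this).1
  · intro L hL
    have hML : M ≤ L.map (MonoidHom.fst K S) := by
      intro m hm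
      exact ⟨(m, 1), hL.le (Subgroup.mem_prod.2 ⟨hm, Subgroup.mem_top _⟩), rfl⟩
    have hne : M ≠ L.map (MonoidHom.fst K S) := by
      intro h
      apply hL.not_ge
      intro x hx
      refine Subgroup.mem_prod.2 ⟨?_, Subgroup.mem_top _⟩
      rw [h]
      exact ⟨x, hx, rfl⟩
    have htop : L.map (MonoidHom.fst K S) = ⊤ := hM.2 _ (lt_of_le_of_ne hML hne)
    rw [eq_top_iff]
    rintro ⟨k, s⟩ _
    have hk : k ∈ L.map (MonoidHom.fst K S) := by rw [htop]; trivial
    obtain ⟨⟨k', s'⟩, hx, hk'⟩ := hk
    simp only [MonoidHom.coe_fst] at hk'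
    subst hk'
    have h2 : ((1, s'⁻¹ * s) : K × S) ∈ L :=
      hL.le (Subgroup.mem_prod.2 ⟨M.one_mem, Subgroup.mem_top _⟩)
    have := L.mul_mem hx h2
    simpa using this

theorem normalizer_prod (A : Subgroup K) (B : Subgroup S) :
    Subgroup.normalizer ((A.prod B : Subgroup (K × S)) : Set (K × S)) =
      (Subgroup.normalizer (A : Set K)).prod (⊤ : Subgroup S) := by
  ext ⟨g, s⟩
  rw [Subgroup.mem_normalizer_iff, Subgroup.mem_prod, Subgroup.mem_normalizer_iff]
  constructor
  · intro h
    refine ⟨fun k => ?_, Subgroup.mem_top _⟩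
    have := h (k, 1)
    simp only [Subgroup.mem_prod, Prod.mk_mul_mk, Prod.inv_mk, mul_one, mul_inv_cancel,
      B.one_mem, and_true] at this
    exact this
  · rintro ⟨h, _⟩ ⟨k, s'⟩
    simp only [Subgroup.mem_prod, Prod.mk_mul_mk, Prod.inv_mk]
    rw [h k, mul_comm s s', mul_inv_cancel_right]

variable [Finite K] [Finite S]

theorem eq_prod_of_coprime (hcop : (Nat.card K).Coprime (Nat.card S)) (H : Subgroup (K × S)) :
    H = (H.map (MonoidHom.fst K S)).prod (H.map (MonoidHom.snd K S)) := by
  apply le_antisymm
  · intro x hx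
    exact Subgroup.mem_prod.2 ⟨⟨x, hx, rfl⟩, ⟨x, hx, rfl⟩⟩
  · rintro ⟨k, s⟩ hks
    obtain ⟨⟨⟨k1, s1⟩, h1, e1⟩, ⟨⟨k2, s2⟩, h2, e2⟩⟩ := Subgroup.mem_prod.1 hks
    simp only [MonoidHom.coe_fst, MonoidHom.coe_snd] at e1 e2
    subst e1 e2
    -- (k1, 1) ∈ H
    obtain ⟨n, hn1, hn0⟩ := Nat.chineseRemainder hcop 1 0
    obtain ⟨m, hm0, hm1⟩ := Nat.chineseRemainder hcop 0 1
    have hk1 : k1 ^ n = k1 := by
      have : k1 ^ n = k1 ^ 1 := by
        rw [pow_eq_pow_iff_modEq]
        exact hn1.of_dvd (orderOf_dvd_natCard k1)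
      rwa [pow_one] at this
    have hs1 : s1 ^ n = 1 := by
      have : s1 ^ n = s1 ^ 0 := by
        rw [pow_eq_pow_iff_modEq]
        exact hn0.of_dvd (orderOf_dvd_natCard s1)
      rwa [pow_zero] at this
    have hk2 : k2 ^ m = 1 := by
      have : k2 ^ m = k2 ^ 0 := by
        rw [pow_eq_pow_iff_modEq]
        exact hm0.of_dvd (orderOf_dvd_natCard k2)
      rwa [pow_zero] at this
    have hs2 : s2 ^ m = s2 := by
      have : s2 ^ m = s2 ^ 1 := by
        rw [pow_eq_pow_iff_modEq]
        exact hm1.of_dvd (orderOf_dvd_natCard s2)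
      rwa [pow_one] at this
    have ha : ((k1, s1) : K × S) ^ n ∈ H := H.pow_mem h1 n
    have hb : ((k2, s2) : K × S) ^ m ∈ H := H.pow_mem h2 m
    rw [Prod.pow_mk, hk1, hs1] at ha
    rw [Prod.pow_mk, hk2, hs2] at hb
    have := H.mul_mem ha hb
    simpa using this

theorem nm_prod (hcop : (Nat.card K).Coprime (Nat.card S)) (h : NM K) : NM (K × S) := by
  intro H hH
  have hdec := eq_prod_of_coprime hcop H
  set A := H.map (MonoidHom.fst K S) with hA
  set B := H.map (MonoidHom.snd K S) with hB
  have hAn : ¬ A.Normal := by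
    intro hN
    apply hH
    rw [hdec]
    haveI := hN
    haveI : B.Normal := Subgroup.normal_of_comm B
    exact Subgroup.prod_normal A B
  have hc := h A hAn
  rw [hdec, normalizer_prod]
  exact isCoatom_prod_top hc

end prod

end Cfsg.Agent.Helper4.NM

namespace Cfsg.Agent.Helper4.NM

open Subgroup

section cover

variable {E G : Type*} [Group E] [Group G]

theorem isCoatom_comap_of_surjective (π : E →* G) (hπ : Function.Surjective π) {M : Subgroup G}
    (hM : IsCoatom M) : IsCoatom (M.comap π) := by
  constructor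
  · intro h
    apply hM.1
    rw [← Subgroup.map_comap_eq_self_of_surjective hπ M, h, ← MonoidHom.range_eq_map,
      MonoidHom.range_eq_top.2 hπ]
  · intro L hL
    have hker : π.ker ≤ L := le_trans (Subgroup.ker_le_comap π M) hL.le
    have hML : M ≤ L.map π := by
      rw [← Subgroup.map_comap_eq_self_of_surjective hπ M]
      exact Subgroup.map_mono hL.le
    have hne : M ≠ L.map π := by
      intro h
      apply hL.not_ge
      rw [h]
      exact Subgroup.le_comap_map π L
    have htop : L.map π = ⊤ := hM.2 _ (lt_of_le_of_ne hML hne)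
    have : L = (L.map π).comap π := by
      rw [Subgroup.comap_map_eq, sup_eq_left.2 hker]
    rw [this, htop, Subgroup.comap_top]

theorem mem_zpowers_of_sq {z : E} (hz2 : z * z = 1) {x : E} (hx : x ∈ Subgroup.zpowers z) :
    x = 1 ∨ x = z := by
  obtain ⟨k, rfl⟩ := Subgroup.mem_zpowers_iff.1 hx
  have h2 : z ^ (2 : ℤ) = 1 := by
    rw [show (2 : ℤ) = 1 + 1 by norm_num, zpow_add, zpow_one]; exact hz2
  rcases Int.emod_two_eq_zero_or_one k with h | h
  · left
    have hk : k = 2 * (k / 2) := by omega
    rw [hk, zpow_mul, h2, one_zpow]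
  · right
    have hk : k = 2 * (k / 2) + 1 := by omega
    rw [hk, zpow_add, zpow_mul, h2, one_zpow, one_mul, zpow_one]

variable [Finite E]

/-- For a central extension `π : E → G` with kernel `{1, z}` where `z` is the only involution of
`E`, normalizers in `E` are the full preimages of the normalizers of the images. -/
theorem normalizer_eq_comap (π : E →* G) (hπ : Function.Surjective π) (z : E) (hz : z ≠ 1)
    (hz2 : z * z = 1) (hker : π.ker = Subgroup.zpowers z)
    (hinv : ∀ x : E, x * x = 1 → x = 1 ∨ x = z) (H : Subgroup E) :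
    Subgroup.normalizer (H : Set E) =
      (Subgroup.normalizer ((H.map π : Subgroup G) : Set G)).comap π := by
  have hzker : z ∈ π.ker := by rw [hker]; exact Subgroup.mem_zpowers z
  have hcent : ∀ g : E, g * z = z * g := by
    intro g
    have h1 : g * z * g⁻¹ ∈ π.ker := (inferInstance : π.ker.Normal).conj_mem z hzker g
    rw [hker] at h1
    rcases mem_zpowers_of_sq hz2 h1 with h | h
    · exfalso
      apply hz
      have : z = g⁻¹ * (g * z * g⁻¹) * g := by group
      rw [this, h]; group
    · calc g * z = g * z * g⁻¹ * g := by group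
        _ = z * g := by rw [h]
  by_cases hzH : z ∈ H
  · have hk : π.ker ≤ H := by
      rw [hker]; exact (Subgroup.zpowers_le).2 hzH
    rw [Subgroup.comap_normalizer_eq_of_surjective _ hπ, Subgroup.comap_map_eq,
      sup_eq_left.2 hk]
  · -- `H` has odd order
    have hodd : Odd (Nat.card H) := by
      by_contra hne
      rw [Nat.not_odd_iff_even] at hne
      haveI : Fact (Nat.Prime 2) := ⟨Nat.prime_two⟩
      haveI : Fintype H := Fintype.ofFinite H
      obtain ⟨x, hx⟩ := exists_prime_orderOf_dvd_card 2
        (by rw [← Nat.card_eq_fintype_card]; exact hne.two_dvd : 2 ∣ Fintype.card H)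
      have hx2 : x ^ 2 = 1 := by rw [← hx]; exact pow_orderOf_eq_one x
      have hx1 : x ≠ 1 := by
        intro h; rw [h, orderOf_one] at hx; omega
      have h3 : (x : E) * (x : E) = 1 := by
        have := congrArg Subtype.val hx2
        simpa [pow_two] using this
      rcases hinv _ h3 with h | h
      · exact hx1 (Subtype.ext h)
      · exact hzH (h ▸ x.2)
    have key : ∀ g' : E, π g' ∈ Subgroup.normalizer ((H.map π : Subgroup G) : Set G) →
        ∀ h ∈ H, g' * h * g'⁻¹ ∈ H := by
      intro g' hg' h hh
      have h1 : π (g' * h * g'⁻¹) ∈ H.map π := by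
        rw [map_mul, map_mul, map_inv]
        exact (Subgroup.mem_normalizer_iff.1 hg' (π h)).1 ⟨h, hh, rfl⟩
      obtain ⟨h', hh', e'⟩ := h1
      have h2 : g' * h * g'⁻¹ * h'⁻¹ ∈ π.ker := by
        rw [MonoidHom.mem_ker, map_mul, map_inv, e', mul_inv_cancel]
      rw [hker] at h2
      rcases mem_zpowers_of_sq hz2 h2 with h3 | h3
      · have : g' * h * g'⁻¹ = h' := by
          have := mul_inv_eq_one.1 h3
          exact this
        rw [this]; exact hh'
      · exfalso
        have h4 : g' * h * g'⁻¹ = z * h' := by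
          rw [← h3, inv_mul_cancel_right]
        set m := orderOf h with hm
        have hmodd : Odd m := by
          have : m ∣ Nat.card H := by
            have := orderOf_dvd_natCard (⟨h, hh⟩ : H)
            rwa [Subgroup.orderOf_mk h hh] at this
          exact Odd.of_dvd_nat hodd this
        have h5 : (g' * h * g'⁻¹) ^ m = 1 := by
          rw [conj_pow, pow_orderOf_eq_one]; group
        have hcomm : Commute z h' := (hcent h').symm
        rw [h4, hcomm.mul_pow] at h5
        have hzm : z ^ m = z := by
          obtain ⟨k, hk⟩ := hmodd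
          rw [hk, pow_succ, pow_mul, pow_two, hz2, one_pow, one_mul]
        rw [hzm] at h5
        apply hzH
        have : z = (h' ^ m)⁻¹ := eq_inv_of_mul_eq_one_left h5
        rw [this]
        exact H.inv_mem (H.pow_mem hh' m)
    apply le_antisymm
    · intro g hg
      exact Subgroup.le_normalizer_map π ⟨g, hg, rfl⟩
    · intro g hg
      rw [Subgroup.mem_comap] at hg
      rw [Subgroup.mem_normalizer_iff]
      intro h
      constructor
      · exact key g hg h
      · intro hh
        have hg' : π g⁻¹ ∈ Subgroup.normalizer ((H.map π : Subgroup G) : Set G) := by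
          rw [map_inv]; exact Subgroup.inv_mem _ hg
        have := key g⁻¹ hg' _ hh
        have e : g⁻¹ * (g * h * g⁻¹) * g⁻¹⁻¹ = h := by group
        rwa [e] at this

theorem nm_of_cover (π : E →* G) (hπ : Function.Surjective π) (z : E) (hz : z ≠ 1)
    (hz2 : z * z = 1) (hker : π.ker = Subgroup.zpowers z)
    (hinv : ∀ x : E, x * x = 1 → x = 1 ∨ x = z) (hG : NM G) : NM E := by
  intro H hH
  have hN := normalizer_eq_comap π hπ z hz hz2 hker hinv H
  have hn : ¬ (H.map π).Normal := by
    intro hN'
    apply hH
    rw [← Subgroup.normalizer_eq_top_iff, hN, Subgroup.normalizer_eq_top_iff.2 hN',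
      Subgroup.comap_top]
  rw [hN]
  exact isCoatom_comap_of_surjective π hπ (hG _ hn)

end cover

end Cfsg.Agent.Helper4.NM
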