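import Mathlib
import Cfsg.Agent.Helper4.NMBasic
import Cfsg.Agent.Helper4.NMTools

/-!
# Simple groups of order 1092 with the subgroup orders of `PSL(2,13)`

We show that in a simple group of order `1092 = 2² · 3 · 7 · 13` whose subgroups have orders in
`{1,2,3,4,6,7,12,13,14,26,39,78,1092}` and that has no element of order `26` or `39`, the normalizer
of every non-normal subgroup is maximal.
-/

set_option autoImplicit false

namespace Cfsg.Agent.Helper4.NM1092

open Subgroup Cfsg.Agent.Helper4.NM Cfsg.Agent.Helper4.NMTools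

/-- the list of subgroup orders -/
def InList (n : ℕ) : Prop :=
  n = 1 ∨ n = 2 ∨ n = 3 ∨ n = 4 ∨ n = 6 ∨ n = 7 ∨ n = 12 ∨ n = 13 ∨ n = 14 ∨ n = 26 ∨ n = 39 ∨
    n = 78 ∨ n = 1092

/-- the hypotheses -/
structure Hyp (G : Type*) [Group G] : Prop where
  fin : Finite G
  card : Nat.card G = 1092
  simple : ∀ N : Subgroup G, N.Normal → N = ⊥ ∨ N = ⊤
  list : ∀ H : Subgroup G, InList (Nat.card H)
  ord : ∀ g : G, orderOf g ≠ 26 ∧ orderOf g ≠ 39

variable {G : Type*} [Group G]

namespace Hyp

variable (hyp : Hyp G)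
include hyp

theorem card_normalizer_mul (H : Subgroup G) :
    Nat.card (Subgroup.normalizer (H : Set G)) * (Subgroup.normalizer (H : Set G)).index
      = 1092 := by
  haveI := hyp.fin
  rw [Subgroup.card_mul_index, hyp.card]

theorem isCoatom_of_card {M : Subgroup G}
    (h : Nat.card M = 12 ∨ Nat.card M = 14 ∨ Nat.card M = 78) : IsCoatom M := by
  haveI := hyp.fin
  constructor
  · intro htop
    rw [htop, Subgroup.card_top, hyp.card] at h
    omega
  · intro L hL
    have hdvd : Nat.card M ∣ Nat.card L := Subgroup.card_dvd_of_le hL.le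
    have hne : Nat.card M ≠ Nat.card L := by
      intro heq
      exact hL.ne (Subgroup.eq_of_le_of_card_ge hL.le heq.ge)
    have hl := hyp.list L
    have : Nat.card L = 1092 := by
      unfold InList at hl
      rcases h with h | h | h <;> rw [h] at hdvd hne <;>
      rcases hl with hl | hl | hl | hl | hl | hl | hl | hl | hl | hl | hl | hl | hl <;>
      rw [hl] at hdvd hne <;> omega
    rw [← Subgroup.card_eq_iff_eq_top, this, hyp.card]

theorem not_normal_of_card {H : Subgroup G} (h1 : Nat.card H ≠ 1) (h2 : Nat.card H ≠ 1092) :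
    ¬ H.Normal := by
  intro hN
  rcases hyp.simple H hN with rfl | rfl
  · exact h1 Subgroup.card_bot
  · exact h2 (by rw [Subgroup.card_top, hyp.card])

theorem card_ne_of_not_normal {H : Subgroup G} (hH : ¬ H.Normal) :
    Nat.card H ≠ 1 ∧ Nat.card H ≠ 1092 := by
  haveI := hyp.fin
  constructor
  · intro h
    apply hH
    rw [Subgroup.card_eq_one] at h
    rw [h]; infer_instance
  · intro h
    apply hH
    have : H = ⊤ := by rw [← Subgroup.card_eq_iff_eq_top, h, hyp.card]
    rw [this]; infer_instance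

theorem card_normalizer_ne {H : Subgroup G} (hH : ¬ H.Normal) :
    Nat.card (Subgroup.normalizer (H : Set G)) ≠ 1092 := by
  haveI := hyp.fin
  intro h
  apply hH
  rw [← Subgroup.normalizer_eq_top_iff, ← Subgroup.card_eq_iff_eq_top, h, hyp.card]

/-- order 7 -/
theorem card_normalizer_seven {H : Subgroup G} (hH : Nat.card H = 7) :
    Nat.card (Subgroup.normalizer (H : Set G)) = 14 := by
  haveI := hyp.fin
  have hnn : ¬ H.Normal := hyp.not_normal_of_card (by omega) (by omega)
  have hmod := index_normalizer_modEq (p := 7) (k := 1) (by norm_num) H (by rw [hH]; norm_num)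
    (by rw [hyp.card]; norm_num)
  have hmul := hyp.card_normalizer_mul H
  have hdvd : Nat.card H ∣ Nat.card (Subgroup.normalizer (H : Set G)) :=
    Subgroup.card_dvd_of_le Subgroup.le_normalizer
  have hne := hyp.card_normalizer_ne hnn
  have hl := hyp.list (Subgroup.normalizer (H : Set G))
  rw [hH] at hdvd
  unfold InList at hl
  rcases hl with hl | hl | hl | hl | hl | hl | hl | hl | hl | hl | hl | hl | hl <;>
  rw [hl] at hdvd hmul hne ⊢ <;> omega

/-- order 13 -/
theorem card_normalizer_thirteen {H : Subgroup G} (hH : Nat.card H = 13) :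
    Nat.card (Subgroup.normalizer (H : Set G)) = 78 := by
  haveI := hyp.fin
  have hnn : ¬ H.Normal := hyp.not_normal_of_card (by omega) (by omega)
  have hmod := index_normalizer_modEq (p := 13) (k := 1) (by norm_num) H (by rw [hH]; norm_num)
    (by rw [hyp.card]; norm_num)
  have hmul := hyp.card_normalizer_mul H
  have hdvd : Nat.card H ∣ Nat.card (Subgroup.normalizer (H : Set G)) :=
    Subgroup.card_dvd_of_le Subgroup.le_normalizer
  have hne := hyp.card_normalizer_ne hnn
  have hl := hyp.list (Subgroup.normalizer (H : Set G))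
  rw [hH] at hdvd
  unfold InList at hl
  rcases hl with hl | hl | hl | hl | hl | hl | hl | hl | hl | hl | hl | hl | hl <;>
  rw [hl] at hdvd hmul hne ⊢ <;> omega

/-- a pair of commuting elements from a prime dividing the order of the centralizer -/
theorem exists_commute_of_dvd_centralizer {Q : Subgroup G} {p q : ℕ} [Fact p.Prime]
    [Fact q.Prime] (hQ : Nat.card Q = p)
    (hq : q ∣ Nat.card (Subgroup.centralizer (Q : Set G))) :
    ∃ x y : G, orderOf x = q ∧ orderOf y = p ∧ Commute x y ∧ y ∈ Q := by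
  haveI := hyp.fin
  obtain ⟨x, hx⟩ := exists_prime_orderOf_dvd_card' q hq
  obtain ⟨y, hy⟩ := exists_prime_orderOf_dvd_card' (G := Q) p (by rw [hQ])
  refine ⟨(x : G), (y : G), ?_, ?_, ?_, y.2⟩
  · rw [Subgroup.orderOf_coe]; exact hx
  · rw [Subgroup.orderOf_coe]; exact hy
  · have := Subgroup.mem_centralizer_iff.1 x.2 (y : G) y.2
    exact this.symm

theorem not_dvd_card_centralizer {Q : Subgroup G} {p q : ℕ} [Fact p.Prime]
    [Fact q.Prime] (hQ : Nat.card Q = p) (hpq : p ≠ q)
    (hqp : q * p = 26 ∨ q * p = 39) :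
    ¬ q ∣ Nat.card (Subgroup.centralizer (Q : Set G)) := by
  intro hq
  obtain ⟨x, y, hx, hy, hc, -⟩ := hyp.exists_commute_of_dvd_centralizer hQ hq
  have hcop : (orderOf x).Coprime (orderOf y) := by
    rw [hx, hy]
    exact (Nat.coprime_primes Fact.out Fact.out).2 hpq.symm
  have h := hc.orderOf_mul_eq_mul_orderOf_of_coprime hcop
  rw [hx, hy] at h
  rcases hqp with h' | h'
  · exact (hyp.ord (x * y)).1 (h.trans h')
  · exact (hyp.ord (x * y)).2 (h.trans h')

theorem le_centralizer_of_card_prime {Q : Subgroup G} {p : ℕ} [Fact p.Prime]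
    (hQ : Nat.card Q = p) : Q ≤ Subgroup.centralizer (Q : Set G) := by
  haveI : IsCyclic Q := isCyclic_of_prime_card hQ
  exact Subgroup.le_centralizer_iff_isMulCommutative.2 inferInstance

/-- order 3 -/
theorem card_normalizer_three {H : Subgroup G} (hH : Nat.card H = 3) :
    Nat.card (Subgroup.normalizer (H : Set G)) = 12 := by
  haveI := hyp.fin
  haveI : Fact (Nat.Prime 3) := ⟨by norm_num⟩
  haveI : Fact (Nat.Prime 13) := ⟨by norm_num⟩
  have hnn : ¬ H.Normal := hyp.not_normal_of_card (by omega) (by omega)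
  have hmod := index_normalizer_modEq (p := 3) (k := 1) (by norm_num) H (by rw [hH]; norm_num)
    (by rw [hyp.card]; norm_num)
  have hmul := hyp.card_normalizer_mul H
  have hdvd : Nat.card H ∣ Nat.card (Subgroup.normalizer (H : Set G)) :=
    Subgroup.card_dvd_of_le Subgroup.le_normalizer
  have hne := hyp.card_normalizer_ne hnn
  have hl := hyp.list (Subgroup.normalizer (H : Set G))
  have hcases : Nat.card (Subgroup.normalizer (H : Set G)) = 3 ∨
      Nat.card (Subgroup.normalizer (H : Set G)) = 12 ∨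
      Nat.card (Subgroup.normalizer (H : Set G)) = 39 := by
    rw [hH] at hdvd
    unfold InList at hl
    rcases hl with hl | hl | hl | hl | hl | hl | hl | hl | hl | hl | hl | hl | hl <;>
    rw [hl] at hdvd hmul hne ⊢ <;> omega
  rcases hcases with h | h | h
  · exfalso
    have heq : H = Subgroup.normalizer (H : Set G) :=
      Subgroup.eq_of_le_of_card_ge Subgroup.le_normalizer (by rw [h, hH])
    refine not_normalizer_le_centralizer hyp.simple (p := 3) (k := 1) (by norm_num) H
      (by rw [hH]; norm_num) (by rw [hyp.card]; norm_num) (by omega) (by rw [hyp.card]; omega) ?_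
    rw [← heq]
    exact hyp.le_centralizer_of_card_prime hH
  · exact h
  · exfalso
    haveI : IsCyclic H := isCyclic_of_prime_card hH
    obtain ⟨k, hk, hck⟩ := card_normalizer_eq H
    rw [hH, Nat.totient_prime (by norm_num)] at hk
    have hk' : k = 1 ∨ k = 2 := (Nat.dvd_prime Nat.prime_two).1 hk
    rw [h] at hck
    have h13 : 13 ∣ Nat.card (Subgroup.centralizer (H : Set G)) := by
      rcases hk' with rfl | rfl <;> omega
    exact hyp.not_dvd_card_centralizer hH (by norm_num) (Or.inr (by norm_num)) h13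

/-- order 4 -/
theorem card_normalizer_four {H : Subgroup G} (hH : Nat.card H = 4) :
    Nat.card (Subgroup.normalizer (H : Set G)) = 12 := by
  haveI := hyp.fin
  haveI : Fact (Nat.Prime 2) := ⟨by norm_num⟩
  have hnn : ¬ H.Normal := hyp.not_normal_of_card (by omega) (by omega)
  have hmul := hyp.card_normalizer_mul H
  have hdvd : Nat.card H ∣ Nat.card (Subgroup.normalizer (H : Set G)) :=
    Subgroup.card_dvd_of_le Subgroup.le_normalizer
  have hne := hyp.card_normalizer_ne hnn
  have hl := hyp.list (Subgroup.normalizer (H : Set G))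
  have hcases : Nat.card (Subgroup.normalizer (H : Set G)) = 4 ∨
      Nat.card (Subgroup.normalizer (H : Set G)) = 12 := by
    rw [hH] at hdvd
    unfold InList at hl
    rcases hl with hl | hl | hl | hl | hl | hl | hl | hl | hl | hl | hl | hl | hl <;>
    rw [hl] at hdvd hmul hne ⊢ <;> omega
  rcases hcases with h | h
  · exfalso
    have heq : H = Subgroup.normalizer (H : Set G) :=
      Subgroup.eq_of_le_of_card_ge Subgroup.le_normalizer (by rw [h, hH])
    refine not_normalizer_le_centralizer hyp.simple (p := 2) (k := 2) (by norm_num) H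
      (by rw [hH]; norm_num) (by rw [hyp.card]; norm_num) (by omega) (by rw [hyp.card]; omega) ?_
    rw [← heq]
    have hc : IsMulCommutative H :=
      IsPGroup.isMulCommutative_of_card_eq_prime_sq (p := 2) (by rw [hH]; norm_num)
    exact Subgroup.le_centralizer_iff_isMulCommutative.2 hc
  · exact h

/-- Sylow 2-subgroups have order four -/
theorem card_sylow_two (V : Sylow 2 G) : Nat.card (V : Subgroup G) = 4 := by
  haveI := hyp.fin
  haveI : Fact (Nat.Prime 2) := ⟨by norm_num⟩
  obtain ⟨n, hn⟩ := (IsPGroup.iff_card (p := 2)).mp V.isPGroup'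
  have h4 : 2 ^ 2 ∣ Nat.card (V : Subgroup G) :=
    V.pow_dvd_card_of_pow_dvd_card (by rw [hyp.card]; norm_num)
  have hdvd : Nat.card (V : Subgroup G) ∣ 1092 := by
    rw [← hyp.card]; exact Subgroup.card_subgroup_dvd_card _
  rw [hn] at h4 hdvd ⊢
  have hn2 : n ≤ 2 := by
    by_contra hcon
    push_neg at hcon
    have : 2 ^ 3 ∣ 1092 := (pow_dvd_pow 2 hcon).trans hdvd
    norm_num at this
  interval_cases n
  · norm_num at h4
  · norm_num at h4
  · norm_num

/-- the nonidentity elements of a Sylow 2-subgroup are conjugate -/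
theorem isConj_of_mem_sylow_two (V : Sylow 2 G) {a b : G} (ha : a ∈ (V : Subgroup G))
    (hb : b ∈ (V : Subgroup G)) (ha1 : a ≠ 1) (hb1 : b ≠ 1) : IsConj a b := by
  haveI := hyp.fin
  haveI : Fact (Nat.Prime 2) := ⟨by norm_num⟩
  haveI : Fact (Nat.Prime 3) := ⟨by norm_num⟩
  have hV := hyp.card_sylow_two V
  have hN12 : Nat.card (Subgroup.normalizer ((V : Subgroup G) : Set G)) = 12 :=
    hyp.card_normalizer_four hV
  have hcomm : IsMulCommutative (V : Subgroup G) :=
    IsPGroup.isMulCommutative_of_card_eq_prime_sq (p := 2) (by rw [hV]; norm_num)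
  have hVC : (V : Subgroup G) ≤ Subgroup.centralizer ((V : Subgroup G) : Set G) :=
    Subgroup.le_centralizer_iff_isMulCommutative.2 hcomm
  have hburn : ¬ Subgroup.normalizer ((V : Subgroup G) : Set G) ≤
      Subgroup.centralizer ((V : Subgroup G) : Set G) :=
    not_normalizer_le_centralizer hyp.simple (p := 2) (k := 2) (by norm_num) (V : Subgroup G)
      (by rw [hV]; norm_num) (by rw [hyp.card]; norm_num) (by omega) (by rw [hyp.card]; omega)
  obtain ⟨D, hD⟩ : ∃ D : Subgroup G, D = Subgroup.centralizer ((V : Subgroup G) : Set G) ⊓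
      Subgroup.normalizer ((V : Subgroup G) : Set G) := ⟨_, rfl⟩
  have hVD : (V : Subgroup G) ≤ D := by rw [hD]; exact le_inf hVC Subgroup.le_normalizer
  have hDN : D ≤ Subgroup.normalizer ((V : Subgroup G) : Set G) := by rw [hD]; exact inf_le_right
  have hDcard : Nat.card D = 4 := by
    have h1 : 4 ∣ Nat.card D := by rw [← hV]; exact Subgroup.card_dvd_of_le hVD
    have h2 : Nat.card D ∣ 12 := by rw [← hN12]; exact Subgroup.card_dvd_of_le hDN
    have h3 : Nat.card D ≠ 12 := by
      intro h
      apply hburn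
      have : D = Subgroup.normalizer ((V : Subgroup G) : Set G) :=
        Subgroup.eq_of_le_of_card_ge hDN (by rw [h, hN12])
      rw [← this, hD]; exact inf_le_left
    have h4 : Nat.card D ≤ 12 := Nat.le_of_dvd (by norm_num) h2
    obtain ⟨d, hd⟩ : ∃ d, d = Nat.card D := ⟨_, rfl⟩
    rw [← hd] at h1 h2 h3 h4 ⊢
    interval_cases d <;> omega
  have hDV : D = (V : Subgroup G) :=
    (Subgroup.eq_of_le_of_card_ge hVD (by rw [hDcard, hV])).symm
  obtain ⟨w, hw⟩ := exists_prime_orderOf_dvd_card'
    (G := Subgroup.normalizer ((V : Subgroup G) : Set G)) 3 (by rw [hN12]; norm_num)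
  obtain ⟨u, hu⟩ : ∃ u : G, u = (w : G) := ⟨_, rfl⟩
  have hw3 : orderOf u = 3 := by rw [hu, Subgroup.orderOf_coe]; exact hw
  have hwN : u ∈ Subgroup.normalizer ((V : Subgroup G) : Set G) := by rw [hu]; exact w.2
  have hwC : u ∉ Subgroup.centralizer ((V : Subgroup G) : Set G) := by
    intro h
    have h' : u ∈ D := by rw [hD]; exact ⟨h, hwN⟩
    rw [hDV] at h'
    have := Subgroup.orderOf_dvd_natCard _ h'
    rw [hw3, hV] at this
    omega
  rw [Subgroup.mem_centralizer_iff] at hwC
  push_neg at hwC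
  obtain ⟨a0, ha0V, ha0⟩ := hwC
  have ha0V' : a0 ∈ (V : Subgroup G) := ha0V
  have hnorm : ∀ x, x ∈ (V : Subgroup G) → u * x * u⁻¹ ∈ (V : Subgroup G) :=
    fun x hx => (Subgroup.mem_normalizer_iff.1 hwN x).1 hx
  obtain ⟨a1, ha1def⟩ : ∃ a1, a1 = u * a0 * u⁻¹ := ⟨_, rfl⟩
  obtain ⟨a2, ha2def⟩ : ∃ a2, a2 = u * a1 * u⁻¹ := ⟨_, rfl⟩
  have hu3 : u * u * u = 1 := by
    have := pow_orderOf_eq_one u
    rw [hw3] at this
    rw [← this]; simp [pow_succ]
  have ha3 : u * a2 * u⁻¹ = a0 := by
    rw [ha2def, ha1def]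
    calc u * (u * (u * a0 * u⁻¹) * u⁻¹) * u⁻¹ = (u * u * u) * a0 * (u * u * u)⁻¹ := by group
      _ = a0 := by rw [hu3]; simp
  have hconj_inj : ∀ x y : G, u * x * u⁻¹ = u * y * u⁻¹ → x = y :=
    fun x y h => mul_left_cancel (mul_right_cancel h)
  have h01 : a0 ≠ a1 := by
    intro h
    apply ha0
    have : a0 * u = u * a0 * u⁻¹ * u := by rw [← ha1def, ← h]
    rw [this]; group
  have h12 : a1 ≠ a2 := by
    intro h
    apply h01
    apply hconj_inj
    rw [← ha1def, ← ha2def]; exact h
  have h20 : a2 ≠ a0 := by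
    intro h
    apply h01
    rw [← ha3, h, ← ha1def]
  have ha0ne : a0 ≠ 1 := by
    intro h
    apply ha0
    rw [h, one_mul, mul_one]
  have ha1ne : a1 ≠ 1 := by
    intro h
    apply ha0ne
    apply hconj_inj
    rw [← ha1def, h]; group
  have ha2ne : a2 ≠ 1 := by
    intro h
    apply ha1ne
    apply hconj_inj
    rw [← ha2def, h]; group
  have ha1V : a1 ∈ (V : Subgroup G) := by rw [ha1def]; exact hnorm a0 ha0V'
  have ha2V : a2 ∈ (V : Subgroup G) := by rw [ha2def]; exact hnorm a1 ha1V
  have hS : ({1, a0, a1, a2} : Set G) = ((V : Subgroup G) : Set G) := by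
    apply Set.eq_of_subset_of_ncard_le
    · intro x hx
      simp only [Set.mem_insert_iff, Set.mem_singleton_iff] at hx
      rcases hx with rfl | rfl | rfl | rfl
      · exact Subgroup.one_mem _
      · exact ha0V'
      · exact ha1V
      · exact ha2V
    · have hVn : (((V : Subgroup G) : Set G)).ncard = 4 := by
        rw [← hV]; rfl
      rw [hVn, Set.ncard_insert_of_notMem (by
          simp only [Set.mem_insert_iff, Set.mem_singleton_iff, not_or]
          exact ⟨ha0ne.symm, ha1ne.symm, ha2ne.symm⟩),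
        Set.ncard_insert_of_notMem (by
          simp only [Set.mem_insert_iff, Set.mem_singleton_iff, not_or]
          exact ⟨h01, h20.symm⟩), Set.ncard_pair h12]
    · exact Set.toFinite _
  have c01 : IsConj a0 a1 := isConj_iff.2 ⟨u, ha1def.symm⟩
  have c12 : IsConj a1 a2 := isConj_iff.2 ⟨u, ha2def.symm⟩
  have hc : ∀ x, x ∈ (V : Subgroup G) → x ≠ 1 → IsConj a0 x := by
    intro x hx hx1
    have hx' : x ∈ ({1, a0, a1, a2} : Set G) := by rw [hS]; exact hx
    simp only [Set.mem_insert_iff, Set.mem_singleton_iff] at hx'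
    rcases hx' with rfl | rfl | rfl | rfl
    · exact absurd rfl hx1
    · exact IsConj.refl _
    · exact c01
    · exact c01.trans c12
  exact (hc a ha ha1).symm.trans (hc b hb hb1)

/-- all involutions are conjugate -/
theorem isConj_of_orderOf_two {t t' : G} (ht : orderOf t = 2) (ht' : orderOf t' = 2) :
    IsConj t t' := by
  haveI := hyp.fin
  haveI : Fact (Nat.Prime 2) := ⟨Nat.prime_two⟩
  have hp : ∀ s : G, orderOf s = 2 → ∃ V : Sylow 2 G, s ∈ (V : Subgroup G) := by
    intro s hs
    have : IsPGroup 2 (Subgroup.zpowers s) :=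
      IsPGroup.of_card (n := 1) (by rw [Nat.card_zpowers, hs]; norm_num)
    obtain ⟨V, hV⟩ := this.exists_le_sylow
    exact ⟨V, hV (Subgroup.mem_zpowers s)⟩
  obtain ⟨V, hV⟩ := hp t ht
  obtain ⟨V', hV'⟩ := hp t' ht'
  obtain ⟨g, hg⟩ := MulAction.exists_smul_eq G V' V
  have ht'' : g * t' * g⁻¹ ∈ (V : Subgroup G) := by
    rw [← hg, Sylow.coe_subgroup_smul, Subgroup.mem_smul_pointwise_iff_exists]
    exact ⟨t', hV', rfl⟩
  have h1 : t ≠ 1 := by
    intro h
    rw [h, orderOf_one] at ht
    omega
  have h2 : g * t' * g⁻¹ ≠ 1 := by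
    intro h
    have : t' = 1 := by
      have h3 : t' = g⁻¹ * (g * t' * g⁻¹) * g := by group
      rw [h3, h]; group
    rw [this, orderOf_one] at ht'
    omega
  have c1 := hyp.isConj_of_mem_sylow_two V hV ht'' h1 h2
  have c2 : IsConj t' (g * t' * g⁻¹) := isConj_iff.2 ⟨g, rfl⟩
  exact c1.trans c2.symm

/-- some involution commutes with an element of order three -/
theorem exists_commute_two_three :
    ∃ t x : G, orderOf t = 2 ∧ orderOf x = 3 ∧ Commute t x := by
  haveI := hyp.fin
  haveI : Fact (Nat.Prime 3) := ⟨by norm_num⟩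
  haveI : Fact (Nat.Prime 2) := ⟨by norm_num⟩
  obtain ⟨x0, hx0⟩ := exists_prime_orderOf_dvd_card' (G := G) 3 (by rw [hyp.card]; norm_num)
  have hQ : Nat.card (Subgroup.zpowers x0) = 3 := by rw [Nat.card_zpowers, hx0]
  have hN := hyp.card_normalizer_three hQ
  haveI : IsCyclic (Subgroup.zpowers x0) := isCyclic_of_prime_card hQ
  obtain ⟨k, hk, hck⟩ := card_normalizer_eq (Subgroup.zpowers x0)
  rw [hQ, Nat.totient_prime (by norm_num)] at hk
  have hk' : k = 1 ∨ k = 2 := (Nat.dvd_prime Nat.prime_two).1 hk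
  rw [hN] at hck
  have h2 : 2 ∣ Nat.card (Subgroup.centralizer ((Subgroup.zpowers x0 : Subgroup G) : Set G)) := by
    rcases hk' with rfl | rfl <;> omega
  obtain ⟨t, y, ht, hy, hc, -⟩ := hyp.exists_commute_of_dvd_centralizer hQ h2
  exact ⟨t, y, ht, hy, hc⟩

/-- order 2 -/
theorem card_normalizer_two {H : Subgroup G} (hH : Nat.card H = 2) :
    Nat.card (Subgroup.normalizer (H : Set G)) = 12 := by
  haveI := hyp.fin
  haveI : Fact (Nat.Prime 2) := ⟨by norm_num⟩
  have hnn : ¬ H.Normal := hyp.not_normal_of_card (by omega) (by omega)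
  obtain ⟨t, htH, ht2⟩ : ∃ t : G, t ∈ H ∧ orderOf t = 2 := by
    obtain ⟨t, ht⟩ := exists_prime_orderOf_dvd_card' (G := H) 2 (by rw [hH])
    exact ⟨(t : G), t.2, by rw [Subgroup.orderOf_coe]; exact ht⟩
  have hHp : IsPGroup 2 H := IsPGroup.of_card (n := 1) (by rw [hH]; norm_num)
  obtain ⟨V, hHV⟩ := hHp.exists_le_sylow
  have hV := hyp.card_sylow_two V
  have hcomm : IsMulCommutative (V : Subgroup G) :=
    IsPGroup.isMulCommutative_of_card_eq_prime_sq (p := 2) (by rw [hV]; norm_num)
  have hVN : (V : Subgroup G) ≤ Subgroup.normalizer (H : Set G) := by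
    intro v hv
    apply Subgroup.centralizer_le_normalizer
    rw [Subgroup.mem_centralizer_iff]
    intro h hh
    have := mul_comm' (⟨h, hHV hh⟩ : (V : Subgroup G)) ⟨v, hv⟩
    exact congrArg Subtype.val this
  have h4 : 4 ∣ Nat.card (Subgroup.normalizer (H : Set G)) := by
    rw [← hV]; exact Subgroup.card_dvd_of_le hVN
  obtain ⟨t0, x0, ht0, hx0, hc0⟩ := hyp.exists_commute_two_three
  obtain ⟨c, hc⟩ := isConj_iff.1 (hyp.isConj_of_orderOf_two ht0 ht2)
  obtain ⟨x, hx⟩ : ∃ x, x = c * x0 * c⁻¹ := ⟨_, rfl⟩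
  have hx3 : orderOf x = 3 := by
    have := (MulAut.conj c).orderOf_eq x0
    rw [MulAut.conj_apply] at this
    rw [hx, this, hx0]
  have hcomm' : Commute t x := by
    rw [← hc, hx]
    have := hc0.map (MulAut.conj c).toMonoidHom
    simpa using this
  have hHz : H ≤ Subgroup.zpowers t := by
    have : Subgroup.zpowers t = H := by
      apply Subgroup.eq_of_le_of_card_ge
      · rw [Subgroup.zpowers_le]; exact htH
      · rw [Nat.card_zpowers, ht2, hH]
    rw [this]
  have hxN : x ∈ Subgroup.normalizer (H : Set G) := by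
    apply Subgroup.centralizer_le_normalizer
    rw [Subgroup.mem_centralizer_iff]
    intro h hh
    obtain ⟨k, rfl⟩ := Subgroup.mem_zpowers_iff.1 (hHz hh)
    exact (hcomm'.zpow_left k).eq
  have h3 : 3 ∣ Nat.card (Subgroup.normalizer (H : Set G)) := by
    rw [← hx3]; exact Subgroup.orderOf_dvd_natCard _ hxN
  have hne := hyp.card_normalizer_ne hnn
  have hl := hyp.list (Subgroup.normalizer (H : Set G))
  unfold InList at hl
  rcases hl with hl | hl | hl | hl | hl | hl | hl | hl | hl | hl | hl | hl | hl <;>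
  rw [hl] at h3 h4 hne ⊢ <;> omega

omit hyp in
/-- the normalizer of a subgroup of small order normalizes its subgroup of prime order -/
theorem normalizer_le_normalizer_of_card_prime [Finite G] {p : ℕ} (hp : p.Prime)
    {P K : Subgroup G} (hPK : P ≤ K) (hcP : Nat.card P = p) (hK : Nat.card K < p * p) :
    Subgroup.normalizer (K : Set G) ≤ Subgroup.normalizer (P : Set G) := by
  intro n hn
  apply mem_normalizer_of_conj_mem
  intro x hx
  have hP'K : P.map (MulAut.conj n).toMonoidHom ≤ K := by
    rintro _ ⟨y, hy, rfl⟩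
    exact (Subgroup.mem_normalizer_iff.1 hn y).1 (hPK hy)
  have hcP' : Nat.card (P.map (MulAut.conj n).toMonoidHom) = p := by
    rw [Subgroup.card_map_of_injective (MulAut.conj n).injective, hcP]
  have := eq_of_card_prime hp hPK hP'K hcP hcP' hK
  rw [this]
  exact ⟨x, hx, rfl⟩

/-- order 6 -/
theorem card_normalizer_six {H : Subgroup G} (hH : Nat.card H = 6) :
    Nat.card (Subgroup.normalizer (H : Set G)) = 12 := by
  haveI := hyp.fin
  haveI : Fact (Nat.Prime 3) := ⟨by norm_num⟩
  obtain ⟨g, hgH, hg3⟩ : ∃ g : G, g ∈ H ∧ orderOf g = 3 := by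
    obtain ⟨g, hg⟩ := exists_prime_orderOf_dvd_card' (G := H) 3 (by rw [hH]; norm_num)
    exact ⟨(g : G), g.2, by rw [Subgroup.orderOf_coe]; exact hg⟩
  have hQ : Nat.card (Subgroup.zpowers g) = 3 := by rw [Nat.card_zpowers, hg3]
  have hQH : Subgroup.zpowers g ≤ H := by rw [Subgroup.zpowers_le]; exact hgH
  have hNQ := hyp.card_normalizer_three hQ
  have h1 : Subgroup.normalizer (H : Set G) ≤
      Subgroup.normalizer ((Subgroup.zpowers g : Subgroup G) : Set G) :=
    normalizer_le_normalizer_of_card_prime (p := 3) (by norm_num) hQH hQ (by rw [hH]; norm_num)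
  have h2 : H ≤ Subgroup.normalizer ((Subgroup.zpowers g : Subgroup G) : Set G) :=
    Subgroup.le_normalizer.trans h1
  have hrel : (H.subgroupOf
      (Subgroup.normalizer ((Subgroup.zpowers g : Subgroup G) : Set G))).index = 2 := by
    have := Subgroup.card_mul_index (H.subgroupOf
      (Subgroup.normalizer ((Subgroup.zpowers g : Subgroup G) : Set G)))
    rw [Nat.card_congr (Subgroup.subgroupOfEquivOfLe h2).toEquiv, hH, hNQ] at this
    omega
  have hnorm := Subgroup.normal_of_index_eq_two hrel
  have h3 := (Subgroup.normal_subgroupOf_iff_le_normalizer h2).1 hnorm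
  rw [le_antisymm h1 h3, hNQ]

/-- orders 26 and 39 -/
theorem card_normalizer_thirteen_dvd {H : Subgroup G}
    (hH : Nat.card H = 26 ∨ Nat.card H = 39) :
    Nat.card (Subgroup.normalizer (H : Set G)) = 78 := by
  haveI := hyp.fin
  haveI : Fact (Nat.Prime 13) := ⟨by norm_num⟩
  haveI : Fact (Nat.Prime 2) := ⟨by norm_num⟩
  haveI : Fact (Nat.Prime 3) := ⟨by norm_num⟩
  obtain ⟨g, hgH, hg13⟩ : ∃ g : G, g ∈ H ∧ orderOf g = 13 := by
    obtain ⟨g, hg⟩ := exists_prime_orderOf_dvd_card' (G := H) 13
      (by rcases hH with h | h <;> rw [h] <;> norm_num)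
    exact ⟨(g : G), g.2, by rw [Subgroup.orderOf_coe]; exact hg⟩
  have hP : Nat.card (Subgroup.zpowers g) = 13 := by rw [Nat.card_zpowers, hg13]
  have hPH : Subgroup.zpowers g ≤ H := by rw [Subgroup.zpowers_le]; exact hgH
  have hNP := hyp.card_normalizer_thirteen hP
  have h1 : Subgroup.normalizer (H : Set G) ≤
      Subgroup.normalizer ((Subgroup.zpowers g : Subgroup G) : Set G) :=
    normalizer_le_normalizer_of_card_prime (p := 13) (by norm_num) hPH hP
      (by rcases hH with h | h <;> rw [h] <;> norm_num)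
  have h2 : H ≤ Subgroup.normalizer ((Subgroup.zpowers g : Subgroup G) : Set G) :=
    Subgroup.le_normalizer.trans h1
  have hPC := hyp.le_centralizer_of_card_prime hP
  have hCcard : Nat.card (Subgroup.centralizer ((Subgroup.zpowers g : Subgroup G) : Set G))
      = 13 := by
    have hl := hyp.list (Subgroup.centralizer ((Subgroup.zpowers g : Subgroup G) : Set G))
    have h13 : 13 ∣ Nat.card (Subgroup.centralizer ((Subgroup.zpowers g : Subgroup G) : Set G)) := by
      rw [← hP]; exact Subgroup.card_dvd_of_le hPC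
    have hn2 := hyp.not_dvd_card_centralizer (q := 2) hP (by norm_num) (Or.inl (by norm_num))
    have hn3 := hyp.not_dvd_card_centralizer (q := 3) hP (by norm_num) (Or.inr (by norm_num))
    unfold InList at hl
    rcases hl with hl | hl | hl | hl | hl | hl | hl | hl | hl | hl | hl | hl | hl <;>
    rw [hl] at h13 hn2 hn3 ⊢ <;> omega
  have hCP : Subgroup.centralizer ((Subgroup.zpowers g : Subgroup G) : Set G) =
      Subgroup.zpowers g :=
    (Subgroup.eq_of_le_of_card_ge hPC (by rw [hCcard, hP])).symm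
  have h3 : Subgroup.normalizer ((Subgroup.zpowers g : Subgroup G) : Set G) ≤
      Subgroup.normalizer (H : Set G) := by
    intro n hn
    apply mem_normalizer_of_conj_mem
    intro x hx
    haveI : IsCyclic (Subgroup.zpowers g) := isCyclic_of_prime_card hP
    have hc := commutator_mem_centralizer (Subgroup.zpowers g) hn (h2 hx)
    rw [hCP] at hc
    have : n * x * n⁻¹ = (n * x * n⁻¹ * x⁻¹) * x := by group
    rw [this]
    exact H.mul_mem (hPH hc) hx
  rw [le_antisymm h1 h3, hNP]

theorem normalizer_eq_self {H : Subgroup G} (hH : ¬ H.Normal)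
    (h : Nat.card H = 12 ∨ Nat.card H = 14 ∨ Nat.card H = 78) :
    Subgroup.normalizer (H : Set G) = H := by
  have hc := hyp.isCoatom_of_card h
  by_contra hne
  have := hc.2 _ (lt_of_le_of_ne Subgroup.le_normalizer (Ne.symm hne))
  exact hH (Subgroup.normalizer_eq_top_iff.1 this)

/-- the main theorem -/
theorem nm : NM G := by
  intro H hH
  haveI := hyp.fin
  obtain ⟨h1, h1092⟩ := hyp.card_ne_of_not_normal hH
  have hl := hyp.list H
  unfold InList at hl
  have key : Nat.card (Subgroup.normalizer (H : Set G)) = 12 ∨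
      Nat.card (Subgroup.normalizer (H : Set G)) = 14 ∨
      Nat.card (Subgroup.normalizer (H : Set G)) = 78 := by
    rcases hl with h | h | h | h | h | h | h | h | h | h | h | h | h
    · exact absurd h h1
    · exact Or.inl (hyp.card_normalizer_two h)
    · exact Or.inl (hyp.card_normalizer_three h)
    · exact Or.inl (hyp.card_normalizer_four h)
    · exact Or.inl (hyp.card_normalizer_six h)
    · exact Or.inr (Or.inl (hyp.card_normalizer_seven h))
    · rw [hyp.normalizer_eq_self hH (Or.inl h)]; exact Or.inl h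
    · exact Or.inr (Or.inr (hyp.card_normalizer_thirteen h))
    · rw [hyp.normalizer_eq_self hH (Or.inr (Or.inl h))]; exact Or.inr (Or.inl h)
    · exact Or.inr (Or.inr (hyp.card_normalizer_thirteen_dvd (Or.inl h)))
    · exact Or.inr (Or.inr (hyp.card_normalizer_thirteen_dvd (Or.inr h)))
    · rw [hyp.normalizer_eq_self hH (Or.inr (Or.inr h))]; exact Or.inr (Or.inr h)
    · exact absurd h h1092
  exact hyp.isCoatom_of_card key

end Hyp

end Cfsg.Agent.Helper4.NM1092
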