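import Mathlib
import Cfsg.Agent.Helper4.NM1092
import Cfsg.Agent.Helper18.PSL27b
import Cfsg.Agent.Helper13.PSL2Spec
import Cfsg.Agent.Helper12.SL2OrderFour
import Cfsg.Agent.Helper2.SLCard
import Cfsg.Agent.S0799
import Cfsg.Agent.S0265

/-!
# `PSL(2,13)` and `SL(2,13)`: normalizers of non-normal subgroups are maximal
-/

set_option autoImplicit false

namespace Cfsg.Agent.Helper4.NMPSL13

open Cfsg.Agent.Helper4.NM Cfsg.Agent.Helper4.NMTools Cfsg.Agent.Helper4.NM1092

theorem card_psl2_of_card_eq {K : Type*} [Field K] [Fintype K] (hK : Fintype.card K = 13) :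
    Nat.card (Matrix.ProjectiveSpecialLinearGroup (Fin 2) K) = 1092 := by
  have h := Cfsg.Agent.Helper18.PSL27.card_psl2 (F := K) 13 hK (by norm_num)
  norm_num at h
  omega

theorem card_sl2_of_card_eq {K : Type*} [Field K] [Fintype K] (hK : Fintype.card K = 13) :
    Nat.card (Matrix.SpecialLinearGroup (Fin 2) K) = 2184 := by
  have h1 := Cfsg.Agent.Helper2.card_SL_mul_card_units (ι := Fin 2) (F := K)
  have h2 := Matrix.card_GL_field (𝔽 := K) 2
  have h3 := Cfsg.Agent.Helper2.card_units_field (F := K)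
  rw [hK] at h2 h3
  rw [Fin.prod_univ_two] at h2
  simp only [Fin.val_zero, Fin.val_one, pow_zero, pow_one] at h2
  rw [h3, h2] at h1
  norm_num at h1
  omega

local notation "L13" => Matrix.ProjectiveSpecialLinearGroup (Fin 2) (ZMod 13)

theorem prime13 : Nat.Prime 13 := by norm_num

theorem fact13 : Fact (Nat.Prime 13) := ⟨prime13⟩

attribute [local instance] fact13

theorem simple_L13 : IsSimpleGroup L13 := by
  haveI : Fact (Nat.Prime 13) := ⟨prime13⟩
  have h : 4 ≤ Nat.card (ZMod 13) := by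
    rw [Nat.card_zmod]; norm_num
  exact Matrix.ProjectiveSpecialLinearGroup.rank_two_simple h

theorem card_L13 : Nat.card L13 = 1092 := by
  haveI : Fact (Nat.Prime 13) := ⟨prime13⟩
  exact card_psl2_of_card_eq (ZMod.card 13)

theorem finite_L13 : Finite L13 := Nat.finite_of_card_ne_zero (by rw [card_L13]; norm_num)

theorem params13 : Cfsg.Agent.Helper13.PSL2Spec.Params (ZMod 13) 13 2 6 7 := by
  refine ⟨prime13, ZMod.charP 13, Or.inr rfl, ?_, ?_, ?_⟩
  · rw [ZMod.card]
  · rw [ZMod.card]
  · intro c hc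
    rw [pow_two]; exact hc

theorem ord_L13 (g : L13) : orderOf g ≠ 26 ∧ orderOf g ≠ 39 := by
  have h := Cfsg.Agent.Helper13.PSL2Spec.range_orderOf_PSL2 params13
  have hg : orderOf g ∈ Set.range (orderOf : L13 → ℕ) := ⟨g, rfl⟩
  rw [h] at hg
  simp only [Set.mem_setOf_eq] at hg
  constructor
  · intro h26
    rw [h26] at hg
    norm_num at hg
  · intro h39
    rw [h39] at hg
    norm_num at hg

/-- the normalizer of a Sylow 13-subgroup has order 78 -/
theorem card_normalizer_sylow13 (P : Sylow 13 L13) :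
    Nat.card (Subgroup.normalizer ((P : Subgroup L13) : Set L13)) = 78 := by
  haveI := finite_L13
  haveI := simple_L13
  have hP : Nat.card (P : Subgroup L13) = 13 := by
    obtain ⟨n, hn⟩ := (IsPGroup.iff_card (p := 13)).mp P.isPGroup'
    have h13 : 13 ^ 1 ∣ Nat.card (P : Subgroup L13) :=
      P.pow_dvd_card_of_pow_dvd_card (by rw [card_L13]; norm_num)
    have hdvd : Nat.card (P : Subgroup L13) ∣ 1092 := by
      rw [← card_L13]; exact Subgroup.card_subgroup_dvd_card _
    rw [hn] at h13 hdvd ⊢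
    have hn2 : n ≤ 1 := by
      by_contra hcon
      push_neg at hcon
      have : 13 ^ 2 ∣ 1092 := (pow_dvd_pow 13 hcon).trans hdvd
      norm_num at this
    interval_cases n
    · norm_num at h13
    · norm_num
  have hmod := index_normalizer_modEq (p := 13) (k := 1) prime13 (P : Subgroup L13)
    (by rw [hP]; norm_num) (by rw [card_L13]; norm_num)
  have hmul := Subgroup.card_mul_index (Subgroup.normalizer ((P : Subgroup L13) : Set L13))
  rw [card_L13] at hmul
  have hdvd : 13 ∣ Nat.card (Subgroup.normalizer ((P : Subgroup L13) : Set L13)) := by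
    have := Subgroup.card_dvd_of_le
      (Subgroup.le_normalizer (H := (P : Subgroup L13)))
    rwa [hP] at this
  have hne : Nat.card (Subgroup.normalizer ((P : Subgroup L13) : Set L13)) ≠ 1092 := by
    intro h
    have htop : Subgroup.normalizer ((P : Subgroup L13) : Set L13) = ⊤ := by
      rw [← Subgroup.card_eq_iff_eq_top, h, card_L13]
    have hN : (P : Subgroup L13).Normal := Subgroup.normalizer_eq_top_iff.1 htop
    rcases IsSimpleGroup.eq_bot_or_eq_top_of_normal _ hN with h' | h'
    · rw [h', Subgroup.card_bot] at hP; omega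
    · rw [h', Subgroup.card_top, card_L13] at hP; omega
  obtain ⟨j, hj⟩ := hdvd
  obtain ⟨i, hi⟩ : ∃ i, i = (Subgroup.normalizer ((P : Subgroup L13) : Set L13)).index := ⟨_, rfl⟩
  rw [← hi] at hmod hmul
  rw [hj] at hmul hne ⊢
  have h84 : j * i = 84 := by
    have : 13 * (j * i) = 13 * 84 := by rw [← mul_assoc, hmul]
    exact Nat.eq_of_mul_eq_mul_left (by norm_num) this
  have hi84 : i ≤ 84 := Nat.le_of_dvd (by norm_num) (Dvd.intro_left j h84)
  interval_cases i <;> omega

/-- the orders of the subgroups of `PSL(2,13)` -/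
theorem list_L13 (H : Subgroup L13) : InList (Nat.card H) := by
  haveI := finite_L13
  have hdvdG : Nat.card H ∣ 1092 := by
    rw [← card_L13]; exact Subgroup.card_subgroup_dvd_card H
  have hD := Cfsg.Agent.S0799.result (F := ZMod 13) (q := 13) (ZMod.card 13) 13 H
  have e1 : (13 + 1) / Nat.gcd 2 (13 - 1) = 7 := by norm_num
  have e2 : (13 - 1) / Nat.gcd 2 (13 - 1) = 6 := by norm_num
  rw [e1, e2] at hD
  unfold InList
  rcases hD with ⟨k, hk, hH⟩ | ⟨P, K, hK, ⟨e⟩⟩ | ⟨⟨e⟩⟩ | ⟨⟨e⟩⟩ | ⟨⟨e⟩⟩ | ⟨K, iF, iT, m, hm, hH⟩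
  · have hk' : k = 1 ∨ k = 7 ∨ k = 2 ∨ k = 3 ∨ k = 6 := by
      rcases hk with hk | hk
      · have hle : k ≤ 7 := Nat.le_of_dvd (by norm_num) hk
        interval_cases k <;> omega
      · have hle : k ≤ 6 := Nat.le_of_dvd (by norm_num) hk
        interval_cases k <;> omega
    rcases hH with ⟨-, hc⟩ | ⟨⟨e⟩⟩
    · rw [hc]; omega
    · rw [Nat.card_congr e.toEquiv, DihedralGroup.nat_card]; omega
  · have h78 := card_normalizer_sylow13 P
    have hdvd : Nat.card H ∣ 78 := by
      rw [Nat.card_congr e.toEquiv, ← h78]; exact Subgroup.card_dvd_of_le hK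
    have hle : Nat.card H ≤ 78 := Nat.le_of_dvd (by norm_num) hdvd
    obtain ⟨c, hc⟩ : ∃ c, c = Nat.card H := ⟨_, rfl⟩
    rw [← hc] at hdvd hle ⊢
    interval_cases c <;> omega
  · have : Nat.card H = 12 := by
      rw [Nat.card_congr e.toEquiv, nat_card_alternatingGroup, Nat.card_eq_fintype_card,
        Fintype.card_fin]
      rfl
    rw [this]; omega
  · exfalso
    have : Nat.card H = 24 := by
      rw [Nat.card_congr e.toEquiv, Nat.card_perm, Nat.card_eq_fintype_card, Fintype.card_fin]
      rfl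
    rw [this] at hdvdG
    omega
  · exfalso
    have : Nat.card H = 60 := by
      rw [Nat.card_congr e.toEquiv, nat_card_alternatingGroup, Nat.card_eq_fintype_card,
        Fintype.card_fin]
      rfl
    rw [this] at hdvdG
    omega
  · have hK13 : Fintype.card K = 13 := ((Nat.Prime.pow_eq_iff prime13).1 hm).1
    rcases hH with ⟨⟨e⟩⟩ | ⟨⟨e⟩⟩
    · rw [Nat.card_congr e.toEquiv, card_psl2_of_card_eq hK13]; omega
    · exfalso
      have : Nat.card H = 2184 := by
        rw [Nat.card_congr e.toEquiv, Cfsg.Agent.S0265.result, card_sl2_of_card_eq hK13]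
      rw [this] at hdvdG
      omega

/-- `PSL(2,13)` satisfies the hypotheses of the abstract theorem -/
theorem hyp_L13 : Hyp L13 where
  fin := finite_L13
  card := card_L13
  simple := fun N hN => by
    haveI := simple_L13
    exact IsSimpleGroup.eq_bot_or_eq_top_of_normal N hN
  list := list_L13
  ord := ord_L13

theorem nm_L13 : NM L13 := hyp_L13.nm

local notation "S13" => Matrix.SpecialLinearGroup (Fin 2) (ZMod 13)

theorem two_ne_zero13 : (2 : ZMod 13) ≠ 0 := by decide

theorem neg_one_ne_one13 : (-1 : S13) ≠ 1 := by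
  intro h
  have h1 := congrArg (fun x : S13 => (x : Matrix (Fin 2) (Fin 2) (ZMod 13)) 0 0) h
  simp only [Cfsg.Agent.Helper12.sl2_neg_one_coe, Matrix.SpecialLinearGroup.coe_one,
    Matrix.neg_apply, Matrix.one_apply_eq] at h1
  revert h1
  decide

theorem finite_S13 : Finite S13 :=
  Nat.finite_of_card_ne_zero (by rw [card_sl2_of_card_eq (ZMod.card 13)]; norm_num)

theorem nm_S13 : NM S13 := by
  haveI := finite_S13
  have hz2 : (-1 : S13) * (-1) = 1 := by rw [neg_mul_neg, one_mul]
  refine nm_of_cover (QuotientGroup.mk' (Subgroup.center S13)) (QuotientGroup.mk'_surjective _)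
    (-1) neg_one_ne_one13 hz2 ?_ ?_ nm_L13
  · rw [QuotientGroup.ker_mk']
    apply le_antisymm
    · intro x hx
      rcases Cfsg.Agent.Helper12.sl2_center_eq x hx with rfl | rfl
      · exact Subgroup.one_mem _
      · exact Subgroup.mem_zpowers _
    · rw [Subgroup.zpowers_le]
      exact Cfsg.Agent.Helper12.sl2_neg_one_mem_center
  · intro x hx
    exact Cfsg.Agent.Helper12.sl2_eq_of_sq_eq_one two_ne_zero13 x hx

/-- the final statement -/
theorem main {K S : Type*} [Group K] [CommGroup S] [Finite K] [Finite S]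
    (hK : Nonempty (K ≃* Matrix.ProjectiveSpecialLinearGroup (Fin 2) (ZMod 13)) ∨
      Nonempty (K ≃* Matrix.SpecialLinearGroup (Fin 2) (ZMod 13)))
    (hKS : (Nat.card K).Coprime (Nat.card S)) : NM (K × S) := by
  apply nm_prod hKS
  rcases hK with ⟨⟨e⟩⟩ | ⟨⟨e⟩⟩
  · exact nm_of_equiv e.symm nm_L13
  · exact nm_of_equiv e.symm nm_S13

end Cfsg.Agent.Helper4.NMPSL13
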