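import Mathlib
import Cfsg.Agent.Helper16.NearField

/-!
# Regular linear groups in dimension two

For a linear group `H` over the prime field that is regular on the nonzero vectors of a
two-dimensional space `V`: a non-abelian subgroup `N` is irreducible, and everything centralising
`N` is a scalar.  Hence (S0687) `C_H(N) = A` for a maximal normal abelian `A` centralised by a
normal non-abelian `N`.
-/

set_option autoImplicit false

namespace Cfsg.Agent.Helper4.NearDimTwo

open Cfsg.Agent.Helper16.NearField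

/-- a space over `ZMod p` with `q²` elements, `q` prime, has dimension two -/
theorem finrank_eq_two_of_card {p : ℕ} [hp : Fact p.Prime] {V : Type*} [AddCommGroup V]
    [Module (ZMod p) V] [Finite V] {q : ℕ} (hq : q.Prime) (hV : Nat.card V = q ^ 2) :
    Module.finrank (ZMod p) V = 2 := by
  have h1 : Nat.card V = p ^ Module.finrank (ZMod p) V := by
    rw [Module.natCard_eq_pow_finrank (K := ZMod p) (V := V), Nat.card_zmod]
  rw [hV] at h1
  have hn : Module.finrank (ZMod p) V ≠ 0 := by
    intro h0
    rw [h0, pow_zero] at h1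
    have := hq.two_le
    nlinarith
  have hpq : p ∣ q ^ 2 := by
    rw [h1]
    exact dvd_pow_self p hn
  have hpq' : p = q := (Nat.prime_dvd_prime_iff_eq hp.out hq).mp (hp.out.dvd_of_dvd_pow hpq)
  generalize Module.finrank (ZMod p) V = n at h1 hn ⊢
  subst hpq'
  exact (Nat.pow_right_injective hq.two_le h1).symm

variable {p : ℕ} [hp : Fact p.Prime] {V : Type*} [AddCommGroup V] [Module (ZMod p) V] [Finite V]
  (H : Subgroup (V ≃ₗ[ZMod p] V))
  (hreg : ∀ v w : V, v ≠ 0 → w ≠ 0 → ∃! h : H, (h : V ≃ₗ[ZMod p] V) v = w)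

include hreg

/-- two elements of `H` agreeing on a nonzero vector are equal -/
theorem eq_of_apply_eq {h h' : H} {v : V} (hv : v ≠ 0)
    (hh : (h : V ≃ₗ[ZMod p] V) v = (h' : V ≃ₗ[ZMod p] V) v) : h = h' := by
  have hw : (h' : V ≃ₗ[ZMod p] V) v ≠ 0 := by
    intro h0
    exact hv ((h' : V ≃ₗ[ZMod p] V).map_eq_zero_iff.mp h0)
  obtain ⟨h₀, -, huniq⟩ := hreg v _ hv hw
  rw [huniq h hh, huniq h' rfl]

/-- a subgroup with an invariant line is abelian -/
theorem comm_of_invariant_line (N : Subgroup H) {w : V} (hw : w ≠ 0)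
    (hline : ∀ n ∈ N, ∃ c : ZMod p, ((n : H) : V ≃ₗ[ZMod p] V) w = c • w) :
    ∀ a b : N, a * b = b * a := by
  intro a b
  obtain ⟨c, hc⟩ := hline a a.2
  obtain ⟨c', hc'⟩ := hline b b.2
  apply Subtype.ext
  apply eq_of_apply_eq H hreg hw
  simp only [Subgroup.coe_mul, LinearEquiv.mul_apply]
  rw [hc', hc, map_smul, map_smul, hc, hc', smul_comm]

/-- in dimension two a non-abelian subgroup is irreducible -/
theorem irreducible_of_not_comm (hdim : Module.finrank (ZMod p) V = 2) (N : Subgroup H)
    (hNna : ¬ IsMulCommutative N) (W : Submodule (ZMod p) V)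
    (hW : ∀ n ∈ N, ∀ v ∈ W, ((n : H) : V ≃ₗ[ZMod p] V) v ∈ W) : W = ⊥ ∨ W = ⊤ := by
  by_contra hcon
  push Not at hcon
  obtain ⟨h0, h1⟩ := hcon
  have hfd : FiniteDimensional (ZMod p) V := inferInstance
  have hr1 : 1 ≤ Module.finrank (ZMod p) W := Submodule.one_le_finrank_iff.mpr h0
  have hr2 : Module.finrank (ZMod p) W < Module.finrank (ZMod p) V := Submodule.finrank_lt h1
  have hr : Module.finrank (ZMod p) W = 1 := by omega
  obtain ⟨w, hw0, hw⟩ := finrank_eq_one_iff'.mp hr
  have hw0' : (w : V) ≠ 0 := fun h => hw0 (Subtype.ext h)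
  apply hNna
  refine ⟨⟨?_⟩⟩
  apply comm_of_invariant_line H hreg N hw0'
  intro n hn
  obtain ⟨c, hc⟩ := hw ⟨_, hW n hn w w.2⟩
  exact ⟨c, (congrArg Subtype.val hc).symm⟩

/-- in dimension two, everything centralising a non-abelian subgroup is a scalar -/
theorem scalar_of_centralizes (hdim : Module.finrank (ZMod p) V = 2) (N : Subgroup H)
    (hNna : ¬ IsMulCommutative N) {c : H} (hc : c ∈ Subgroup.centralizer (N : Set H)) :
    ∃ l : ZMod p, ∀ v : V, (c : V ≃ₗ[ZMod p] V) v = l • v := by
  have hfd : FiniteDimensional (ZMod p) V := inferInstance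
  have hnt : Nontrivial V := by
    apply Module.nontrivial_of_finrank_pos (R := ZMod p)
    omega
  obtain ⟨v₀, hv₀⟩ := exists_ne (0 : V)
  set C : V →ₗ[ZMod p] V := ((c : V ≃ₗ[ZMod p] V) : V →ₗ[ZMod p] V) with hC
  have hcomm : ∀ n ∈ N, ∀ v : V, ((n : H) : V ≃ₗ[ZMod p] V) (C v) =
      C (((n : H) : V ≃ₗ[ZMod p] V) v) := by
    intro n hn v
    have h1 := hc n hn
    have h2 := congrArg (fun h : H => (h : V ≃ₗ[ZMod p] V) v) h1
    simpa [hC, LinearEquiv.mul_apply] using h2
  by_cases hev : ∃ l : ZMod p, C v₀ = l • v₀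
  · obtain ⟨l, hl⟩ := hev
    refine ⟨l, ?_⟩
    have hker := irreducible_of_not_comm H hreg hdim N hNna (LinearMap.ker (C - l • LinearMap.id))
      (by
        intro n hn v hv
        rw [LinearMap.mem_ker] at hv ⊢
        simp only [LinearMap.sub_apply, LinearMap.smul_apply, LinearMap.id_apply] at hv ⊢
        rw [← hcomm n hn, ← map_smul, ← map_sub, hv, map_zero])
    rcases hker with hk | hk
    · exfalso
      have : v₀ ∈ LinearMap.ker (C - l • LinearMap.id) := by
        rw [LinearMap.mem_ker]
        simp [hl]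
      rw [hk, Submodule.mem_bot] at this
      exact hv₀ this
    · intro v
      have : v ∈ LinearMap.ker (C - l • LinearMap.id) := by rw [hk]; trivial
      rw [LinearMap.mem_ker] at this
      simp only [LinearMap.sub_apply, LinearMap.smul_apply, LinearMap.id_apply] at this
      exact sub_eq_zero.mp this
  · exfalso
    push Not at hev
    have hli : LinearIndependent (ZMod p) ![v₀, C v₀] := by
      rw [LinearIndependent.pair_iff]
      intro s t hst
      have ht : t = 0 := by
        by_contra ht
        apply hev (-(t⁻¹ * s))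
        have h1 : t • C v₀ = -(s • v₀) := by
          rw [eq_neg_iff_add_eq_zero, add_comm]; exact hst
        have h2 : C v₀ = t⁻¹ • (t • C v₀) := by
          rw [smul_smul, inv_mul_cancel₀ ht, one_smul]
        rw [h2, h1, smul_neg, smul_smul, neg_smul]
      refine ⟨?_, ht⟩
      rw [ht, zero_smul, add_zero] at hst
      exact (smul_eq_zero.mp hst).resolve_right hv₀
    have hspan : Submodule.span (ZMod p) ({v₀, C v₀} : Set V) = ⊤ := by
      have := hli.span_eq_top_of_card_eq_finrank' (by simp [hdim])
      rwa [Matrix.range_cons_cons_empty] at this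
    -- every element of `N` is `α + β C`
    have hform : ∀ n ∈ N, ∃ α β : ZMod p, ∀ v : V,
        ((n : H) : V ≃ₗ[ZMod p] V) v = α • v + β • C v := by
      intro n hn
      have hmem : ((n : H) : V ≃ₗ[ZMod p] V) v₀ ∈ Submodule.span (ZMod p) ({v₀, C v₀} : Set V) := by
        rw [hspan]; trivial
      obtain ⟨α, β, hαβ⟩ := Submodule.mem_span_pair.mp hmem
      refine ⟨α, β, ?_⟩
      set T : V →ₗ[ZMod p] V := α • LinearMap.id + β • C with hT
      have hTC : ∀ v, T (C v) = C (T v) := by
        intro v
        simp only [hT, LinearMap.add_apply, LinearMap.smul_apply, LinearMap.id_apply, map_add,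
          map_smul]
      have heq : (((n : H) : V ≃ₗ[ZMod p] V) : V →ₗ[ZMod p] V) = T := by
        apply LinearMap.ext_on hspan
        intro x hx
        rcases hx with rfl | rfl
        · simp only [LinearEquiv.coe_coe, hT, LinearMap.add_apply, LinearMap.smul_apply,
            LinearMap.id_apply]
          exact hαβ.symm
        · simp only [LinearEquiv.coe_coe]
          rw [hcomm n hn, hTC]
          congr 1
          simp only [hT, LinearMap.add_apply, LinearMap.smul_apply, LinearMap.id_apply]
          exact hαβ.symm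
      intro v
      have := congrArg (fun f : V →ₗ[ZMod p] V => f v) heq
      simpa [hT] using this
    apply hNna
    refine ⟨⟨?_⟩⟩
    intro a b
    obtain ⟨α, β, hab⟩ := hform a a.2
    obtain ⟨α', β', hab'⟩ := hform b b.2
    apply Subtype.ext
    apply eq_of_apply_eq H hreg hv₀
    simp only [Subgroup.coe_mul, LinearEquiv.mul_apply]
    rw [hab', hab, hab, hab']
    simp only [map_add, map_smul, smul_add, smul_smul]
    rw [mul_comm α' α, mul_comm β' β, mul_comm α' β, mul_comm β' α]
    abel

/-- **S0687 in dimension two.** -/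
theorem main_of_finrank_two (hdim : Module.finrank (ZMod p) V = 2)
    (A : Subgroup H) (hAmax : ∀ B : Subgroup H, B.Normal → IsMulCommutative B → A ≤ B → B = A)
    (N : Subgroup H) (hNn : N.Normal) (hNle : N ≤ Subgroup.centralizer (A : Set H))
    (hNna : ¬ IsMulCommutative N) :
    (∀ W : Submodule (ZMod p) V, (∀ n ∈ N, ∀ v ∈ W, ((n : H) : V ≃ₗ[ZMod p] V) v ∈ W) →
      W = ⊥ ∨ W = ⊤) ∧ Subgroup.centralizer (N : Set H) = A := by
  refine ⟨fun W hW => irreducible_of_not_comm H hreg hdim N hNna W hW, ?_⟩
  have hfd : FiniteDimensional (ZMod p) V := inferInstance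
  have hnt : Nontrivial V := by
    apply Module.nontrivial_of_finrank_pos (R := ZMod p)
    omega
  obtain ⟨v₀, hv₀⟩ := exists_ne (0 : V)
  haveI := hNn
  have hCn : (Subgroup.centralizer (N : Set H)).Normal := Subgroup.normal_centralizer
  have hCc : IsMulCommutative (Subgroup.centralizer (N : Set H)) := by
    refine ⟨⟨?_⟩⟩
    intro c c'
    obtain ⟨l, hl⟩ := scalar_of_centralizes H hreg hdim N hNna c.2
    obtain ⟨l', hl'⟩ := scalar_of_centralizes H hreg hdim N hNna c'.2
    apply Subtype.ext
    apply eq_of_apply_eq H hreg hv₀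
    simp only [Subgroup.coe_mul, LinearEquiv.mul_apply]
    rw [hl', hl, hl, hl', smul_comm]
  have hAC : A ≤ Subgroup.centralizer (N : Set H) := by
    intro a ha
    rw [Subgroup.mem_centralizer_iff]
    intro n hn
    exact ((hNle hn) a ha).symm
  exact hAmax _ hCn hCc hAC

end Cfsg.Agent.Helper4.NearDimTwo
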