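import Mathlib
import Cfsg.Agent.Helper4.Equivariant

set_option autoImplicit false
set_option linter.style.haveILetI false
set_option linter.unusedSectionVars false

namespace Cfsg.Agent.Helper4

open MulAction

section
variable {α : Type*} (G : Subgroup (Equiv.Perm α))

theorem mem_centralizer_iff_equivariant (c : Equiv.Perm α) :
    c ∈ Subgroup.centralizer (G : Set (Equiv.Perm α)) ↔ ∀ (g : G) (x : α), c (g • x) = g • c x := by
  rw [Subgroup.mem_centralizer_iff]
  constructor
  · intro h g x
    have := congrArg (fun σ : Equiv.Perm α => σ x) (h g.1 g.2)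
    simp only [Equiv.Perm.coe_mul, Function.comp_apply] at this
    exact this.symm
  · intro h g hg
    ext x
    simp only [Equiv.Perm.coe_mul, Function.comp_apply]
    exact (h ⟨g, hg⟩ x).symm

/-- Elements of the centraliser of a transitive group fixing a point are trivial. -/
theorem centralizer_semiregular [IsPretransitive G α] (c : Equiv.Perm α)
    (hc : c ∈ Subgroup.centralizer (G : Set (Equiv.Perm α))) (a : α) (hca : c a = a) : c = 1 := by
  rw [mem_centralizer_iff_equivariant] at hc
  ext b
  exact congrFun (equivariant_eq_of_eq_at (G := G) c id hc (fun _ _ => rfl) a hca) b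

/-- Two elements of the centraliser of a transitive group agreeing at a point are equal. -/
theorem centralizer_eq_of_apply_eq [IsPretransitive G α] (c c' : Equiv.Perm α)
    (hc : c ∈ Subgroup.centralizer (G : Set (Equiv.Perm α)))
    (hc' : c' ∈ Subgroup.centralizer (G : Set (Equiv.Perm α))) (a : α) (h : c a = c' a) :
    c = c' := by
  rw [mem_centralizer_iff_equivariant] at hc hc'
  ext b
  exact congrFun (equivariant_eq_of_eq_at (G := G) c c' hc hc' a h) b

/-- A transitive subgroup of the centraliser of a transitive group is the whole centraliser. -/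
theorem centralizer_eq_of_transitive_le [IsPretransitive G α] (T : Subgroup (Equiv.Perm α))
    (hT : T ≤ Subgroup.centralizer (G : Set (Equiv.Perm α))) [hTt : IsPretransitive T α]
    [Nonempty α] :
    T = Subgroup.centralizer (G : Set (Equiv.Perm α)) := by
  apply le_antisymm hT
  intro c hc
  obtain ⟨a⟩ := ‹Nonempty α›
  obtain ⟨t, ht⟩ := hTt.exists_smul_eq a (c a)
  have : c = t.1 := centralizer_eq_of_apply_eq G c t.1 hc (hT t.2) a ht.symm
  rw [this]
  exact t.2

/-- The homomorphism from the normaliser of a point stabiliser to the centraliser in the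
symmetric group. -/
noncomputable def normToCentralizer [IsPretransitive G α] (a : α) :
    Subgroup.normalizer ((stabilizer G a : Subgroup G) : Set G) →*
      Subgroup.centralizer (G : Set (Equiv.Perm α)) where
  toFun n := ⟨normPerm a n, (mem_centralizer_iff_equivariant G _).mpr (normPerm_equivariant a n)⟩
  map_one' := by
    apply Subtype.ext
    change normPerm a 1 = 1
    rw [normPerm_eq_one_iff]
    exact one_mem _
  map_mul' n m := by
    apply Subtype.ext
    exact normPerm_mul a n m

theorem normToCentralizer_ker [IsPretransitive G α] (a : α) :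
    (normToCentralizer G a).ker =
      (stabilizer G a).subgroupOf (Subgroup.normalizer ((stabilizer G a : Subgroup G) : Set G)) := by
  ext n
  rw [MonoidHom.mem_ker, Subgroup.mem_subgroupOf, ← normPerm_eq_one_iff]
  constructor
  · intro h
    exact congrArg Subtype.val h
  · intro h
    exact Subtype.ext h

/-- If `b` is fixed by the stabiliser of `a` then (in a finite group) any `k` with `k • a = b`
has `k⁻¹` in the normaliser of the stabiliser. -/
theorem inv_mem_normalizer_of_smul_mem_fixedPoints [Finite α] (a : α) (k : G)
    (hk : k • a ∈ fixedPoints (stabilizer G a) α) :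
    k⁻¹ ∈ Subgroup.normalizer ((stabilizer G a : Subgroup G) : Set G) := by
  haveI : Finite G := Finite.of_injective (fun g : G => (g : Equiv.Perm α)) Subtype.val_injective
  apply Subgroup.mem_normalizer_fintype
  intro h hh
  have h1 : h • k • a = k • a := hk ⟨h, hh⟩
  change k⁻¹ * h * k⁻¹⁻¹ ∈ stabilizer G a
  rw [inv_inv, mem_stabilizer_iff, mul_smul, mul_smul, h1, inv_smul_smul]

theorem normToCentralizer_surjective [Finite α] [IsPretransitive G α] (a : α) :
    Function.Surjective (normToCentralizer G a) := by
  rintro ⟨c, hc⟩
  have hc' := (mem_centralizer_iff_equivariant G c).mp hc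
  obtain ⟨k, hk⟩ := exists_smul_eq G a (c a)
  have hfix : k • a ∈ fixedPoints (stabilizer G a) α := by
    rw [hk]; exact equivariant_apply_mem_fixedPoints c hc' a
  refine ⟨⟨k⁻¹, inv_mem_normalizer_of_smul_mem_fixedPoints G a k hfix⟩, ?_⟩
  apply Subtype.ext
  change normPerm a _ = c
  apply centralizer_eq_of_apply_eq G _ _
    ((mem_centralizer_iff_equivariant G _).mpr (normPerm_equivariant a _)) hc a
  rw [normPerm_base]
  simp only [inv_inv]
  exact hk

theorem orbit_centralizer_eq_fixedPoints [Finite α] [IsPretransitive G α] (a : α) :
    orbit (Subgroup.centralizer (G : Set (Equiv.Perm α))) a =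
      fixedPoints (stabilizer G a) α := by
  ext b
  constructor
  · rintro ⟨c, rfl⟩
    exact equivariant_apply_mem_fixedPoints c.1 ((mem_centralizer_iff_equivariant G c.1).mp c.2) a
  · intro hb
    obtain ⟨k, rfl⟩ := exists_smul_eq G a b
    have hn := inv_mem_normalizer_of_smul_mem_fixedPoints G a k hb
    refine ⟨normToCentralizer G a ⟨k⁻¹, hn⟩, ?_⟩
    change normPerm a _ a = _
    rw [normPerm_base]
    simp only [inv_inv]

end

end Cfsg.Agent.Helper4

namespace Cfsg.Agent.Helper4

open MulAction

section
variable {α : Type*} (G : Subgroup (Equiv.Perm α))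

theorem normToCentralizer_injective_of_regular [IsPretransitive G α] (a : α)
    (hreg : stabilizer G a = ⊥) : Function.Injective (normToCentralizer G a) := by
  rw [← MonoidHom.ker_eq_bot_iff, normToCentralizer_ker, hreg]
  ext x
  rw [Subgroup.mem_subgroupOf, Subgroup.mem_bot, Subgroup.mem_bot]
  exact ⟨fun h => Subtype.ext h, fun h => congrArg Subtype.val h⟩

theorem normToCentralizer_surjective_of_regular [IsPretransitive G α] (a : α)
    (hreg : stabilizer G a = ⊥) : Function.Surjective (normToCentralizer G a) := by
  rintro ⟨c, hc⟩
  obtain ⟨k, hk⟩ := exists_smul_eq G a (c a)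
  have hn : k⁻¹ ∈ Subgroup.normalizer ((stabilizer G a : Subgroup G) : Set G) := by
    rw [hreg, Subgroup.mem_normalizer_iff]
    intro h
    simp only [Subgroup.mem_bot]
    constructor
    · intro e; rw [e]; simp
    · intro e
      have := congrArg (fun t => k * t * k⁻¹) e
      simpa [mul_assoc] using this
  refine ⟨⟨k⁻¹, hn⟩, ?_⟩
  apply Subtype.ext
  change normPerm a _ = c
  apply centralizer_eq_of_apply_eq G _ _
    ((mem_centralizer_iff_equivariant G _).mpr (normPerm_equivariant a _)) hc a
  rw [normPerm_base]
  simp only [inv_inv]
  exact hk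

/-- A regular permutation group is isomorphic to its centraliser in the symmetric group. -/
theorem nonempty_mulEquiv_centralizer_of_regular [IsPretransitive G α] (a : α)
    (hreg : stabilizer G a = ⊥) :
    Nonempty (G ≃* Subgroup.centralizer (G : Set (Equiv.Perm α))) := by
  have htop : Subgroup.normalizer ((stabilizer G a : Subgroup G) : Set G) = ⊤ := by
    rw [hreg]
    exact Subgroup.normalizer_eq_top_iff.mpr inferInstance
  let e1 := MulEquiv.ofBijective (normToCentralizer G a)
    ⟨normToCentralizer_injective_of_regular G a hreg,
      normToCentralizer_surjective_of_regular G a hreg⟩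
  exact ⟨(Subgroup.topEquiv.symm.trans (MulEquiv.subgroupCongr htop.symm)).trans e1⟩

end

end Cfsg.Agent.Helper4
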