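import Mathlib
import Cfsg.Agent.Helper29.PqAsm
import Cfsg.Agent.Helper29.PqWt

/-!
# Structure of a nonabelian group of order `pq` (piece (F) of S4306)
-/

set_option autoImplicit false
set_option linter.style.haveILetI false
set_option linter.unusedSectionVars false

namespace Cfsg.Agent.Helper4.PqF

open Cfsg.Agent.Helper29.Pq

/-- A nonabelian group of order `ℓ h` with primes `h < ℓ`. -/
theorem exists_frobPQ_aux {A : Type*} [Group A] [Finite A] (ℓ h : ℕ) (hℓ : ℓ.Prime) (hh : h.Prime)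
    (hlt : h < ℓ) (hA : Nat.card A = ℓ * h) (hAna : ¬ IsMulCommutative A) :
    ∃ (f η : A), FrobPQ A f η ℓ h := by
  haveI : Fact ℓ.Prime := ⟨hℓ⟩
  haveI : Fact h.Prime := ⟨hh⟩
  have hne : ℓ ≠ h := (ne_of_lt hlt).symm
  -- elements of order `ℓ` and `h`
  obtain ⟨f, hf⟩ := exists_prime_orderOf_dvd_card' (G := A) ℓ (by rw [hA]; exact dvd_mul_right _ _)
  obtain ⟨η, hη⟩ := exists_prime_orderOf_dvd_card' (G := A) h (by rw [hA]; exact dvd_mul_left _ _)
  have hf1 : f ≠ 1 := by
    intro h1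
    rw [h1, orderOf_one] at hf
    exact hℓ.one_lt.ne hf
  have hη1 : η ≠ 1 := by
    intro h1
    rw [h1, orderOf_one] at hη
    exact hh.one_lt.ne hη
  have hcardf : Nat.card (Subgroup.zpowers f) = ℓ := by rw [Nat.card_zpowers, hf]
  have hcardη : Nat.card (Subgroup.zpowers η) = h := by rw [Nat.card_zpowers, hη]
  -- the Sylow `ℓ`-subgroup is normal
  have hcop : Nat.Coprime ℓ h := (Nat.coprime_primes hℓ hh).mpr hne
  have hfact : (Nat.card A).factorization ℓ = 1 := by
    rw [hA, Nat.factorization_mul hℓ.ne_zero hh.ne_zero]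
    simp [hℓ.factorization_self, Nat.factorization_eq_zero_of_not_dvd
      (fun hd => hne ((Nat.prime_dvd_prime_iff_eq hℓ hh).mp hd))]
  have hsylcard : ∀ P : Sylow ℓ A, Nat.card P = ℓ := by
    intro P
    rw [P.card_eq_multiplicity, hfact, pow_one]
  have hone : Nat.card (Sylow ℓ A) = 1 := by
    obtain ⟨P⟩ := (Sylow.nonempty : Nonempty (Sylow ℓ A))
    have h1 := card_sylow_modEq_one ℓ A
    have h2 := P.card_dvd_index
    have hidx : (P : Subgroup A).index = h := by
      have := (P : Subgroup A).card_mul_index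
      rw [hsylcard P, hA] at this
      exact Nat.eq_of_mul_eq_mul_left hℓ.pos this
    rw [hidx] at h2
    rcases (Nat.dvd_prime hh).mp h2 with h3 | h3
    · exact h3
    · exfalso
      rw [h3] at h1
      have h4 : h % ℓ = 1 % ℓ := h1
      rw [Nat.mod_eq_of_lt hlt, Nat.mod_eq_of_lt hℓ.one_lt] at h4
      exact hh.one_lt.ne' h4
  haveI hsub : Subsingleton (Sylow ℓ A) := (Nat.card_eq_one_iff_unique.mp hone).1
  -- `zpowers f` is the Sylow subgroup
  have hpg : IsPGroup ℓ (Subgroup.zpowers f) := IsPGroup.of_card (n := 1) (by rw [hcardf, pow_one])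
  obtain ⟨P, hP⟩ := hpg.exists_le_sylow
  have hPeq : Subgroup.zpowers f = (P : Subgroup A) :=
    Subgroup.eq_of_le_of_card_ge hP (by rw [hsylcard P, hcardf])
  have hnormal : (Subgroup.zpowers f).Normal := by
    rw [hPeq]
    exact Sylow.normal_of_subsingleton P
  have hcompl : Subgroup.IsComplement' (Subgroup.zpowers f) (Subgroup.zpowers η) := by
    apply Subgroup.isComplement'_of_coprime
    · rw [hcardf, hcardη, hA]
    · rw [hcardf, hcardη]; exact hcop
  have hgen : ∀ x : A, ∃ u ∈ Subgroup.zpowers f, ∃ v ∈ Subgroup.zpowers η, x = u * v := by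
    intro x
    obtain ⟨⟨u, v⟩, huv, -⟩ := Subgroup.isComplement_iff_existsUnique.mp hcompl x
    exact ⟨u, u.2, v, v.2, huv.symm⟩
  refine ⟨f, η, ⟨hℓ, hh, hne, ?_, hf1, ?_, hη1, ?_, ?_, hgen⟩⟩
  · rw [← hf]; exact pow_orderOf_eq_one f
  · rw [← hη]; exact pow_orderOf_eq_one η
  · exact hnormal.conj_mem f (Subgroup.mem_zpowers f) η
  · intro hcomm
    apply hAna
    have hfη : f * η = η * f := by
      have : η * f = (η * f * η⁻¹) * η := by group
      rw [this, hcomm]
    have hc : Commute f η := hfη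
    constructor
    constructor
    intro x y
    obtain ⟨u, hu, v, hv, rfl⟩ := hgen x
    obtain ⟨u', hu', v', hv', rfl⟩ := hgen y
    obtain ⟨i, rfl⟩ := Subgroup.mem_zpowers_iff.mp hu
    obtain ⟨k, rfl⟩ := Subgroup.mem_zpowers_iff.mp hv
    obtain ⟨i', rfl⟩ := Subgroup.mem_zpowers_iff.mp hu'
    obtain ⟨k', rfl⟩ := Subgroup.mem_zpowers_iff.mp hv'
    have c1 : Commute (f ^ i) (η ^ k') := (hc.zpow_left i).zpow_right k'
    have c2 : Commute (f ^ i') (η ^ k) := (hc.zpow_left i').zpow_right k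
    have c3 : Commute (f ^ i) (f ^ i') := (Commute.refl f).zpow_zpow i i'
    have c4 : Commute (η ^ k) (η ^ k') := (Commute.refl η).zpow_zpow k k'
    calc f ^ i * η ^ k * (f ^ i' * η ^ k') = f ^ i * (η ^ k * f ^ i') * η ^ k' := by group
      _ = f ^ i * (f ^ i' * η ^ k) * η ^ k' := by rw [c2.eq]
      _ = (f ^ i * f ^ i') * (η ^ k * η ^ k') := by group
      _ = (f ^ i' * f ^ i) * (η ^ k' * η ^ k) := by rw [c3.eq, c4.eq]
      _ = f ^ i' * (f ^ i * η ^ k') * η ^ k := by group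
      _ = f ^ i' * (η ^ k' * f ^ i) * η ^ k := by rw [c1.eq]
      _ = f ^ i' * η ^ k' * (f ^ i * η ^ k) := by group

/-- (F) structure of a nonabelian group of order `pq`. -/
theorem exists_frobPQ {A : Type*} [Group A] [Finite A] (p q : ℕ) (hp : p.Prime) (hq : q.Prime)
    (hpq : p ≠ q) (hA : Nat.card A = p * q) (hAna : ¬ IsMulCommutative A) :
    ∃ (f η : A) (ℓ h : ℕ), FrobPQ A f η ℓ h ∧ Nat.card A = ℓ * h := by
  rcases lt_or_gt_of_ne hpq with hlt | hlt
  · obtain ⟨f, η, hF⟩ := exists_frobPQ_aux q p hq hp hlt (by rw [hA, mul_comm]) hAna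
    exact ⟨f, η, q, p, hF, by rw [hA, mul_comm]⟩
  · obtain ⟨f, η, hF⟩ := exists_frobPQ_aux p q hp hq hlt hA hAna
    exact ⟨f, η, p, q, hF, hA⟩

end Cfsg.Agent.Helper4.PqF
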