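import Mathlib
import Cfsg.Agent.Helper12.TVG
import Cfsg.Agent.Helper12.RUNA

set_option autoImplicit false
set_option linter.unusedSectionVars false

/-! Shared definitions for S2279: `SL_n(F)`, `n = m + 4`, is generated by the standard regular
unipotent `u = 1 + N` (`Cfsg.Agent.Helper12.RUN.uM`) and a second regular unipotent `w`
(`wM m s3 s4`).  `TpM = w⁻¹ u` has Jordan form `s ⊕ J₂ ⊕ 1`, so a power of it is the transvection
`1 + κ e_n e_3ᵀ`.  Indices are 0-based: `j0 j1 j2 j3` are the paper's `1 2 3 4`,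
`jB jL` are `n-1, n`. -/

open Matrix

namespace Cfsg.Agent.Helper4.RU2

open Cfsg.Agent.Helper12.TVG Cfsg.Agent.Helper12.RUN

variable {F : Type*} [Field F] {m : ℕ}

def j0 (m : ℕ) : Fin (m + 4) := ⟨0, by omega⟩
def j1 (m : ℕ) : Fin (m + 4) := ⟨1, by omega⟩
def j2 (m : ℕ) : Fin (m + 4) := ⟨2, by omega⟩
def j3 (m : ℕ) : Fin (m + 4) := ⟨3, by omega⟩
def jB (m : ℕ) : Fin (m + 4) := ⟨m + 2, by omega⟩
def jL (m : ℕ) : Fin (m + 4) := ⟨m + 3, by omega⟩

@[simp] theorem j0_val : (j0 m).val = 0 := rfl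
@[simp] theorem j1_val : (j1 m).val = 1 := rfl
@[simp] theorem j2_val : (j2 m).val = 2 := rfl
@[simp] theorem j3_val : (j3 m).val = 3 := rfl
@[simp] theorem jB_val : (jB m).val = m + 2 := rfl
@[simp] theorem jL_val : (jL m).val = m + 3 := rfl

/-- The second generator `w = C b⁻¹` (paper, 1-based):
`w = 1 + ∑_{j ≥ 4} E_{j-1,j} - s4 E_{21} - s3 (E_{n2} + E_{n-1,2}) + s3 s4 (E_{n1} + E_{n-1,1})`. -/
def wM (m : ℕ) (s3 s4 : F) : Matrix (Fin (m + 4)) (Fin (m + 4)) F :=
  Matrix.of fun i j =>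
    (if i = j then 1 else 0)
    + (if 2 ≤ i.val ∧ j.val = i.val + 1 then 1 else 0)
    + (if i.val = 1 ∧ j.val = 0 then -s4 else 0)
    + (if (i = jL m ∨ i = jB m) ∧ j.val = 1 then -s3 else 0)
    + (if (i = jL m ∨ i = jB m) ∧ j.val = 0 then s3 * s4 else 0)

/-- `T' = b a = w⁻¹ u` (paper, 1-based):
`T' = 1 + E_{12} + E_{23} + s4 E_{21} + s4 E_{22} + s3 E_{n2} + s3 E_{n3}`. -/
def TpM (m : ℕ) (s3 s4 : F) : Matrix (Fin (m + 4)) (Fin (m + 4)) F :=
  Matrix.of fun i j =>
    (if i = j then 1 else 0)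
    + (if i.val = 0 ∧ j.val = 1 then 1 else 0)
    + (if i.val = 1 ∧ j.val = 2 then 1 else 0)
    + (if i.val = 1 ∧ j.val = 0 then s4 else 0)
    + (if i.val = 1 ∧ j.val = 1 then s4 else 0)
    + (if i = jL m ∧ j.val = 1 then s3 else 0)
    + (if i = jL m ∧ j.val = 2 then s3 else 0)

/-- The conjugating matrix `h` with `h w = u h` (rows `e_3ᵀ (w-1)^k`), `det h = s3² s4`. -/
def hM (m : ℕ) (s3 s4 : F) : Matrix (Fin (m + 4)) (Fin (m + 4)) F :=
  Matrix.of fun i j =>
    (if j.val = i.val + 2 then 1 else 0)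
    + (if i.val = m + 1 ∧ j.val = 1 then -s3 else 0)
    + (if i.val = m + 1 ∧ j.val = 0 then s3 * s4 else 0)
    + (if i = jB m ∧ j.val = 1 then -s3 else 0)
    + (if i = jB m ∧ j.val = 0 then 2 * (s3 * s4) else 0)
    + (if i = jL m ∧ j.val = 0 then s3 * s4 else 0)

/-! ### Pointwise action formulas -/

theorem sum_ite_val_eq (v : Fin (m + 4) → F) (k : ℕ) (c : F) :
    ∑ j : Fin (m + 4), (if j.val = k then c else 0) * v j =
      if h : k < m + 4 then c * v ⟨k, h⟩ else 0 := by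
  split_ifs with h
  · rw [Finset.sum_eq_single (⟨k, h⟩ : Fin (m + 4))]
    · simp
    · intro b _ hb
      have : ¬ b.val = k := fun h' => hb (Fin.ext h')
      simp [this]
    · intro h'; exact absurd (Finset.mem_univ _) h'
  · apply Finset.sum_eq_zero
    intro b _
    have : ¬ b.val = k := by have := b.isLt; omega
    simp [this]

theorem sum_ite_and_val_eq (v : Fin (m + 4) → F) (P : Prop) [Decidable P] (k : ℕ) (c : F) :
    ∑ j : Fin (m + 4), (if P ∧ j.val = k then c else 0) * v j =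
      if P then (if h : k < m + 4 then c * v ⟨k, h⟩ else 0) else 0 := by
  by_cases hP : P
  · simp only [hP, true_and, if_true]
    exact sum_ite_val_eq v k c
  · simp [hP]

theorem sum_ite_eq_left (v : Fin (m + 4) → F) (i : Fin (m + 4)) :
    ∑ j : Fin (m + 4), (if i = j then (1 : F) else 0) * v j = v i := by
  simp

theorem uM_mulVec_apply (v : Fin (m + 4) → F) (i : Fin (m + 4)) :
    (uM (m + 4) F *ᵥ v) i = v i + (if h : i.val + 1 < m + 4 then v ⟨i.val + 1, h⟩ else 0) := by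
  rw [uM_mulVec, Pi.add_apply]
  congr 1
  simp only [mulVec, dotProduct, NM_apply]
  have := sum_ite_val_eq v (i.val + 1) (1 : F)
  simp only [one_mul] at this
  rw [← this]

theorem vecMul_uM_apply (φ : Fin (m + 4) → F) (j : Fin (m + 4)) :
    (φ ᵥ* uM (m + 4) F) j = φ j + (if h : 1 ≤ j.val then φ ⟨j.val - 1, by omega⟩ else 0) := by
  rw [vecMul_uM, Pi.add_apply]
  congr 1
  simp only [vecMul, dotProduct, NM_apply]
  split_ifs with h
  · rw [Finset.sum_eq_single (⟨j.val - 1, by omega⟩ : Fin (m + 4))]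
    · have : j.val = j.val - 1 + 1 := by omega
      simp [this.symm]
    · intro b _ hb
      have : ¬ j.val = b.val + 1 := fun h' => hb (Fin.ext (by simp; omega))
      simp [this]
    · intro h'; exact absurd (Finset.mem_univ _) h'
  · apply Finset.sum_eq_zero
    intro b _
    have : ¬ j.val = b.val + 1 := by omega
    simp [this]

theorem wM_mulVec_apply (s3 s4 : F) (v : Fin (m + 4) → F) (i : Fin (m + 4)) :
    (wM m s3 s4 *ᵥ v) i = v i
      + (if h : 2 ≤ i.val ∧ i.val + 1 < m + 4 then v ⟨i.val + 1, h.2⟩ else 0)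
      + (if i.val = 1 then -s4 * v (j0 m) else 0)
      + (if i = jL m ∨ i = jB m then -s3 * v (j1 m) + s3 * s4 * v (j0 m) else 0) := by
  simp only [mulVec, dotProduct, wM, of_apply, add_mul, Finset.sum_add_distrib]
  rw [sum_ite_eq_left, sum_ite_and_val_eq, sum_ite_and_val_eq, sum_ite_and_val_eq,
    sum_ite_and_val_eq]
  have h0 : (0 : ℕ) < m + 4 := by omega
  have h1 : (1 : ℕ) < m + 4 := by omega
  simp only [h0, h1, dif_pos]
  have e0 : (⟨0, h0⟩ : Fin (m + 4)) = j0 m := rfl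
  have e1 : (⟨1, h1⟩ : Fin (m + 4)) = j1 m := rfl
  rw [e0, e1]
  split_ifs <;> first | (exfalso; omega) | ring

theorem jL_ne_jB : jL m ≠ jB m := by
  intro h; have := congrArg Fin.val h; simp at this

theorem sum_mul_ite_val (φ : Fin (m + 4) → F) (k : ℕ) (c : F) :
    ∑ i : Fin (m + 4), φ i * (if i.val = k then c else 0) =
      if h : k < m + 4 then φ ⟨k, h⟩ * c else 0 := by
  split_ifs with h
  · rw [Finset.sum_eq_single (⟨k, h⟩ : Fin (m + 4))]
    · simp
    · intro b _ hb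
      have : ¬ b.val = k := fun h' => hb (Fin.ext h')
      simp [this]
    · intro h'; exact absurd (Finset.mem_univ _) h'
  · apply Finset.sum_eq_zero
    intro b _
    have : ¬ b.val = k := by have := b.isLt; omega
    simp [this]

theorem sum_mul_ite_val_and (φ : Fin (m + 4) → F) (P : Prop) [Decidable P] (k : ℕ) (c : F) :
    ∑ i : Fin (m + 4), φ i * (if i.val = k ∧ P then c else 0) =
      if P then (if h : k < m + 4 then φ ⟨k, h⟩ * c else 0) else 0 := by
  by_cases hP : P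
  · simp only [hP, and_true, if_true]
    exact sum_mul_ite_val φ k c
  · simp [hP]

theorem sum_mul_ite_eq_and (φ : Fin (m + 4) → F) (a : Fin (m + 4)) (P : Prop) [Decidable P]
    (c : F) :
    ∑ i : Fin (m + 4), φ i * (if i = a ∧ P then c else 0) = if P then φ a * c else 0 := by
  by_cases hP : P
  · simp [hP]
  · simp [hP]

theorem sum_mul_ite_or_and (φ : Fin (m + 4) → F) (a b : Fin (m + 4)) (hab : a ≠ b)
    (P : Prop) [Decidable P] (c : F) :
    ∑ i : Fin (m + 4), φ i * (if (i = a ∨ i = b) ∧ P then c else 0) =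
      if P then (φ a + φ b) * c else 0 := by
  by_cases hP : P
  · simp only [hP, and_true, if_true]
    have : ∀ i : Fin (m + 4), φ i * (if i = a ∨ i = b then c else 0) =
        φ i * (if i = a then c else 0) + φ i * (if i = b then c else 0) := by
      intro i
      by_cases h1 : i = a
      · subst h1
        rw [if_pos (Or.inl rfl), if_pos rfl, if_neg hab, mul_zero, add_zero]
      · by_cases h2 : i = b
        · subst h2
          rw [if_pos (Or.inr rfl), if_neg h1, if_pos rfl, mul_zero, zero_add]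
        · rw [if_neg (not_or.mpr ⟨h1, h2⟩), if_neg h1, if_neg h2, mul_zero, add_zero]
    simp only [this, Finset.sum_add_distrib]
    simp [add_mul]
  · simp [hP]

theorem vecMul_wM_apply (s3 s4 : F) (φ : Fin (m + 4) → F) (j : Fin (m + 4)) :
    (φ ᵥ* wM m s3 s4) j = φ j
      + (if h : 3 ≤ j.val then φ ⟨j.val - 1, by omega⟩ else 0)
      + (if j.val = 0 then -s4 * φ (j1 m) + s3 * s4 * (φ (jL m) + φ (jB m)) else 0)
      + (if j.val = 1 then -s3 * (φ (jL m) + φ (jB m)) else 0) := by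
  simp only [vecMul, dotProduct, wM, of_apply, mul_add, Finset.sum_add_distrib]
  rw [sum_mul_ite_val_and, sum_mul_ite_or_and _ _ _ jL_ne_jB, sum_mul_ite_or_and _ _ _ jL_ne_jB]
  have h1 : (1 : ℕ) < m + 4 := by omega
  have e1 : (⟨1, h1⟩ : Fin (m + 4)) = j1 m := rfl
  simp only [h1, dif_pos, e1]
  have hsum : ∑ i : Fin (m + 4), φ i * (if 2 ≤ i.val ∧ j.val = i.val + 1 then (1 : F) else 0) =
      if h : 3 ≤ j.val then φ ⟨j.val - 1, by omega⟩ else 0 := by
    split_ifs with h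
    · rw [Finset.sum_eq_single (⟨j.val - 1, by omega⟩ : Fin (m + 4))]
      · have : 2 ≤ j.val - 1 ∧ j.val = j.val - 1 + 1 := by omega
        rw [if_pos this, mul_one]
      · intro b _ hb
        have : ¬ (2 ≤ b.val ∧ j.val = b.val + 1) := fun h' => hb (Fin.ext (by simp; omega))
        simp [this]
      · intro h'; exact absurd (Finset.mem_univ _) h'
    · apply Finset.sum_eq_zero
      intro b _
      have : ¬ (2 ≤ b.val ∧ j.val = b.val + 1) := by omega
      simp [this]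
  rw [hsum]
  have hdiag : ∑ i : Fin (m + 4), φ i * (if i = j then (1 : F) else 0) = φ j := by simp
  rw [hdiag]
  split_ifs <;> first | (exfalso; omega) | ring

theorem TpM_mulVec_apply (s3 s4 : F) (v : Fin (m + 4) → F) (i : Fin (m + 4)) :
    (TpM m s3 s4 *ᵥ v) i = v i
      + (if i.val = 0 then v (j1 m) else 0)
      + (if i.val = 1 then v (j2 m) + s4 * v (j0 m) + s4 * v (j1 m) else 0)
      + (if i = jL m then s3 * v (j1 m) + s3 * v (j2 m) else 0) := by
  simp only [mulVec, dotProduct, TpM, of_apply, add_mul, Finset.sum_add_distrib]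
  rw [sum_ite_eq_left, sum_ite_and_val_eq, sum_ite_and_val_eq, sum_ite_and_val_eq,
    sum_ite_and_val_eq, sum_ite_and_val_eq, sum_ite_and_val_eq]
  have h0 : (0 : ℕ) < m + 4 := by omega
  have h1 : (1 : ℕ) < m + 4 := by omega
  have h2 : (2 : ℕ) < m + 4 := by omega
  simp only [h0, h1, h2, dif_pos]
  have e0 : (⟨0, h0⟩ : Fin (m + 4)) = j0 m := rfl
  have e1 : (⟨1, h1⟩ : Fin (m + 4)) = j1 m := rfl
  have e2 : (⟨2, h2⟩ : Fin (m + 4)) = j2 m := rfl
  rw [e0, e1, e2]
  split_ifs <;> first | (exfalso; omega) | ring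

theorem vecMul_TpM_apply (s3 s4 : F) (φ : Fin (m + 4) → F) (j : Fin (m + 4)) :
    (φ ᵥ* TpM m s3 s4) j = φ j
      + (if j.val = 0 then s4 * φ (j1 m) else 0)
      + (if j.val = 1 then φ (j0 m) + s4 * φ (j1 m) + s3 * φ (jL m) else 0)
      + (if j.val = 2 then φ (j1 m) + s3 * φ (jL m) else 0) := by
  simp only [vecMul, dotProduct, TpM, of_apply, mul_add, Finset.sum_add_distrib]
  rw [sum_mul_ite_val_and, sum_mul_ite_val_and, sum_mul_ite_val_and, sum_mul_ite_val_and,
    sum_mul_ite_eq_and, sum_mul_ite_eq_and]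
  have h0 : (0 : ℕ) < m + 4 := by omega
  have h1 : (1 : ℕ) < m + 4 := by omega
  simp only [h0, h1, dif_pos]
  have e0 : (⟨0, h0⟩ : Fin (m + 4)) = j0 m := rfl
  have e1 : (⟨1, h1⟩ : Fin (m + 4)) = j1 m := rfl
  rw [e0, e1]
  have hdiag : ∑ i : Fin (m + 4), φ i * (if i = j then (1 : F) else 0) = φ j := by simp
  rw [hdiag]
  split_ifs <;> first | (exfalso; omega) | ring


/-! ### Basis vectors indexed by natural numbers -/

/-- `ev m k t = t • e_k` (0-based, `k : ℕ`); zero if `k` is out of range. -/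
def ev (m : ℕ) (k : ℕ) (t : F) : Fin (m + 4) → F := fun i => if i.val = k then t else 0

theorem ev_apply (k : ℕ) (t : F) (i : Fin (m + 4)) : ev m k t i = if i.val = k then t else 0 := rfl

theorem single_eq_ev (a : Fin (m + 4)) (t : F) : (Pi.single a t : Fin (m + 4) → F) = ev m a.val t := by
  funext i
  simp only [Pi.single_apply, ev_apply, Fin.ext_iff]

theorem ev_add (k : ℕ) (s t : F) : ev m k (s + t) = ev m k s + ev m k t := by
  funext i; simp only [ev_apply, Pi.add_apply]; split_ifs <;> simp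

theorem ev_neg (k : ℕ) (t : F) : ev m k (-t) = -ev m k t := by
  funext i; simp only [ev_apply, Pi.neg_apply]; split_ifs <;> simp

theorem ev_zero (k : ℕ) : ev m k (0 : F) = 0 := by
  funext i; simp only [ev_apply, Pi.zero_apply]; split_ifs <;> rfl

theorem ev_smul (k : ℕ) (s t : F) : s • ev m k t = ev m k (s * t) := by
  funext i; simp only [ev_apply, Pi.smul_apply, smul_eq_mul]; split_ifs <;> simp

/-- The alternating vector / covector `∑_{i ≥ 2} (-1)^(i-2) t e_i` (0-based). -/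
def alt (m : ℕ) (t : F) : Fin (m + 4) → F := fun i => if 2 ≤ i.val then (-1) ^ (i.val - 2) * t else 0

theorem alt_apply (t : F) (i : Fin (m + 4)) :
    alt m t i = if 2 ≤ i.val then (-1) ^ (i.val - 2) * t else 0 := rfl

/-! ### `InH` versions of the `Mod` / `Cov` transfer lemmas -/

section transfer

variable {ι : Type*} [Fintype ι] [DecidableEq ι]
  {H : Subgroup (SpecialLinearGroup ι F)} {A : Matrix ι ι F} {φ ψ v x : ι → F}

theorem Mod_act' (hA : InH H A) (hφ : φ ᵥ* A = φ) (hv : v ∈ Mod H φ) : A *ᵥ v ∈ Mod H φ := by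
  obtain ⟨g, hg, rfl⟩ := hA
  exact Mod_act hg hφ hv

theorem Mod_conj' (hA : InH H A) (hψ : ψ ᵥ* A = φ) (hv : v ∈ Mod H φ) : A *ᵥ v ∈ Mod H ψ := by
  obtain ⟨g, hg, rfl⟩ := hA
  exact Mod_conj hg hψ hv

/-- If `φ A = ψ` and `A x ∈ Mod H φ` then `x ∈ Mod H ψ`. -/
theorem Mod_conj_inv' (hA : InH H A) (hφ : φ ᵥ* A = ψ) (hx : A *ᵥ x ∈ Mod H φ) :
    x ∈ Mod H ψ := by
  obtain ⟨g, hg, rfl⟩ := hA
  have h1 : ψ ᵥ* ((g⁻¹ : SpecialLinearGroup ι F) : Matrix ι ι F) = φ := by
    rw [← hφ, vecMul_vecMul, coe_mul_inv, vecMul_one]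
  have h2 := Mod_conj (H.inv_mem hg) h1 hx
  rwa [mulVec_mulVec, coe_inv_mul, one_mulVec] at h2

theorem Cov_act' (hA : InH H A) (hφ : φ ∈ Cov H) : φ ᵥ* A ∈ Cov H := by
  obtain ⟨g, hg, rfl⟩ := hA
  exact Cov_act hg hφ

/-- `InH H A`, `InH H (A * B)` imply `InH H B`. -/
theorem InH_of_mul_left {B : Matrix ι ι F} (hA : InH H A) (hAB : InH H (A * B)) : InH H B := by
  obtain ⟨g, hg, rfl⟩ := hA
  obtain ⟨k, hk, hkc⟩ := hAB
  refine ⟨g⁻¹ * k, H.mul_mem (H.inv_mem hg) hk, ?_⟩
  show ((g⁻¹ : SpecialLinearGroup ι F) : Matrix ι ι F) * (k : Matrix ι ι F) = B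
  rw [hkc, ← Matrix.mul_assoc, coe_inv_mul, Matrix.one_mul]

end transfer

/-- The hypotheses of the endgame: `H` contains `u`, `w`, `T' = w⁻¹ u` and the seed transvection
`1 + κ e_n e_3ᵀ` (paper indices). -/
structure Setup (H : Subgroup (SpecialLinearGroup (Fin (m + 4)) F)) (s3 s4 κ : F) : Prop where
  hu : InH H (uM (m + 4) F)
  hw : InH H (wM m s3 s4)
  hT : InH H (TpM m s3 s4)
  seed : ev m (m + 3) κ ∈ Mod H (ev m 2 1)

end Cfsg.Agent.Helper4.RU2
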