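import Mathlib
import Cfsg.Agent.Helper4.RU2Defs

set_option autoImplicit false
set_option linter.unusedSectionVars false
set_option linter.unusedVariables false
set_option linter.unusedSimpArgs false

/-! S2279, pieces CJ1, CJ2: the conjugating matrix `h` with `h w = u h`, `det h = s3² s4`. -/

open Matrix

namespace Cfsg.Agent.Helper4.RU2

open Cfsg.Agent.Helper12.TVG Cfsg.Agent.Helper12.RUN

variable {F : Type*} [Field F] {m : ℕ}

theorem hM_apply (s3 s4 : F) (i j : Fin (m + 4)) : hM m s3 s4 i j =
    (if j.val = i.val + 2 then 1 else 0)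
    + (if i.val = m + 1 ∧ j.val = 1 then -s3 else 0)
    + (if i.val = m + 1 ∧ j.val = 0 then s3 * s4 else 0)
    + (if i.val = m + 2 ∧ j.val = 1 then -s3 else 0)
    + (if i.val = m + 2 ∧ j.val = 0 then 2 * (s3 * s4) else 0)
    + (if i.val = m + 3 ∧ j.val = 0 then s3 * s4 else 0) := by
  simp only [hM, of_apply, Fin.ext_iff, jB_val, jL_val]

set_option maxHeartbeats 1000000 in
theorem hM_mul_wM (s3 s4 : F) : hM m s3 s4 * wM m s3 s4 = uM (m + 4) F * hM m s3 s4 := by
  ext i j
  have e1 : (hM m s3 s4 * wM m s3 s4) i j = ((fun k => hM m s3 s4 i k) ᵥ* wM m s3 s4) j := rfl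
  have e2 : (uM (m + 4) F * hM m s3 s4) i j = (uM (m + 4) F *ᵥ (fun k => hM m s3 s4 k j)) i := rfl
  rw [e1, e2, vecMul_wM_apply, uM_mulVec_apply]
  have v1 : (j1 m).val = 1 := rfl
  have vL : (jL m).val = m + 3 := rfl
  have vB : (jB m).val = m + 2 := rfl
  simp only [hM_apply, v1, vL, vB]
  have hi := i.isLt
  have hj := j.isLt
  rcases (by omega : i.val < m ∨ i.val = m ∨ i.val = m+1 ∨ i.val = m+2 ∨ i.val = m+3) with hi | hi | hi | hi | hi <;>
  rcases (by omega : j.val = 0 ∨ j.val = 1 ∨ j.val = 2 ∨ 3 ≤ j.val) with hj | hj | hj | hj <;>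
  simp (disch := omega) only [if_pos, if_neg, dif_pos, dif_neg, and_true, true_and, and_false, false_and, if_true, if_false] <;>
  (try simp (disch := omega) only [if_pos, if_neg, dif_pos, dif_neg, and_true, true_and, and_false, false_and, if_true, if_false]) <;>
  (try split_ifs) <;> first | (exfalso; omega) | ring

/-- The column permutation making `hM` upper triangular. -/
def sigP (m : ℕ) : Equiv.Perm (Fin (m + 4)) :=
  finRotate (m + 4) * finRotate (m + 4) * Equiv.swap (jB m) (jL m)

theorem rot_val (c : Fin (m + 4)) :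
    ((finRotate (m + 4)) c).val = if c.val = m + 3 then 0 else c.val + 1 := by
  have := coe_finRotate (n := m + 3) c
  rw [this]
  simp only [Fin.ext_iff, Fin.val_last]

theorem swapBL_val (c : Fin (m + 4)) :
    (Equiv.swap (jB m) (jL m) c).val =
      if c.val = m + 2 then m + 3 else if c.val = m + 3 then m + 2 else c.val := by
  rw [Equiv.swap_apply_def]
  simp only [Fin.ext_iff, jB_val, jL_val]
  split_ifs <;> simp

theorem sigP_val (c : Fin (m + 4)) :
    ((sigP m) c).val = if c.val ≤ m + 1 then c.val + 2 else if c.val = m + 2 then 1 else 0 := by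
  unfold sigP
  rw [Equiv.Perm.mul_apply, Equiv.Perm.mul_apply, rot_val, rot_val, swapBL_val]
  have := c.isLt
  split_ifs <;> omega

theorem sigP_sign : Equiv.Perm.sign (sigP m) = -1 := by
  unfold sigP
  rw [Equiv.Perm.sign_mul, Equiv.Perm.sign_mul, sign_finRotate, Equiv.Perm.sign_swap jL_ne_jB.symm,
    ← mul_pow]
  simp

theorem hM_perm_apply (s3 s4 : F) (i c : Fin (m + 4)) :
    (hM m s3 s4).submatrix id (sigP m) i c =
      (if c.val = i.val ∧ c.val ≤ m + 1 then 1 else 0)
      + (if (i.val = m + 1 ∨ i.val = m + 2) ∧ c.val = m + 2 then -s3 else 0)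
      + (if i.val = m + 1 ∧ c.val = m + 3 then s3 * s4 else 0)
      + (if i.val = m + 2 ∧ c.val = m + 3 then 2 * (s3 * s4) else 0)
      + (if i.val = m + 3 ∧ c.val = m + 3 then s3 * s4 else 0) := by
  rw [submatrix_apply, id, hM_apply, sigP_val]
  have hi := i.isLt
  have hc := c.isLt
  rcases (by omega : c.val ≤ m + 1 ∨ c.val = m + 2 ∨ c.val = m + 3) with h | h | h <;>
  simp (disch := omega) only [if_pos, if_neg, and_true, true_and, and_false, false_and, if_true, if_false] <;>
  (try simp (disch := omega) only [if_pos, if_neg, and_true, true_and, and_false, false_and, if_true, if_false]) <;>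
  (try split_ifs) <;> first | (exfalso; omega) | ring

theorem det_hM (s3 s4 : F) : (hM m s3 s4).det = s3 ^ 2 * s4 := by
  have h1 := det_permute' (sigP m) (hM m s3 s4)
  have htri : ((hM m s3 s4).submatrix id (sigP m)).BlockTriangular id := by
    intro i c hci
    have hci' : c.val < i.val := hci
    rw [hM_perm_apply]
    have hi := i.isLt
    simp (disch := omega) only [if_pos, if_neg, and_true, true_and, and_false, false_and, if_true, if_false]
    simp
  rw [det_of_isUpperTriangular htri, sigP_sign] at h1
  have hprod : ∏ i : Fin (m + 4), (hM m s3 s4).submatrix id (sigP m) i i = -s3 * (s3 * s4) := by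
    have e : ∀ i : Fin (m + 4), (hM m s3 s4).submatrix id (sigP m) i i =
        if i.val ≤ m + 1 then 1 else if i.val = m + 2 then -s3 else s3 * s4 := by
      intro i
      rw [hM_perm_apply]
      have hi := i.isLt
      rcases (by omega : i.val ≤ m + 1 ∨ i.val = m + 2 ∨ i.val = m + 3) with h | h | h <;>
      simp (disch := omega) only [if_pos, if_neg, and_true, true_and, and_false, false_and, if_true, if_false, or_true, true_or, or_false, false_or] <;>
      (try simp (disch := omega) only [if_pos, if_neg, and_true, true_and, and_false, false_and, if_true, if_false]) <;>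
      (try split_ifs) <;> first | (exfalso; omega) | ring
    simp only [e]
    rw [Fin.prod_univ_castSucc, Fin.prod_univ_castSucc]
    simp only [Fin.val_castSucc, Fin.val_last]
    rw [Finset.prod_eq_one]
    · simp (disch := omega) only [if_pos, if_neg, if_true, if_false]
      ring
    · intro i _
      have := i.isLt
      rw [if_pos (by omega)]
  rw [hprod] at h1
  have : (hM m s3 s4).det = -(-s3 * (s3 * s4)) := by
    rw [h1]; simp
  rw [this]; ring

end Cfsg.Agent.Helper4.RU2
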