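import Mathlib
import Cfsg.Agent.Helper4.RU2Defs

set_option autoImplicit false
set_option linter.unusedSectionVars false
set_option linter.unusedVariables false

/-! S2279, piece PROP: once `e_3ᵀ ∈ Cov H`, all standard covectors are, hence `H = ⊤`. -/

open Matrix

namespace Cfsg.Agent.Helper4.RU2

open Cfsg.Agent.Helper12.TVG Cfsg.Agent.Helper12.RUN

variable {F : Type*} [Field F] {m : ℕ}

theorem ev_dot_ev_ne (a b : ℕ) (hab : a ≠ b) (s t : F) : ev m a s ⬝ᵥ ev m b t = 0 := by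
  unfold dotProduct
  apply Finset.sum_eq_zero
  intro i _
  simp only [ev_apply]
  by_cases h1 : i.val = a
  · rw [if_pos h1, if_neg (by omega), mul_zero]
  · rw [if_neg h1, zero_mul]

theorem ev_vecMul_uM (k : ℕ) (t : F) :
    ev m k t ᵥ* uM (m + 4) F = ev m k t + ev m (k + 1) t := by
  funext j
  rw [vecMul_uM_apply]
  simp only [Pi.add_apply, ev_apply]
  split_ifs <;> first | (exfalso; omega) | ring

theorem evL_vecMul_wM (s3 s4 : F) :
    ev m (m + 3) (1 : F) ᵥ* wM m s3 s4 = ev m (m + 3) 1 + (ev m 1 (-s3) + ev m 0 (s3 * s4)) := by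
  funext j
  rw [vecMul_wM_apply]
  simp only [Pi.add_apply, ev_apply, j1_val, jL_val, jB_val]
  have h3 : ¬ (1 = m + 3) := by omega
  have h4 : ¬ (m + 2 = m + 3) := by omega
  simp only [h3, h4, if_false, if_true]
  split_ifs <;> first | (exfalso; omega) | ring

theorem xi_vecMul_wM (s3 s4 : F) :
    (ev m 1 (-s3) + ev m 0 (s3 * s4)) ᵥ* wM m s3 s4
      = (ev m 1 (-s3) + ev m 0 (s3 * s4)) + ev m 0 (s3 * s4) := by
  funext j
  rw [vecMul_wM_apply]
  simp only [Pi.add_apply, ev_apply, j1_val, jL_val, jB_val]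
  have h3 : ¬ (m + 3 = 1) := by omega
  have h4 : ¬ (m + 2 = 1) := by omega
  have h5 : ¬ (m + 3 = 0) := by omega
  have h6 : ¬ (m + 2 = 0) := by omega
  simp only [h3, h4, h5, h6, if_false, if_true, one_ne_zero]
  split_ifs <;> first | (exfalso; omega) | ring

theorem top_of_cov3 {H : Subgroup (SpecialLinearGroup (Fin (m + 4)) F)} {s3 s4 κ : F}
    (S : Setup H s3 s4 κ) (hs3 : s3 ≠ 0) (hs4 : s4 ≠ 0) (h3 : ev m 2 (1 : F) ∈ Cov H) : H = ⊤ := by
  -- covectors `e_k`, `k ≥ 2`
  have hup : ∀ d : ℕ, ev m (2 + d) (1 : F) ∈ Cov H := by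
    intro d
    induction d with
    | zero => exact h3
    | succ d ih =>
      have := Cov_sub (Cov_act' S.hu ih) ih
      rwa [ev_vecMul_uM, add_sub_cancel_left] at this
  have hL : ev m (m + 3) (1 : F) ∈ Cov H := by
    have := hup (m + 1)
    rwa [show 2 + (m + 1) = m + 3 by omega] at this
  have hξ : (ev m 1 (-s3) + ev m 0 (s3 * s4) : Fin (m + 4) → F) ∈ Cov H := by
    have := Cov_sub (Cov_act' S.hw hL) hL
    rwa [evL_vecMul_wM, add_sub_cancel_left] at this
  have h0' : ev m 0 (s3 * s4) ∈ Cov H := by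
    have := Cov_sub (Cov_act' S.hw hξ) hξ
    rwa [xi_vecMul_wM, add_sub_cancel_left] at this
  have h0 : ev m 0 (1 : F) ∈ Cov H := by
    have := Cov_smul h0' (s3 * s4)⁻¹
    rwa [ev_smul, inv_mul_cancel₀ (mul_ne_zero hs3 hs4)] at this
  have h1' : ev m 1 (-s3) ∈ Cov H := by
    have := Cov_sub hξ h0'
    rwa [add_sub_cancel_right] at this
  have h1 : ev m 1 (1 : F) ∈ Cov H := by
    have := Cov_smul h1' (-s3)⁻¹
    rwa [ev_smul, inv_mul_cancel₀ (neg_ne_zero.mpr hs3)] at this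
  apply eq_top_of_Cov
  intro j
  rw [single_eq_ev]
  rcases Nat.lt_or_ge j.val 2 with hj | hj
  · interval_cases hjv : j.val
    · exact h0
    · exact h1
  · have := hup (j.val - 2)
    rwa [show 2 + (j.val - 2) = j.val by omega] at this

end Cfsg.Agent.Helper4.RU2
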