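import Mathlib
import Cfsg.Agent.Helper4.RU2Defs
import Cfsg.Agent.Helper4.RU2Prop

set_option autoImplicit false
set_option linter.unusedSectionVars false
set_option linter.unusedVariables false

/-! S2279, piece E1: the endgame for `n ≥ 5`. -/

open Matrix

namespace Cfsg.Agent.Helper4.RU2

open Cfsg.Agent.Helper12.TVG Cfsg.Agent.Helper12.RUN

variable {F : Type*} [Field F] {m : ℕ}

/-! ### Matrix actions -/

theorem alt_succ_pow (t : F) (i : ℕ) (hi : 2 ≤ i) :
    ((-1 : F)) ^ (i + 1 - 2) * t = -((-1) ^ (i - 2) * t) := by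
  obtain ⟨d, rfl⟩ : ∃ d, i = d + 2 := ⟨i - 2, by omega⟩
  have : d + 2 + 1 - 2 = d + 1 := by omega
  rw [this, Nat.add_sub_cancel, pow_succ]; ring

theorem wM_mulVec_alt (s3 s4 t : F) :
    wM m s3 s4 *ᵥ (alt m t) = ev m (m + 3) ((-1) ^ (m + 1) * t) := by
  funext i
  rw [wM_mulVec_apply]
  simp only [ev_apply, alt_apply, j0_val, j1_val, Fin.ext_iff, jL_val, jB_val]
  have h1 : ¬ (2 ≤ 1) := by omega
  have h0 : ¬ (2 ≤ 0) := by omega
  simp only [h1, h0, if_false, mul_zero, add_zero, ite_self]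
  by_cases hi2 : 2 ≤ i.val
  · by_cases hiL : i.val = m + 3
    · have : ¬ (2 ≤ i.val ∧ i.val + 1 < m + 4) := by omega
      rw [if_pos hi2, dif_neg this, if_pos hiL, hiL]
      have : m + 3 - 2 = m + 1 := by omega
      rw [this, add_zero]
    · have h' : 2 ≤ i.val ∧ i.val + 1 < m + 4 := by have := i.isLt; omega
      have h'' : 2 ≤ i.val + 1 := by omega
      rw [if_pos hi2, dif_pos h', if_neg hiL, if_pos h'', alt_succ_pow t i.val hi2]
      ring
  · have : ¬ (2 ≤ i.val ∧ i.val + 1 < m + 4) := by omega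
    have hiL : ¬ i.val = m + 3 := by omega
    rw [if_neg hi2, dif_neg this, if_neg hiL, add_zero]

theorem uM_mulVec_alt (t : F) :
    uM (m + 4) F *ᵥ (alt m t) = ev m 1 t + ev m (m + 3) ((-1) ^ (m + 1) * t) := by
  funext i
  rw [uM_mulVec_apply]
  simp only [ev_apply, alt_apply, Pi.add_apply]
  by_cases hi2 : 2 ≤ i.val
  · have hi1 : ¬ i.val = 1 := by omega
    by_cases hiL : i.val = m + 3
    · have : ¬ (i.val + 1 < m + 4) := by omega
      rw [if_pos hi2, dif_neg this, if_pos hiL, if_neg hi1, hiL]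
      have : m + 3 - 2 = m + 1 := by omega
      rw [this, add_zero, zero_add]
    · have h' : i.val + 1 < m + 4 := by have := i.isLt; omega
      have h'' : 2 ≤ i.val + 1 := by omega
      rw [if_pos hi2, dif_pos h', if_neg hiL, if_neg hi1, if_pos h'', alt_succ_pow t i.val hi2]
      ring
  · have hiL : ¬ i.val = m + 3 := by omega
    have h' : i.val + 1 < m + 4 := by omega
    rw [if_neg hi2, dif_pos h', if_neg hiL, add_zero, zero_add]
    by_cases hi1 : i.val = 1
    · have h'' : 2 ≤ i.val + 1 := by omega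
      rw [if_pos hi1, if_pos h'', hi1]
      norm_num
    · have h'' : ¬ 2 ≤ i.val + 1 := by omega
      rw [if_neg hi1, if_neg h'']

theorem alt_vecMul_uM : alt m (1 : F) ᵥ* uM (m + 4) F = ev m 2 1 := by
  funext j
  rw [vecMul_uM_apply]
  simp only [ev_apply, alt_apply, mul_one]
  by_cases hj3 : 3 ≤ j.val
  · have h1 : 2 ≤ j.val := by omega
    have h2 : 1 ≤ j.val := by omega
    have h3 : 2 ≤ j.val - 1 := by omega
    have h4 : ¬ j.val = 2 := by omega
    rw [if_pos h1, dif_pos h2, if_pos h3, if_neg h4]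
    obtain ⟨d, hd⟩ : ∃ d, j.val = d + 3 := ⟨j.val - 3, by omega⟩
    have e1 : j.val - 2 = d + 1 := by omega
    have e2 : j.val - 1 - 2 = d := by omega
    rw [e1, e2, pow_succ]; ring
  · by_cases hj2 : j.val = 2
    · have h1 : 2 ≤ j.val := by omega
      have h2 : 1 ≤ j.val := by omega
      have h3 : ¬ 2 ≤ j.val - 1 := by omega
      rw [if_pos h1, dif_pos h2, if_neg h3, if_pos hj2, hj2]
      norm_num
    · have h1 : ¬ 2 ≤ j.val := by omega
      rw [if_neg h1, if_neg hj2]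
      by_cases h2 : 1 ≤ j.val
      · have h3 : ¬ 2 ≤ j.val - 1 := by omega
        rw [dif_pos h2, if_neg h3, add_zero]
      · rw [dif_neg h2, add_zero]

theorem TpM_mulVec_ev1 (s3 s4 t : F) :
    TpM m s3 s4 *ᵥ ev m 1 t = ev m 0 t + ev m 1 ((1 + s4) * t) + ev m (m + 3) (s3 * t) := by
  funext i
  rw [TpM_mulVec_apply]
  simp only [Pi.add_apply, ev_apply, j0_val, j1_val, j2_val, Fin.ext_iff, jL_val]
  have h3 : ¬ (0 = 1) := by omega
  have h4 : ¬ (2 = 1) := by omega
  simp only [h3, h4, if_false, if_true]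
  split_ifs <;> first | (exfalso; omega) | ring

theorem uM_mulVec_x2 (t : F) : uM (m + 4) F *ᵥ (ev m 1 t + ev m 0 (-t)) = ev m 1 t := by
  funext i
  rw [uM_mulVec_apply]
  simp only [Pi.add_apply, ev_apply]
  split_ifs <;> first | (exfalso; omega) | ring

theorem wM_mulVec_x2 (s3 s4 t : F) :
    wM m s3 s4 *ᵥ (ev m 1 t + ev m 0 (-t)) =
      ev m 0 (-t) + ev m 1 ((1 + s4) * t) + ev m (m + 3) (-(s3 * (1 + s4)) * t)
        + ev m (m + 2) (-(s3 * (1 + s4)) * t) := by
  funext i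
  rw [wM_mulVec_apply]
  simp only [Pi.add_apply, ev_apply, j0_val, j1_val, Fin.ext_iff, jL_val, jB_val]
  have h3 : ¬ (0 = 1) := by omega
  have h4 : ¬ (1 = 0) := by omega
  simp only [h3, h4, if_false, if_true]
  split_ifs <;> first | (exfalso; omega) | ring

theorem wM_mulVec_x3 (s3 s4 t : F) :
    wM m s3 s4 *ᵥ (ev m 1 t + ev m (m + 3) (s3 * t)) = ev m 1 t := by
  funext i
  rw [wM_mulVec_apply]
  simp only [Pi.add_apply, ev_apply, j0_val, j1_val, Fin.ext_iff, jL_val, jB_val]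
  have h3 : ¬ (1 = m + 3) := by omega
  have h4 : ¬ (0 = m + 3) := by omega
  simp only [h3, h4, if_false, if_true, zero_ne_one]
  split_ifs <;> first | (exfalso; omega) | ring

theorem uM_mulVec_x3 (s3 t : F) :
    uM (m + 4) F *ᵥ (ev m 1 t + ev m (m + 3) (s3 * t)) =
      ev m 0 t + ev m 1 t + ev m (m + 3) (s3 * t) + ev m (m + 2) (s3 * t) := by
  funext i
  rw [uM_mulVec_apply]
  simp only [Pi.add_apply, ev_apply]
  split_ifs <;> first | (exfalso; omega) | ring

theorem uM_mulVec_ev (j : ℕ) (hj : j + 1 < m + 4) (t : F) :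
    uM (m + 4) F *ᵥ ev m (j + 1) t = ev m (j + 1) t + ev m j t := by
  funext i
  rw [uM_mulVec_apply]
  simp only [Pi.add_apply, ev_apply]
  split_ifs <;> first | (exfalso; omega) | ring

theorem ev2_vecMul_wM (hm : 1 ≤ m) (s3 s4 : F) :
    ev m 2 (1 : F) ᵥ* wM m s3 s4 = ev m 2 1 + ev m 3 1 := by
  funext j
  rw [vecMul_wM_apply]
  simp only [Pi.add_apply, ev_apply, j1_val, jL_val, jB_val]
  have h3 : ¬ (1 = 2) := by omega
  have h4 : ¬ (m + 3 = 2) := by omega
  have h5 : ¬ (m + 2 = 2) := by omega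
  simp only [h3, h4, h5, if_false, if_true]
  split_ifs <;> first | (exfalso; omega) | ring

theorem ev2_vecMul_TpM (s3 s4 : F) : ev m 2 (1 : F) ᵥ* TpM m s3 s4 = ev m 2 1 := by
  funext j
  rw [vecMul_TpM_apply]
  simp only [Pi.add_apply, ev_apply, j0_val, j1_val, jL_val]
  have h3 : ¬ (1 = 2) := by omega
  have h4 : ¬ (m + 3 = 2) := by omega
  have h5 : ¬ (0 = 2) := by omega
  simp only [h3, h4, h5, if_false, if_true]
  split_ifs <;> first | (exfalso; omega) | ring

theorem dot_ev (f : Fin (m + 4) → F) (k : ℕ) (h : k < m + 4) (s : F) :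
    f ⬝ᵥ ev m k s = f ⟨k, h⟩ * s := by
  unfold dotProduct
  simp only [ev_apply]
  rw [sum_mul_ite_val, dif_pos h]

theorem ev_zsmul (k : ℕ) (z : ℤ) (t : F) : ev m k ((z : F) * t) = z • ev m k t := by
  funext i
  simp only [ev_apply, Pi.smul_apply, zsmul_eq_mul]
  split_ifs <;> simp


/-! ### The endgame -/

theorem cov3_E1 (hm : 1 ≤ m) {H : Subgroup (SpecialLinearGroup (Fin (m + 4)) F)} {s3 s4 κ : F}
    (S : Setup H s3 s4 κ) (hκ : κ ≠ 0) (hs3 : s3 ≠ 0) (hs4 : s4 ≠ 0) (k : ℤ) (hk : s4 = (k : F))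
    (hgen : Subring.closure {s3 * s4} = ⊤) : ev m 2 (1 : F) ∈ Cov H := by
  subst hk
  set M3 := Mod H (ev m 2 (1 : F)) with hM3
  have c1 : ev m 2 (1 : F) ᵥ* uM (m + 4) F = ev m 2 1 + ev m 3 1 := ev_vecMul_uM 2 1
  have c2 := ev2_vecMul_wM (F := F) hm s3 (k : F)
  have c3 := ev2_vecMul_TpM (m := m) s3 (k : F)
  have hub_wu : ∀ x, wM m s3 (k : F) *ᵥ x ∈ M3 → uM (m + 4) F *ᵥ x ∈ M3 := fun x hx =>
    Mod_conj' S.hu c1 (Mod_conj_inv' S.hw c2 hx)
  have hub_uw : ∀ x, uM (m + 4) F *ᵥ x ∈ M3 → wM m s3 (k : F) *ᵥ x ∈ M3 := fun x hx =>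
    Mod_conj' S.hw c2 (Mod_conj_inv' S.hu c1 hx)
  have tp : ∀ v, v ∈ M3 → TpM m s3 (k : F) *ᵥ v ∈ M3 := fun v hv => Mod_act' S.hT c3 hv
  have hsign : ∀ (a : ℕ) (t : F) (j : ℕ), ev m a t ∈ M3 → ev m a ((-1) ^ j * t) ∈ M3 := by
    intro a t j h
    rcases neg_one_pow_eq_or F j with e | e
    · rw [e, one_mul]; exact h
    · rw [e, neg_one_mul, ev_neg]; exact M3.neg_mem h
  -- Step 1: from `e_n` to `e_2`
  have step1 : ∀ t, ev m (m + 3) t ∈ M3 → ev m 1 t ∈ M3 := by
    intro t ht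
    have h1 : wM m s3 (k : F) *ᵥ alt m t ∈ M3 := by
      rw [wM_mulVec_alt]; exact hsign _ _ _ ht
    have h2 := hub_wu _ h1
    rw [uM_mulVec_alt] at h2
    have := M3.sub_mem h2 (hsign _ _ (m + 1) ht)
    rwa [add_sub_cancel_right] at this
  -- Steps 2-6
  have step2 : ∀ t, ev m 1 t ∈ M3 →
      ev m (m + 2) (s3 * t) ∈ M3 ∧ ev m (m + 3) (s3 * (k : F) * t) ∈ M3 ∧
        ev m 0 t + ev m 1 ((1 + (k : F)) * t) + ev m (m + 3) (s3 * t) ∈ M3 := by
    intro t ht
    have h4 := tp _ ht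
    rw [TpM_mulVec_ev1] at h4
    have h2 : wM m s3 (k : F) *ᵥ (ev m 1 t + ev m 0 (-t)) ∈ M3 :=
      hub_uw _ (by rw [uM_mulVec_x2]; exact ht)
    rw [wM_mulVec_x2] at h2
    have h3 : uM (m + 4) F *ᵥ (ev m 1 t + ev m (m + 3) (s3 * t)) ∈ M3 :=
      hub_wu _ (by rw [wM_mulVec_x3]; exact ht)
    rw [uM_mulVec_x3] at h3
    have hB : ev m (m + 2) (s3 * t) ∈ M3 := by
      have e : ev m (m + 2) (s3 * t) =
          (ev m 0 t + ev m 1 t + ev m (m + 3) (s3 * t) + ev m (m + 2) (s3 * t))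
          - (ev m 0 t + ev m 1 ((1 + (k : F)) * t) + ev m (m + 3) (s3 * t)) + k • ev m 1 t := by
        funext i
        simp only [Pi.add_apply, Pi.sub_apply, Pi.smul_apply]
        simp only [zsmul_eq_mul, ev_apply]
        split_ifs <;> first | (exfalso; omega) | ring
      rw [e]; exact M3.add_mem (M3.sub_mem h3 h4) (M3.zsmul_mem ht k)
    have hL : ev m (m + 3) (s3 * (k : F) * t) ∈ M3 := by
      have e : ev m (m + 3) (s3 * (k : F) * t) =
          -((ev m 0 (-t) + ev m 1 ((1 + (k : F)) * t) + ev m (m + 3) (-(s3 * (1 + (k : F))) * t)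
              + ev m (m + 2) (-(s3 * (1 + (k : F))) * t))
            + (ev m 0 t + ev m 1 ((1 + (k : F)) * t) + ev m (m + 3) (s3 * t))
            - (2 + 2 * k) • ev m 1 t + (1 + k) • ev m (m + 2) (s3 * t)) := by
        funext i
        simp only [Pi.add_apply, Pi.sub_apply, Pi.neg_apply, Pi.smul_apply]
        simp only [zsmul_eq_mul, ev_apply, Int.cast_add, Int.cast_mul, Int.cast_one, Int.cast_ofNat]
        split_ifs <;> first | (exfalso; omega) | ring
      rw [e]
      exact M3.neg_mem (M3.add_mem (M3.sub_mem (M3.add_mem h2 h4) (M3.zsmul_mem ht _))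
        (M3.zsmul_mem hB _))
    exact ⟨hB, hL, h4⟩
  -- the scalars `r` with `r A ⊆ A` form a subring containing `s3 s4`
  have hLc : ∀ t, ev m (m + 3) t ∈ M3 → ev m (m + 3) (s3 * (k : F) * t) ∈ M3 :=
    fun t ht => (step2 t (step1 t ht)).2.1
  let R : Subring F :=
    { carrier := {r | ∀ t, ev m (m + 3) t ∈ M3 → ev m (m + 3) (r * t) ∈ M3}
      mul_mem' := fun {a b} ha hb t ht => by rw [mul_assoc]; exact ha _ (hb _ ht)
      one_mem' := fun t ht => by rwa [one_mul]
      add_mem' := fun {a b} ha hb t ht => by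
        rw [add_mul, ev_add]; exact M3.add_mem (ha t ht) (hb t ht)
      zero_mem' := fun t ht => by rw [zero_mul, ev_zero]; exact M3.zero_mem
      neg_mem' := fun {a} ha t ht => by rw [neg_mul, ev_neg]; exact M3.neg_mem (ha t ht) }
  have hR : ∀ r : F, r ∈ R := by
    have : Subring.closure {s3 * (k : F)} ≤ R := by
      rw [Subring.closure_le]
      intro x hx
      rw [Set.mem_singleton_iff] at hx
      subst hx
      exact hLc
    rw [hgen] at this
    exact fun r => this (Subring.mem_top r)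
  have PL : ∀ t, ev m (m + 3) t ∈ M3 := by
    intro t
    have := hR (t * κ⁻¹) κ S.seed
    rwa [mul_assoc, inv_mul_cancel₀ hκ, mul_one] at this
  have P1 : ∀ t, ev m 1 t ∈ M3 := fun t => step1 t (PL t)
  have PB : ∀ t, ev m (m + 2) t ∈ M3 := by
    intro t
    have := (step2 (s3⁻¹ * t) (P1 _)).1
    rwa [← mul_assoc, mul_inv_cancel₀ hs3, one_mul] at this
  have P0 : ∀ t, ev m 0 t ∈ M3 := by
    intro t
    have h4 := (step2 t (P1 t)).2.2
    have := M3.sub_mem (M3.sub_mem h4 (PL (s3 * t))) (P1 ((1 + (k : F)) * t))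
    rwa [add_sub_cancel_right, add_sub_cancel_right] at this
  -- descent
  have desc : ∀ j, 3 ≤ j → j + 1 < m + 4 → (∀ t, ev m (j + 1) t ∈ M3) → ∀ t, ev m j t ∈ M3 := by
    intro j hj3 hjlt hP t
    have h1 : uM (m + 4) F *ᵥ ev m (j + 1) t ∈ Mod H (alt m 1) :=
      Mod_conj' S.hu alt_vecMul_uM (hP t)
    rw [uM_mulVec_ev j hjlt] at h1
    have hφw : ev m 2 (1 : F) ⬝ᵥ (ev m (j + 1) t + ev m j t) = 0 := by
      rw [dotProduct_add, ev_dot_ev_ne _ _ (by omega), ev_dot_ev_ne _ _ (by omega), add_zero]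
    have h2 := Mod_transvect h1 hφw (PL ((-1) ^ (m + 1)))
    rw [dot_ev _ _ (by omega)] at h2
    have e : alt m (1 : F) ⟨m + 3, by omega⟩ * (-1) ^ (m + 1) = 1 := by
      simp only [alt_apply]
      rw [if_pos (by omega), mul_one]
      have : m + 3 - 2 = m + 1 := by omega
      rw [this, ← pow_add, ← two_mul, pow_mul]
      norm_num
    rw [e, one_smul] at h2
    have := M3.sub_mem h2 (hP t)
    rwa [add_sub_cancel_left] at this
  have Pall : ∀ d, d ≤ m → ∀ t, ev m (m + 3 - d) t ∈ M3 := by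
    intro d
    induction d with
    | zero => intro _; exact PL
    | succ d ih =>
      intro hd t
      refine desc (m + 3 - (d + 1)) (by omega) (by omega) ?_ t
      have := ih (by omega)
      rwa [show m + 3 - (d + 1) + 1 = m + 3 - d by omega]
  apply mem_Cov_of_Mod
  intro v hv
  have hv2 : v ⟨2, by omega⟩ = 0 := by
    rw [dotProduct_comm, dot_ev _ 2 (by omega), mul_one] at hv; exact hv
  rw [← Finset.univ_sum_single v]
  apply AddSubgroup.sum_mem
  intro j _
  rw [single_eq_ev]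
  rcases Nat.lt_or_ge j.val 3 with h | h
  · interval_cases hj : j.val
    · exact P0 _
    · exact P1 _
    · have : j = ⟨2, by omega⟩ := Fin.ext hj
      rw [this, hv2, ev_zero]; exact M3.zero_mem
  · have := Pall (m + 3 - j.val) (by have := j.isLt; omega) (v j)
    rwa [show m + 3 - (m + 3 - j.val) = j.val by have := j.isLt; omega] at this

end Cfsg.Agent.Helper4.RU2
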