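import Mathlib
import Cfsg.Agent.Helper4.RU2Defs
import Cfsg.Agent.Lead.RU2TW
import Cfsg.Agent.Lead.RU2ZI
import Cfsg.Agent.Helper4.RU2Prop
import Cfsg.Agent.Helper4.RU2E1
import Cfsg.Agent.Helper4.RU2CJ
import Cfsg.Agent.Lead.RU2SP

set_option autoImplicit false
set_option linter.unusedSectionVars false
set_option linter.unusedVariables false

open Matrix Polynomial

namespace Cfsg.Agent.Helper4.RU2

open Cfsg.Agent.Helper12.TVG Cfsg.Agent.Helper12.RUN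

variable {F : Type*} [Field F] {m : ℕ}

theorem InH_pow {ι : Type*} [Fintype ι] [DecidableEq ι] {H : Subgroup (SpecialLinearGroup ι F)}
    {A : Matrix ι ι F} (hA : InH H A) (k : ℕ) : InH H (A ^ k) := by
  induction k with
  | zero => rw [pow_zero]; exact InH_one H
  | succ k ih => rw [pow_succ]; exact InH_mul ih hA

/-- The seed: from `u, w ∈ H` and the divisibility, the full `Setup`. -/
theorem setup_of_dvd {H : Subgroup (SpecialLinearGroup (Fin (m + 4)) F)} {s3 s4 : F}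
    (hu : InH H (uM (m + 4) F)) (hw : InH H (wM m s3 s4)) (hs4 : s4 ≠ 0) (M : ℕ)
    (hdiv : (X ^ 2 - C (2 + s4) * X + 1 : F[X]) ∣ X ^ M - 1) :
    Setup H s3 s4 ((M : F) * s3) := by
  have hT : InH H (TpM m s3 s4) := InH_of_mul_left hw (by rw [Cfsg.Agent.Lead.RU2.wM_mul_TpM]; exact hu)
  refine ⟨hu, hw, hT, ?_, ?_⟩
  · exact ev_dot_ev_ne _ _ (by omega) _ _
  · have h1 := InH_pow hT M
    rw [Cfsg.Agent.Lead.RU2.pow_eq_of_dvd (TpM m s3 s4) (vecMulVec (ev m (m + 3) 1) (ev m 2 1)) s3 s4 M hs4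
      (Cfsg.Agent.Lead.RU2.TpM_Z s3 s4) (Cfsg.Agent.Lead.RU2.TpM_sub_one_mul_E s3 s4) hdiv] at h1
    have e : TM (ev m (m + 3) ((M : F) * s3)) (ev m 2 (1 : F)) =
        1 + ((M : F) * s3) • vecMulVec (ev m (m + 3) 1) (ev m 2 1) := by
      unfold TM
      rw [← smul_vecMulVec, ev_smul, mul_one]
    rw [e]; exact h1

/-! ### Consequences of the conjugacy `h w = u h` -/

theorem hM_det_ne_zero {s3 s4 : F} (hs3 : s3 ≠ 0) (hs4 : s4 ≠ 0) : (hM m s3 s4).det ≠ 0 := by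
  rw [det_hM]; exact mul_ne_zero (pow_ne_zero 2 hs3) hs4

theorem wM_det {s3 s4 : F} (hs3 : s3 ≠ 0) (hs4 : s4 ≠ 0) : (wM m s3 s4).det = 1 := by
  have h := congrArg Matrix.det (hM_mul_wM (m := m) s3 s4)
  rw [det_mul, det_mul, uM_det, one_mul] at h
  have h0 := hM_det_ne_zero (m := m) hs3 hs4
  exact mul_left_cancel₀ h0 (by rw [h, mul_one])

theorem hM_mul_wM_sub_one_pow (s3 s4 : F) (k : ℕ) :
    hM m s3 s4 * (wM m s3 s4 - 1) ^ k = (NM (m + 4) F) ^ k * hM m s3 s4 := by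
  induction k with
  | zero => simp
  | succ k ih =>
    rw [pow_succ, ← Matrix.mul_assoc, ih, Matrix.mul_assoc, pow_succ, Matrix.mul_assoc]
    congr 1
    rw [Matrix.mul_sub, Matrix.mul_one, hM_mul_wM]
    unfold uM
    rw [Matrix.add_mul, Matrix.one_mul, add_sub_cancel_left]

theorem wM_regular {s3 s4 : F} (hs3 : s3 ≠ 0) (hs4 : s4 ≠ 0) :
    IsNilpotent (wM m s3 s4 - 1) ∧ (wM m s3 s4 - 1) ^ (m + 4 - 1) ≠ 0 := by
  have hdet : IsUnit (hM m s3 s4).det := (hM_det_ne_zero hs3 hs4).isUnit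
  constructor
  · refine ⟨m + 4, ?_⟩
    have h := hM_mul_wM_sub_one_pow (m := m) s3 s4 (m + 4)
    rw [NM_pow_n, Matrix.zero_mul] at h
    have h2 := congrArg (fun X => (hM m s3 s4)⁻¹ * X) h
    simp only [← Matrix.mul_assoc, Matrix.nonsing_inv_mul _ hdet, Matrix.one_mul,
      Matrix.mul_zero] at h2
    exact h2
  · intro h0
    have h := hM_mul_wM_sub_one_pow (m := m) s3 s4 (m + 4 - 1)
    rw [h0, Matrix.mul_zero] at h
    have h2 := congrArg (fun X => X * (hM m s3 s4)⁻¹) h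
    simp only [Matrix.mul_assoc, Matrix.mul_nonsing_inv _ hdet, Matrix.mul_one,
      Matrix.zero_mul] at h2
    exact NM_pow_pred_ne_zero (by omega) h2.symm

/-- The second generator as an element of `SL_n(F)`. -/
def wS (m : ℕ) (s3 s4 : F) (hs3 : s3 ≠ 0) (hs4 : s4 ≠ 0) : SpecialLinearGroup (Fin (m + 4)) F :=
  ⟨wM m s3 s4, wM_det hs3 hs4⟩

theorem wS_conj {s3 s4 : F} (hs3 : s3 ≠ 0) (hs4 : s4 ≠ 0) (h1 : s3 ^ 2 * s4 = 1) :
    ∃ g : SpecialLinearGroup (Fin (m + 4)) F, g * uS (m + 4) F * g⁻¹ = wS m s3 s4 hs3 hs4 := by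
  let hS : SpecialLinearGroup (Fin (m + 4)) F := ⟨hM m s3 s4, by rw [det_hM, h1]⟩
  refine ⟨hS⁻¹, ?_⟩
  have h : hS * wS m s3 s4 hs3 hs4 = uS (m + 4) F * hS := by
    apply Subtype.ext
    exact hM_mul_wM s3 s4
  rw [inv_inv, mul_assoc, ← h, inv_mul_cancel_left]

/-! ### The generation theorem, modulo the endgame -/

theorem gen_main {s3 s4 : F} (hs3 : s3 ≠ 0) (hs4 : s4 ≠ 0) (M : ℕ)
    (hdiv : (X ^ 2 - C (2 + s4) * X + 1 : F[X]) ∣ X ^ M - 1)
    (hE : ∀ H : Subgroup (SpecialLinearGroup (Fin (m + 4)) F),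
      Setup H s3 s4 ((M : F) * s3) → ev m 2 (1 : F) ∈ Cov H) :
    Subgroup.closure {uS (m + 4) F, wS m s3 s4 hs3 hs4} = ⊤ := by
  set H := Subgroup.closure {uS (m + 4) F, wS m s3 s4 hs3 hs4} with hH
  have hu : InH H (uM (m + 4) F) :=
    ⟨uS (m + 4) F, Subgroup.subset_closure (by simp), rfl⟩
  have hw : InH H (wM m s3 s4) :=
    ⟨wS m s3 s4 hs3 hs4, Subgroup.subset_closure (by simp), rfl⟩
  have S := setup_of_dvd hu hw hs4 M hdiv
  exact top_of_cov3 S hs3 hs4 (hE H S)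

end Cfsg.Agent.Helper4.RU2
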