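import Mathlib
import Cfsg.Agent.Helper12.RUNB
import Cfsg.Agent.Helper4.RU2Asm
import Cfsg.Agent.Helper5.RU2E3
import Cfsg.Agent.Helper5.RU2E4
import Cfsg.Agent.Helper7.RU2E2
import Cfsg.Agent.Helper20.RU2PAR

set_option autoImplicit false
set_option linter.unusedSectionVars false
set_option linter.unusedVariables false

open Matrix Polynomial

namespace Cfsg.Agent.Helper4.RU2

open Cfsg.Agent.Helper12.TVG Cfsg.Agent.Helper12.RUN

variable {F : Type*} [Field F] {m : ℕ}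

/-- Regular unipotent. -/
def IsRU {n : ℕ} (u : SpecialLinearGroup (Fin n) F) : Prop :=
  IsNilpotent ((u : Matrix (Fin n) (Fin n) F) - 1) ∧
    ((u : Matrix (Fin n) (Fin n) F) - 1) ^ (n - 1) ≠ 0

theorem wS_isRU {s3 s4 : F} (hs3 : s3 ≠ 0) (hs4 : s4 ≠ 0) : IsRU (wS m s3 s4 hs3 hs4) :=
  wM_regular hs3 hs4

theorem uS_isRU : IsRU (uS (m + 4) F) := uS_regular (by omega)

theorem part1 [Fintype F] (m : ℕ) :
    ∃ u v : SpecialLinearGroup (Fin (m + 4)) F, IsRU u ∧ IsRU v ∧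
      Subgroup.closure ({u, v} : Set (SpecialLinearGroup (Fin (m + 4)) F)) = ⊤ := by
  by_cases h2 : ringChar F = 2
  · haveI : CharP F 2 := ringChar.of_eq h2
    obtain ⟨δ, hδ0, hδ⟩ := exists_ring_gen F
    have hs4 : (1 : F) ≠ 0 := one_ne_zero
    refine ⟨uS (m + 4) F, wS m δ 1 hδ0 hs4, uS_isRU, wS_isRU hδ0 hs4, ?_⟩
    apply gen_main hδ0 hs4 3 Cfsg.Agent.Helper20.RU2.dvd_char_two
    intro H S
    have h3 : ((3 : ℕ) : F) = 1 := by
      have : (2 : F) = 0 := CharTwo.two_eq_zero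
      push_cast; linear_combination this
    have hκ : ((3 : ℕ) : F) * δ ≠ 0 := by rw [h3, one_mul]; exact hδ0
    rcases Nat.eq_zero_or_pos m with rfl | hm
    · exact Cfsg.Agent.Helper5.RU2.cov3_E3 S hκ hδ0 hδ
    · exact cov3_E1 hm S hκ hδ0 hs4 1 (by simp) (by rwa [mul_one])
  · have h2' : (2 : F) ≠ 0 := Ring.two_ne_zero h2
    have hs4 : (-2 : F) ≠ 0 := neg_ne_zero.mpr h2'
    have h4 : ((4 : ℕ) : F) ≠ 0 := by
      have : ((4 : ℕ) : F) = 2 * 2 := by push_cast; ring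
      rw [this]; exact mul_ne_zero h2' h2'
    rcases Nat.eq_zero_or_pos m with rfl | hm
    · obtain ⟨δ, hδ0, hδ⟩ := Cfsg.Agent.Helper20.RU2.exists_sq_gen F h2
      refine ⟨uS (0 + 4) F, wS 0 δ (-2) hδ0 hs4, uS_isRU, wS_isRU hδ0 hs4, ?_⟩
      apply gen_main hδ0 hs4 4 Cfsg.Agent.Helper20.RU2.dvd_odd
      intro H S
      refine Cfsg.Agent.Helper7.RU2.cov3_E2 S (mul_ne_zero h4 hδ0) hδ0 hs4 ?_ (-2) 4 (by simp) (by simp) hδ
      intro h; apply one_ne_zero (α := F); linear_combination -h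
    · obtain ⟨δ, hδ0, hδ⟩ := exists_ring_gen F
      have hs3 : δ * (-2 : F)⁻¹ ≠ 0 := mul_ne_zero hδ0 (inv_ne_zero hs4)
      refine ⟨uS (m + 4) F, wS m (δ * (-2 : F)⁻¹) (-2) hs3 hs4, uS_isRU, wS_isRU hs3 hs4, ?_⟩
      apply gen_main hs3 hs4 4 Cfsg.Agent.Helper20.RU2.dvd_odd
      intro H S
      refine cov3_E1 hm S (mul_ne_zero h4 hs3) hs3 hs4 (-2) (by simp) ?_
      rw [mul_assoc, inv_mul_cancel₀ hs4, mul_one]; exact hδ

theorem part2_aux [Fintype F] (m : ℕ) (hp : (Fintype.card F).Prime) {s3 s4 : F} (hs3 : s3 ≠ 0)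
    (hs4 : s4 ≠ 0) (h1 : s3 ^ 2 * s4 = 1) (M : ℕ) (hM : (M : F) ≠ 0)
    (hdiv : (X ^ 2 - C (2 + s4) * X + 1 : F[X]) ∣ X ^ M - 1) :
    ∃ u g : SpecialLinearGroup (Fin (m + 4)) F, IsRU u ∧
      Subgroup.closure ({u, g * u * g⁻¹} : Set (SpecialLinearGroup (Fin (m + 4)) F)) = ⊤ := by
  obtain ⟨g, hg⟩ := wS_conj (m := m) hs3 hs4 h1
  refine ⟨uS (m + 4) F, g, uS_isRU, ?_⟩
  rw [hg]
  apply gen_main hs3 hs4 M hdiv
  intro H S
  have hκ : (M : F) * s3 ≠ 0 := mul_ne_zero hM hs3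
  rcases Nat.eq_zero_or_pos m with rfl | hm
  · exact Cfsg.Agent.Helper5.RU2.cov3_E4 S hκ (Cfsg.Agent.Helper20.RU2.int_cast_of_prime hp)
  · obtain ⟨k, hk⟩ := Cfsg.Agent.Helper20.RU2.int_cast_of_prime hp s4
    exact cov3_E1 hm S hκ hs3 hs4 k hk (Cfsg.Agent.Helper20.RU2.closure_eq_top_of_prime hp _)

theorem part2 [Fintype F] (m : ℕ) (hp : (Fintype.card F).Prime) :
    ∃ u g : SpecialLinearGroup (Fin (m + 4)) F, IsRU u ∧
      Subgroup.closure ({u, g * u * g⁻¹} : Set (SpecialLinearGroup (Fin (m + 4)) F)) = ⊤ := by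
  have hc : ((Fintype.card F : ℕ) : F) = 0 := Nat.cast_card_eq_zero F
  have h01 : (1 : F) ≠ 0 := one_ne_zero
  by_cases hp2 : Fintype.card F = 2
  · have h20 : (2 : F) = 0 := by rw [hp2] at hc; exact_mod_cast hc
    haveI : CharP F 2 := CharTwo.of_one_ne_zero_of_two_eq_zero h01 h20
    refine part2_aux m hp (s3 := 1) (s4 := 1) h01 h01 (by ring) 3 ?_ Cfsg.Agent.Helper20.RU2.dvd_char_two
    have : ((3 : ℕ) : F) = 1 := by push_cast; linear_combination h20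
    rw [this]; exact h01
  by_cases hp3 : Fintype.card F = 3
  · have h30 : (3 : F) = 0 := by rw [hp3] at hc; exact_mod_cast hc
    have h2 : (2 : F) ≠ 0 := by
      intro h; apply h01; linear_combination h30 - h
    refine part2_aux m hp (s3 := 1) (s4 := -2) h01 (neg_ne_zero.mpr h2) ?_ 4 ?_ Cfsg.Agent.Helper20.RU2.dvd_odd
    · linear_combination -h30
    · have : ((4 : ℕ) : F) = 1 := by push_cast; linear_combination h30
      rw [this]; exact h01
  by_cases hp5 : Fintype.card F = 5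
  · have h50 : (5 : F) = 0 := by rw [hp5] at hc; exact_mod_cast hc
    have h2 : (2 : F) ≠ 0 := by
      intro h; apply h01; linear_combination h50 - 2 * h
    refine part2_aux m hp (s3 := 2) (s4 := -1) h2 (neg_ne_zero.mpr h01) ?_ 6 ?_ Cfsg.Agent.Helper20.RU2.dvd_five
    · linear_combination -h50
    · have : ((6 : ℕ) : F) = 1 := by push_cast; linear_combination h50
      rw [this]; exact h01
  have h7 : 7 ≤ Fintype.card F := by
    have := hp.two_le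
    by_contra hlt
    push Not at hlt
    interval_cases h : Fintype.card F
    · exact hp2 rfl
    · exact hp3 rfl
    · exact absurd hp (by decide)
    · exact hp5 rfl
    · exact absurd hp (by decide)
  obtain ⟨ν, hν0, hν4⟩ := Cfsg.Agent.Helper20.RU2.exists_nu h7
  have hν2 : ν ^ 2 ≠ 1 := by
    intro h; apply hν4
    have : ν ^ 4 = (ν ^ 2) ^ 2 := by ring
    rw [this, h, one_pow]
  have hβ : ν - ν⁻¹ ≠ 0 := by
    intro h
    apply hν2
    have h' : ν = ν⁻¹ := sub_eq_zero.mp h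
    calc ν ^ 2 = ν * ν := by ring
      _ = ν * ν⁻¹ := by rw [← h']
      _ = 1 := mul_inv_cancel₀ hν0
  have hM : ((Fintype.card F - 1 : ℕ) : F) ≠ 0 := by
    rw [Nat.cast_sub (by omega), hc, Nat.cast_one, zero_sub]
    exact neg_ne_zero.mpr h01
  refine part2_aux m hp (s3 := (ν - ν⁻¹)⁻¹) (s4 := (ν - ν⁻¹) ^ 2) (inv_ne_zero hβ)
    (pow_ne_zero 2 hβ) ?_ (Fintype.card F - 1) hM (Cfsg.Agent.Helper20.RU2.dvd_split ν hν0 hν4)
  rw [inv_pow, inv_mul_cancel₀ (pow_ne_zero 2 hβ)]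

end Cfsg.Agent.Helper4.RU2
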