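import Mathlib
import Cfsg.Agent.Helper28.WittOmega
import Cfsg.Prelude.Def_FischerSpaces
import Cfsg.Prelude.Def_SporadicB

set_option autoImplicit false
set_option linter.style.haveILetI false
set_option linter.unusedSectionVars false

/-!
# Reflections over the field with three elements are 3-transpositions
-/

namespace Cfsg.Agent.Helper4.ReflF3

open Module Submodule Matrix Cfsg.Agent.Helper28.Spin Cfsg.Agent.Helper28.IsoTransport

theorem mul_self_eq_one : ∀ x : ZMod 3, x ≠ 0 → x * x = 1 := by decide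

variable {n : ℕ} (Q : QuadraticForm (ZMod 3) (Fin n → ZMod 3))

/-- Commuting reflections. -/
theorem conj_of_orth (a b : Fin n → ZMod 3) (ha : Q a ≠ 0) (hb : Q b ≠ 0)
    (hP : QuadraticMap.polar ⇑Q a b = 0) :
    reflO Q a ha * reflO Q b hb * reflO Q a ha = reflO Q b hb := by
  set ra := reflO Q a ha with hra
  have hrai : ra⁻¹ = ra := reflO_inv Q a ha
  have hb' : Q (((ra : GL (Fin n) (ZMod 3)) : Matrix (Fin n) (Fin n) (ZMod 3)) *ᵥ b) ≠ 0 := by
    rw [isom_apply]; exact hb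
  have hconj := reflO_conj Q ra b hb hb'
  rw [hrai] at hconj
  have e1 : ((ra : GL (Fin n) (ZMod 3)) : Matrix (Fin n) (Fin n) (ZMod 3)) *ᵥ b = b := by
    show Cfsg.reflectionMatrix ⇑Q a *ᵥ b = b
    exact refl_fix Q hP
  rw [← hconj]
  congr 1

/-- The braid relation for non-orthogonal reflections of equal norm. -/
theorem braid (a b : Fin n → ZMod 3) (ha : Q a ≠ 0) (hb : Q b ≠ 0) (hab : Q a = Q b)
    (hP : QuadraticMap.polar ⇑Q a b ≠ 0) :
    reflO Q a ha * reflO Q b hb * reflO Q a ha = reflO Q b hb * reflO Q a ha * reflO Q b hb := by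
  set ra := reflO Q a ha with hra
  set rb := reflO Q b hb with hrb
  have hrai : ra⁻¹ = ra := reflO_inv Q a ha
  have hrbi : rb⁻¹ = rb := reflO_inv Q b hb
  have hb' : Q (((ra : GL (Fin n) (ZMod 3)) : Matrix (Fin n) (Fin n) (ZMod 3)) *ᵥ b) ≠ 0 := by
    rw [isom_apply]; exact hb
  have ha' : Q (((rb : GL (Fin n) (ZMod 3)) : Matrix (Fin n) (Fin n) (ZMod 3)) *ᵥ a) ≠ 0 := by
    rw [isom_apply]; exact ha
  have hconj := reflO_conj Q ra b hb hb'
  have hconj' := reflO_conj Q rb a ha ha'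
  rw [hrai] at hconj
  rw [hrbi] at hconj'
  set ε := (Q a)⁻¹ * QuadraticMap.polar ⇑Q a b with hε
  have hε0 : ε ≠ 0 := mul_ne_zero (inv_ne_zero ha) hP
  have hε2 : ε * ε = 1 := mul_self_eq_one ε hε0
  have e1 : ((ra : GL (Fin n) (ZMod 3)) : Matrix (Fin n) (Fin n) (ZMod 3)) *ᵥ b = b - ε • a := by
    show Cfsg.reflectionMatrix ⇑Q a *ᵥ b = b - ε • a
    rw [refl_mulVec]
  have e2 : ((rb : GL (Fin n) (ZMod 3)) : Matrix (Fin n) (Fin n) (ZMod 3)) *ᵥ a = a - ε • b := by
    show Cfsg.reflectionMatrix ⇑Q b *ᵥ a = a - ε • b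
    rw [refl_mulVec, QuadraticMap.polar_comm, ← hab]
  have e3 : a - ε • b = (-ε) • (b - ε • a) := by
    rw [smul_sub, smul_smul, neg_mul, hε2]
    simp
    abel
  have hne : -ε ≠ 0 := neg_ne_zero.mpr hε0
  have key : reflO Q (((rb : GL (Fin n) (ZMod 3)) : Matrix (Fin n) (Fin n) (ZMod 3)) *ᵥ a) ha' =
      reflO Q (((ra : GL (Fin n) (ZMod 3)) : Matrix (Fin n) (Fin n) (ZMod 3)) *ᵥ b) hb' := by
    have h1 : Q ((-ε) • (((ra : GL (Fin n) (ZMod 3)) : Matrix (Fin n) (Fin n) (ZMod 3)) *ᵥ b)) ≠ 0 := by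
      rw [e1, ← e3, ← e2]; exact ha'
    rw [← reflO_smul Q _ hb' hne h1]
    congr 1
    rw [e1, e2, e3]
  rw [← hconj, ← hconj', key]

theorem three_trans (a b : Fin n → ZMod 3) (ha : Q a ≠ 0) (hb : Q b ≠ 0) (hab : Q a = Q b) :
    (reflO Q a ha * reflO Q b hb) ^ 2 = 1 ∨ (reflO Q a ha * reflO Q b hb) ^ 3 = 1 := by
  set ra := reflO Q a ha with hra
  set rb := reflO Q b hb with hrb
  have hra2 : ra * ra = 1 := reflO_mul_self Q a ha
  have hrb2 : rb * rb = 1 := reflO_mul_self Q b hb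
  by_cases hP : QuadraticMap.polar ⇑Q a b = 0
  · left
    have e2 := conj_of_orth Q a b ha hb hP
    rw [pow_two]
    calc ra * rb * (ra * rb) = (ra * rb * ra) * rb := by group
      _ = 1 := by rw [e2, hrb2]
  · right
    have e2 := braid Q a b ha hb hab hP
    calc (ra * rb) ^ 3 = (ra * rb * ra) * (rb * ra * rb) := by
          rw [pow_succ, pow_two]
          simp only [mul_assoc]
      _ = (rb * ra * rb) * (rb * ra * rb) := by rw [e2]
      _ = rb * ra * (rb * rb) * ra * rb := by group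
      _ = 1 := by rw [hrb2, mul_one, mul_assoc rb ra ra, hra2, mul_one, hrb2]

/-- Non-orthogonal reflections of equal norm are conjugate under their product. -/
theorem conj_of_not_orth (a b : Fin n → ZMod 3) (ha : Q a ≠ 0) (hb : Q b ≠ 0) (hab : Q a = Q b)
    (hP : QuadraticMap.polar ⇑Q a b ≠ 0) :
    (reflO Q a ha * reflO Q b hb) * reflO Q a ha * (reflO Q a ha * reflO Q b hb)⁻¹ =
      reflO Q b hb := by
  set ra := reflO Q a ha with hra
  set rb := reflO Q b hb with hrb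
  have hra2 : ra * ra = 1 := reflO_mul_self Q a ha
  have hrb2 : rb * rb = 1 := reflO_mul_self Q b hb
  have hrai : ra⁻¹ = ra := reflO_inv Q a ha
  have hrbi : rb⁻¹ = rb := reflO_inv Q b hb
  have e2 := braid Q a b ha hb hab hP
  rw [_root_.mul_inv_rev, hrai, hrbi]
  calc ra * rb * ra * (rb * ra) = (ra * rb * ra) * rb * ra := by group
    _ = (rb * ra * rb) * rb * ra := by rw [e2]
    _ = rb * ra * (rb * rb) * ra := by group
    _ = rb := by rw [hrb2, mul_one, mul_assoc, hra2, mul_one]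

theorem two_mul_ne_zero : ∀ c : ZMod 3, c ≠ 0 → 2 * c ≠ 0 := by decide

theorem polarBilin_isRefl : (QuadraticMap.polarBilin Q).IsRefl := by
  intro x y h
  show QuadraticMap.polar ⇑Q y x = 0
  rw [QuadraticMap.polar_comm]
  exact h

/-- Every scalar is represented. -/
theorem exists_norm (hn : 2 ≤ n) (hQ : (QuadraticMap.polarBilin Q).Nondegenerate) (c : ZMod 3) :
    ∃ v : Fin n → ZMod 3, Q v = c := by
  have hT : (⊤ : Submodule (ZMod 3) (Fin n → ZMod 3)) ⊓
      LinearMap.BilinForm.orthogonal (QuadraticMap.polarBilin Q) ⊤ = ⊥ := by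
    rw [top_inf_eq, eq_bot_iff]
    intro x hx
    rw [LinearMap.BilinForm.mem_orthogonal_iff] at hx
    rw [Submodule.mem_bot]
    apply hQ.1
    intro y
    have := hx y Submodule.mem_top
    have h2 : QuadraticMap.polar ⇑Q y x = 0 := this
    show QuadraticMap.polar ⇑Q x y = 0
    rw [QuadraticMap.polar_comm]
    exact h2
  have h2 : 2 ≤ finrank (ZMod 3) (⊤ : Submodule (ZMod 3) (Fin n → ZMod 3)) := by
    rw [finrank_top, Module.finrank_fintype_fun_eq_card, Fintype.card_fin]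
    exact hn
  obtain ⟨v, _, hv⟩ := Cfsg.Agent.Helper28.WO.exists_mem_eq Q ⊤ hT h2 c
  exact ⟨v, hv⟩

/-- Two orthogonal vectors of norm `c` are both non-orthogonal to a third one. -/
theorem exists_connector (hn : 5 ≤ n) (hQ : (QuadraticMap.polarBilin Q).Nondegenerate)
    {c : ZMod 3} (hc : c ≠ 0) (a b : Fin n → ZMod 3) (hQa : Q a = c) (hQb : Q b = c)
    (hP : QuadraticMap.polar ⇑Q a b = 0) :
    ∃ w : Fin n → ZMod 3, Q w = c ∧ QuadraticMap.polar ⇑Q a w ≠ 0 ∧
      QuadraticMap.polar ⇑Q b w ≠ 0 := by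
  set B := QuadraticMap.polarBilin Q with hB
  have hrefl : B.IsRefl := polarBilin_isRefl Q
  set W : Submodule (ZMod 3) (Fin n → ZMod 3) := Submodule.span (ZMod 3) {a, b} with hW
  set T := LinearMap.BilinForm.orthogonal B W with hT
  have h2c : 2 * c ≠ 0 := two_mul_ne_zero c hc
  have hPaa : QuadraticMap.polar ⇑Q a a = 2 * c := by rw [polar_self', hQa]
  have hPbb : QuadraticMap.polar ⇑Q b b = 2 * c := by rw [polar_self', hQb]
  have hPba : QuadraticMap.polar ⇑Q b a = 0 := by rw [QuadraticMap.polar_comm]; exact hP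
  have hWle : finrank (ZMod 3) W ≤ 2 := by
    classical
    have h1 := finrank_span_finset_le_card (R := ZMod 3) ({a, b} : Finset (Fin n → ZMod 3))
    have h2 : (({a, b} : Finset (Fin n → ZMod 3)) : Set (Fin n → ZMod 3)) = {a, b} := by simp
    rw [h2] at h1
    exact h1.trans Finset.card_le_two
  have hTfin : 2 ≤ finrank (ZMod 3) T := by
    have h2 := LinearMap.BilinForm.finrank_orthogonal hQ W
    rw [Module.finrank_fintype_fun_eq_card, Fintype.card_fin] at h2
    rw [hT, h2]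
    omega
  have hTnd : T ⊓ LinearMap.BilinForm.orthogonal B T = ⊥ := by
    rw [hT, LinearMap.BilinForm.orthogonal_orthogonal hQ hrefl, eq_bot_iff]
    rintro x ⟨hxT, hxW⟩
    rw [Submodule.mem_bot]
    have hxT' : x ∈ LinearMap.BilinForm.orthogonal B W := hxT
    rw [LinearMap.BilinForm.mem_orthogonal_iff] at hxT'
    have hxW' : x ∈ Submodule.span (ZMod 3) {a, b} := hxW
    obtain ⟨α, β, rfl⟩ := Submodule.mem_span_pair.mp hxW'
    have h1 : QuadraticMap.polar ⇑Q a (α • a + β • b) = 0 :=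
      hxT' a (Submodule.subset_span (by simp))
    have h2 : QuadraticMap.polar ⇑Q b (α • a + β • b) = 0 :=
      hxT' b (Submodule.subset_span (by simp))
    rw [QuadraticMap.polar_add_right, QuadraticMap.polar_smul_right,
      QuadraticMap.polar_smul_right, hPaa, hP, smul_eq_mul, smul_eq_mul, mul_zero, add_zero]
      at h1
    rw [QuadraticMap.polar_add_right, QuadraticMap.polar_smul_right,
      QuadraticMap.polar_smul_right, hPbb, hPba, smul_eq_mul, smul_eq_mul, mul_zero, zero_add]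
      at h2
    have hα : α = 0 := (mul_eq_zero.mp h1).resolve_right h2c
    have hβ : β = 0 := (mul_eq_zero.mp h2).resolve_right h2c
    rw [hα, hβ, zero_smul, zero_smul, add_zero]
  obtain ⟨z, hzT, hQz⟩ := Cfsg.Agent.Helper28.WO.exists_mem_eq Q T hTnd hTfin (-c)
  have hzT' : z ∈ LinearMap.BilinForm.orthogonal B W := hzT
  rw [LinearMap.BilinForm.mem_orthogonal_iff] at hzT'
  have haz : QuadraticMap.polar ⇑Q a z = 0 := hzT' a (Submodule.subset_span (by simp))
  have hbz : QuadraticMap.polar ⇑Q b z = 0 := hzT' b (Submodule.subset_span (by simp))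
  refine ⟨a + b + z, ?_, ?_, ?_⟩
  · rw [QuadraticMap.map_add (⇑Q) (a + b) z, QuadraticMap.map_add (⇑Q) a b, hQa, hQb, hQz, hP,
      QuadraticMap.polar_add_left, haz, hbz]
    ring
  · rw [QuadraticMap.polar_add_right, QuadraticMap.polar_add_right, hPaa, hP, haz, add_zero,
      add_zero]
    exact h2c
  · rw [QuadraticMap.polar_add_right, QuadraticMap.polar_add_right, hPbb, hPba, hbz, add_zero,
      zero_add]
    exact h2c

section Main

variable {c : ZMod 3} (hc : c ≠ 0)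

theorem ne_zero_of_eq {v : Fin n → ZMod 3} (hc : c ≠ 0) (hv : Q v = c) : Q v ≠ 0 := by
  rw [hv]; exact hc

theorem mem_reflectionsOfNorm_iff (g : ↥(Cfsg.isometryGroup (ZMod 3) ⇑Q)) :
    g ∈ Cfsg.reflectionsOfNorm (⇑Q) c ↔
      ∃ (v : Fin n → ZMod 3) (hv : Q v = c), g = reflO Q v (ne_zero_of_eq Q hc hv) := by
  constructor
  · rintro ⟨v, hv, hg⟩
    exact ⟨v, hv, Subtype.ext (Units.ext hg)⟩
  · rintro ⟨v, hv, rfl⟩
    exact ⟨v, hv, rfl⟩

theorem reflO_mem (v : Fin n → ZMod 3) (hv : Q v = c) :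
    reflO Q v (ne_zero_of_eq Q hc hv) ∈ Cfsg.reflectionSubgroup (⇑Q) c :=
  Subgroup.subset_closure ((mem_reflectionsOfNorm_iff Q hc _).2 ⟨v, hv, rfl⟩)

theorem reflO_ne_one (v : Fin n → ZMod 3) (hv : Q v ≠ 0) : reflO Q v hv ≠ 1 := by
  intro h
  have h2 : Cfsg.reflectionMatrix ⇑Q v = 1 := by
    have := congrArg (fun g : ↥(Cfsg.isometryGroup (ZMod 3) ⇑Q) =>
      ((g : GL (Fin n) (ZMod 3)) : Matrix (Fin n) (Fin n) (ZMod 3))) h
    exact this
  have h3 := refl_self Q hv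
  rw [h2, Matrix.one_mulVec] at h3
  have h4 : v = 0 := by
    funext i
    have h5 := congrFun h3 i
    simp only [Pi.neg_apply, Pi.zero_apply] at h5 ⊢
    have : ∀ x : ZMod 3, x = -x → x = 0 := by decide
    exact this _ h5
  apply hv
  rw [h4]
  simp

theorem orderOf_reflO (v : Fin n → ZMod 3) (hv : Q v ≠ 0) : orderOf (reflO Q v hv) = 2 := by
  haveI : Fact (Nat.Prime 2) := ⟨Nat.prime_two⟩
  apply orderOf_eq_prime
  · rw [pow_two]
    exact reflO_mul_self Q v hv
  · exact reflO_ne_one Q v hv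

/-- Any two reflections of norm `c` are conjugate in the group they generate. -/
theorem exists_conj (hn : 5 ≤ n) (hQ : (QuadraticMap.polarBilin Q).Nondegenerate)
    (a b : Fin n → ZMod 3) (hQa : Q a = c) (hQb : Q b = c) :
    ∃ x ∈ Cfsg.reflectionSubgroup (⇑Q) c,
      x * reflO Q a (ne_zero_of_eq Q hc hQa) * x⁻¹ = reflO Q b (ne_zero_of_eq Q hc hQb) := by
  have key : ∀ (a b : Fin n → ZMod 3) (hQa : Q a = c) (hQb : Q b = c),
      QuadraticMap.polar ⇑Q a b ≠ 0 → ∃ x ∈ Cfsg.reflectionSubgroup (⇑Q) c,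
      x * reflO Q a (ne_zero_of_eq Q hc hQa) * x⁻¹ = reflO Q b (ne_zero_of_eq Q hc hQb) := by
    intro a b hQa hQb hP
    exact ⟨_, Subgroup.mul_mem _ (reflO_mem Q hc a hQa) (reflO_mem Q hc b hQb),
      conj_of_not_orth Q a b _ _ (hQa.trans hQb.symm) hP⟩
  by_cases hP : QuadraticMap.polar ⇑Q a b = 0
  · obtain ⟨w, hQw, haw, hbw⟩ := exists_connector Q hn hQ hc a b hQa hQb hP
    obtain ⟨x1, hx1, h1⟩ := key a w hQa hQw haw
    obtain ⟨x2, hx2, h2⟩ := key w b hQw hQb (by rw [QuadraticMap.polar_comm]; exact hbw)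
    refine ⟨x2 * x1, Subgroup.mul_mem _ hx2 hx1, ?_⟩
    rw [← h2, ← h1]
    group
  · exact key a b hQa hQb hP

include hc in
theorem main (hn : 5 ≤ n) (hQ : (QuadraticMap.polarBilin Q).Nondegenerate) :
    Cfsg.IsThreeTranspositionClass
      {g : ↥(Cfsg.reflectionSubgroup (⇑Q) c) |
        (g : ↥(Cfsg.isometryGroup (ZMod 3) (⇑Q))) ∈ Cfsg.reflectionsOfNorm (⇑Q) c} := by
  refine ⟨⟨?_, ?_⟩, ?_, ?_⟩
  · intro d hd
    obtain ⟨v, hv, hdv⟩ := (mem_reflectionsOfNorm_iff Q hc _).1 hd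
    rw [← Subgroup.orderOf_coe, hdv]
    exact orderOf_reflO Q v _
  · intro d hd e he
    obtain ⟨v, hv, hdv⟩ := (mem_reflectionsOfNorm_iff Q hc _).1 hd
    obtain ⟨w, hw, hew⟩ := (mem_reflectionsOfNorm_iff Q hc _).1 he
    rcases three_trans Q v w (ne_zero_of_eq Q hc hv) (ne_zero_of_eq Q hc hw) (hv.trans hw.symm)
      with h | h
    · left
      apply Subtype.ext
      rw [Subgroup.coe_pow, Subgroup.coe_mul, hdv, hew, h]
      rfl
    · right
      apply Subtype.ext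
      rw [Subgroup.coe_pow, Subgroup.coe_mul, hdv, hew, h]
      rfl
  · obtain ⟨v0, hv0⟩ := exists_norm Q (by omega) hQ c
    refine ⟨⟨reflO Q v0 (ne_zero_of_eq Q hc hv0), reflO_mem Q hc v0 hv0⟩,
      (mem_reflectionsOfNorm_iff Q hc _).2 ⟨v0, hv0, rfl⟩, ?_⟩
    ext g
    show (g : ↥(Cfsg.isometryGroup (ZMod 3) (⇑Q))) ∈ Cfsg.reflectionsOfNorm (⇑Q) c ↔
      IsConj _ g
    rw [isConj_iff]
    constructor
    · intro hg
      obtain ⟨v, hv, hgv⟩ := (mem_reflectionsOfNorm_iff Q hc _).1 hg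
      obtain ⟨x, hx, hconj⟩ := exists_conj Q hc hn hQ v0 v hv0 hv
      refine ⟨⟨x, hx⟩, ?_⟩
      apply Subtype.ext
      rw [hgv, ← hconj]
      rfl
    · rintro ⟨x, rfl⟩
      have hv' : Q ((((x : ↥(Cfsg.isometryGroup (ZMod 3) (⇑Q))) : GL (Fin n) (ZMod 3)) :
          Matrix (Fin n) (Fin n) (ZMod 3)) *ᵥ v0) = c := by
        rw [isom_apply]; exact hv0
      rw [mem_reflectionsOfNorm_iff Q hc]
      refine ⟨_, hv', ?_⟩
      rw [reflO_conj Q (x : ↥(Cfsg.isometryGroup (ZMod 3) (⇑Q))) v0 (ne_zero_of_eq Q hc hv0)]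
      rfl
  · exact Subgroup.closure_closure_coe_preimage

end Main

end Cfsg.Agent.Helper4.ReflF3
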