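import Mathlib
import Cfsg.Agent.Helper4.ReflF3

set_option autoImplicit false
set_option linter.style.haveILetI false
set_option linter.unusedSectionVars false
set_option linter.unusedVariables false

/-!
# Vectors of given norm in orthogonal spaces over the field with three elements
-/

namespace Cfsg.Agent.Helper4.ReflF3

open Module Submodule Matrix Cfsg.Agent.Helper28.Spin Cfsg.Agent.Helper28.IsoTransport

variable {n : ℕ} (Q : QuadraticForm (ZMod 3) (Fin n → ZMod 3))

/-- The orthogonal complement of a pairwise orthogonal family of at most `n - 2` anisotropic vectors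
represents every scalar. -/
theorem exists_orth_family {k : ℕ} (hk : k + 2 ≤ n)
    (hQ : (QuadraticMap.polarBilin Q).Nondegenerate) (a : Fin k → (Fin n → ZMod 3))
    (ha : ∀ i, Q (a i) ≠ 0) (horth : ∀ i j, i ≠ j → QuadraticMap.polar ⇑Q (a i) (a j) = 0)
    (c : ZMod 3) : ∃ w : Fin n → ZMod 3, Q w = c ∧ ∀ i, QuadraticMap.polar ⇑Q (a i) w = 0 := by
  classical
  set B := QuadraticMap.polarBilin Q with hB
  have hrefl : B.IsRefl := polarBilin_isRefl Q
  set S : Submodule (ZMod 3) (Fin n → ZMod 3) := Submodule.span (ZMod 3) (Set.range a) with hS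
  set T := LinearMap.BilinForm.orthogonal B S with hT
  have hSle : finrank (ZMod 3) S ≤ k := by
    have := finrank_range_le_card (R := ZMod 3) a
    rw [Fintype.card_fin] at this
    exact this
  have hTfin : 2 ≤ finrank (ZMod 3) T := by
    have h2 := LinearMap.BilinForm.finrank_orthogonal hQ S
    rw [Module.finrank_fintype_fun_eq_card, Fintype.card_fin] at h2
    rw [hT, h2]
    omega
  have hTnd : T ⊓ LinearMap.BilinForm.orthogonal B T = ⊥ := by
    rw [hT, LinearMap.BilinForm.orthogonal_orthogonal hQ hrefl, eq_bot_iff]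
    rintro x ⟨hxT, hxS⟩
    rw [Submodule.mem_bot]
    have hxT' : x ∈ LinearMap.BilinForm.orthogonal B S := hxT
    rw [LinearMap.BilinForm.mem_orthogonal_iff] at hxT'
    have hxS' : x ∈ Submodule.span (ZMod 3) (Set.range a) := hxS
    obtain ⟨f, rfl⟩ := (Submodule.mem_span_range_iff_exists_fun (ZMod 3)).mp hxS'
    have hf : ∀ j, f j = 0 := by
      intro j
      have h1 : B (a j) (∑ i, f i • a i) = 0 := hxT' (a j) (Submodule.subset_span ⟨j, rfl⟩)
      rw [map_sum] at h1
      have h2 : ∀ i ∈ Finset.univ, i ≠ j → B (a j) (f i • a i) = 0 := by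
        intro i _ hij
        rw [map_smul]
        have : B (a j) (a i) = 0 := horth j i (Ne.symm hij)
        rw [this, smul_zero]
      rw [Finset.sum_eq_single j h2 (fun h => absurd (Finset.mem_univ j) h), map_smul] at h1
      have h3 : B (a j) (a j) = 2 * Q (a j) := polar_self' Q (a j)
      rw [h3, smul_eq_mul] at h1
      rcases mul_eq_zero.mp h1 with h | h
      · exact h
      · exact absurd h (two_mul_ne_zero _ (ha j))
    simp [hf]
  obtain ⟨w, hwT, hQw⟩ := Cfsg.Agent.Helper28.WO.exists_mem_eq Q T hTnd hTfin c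
  refine ⟨w, hQw, ?_⟩
  intro i
  have hwT' : w ∈ LinearMap.BilinForm.orthogonal B S := hwT
  rw [LinearMap.BilinForm.mem_orthogonal_iff] at hwT'
  exact hwT' (a i) (Submodule.subset_span ⟨i, rfl⟩)

/-- A vector of norm `c` orthogonal to a given anisotropic vector. -/
theorem exists_orth_one (hn : 5 ≤ n) (hQ : (QuadraticMap.polarBilin Q).Nondegenerate)
    (u : Fin n → ZMod 3) (hu : Q u ≠ 0) (c : ZMod 3) :
    ∃ w : Fin n → ZMod 3, Q w = c ∧ QuadraticMap.polar ⇑Q u w = 0 := by
  obtain ⟨w, hw, h⟩ := exists_orth_family Q (k := 1) (by omega) hQ (fun _ => u) (fun _ => hu)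
    (fun i j hij => absurd (Subsingleton.elim i j) hij) c
  exact ⟨w, hw, h 0⟩

/-- A vector of norm `c` orthogonal to two given orthogonal anisotropic vectors. -/
theorem exists_orth_two (hn : 5 ≤ n) (hQ : (QuadraticMap.polarBilin Q).Nondegenerate)
    (u v : Fin n → ZMod 3) (hu : Q u ≠ 0) (hv : Q v ≠ 0) (huv : QuadraticMap.polar ⇑Q u v = 0)
    (c : ZMod 3) :
    ∃ w : Fin n → ZMod 3, Q w = c ∧ QuadraticMap.polar ⇑Q u w = 0 ∧
      QuadraticMap.polar ⇑Q v w = 0 := by
  have hvu : QuadraticMap.polar ⇑Q v u = 0 := by rw [QuadraticMap.polar_comm]; exact huv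
  obtain ⟨w, hw, h⟩ := exists_orth_family Q (k := 2) (by omega) hQ ![u, v]
    (by intro i; fin_cases i <;> simp [hu, hv])
    (by
      intro i j hij
      fin_cases i <;> fin_cases j <;> simp_all) c
  refine ⟨w, hw, ?_, ?_⟩
  · simpa using h 0
  · simpa using h 1

/-- A vector of norm `c` orthogonal to three given pairwise orthogonal anisotropic vectors. -/
theorem exists_orth_three (hn : 5 ≤ n) (hQ : (QuadraticMap.polarBilin Q).Nondegenerate)
    (u v t : Fin n → ZMod 3) (hu : Q u ≠ 0) (hv : Q v ≠ 0) (ht : Q t ≠ 0)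
    (huv : QuadraticMap.polar ⇑Q u v = 0) (hut : QuadraticMap.polar ⇑Q u t = 0)
    (hvt : QuadraticMap.polar ⇑Q v t = 0) (c : ZMod 3) :
    ∃ w : Fin n → ZMod 3, Q w = c ∧ QuadraticMap.polar ⇑Q u w = 0 ∧
      QuadraticMap.polar ⇑Q v w = 0 ∧ QuadraticMap.polar ⇑Q t w = 0 := by
  have hvu : QuadraticMap.polar ⇑Q v u = 0 := by rw [QuadraticMap.polar_comm]; exact huv
  have htu : QuadraticMap.polar ⇑Q t u = 0 := by rw [QuadraticMap.polar_comm]; exact hut
  have htv : QuadraticMap.polar ⇑Q t v = 0 := by rw [QuadraticMap.polar_comm]; exact hvt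
  obtain ⟨w, hw, h⟩ := exists_orth_family Q (k := 3) (by omega) hQ ![u, v, t]
    (by intro i; fin_cases i <;> simp [hu, hv, ht])
    (by
      intro i j hij
      fin_cases i <;> fin_cases j <;> simp_all) c
  refine ⟨w, hw, ?_, ?_, ?_⟩
  · simpa using h 0
  · simpa using h 1
  · simpa using h 2

end Cfsg.Agent.Helper4.ReflF3
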