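import Mathlib
import Cfsg.Agent.Helper4.ReflF3B

set_option autoImplicit false
set_option linter.style.haveILetI false
set_option linter.unusedSectionVars false
set_option linter.unusedVariables false

/-!
# Distinguishing reflections over the field with three elements
-/

namespace Cfsg.Agent.Helper4.ReflF3

open Module Submodule Matrix Cfsg.Agent.Helper28.Spin Cfsg.Agent.Helper28.IsoTransport

theorem zmod3_a : ∀ a c : ZMod 3, c ≠ 0 → a + a * c * (2 * c) = 0 := by decide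
theorem zmod3_b : ∀ p c : ZMod 3, p ≠ 0 → c ≠ 0 → c + (p * c * (p * c)) * c + p * c * p = 0 := by
  decide
theorem zmod3_c : ∀ a c q : ZMod 3, q ≠ 0 → a + (c - a) * q * q = c := by decide
theorem zmod3_d : ∀ p c : ZMod 3, p ≠ 0 → c ≠ 0 → 2 * c + p * c * p = 0 := by decide
theorem zmod3_e : ∀ q : ZMod 3, q ≠ 0 → q * q = 1 := by decide
theorem zmod3_g : ∀ c : ZMod 3, c ≠ 0 → 0 - 2 * (2 * c) = -0 → False := by decide
theorem zmod3_f : ∀ a b : ZMod 3, a + b = 0 → a + -1 * b = 0 → a = 0 := by decide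

variable {n : ℕ} (Q : QuadraticForm (ZMod 3) (Fin n → ZMod 3))

/-- For orthogonal `u, v` of norm `c`: a vector `w` of norm `c` orthogonal to `u`, not orthogonal
to `v`, whose reflection differs from that of `v`. -/
theorem exists_distinguish_orth (hn : 5 ≤ n) (hQ : (QuadraticMap.polarBilin Q).Nondegenerate)
    {c : ZMod 3} (hc : c ≠ 0) (u v : Fin n → ZMod 3) (hQu : Q u = c) (hQv : Q v = c)
    (huv : QuadraticMap.polar ⇑Q u v = 0) :
    ∃ w : Fin n → ZMod 3, Q w = c ∧ QuadraticMap.polar ⇑Q u w = 0 ∧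
      QuadraticMap.polar ⇑Q v w ≠ 0 ∧
      Cfsg.reflectionMatrix ⇑Q w *ᵥ v ≠ Cfsg.reflectionMatrix ⇑Q v *ᵥ v := by
  have hu : Q u ≠ 0 := by rw [hQu]; exact hc
  have hv : Q v ≠ 0 := by rw [hQv]; exact hc
  obtain ⟨t, hQt, hut, hvt⟩ := exists_orth_two Q hn hQ u v hu hv huv c
  have ht : Q t ≠ 0 := by rw [hQt]; exact hc
  obtain ⟨s, hQs, hus, hvs, hts⟩ := exists_orth_three Q hn hQ u v t hu hv ht huv hut hvt (-c)
  have h2c : 2 * c ≠ 0 := two_mul_ne_zero c hc
  have hQw : Q (v + (t + s)) = c := by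
    rw [QuadraticMap.map_add (⇑Q) v (t + s), QuadraticMap.map_add (⇑Q) t s, hQv, hQt, hQs, hts,
      QuadraticMap.polar_add_right, hvt, hvs]
    ring
  have hvw : QuadraticMap.polar ⇑Q v (v + (t + s)) = 2 * c := by
    rw [QuadraticMap.polar_add_right, QuadraticMap.polar_add_right, hvt, hvs, polar_self', hQv]
    ring
  have htw : QuadraticMap.polar ⇑Q t (v + (t + s)) = 2 * c := by
    rw [QuadraticMap.polar_add_right, QuadraticMap.polar_add_right, hts, polar_self', hQt,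
      QuadraticMap.polar_comm, hvt]
    ring
  refine ⟨v + (t + s), hQw, ?_, ?_, ?_⟩
  · rw [QuadraticMap.polar_add_right, QuadraticMap.polar_add_right, huv, hut, hus]
    ring
  · rw [hvw]; exact h2c
  · intro h
    rw [refl_self Q hv, refl_mulVec, hQw, QuadraticMap.polar_comm, hvw] at h
    have e : c⁻¹ * (2 * c) = 2 := by field_simp
    rw [e] at h
    have h1 := congrArg (fun x => QuadraticMap.polar ⇑Q t x) h
    beta_reduce at h1
    rw [QuadraticMap.polar_sub_right, QuadraticMap.polar_smul_right, htw,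
      QuadraticMap.polar_neg_right, QuadraticMap.polar_comm, hvt, smul_eq_mul] at h1
    exact zmod3_g c hc h1

/-- The isotropic vector in the radical of the plane spanned by non-orthogonal `u, v` of norm `c`,
and a vector orthogonal to `u` pairing non-trivially with it. -/
theorem exists_partner (hQ : (QuadraticMap.polarBilin Q).Nondegenerate)
    {c : ZMod 3} (hc : c ≠ 0) (u v : Fin n → ZMod 3) (hQu : Q u = c) (hQv : Q v = c)
    (hp : QuadraticMap.polar ⇑Q u v ≠ 0)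
    (hz : v + (QuadraticMap.polar ⇑Q u v * c) • u ≠ 0) :
    QuadraticMap.polar ⇑Q u (v + (QuadraticMap.polar ⇑Q u v * c) • u) = 0 ∧
    Q (v + (QuadraticMap.polar ⇑Q u v * c) • u) = 0 ∧
    QuadraticMap.polar ⇑Q v (v + (QuadraticMap.polar ⇑Q u v * c) • u) = 0 ∧
    ∃ x : Fin n → ZMod 3, QuadraticMap.polar ⇑Q u x = 0 ∧
      QuadraticMap.polar ⇑Q (v + (QuadraticMap.polar ⇑Q u v * c) • u) x ≠ 0 ∧
      QuadraticMap.polar ⇑Q v x = QuadraticMap.polar ⇑Q (v + (QuadraticMap.polar ⇑Q u v * c) • u) x := by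
  obtain ⟨p, hpdef⟩ : ∃ p : ZMod 3, p = QuadraticMap.polar ⇑Q u v := ⟨_, rfl⟩
  rw [← hpdef] at hp hz ⊢
  have hvu : QuadraticMap.polar ⇑Q v u = p := by rw [QuadraticMap.polar_comm, hpdef]
  have h1 : QuadraticMap.polar ⇑Q u (v + (p * c) • u) = 0 := by
    rw [QuadraticMap.polar_add_right, QuadraticMap.polar_smul_right, polar_self', hQu, ← hpdef,
      smul_eq_mul]
    exact zmod3_a p c hc
  have h2 : Q (v + (p * c) • u) = 0 := by
    rw [QuadraticMap.map_add (⇑Q) v ((p * c) • u), QuadraticMap.map_smul,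
      QuadraticMap.polar_smul_right, hQu, hQv, hvu, smul_eq_mul, smul_eq_mul]
    exact zmod3_b p c hp hc
  have h3 : QuadraticMap.polar ⇑Q v (v + (p * c) • u) = 0 := by
    rw [QuadraticMap.polar_add_right, QuadraticMap.polar_smul_right, polar_self', hQv, hvu,
      smul_eq_mul]
    exact zmod3_d p c hp hc
  refine ⟨h1, h2, h3, ?_⟩
  have hex : ∃ x₀ : Fin n → ZMod 3, QuadraticMap.polar ⇑Q (v + (p * c) • u) x₀ ≠ 0 := by
    by_contra hcon
    push Not at hcon
    apply hz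
    apply hQ.1
    intro y
    exact hcon y
  obtain ⟨x₀, hx₀⟩ := hex
  have h1' : QuadraticMap.polar ⇑Q (v + (p * c) • u) u = 0 := by
    rw [QuadraticMap.polar_comm]; exact h1
  have hux : QuadraticMap.polar ⇑Q u (x₀ + (QuadraticMap.polar ⇑Q u x₀ * c) • u) = 0 := by
    rw [QuadraticMap.polar_add_right, QuadraticMap.polar_smul_right, polar_self', hQu,
      smul_eq_mul]
    exact zmod3_a _ c hc
  refine ⟨x₀ + (QuadraticMap.polar ⇑Q u x₀ * c) • u, hux, ?_, ?_⟩
  · rw [QuadraticMap.polar_add_right, QuadraticMap.polar_smul_right, h1', smul_zero, add_zero]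
    exact hx₀
  · rw [QuadraticMap.polar_add_left, QuadraticMap.polar_smul_left, hux, smul_zero,
      add_zero]

/-- For non-orthogonal `u, v` of norm `c` with different reflections: a vector of norm `c`
orthogonal to `u` and not to `v`. -/
theorem exists_distinguish_nonorth (hQ : (QuadraticMap.polarBilin Q).Nondegenerate)
    {c : ZMod 3} (hc : c ≠ 0) (u v : Fin n → ZMod 3) (hQu : Q u = c) (hQv : Q v = c)
    (hp : QuadraticMap.polar ⇑Q u v ≠ 0)
    (hz : v + (QuadraticMap.polar ⇑Q u v * c) • u ≠ 0) :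
    ∃ w : Fin n → ZMod 3, Q w = c ∧ QuadraticMap.polar ⇑Q u w = 0 ∧
      QuadraticMap.polar ⇑Q v w ≠ 0 := by
  obtain ⟨h1, h2, h3, x, hux, hzx, hvx⟩ := exists_partner Q hQ hc u v hQu hQv hp hz
  obtain ⟨z, hzdef⟩ : ∃ z : Fin n → ZMod 3, z = v + (QuadraticMap.polar ⇑Q u v * c) • u :=
    ⟨_, rfl⟩
  rw [← hzdef] at h1 h2 h3 hzx hvx
  obtain ⟨q, hq⟩ : ∃ q : ZMod 3, q = QuadraticMap.polar ⇑Q z x := ⟨_, rfl⟩
  rw [← hq] at hzx hvx
  have hxz : QuadraticMap.polar ⇑Q x z = q := by rw [QuadraticMap.polar_comm, hq]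
  refine ⟨x + ((c - Q x) * q) • z, ?_, ?_, ?_⟩
  · rw [QuadraticMap.map_add (⇑Q) x, QuadraticMap.map_smul, h2, smul_zero, add_zero,
      QuadraticMap.polar_smul_right, hxz, smul_eq_mul]
    exact zmod3_c (Q x) c q hzx
  · rw [QuadraticMap.polar_add_right, QuadraticMap.polar_smul_right, hux, h1, smul_zero,
      add_zero]
  · rw [QuadraticMap.polar_add_right, QuadraticMap.polar_smul_right, hvx, h3, smul_zero,
      add_zero]
    exact hzx

/-- For non-orthogonal `u, v` of norm `c` with different reflections: a vector of norm `c`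
orthogonal to both. -/
theorem exists_common_orth (hn : 5 ≤ n) (hQ : (QuadraticMap.polarBilin Q).Nondegenerate)
    {c : ZMod 3} (hc : c ≠ 0) (u v : Fin n → ZMod 3) (hQu : Q u = c) (hQv : Q v = c)
    (hp : QuadraticMap.polar ⇑Q u v ≠ 0)
    (hz : v + (QuadraticMap.polar ⇑Q u v * c) • u ≠ 0) :
    ∃ w : Fin n → ZMod 3, Q w = c ∧ QuadraticMap.polar ⇑Q u w = 0 ∧
      QuadraticMap.polar ⇑Q v w = 0 := by
  obtain ⟨h1, h2, h3, x, hux, hzx, hvx⟩ := exists_partner Q hQ hc u v hQu hQv hp hz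
  obtain ⟨z, hzdef⟩ : ∃ z : Fin n → ZMod 3, z = v + (QuadraticMap.polar ⇑Q u v * c) • u :=
    ⟨_, rfl⟩
  rw [← hzdef] at h1 h2 h3 hzx hvx
  obtain ⟨q, hq⟩ : ∃ q : ZMod 3, q = QuadraticMap.polar ⇑Q z x := ⟨_, rfl⟩
  rw [← hq] at hzx hvx
  have hu : Q u ≠ 0 := by rw [hQu]; exact hc
  have hzz : QuadraticMap.polar ⇑Q z z = 0 := by rw [polar_self', h2, mul_zero]
  -- x₁ = q • x pairs to 1 with z
  obtain ⟨x₁, hx₁⟩ : ∃ x₁ : Fin n → ZMod 3, x₁ = q • x := ⟨_, rfl⟩
  have hzx₁ : QuadraticMap.polar ⇑Q z x₁ = 1 := by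
    rw [hx₁, QuadraticMap.polar_smul_right, ← hq, smul_eq_mul]
    exact zmod3_e q hzx
  have hux₁ : QuadraticMap.polar ⇑Q u x₁ = 0 := by
    rw [hx₁, QuadraticMap.polar_smul_right, hux, smul_zero]
  have hx₁z : QuadraticMap.polar ⇑Q x₁ z = 1 := by rw [QuadraticMap.polar_comm]; exact hzx₁
  -- f = x₁ - Q x₁ • z is isotropic, pairs to 1 with z, orthogonal to u
  obtain ⟨f, hf⟩ : ∃ f : Fin n → ZMod 3, f = x₁ + (-Q x₁) • z := ⟨_, rfl⟩
  have hQf : Q f = 0 := by
    rw [hf, QuadraticMap.map_add (⇑Q) x₁, QuadraticMap.map_smul, h2, smul_zero, add_zero,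
      QuadraticMap.polar_smul_right, hx₁z, smul_eq_mul]
    ring
  have hzf : QuadraticMap.polar ⇑Q z f = 1 := by
    rw [hf, QuadraticMap.polar_add_right, QuadraticMap.polar_smul_right, hzx₁, hzz, smul_zero,
      add_zero]
  have huf : QuadraticMap.polar ⇑Q u f = 0 := by
    rw [hf, QuadraticMap.polar_add_right, QuadraticMap.polar_smul_right, hux₁, h1, smul_zero,
      add_zero]
  have hfz : QuadraticMap.polar ⇑Q f z = 1 := by rw [QuadraticMap.polar_comm]; exact hzf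
  have hff : QuadraticMap.polar ⇑Q f f = 0 := by rw [polar_self', hQf, mul_zero]
  -- the orthogonal pair a₁ = z + f, a₂ = z - f
  have hQa₁ : Q (z + f) = 1 := by
    rw [QuadraticMap.map_add (⇑Q) z f, h2, hQf, hzf]
    ring
  have hQa₂ : Q (z + (-1 : ZMod 3) • f) = -1 := by
    rw [QuadraticMap.map_add (⇑Q) z, QuadraticMap.map_smul, h2, hQf, smul_zero,
      QuadraticMap.polar_smul_right, hzf, smul_eq_mul]
    ring
  have ha₁a₂ : QuadraticMap.polar ⇑Q (z + f) (z + (-1 : ZMod 3) • f) = 0 := by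
    rw [QuadraticMap.polar_add_left, QuadraticMap.polar_add_right, QuadraticMap.polar_add_right,
      QuadraticMap.polar_smul_right, QuadraticMap.polar_smul_right, hzz, hzf, hfz, hff,
      smul_eq_mul, smul_eq_mul]
    ring
  have hua₁ : QuadraticMap.polar ⇑Q u (z + f) = 0 := by
    rw [QuadraticMap.polar_add_right, h1, huf, add_zero]
  have hua₂ : QuadraticMap.polar ⇑Q u (z + (-1 : ZMod 3) • f) = 0 := by
    rw [QuadraticMap.polar_add_right, QuadraticMap.polar_smul_right, h1, huf, smul_zero, add_zero]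
  have hne₁ : Q (z + f) ≠ 0 := by rw [hQa₁]; decide
  have hne₂ : Q (z + (-1 : ZMod 3) • f) ≠ 0 := by rw [hQa₂]; decide
  obtain ⟨w, hQw, huw, ha₁w, ha₂w⟩ := exists_orth_three Q hn hQ u (z + f) (z + (-1 : ZMod 3) • f)
    hu hne₁ hne₂ hua₁ hua₂ ha₁a₂ c
  refine ⟨w, hQw, huw, ?_⟩
  rw [QuadraticMap.polar_add_left] at ha₁w
  rw [QuadraticMap.polar_add_left, QuadraticMap.polar_smul_left, smul_eq_mul] at ha₂w
  have hzw : QuadraticMap.polar ⇑Q z w = 0 := zmod3_f _ _ ha₁w ha₂w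
  rw [hzdef, QuadraticMap.polar_add_left, QuadraticMap.polar_smul_left, huw, smul_zero,
    add_zero] at hzw
  exact hzw

end Cfsg.Agent.Helper4.ReflF3
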