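import Mathlib
import Cfsg.Agent.Helper4.ReflF3C
import Cfsg.Agent.Helper4.ThreeTransPrimC

set_option autoImplicit false
set_option linter.style.haveILetI false
set_option linter.unusedSectionVars false
set_option linter.unusedVariables false

/-!
# The class of reflections of norm `c` over the field with three elements: commuting structure
-/

namespace Cfsg.Agent.Helper4.ReflF3

open Module Submodule Matrix Cfsg.Agent.Helper28.Spin Cfsg.Agent.Helper28.IsoTransport

variable {n : ℕ} (Q : QuadraticForm (ZMod 3) (Fin n → ZMod 3))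

/-- Orthogonal reflections commute. -/
theorem commute_of_orth (a b : Fin n → ZMod 3) (ha : Q a ≠ 0) (hb : Q b ≠ 0)
    (hP : QuadraticMap.polar ⇑Q a b = 0) : Commute (reflO Q a ha) (reflO Q b hb) := by
  have h := conj_of_orth Q a b ha hb hP
  have h2 := reflO_mul_self Q a ha
  show reflO Q a ha * reflO Q b hb = reflO Q b hb * reflO Q a ha
  calc reflO Q a ha * reflO Q b hb
      = reflO Q a ha * reflO Q b hb * (reflO Q a ha * reflO Q a ha) := by rw [h2, mul_one]
    _ = (reflO Q a ha * reflO Q b hb * reflO Q a ha) * reflO Q a ha := by simp only [mul_assoc]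
    _ = reflO Q b hb * reflO Q a ha := by rw [h]

/-- Commuting non-orthogonal reflections of equal norm coincide. -/
theorem eq_of_commute_of_not_orth (a b : Fin n → ZMod 3) (ha : Q a ≠ 0) (hb : Q b ≠ 0)
    (hab : Q a = Q b) (hP : QuadraticMap.polar ⇑Q a b ≠ 0)
    (hc : Commute (reflO Q a ha) (reflO Q b hb)) : reflO Q a ha = reflO Q b hb := by
  have h := braid Q a b ha hb hab hP
  have ha2 := reflO_mul_self Q a ha
  have hb2 := reflO_mul_self Q b hb
  have e1 : reflO Q a ha * reflO Q b hb * reflO Q a ha = reflO Q b hb := by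
    rw [hc.eq, mul_assoc, ha2, mul_one]
  have e2 : reflO Q b hb * reflO Q a ha * reflO Q b hb = reflO Q a ha := by
    rw [← hc.eq, mul_assoc, hb2, mul_one]
  rw [e1, e2] at h
  exact h.symm

/-- Reflections in orthogonal anisotropic vectors differ. -/
theorem reflO_ne_of_orth (a b : Fin n → ZMod 3) (ha : Q a ≠ 0) (hb : Q b ≠ 0)
    (hP : QuadraticMap.polar ⇑Q a b = 0) : reflO Q a ha ≠ reflO Q b hb := by
  intro h
  have h1 : Cfsg.reflectionMatrix ⇑Q a = Cfsg.reflectionMatrix ⇑Q b := by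
    have := congrArg (fun g : ↥(Cfsg.isometryGroup (ZMod 3) ⇑Q) =>
      ((g : GL (Fin n) (ZMod 3)) : Matrix (Fin n) (Fin n) (ZMod 3))) h
    exact this
  have h2 := refl_self Q ha
  have hP' : QuadraticMap.polar ⇑Q b a = 0 := by rw [QuadraticMap.polar_comm]; exact hP
  rw [h1, refl_fix Q hP'] at h2
  have h4 : a = 0 := by
    funext i
    have h5 := congrFun h2 i
    simp only [Pi.neg_apply, Pi.zero_apply] at h5 ⊢
    have : ∀ x : ZMod 3, x = -x → x = 0 := by decide
    exact this _ h5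
  apply ha
  rw [h4]
  simp

/-- Different matrices give different reflections. -/
theorem reflO_ne_of_mulVec_ne (a b x : Fin n → ZMod 3) (ha : Q a ≠ 0) (hb : Q b ≠ 0)
    (h : Cfsg.reflectionMatrix ⇑Q a *ᵥ x ≠ Cfsg.reflectionMatrix ⇑Q b *ᵥ x) :
    reflO Q a ha ≠ reflO Q b hb := by
  intro heq
  apply h
  have h1 : Cfsg.reflectionMatrix ⇑Q a = Cfsg.reflectionMatrix ⇑Q b := by
    have := congrArg (fun g : ↥(Cfsg.isometryGroup (ZMod 3) ⇑Q) =>
      ((g : GL (Fin n) (ZMod 3)) : Matrix (Fin n) (Fin n) (ZMod 3))) heq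
    exact this
  rw [h1]

/-- If the reflections in non-orthogonal `u, v` of norm `c` differ, the radical vector is non-zero. -/
theorem radical_ne_zero {c : ZMod 3} (hc : c ≠ 0) (u v : Fin n → ZMod 3) (hQu : Q u = c)
    (hQv : Q v = c) (hp : QuadraticMap.polar ⇑Q u v ≠ 0)
    (hne : reflO Q u (ne_zero_of_eq Q hc hQu) ≠ reflO Q v (ne_zero_of_eq Q hc hQv)) :
    v + (QuadraticMap.polar ⇑Q u v * c) • u ≠ 0 := by
  intro h
  apply hne
  have hv : v = (-(QuadraticMap.polar ⇑Q u v * c)) • u := by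
    rw [neg_smul]
    exact eq_neg_of_add_eq_zero_left h
  have ht : -(QuadraticMap.polar ⇑Q u v * c) ≠ 0 := neg_ne_zero.mpr (mul_ne_zero hp hc)
  have hv' : Q ((-(QuadraticMap.polar ⇑Q u v * c)) • u) ≠ 0 := by
    rw [← hv, hQv]; exact hc
  have := reflO_smul Q u (ne_zero_of_eq Q hc hQu) ht hv'
  rw [← this]
  congr 1
  exact hv.symm

section Group

variable {c : ZMod 3} (hc : c ≠ 0)

/-- The class of reflections of norm `c` in the group they generate. -/
def reflClass (Q : QuadraticForm (ZMod 3) (Fin n → ZMod 3)) (c : ZMod 3) :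
    Set ↥(Cfsg.reflectionSubgroup (⇑Q) c) :=
  {g | (g : ↥(Cfsg.isometryGroup (ZMod 3) (⇑Q))) ∈ Cfsg.reflectionsOfNorm (⇑Q) c}

/-- The reflection of `v` as a member of the reflection subgroup. -/
noncomputable def mkR (v : Fin n → ZMod 3) (hv : Q v = c) : ↥(Cfsg.reflectionSubgroup (⇑Q) c) :=
  ⟨reflO Q v (ne_zero_of_eq Q hc hv), reflO_mem Q hc v hv⟩

theorem mkR_mem (v : Fin n → ZMod 3) (hv : Q v = c) : mkR Q hc v hv ∈ reflClass Q c :=
  (mem_reflectionsOfNorm_iff Q hc _).2 ⟨v, hv, rfl⟩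

theorem exists_of_mem {d : ↥(Cfsg.reflectionSubgroup (⇑Q) c)} (hd : d ∈ reflClass Q c) :
    ∃ (v : Fin n → ZMod 3) (hv : Q v = c), d = mkR Q hc v hv := by
  obtain ⟨v, hv, hdv⟩ := (mem_reflectionsOfNorm_iff Q hc _).1 hd
  exact ⟨v, hv, Subtype.ext hdv⟩

theorem commute_mkR_iff (u v : Fin n → ZMod 3) (hu : Q u = c) (hv : Q v = c) :
    Commute (mkR Q hc u hu) (mkR Q hc v hv) ↔
      Commute (reflO Q u (ne_zero_of_eq Q hc hu)) (reflO Q v (ne_zero_of_eq Q hc hv)) := by
  constructor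
  · intro h
    exact congrArg Subtype.val h.eq
  · intro h
    exact Subtype.ext h.eq

theorem mkR_eq_iff (u v : Fin n → ZMod 3) (hu : Q u = c) (hv : Q v = c) :
    mkR Q hc u hu = mkR Q hc v hv ↔
      reflO Q u (ne_zero_of_eq Q hc hu) = reflO Q v (ne_zero_of_eq Q hc hv) := by
  constructor
  · intro h
    exact congrArg Subtype.val h
  · intro h
    exact Subtype.ext h

/-- Commuting different reflections of norm `c` are orthogonal. -/
theorem orth_of_commute_of_ne (u v : Fin n → ZMod 3) (hu : Q u = c) (hv : Q v = c)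
    (hcomm : Commute (mkR Q hc u hu) (mkR Q hc v hv)) (hne : mkR Q hc u hu ≠ mkR Q hc v hv) :
    QuadraticMap.polar ⇑Q u v = 0 := by
  by_contra hP
  apply hne
  rw [mkR_eq_iff]
  rw [commute_mkR_iff] at hcomm
  exact eq_of_commute_of_not_orth Q u v _ _ (hu.trans hv.symm) hP hcomm

include hc in
/-- The `V`-relation is trivial on the class of reflections. -/
theorem V_trivial (hn : 5 ≤ n) (hQ : (QuadraticMap.polarBilin Q).Nondegenerate) :
    ∀ d ∈ reflClass Q c, ∀ e ∈ reflClass Q c,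
      (∀ f ∈ reflClass Q c, Commute d f ↔ Commute e f) → d = e := by
  intro d hd e he h
  obtain ⟨u, hu, rfl⟩ := exists_of_mem Q hc hd
  obtain ⟨v, hv, rfl⟩ := exists_of_mem Q hc he
  by_contra hne
  by_cases hP : QuadraticMap.polar ⇑Q u v = 0
  · obtain ⟨w, hQw, huw, hvw, hwv⟩ := exists_distinguish_orth Q hn hQ hc u v hu hv hP
    have h1 : Commute (mkR Q hc u hu) (mkR Q hc w hQw) := by
      rw [commute_mkR_iff]
      exact commute_of_orth Q u w _ _ huw
    have h2 := (h _ (mkR_mem Q hc w hQw)).mp h1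
    have h3 : mkR Q hc v hv ≠ mkR Q hc w hQw := by
      rw [Ne, mkR_eq_iff]
      exact (reflO_ne_of_mulVec_ne Q w v v _ _ hwv).symm
    exact hvw (orth_of_commute_of_ne Q hc v w hv hQw h2 h3)
  · have h1 := (h _ (mkR_mem Q hc u hu)).mp (Commute.refl _)
    apply hP
    rw [QuadraticMap.polar_comm]
    exact orth_of_commute_of_ne Q hc v u hv hu h1 (Ne.symm hne)

include hc in
/-- The `W`-relation is trivial on the class of reflections. -/
theorem W_trivial (hn : 5 ≤ n) (hQ : (QuadraticMap.polarBilin Q).Nondegenerate) :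
    ∀ d ∈ reflClass Q c, ∀ e ∈ reflClass Q c,
      ThreeTransO3.Th (reflClass Q c) d e → d = e := by
  intro d hd e he h
  obtain ⟨u, hu, rfl⟩ := exists_of_mem Q hc hd
  obtain ⟨v, hv, rfl⟩ := exists_of_mem Q hc he
  by_contra hne
  by_cases hP : QuadraticMap.polar ⇑Q u v = 0
  · have h1 : mkR Q hc v hv ∈ ThreeTransO3.Dset (reflClass Q c) (mkR Q hc u hu) := by
      refine ⟨mkR_mem Q hc v hv, Ne.symm hne, ?_⟩
      rw [commute_mkR_iff]
      exact commute_of_orth Q u v _ _ hP
    rw [h] at h1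
    exact h1.2.1 rfl
  · have hne' : reflO Q u (ne_zero_of_eq Q hc hu) ≠ reflO Q v (ne_zero_of_eq Q hc hv) := by
      rw [Ne, ← mkR_eq_iff]
      exact hne
    have hz := radical_ne_zero Q hc u v hu hv hP hne'
    obtain ⟨w, hQw, huw, hvw⟩ := exists_distinguish_nonorth Q hQ hc u v hu hv hP hz
    have h1 : mkR Q hc w hQw ∈ ThreeTransO3.Dset (reflClass Q c) (mkR Q hc u hu) := by
      refine ⟨mkR_mem Q hc w hQw, ?_, ?_⟩
      · rw [Ne, mkR_eq_iff]
        exact (reflO_ne_of_orth Q u w _ _ huw).symm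
      · rw [commute_mkR_iff]
        exact commute_of_orth Q u w _ _ huw
    rw [h] at h1
    exact hvw (orth_of_commute_of_ne Q hc v w hv hQw h1.2.2 h1.2.1.symm)

include hc in
/-- The commuting graph of the class of reflections is connected. -/
theorem commutingGraph_connected (hn : 5 ≤ n) (hQ : (QuadraticMap.polarBilin Q).Nondegenerate) :
    (Cfsg.commutingGraph (reflClass Q c)).Connected := by
  have hadj : ∀ (u w : Fin n → ZMod 3) (hu : Q u = c) (hw : Q w = c),
      QuadraticMap.polar ⇑Q u w = 0 →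
      (Cfsg.commutingGraph (reflClass Q c)).Adj ⟨mkR Q hc u hu, mkR_mem Q hc u hu⟩
        ⟨mkR Q hc w hw, mkR_mem Q hc w hw⟩ := by
    intro u w hu hw hP
    unfold Cfsg.commutingGraph
    rw [SimpleGraph.fromRel_adj]
    refine ⟨?_, Or.inl ?_⟩
    · intro h
      have h1 := congrArg Subtype.val h
      simp only at h1
      rw [mkR_eq_iff] at h1
      exact reflO_ne_of_orth Q u w _ _ hP h1
    · show Commute (mkR Q hc u hu) (mkR Q hc w hw)
      rw [commute_mkR_iff]
      exact commute_of_orth Q u w _ _ hP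
  obtain ⟨v₀, hv₀⟩ := exists_norm Q (by omega) hQ c
  haveI : Nonempty (reflClass Q c) := ⟨⟨mkR Q hc v₀ hv₀, mkR_mem Q hc v₀ hv₀⟩⟩
  refine ⟨fun x y => ?_⟩
  obtain ⟨d, hd⟩ := x
  obtain ⟨e, he⟩ := y
  obtain ⟨u, hu, rfl⟩ := exists_of_mem Q hc hd
  obtain ⟨v, hv, rfl⟩ := exists_of_mem Q hc he
  by_cases heq : mkR Q hc u hu = mkR Q hc v hv
  · have : (⟨mkR Q hc u hu, hd⟩ : reflClass Q c) = ⟨mkR Q hc v hv, he⟩ := Subtype.ext heq
    rw [this]
  by_cases hP : QuadraticMap.polar ⇑Q u v = 0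
  · exact (hadj u v hu hv hP).reachable
  · have hne' : reflO Q u (ne_zero_of_eq Q hc hu) ≠ reflO Q v (ne_zero_of_eq Q hc hv) := by
      rw [Ne, ← mkR_eq_iff]
      exact heq
    have hz := radical_ne_zero Q hc u v hu hv hP hne'
    obtain ⟨w, hQw, huw, hvw⟩ := exists_common_orth Q hn hQ hc u v hu hv hP hz
    have hwv : QuadraticMap.polar ⇑Q w v = 0 := by rw [QuadraticMap.polar_comm]; exact hvw
    exact (hadj u w hu hQw huw).reachable.trans (hadj w v hQw hv hwv).reachable

include hc in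
/-- The class has at least two members. -/
theorem exists_two (hn : 5 ≤ n) (hQ : (QuadraticMap.polarBilin Q).Nondegenerate) :
    ∃ a ∈ reflClass Q c, ∃ b ∈ reflClass Q c, a ≠ b := by
  obtain ⟨v₀, hv₀⟩ := exists_norm Q (by omega) hQ c
  obtain ⟨w, hQw, hw⟩ := exists_orth_one Q hn hQ v₀ (ne_zero_of_eq Q hc hv₀) c
  refine ⟨mkR Q hc v₀ hv₀, mkR_mem Q hc v₀ hv₀, mkR Q hc w hQw, mkR_mem Q hc w hQw, ?_⟩
  rw [Ne, mkR_eq_iff]
  exact reflO_ne_of_orth Q v₀ w _ _ hw

end Group

end Cfsg.Agent.Helper4.ReflF3
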