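import Mathlib

set_option autoImplicit false

namespace Cfsg.Agent.Helper4

open MulAction

section
variable {G α : Type*} [Group G] [MulAction G α]

/-- A map commuting with a transitive action and fixing a point is the identity. -/
theorem equivariant_fix_eq_id [IsPretransitive G α] (ψ : α → α)
    (hψ : ∀ (g : G) (x : α), ψ (g • x) = g • ψ x) (a : α) (ha : ψ a = a) (x : α) : ψ x = x := by
  obtain ⟨g, rfl⟩ := exists_smul_eq G a x
  rw [hψ, ha]

/-- For a regular action, the equivariant self-map sending `a` to `b`. -/
noncomputable def regMap [IsPretransitive G α] (a b : α) : α → α :=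
  fun x => (Classical.choose (exists_smul_eq G a x)) • b

theorem regMap_spec [IsPretransitive G α] (a x : α) :
    (Classical.choose (exists_smul_eq G a x)) • a = x :=
  Classical.choose_spec (exists_smul_eq G a x)

theorem regMap_smul [IsPretransitive G α] (hreg : ∀ a : α, stabilizer G a = ⊥) (a b : α)
    (h : G) (x : α) : regMap (G := G) a b (h • x) = h • regMap (G := G) a b x := by
  unfold regMap
  have h1 := regMap_spec (G := G) a (h • x)
  have h2 := regMap_spec (G := G) a x
  set g1 := Classical.choose (exists_smul_eq G a (h • x))
  set g2 := Classical.choose (exists_smul_eq G a x)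
  have : (h * g2)⁻¹ * g1 ∈ stabilizer G a := by
    rw [mem_stabilizer_iff, mul_smul, h1, inv_smul_eq_iff, mul_smul, h2]
  rw [hreg a, Subgroup.mem_bot] at this
  have e : g1 = h * g2 := by
    rw [inv_mul_eq_one] at this
    exact this.symm
  rw [e, mul_smul]

theorem regMap_self [IsPretransitive G α] (hreg : ∀ a : α, stabilizer G a = ⊥) (a b : α) :
    regMap (G := G) a b a = b := by
  unfold regMap
  have h1 := regMap_spec (G := G) a a
  set g1 := Classical.choose (exists_smul_eq G a a)
  have : g1 ∈ stabilizer G a := h1
  rw [hreg a, Subgroup.mem_bot] at this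
  rw [this, one_smul]

/-- For a regular action, there is an equivariant permutation sending `a` to `b`. -/
theorem exists_equivariant_perm [IsPretransitive G α] (hreg : ∀ a : α, stabilizer G a = ⊥)
    (a b : α) : ∃ φ : Equiv.Perm α, (∀ (g : G) (x : α), φ (g • x) = g • φ x) ∧ φ a = b := by
  refine ⟨⟨regMap (G := G) a b, regMap (G := G) b a, ?_, ?_⟩, ?_, ?_⟩
  · intro x
    apply equivariant_fix_eq_id (G := G) (fun x => regMap (G := G) b a (regMap (G := G) a b x)) _ a
    · simp only [regMap_self hreg]
    · intro g x
      simp only [regMap_smul hreg]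
  · intro x
    apply equivariant_fix_eq_id (G := G) (fun x => regMap (G := G) a b (regMap (G := G) b a x)) _ b
    · simp only [regMap_self hreg]
    · intro g x
      simp only [regMap_smul hreg]
  · intro g x
    exact regMap_smul hreg a b g x
  · exact regMap_self hreg a b

end

end Cfsg.Agent.Helper4
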