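import Cfsg.Agent.Helper5.S0518Defs
import Cfsg.Agent.S2954
import Cfsg.Agent.S2947
import Cfsg.Agent.Helper15.JComp15

/-! # S0518 board piece GLUE (helper4)

S2947 + S2954 + existence of a lexicographically maximal straddler + the bridge for `hZ`. -/

set_option autoImplicit false

universe u

namespace Cfsg.Agent.S0518P

open Cfsg Subgroup

variable {G : Type u} [Group G]

/-- the two forms of the hypothesis (ZN) agree -/
theorem GLUE_aux_hZ (hZ : ZN G) (S : Sylow 2 G) :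
    centralizer (omegaCenterOf (S : Subgroup G) : Set G) ≤ normalizer ((S : Subgroup G) : Set G) := by
  have h := hZ S
  have hset : {z : G | z ∈ (S : Subgroup G) ∧ z ^ 2 = 1 ∧ ∀ s ∈ (S : Subgroup G), s * z = z * s} =
      {x : G | x ∈ (S : Subgroup G) ⊓ centralizer ((S : Subgroup G) : Set G) ∧ x ^ 2 = 1} := by
    ext z
    simp only [Set.mem_setOf_eq, Subgroup.mem_inf, Subgroup.mem_centralizer_iff, SetLike.mem_coe]
    constructor
    · rintro ⟨h1, h2, h3⟩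
      exact ⟨⟨h1, h3⟩, h2⟩
    · rintro ⟨⟨h1, h3⟩, h2⟩
      exact ⟨h1, h2, h3⟩
  unfold omegaCenterOf omegaOne
  rw [Subgroup.centralizer_closure, ← hset]
  exact h

/-- a lexicographically maximal member of a nonempty finite set, for three `ℕ`-valued functions -/
theorem GLUE_aux_lex {α : Type*} (X : Set α) (hfin : X.Finite) (hne : X.Nonempty) (a j t : α → ℕ) :
    ∃ T₀ ∈ X, ∀ T ∈ X, a T ≤ a T₀ ∧ (a T = a T₀ → j T ≤ j T₀ ∧ (j T = j T₀ → t T ≤ t T₀)) := by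
  obtain ⟨A, hA, hAmax⟩ := Set.exists_max_image X a hfin hne
  let X₁ : Set α := {T | T ∈ X ∧ a T = a A}
  have hX₁fin : X₁.Finite := hfin.subset (fun T hT => hT.1)
  have hX₁ne : X₁.Nonempty := ⟨A, hA, rfl⟩
  obtain ⟨B, hB, hBmax⟩ := Set.exists_max_image X₁ j hX₁fin hX₁ne
  let X₂ : Set α := {T | T ∈ X₁ ∧ j T = j B}
  have hX₂fin : X₂.Finite := hX₁fin.subset (fun T hT => hT.1)
  have hX₂ne : X₂.Nonempty := ⟨B, hB, rfl⟩
  obtain ⟨C, hC, hCmax⟩ := Set.exists_max_image X₂ t hX₂fin hX₂ne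
  have hCa : a C = a A := hC.1.2
  have hCj : j C = j B := hC.2
  refine ⟨C, hC.1.1, fun T hT => ⟨?_, fun h1 => ⟨?_, fun h2 => ?_⟩⟩⟩
  · rw [hCa]; exact hAmax T hT
  · rw [hCj]
    exact hBmax T ⟨hT, by rw [h1, hCa]⟩
  · exact hCmax T ⟨⟨hT, by rw [h1, hCa]⟩, by rw [h2, hCj]⟩

/-- S2947 + S2954 (both on main) + existence of a maximal straddler -/
theorem GLUE [Finite G] (hL : IsCharacteristicTwoType G)
    (hO : pCore 2 G = ⊥) (hN : ∀ N : Subgroup G, IsTwoLocal N → Group.IsSolvable ↥N) (hZ : ZN G) :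
    (∃ K : Subgroup G, IsStronglyEmbedded K) ∨
      ∃ P₁ P₂ T : Subgroup G, P₁ ≠ P₂ ∧ IsMaximalTwoLocal P₁ ∧ IsMaximalTwoLocal P₂ ∧
        IsSylowTwoIn T P₁ ∧ IsSylowTwoIn T P₂ ∧
        ((Nonempty (↥P₁ ≃* Equiv.Perm (Fin 4)) ∧ Nonempty (↥P₂ ≃* Equiv.Perm (Fin 4))) ∨
          (Nonempty (↥P₁ ≃* Equiv.Perm (Fin 4) × Multiplicative (ZMod 2)) ∧
            Nonempty (↥P₂ ≃* Equiv.Perm (Fin 4) × Multiplicative (ZMod 2)))) := by
  haveI : Fact (Nat.Prime 2) := ⟨Nat.prime_two⟩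
  have hZ' := GLUE_aux_hZ hZ
  -- a Sylow 2-subgroup, non-trivial as `|G|` is even
  let S : Sylow 2 G := default
  have hS2 : IsPGroup 2 ↥(S : Subgroup G) := S.isPGroup'
  have hS1 : (S : Subgroup G) ≠ ⊥ := by
    intro h
    have h2 : 2 ∣ Nat.card G := hL.1.two_dvd
    obtain ⟨x, hx⟩ := exists_prime_orderOf_dvd_card' 2 h2
    -- the subgroup generated by `x` is a 2-group, hence conjugate into `S = ⊥`
    have hxp : IsPGroup 2 ↥(zpowers x) := by
      apply IsPGroup.of_card (n := 1)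
      rw [Nat.card_zpowers, hx, pow_one]
    obtain ⟨g, hg⟩ := hxp.exists_le_sylow
    have h3 : x ∈ (g : Subgroup G) := hg (mem_zpowers x)
    have h4 : (g : Subgroup G) = ⊥ := by
      have hc : Nat.card ↥(g : Subgroup G) = Nat.card ↥(S : Subgroup G) := by
        rw [Sylow.card_eq_multiplicity, Sylow.card_eq_multiplicity]
      rw [h, Subgroup.card_bot] at hc
      exact Subgroup.card_eq_one.mp hc
    rw [h4, mem_bot] at h3
    rw [h3, orderOf_one] at hx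
    norm_num at hx
  -- `M = N_G(J(S))`
  have hJ1 : thompsonSubgroupOf 2 (S : Subgroup G) ≠ ⊥ :=
    Cfsg.Agent.Helper15.JComp.thompsonSubgroupOf_ne_bot hS2 hS1
  have hJle : thompsonSubgroupOf 2 (S : Subgroup G) ≤ (S : Subgroup G) := by
    unfold thompsonSubgroupOf
    rintro _ ⟨y, -, rfl⟩
    exact y.2
  have hJ2 : IsPGroup 2 ↥(thompsonSubgroupOf 2 (S : Subgroup G)) := hS2.to_le hJle
  set M : Subgroup G := normalizer (thompsonSubgroupOf 2 (S : Subgroup G) : Set G) with hMdef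
  have hM : IsTwoLocal M := ⟨_, hJ2, hJ1, rfl⟩
  have hMJ : normalizer (thompsonSubgroupOf 2 (S : Subgroup G) : Set G) ≤ M := le_rfl
  have h47 := Cfsg.Agent.S2947.result hL hN hZ' hO S M hM hMJ
  by_cases hemp : straddlingTwoSubgroups M = ∅
  · exact Or.inl ⟨M, h47.mpr hemp⟩
  · right
    have hne : (straddlingTwoSubgroups M).Nonempty := Set.nonempty_iff_ne_empty.mpr hemp
    have hfin : (straddlingTwoSubgroups M).Finite := Set.toFinite _
    obtain ⟨T₀, hT₀, hmax⟩ := GLUE_aux_lex (straddlingTwoSubgroups M) hfin hne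
      (fun T => maxElemAbelianOrder T) (fun T => Nat.card ↥(thompsonSubgroupOf 2 T))
      (fun T => Nat.card ↥T)
    have hT₀max : T₀ ∈ maxStraddlingTwoSubgroups M := ⟨hT₀, hmax⟩
    obtain ⟨P₁, P₂, h⟩ := Cfsg.Agent.S2954.result hL hN hZ' hO S M hM hMJ T₀ hT₀max
    exact ⟨P₁, P₂, T₀, h⟩

end Cfsg.Agent.S0518P
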