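import Mathlib

set_option autoImplicit false

/-! # A subgroup of `Perm α` whose order is divisible by the full `p`-part of `|α|!` contains a `p`-cycle
(helper4; preparatory lemma for S0679). -/

namespace Cfsg.Agent.S0679P.PCyc

open Equiv

variable {α : Type*} [Fintype α] [DecidableEq α]

/-- a `p`-cycle exists in `Perm α` as soon as `2 ≤ p ≤ |α|` -/
theorem exists_cycle {p : ℕ} (hp2 : 2 ≤ p) (hp : p ≤ Fintype.card α) :
    ∃ c : Perm α, c.IsCycle ∧ c.support.card = p := by
  obtain ⟨n, rfl⟩ : ∃ n, p = n + 2 := ⟨p - 2, by omega⟩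
  have hcard : Fintype.card (Fin (n + 2)) ≤ Fintype.card α := by simpa using hp
  obtain ⟨e⟩ := Function.Embedding.nonempty_of_card_le hcard
  refine ⟨(finRotate (n + 2)).extendDomain e.toEquivRange, ?_, ?_⟩
  · exact Equiv.Perm.IsCycle.extendDomain e.toEquivRange (isCycle_finRotate)
  · rw [Equiv.Perm.card_support_extend_domain, support_finRotate, Finset.card_univ, Fintype.card_fin]

/-- the main lemma -/
theorem exists_cycle_mem {p : ℕ} [hpf : Fact p.Prime] (G : Subgroup (Perm α))
    (hp : p ≤ Fintype.card α)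
    (hdvd : p ^ ((Fintype.card α).factorial.factorization p) ∣ Nat.card G) :
    ∃ g ∈ G, g.IsCycle ∧ g.support.card = p := by
  classical
  have hpp : p.Prime := hpf.out
  set k := (Fintype.card α).factorial.factorization p with hk
  have hcardPerm : Nat.card (Perm α) = (Fintype.card α).factorial := by
    rw [Nat.card_eq_fintype_card, Fintype.card_perm]
  -- a Sylow `p`-subgroup of `G`, pushed to `Perm α`
  obtain ⟨P0⟩ : Nonempty (Sylow p G) := inferInstance
  have hP0card : Nat.card (P0 : Subgroup G) = p ^ (Nat.card G).factorization p := P0.card_eq_multiplicity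
  set P1 : Subgroup (Perm α) := (P0 : Subgroup G).map G.subtype with hP1
  have hP1card : Nat.card P1 = Nat.card (P0 : Subgroup G) :=
    Subgroup.card_map_of_injective G.subtype_injective
  have hGpos : Nat.card G ≠ 0 := Nat.card_pos.ne'
  -- `k ≤ v_p |G| ≤ k`
  have h1 : k ≤ (Nat.card G).factorization p :=
    (hpp.pow_dvd_iff_le_factorization hGpos).mp hdvd
  have h2 : (Nat.card G).factorization p ≤ k := by
    have hdvd2 : Nat.card G ∣ Nat.card (Perm α) := Subgroup.card_subgroup_dvd_card G
    rw [hcardPerm] at hdvd2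
    have := (Nat.factorization_le_iff_dvd hGpos (Nat.factorial_ne_zero _)).mpr hdvd2
    exact this p
  have hk' : (Nat.card G).factorization p = k := le_antisymm h2 h1
  have hP1card' : Nat.card P1 = p ^ (Nat.card (Perm α)).factorization p := by
    rw [hP1card, hP0card, hk', hcardPerm]
  let P : Sylow p (Perm α) := Sylow.ofCard P1 hP1card'
  -- a `p`-cycle and a Sylow subgroup containing it
  obtain ⟨c, hc, hcs⟩ := exists_cycle (α := α) hpp.two_le hp
  have hzp : IsPGroup p (Subgroup.zpowers c) := by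
    apply IsPGroup.of_card (n := 1)
    rw [Nat.card_zpowers, hc.orderOf, hcs, pow_one]
  obtain ⟨R, hR⟩ := hzp.exists_le_sylow
  obtain ⟨g, hg⟩ := MulAction.exists_smul_eq (Perm α) R P
  have hcR : c ∈ (R : Subgroup (Perm α)) := hR (Subgroup.mem_zpowers c)
  have hmem : g * c * g⁻¹ ∈ (P : Subgroup (Perm α)) := by
    rw [← hg, Sylow.coe_subgroup_smul]
    have h3 : MulAut.conj g • c = g * c * g⁻¹ := by simp [MulAut.smul_def]
    rw [← h3]
    exact Subgroup.smul_mem_pointwise_smul _ _ _ hcR
  refine ⟨g * c * g⁻¹, ?_, hc.conj, ?_⟩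
  · have : g * c * g⁻¹ ∈ P1 := hmem
    rw [hP1] at this
    obtain ⟨x, _, hx⟩ := this
    rw [← hx]
    exact x.2
  · rw [Equiv.Perm.card_support_conj, hcs]

/-- contrapositive form: a group without `p`-cycles has order not divisible by `p ^ k` as soon as `p ^ (k+1) ∤ |α|!` -/
theorem not_pow_dvd_card {p k : ℕ} [hpf : Fact p.Prime] (G : Subgroup (Perm α))
    (hp : p ≤ Fintype.card α) (hk : ¬ p ^ (k + 1) ∣ (Fintype.card α).factorial)
    (hno : ∀ g ∈ G, g.IsCycle → g.support.card ≠ p) : ¬ p ^ k ∣ Nat.card G := by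
  intro h
  have hle : (Fintype.card α).factorial.factorization p ≤ k := by
    by_contra hcon
    push Not at hcon
    exact hk ((hpf.out.pow_dvd_iff_le_factorization (Nat.factorial_ne_zero _)).mpr hcon)
  obtain ⟨g, hg, hc, hs⟩ := exists_cycle_mem G hp ((pow_dvd_pow p hle).trans h)
  exact hno g hg hc hs

/-- degree `11`: the four instances -/
theorem not_dvd_eleven (hα : Fintype.card α = 11) (G : Subgroup (Perm α))
    (hno : ∀ g ∈ G, g.IsCycle → g.support.card ≠ 2 ∧ g.support.card ≠ 3 ∧ g.support.card ≠ 5 ∧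
      g.support.card ≠ 7) :
    ¬ 7 ∣ Nat.card G ∧ ¬ 25 ∣ Nat.card G ∧ ¬ 81 ∣ Nat.card G ∧ ¬ 256 ∣ Nat.card G := by
  have h11 : (11 : ℕ).factorial = 39916800 := by decide
  refine ⟨?_, ?_, ?_, ?_⟩
  · have : Fact (Nat.Prime 7) := ⟨by norm_num⟩
    have := not_pow_dvd_card (p := 7) (k := 1) G (by rw [hα]; norm_num)
      (by rw [hα, h11]; norm_num) (fun g hg hc => (hno g hg hc).2.2.2)
    simpa using this
  · have : Fact (Nat.Prime 5) := ⟨by norm_num⟩
    have := not_pow_dvd_card (p := 5) (k := 2) G (by rw [hα]; norm_num)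
      (by rw [hα, h11]; norm_num) (fun g hg hc => (hno g hg hc).2.2.1)
    simpa using this
  · have : Fact (Nat.Prime 3) := ⟨by norm_num⟩
    have := not_pow_dvd_card (p := 3) (k := 4) G (by rw [hα]; norm_num)
      (by rw [hα, h11]; norm_num) (fun g hg hc => (hno g hg hc).2.1)
    simpa using this
  · have : Fact (Nat.Prime 2) := ⟨by norm_num⟩
    have := not_pow_dvd_card (p := 2) (k := 8) G (by rw [hα]; norm_num)
      (by rw [hα, h11]; norm_num) (fun g hg hc => (hno g hg hc).1)
    simpa using this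

end Cfsg.Agent.S0679P.PCyc
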