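import Mathlib
import Cfsg.Agent.S0746
import Cfsg.Agent.S4221
import Cfsg.Agent.Helper4.S0745HOMF
import Cfsg.Agent.Helper9.S0745CARDSS

/-!
# S0748 (Livingstone–Wagner, second form) from S0746 + S0747 + S4221

`core`: a `k`-homogeneous group (`5 ≤ k`, `2k ≤ n`) in which some `k`-set `Δ` has every even
permutation induced (the conclusion of S0747 for `k - 1`) is `k`-transitive.

Proof.  `G` is `(k-1)`-transitive (S0746).  If some involution of `G` fixes `k - 2` points, a
conjugate of it induces a transposition on `Δ`, so `G_Δ^Δ = Sym(Δ)` and `G` is `k`-transitive by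
homogeneity.  Otherwise all `(k-1)`-point stabilisers have odd order, the pointwise stabiliser of
`k - 5` points is `4`-transitive on the remaining `n - k + 5 ≥ 10` points with odd `4`-point
stabiliser, and M. Hall's theorem (S4221) forces `n - k + 5 = 11` and order `7920`; then
`(k, n) = (5, 11)` or `(6, 12)` and `C(n, k)` does not divide `|G|`.
-/

set_option autoImplicit false
set_option linter.unusedSectionVars false

namespace Cfsg.Agent.Helper4.S0748C

open Equiv MulAction

variable {α : Type*} [Fintype α] [DecidableEq α]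

/-- an involution of `G` fixing a `(k-2)`-set pointwise -/
def HasInv (G : Subgroup (Perm α)) (k : ℕ) : Prop :=
  ∃ u ∈ G, u ≠ 1 ∧ u ^ 2 = 1 ∧ ∃ Γ : Finset α, Γ.card = k - 2 ∧ ∀ x ∈ Γ, u x = x

theorem exists_swap (G : Subgroup (Perm α)) {k : ℕ} (hk : 2 ≤ k)
    (hom : ∀ s s' : Finset α, s.card = k → s'.card = k → ∃ g ∈ G, ∀ x, g x ∈ s' ↔ x ∈ s)
    (hP : HasInv G k) (Δ : Finset α) (hΔ : Δ.card = k) :
    ∃ u ∈ G, ∃ a b : α, a ∈ Δ ∧ b ∈ Δ ∧ a ≠ b ∧ u a = b ∧ u b = a ∧
      ∀ x ∈ Δ, x ≠ a → x ≠ b → u x = x := by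
  obtain ⟨u, huG, hu1, hu2, Γ, hΓ, hfix⟩ := hP
  have hex : ∃ a, u a ≠ a := by
    by_contra h
    push_neg at h
    exact hu1 (Perm.ext h)
  obtain ⟨a, ha⟩ := hex
  have hba : u (u a) = a := by
    have := congrArg (fun p : Perm α => p a) hu2
    simpa [pow_two, Perm.mul_apply] using this
  have haΓ : a ∉ Γ := fun h => ha (hfix a h)
  have hbΓ : u a ∉ Γ := fun h => by
    have h1 := hfix (u a) h
    rw [hba] at h1
    exact ha h1.symm
  have hab : a ∉ insert (u a) Γ := by
    rw [Finset.mem_insert]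
    rintro (h | h)
    · exact ha h.symm
    · exact haΓ h
  have hΔu : (insert a (insert (u a) Γ)).card = k := by
    rw [Finset.card_insert_of_notMem hab, Finset.card_insert_of_notMem hbΓ, hΓ]
    omega
  obtain ⟨g0, hg0G, hg0⟩ := hom _ Δ hΔu hΔ
  refine ⟨g0 * u * g0⁻¹, G.mul_mem (G.mul_mem hg0G huG) (G.inv_mem hg0G), g0 a, g0 (u a),
    ?_, ?_, ?_, ?_, ?_, ?_⟩
  · exact (hg0 a).2 (Finset.mem_insert_self _ _)
  · exact (hg0 (u a)).2 (Finset.mem_insert_of_mem (Finset.mem_insert_self _ _))
  · exact fun h => ha (g0.injective h).symm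
  · simp [Perm.mul_apply]
  · simp [Perm.mul_apply, hba]
  · intro y hy hya hyb
    have hy' : g0⁻¹ y ∈ insert a (insert (u a) Γ) := by
      rw [← hg0]
      simpa using hy
    rw [Finset.mem_insert, Finset.mem_insert] at hy'
    rcases hy' with h | h | h
    · exact absurd (by rw [← h]; simp) hya
    · exact absurd (by rw [← h]; simp) hyb
    · simp only [Perm.mul_apply]
      rw [hfix _ h]
      simp

theorem sym_of_swap (G : Subgroup (Perm α)) (Δ : Finset α)
    (halt : ∀ σ : Perm ↥Δ, σ ∈ alternatingGroup ↥Δ → ∃ g ∈ G, ∀ x : ↥Δ, g (x : α) = σ x)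
    (u : Perm α) (hu : u ∈ G) (a b : α) (ha : a ∈ Δ) (hb : b ∈ Δ) (hab : a ≠ b)
    (hua : u a = b) (hub : u b = a) (hfix : ∀ x ∈ Δ, x ≠ a → x ≠ b → u x = x) :
    ∀ σ : Perm ↥Δ, ∃ g ∈ G, ∀ x : ↥Δ, g (x : α) = σ x := by
  intro σ
  by_cases hσ : σ ∈ alternatingGroup ↥Δ
  · exact halt σ hσ
  · have hne : (⟨a, ha⟩ : ↥Δ) ≠ ⟨b, hb⟩ := fun h => hab (congrArg Subtype.val h)
    have hτ : ∀ x : ↥Δ, u (x : α) = ((Equiv.swap (⟨a, ha⟩ : ↥Δ) ⟨b, hb⟩) x : α) := by
      intro x
      by_cases h1 : x = ⟨a, ha⟩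
      · subst h1
        rw [Equiv.swap_apply_left]
        exact hua
      · by_cases h2 : x = ⟨b, hb⟩
        · subst h2
          rw [Equiv.swap_apply_right]
          exact hub
        · rw [Equiv.swap_apply_of_ne_of_ne h1 h2]
          exact hfix x x.2 (fun h => h1 (Subtype.ext h)) (fun h => h2 (Subtype.ext h))
    have hστ : σ * Equiv.swap (⟨a, ha⟩ : ↥Δ) ⟨b, hb⟩ ∈ alternatingGroup ↥Δ := by
      rw [Equiv.Perm.mem_alternatingGroup] at hσ ⊢
      rw [Equiv.Perm.sign_mul, Equiv.Perm.sign_swap hne]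
      rcases Int.units_eq_one_or (Equiv.Perm.sign σ) with h | h
      · exact absurd h hσ
      · rw [h]
        rfl
    obtain ⟨g', hg'G, hg'⟩ := halt _ hστ
    refine ⟨g' * u, G.mul_mem hg'G hu, fun x => ?_⟩
    rw [Perm.mul_apply, hτ x, hg' _, Perm.mul_apply, Equiv.swap_apply_self]

theorem ktrans_of_sym (G : Subgroup (Perm α)) {k : ℕ}
    (hom : ∀ s s' : Finset α, s.card = k → s'.card = k → ∃ g ∈ G, ∀ x, g x ∈ s' ↔ x ∈ s)
    (Δ : Finset α) (hΔ : Δ.card = k)
    (hsym : ∀ σ : Perm ↥Δ, ∃ g ∈ G, ∀ x : ↥Δ, g (x : α) = σ x) :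
    IsMultiplyPretransitive G α k := by
  rw [isMultiplyPretransitive_iff]
  intro x y
  have hsx : (Finset.univ.image x).card = k := by
    rw [Finset.card_image_of_injective _ x.injective]
    simp
  have hsy : (Finset.univ.image y).card = k := by
    rw [Finset.card_image_of_injective _ y.injective]
    simp
  obtain ⟨g1, hg1G, hg1⟩ := hom _ Δ hsx hΔ
  obtain ⟨g2, hg2G, hg2⟩ := hom _ Δ hsy hΔ
  have hmem1 : ∀ i, g1 (x i) ∈ Δ := fun i => (hg1 _).2 (by simp)
  have hmem2 : ∀ i, g2 (y i) ∈ Δ := fun i => (hg2 _).2 (by simp)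
  have hf1 : Function.Bijective (fun i : Fin k => (⟨g1 (x i), hmem1 i⟩ : ↥Δ)) := by
    rw [Fintype.bijective_iff_injective_and_card]
    refine ⟨fun i j h => x.injective (g1.injective (congrArg Subtype.val h)), ?_⟩
    simp [hΔ]
  have hf2 : Function.Bijective (fun i : Fin k => (⟨g2 (y i), hmem2 i⟩ : ↥Δ)) := by
    rw [Fintype.bijective_iff_injective_and_card]
    refine ⟨fun i j h => y.injective (g2.injective (congrArg Subtype.val h)), ?_⟩
    simp [hΔ]
  obtain ⟨g3, hg3G, hg3⟩ := hsym ((Equiv.ofBijective _ hf1).symm.trans (Equiv.ofBijective _ hf2))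
  refine ⟨⟨g2⁻¹ * g3 * g1, G.mul_mem (G.mul_mem (G.inv_mem hg2G) hg3G) hg1G⟩, ?_⟩
  ext i
  have h3 := hg3 ⟨g1 (x i), hmem1 i⟩
  have h4 : (Equiv.ofBijective _ hf1).symm ⟨g1 (x i), hmem1 i⟩ = i := by
    rw [Equiv.symm_apply_eq]
    rfl
  rw [Equiv.trans_apply, h4] at h3
  simp only [Equiv.ofBijective_apply] at h3
  simp only [Function.Embedding.smul_apply, Subgroup.mk_smul, Perm.smul_def, Perm.mul_apply]
  rw [h3]
  simp


theorem false_of_no_inv (G : Subgroup (Perm α)) {k : ℕ} (hk : 5 ≤ k)
    (hkn : 2 * k ≤ Fintype.card α)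
    (hom : ∀ s s' : Finset α, s.card = k → s'.card = k → ∃ g ∈ G, ∀ x, g x ∈ s' ↔ x ∈ s)
    (ht : IsMultiplyPretransitive G α (k - 1)) (hP : ¬ HasInv G k) : False := by
  classical
  obtain ⟨s, -, hs⟩ := Finset.exists_subset_card_eq (s := (Finset.univ : Finset α)) (n := k - 5)
    (by rw [Finset.card_univ]; omega)
  have hncard : (s : Set α).ncard = k - 5 := by rw [Set.ncard_coe_finset, hs]
  -- the complement and the induced group
  haveI : Fintype ↥(SubMulAction.ofFixingSubgroup G (s : Set α)) := Fintype.ofFinite _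
  have hcardβ : Fintype.card ↥(SubMulAction.ofFixingSubgroup G (s : Set α)) =
      Fintype.card α - (k - 5) := by
    rw [← hs, ← Finset.card_compl, ← Fintype.card_coe]
    apply Fintype.card_congr
    refine Equiv.subtypeEquivRight (fun x => ?_)
    rw [SubMulAction.mem_ofFixingSubgroup_iff, Finset.mem_compl, Finset.mem_coe]
  set φ : fixingSubgroup G (s : Set α) →* Perm ↥(SubMulAction.ofFixingSubgroup G (s : Set α)) :=
    MulAction.toPermHom (fixingSubgroup G (s : Set α)) ↥(SubMulAction.ofFixingSubgroup G (s : Set α))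
    with hφ
  have hφapp : ∀ (g : fixingSubgroup G (s : Set α))
      (b : ↥(SubMulAction.ofFixingSubgroup G (s : Set α))), ((φ g) b : α) = (g : Perm α) (b : α) :=
    fun g b => rfl
  have hfixs : ∀ (g : fixingSubgroup G (s : Set α)) (a : α), a ∈ s → (g : Perm α) a = a := by
    intro g a ha
    have := (mem_fixingSubgroup_iff (G : Type _)).1 g.2 a (by exact_mod_cast ha)
    exact this
  haveI : IsMultiplyPretransitive G α (k - 1) := ht
  have h4 : IsMultiplyPretransitive (fixingSubgroup G (s : Set α))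
      ↥(SubMulAction.ofFixingSubgroup G (s : Set α)) 4 :=
    SubMulAction.ofFixingSubgroup.isMultiplyPretransitive (G : Type _) (n := k - 1) (s : Set α)
      (by rw [hncard]; omega)
  have h4L : IsMultiplyPretransitive φ.range ↥(SubMulAction.ofFixingSubgroup G (s : Set α)) 4 := by
    rw [isMultiplyPretransitive_iff]
    intro x y
    obtain ⟨g, hg⟩ := h4.exists_smul_eq x y
    refine ⟨⟨φ g, g, rfl⟩, ?_⟩
    apply DFunLike.ext
    intro i
    apply Subtype.ext
    have := congrArg (fun f : Fin 4 ↪ ↥(SubMulAction.ofFixingSubgroup G (s : Set α)) => (f i : α)) hg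
    exact this
  -- an embedding of `Fin 4`
  obtain ⟨x⟩ : Nonempty (Fin 4 ↪ ↥(SubMulAction.ofFixingSubgroup G (s : Set α))) :=
    Function.Embedding.nonempty_of_card_le (by rw [Fintype.card_fin, hcardβ]; omega)
  -- the stabiliser has odd order
  have hodd : Odd (Nat.card (MulAction.stabilizer φ.range x)) := by
    rw [← Nat.not_even_iff_odd]
    intro heven
    obtain ⟨l, hl⟩ := exists_prime_orderOf_dvd_card' (G := MulAction.stabilizer φ.range x) 2
      heven.two_dvd
    obtain ⟨g, hg⟩ := l.1.2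
    apply hP
    have hl1 : l ≠ 1 := by
      intro h
      rw [h, orderOf_one] at hl
      omega
    have hl2 : l ^ 2 = 1 := by
      rw [← hl]
      exact pow_orderOf_eq_one l
    have hg1 : ((l : φ.range) : Perm ↥(SubMulAction.ofFixingSubgroup G (s : Set α))) = φ g := hg.symm
    refine ⟨(g : Perm α), g.1.2, ?_, ?_, ?_⟩
    · intro h
      apply hl1
      apply Subtype.ext
      apply Subtype.ext
      rw [hg1]
      ext b
      rw [hφapp, h]
      rfl
    · ext a
      by_cases ha : a ∈ s
      · simp [pow_two, Perm.mul_apply, hfixs g a ha]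
      · have hb : a ∈ SubMulAction.ofFixingSubgroup G (s : Set α) := by
          rw [SubMulAction.mem_ofFixingSubgroup_iff]
          exact_mod_cast ha
        have h2 := congrArg (fun m : MulAction.stabilizer φ.range x =>
          (((m : φ.range) : Perm ↥(SubMulAction.ofFixingSubgroup G (s : Set α))) ⟨a, hb⟩ : α)) hl2
        simp only [Subgroup.coe_pow, Subgroup.coe_one, Perm.coe_one, id_eq] at h2
        rw [hg1, pow_two, Perm.mul_apply, hφapp, hφapp] at h2
        simpa [pow_two, Perm.mul_apply] using h2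
    · -- the fixed `(k-2)`-set
      have hfix4 : ∀ i, (g : Perm α) (x i : α) = (x i : α) := by
        intro i
        have h3 := l.2
        rw [MulAction.mem_stabilizer_iff] at h3
        have h5 := congrArg (fun f : Fin 4 ↪ ↥(SubMulAction.ofFixingSubgroup G (s : Set α)) => (f i : α)) h3
        rw [← hφapp, ← hg1]
        exact h5
      have hdisj : Disjoint s (Finset.univ.image fun i => (x i : α)) := by
        rw [Finset.disjoint_left]
        intro a ha ha'
        obtain ⟨i, -, hi⟩ := Finset.mem_image.1 ha'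
        have := (x i).2
        rw [SubMulAction.mem_ofFixingSubgroup_iff] at this
        apply this
        rw [hi]
        exact_mod_cast ha
      have hcard : (s ∪ Finset.univ.image fun i => (x i : α)).card = k - 1 := by
        rw [Finset.card_union_of_disjoint hdisj, hs, Finset.card_image_of_injective]
        · simp
          omega
        · intro i j hij
          exact x.injective (Subtype.ext hij)
      obtain ⟨Γ, hΓsub, hΓ⟩ := Finset.exists_subset_card_eq
        (s := s ∪ Finset.univ.image fun i => (x i : α)) (n := k - 2) (by rw [hcard]; omega)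
      refine ⟨Γ, hΓ, fun a ha => ?_⟩
      rcases Finset.mem_union.1 (hΓsub ha) with h | h
      · exact hfixs g a h
      · obtain ⟨i, -, hi⟩ := Finset.mem_image.1 h
        rw [← hi]
        exact hfix4 i
  -- M. Hall
  have hHall := Cfsg.Agent.S4221.result φ.range h4L x hodd
  have h11 : Fintype.card ↥(SubMulAction.ofFixingSubgroup G (s : Set α)) = 11 ∧
      Nat.card φ.range = 7920 := by
    rcases hHall with ⟨h | h, -⟩ | ⟨h | h, -⟩ | h
    · omega
    · omega
    · omega
    · omega
    · exact h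
  obtain ⟨hc11, hL⟩ := h11
  -- injectivity
  have hinj : Function.Injective φ := by
    rw [injective_iff_map_eq_one]
    intro g hg
    apply Subtype.ext
    apply Subtype.ext
    ext a
    by_cases ha : a ∈ s
    · simpa using hfixs g a ha
    · have hb : a ∈ SubMulAction.ofFixingSubgroup G (s : Set α) := by
        rw [SubMulAction.mem_ofFixingSubgroup_iff]
        exact_mod_cast ha
      have := hφapp g ⟨a, hb⟩
      rw [hg] at this
      simpa using this.symm
  have hcardF : Nat.card (fixingSubgroup G (s : Set α)) = 7920 := by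
    rw [← hL]
    exact Nat.card_congr (MonoidHom.ofInjective hinj).toEquiv
  -- the order of `G`
  have hts : IsMultiplyPretransitive G α (s : Set α).ncard := by
    rw [hncard]
    exact isMultiplyPretransitive_of_le (n := k - 1) (by omega)
      (by rw [Nat.card_eq_fintype_card]; omega)
  have hidx := IsMultiplyPretransitive.index_of_fixingSubgroup_eq (s : Set α) hts
  have hG := Subgroup.index_mul_card (fixingSubgroup G (s : Set α))
  rw [hidx, hcardF, hncard, Nat.card_eq_fintype_card] at hG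
  -- homogeneity
  obtain ⟨Δ, -, hΔ⟩ := Finset.exists_subset_card_eq (s := (Finset.univ : Finset α)) (n := k)
    (by rw [Finset.card_univ]; omega)
  have hdiv := Cfsg.Agent.S0745P.card_SS_mul G k hom Δ hΔ
  rw [← hG] at hdiv
  have hn : Fintype.card α = k + 6 := by omega
  have hk6 : k ≤ 6 := by omega
  rw [hn] at hdiv
  interval_cases k
  · have h1 : Nat.choose (5 + 6) 5 = 462 := by decide
    have h2 : Nat.choose (5 + 6) (5 - 5) = 1 := by decide
    have h3 : Nat.factorial (5 - 5) = 1 := by decide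
    rw [h1, h2, h3] at hdiv
    omega
  · have h1 : Nat.choose (6 + 6) 6 = 924 := by decide
    have h2 : Nat.choose (6 + 6) (6 - 5) = 12 := by decide
    have h3 : Nat.factorial (6 - 5) = 1 := by decide
    rw [h1, h2, h3] at hdiv
    omega

/-- S0748 from the conclusion of S0747 (for `k - 1`). -/
theorem core (G : Subgroup (Perm α)) {k : ℕ} (hk : 5 ≤ k) (hkn : 2 * k ≤ Fintype.card α)
    (hh : MulAction.IsPretransitive G (Set.powersetCard α k))
    (h747 : ∃ Δ : Finset α, Δ.card = k ∧ ∀ σ : Perm ↥Δ, σ ∈ alternatingGroup ↥Δ →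
      ∃ g ∈ G, ∀ x : ↥Δ, g (x : α) = σ x) :
    IsMultiplyPretransitive G α k := by
  have hom := Cfsg.Agent.S0745P.hom_elt G k hh
  have ht := Cfsg.Agent.S0746.result G (by omega) hkn hh
  obtain ⟨Δ, hΔ, halt⟩ := h747
  by_cases hP : HasInv G k
  · obtain ⟨u, hu, a, b, ha, hb, hab, hua, hub, hfix⟩ := exists_swap G (by omega) hom hP Δ hΔ
    exact ktrans_of_sym G hom Δ hΔ (sym_of_swap G Δ halt u hu a b ha hb hab hua hub hfix)
  · exact (false_of_no_inv G hk hkn hom ht hP).elim

end Cfsg.Agent.Helper4.S0748C
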