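import Mathlib
import Cfsg.Agent.Helper22.S1615Defs
import Cfsg.Agent.Helper16.F3Glue
import Cfsg.Agent.Helper4.InvSylowD

set_option autoImplicit false
set_option linter.style.haveILetI false
set_option linter.unusedSectionVars false
set_option linter.unusedVariables false

/-! S1615 piece K3POW: if no two different members of `D_d` commute then `|D_d|` is a power
of three. -/

namespace Cfsg.Agent.S1615P

open Cfsg.Agent.Helper16.F3 (Prim)

namespace K3POW

open Cfsg.Agent.Helper4.InvSylow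

/-- abstract version: a finite group `H` generated by a class `D'` of 3-transpositions in which
commuting members are equal: `|D'|` is a power of `3`. -/
theorem card_pow_of_class {H : Type*} [Group H] [Finite H] {D' : Set H}
    (hD : Cfsg.IsThreeTranspositionSet D') (hconj : ∀ g : H, ∀ x ∈ D', g * x * g⁻¹ ∈ D')
    (hgen : Subgroup.closure D' = ⊤) (hconjd : ∀ d ∈ D', ∀ e ∈ D', ∃ g : H, g * d * g⁻¹ = e)
    (heq : ∀ a ∈ D', ∀ b ∈ D', Commute a b → a = b) {e' : H} (he' : e' ∈ D') :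
    ∃ a : ℕ, D'.ncard = 3 ^ a := by
  classical
  haveI : Fact (Nat.Prime 3) := ⟨Nat.prime_three⟩
  obtain ⟨P, hPn, hPtop⟩ := exists_invariant_sylow hD hconj hgen hconjd
    (fun a ha b hb hc => by
      rw [heq a ha b hb hc, inv_mul_cancel]; exact Subgroup.one_mem _) he'
  obtain ⟨T, hTdef⟩ : ∃ T : Subgroup H, T = Cfsg.pCore 2 H := ⟨_, rfl⟩
  rw [← hTdef] at hPtop
  haveI hTn : T.Normal := hTdef ▸ Cfsg.Agent.Helper14.pCore_normal 2
  have hT2 : IsPGroup 2 T := hTdef ▸ Cfsg.Agent.Helper14.pCore_isPGroup 2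
  have hsq : ∀ x ∈ D', x * x = 1 := by
    intro x hx
    have := pow_orderOf_eq_one x
    rw [hD.1 x hx, pow_two] at this
    exact this
  have hinv : ∀ x ∈ D', x⁻¹ = x := fun x hx => inv_eq_of_mul_eq_one_left (hsq x hx)
  -- `T` centralizes `D'`
  have hTc : ∀ t ∈ T, ∀ x ∈ D', t * x * t⁻¹ = x := by
    intro t ht x hx
    have hy : t * x * t⁻¹ ∈ D' := hconj t x hx
    have hxy : x * (t * x * t⁻¹) ∈ T := by
      have : x * (t * x * t⁻¹) = (x * t * x⁻¹) * t⁻¹ := by rw [hinv x hx]; group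
      rw [this]
      exact T.mul_mem (hTn.conj_mem t ht x) (T.inv_mem ht)
    rcases hD.2 x hx _ hy with h2 | h3
    · have hc : Commute x (t * x * t⁻¹) := commute_of_sq' (hsq x hx) (hsq _ hy) h2
      exact (heq x hx _ hy hc).symm
    · obtain ⟨j, hj⟩ := exists_pow_of_isPGroup hT2 hxy
      have h1 : x * (t * x * t⁻¹) = 1 :=
        eq_one_of_two_three hj (by rw [pow_one]; exact h3 : (x * (t * x * t⁻¹)) ^ (3 ^ 1) = 1)
      have : t * x * t⁻¹ = x⁻¹ := (inv_eq_of_mul_eq_one_right h1).symm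
      rw [this, hinv x hx]
  -- the `P`-orbit of `e'`
  set O : Set H := {x | ∃ p ∈ (P : Subgroup H), x = p * e' * p⁻¹} with hO
  have hOD : O ⊆ D' := by
    rintro x ⟨p, -, rfl⟩
    exact hconj p e' he'
  have heO : e' ∈ O := ⟨1, Subgroup.one_mem _, by group⟩
  -- a subgroup mapping `O` into itself normalizes `O`
  have hle : ∀ K : Subgroup H, (∀ g ∈ K, ∀ x ∈ O, g * x * g⁻¹ ∈ O) → K ≤ Subgroup.normalizer O :=
    fun K hK => Subgroup.le_set_normalizer_iff.mpr hK
  have hPle : (P : Subgroup H) ≤ Subgroup.normalizer O := by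
    apply hle
    rintro q hq x ⟨p, hp, rfl⟩
    exact ⟨q * p, Subgroup.mul_mem _ hq hp, by group⟩
  have hTle : T ≤ Subgroup.normalizer O := by
    apply hle
    intro t ht x hx
    rw [hTc t ht x (hOD hx)]
    exact hx
  have hele : Subgroup.zpowers e' ≤ Subgroup.normalizer O := by
    apply hle
    intro g hg
    have hgN : g ∈ Subgroup.normalizer ((P : Subgroup H) : Set H) :=
      (Subgroup.zpowers_le.mpr hPn) hg
    have hgc : g * e' * g⁻¹ = e' := by
      obtain ⟨k, rfl⟩ := Subgroup.mem_zpowers_iff.mp hg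
      have : Commute (e' ^ k) e' := (Commute.refl e').zpow_left k
      rw [this.eq, mul_inv_cancel_right]
    rintro x ⟨p, hp, rfl⟩
    refine ⟨g * p * g⁻¹, ?_, ?_⟩
    · exact (Subgroup.mem_normalizer_iff.mp hgN p).mp hp
    · calc g * (p * e' * p⁻¹) * g⁻¹ = (g * p * g⁻¹) * (g * e' * g⁻¹) * (g * p * g⁻¹)⁻¹ := by group
        _ = _ := by rw [hgc]
  have htop : Subgroup.normalizer O = ⊤ := by
    rw [eq_top_iff, ← hPtop]
    exact sup_le (sup_le hele hPle) hTle
  have hOeq : O = D' := by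
    apply Set.Subset.antisymm hOD
    intro x hx
    obtain ⟨g, rfl⟩ := hconjd e' he' x hx
    have hg : g ∈ Subgroup.normalizer O := by rw [htop]; exact Subgroup.mem_top g
    exact (Subgroup.mem_set_normalizer_iff.mp hg e').mp heO
  -- the orbit has 3-power size
  letI : MulAction ↥(P : Subgroup H) H :=
    MulAction.compHom H ((MulAut.conj : H →* MulAut H).comp (P : Subgroup H).subtype)
  have hsmul : ∀ (p : ↥(P : Subgroup H)) (x : H), p • x = (p : H) * x * (p : H)⁻¹ :=
    fun p x => rfl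
  obtain ⟨a, ha⟩ := (P.isPGroup').card_orbit e'
  refine ⟨a, ?_⟩
  have horb : MulAction.orbit ↥(P : Subgroup H) e' = O := by
    ext x
    constructor
    · rintro ⟨p, rfl⟩
      exact ⟨p.1, p.2, hsmul p e'⟩
    · rintro ⟨p, hp, rfl⟩
      exact ⟨⟨p, hp⟩, hsmul ⟨p, hp⟩ e'⟩
  rw [← hOeq, ← horb, ← Nat.card_coe_set_eq]
  exact ha

end K3POW

open K3POW in
theorem card_Dd_pow {G : Type*} [Group G] [Finite G] {D : Set G} (h : Prim D) (h0 : L0 D)
    {d : G} (hd : d ∈ D) :
    ∃ a : ℕ, {y : G | y ∈ D ∧ y ≠ d ∧ Commute d y}.ncard = 3 ^ a := by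
  classical
  have hD := h.tt
  set Dd : Set G := {y : G | y ∈ D ∧ y ≠ d ∧ Commute d y} with hDd
  set H : Subgroup G := Subgroup.closure Dd with hH
  have hDdH : Dd ⊆ (H : Set G) := Subgroup.subset_closure
  -- `H` centralizes `d`
  have hHc : ∀ g ∈ H, Commute d g := by
    intro g hg
    have hle : H ≤ Subgroup.centralizer {d} := by
      rw [hH, Subgroup.closure_le]
      intro y hy
      rw [SetLike.mem_coe, Subgroup.mem_centralizer_iff]
      intro z hz
      rw [Set.mem_singleton_iff] at hz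
      subst hz
      exact hy.2.2
    have := hle hg
    rw [Subgroup.mem_centralizer_iff] at this
    exact this d rfl
  set D' : Set ↥H := Subtype.val ⁻¹' Dd with hD'
  obtain ⟨e, he, hed, hce⟩ := Cfsg.Agent.Helper16.F3.exists_comm h hd
  have heDd : e ∈ Dd := ⟨he, hed, hce.symm⟩
  have hTS : Cfsg.IsThreeTranspositionSet D' := by
    refine ⟨?_, ?_⟩
    · intro x hx
      have h1 : orderOf (x : G) = 2 := hD.1.1 _ hx.1
      rwa [Subgroup.orderOf_coe] at h1
    · intro x hx y hy
      rcases hD.1.2 _ hx.1 _ hy.1 with h2 | h3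
      · left
        apply Subtype.ext
        simpa using h2
      · right
        apply Subtype.ext
        simpa using h3
  have hconj : ∀ g : ↥H, ∀ x ∈ D', g * x * g⁻¹ ∈ D' := by
    intro g x hx
    refine ⟨hD.2.1 _ _ hx.1, ?_, ?_⟩
    · intro hh
      apply hx.2.1
      have hc : Commute d (g : G) := hHc _ g.2
      have : ((g : G) * (x : G) * (g : G)⁻¹) = d := hh
      have h2 : (x : G) = (g : G)⁻¹ * d * (g : G) := by rw [← this]; group
      rw [h2, mul_assoc, hc.eq, inv_mul_cancel_left]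
    · have hc : Commute d (g : G) := hHc _ g.2
      exact (hc.mul_right hx.2.2).mul_right hc.inv_right
  have hgen : Subgroup.closure D' = ⊤ := Subgroup.closure_closure_coe_preimage
  have hconjd : ∀ a ∈ D', ∀ b ∈ D', ∃ g : ↥H, g * a * g⁻¹ = b := by
    intro a ha b hb
    obtain ⟨g, hg, hgab⟩ := Cfsg.Agent.Helper16.F3.comm_class h hd ha.1 hb.1 ha.2.1 hb.2.1
      ha.2.2 hb.2.2
    exact ⟨⟨g, hg⟩, Subtype.ext hgab⟩
  have heq : ∀ a ∈ D', ∀ b ∈ D', Commute a b → a = b := by
    intro a ha b hb hc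
    apply Subtype.ext
    apply h0 d hd _ ha.1 _ hb.1 ha.2.1 hb.2.1 ha.2.2 hb.2.2
    have := congrArg Subtype.val hc.eq
    exact this
  obtain ⟨a, ha⟩ := card_pow_of_class hTS hconj hgen hconjd heq
    (e' := ⟨e, hDdH heDd⟩) heDd
  refine ⟨a, ?_⟩
  rw [← ha]
  have himg : Subtype.val '' D' = Dd := by
    ext y
    constructor
    · rintro ⟨x, hx, rfl⟩
      exact hx
    · intro hy
      exact ⟨⟨y, hDdH hy⟩, hy, rfl⟩
  rw [← himg, Set.ncard_image_of_injective _ Subtype.val_injective]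

end Cfsg.Agent.S1615P
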