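import Mathlib
import Cfsg.Prelude.Def_Transfer
import Cfsg.Agent.Helper8.S1904Defs

/-! Board `s1904pieces`, row B6 (helper4): the core, with the rows B1-B5, INV, INJ, A2 as hypotheses. -/

set_option autoImplicit false
set_option linter.unusedVariables false
set_option linter.unusedSectionVars false

namespace Cfsg.Agent.S1904P

variable {X : Type*} [Group X] [Finite X] {A : Subgroup (MulAut X)} {B : Subgroup X}

/-- `W` is `A`-invariant. -/
theorem B6_aux_invW (A : Subgroup (MulAut X)) : Inv A (WW X) := by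
  intro φ _ w hw
  obtain ⟨hz, h2⟩ := hw
  refine ⟨?_, ?_⟩
  · rw [Subgroup.mem_center_iff] at hz ⊢
    intro g
    have h := congrArg φ (hz (φ.symm g))
    simpa using h
  · rw [← map_mul, h2, map_one]

/-- `[u, x y] = [u, x] [u, y]` when `[u, y]` is central. -/
theorem B6_aux_cm_mul_right {u x y : X} (hc : u * y * u⁻¹ * y⁻¹ ∈ Subgroup.center X) :
    u * (x * y) * u⁻¹ * (x * y)⁻¹ = (u * x * u⁻¹ * x⁻¹) * (u * y * u⁻¹ * y⁻¹) := by
  have h := (Subgroup.mem_center_iff.1 hc) x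
  have e : u * (x * y) * u⁻¹ * (x * y)⁻¹ = (u * x * u⁻¹ * x⁻¹) * (x * (u * y * u⁻¹ * y⁻¹)) * x⁻¹ := by group
  rw [e, h]; group

/-- `[u v, x] = [u, x] [v, x]` when `[v, x]` is central. -/
theorem B6_aux_cm_mul_left {u v x : X} (hc : v * x * v⁻¹ * x⁻¹ ∈ Subgroup.center X) :
    (u * v) * x * (u * v)⁻¹ * x⁻¹ = (u * x * u⁻¹ * x⁻¹) * (v * x * v⁻¹ * x⁻¹) := by
  have h := (Subgroup.mem_center_iff.1 hc) u
  have e : (u * v) * x * (u * v)⁻¹ * x⁻¹ = (u * (v * x * v⁻¹ * x⁻¹)) * x * u⁻¹ * x⁻¹ := by group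
  have h2 := (Subgroup.mem_center_iff.1 hc) (u * x * u⁻¹ * x⁻¹)
  rw [e, h, h2]; group

theorem B6_aux_cm_eq_one {u x : X} : u * x * u⁻¹ * x⁻¹ = 1 ↔ u * x = x * u := by
  constructor
  · intro h
    have := congrArg (fun t => t * x * u) h
    simpa [mul_assoc] using this
  · intro h
    rw [h]; group

/-- the three elements of `A` -/
theorem B6_aux_A3 (hA3 : Nat.card A = 3) {α : MulAut X} (hα : α ∈ A) (hα1 : α ≠ 1) :
    α * α * α = 1 ∧ ∀ φ ∈ A, φ = 1 ∨ φ = α ∨ φ = α * α := by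
  have : Fact (Nat.Prime 3) := ⟨Nat.prime_three⟩
  have ha1 : (⟨α, hα⟩ : A) ≠ 1 := by
    intro h
    exact hα1 (congrArg Subtype.val h)
  have hord : orderOf (⟨α, hα⟩ : A) = 3 := by
    have hd : orderOf (⟨α, hα⟩ : A) ∣ 3 := hA3 ▸ orderOf_dvd_natCard _
    rcases (Nat.dvd_prime Nat.prime_three).1 hd with h | h
    · exact absurd (orderOf_eq_one_iff.1 h) ha1
    · exact h
  have hord' : orderOf α = 3 := by
    rw [← hord, Subgroup.orderOf_mk]
  have h3 : α * α * α = 1 := by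
    have := pow_orderOf_eq_one α
    rw [hord'] at this
    rw [← this, pow_succ, pow_two]
  refine ⟨h3, ?_⟩
  intro φ hφ
  have hmem : (⟨φ, hφ⟩ : A) ∈ Subgroup.zpowers (⟨α, hα⟩ : A) := mem_zpowers_of_prime_card hA3 ha1
  obtain ⟨k, hk⟩ := Subgroup.mem_zpowers_iff.1 hmem
  have hk' : α ^ k = φ := by
    have := congrArg Subtype.val hk
    simpa using this
  rw [← zpow_mod_orderOf, hord'] at hk'
  push_cast at hk'
  have h0 : 0 ≤ k % 3 := Int.emod_nonneg k (by norm_num)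
  have h1 : k % 3 < 3 := Int.emod_lt_of_pos k (by norm_num)
  obtain ⟨n, hn⟩ : ∃ n : ℕ, k % 3 = n := ⟨(k % 3).toNat, (Int.toNat_of_nonneg h0).symm⟩
  rw [hn] at hk' h1
  have hn3 : n < 3 := by exact_mod_cast h1
  rw [zpow_natCast] at hk'
  interval_cases n
  · left; rw [← hk']; simp
  · right; left; rw [← hk']; simp
  · right; right; rw [← hk']; exact pow_two α

theorem B6_aux_comm_of_cm_eq {u a b : X} (h : u * a * u⁻¹ * a⁻¹ = u * b * u⁻¹ * b⁻¹) :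
    (a⁻¹ * b) * u = u * (a⁻¹ * b) := by
  have h' : a * u⁻¹ * a⁻¹ = b * u⁻¹ * b⁻¹ := by
    have := congrArg (fun t => u⁻¹ * t) h
    simpa [mul_assoc] using this
  have h0 : (a⁻¹ * b) * u⁻¹ * (a⁻¹ * b)⁻¹ = u⁻¹ := by
    calc (a⁻¹ * b) * u⁻¹ * (a⁻¹ * b)⁻¹ = a⁻¹ * (b * u⁻¹ * b⁻¹) * a := by group
      _ = a⁻¹ * (a * u⁻¹ * a⁻¹) * a := by rw [h']
      _ = u⁻¹ := by group
  have h1 : (a⁻¹ * b) * u⁻¹ = u⁻¹ * (a⁻¹ * b) := by
    calc (a⁻¹ * b) * u⁻¹ = ((a⁻¹ * b) * u⁻¹ * (a⁻¹ * b)⁻¹) * (a⁻¹ * b) := by group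
      _ = u⁻¹ * (a⁻¹ * b) := by rw [h0]
  exact (Commute.inv_right_iff.1 (show Commute (a⁻¹ * b) u⁻¹ from h1)).eq

/-- `λ + λ^α + λ^{α²} = 0` for `λ = [·, x]`. -/
theorem B6_aux_norm (hB : MaxAb A B) (h4 : ∀ b ∈ B, b ^ 4 = 1)
    (hcW : ∀ u ∈ B, ∀ x : X, u * x * u⁻¹ * x⁻¹ ∈ WW X)
    (hA3 : Nat.card A = 3)
    (hB5 : ∀ x : X, (∀ φ ∈ A, ∀ u ∈ B, u ^ 4 = 1 → (x⁻¹ * φ x) * u = u * (x⁻¹ * φ x)) →
      ∀ u ∈ B, u ^ 4 = 1 → x * u = u * x)
    (x : X) {α : MulAut X} (hα : α ∈ A) (hα1 : α ≠ 1) {p : X} (hp : p ∈ B) :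
    (p * x * p⁻¹ * x⁻¹) * α ((α⁻¹ p) * x * (α⁻¹ p)⁻¹ * x⁻¹) *
      (α * α) (((α * α)⁻¹ p) * x * ((α * α)⁻¹ p)⁻¹ * x⁻¹) = 1 := by
  obtain ⟨hα3, hall⟩ := B6_aux_A3 hA3 hα hα1
  have hcen : ∀ u ∈ B, ∀ z : X, u * z * u⁻¹ * z⁻¹ ∈ Subgroup.center X := fun u hu z => (hcW u hu z).1
  -- the product `y = x · αx · α²x`
  have hy : ∀ u ∈ B, ∀ a b c : X, u * (a * b * c) * u⁻¹ * (a * b * c)⁻¹ =
      (u * a * u⁻¹ * a⁻¹) * (u * b * u⁻¹ * b⁻¹) * (u * c * u⁻¹ * c⁻¹) := by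
    intro u hu a b c
    rw [B6_aux_cm_mul_right (hcen u hu c), B6_aux_cm_mul_right (hcen u hu b)]
  have hα3' : ∀ z : X, α (α (α z)) = z := by
    intro z
    have := congrArg (fun f : MulAut X => f z) hα3
    simpa [MulAut.mul_apply] using this
  have hfix : ∀ φ ∈ A, ∀ u ∈ B, u ^ 4 = 1 →
      ((x * α x * (α * α) x)⁻¹ * φ (x * α x * (α * α) x)) * u =
        u * ((x * α x * (α * α) x)⁻¹ * φ (x * α x * (α * α) x)) := by
    intro φ hφ u hu _
    apply B6_aux_comm_of_cm_eq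
    rcases hall φ hφ with h | h | h
    · rw [h]; rfl
    · -- `α y = αx · α²x · x`
      rw [h]
      have e : α (x * α x * (α * α) x) = α x * (α * α) x * x := by
        rw [map_mul, map_mul, MulAut.mul_apply, hα3']
      rw [e, hy u hu, hy u hu]
      have c1 := (Subgroup.mem_center_iff.1 (hcen u hu x)) ((u * α x * u⁻¹ * (α x)⁻¹) * (u * (α * α) x * u⁻¹ * ((α * α) x)⁻¹))
      rw [mul_assoc, ← c1]
    · rw [h]
      have e : (α * α) (x * α x * (α * α) x) = (α * α) x * x * α x := by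
        rw [map_mul, map_mul]
        simp only [MulAut.mul_apply]
        rw [hα3']
      rw [e, hy u hu, hy u hu]
      have c1 := (Subgroup.mem_center_iff.1 (hcen u hu ((α * α) x))) ((u * x * u⁻¹ * x⁻¹) * (u * α x * u⁻¹ * (α x)⁻¹))
      rw [c1, ← mul_assoc]
  have hyc := hB5 _ hfix p hp (h4 p hp)
  have e1 : α ((α⁻¹ p) * x * (α⁻¹ p)⁻¹ * x⁻¹) = p * α x * p⁻¹ * (α x)⁻¹ := by
    simp only [map_mul, map_inv, MulAut.apply_inv_self]
  have e2 : (α * α) (((α * α)⁻¹ p) * x * ((α * α)⁻¹ p)⁻¹ * x⁻¹) =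
      p * (α * α) x * p⁻¹ * ((α * α) x)⁻¹ := by
    simp only [map_mul, map_inv, MulAut.apply_inv_self]
  rw [e1, e2, ← hy p hp, B6_aux_cm_eq_one]
  exact hyc.symm

theorem B6_aux_pow4 (b : X) : b * b * (b * b) = b ^ 4 := by
  rw [show (4 : ℕ) = 2 + 2 from rfl, pow_add, pow_two]

/-- B6 core. -/
theorem B6_aux_core (H : Hyp A) (hB : MaxAb A B) (h4 : ∀ b ∈ B, b ^ 4 = 1)
    (hB1 : Nat.card (WW X) = 4 ∧ WW X ≤ B ∧ (∀ b ∈ B, b * b = 1 → b ∈ WW X) ∧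
      (∀ b ∈ B, (∀ φ ∈ A, φ b = b) → b = 1) ∧ ¬ (∀ φ ∈ A, ∀ w ∈ WW X, φ w = w))
    (hB2 : (∀ w ∈ WW X, ∃ u ∈ B, u * u = w) ∧
      (∀ u ∈ B, u ^ 4 = 1 → ∀ x : X, u * x * u⁻¹ * x⁻¹ ∈ WW X) ∧
      (∀ u ∈ B, u ^ 4 = 1 → (∀ φ ∈ A, u⁻¹ * φ u ∈ WW X) → u ∈ WW X) ∧
      (∀ c ∈ Sq B, ∃ b ∈ B, c = b * b) ∧
      (∀ b ∈ B, (∀ φ ∈ A, b⁻¹ * φ b ∈ Sq B) → b ∈ Sq B) ∧
      Nat.card (Sq B) * 4 = Nat.card B)
    (hB3 : ∀ x : X, (∀ b ∈ B, x * b = b * x) → x ∈ B)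
    (hB4 : Nat.card A = 3)
    (hB5 : ∀ x : X, (∀ φ ∈ A, ∀ u ∈ B, u ^ 4 = 1 → (x⁻¹ * φ x) * u = u * (x⁻¹ * φ x)) →
      ∀ u ∈ B, u ^ 4 = 1 → x * u = u * x)
    (hINV : ∀ t : X, t * t = 1 → (∀ x : X, t * x * t⁻¹ * x⁻¹ ∈ WW X) → t ∈ WW X)
    (hINJ : Nat.card A = 3 → (∀ w ∈ WW X, (∀ φ ∈ A, φ w = w) → w = 1) →
      ∀ (P P₀ : Subgroup X), P₀ ≤ P → (∀ a ∈ P, ∀ b ∈ P, a * b = b * a) →
      Inv A P → Inv A P₀ → Nat.card P₀ * 4 = Nat.card P →
      (∀ p ∈ P, (∀ φ ∈ A, p⁻¹ * φ p ∈ P₀) → p ∈ P₀) →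
      ∀ (lam : X → X), (∀ p ∈ P, ∀ q ∈ P, lam (p * q) = lam p * lam q) → (∀ p ∈ P, lam p ∈ WW X) →
      (∀ p ∈ P₀, lam p = 1) →
      (∀ α ∈ A, α ≠ 1 → ∀ p ∈ P, lam p * α (lam (α⁻¹ p)) * (α * α) (lam ((α * α)⁻¹ p)) = 1) →
      ∀ p ∈ P, lam p = 1 → p ∈ P₀ ∨ ∀ q ∈ P, lam q = 1)
    (hA2 : (∀ x y : X, x * y * x⁻¹ * y⁻¹ ∈ WW X) → (∀ x : X, x * x ∈ Subgroup.center X) →
      (∀ z ∈ Subgroup.center X, z * z = 1) →
      commutator X = Subgroup.center X ∧ frattini X = Subgroup.center X) :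
    Cfsg.IsSpecial 2 X ∧ Nat.card X = 64 ∧ Nat.card (Subgroup.center X) = 4 ∧
      (∀ z ∈ Subgroup.center X, z * z = 1) ∧ ∀ t : X, t * t = 1 → t ∈ Subgroup.center X := by
  obtain ⟨hW4, hWB, hOm, hCBA, hmove⟩ := hB1
  obtain ⟨hsq, hcW', hnfU, hSqel, hnfSq, hSqcard⟩ := hB2
  have hcW : ∀ u ∈ B, ∀ x : X, u * x * u⁻¹ * x⁻¹ ∈ WW X := fun u hu x => hcW' u hu (h4 u hu) x
  -- `Sq B = W`
  have hSqW : Sq B = WW X := by
    apply le_antisymm
    · unfold Sq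
      rw [Subgroup.closure_le]
      rintro _ ⟨b, hb, rfl⟩
      apply hOm _ (B.mul_mem hb hb)
      rw [B6_aux_pow4, h4 b hb]
    · intro w hw
      obtain ⟨u, hu, rfl⟩ := hsq w hw
      exact Subgroup.subset_closure ⟨u, hu, rfl⟩
  have hidx : Nat.card (WW X) * 4 = Nat.card B := by rw [← hSqW]; exact hSqcard
  have hB16 : Nat.card B = 16 := by rw [← hidx, hW4]
  have hfixW : ∀ w ∈ WW X, (∀ φ ∈ A, φ w = w) → w = 1 := fun w hw hf => hCBA w (hWB hw) hf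
  -- the injectivity statement
  have hinj : ∀ x : X, ∀ p ∈ B, p * x = x * p → p ∈ WW X ∨ ∀ q ∈ B, q * x = x * q := by
    intro x p hp hpx
    have := hINJ hB4 hfixW B (WW X) hWB hB.comm hB.inv (B6_aux_invW A) hidx
      (fun p hp hf => hnfU p hp (h4 p hp) hf)
      (fun p => p * x * p⁻¹ * x⁻¹)
      (fun p hp q hq => B6_aux_cm_mul_left (hcW q hq x).1)
      (fun p hp => hcW p hp x)
      (fun p hp => B6_aux_cm_eq_one.2 ((Subgroup.mem_center_iff.1 hp.1 x).symm))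
      (fun α hα hα1 p hp => B6_aux_norm hB h4 hcW hB4 hB5 x hα hα1 hp)
      p hp (B6_aux_cm_eq_one.2 hpx)
    rcases this with h | h
    · left; exact h
    · right; intro q hq; exact B6_aux_cm_eq_one.1 (h q hq)
  -- an element of `B ∖ W`
  obtain ⟨u, hu, huW⟩ : ∃ u ∈ B, u ∉ WW X := by
    by_contra hcon
    push Not at hcon
    have hle : B ≤ WW X := hcon
    have := Subgroup.card_le_of_le hle
    omega
  -- the centralizer of `u` is `B`
  have hker : ∀ x : X, u * x = x * u → x ∈ B := by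
    intro x hx
    rcases hinj x u hu hx with h | h
    · exact absurd h huW
    · exact hB3 x (fun b hb => (h b hb).symm)
  -- the homomorphism `x ↦ [u, x]`
  let f : X →* X :=
    { toFun := fun x => u * x * u⁻¹ * x⁻¹
      map_one' := by group
      map_mul' := fun x y => B6_aux_cm_mul_right (hcW u hu y).1 }
  have hfapp : ∀ x, f x = u * x * u⁻¹ * x⁻¹ := fun x => rfl
  have hfker : f.ker = B := by
    ext x
    rw [MonoidHom.mem_ker, hfapp, B6_aux_cm_eq_one]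
    exact ⟨hker x, fun hx => hB.comm u hu x hx⟩
  have hfrange : f.range ≤ WW X := by
    rintro _ ⟨x, rfl⟩
    exact hcW u hu x
  have hcardX : Nat.card X = 16 * Nat.card f.range := by
    have h1 := Subgroup.card_mul_index f.ker
    rw [Subgroup.index_ker, hfker, hB16] at h1
    exact h1.symm
  have hBidx : B.index = Nat.card f.range := by rw [← hfker, Subgroup.index_ker]
  have hrdvd : Nat.card f.range ∣ 4 := hW4 ▸ Subgroup.card_dvd_of_le hfrange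
  have hr4 : Nat.card f.range = 4 := by
    have hle := Nat.le_of_dvd (by norm_num) hrdvd
    have hpos : 0 < Nat.card f.range := Nat.card_pos
    generalize Nat.card f.range = r at *
    interval_cases r
    · -- `X = B` is abelian
      exfalso
      have htop : B = ⊤ := by
        rw [← Subgroup.card_eq_iff_eq_top, hB16, hcardX]
      obtain ⟨a, b, hab⟩ := H.na
      exact hab (hB.comm a (htop ▸ Subgroup.mem_top a) b (htop ▸ Subgroup.mem_top b))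
    · -- a fixed coset
      exfalso
      have hne : B ≠ ⊤ := by
        intro h
        rw [h, Subgroup.index_top] at hBidx
        omega
      obtain ⟨x, hx⟩ : ∃ x : X, x ∉ B := by
        by_contra hcon
        push Not at hcon
        exact hne (eq_top_iff.2 (fun x _ => hcon x))
      apply hx
      apply hB3 x
      intro b hb
      refine hB5 x ?_ b hb (h4 b hb)
      intro φ hφ v hv _
      apply (hB.comm _ ?_ v hv)
      rw [Subgroup.mul_mem_iff_of_index_two hBidx]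
      constructor
      · intro h; exact absurd ((Subgroup.inv_mem_iff B).1 h) hx
      · intro h
        exfalso
        apply hx
        have := hB.inv φ⁻¹ (A.inv_mem hφ) _ h
        simpa using this
    · exfalso; omega
    · rfl
  have hX64 : Nat.card X = 64 := by rw [hcardX, hr4]
  -- an element outside `B`
  obtain ⟨x0, hx0⟩ : ∃ x : X, x ∉ B := by
    by_contra hcon
    push Not at hcon
    have htop : B = ⊤ := eq_top_iff.2 (fun x _ => hcon x)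
    have := (Subgroup.card_eq_iff_eq_top B).2 htop
    omega
  -- the centre is `W`
  have hZW : ∀ z ∈ Subgroup.center X, z ∈ WW X := by
    intro z hz
    have hzB : z ∈ B := hB3 z (fun b _ => ((Subgroup.mem_center_iff.1 hz) b).symm)
    rcases hinj x0 z hzB ((Subgroup.mem_center_iff.1 hz x0).symm) with h | h
    · exact h
    · exact absurd (hB3 x0 (fun b hb => (h b hb).symm)) hx0
  have hZeq : Subgroup.center X = WW X := le_antisymm hZW WW_le_center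
  -- squares
  have hsqW : ∀ x : X, x * x ∈ WW X := by
    intro x
    by_cases hx : x ∈ B
    · apply hOm _ (B.mul_mem hx hx)
      rw [B6_aux_pow4, h4 x hx]
    · have h1 : x * x ∈ B := by
        apply hker
        rw [← B6_aux_cm_eq_one, B6_aux_cm_mul_right (hcW u hu x).1]
        exact (hcW u hu x).2
      rcases hinj x (x * x) h1 (by group) with h | h
      · exact h
      · exact absurd (hB3 x (fun b hb => (h b hb).symm)) hx
  -- commutators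
  have hcomW : ∀ x y : X, x * y * x⁻¹ * y⁻¹ ∈ WW X := by
    intro x y
    have e : x * y * x⁻¹ * y⁻¹ = (x * y * (x * y)) * (y⁻¹ * (x⁻¹ * x⁻¹) * y) * (y⁻¹ * y⁻¹) := by group
    have hw := hsqW x⁻¹
    have hc : y⁻¹ * (x⁻¹ * x⁻¹) * y = x⁻¹ * x⁻¹ := by
      rw [mul_assoc, ← (Subgroup.mem_center_iff.1 hw.1 y), inv_mul_cancel_left]
    rw [e, hc]
    exact (WW X).mul_mem ((WW X).mul_mem (hsqW (x * y)) hw) (hsqW y⁻¹)
  obtain ⟨hcomm, hfrat⟩ := hA2 hcomW (fun x => (hsqW x).1) (fun z hz => (hZW z hz).2)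
  refine ⟨⟨H.pX, hfrat, hcomm⟩, hX64, ?_, fun z hz => (hZW z hz).2, ?_⟩
  · rw [hZeq]; exact hW4
  · intro t ht
    exact (hINV t ht (fun x => hcomW t x)).1

end Cfsg.Agent.S1904P
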