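import Mathlib
import Cfsg.Prelude.Def_Transfer
import Cfsg.Agent.Helper8.S1904Defs
import Cfsg.Agent.Helper11.Q8Aut

/-! Board `s1904pieces`, row E4a (helper4): an extraspecial group of order 8 admitting `A` is `Q8`. -/

set_option autoImplicit false

namespace Cfsg.Agent.S1904P

variable {X : Type*} [Group X] [Finite X] {A : Subgroup (MulAut X)} {B : Subgroup X}

/-- `A` contains a nontrivial automorphism. -/
theorem E4a_aux_ne_bot (H : Hyp A) : ∃ φ ∈ A, φ ≠ 1 := by
  by_contra hcon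
  push Not at hcon
  obtain ⟨a, b, hab⟩ := H.na
  have hbot : Subgroup.closure {g : X | ∃ φ ∈ A, ∃ x : X, g = x⁻¹ * φ x} = ⊥ := by
    rw [Subgroup.closure_eq_bot_iff]
    rintro g ⟨φ, hφ, x, rfl⟩
    rw [hcon φ hφ]
    simp
  have htop := H.gen
  rw [hbot] at htop
  have h1 : ∀ x : X, x = 1 := fun x => by
    have : x ∈ (⊤ : Subgroup X) := Subgroup.mem_top x
    rw [← htop] at this
    exact Subgroup.mem_bot.mp this
  exact hab (by rw [h1 a, h1 b])

/-- E4a: order 8 gives `Q8`. -/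
theorem E4a (H : Hyp A) (hes : Cfsg.IsExtraspecial 2 X) (h8 : Nat.card X = 8) :
    Nonempty (X ≃* QuaternionGroup 2) := by
  obtain ⟨⟨_, _, hcomm⟩, hc2⟩ := hes
  have hna : ¬ IsMulCommutative X := by
    intro h
    obtain ⟨a, b, hab⟩ := H.na
    exact hab (h.is_comm.comm a b)
  have h4 : (commutator X).index = 4 := by
    have h1 := Subgroup.card_mul_index (commutator X)
    rw [hcomm, hc2, h8] at h1
    rw [hcomm]
    omega
  have haut : ¬ IsPGroup 2 (MulAut X) := by
    intro hp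
    obtain ⟨φ, hφ, hφ1⟩ := E4a_aux_ne_bot H
    obtain ⟨k, hk⟩ := hp φ
    -- the order of `φ` divides `2 ^ k` and `|A|`
    have hd1 : orderOf φ ∣ 2 ^ k := orderOf_dvd_of_pow_eq_one hk
    have hd2 : orderOf φ ∣ Nat.card A := by
      have := orderOf_dvd_natCard (⟨φ, hφ⟩ : A)
      rwa [Subgroup.orderOf_mk] at this
    have hcop : Nat.Coprime (2 ^ k) (Nat.card A) := by
      apply Nat.Coprime.pow_left
      exact Nat.coprime_two_left.mpr H.oddA
    have : orderOf φ = 1 := Nat.eq_one_of_dvd_coprimes hcop hd1 hd2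
    exact hφ1 (orderOf_eq_one_iff.mp this)
  exact Cfsg.Agent.Helper11.Q8Aut.q8_of_aut H.pX hna h4 haut

end Cfsg.Agent.S1904P
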