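import Mathlib
import Cfsg.Prelude.Def_Characters
import Cfsg.Agent.Helper7.S2333Defs
import Cfsg.Agent.Helper7.S2333Basic

set_option autoImplicit false

/-! S2333 piece DUAL: orthogonality of the characters `lamS` of the Siegel radical. -/

namespace Cfsg.Agent.S2333P

open Matrix Cfsg Cfsg.Agent.Helper25

variable {F : Type*} [Field F] {n : ℕ}

theorem dual_pairM_eq_sum (M Y : Matrix (Fin n) (Fin n) F) :
    pairM M Y = ∑ a, ∑ b, M a b * Y a b := by
  unfold pairM
  rw [Matrix.trace]
  simp only [Matrix.diag_apply, Matrix.mul_apply, Matrix.transpose_apply]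
  rw [Finset.sum_comm]

theorem dual_pairM_add_left (M M' Y : Matrix (Fin n) (Fin n) F) :
    pairM (M + M') Y = pairM M Y + pairM M' Y := by
  unfold pairM
  rw [Matrix.transpose_add, Matrix.add_mul, Matrix.trace_add]

theorem dual_upp_add (H H' : Matrix (Fin n) (Fin n) F) : upp (H + H') = upp H + upp H' := by
  ext a b
  rw [Matrix.add_apply, upp_apply, upp_apply, upp_apply, Matrix.add_apply]
  split_ifs <;> simp

/-- the test matrix -/
def dualH (i j : Fin n) (t : F) : Matrix (Fin n) (Fin n) F :=
  Matrix.of fun a b => if (a = i ∧ b = j) ∨ (a = j ∧ b = i) then t else 0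

theorem dualH_mem (i j : Fin n) (t : F) : dualH i j t ∈ SymM n F := by
  rw [mem_SymM]
  ext a b
  simp only [dualH, Matrix.transpose_apply, Matrix.of_apply]
  have : ((b = i ∧ a = j) ∨ (b = j ∧ a = i)) ↔ ((a = i ∧ b = j) ∨ (a = j ∧ b = i)) := by tauto
  simp only [this]

theorem dual_pairM_dualH (i j : Fin n) (hij : i ≤ j) (t : F) (Y : Matrix (Fin n) (Fin n) F) :
    pairM (upp (dualH i j t)) Y = t * Y i j := by
  classical
  rw [dual_pairM_eq_sum]
  rw [Finset.sum_eq_single i]
  · rw [Finset.sum_eq_single j]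
    · rw [upp_apply, if_pos hij]
      simp [dualH]
    · intro b _ hb
      rw [upp_apply]
      split_ifs with h
      · have : dualH i j t i b = 0 := by
          simp only [dualH, Matrix.of_apply]
          rw [if_neg]
          rintro (⟨-, h1⟩ | ⟨h1, h2⟩)
          · exact hb h1
          · -- i = j and b = i
            apply hb
            rw [h2, h1]
        rw [this, zero_mul]
      · rw [zero_mul]
    · intro h; exact absurd (Finset.mem_univ _) h
  · intro a _ ha
    apply Finset.sum_eq_zero
    intro b _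
    rw [upp_apply]
    split_ifs with h
    · have : dualH i j t a b = 0 := by
        simp only [dualH, Matrix.of_apply]
        rw [if_neg]
        rintro (⟨h1, -⟩ | ⟨h1, h2⟩)
        · exact ha h1
        · -- a = j, b = i, a ≤ b so j ≤ i so i = j
          apply ha
          rw [h1, h2] at h
          rw [h1]
          exact le_antisymm h hij
      rw [this, zero_mul]
    · rw [zero_mul]
  · intro h; exact absurd (Finset.mem_univ _) h

theorem sum_lamS_eq_zero [Fintype F] [Fintype ↥(SymM n F)] (ψ : AddChar F ℂ) (hψ : ψ 1 ≠ 1)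
    (Y : ↥(SymM n F)) (hY : Y ≠ 0) :
    ∑ H : ↥(SymM n F), lamS ψ H (Multiplicative.ofAdd Y) = 0 := by
  classical
  -- an entry `Y i j ≠ 0` with `i ≤ j`
  have hY' : Y.1 ≠ 0 := fun h => hY (Subtype.ext h)
  obtain ⟨i, j, hij, hne⟩ : ∃ i j : Fin n, i ≤ j ∧ Y.1 i j ≠ 0 := by
    by_contra hcon
    push Not at hcon
    apply hY'
    ext a b
    rcases le_total a b with h | h
    · exact hcon a b h
    · have hsym : Y.1ᵀ = Y.1 := Y.2
      have : Y.1 a b = Y.1 b a := by
        conv_lhs => rw [← hsym]
        rfl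
      rw [this]
      exact hcon b a h
  set t : F := (Y.1 i j)⁻¹ with ht
  set H₀ : ↥(SymM n F) := ⟨dualH i j t, dualH_mem i j t⟩ with hH₀
  have hpair : pairM (upp H₀.1) Y.1 = 1 := by
    rw [hH₀]
    show pairM (upp (dualH i j t)) Y.1 = 1
    rw [dual_pairM_dualH i j hij, ht, inv_mul_cancel₀ hne]
  set S := ∑ H : ↥(SymM n F), lamS ψ H (Multiplicative.ofAdd Y) with hS
  have hshift : S = ψ 1 * S := by
    rw [hS, Finset.mul_sum]
    rw [← Equiv.sum_comp (Equiv.addRight H₀)]
    apply Finset.sum_congr rfl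
    intro H _
    rw [lamS_apply, lamS_apply]
    show ψ (pairM (upp ((H + H₀ : ↥(SymM n F)) : Matrix (Fin n) (Fin n) F)) Y.1) = _
    rw [AddSubgroup.coe_add, dual_upp_add, dual_pairM_add_left, hpair, AddChar.map_add_eq_mul,
      mul_comm]
  have h1 : (1 - ψ 1) * S = 0 := by
    rw [sub_mul, one_mul, ← hshift, sub_self]
  rcases mul_eq_zero.mp h1 with h | h
  · exact absurd (sub_eq_zero.mp h).symm hψ
  · exact h

end Cfsg.Agent.S2333P
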