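import Mathlib
import Cfsg.Agent.Helper4.S23Hub
import Cfsg.Agent.Helper4.RigidFrame
import Cfsg.Agent.Helper4.M23Simple
import Cfsg.Agent.S0350
import Cfsg.Prelude.Def_Sporadic

/-!
# The Steiner system `S(4,7,23)`: uniqueness and automorphism group
-/

set_option autoImplicit false
set_option linter.unusedSectionVars false
set_option linter.unusedVariables false

namespace Cfsg.Agent.Helper4.S23Main

open Finset Cfsg Function Cfsg.Agent.Helper4.SteinerOpt Cfsg.Agent.Helper4.Pg24
  Cfsg.Agent.Helper4.S23Hub Cfsg.Agent.Helper4.RigidFrame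

/-- The coordinate package for `S(4,7,23)`. -/
def pk23 : Pkg P2 7 where
  Hub := IsHub23
  f₀ := f₀
  x₀ := x₀
  g₀ := lift2 g0
  τ := Equiv.swap 5 6
  sg := sig
  eq := fun j D D' => hub23_eq
  twist := fun j D => hub23_twist
  sg_ne := fun j D h => sig_ne h.jmem
  two := fun j j' D D' h h' => by
    rcases h.jmem with rfl | rfl <;> rcases h'.jmem with rfl | rfl
    · exact Or.inl rfl
    · exact Or.inr rfl
    · exact Or.inr rfl
    · exact Or.inl rfl
  cls_unique := fun j j' D => hub23_class_unique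
  rigid := fun j₁ j₂ D₁ D₂ h₁ h₂ h => hub23_rigid h₁ h₂ h
  g₀f := by decide
  g₀x := rfl
  ττ := by decide

section Main

variable {α β : Type*} [Fintype α] [DecidableEq α] [Fintype β] [DecidableEq β]

theorem hasCoord23 (hα : Fintype.card α = 23) {D : Set (Finset α)}
    (hD : IsSteinerSystem 4 7 D) : HasCoord pk23 D := by
  intro f x hF
  exact hub23_coord hα hD f x hF.1 hF.2.1 hF.2.2

theorem exists_frame23 (hα : Fintype.card α = 23) {D : Set (Finset α)}
    (hD : IsSteinerSystem 4 7 D) : ∃ (f : Fin 7 → α) (x : α), IsFrame D f x := by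
  have hne : Nonempty (Fin 4 ↪ α) := by
    rw [Function.Embedding.nonempty_iff_card_le, Fintype.card_fin, hα]
    norm_num
  obtain ⟨x⟩ := hne
  obtain ⟨f, hF, -⟩ := exists_frame (n := 3) hD (by norm_num) (by rw [hα]; norm_num) x
  exact ⟨f, _, hF⟩

theorem s23_iso (hα : Fintype.card α = 23) (hβ : Fintype.card β = 23) {B : Set (Finset α)}
    {B' : Set (Finset β)} (hB : IsSteinerSystem 4 7 B) (hB' : IsSteinerSystem 4 7 B') :
    SetSystemIso B B' := by
  obtain ⟨f, x, hF⟩ := exists_frame23 hα hB
  obtain ⟨f', x', hF'⟩ := exists_frame23 hβ hB'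
  obtain ⟨e, he, -, -⟩ := exists_iso pk23 (hasCoord23 hα hB) (hasCoord23 hβ hB') hF hF'
  exact setSystemIso_of_iff e he

theorem s23_trans (hα : Fintype.card α = 23) {B : Set (Finset α)}
    (hB : IsSteinerSystem 4 7 B) : MulAction.IsMultiplyPretransitive (setSystemAut B) α 4 :=
  pretransitive pk23 (n := 3) (hasCoord23 hα hB) hB (by norm_num) (by rw [hα]; norm_num)
    (by intro i; fin_cases i <;> rfl)

theorem s23_card (hα : Fintype.card α = 23) {B : Set (Finset α)}
    (hB : IsSteinerSystem 4 7 B) : Nat.card (setSystemAut B) = 10200960 := by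
  obtain ⟨f, x, hF⟩ := exists_frame23 hα hB
  have h1 := two_mul_card_aut pk23 (hasCoord23 hα hB) hF hB.1
  have h2 := Cfsg.Agent.S0350.result hB
  rw [hα] at h1 h2
  have h3 : Nat.choose 7 4 = 35 := by decide
  have h4 : Nat.choose 23 4 = 8855 := by decide
  have h5 : Nat.factorial 7 = 5040 := by decide
  rw [h3, h4] at h2
  rw [h5] at h1
  omega

theorem s23_aut (hα : Fintype.card α = 23) {B : Set (Finset α)}
    (hB : IsSteinerSystem 4 7 B) :
    IsM23 (setSystemAut B) ∧ MulAction.IsMultiplyPretransitive (setSystemAut B) α 4 := by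
  have h4 := s23_trans hα hB
  have hc := s23_card hα hB
  have hcardα : Nat.card α = 23 := by rw [Nat.card_eq_fintype_card, hα]
  have h3 : MulAction.IsMultiplyPretransitive (setSystemAut B) α 3 :=
    MulAction.isMultiplyPretransitive_of_le (n := 4) (by norm_num) (by rw [hcardα]; norm_num)
  exact ⟨⟨Cfsg.Agent.Helper4.M23Simple.simple_23 hα h3 hc, hc⟩, h4⟩

end Main

end Cfsg.Agent.Helper4.S23Main
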