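import Mathlib
import Cfsg.Agent.Helper4.S2522.Defs
import Cfsg.Agent.Helper24.S2522AVOID3

/-! S2522 piece CHOICEE (driver helper4): selection of the vector `e`.

For a `Nice` endomorphism `g`, a vector `y₀` and a nonzero functional `ξ₀` there is `e` with
`ξ₀ e ≠ 0`, `(g - 1) e ∉ span {y₀}`, `e` not an eigenvector of `g`, and `e ∉ range (g - 1)` when that
range is proper. -/

set_option autoImplicit false

namespace Cfsg.Agent.S2522P

open Module

namespace CHOICEE

variable {K : Type*} [Field K] {V : Type*} [AddCommGroup V] [Module K V]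

theorem finrank_span_singleton_le_one (y : V) :
    Module.finrank K (Submodule.span K ({y} : Set V)) ≤ 1 := by
  by_cases hy : y = 0
  · subst hy
    rw [Submodule.span_zero_singleton, finrank_bot]
    exact Nat.zero_le 1
  · rw [finrank_span_singleton hy]

/-- eigenvectors for distinct eigenvalues: `e₁ + t • e₂` is not an eigenvector for `t ≠ 0` -/
theorem not_eigen_add (g : Module.End K V) (e₁ e₂ : V) (α β : K) (h₁ : g e₁ = α • e₁)
    (h₂ : g e₂ = β • e₂) (hαβ : α ≠ β) (he₁ : e₁ ≠ 0) (he₂ : e₂ ≠ 0) (t : K) (ht : t ≠ 0) (c : K) :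
    g (e₁ + t • e₂) ≠ c • (e₁ + t • e₂) := by
  intro h
  rw [map_add, map_smul, h₁, h₂] at h
  -- (α - c) e₁ + t (β - c) e₂ = 0
  have h0 : (α - c) • e₁ + (t * (β - c)) • e₂ = 0 := by
    have : α • e₁ + t • β • e₂ - c • (e₁ + t • e₂) = 0 := sub_eq_zero.2 h
    rw [← this]
    module
  -- apply g
  have h0g : (α - c) • α • e₁ + (t * (β - c)) • β • e₂ = 0 := by
    have := congrArg g h0
    rwa [map_add, map_smul, map_smul, h₁, h₂, map_zero] at this
  -- eliminate e₁
  have h3 : (t * (β - c) * (β - α)) • e₂ = 0 := by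
    have : (α - c) • α • e₁ + (t * (β - c)) • β • e₂ - α • ((α - c) • e₁ + (t * (β - c)) • e₂) = 0 := by
      rw [h0g, h0, smul_zero, sub_zero]
    rw [← this]
    module
  have h4 : t * (β - c) * (β - α) = 0 := by
    rcases smul_eq_zero.1 h3 with h | h
    · exact h
    · exact absurd h he₂
  have h5 : β - c = 0 := by
    rcases mul_eq_zero.1 h4 with h | h
    · rcases mul_eq_zero.1 h with h | h
      · exact absurd h ht
      · exact h
    · exact absurd (sub_eq_zero.1 h).symm hαβ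
  rw [h5, mul_zero, zero_smul, add_zero] at h0
  rcases smul_eq_zero.1 h0 with h | h
  · apply hαβ
    rw [sub_eq_zero.1 h, sub_eq_zero.1 h5]
  · exact he₁ h

theorem exists_e (hK : HK4 K) [FiniteDimensional K V] (g : Module.End K V) (hg : Nice g)
    (y₀ : V) (ξ₀ : Module.Dual K V) (hξ : ξ₀ ≠ 0) :
    ∃ e : V, ξ₀ e ≠ 0 ∧ (g - 1) e ∉ Submodule.span K {y₀} ∧ (∀ c : K, g e ≠ c • e) ∧
      (LinearMap.range (g - 1) ≠ ⊤ → e ∉ LinearMap.range (g - 1)) := by
  set H₁ : Submodule K V := LinearMap.ker ξ₀ with hH₁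
  set H₂ : Submodule K V := (Submodule.span K {y₀}).comap (g - 1) with hH₂
  have h₁ : H₁ ≠ ⊤ := fun h => hξ (LinearMap.ker_eq_top.1 h)
  have h₂ : H₂ ≠ ⊤ := by
    intro h
    have hle : LinearMap.range (g - 1) ≤ Submodule.span K {y₀} := by
      rintro _ ⟨v, rfl⟩
      have hv : v ∈ H₂ := by rw [h]; trivial
      exact hv
    have h1 := Submodule.finrank_mono hle
    have h2 := finrank_span_singleton_le_one (K := K) y₀
    have h3 := hg.2
    omega
  have mem₁ : ∀ v : V, v ∉ H₁ → ξ₀ v ≠ 0 := fun v hv h => hv (LinearMap.mem_ker.2 h)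
  have mem₂ : ∀ v : V, v ∉ H₂ → (g - 1) v ∉ Submodule.span K {y₀} := fun v hv h => hv h
  by_cases hr : LinearMap.range (g - 1) = ⊤
  · -- `g - 1` is onto: the last condition is void
    obtain ⟨e₁, he11, he12⟩ := AVOID3.exists_notMem_two H₁ H₂ h₁ h₂
    by_cases hne₁ : ∀ c : K, g e₁ ≠ c • e₁
    · exact ⟨e₁, mem₁ _ he11, mem₂ _ he12, hne₁, fun h => absurd hr h⟩
    push Not at hne₁
    obtain ⟨α, hα⟩ := hne₁
    set H₃ : Submodule K V := LinearMap.ker (g - α • (1 : Module.End K V)) with hH₃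
    have h₃ : H₃ ≠ ⊤ := by
      intro h
      apply hg.1
      refine ⟨α, ?_⟩
      have := LinearMap.ker_eq_top.1 h
      exact sub_eq_zero.1 this
    obtain ⟨e₂, he21, he22, he23⟩ := AVOID3.exists_notMem hK H₁ H₂ H₃ h₁ h₂ h₃
    by_cases hne₂ : ∀ c : K, g e₂ ≠ c • e₂
    · exact ⟨e₂, mem₁ _ he21, mem₂ _ he22, hne₂, fun h => absurd hr h⟩
    push Not at hne₂
    obtain ⟨β, hβ⟩ := hne₂
    have hαβ : α ≠ β := by
      rintro rfl
      apply he23
      rw [hH₃, LinearMap.mem_ker, LinearMap.sub_apply, LinearMap.smul_apply, Module.End.one_apply,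
        hβ, sub_self]
    have he₁ : e₁ ≠ 0 := by
      rintro rfl
      exact he11 H₁.zero_mem
    have he₂ : e₂ ≠ 0 := by
      rintro rfl
      exact he21 H₁.zero_mem
    obtain ⟨s₁, hs₁⟩ := AVOID3.exists_bad H₁ e₁ e₂ he21
    obtain ⟨s₂, hs₂⟩ := AVOID3.exists_bad H₂ e₁ e₂ he22
    obtain ⟨t, ht1, ht2, ht0⟩ := hK s₁ s₂ 0
    exact ⟨e₁ + t • e₂, mem₁ _ (hs₁ t ht1), mem₂ _ (hs₂ t ht2),
      not_eigen_add g e₁ e₂ α β hα hβ hαβ he₁ he₂ t ht0, fun h => absurd hr h⟩
  · obtain ⟨e, he1, he2, he3⟩ := AVOID3.exists_notMem hK H₁ H₂ _ h₁ h₂ hr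
    refine ⟨e, mem₁ _ he1, mem₂ _ he2, ?_, fun _ => he3⟩
    intro c hc
    by_cases hc1 : c = 1
    · apply he2
      show (g - 1) e ∈ Submodule.span K {y₀}
      rw [LinearMap.sub_apply, hc, hc1, Module.End.one_apply, one_smul, sub_self]
      exact Submodule.zero_mem _
    · apply he3
      refine ⟨(c - 1)⁻¹ • e, ?_⟩
      have hce : c • e - e = (c - 1) • e := by rw [sub_smul, one_smul]
      rw [map_smul, LinearMap.sub_apply, hc, Module.End.one_apply, hce, smul_smul,
        inv_mul_cancel₀ (sub_ne_zero.2 hc1), one_smul]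

end CHOICEE

end Cfsg.Agent.S2522P
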