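import Mathlib
import Cfsg.Agent.Helper14.S2863Defs
import Cfsg.Agent.Helper22.S2863PBASIC
import Cfsg.Agent.Helper22.S2863PPROD
import Cfsg.Agent.Helper4.S2863PFIX
import Cfsg.Agent.Helper4.S2863PSQcore

/-! Board `s2863pieces`, row PSQ (helper4): the central case. -/

set_option autoImplicit false
set_option linter.unusedVariables false
set_option linter.unusedSectionVars false

namespace Cfsg.Agent.S2863P

open Cfsg Subgroup
open Cfsg.Agent.Helper14 (cj)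

section P
variable {G : Type*} [Group G] {L A C Y1 Y2 : Subgroup G}

/-- PSQ : the central case (`p` odd).  (`a = w1 w2` fixed by `h` mod `C`; `h` normalises `W1`, `W2`, so `w1`, `w2` are fixed;
`n = t s`: `w1 (n w1 n⁻¹)` is fixed by `n`, so it is in `C` by PPROD: `n w1 n⁻¹ ≡ w1⁻¹`, `s w1 s⁻¹ ≡ w1⁻¹`,
`[s, w1] ≡ w1⁻² ∈ W2 ⊓ W1`, `w1 ∈ C` as `p` is odd; for `w2` use `n' = s t`, `n'² ≡ h` mod `A`.) -/
theorem Pair.fpf_sq (P : Pair L A C Y1 Y2) {p : ℕ} [Fact p.Prime] (hp2 : p ≠ 2) (hAp : IsPGroup p ↥A)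
    {t s a0 h : G} (ht : t ∈ Y1) (htA : t ∉ A) (hs : s ∈ Y2) (hsA : s ∉ A) (ha0 : a0 ∈ A)
    (hh : h = (t * s) ^ 2 * a0) (hcen : ∀ l ∈ L, h * l * h⁻¹ * l⁻¹ ∈ A)
    (hn1 : h ∈ normalizer (Y1 : Set G)) (hn2 : h ∈ normalizer (Y2 : Set G)) : FPF A C h :=
  PSQ_aux_core P P.C_le (fun a ha b hb => P.abel ha hb) (fun a ha => P.decomp ha)
    (fun y hy a ha => P.comm_mem hy ha)
    (fun y hy a ha => P.symm.comm_mem hy ha)
    (fun t ht htA a ha hf => P.fix1 ht htA ha hf)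
    (fun s hs hsA a ha hf => P.symm.fix1 hs hsA ha hf)
    ht htA hs hsA ha0 (by simpa using P.fpf_prod ht htA hs hsA A.one_mem) hh hn1 hn2

end P

end Cfsg.Agent.S2863P
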