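import Mathlib
import Cfsg.Prelude.Def_Transfer
import Cfsg.Agent.Lead.Gaschutz
import Cfsg.Agent.Helper3.MaschkeExt

set_option autoImplicit false

/-! S3154 piece SPLIT (Gaschütz). -/

namespace Cfsg.Agent.S3154P

/-- a complement of `H ⊓ K` in an elementary abelian 2-group `K` -/
theorem SPLIT.aux_compl {X : Type*} [Group X] [Finite X] (H K : Subgroup X)
    (hKe : Cfsg.IsElementaryAbelian 2 K) :
    ∃ K₁ : Subgroup X, K₁ ≤ K ∧ H ⊓ K₁ = ⊥ ∧ (H ⊓ K) ⊔ K₁ = K := by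
  classical
  haveI : Fact (Nat.Prime 2) := ⟨Nat.prime_two⟩
  haveI : IsMulCommutative ↥K := hKe.1
  open scoped IsMulCommutative in
  obtain ⟨U, hU1, hU2⟩ := Cfsg.Agent.Helper3.exists_compl_of_exponent (V := ↥K) 2
    (fun v => Subtype.ext (by simpa using hKe.2 v.1 v.2)) ((H ⊓ K).subgroupOf K)
  refine ⟨U.map K.subtype, Subgroup.map_subtype_le U, ?_, ?_⟩
  · rw [Subgroup.eq_bot_iff_forall]
    rintro x ⟨hxH, hxU⟩
    obtain ⟨u, huU, rfl⟩ := hxU
    have hmem : u ∈ (H ⊓ K).subgroupOf K ⊓ U :=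
      Subgroup.mem_inf.mpr ⟨Subgroup.mem_subgroupOf.mpr ⟨hxH, u.2⟩, huU⟩
    rw [hU1, Subgroup.mem_bot] at hmem
    rw [hmem]
    rfl
  · apply le_antisymm
    · exact sup_le inf_le_right (Subgroup.map_subtype_le U)
    · intro k hk
      have hmem : (⟨k, hk⟩ : ↥K) ∈ (H ⊓ K).subgroupOf K ⊔ U := by
        rw [hU2]
        exact Subgroup.mem_top _
      have hmap : K.subtype ⟨k, hk⟩ ∈ ((H ⊓ K).subgroupOf K ⊔ U).map K.subtype :=
        Subgroup.mem_map_of_mem _ hmem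
      rw [Subgroup.map_sup, Subgroup.subgroupOf_map_subtype] at hmap
      have hle : (H ⊓ K) ⊓ K ⊔ U.map K.subtype ≤ (H ⊓ K) ⊔ U.map K.subtype :=
        sup_le_sup_right inf_le_left _
      exact hle hmap

/-- the main argument, for an arbitrary subgroup `N` in which `H` is normal -/
theorem SPLIT.aux_main {X : Type*} [Group X] [Finite X] {P : Type*} [Group P] (T : Sylow 2 X)
    (H K : Subgroup X) (hHK : H ⊔ K = T) (hHe : Cfsg.IsElementaryAbelian 2 H)
    (hKe : Cfsg.IsElementaryAbelian 2 K) (N : Subgroup X) (hHN : H ≤ N)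
    (hnorm : (H.subgroupOf N).Normal)
    (hTN : (T : Subgroup X) ≤ N)
    (ψ : N →* P) (hψ : Function.Surjective ψ)
    (hker : ψ.ker = H.subgroupOf N) :
    ∃ C : Subgroup X, C ≤ N ∧ C ⊓ H = ⊥ ∧ H ⊔ C = N ∧ Nonempty (↥C ≃* P) := by
  classical
  haveI : Fact (Nat.Prime 2) := ⟨Nat.prime_two⟩
  have hHT : H ≤ (T : Subgroup X) := hHK ▸ le_sup_left
  have hKT : K ≤ (T : Subgroup X) := hHK ▸ le_sup_right
  obtain ⟨K₁, hK₁K, hHK₁, hsup⟩ := SPLIT.aux_compl H K hKe
  have hK₁N : K₁ ≤ N := hK₁K.trans (hKT.trans hTN)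
  have hHK₁T : H ⊔ K₁ = (T : Subgroup X) := by
    apply le_antisymm
    · exact sup_le hHT (hK₁K.trans hKT)
    · rw [← hHK]
      apply sup_le le_sup_left
      rw [← hsup]
      exact sup_le (inf_le_left.trans le_sup_left) le_sup_right
  -- the objects inside the group `↥N`
  haveI := hnorm
  haveI hcomm : IsMulCommutative ↥(H.subgroupOf N) := by
    refine ⟨⟨?_⟩⟩
    rintro ⟨a, ha⟩ ⟨b, hb⟩
    apply Subtype.ext
    apply Subtype.ext
    show (a : X) * (b : X) = (b : X) * (a : X)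
    have := hHe.1.is_comm.comm (⟨(a : X), Subgroup.mem_subgroupOf.mp ha⟩ : ↥H)
      ⟨(b : X), Subgroup.mem_subgroupOf.mp hb⟩
    exact congrArg Subtype.val this
  have hle : H.subgroupOf N ≤ (T : Subgroup X).subgroupOf N := by
    intro x hx
    rw [Subgroup.mem_subgroupOf] at hx ⊢
    exact hHT hx
  have hcop : (Nat.card ↥(H.subgroupOf N)).Coprime ((T : Subgroup X).subgroupOf N).index := by
    have hpg : IsPGroup 2 ↥(H.subgroupOf N) := by
      intro x
      refine ⟨1, ?_⟩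
      apply Subtype.ext
      apply Subtype.ext
      have := hHe.2 ((x : ↥N) : X) (Subgroup.mem_subgroupOf.mp x.2)
      simpa using this
    obtain ⟨n, hn⟩ := hpg.exists_card_eq
    rw [hn]
    apply Nat.Coprime.pow_left
    rw [Nat.coprime_two_left]
    have hdvd : ((T : Subgroup X).subgroupOf N).index ∣ (T : Subgroup X).index :=
      Subgroup.relIndex_dvd_index_of_le hTN
    have hodd : ¬ 2 ∣ (T : Subgroup X).index := T.not_dvd_index
    rw [← Nat.not_even_iff_odd, even_iff_two_dvd]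
    exact fun h2 => hodd (h2.trans hdvd)
  have hAK : K₁.subgroupOf N ⊓ H.subgroupOf N = ⊥ := by
    rw [Subgroup.eq_bot_iff_forall]
    intro x hx
    obtain ⟨hx1, hx2⟩ := Subgroup.mem_inf.mp hx
    have hx1' : (x : X) ∈ K₁ := Subgroup.mem_subgroupOf.mp hx1
    have hx2' : (x : X) ∈ H := Subgroup.mem_subgroupOf.mp hx2
    have : (x : X) ∈ H ⊓ K₁ := Subgroup.mem_inf.mpr ⟨hx2', hx1'⟩
    rw [hHK₁, Subgroup.mem_bot] at this
    exact Subtype.ext this
  have hKA : H.subgroupOf N ⊔ K₁.subgroupOf N = (T : Subgroup X).subgroupOf N := by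
    rw [← Subgroup.subgroupOf_sup hHN hK₁N, hHK₁T]
  obtain ⟨Cn, hCn⟩ := Cfsg.Agent.Lead.gaschutz_exists (H.subgroupOf N)
    ((T : Subgroup X).subgroupOf N) hle hcop (K₁.subgroupOf N) hAK hKA
  have hdisj : H.subgroupOf N ⊓ Cn = ⊥ := disjoint_iff.mp hCn.disjoint
  have htop : H.subgroupOf N ⊔ Cn = ⊤ := hCn.sup_eq_top
  refine ⟨Cn.map N.subtype, Subgroup.map_subtype_le Cn, ?_, ?_, ?_⟩
  · rw [Subgroup.eq_bot_iff_forall]
    intro x hx
    obtain ⟨hxC, hxH⟩ := Subgroup.mem_inf.mp hx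
    obtain ⟨c, hcC, rfl⟩ := hxC
    have : c ∈ H.subgroupOf N ⊓ Cn := Subgroup.mem_inf.mpr ⟨Subgroup.mem_subgroupOf.mpr hxH, hcC⟩
    rw [hdisj, Subgroup.mem_bot] at this
    rw [this]
    rfl
  · have h1 : (H.subgroupOf N ⊔ Cn).map N.subtype = N := by
      rw [htop, ← MonoidHom.range_eq_map, Subgroup.range_subtype]
    rw [Subgroup.map_sup, Subgroup.subgroupOf_map_subtype, inf_eq_left.mpr hHN] at h1
    exact h1
  · -- `ψ` restricted to `Cn` is an isomorphism onto `P`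
    have hinj : Function.Injective (ψ.comp Cn.subtype) := by
      rw [← MonoidHom.ker_eq_bot_iff, Subgroup.eq_bot_iff_forall]
      intro c hc
      have hc' : (c : ↥N) ∈ ψ.ker := hc
      rw [hker] at hc'
      have : (c : ↥N) ∈ H.subgroupOf N ⊓ Cn := Subgroup.mem_inf.mpr ⟨hc', c.2⟩
      rw [hdisj, Subgroup.mem_bot] at this
      exact Subtype.ext this
    have hsurj : Function.Surjective (ψ.comp Cn.subtype) := by
      intro p
      obtain ⟨n, rfl⟩ := hψ p
      have hn : n ∈ ((H.subgroupOf N ⊔ Cn : Subgroup ↥N) : Set ↥N) := by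
        rw [htop]
        exact Subgroup.mem_top _
      rw [Subgroup.normal_mul] at hn
      obtain ⟨k, hk, c, hc, rfl⟩ := Set.mem_mul.mp hn
      refine ⟨⟨c, hc⟩, ?_⟩
      have hk1 : ψ k = 1 := by
        have : k ∈ ψ.ker := by
          rw [hker]
          exact hk
        exact this
      rw [map_mul, hk1, one_mul]
      rfl
    have e1 : ↥Cn ≃* P := MulEquiv.ofBijective (ψ.comp Cn.subtype) ⟨hinj, hsurj⟩
    have e2 : ↥Cn ≃* ↥(Cn.map N.subtype) :=
      Cn.equivMapOfInjective N.subtype N.subtype_injective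
    exact ⟨e2.symm.trans e1⟩

/-- SPLIT: Gaschütz. -/
theorem SPLIT {X : Type*} [Group X] [Finite X] {P : Type*} [Group P] (T : Sylow 2 X)
    (H K : Subgroup X) (hHK : H ⊔ K = T) (hHe : Cfsg.IsElementaryAbelian 2 H)
    (hKe : Cfsg.IsElementaryAbelian 2 K)
    (hTN : (T : Subgroup X) ≤ Subgroup.normalizer (H : Set X))
    (ψ : Subgroup.normalizer (H : Set X) →* P) (hψ : Function.Surjective ψ)
    (hker : ψ.ker = H.subgroupOf (Subgroup.normalizer (H : Set X))) :
    ∃ C : Subgroup X, C ≤ Subgroup.normalizer (H : Set X) ∧ C ⊓ H = ⊥ ∧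
      H ⊔ C = Subgroup.normalizer (H : Set X) ∧ Nonempty (↥C ≃* P) :=
  SPLIT.aux_main T H K hHK hHe hKe (Subgroup.normalizer (H : Set X)) Subgroup.le_normalizer
    Subgroup.normal_in_normalizer hTN ψ hψ hker

end Cfsg.Agent.S3154P
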