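import Mathlib
import Cfsg.Prelude.Def_Solvable

set_option autoImplicit false

/-! S3390 piece FROB. -/

namespace Cfsg.Agent.S3390P

open MulAction

variable {G : Type*} [Group G] [Finite G] {Ω : Type*} [Fintype Ω] [MulAction G Ω]

/-- pointwise form of fixity at most two -/
theorem FROB.aux_fix3 (hfix : ∀ g : G, g ≠ 1 → Nat.card (MulAction.fixedBy Ω g) ≤ 2)
    (g : G) (hg : g ≠ 1) (a b c : Ω) (hab : a ≠ b) (hac : a ≠ c) (hbc : b ≠ c)
    (ha : g • a = a) (hb : g • b = b) : g • c ≠ c := by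
  intro hc
  have hsub : ({a, b, c} : Set Ω) ⊆ MulAction.fixedBy Ω g := by
    intro ω hω
    rcases hω with rfl | rfl | rfl
    · exact ha
    · exact hb
    · exact hc
  have h3 : ({a, b, c} : Set Ω).ncard = 3 :=
    Set.ncard_eq_three.mpr ⟨a, b, c, hab, hac, hbc, rfl⟩
  have hle := Set.ncard_le_ncard hsub (Set.toFinite _)
  have h2 := hfix g hg
  rw [Nat.card_coe_set_eq] at h2
  omega

/-- the key fact: no non-identity element fixes `α` and a second point of the `G₀`-orbit of `α`. -/
theorem FROB.aux_key (htr : MulAction.IsPretransitive G Ω)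
    (hfix : ∀ g : G, g ≠ 1 → Nat.card (MulAction.fixedBy Ω g) ≤ 2)
    (S : Sylow 2 G) (α : Ω)
    (x : G) (hxα : x • α ≠ α)
    (hfree : ∀ s ∈ (S : Subgroup G), s ≠ 1 → ∀ ω : Ω, s • ω = ω →
      (ω = α ∨ ω = x • α) ∧ s ∈ (S : Subgroup G) ⊓ stabilizer G α)
    (G₀ : Subgroup G) (hn : G₀.Normal) (hG₀ : G₀.index = 2) (hα : stabilizer G α ≤ G₀) (hx : x ∉ G₀)
    (h : G) (h1 : h ≠ 1) (hhα : h • α = α) (g : G) (hg : g ∈ G₀) (hgα : g • α ≠ α)
    (hhg : h • (g • α) = g • α) : False := by
  classical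
  -- `α` and `x • α` are not in the same `G₀`-orbit
  have hsep : ∀ k ∈ G₀, k • α ≠ x • α := by
    intro k hk hkx
    apply hx
    have hmem : k⁻¹ * x ∈ stabilizer G α := by
      rw [mem_stabilizer_iff, mul_smul, ← hkx, inv_smul_smul]
    have := G₀.mul_mem hk (hα hmem)
    rwa [mul_inv_cancel_left] at this
  -- a power of prime order
  have hord : orderOf h ≠ 1 := by
    intro h'
    exact h1 (orderOf_eq_one_iff.mp h')
  obtain ⟨p, hp, hpd⟩ := Nat.exists_prime_and_dvd hord
  have hord0 : orderOf h ≠ 0 := (orderOf_pos h).ne'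
  set h₂ := h ^ (orderOf h / p) with hh₂
  have hop : orderOf h₂ = p := orderOf_pow_orderOf_div hord0 hpd
  have h₂1 : h₂ ≠ 1 := by
    intro h'
    rw [h', orderOf_one] at hop
    exact hp.one_lt.ne hop
  have h₂α : h₂ • α = α := by
    have : h ∈ stabilizer G α := hhα
    exact (stabilizer G α).pow_mem this _
  have h₂g : h₂ • (g • α) = g • α := by
    have : h ∈ stabilizer G (g • α) := hhg
    exact (stabilizer G (g • α)).pow_mem this _
  have h₂G₀ : h₂ ∈ G₀ := hα h₂α
  -- every fixed point of `h₂` is `α` or `g • α`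
  have hfp : ∀ ω : Ω, h₂ • ω = ω → ω = α ∨ ω = g • α := by
    intro ω hω
    by_contra hcon
    push Not at hcon
    exact FROB.aux_fix3 hfix h₂ h₂1 α (g • α) ω (Ne.symm hgα) (Ne.symm hcon.1) (Ne.symm hcon.2)
      h₂α h₂g hω
  by_cases hp2 : p = 2
  · -- `h₂` is an involution: conjugate it into `S`
    have hpg : IsPGroup 2 (Subgroup.zpowers h₂) := by
      apply IsPGroup.of_card (n := 1)
      rw [Nat.card_zpowers, hop, hp2, pow_one]
    obtain ⟨Q, hQ⟩ := hpg.exists_le_sylow
    obtain ⟨k, hk⟩ := MulAction.exists_smul_eq G S Q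
    have hmemQ : h₂ ∈ (Q : Subgroup G) := hQ (Subgroup.mem_zpowers h₂)
    rw [← hk, Sylow.coe_subgroup_smul, Subgroup.mem_pointwise_smul_iff_inv_smul_mem] at hmemQ
    have hsS : k⁻¹ * h₂ * k ∈ (S : Subgroup G) := by
      have : (MulAut.conj k)⁻¹ • h₂ = k⁻¹ * h₂ * k := by
        rw [MulAut.smul_def, MulAut.conj_inv_apply]
      rwa [this] at hmemQ
    have hs1 : k⁻¹ * h₂ * k ≠ 1 := by
      intro h'
      apply h₂1
      have : h₂ = k * (k⁻¹ * h₂ * k) * k⁻¹ := by group
      rw [this, h', mul_one, mul_inv_cancel]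
    have hf1 : (k⁻¹ * h₂ * k) • (k⁻¹ • α) = k⁻¹ • α := by
      rw [smul_smul, mul_inv_cancel_right, mul_smul, h₂α]
    have hf2 : (k⁻¹ * h₂ * k) • (k⁻¹ • (g • α)) = k⁻¹ • (g • α) := by
      rw [smul_smul, mul_inv_cancel_right, mul_smul, h₂g]
    have r1 := (hfree _ hsS hs1 _ hf1).1
    have r2 := (hfree _ hsS hs1 _ hf2).1
    have hne : k⁻¹ • α ≠ k⁻¹ • (g • α) := by
      intro h'
      exact hgα (smul_left_cancel _ h').symm
    -- `k⁻¹ g k ∈ G₀` carries `k⁻¹ α` to `k⁻¹ g α`
    have hconj : k⁻¹ * g * k ∈ G₀ := by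
      have := hn.conj_mem g hg k⁻¹
      rwa [inv_inv] at this
    have hcarry : (k⁻¹ * g * k) • (k⁻¹ • α) = k⁻¹ • (g • α) := by
      rw [smul_smul, mul_inv_cancel_right, mul_smul]
    rcases r1 with r1 | r1 <;> rcases r2 with r2 | r2
    · exact hne (r1.trans r2.symm)
    · -- k⁻¹α = α, k⁻¹gα = xα
      rw [r1, r2] at hcarry
      exact hsep _ hconj hcarry
    · -- k⁻¹α = xα, k⁻¹gα = α
      rw [r1, r2] at hcarry
      have hinv : (k⁻¹ * g * k)⁻¹ • α = x • α := inv_smul_eq_iff.mpr hcarry.symm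
      exact hsep _ (G₀.inv_mem hconj) hinv
    · exact hne (r1.trans r2.symm)
  · -- `p` odd: counting
    haveI : Fact p.Prime := ⟨hp⟩
    -- `p ∣ card Ω` via the orbit of `x • α` under `G₀`
    have hstab : stabilizer G (x • α) ≤ G₀ := by
      intro z hz
      have hmem : x⁻¹ * z * x ∈ stabilizer G α := by
        rw [mem_stabilizer_iff, mul_smul, mul_smul, mem_stabilizer_iff.mp hz, inv_smul_smul]
      have := hn.conj_mem _ (hα hmem) x
      have e : x * (x⁻¹ * z * x) * x⁻¹ = z := by group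
      rwa [e] at this
    have hcardΩ : (orbit ↥G₀ (x • α)).ncard * 2 = Nat.card Ω := by
      rw [← index_stabilizer ↥G₀ (x • α), ← index_stabilizer_of_transitive G (x • α), ← hG₀]
      have hse : stabilizer ↥G₀ (x • α) = (stabilizer G (x • α)).subgroupOf G₀ := by
        ext z
        rw [mem_stabilizer_iff, Subgroup.mem_subgroupOf, mem_stabilizer_iff]
        rfl
      rw [hse]
      exact Subgroup.relIndex_mul_index hstab
    let h₂' : ↥G₀ := ⟨h₂, h₂G₀⟩
    have hP' : IsPGroup p (Subgroup.zpowers h₂') := by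
      apply IsPGroup.of_card (n := 1)
      rw [Nat.card_zpowers, pow_one]
      have : orderOf h₂' = orderOf h₂ := by
        rw [← Subgroup.orderOf_coe]
      rw [this, hop]
    have hdvd2 : p ∣ (orbit ↥G₀ (x • α)).ncard := by
      have hmod := hP'.card_modEq_card_fixedPoints (orbit ↥G₀ (x • α))
      have hemp : IsEmpty (fixedPoints (Subgroup.zpowers h₂') (orbit ↥G₀ (x • α))) := by
        constructor
        rintro ⟨⟨ω, hω⟩, hfixω⟩
        have h' := hfixω ⟨h₂', Subgroup.mem_zpowers h₂'⟩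
        have h'' : h₂ • ω = ω := by
          have := congrArg Subtype.val h'
          exact this
        obtain ⟨k, hk⟩ := hω
        have hkx : (k : G) • (x • α) = ω := hk
        rcases hfp ω h'' with r | r
        · -- ω = α in the orbit of x α
          have : (k : G)⁻¹ • α = x • α := inv_smul_eq_iff.mpr (hkx.trans r).symm
          exact hsep _ (G₀.inv_mem k.2) this
        · have : ((k : G)⁻¹ * g) • α = x • α := by
            rw [mul_smul, ← r, ← hkx, inv_smul_smul]
          exact hsep _ (G₀.mul_mem (G₀.inv_mem k.2) hg) this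
      rw [Nat.card_of_isEmpty (α := fixedPoints (Subgroup.zpowers h₂') (orbit ↥G₀ (x • α))),
        Nat.card_coe_set_eq] at hmod
      exact (Nat.modEq_zero_iff_dvd).mp hmod
    have hdvdΩ : p ∣ Nat.card Ω := by
      rw [← hcardΩ]
      exact Dvd.dvd.mul_right hdvd2 2
    -- `card Ω ≡ 2 [MOD p]`
    have hP : IsPGroup p (Subgroup.zpowers h₂) := by
      apply IsPGroup.of_card (n := 1)
      rw [Nat.card_zpowers, hop, pow_one]
    have hmodΩ := hP.card_modEq_card_fixedPoints Ω
    have hfpset : (fixedPoints (Subgroup.zpowers h₂) Ω) = {α, g • α} := by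
      ext ω
      constructor
      · intro hω
        have := hω ⟨h₂, Subgroup.mem_zpowers h₂⟩
        exact hfp ω this
      · rintro (rfl | rfl)
        · rintro ⟨z, hz⟩
          have : z ∈ stabilizer G ω := by
            have hle : Subgroup.zpowers h₂ ≤ stabilizer G ω := by
              rw [Subgroup.zpowers_le]
              exact h₂α
            exact hle hz
          exact this
        · rintro ⟨z, hz⟩
          have : z ∈ stabilizer G (g • α) := by
            have hle : Subgroup.zpowers h₂ ≤ stabilizer G (g • α) := by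
              rw [Subgroup.zpowers_le]
              exact h₂g
            exact hle hz
          exact this
    have hc2 : Nat.card (fixedPoints (Subgroup.zpowers h₂) Ω) = 2 := by
      rw [Nat.card_coe_set_eq, hfpset]
      exact Set.ncard_pair (Ne.symm hgα)
    rw [hc2] at hmodΩ
    have hp2' : p ∣ 2 := by
      have h0 : Nat.card Ω ≡ 0 [MOD p] := (Nat.modEq_zero_iff_dvd).mpr hdvdΩ
      have : 2 ≡ 0 [MOD p] := hmodΩ.symm.trans h0
      exact (Nat.modEq_zero_iff_dvd).mp this
    exact hp2 ((Nat.prime_dvd_prime_iff_eq hp Nat.prime_two).mp hp2')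

/-- FROB: the normal subgroup `G₀` of index 2 containing `G_α` and missing `x` is a Frobenius group with
complement `G_α`. -/
theorem FROB [FaithfulSMul G Ω] (htr : MulAction.IsPretransitive G Ω)
    (hfix : ∀ g : G, g ≠ 1 → Nat.card (MulAction.fixedBy Ω g) ≤ 2)
    (S : Sylow 2 G) (α : Ω)
    (hT1 : (S : Subgroup G) ⊓ stabilizer G α ≠ ⊥)
    (x : G) (hxS : x ∈ (S : Subgroup G)) (hxα : x • α ≠ α)
    (hfree : ∀ s ∈ (S : Subgroup G), s ≠ 1 → ∀ ω : Ω, s • ω = ω →
      (ω = α ∨ ω = x • α) ∧ s ∈ (S : Subgroup G) ⊓ stabilizer G α)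
    (G₀ : Subgroup G) (hn : G₀.Normal) (hG₀ : G₀.index = 2) (hα : stabilizer G α ≤ G₀) (hx : x ∉ G₀) :
    Cfsg.IsFrobeniusComplement ((stabilizer G α).subgroupOf G₀) := by
  classical
  -- a non-identity element of `T`
  obtain ⟨t, htT, ht1⟩ : ∃ t ∈ (S : Subgroup G) ⊓ stabilizer G α, t ≠ 1 := by
    by_contra hcon
    push Not at hcon
    apply hT1
    rw [Subgroup.eq_bot_iff_forall]
    exact hcon
  refine ⟨?_, ?_, ?_⟩
  · -- `H ≠ ⊥`
    intro hbot
    have hmem : (⟨t, hα htT.2⟩ : ↥G₀) ∈ (stabilizer G α).subgroupOf G₀ := by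
      rw [Subgroup.mem_subgroupOf]
      exact htT.2
    rw [hbot, Subgroup.mem_bot] at hmem
    exact ht1 (congrArg Subtype.val hmem)
  · -- `H ≠ ⊤`
    intro htop
    have hall : ∀ k ∈ G₀, k • α = α := by
      intro k hk
      have hmem : (⟨k, hk⟩ : ↥G₀) ∈ (stabilizer G α).subgroupOf G₀ := by
        rw [htop]
        exact Subgroup.mem_top _
      rw [Subgroup.mem_subgroupOf] at hmem
      exact hmem
    -- then `t` fixes every point
    apply ht1
    apply FaithfulSMul.eq_of_smul_eq_smul (α := Ω)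
    intro ω
    obtain ⟨k, rfl⟩ := htr.exists_smul_eq α ω
    rw [one_smul]
    have hconj : k⁻¹ * t * k ∈ G₀ := by
      have := hn.conj_mem t (hα htT.2) k⁻¹
      rwa [inv_inv] at this
    have := hall _ hconj
    calc t • k • α = k • ((k⁻¹ * t * k) • α) := by
          rw [smul_smul, smul_smul]
          congr 1
          group
      _ = k • α := by rw [this]
  · -- trivial intersections
    intro g hg
    rw [Subgroup.eq_bot_iff_forall]
    intro h hh
    obtain ⟨hh1, hh2⟩ := Subgroup.mem_inf.mp hh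
    by_contra hne
    have hgα : (g : G) • α ≠ α := by
      intro h'
      apply hg
      rw [Subgroup.mem_subgroupOf]
      exact h'
    have hhα : (h : G) • α = α := by
      rw [Subgroup.mem_subgroupOf] at hh1
      exact hh1
    have hhg : (h : G) • ((g : G) • α) = (g : G) • α := by
      rw [Subgroup.mem_pointwise_smul_iff_inv_smul_mem, Subgroup.mem_subgroupOf] at hh2
      have h2 : ((g⁻¹ : ↥G₀) : G) * (h : G) * (g : G) ∈ stabilizer G α := by
        have e : (((MulAut.conj g)⁻¹ • h : ↥G₀) : G) = ((g⁻¹ : ↥G₀) : G) * (h : G) * (g : G) := by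
          rw [MulAut.smul_def, ← map_inv, MulAut.conj_apply, inv_inv]
          rfl
        rw [← e]
        exact hh2
      have h3 := mem_stabilizer_iff.mp h2
      calc (h : G) • (g : G) • α = (g : G) • ((((g⁻¹ : ↥G₀) : G) * (h : G) * (g : G)) • α) := by
            rw [smul_smul, smul_smul]
            congr 1
            rw [Subgroup.coe_inv]
            group
        _ = (g : G) • α := by rw [h3]
    have hh1' : (h : G) ≠ 1 := by
      intro h'
      apply hne
      exact Subtype.ext h'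
    exact FROB.aux_key htr hfix S α x hxα hfree G₀ hn hG₀ hα hx (h : G) hh1' hhα (g : G) g.2 hgα hhg

end Cfsg.Agent.S3390P
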