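import Mathlib
import Cfsg.Agent.Helper4.S3501DERN
import Cfsg.Agent.Helper29.S3501DER
import Cfsg.Agent.Helper29.S3501BRIDGE
import Cfsg.Agent.Helper28.S3501ONECLASS
import Cfsg.Agent.Helper3.S3501TWOTRANS
import Cfsg.Agent.Helper9.S3501SHARP
import Cfsg.Agent.Helper5.S3501CENT
import Cfsg.Agent.Helper11.S3501TWOSINGLE
import Cfsg.Agent.Helper24.S3501PRODCASE
import Cfsg.Agent.Helper22.S3501DIAGCASE

set_option autoImplicit false

/-! S3501, direction (=>): assembly of the pieces of the board `s3501pieces`. -/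

namespace Cfsg.Agent.S3501P

open MulAction

section
variable {G : Type*} [Group G] [Finite G] {Ω : Type*} [Fintype Ω] [MulAction G Ω] [FaithfulSMul G Ω]

/-- Under "one class", every non-trivial normal subgroup contains every derangement
(private copy of the row NORMALDER). -/
theorem FWD.aux_normalder (hΩ : 2 ≤ Fintype.card Ω) (hprim : IsPreprimitive G Ω)
    (hone : ∀ x y : G, (∀ ω : Ω, x • ω ≠ ω) → (∀ ω : Ω, y • ω ≠ ω) → IsConj x y)
    (M : Subgroup G) [hMn : M.Normal] (hM : M ≠ ⊥) (g : G) (hg : ∀ ω : Ω, g • ω ≠ ω) : g ∈ M := by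
  haveI := hprim
  haveI : IsPretransitive M Ω := DER.normal_transitive M hM
  obtain ⟨x, hxM, hx⟩ := DER.exists_mem M hΩ
  obtain ⟨c, hc⟩ := isConj_iff.mp (hone x g hx hg)
  rw [← hc]
  exact hMn.conj_mem x hxM c

/-- Under "one class" there is a unique minimal normal subgroup; it is transitive and contains all
derangements (private copy of the row UNIQ). -/
theorem FWD.aux_uniq (hΩ : 2 ≤ Fintype.card Ω) (hprim : IsPreprimitive G Ω)
    (hone : ∀ x y : G, (∀ ω : Ω, x • ω ≠ ω) → (∀ ω : Ω, y • ω ≠ ω) → IsConj x y) :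
    ∃ N : Subgroup G, N.Normal ∧ N ≠ ⊥ ∧ (∀ M : Subgroup G, M.Normal → M ≤ N → M = ⊥ ∨ M = N) ∧
      (∀ L : Subgroup G, L.Normal → L ≠ ⊥ →
        (∀ M : Subgroup G, M.Normal → M ≤ L → M = ⊥ ∨ M = L) → L = N) ∧
      (∀ g : G, (∀ ω : Ω, g • ω ≠ ω) → g ∈ N) ∧ IsPretransitive N Ω := by
  haveI := hprim
  obtain ⟨a⟩ : Nonempty Ω := Fintype.card_pos_iff.mp (by omega)
  -- a derangement exists
  obtain ⟨d, hd⟩ := DER.exists (G := G) (Ω := Ω) hΩ
  have hd1 : d ≠ 1 := by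
    intro h1
    exact hd a (by rw [h1, one_smul])
  have htop : (⊤ : Subgroup G) ≠ ⊥ := by
    intro h
    apply hd1
    have : d ∈ (⊥ : Subgroup G) := h ▸ Subgroup.mem_top d
    exact Subgroup.mem_bot.mp this
  obtain ⟨N, hNn, hN, -, hmin⟩ := MINNORMAL (⊤ : Subgroup G) htop
  haveI := hNn
  refine ⟨N, hNn, hN, hmin, ?_, fun g hg => FWD.aux_normalder hΩ hprim hone N hN g hg,
    DER.normal_transitive N hN⟩
  intro L hLn hL hLmin
  haveI := hLn
  have hdN : d ∈ N := FWD.aux_normalder hΩ hprim hone N hN d hd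
  have hdL : d ∈ L := FWD.aux_normalder hΩ hprim hone L hL d hd
  have hinf : L ⊓ N ≠ ⊥ := by
    intro h
    apply hd1
    have : d ∈ L ⊓ N := ⟨hdL, hdN⟩
    rw [h] at this
    exact Subgroup.mem_bot.mp this
  have hinfn : (L ⊓ N).Normal := inferInstance
  rcases hmin (L ⊓ N) hinfn inf_le_right with h | h
  · exact (hinf h).elim
  · have hNL : N ≤ L := h ▸ inf_le_left
    rcases hLmin N hNn hNL with h' | h'
    · exact (hN h').elim
    · exact h'.symm

/-- NONAB: the unique minimal normal subgroup cannot be non-abelian. -/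
theorem NONAB (hΩ : 2 ≤ Fintype.card Ω) (hprim : IsPreprimitive G Ω)
    (hnas : ¬ ∃ T : Subgroup G, T.Normal ∧ IsSimpleGroup T ∧ ¬ IsMulCommutative T ∧
      Subgroup.centralizer (T : Set G) = ⊥)
    (hone : ∀ x y : G, (∀ ω : Ω, x • ω ≠ ω) → (∀ ω : Ω, y • ω ≠ ω) → IsConj x y)
    (N : Subgroup G) [N.Normal] (hN : N ≠ ⊥)
    (hmin : ∀ M : Subgroup G, M.Normal → M ≤ N → M = ⊥ ∨ M = N)
    (huniq : ∀ L : Subgroup G, L.Normal → L ≠ ⊥ →
      (∀ M : Subgroup G, M.Normal → M ≤ L → M = ⊥ ∨ M = L) → L = N)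
    [IsPretransitive N Ω] (hnab : ¬ IsMulCommutative N) : False := by
  haveI := hprim
  obtain ⟨a⟩ : Nonempty Ω := Fintype.card_pos_iff.mp (by omega)
  obtain ⟨T, _, m, e, hTs, hTna, hm, hcase⟩ := BRIDGE N hN hmin huniq hnab a
  rcases hcase with ⟨K, hK, hstab⟩ | ⟨k, c, hk, hblock, hstab⟩
  · by_cases hm2 : 2 ≤ m
    · exact PRODCASE N a hTna hm2 e K hK hstab hone
    · have hm1 : m = 1 := by omega
      subst hm1
      exact hnas ⟨N, inferInstance, M1SIMPLE N e, hnab, CENT N huniq hnab⟩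
  · exact DIAGCASE N a hTna hm e k c hk hblock hstab hone

/-- FWD: direction (=>) of S3501. -/
theorem FWD (hΩ : 2 ≤ Fintype.card Ω) (hprim : IsPreprimitive G Ω)
    (hnas : ¬ ∃ T : Subgroup G, T.Normal ∧ IsSimpleGroup T ∧ ¬ IsMulCommutative T ∧
      Subgroup.centralizer (T : Set G) = ⊥)
    (h1 : Nat.card {c : ConjClasses G // ∃ g : G, ConjClasses.mk g = c ∧ ∀ ω : Ω, g • ω ≠ ω} = 1) :
    IsMultiplyPretransitive G Ω 2 ∧ ∀ g : G, g ≠ 1 → ∀ a b : Ω, a ≠ b → g • a = a → g • b ≠ b := by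
  have hone := ONECLASS (G := G) (Ω := Ω) h1
  obtain ⟨N, hNn, hN, hmin, huniq, hder, htr⟩ := FWD.aux_uniq hΩ hprim hone
  by_cases hab : IsMulCommutative N
  · have hab' : ∀ x ∈ N, ∀ y ∈ N, x * y = y * x := by
      intro x hx y hy
      have := hab.is_comm.comm (⟨x, hx⟩ : N) ⟨y, hy⟩
      exact congrArg Subtype.val this
    exact ⟨TWOTRANS N hab' hone, SHARP N hab' hder⟩
  · exact (NONAB hΩ hprim hnas hone N hN hmin huniq hab).elim

end

end Cfsg.Agent.S3501P
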