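import Mathlib

set_option autoImplicit false

/-! S3520 piece A.COUNT. -/

namespace Cfsg.Agent.S3520P

open MulAction

variable {G : Type*} [Group G] [Finite G] {Ω : Type*} [Fintype Ω] [MulAction G Ω]

/-- A.COUNT: `N` regular abelian normal, the derangements are exactly the two classes of `x`, `y` and lie in
`N`, no non-identity element fixes two points: `2 |G_α| = n - 1`. -/
theorem A.COUNT (N : Subgroup G) [N.Normal] (hab : IsMulCommutative N) (htr : IsPretransitive N Ω)
    (hreg : ∀ ω : Ω, stabilizer N ω = ⊥)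
    (hall : ∀ g : G, (∀ ω : Ω, g • ω ≠ ω) → g ∈ N)
    (hs : ∀ g : G, g ≠ 1 → ∀ a b : Ω, a ≠ b → g • a = a → g • b ≠ b)
    (x y : G) (hx : ∀ ω : Ω, x • ω ≠ ω) (hy : ∀ ω : Ω, y • ω ≠ ω) (hxy : ¬ IsConj x y)
    (hcov : ∀ g : G, (∀ ω : Ω, g • ω ≠ ω) → IsConj g x ∨ IsConj g y) (α : Ω) :
    2 * Nat.card (stabilizer G α) = Fintype.card Ω - 1 := by
  classical
  have hNn : N.Normal := inferInstance
  have hcomm : ∀ a ∈ N, ∀ b ∈ N, a * b = b * a := fun a ha b hb =>
    congrArg Subtype.val (hab.is_comm.comm (⟨a, ha⟩ : N) ⟨b, hb⟩)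
  -- non-identity elements of N are derangements
  have hNder : ∀ w ∈ N, w ≠ 1 → ∀ ω : Ω, w • ω ≠ ω := by
    intro w hw hw1 ω hω
    have hmem : (⟨w, hw⟩ : N) ∈ stabilizer N ω := by
      rw [mem_stabilizer_iff]
      exact hω
    rw [hreg ω, Subgroup.mem_bot] at hmem
    exact hw1 (congrArg Subtype.val hmem)
  -- |N| = n
  have hcardN : Nat.card N = Fintype.card Ω := by
    rw [← Nat.card_eq_fintype_card]
    refine Nat.card_congr (Equiv.ofBijective (fun m : N => m • α) ⟨?_, ?_⟩)
    · intro m m' hmm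
      have hmm' : (m : G) • α = (m' : G) • α := hmm
      have hmem : (m'⁻¹ * m : N) ∈ stabilizer N α := by
        rw [mem_stabilizer_iff]
        show ((m'⁻¹ * m : N) : G) • α = α
        rw [Subgroup.coe_mul, Subgroup.coe_inv, mul_smul, hmm', inv_smul_smul]
      rw [hreg α, Subgroup.mem_bot] at hmem
      have : m' * (m'⁻¹ * m) = m' * 1 := by rw [hmem]
      simpa using this
    · intro ω
      exact htr.exists_smul_eq α ω
  -- the two representatives
  let z : Bool → G := fun b => if b then x else y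
  have hzder : ∀ b, ∀ ω : Ω, z b • ω ≠ ω := by
    intro b
    cases b
    · exact hy
    · exact hx
  have hzN : ∀ b, z b ∈ N := fun b => hall (z b) (hzder b)
  have hz1 : ∀ b, z b ≠ 1 := by
    intro b h1
    exact hzder b α (by rw [h1, one_smul])
  have hznc : ∀ b b', IsConj (z b) (z b') → b = b' := by
    intro b b' h
    cases b <;> cases b'
    · rfl
    · exact (hxy h.symm).elim
    · exact (hxy h).elim
    · rfl
  -- the map
  let f : stabilizer G α × Bool → {w : N // w ≠ 1} := fun p =>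
    ⟨⟨(p.1 : G) * z p.2 * (p.1 : G)⁻¹, hNn.conj_mem _ (hzN p.2) p.1⟩, by
      intro h1
      have h2 : (p.1 : G) * z p.2 * (p.1 : G)⁻¹ = 1 := congrArg Subtype.val h1
      apply hz1 p.2
      have : z p.2 = (p.1 : G)⁻¹ * ((p.1 : G) * z p.2 * (p.1 : G)⁻¹) * (p.1 : G) := by group
      rw [this, h2]
      group⟩
  have hfval : ∀ p, ((f p).1 : G) = (p.1 : G) * z p.2 * (p.1 : G)⁻¹ := fun p => rfl
  have hinj : Function.Injective f := by
    rintro ⟨h, b⟩ ⟨h', b'⟩ hff
    have hval : (h : G) * z b * (h : G)⁻¹ = (h' : G) * z b' * (h' : G)⁻¹ := by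
      have := congrArg (fun t => ((t.1 : N) : G)) hff
      simpa [hfval] using this
    -- z b and z b' are conjugate
    have hconj : IsConj (z b) (z b') := by
      rw [isConj_iff]
      refine ⟨(h' : G)⁻¹ * h, ?_⟩
      have : (h' : G)⁻¹ * ((h : G) * z b * (h : G)⁻¹) * h' = z b' := by
        rw [hval]; group
      rw [← this]; group
    have hbb : b = b' := hznc b b' hconj
    subst hbb
    -- k = h'⁻¹ h commutes with z b and fixes α
    set k : G := (h' : G)⁻¹ * h with hk
    have hkz : k * z b = z b * k := by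
      have : (h' : G)⁻¹ * ((h : G) * z b * (h : G)⁻¹) * h = (h' : G)⁻¹ * ((h' : G) * z b * (h' : G)⁻¹) * h := by
        rw [hval]
      rw [hk]
      calc (h' : G)⁻¹ * h * z b = (h' : G)⁻¹ * ((h : G) * z b * (h : G)⁻¹) * h := by group
        _ = (h' : G)⁻¹ * ((h' : G) * z b * (h' : G)⁻¹) * h := this
        _ = z b * ((h' : G)⁻¹ * h) := by group
    have hkα : k • α = α := by
      rw [hk, mul_smul]
      have h1 : (h : G) • α = α := h.2
      have h2 : (h' : G) • α = α := h'.2
      rw [h1, inv_smul_eq_iff, h2]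
    have hk1 : k = 1 := by
      by_contra hne
      have hne' : α ≠ z b • α := Ne.symm (hzder b α)
      apply hs k hne α (z b • α) hne' hkα
      rw [← mul_smul, hkz, mul_smul, hkα]
    have hhh : (h : G) = h' := by
      have : (h' : G) * k = h' * 1 := by rw [hk1]
      rw [hk] at this
      simpa using this
    have : h = h' := Subtype.ext hhh
    rw [this]
  have hsurj : Function.Surjective f := by
    rintro ⟨⟨w, hw⟩, hw1⟩
    have hw1' : w ≠ 1 := fun h => hw1 (Subtype.ext h)
    have hwder := hNder w hw hw1'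
    have key : ∀ b, IsConj w (z b) → ∃ p, f p = ⟨⟨w, hw⟩, hw1⟩ := by
      intro b hb
      obtain ⟨c, hc⟩ := isConj_iff.mp hb
      -- w = c⁻¹ z c
      obtain ⟨m, hm⟩ := htr.exists_smul_eq α (c • α)
      have hm' : (m : G) • α = c • α := hm
      have hfix : (c⁻¹ * (m : G)) • α = α := by
        rw [mul_smul, hm', inv_smul_smul]
      refine ⟨(⟨c⁻¹ * (m : G), hfix⟩, b), ?_⟩
      apply Subtype.ext
      apply Subtype.ext
      show (c⁻¹ * (m : G)) * z b * (c⁻¹ * (m : G))⁻¹ = w
      have hmz : (m : G) * z b * (m : G)⁻¹ = z b := by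
        rw [hcomm m m.2 (z b) (hzN b)]; group
      calc (c⁻¹ * (m : G)) * z b * (c⁻¹ * (m : G))⁻¹
          = c⁻¹ * ((m : G) * z b * (m : G)⁻¹) * c := by group
        _ = c⁻¹ * z b * c := by rw [hmz]
        _ = c⁻¹ * (c * w * c⁻¹) * c := by rw [hc]
        _ = w := by group
    rcases hcov w hwder with h | h
    · exact key true h
    · exact key false h
  have hbij : Nat.card (stabilizer G α × Bool) = Nat.card {w : N // w ≠ 1} :=
    Nat.card_congr (Equiv.ofBijective f ⟨hinj, hsurj⟩)
  have hprod : Nat.card (stabilizer G α × Bool) = Nat.card (stabilizer G α) * 2 := by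
    rw [Nat.card_prod, Nat.card_eq_fintype_card (α := Bool), Fintype.card_bool]
  have hne : Nat.card {w : N // w ≠ 1} = Nat.card N - 1 := by
    haveI : Fintype N := Fintype.ofFinite N
    rw [Nat.card_eq_fintype_card, Nat.card_eq_fintype_card, Fintype.card_subtype_compl,
      Fintype.card_subtype_eq]
  rw [hprod, hne, hcardN] at hbij
  omega

end Cfsg.Agent.S3520P
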