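import Mathlib

set_option autoImplicit false

/-! S3641 piece LIFT: Sylow numbers of a quotient. -/

namespace Cfsg.Agent.S3641P

/-- the normaliser of a Sylow subgroup lies in the preimage of the normaliser of its image -/
theorem LIFT.aux_le {G H : Type*} [Group G] [Finite G] [Group H] (f : G →* H)
    (hf : Function.Surjective f) (r : ℕ) [Fact r.Prime] (R : Sylow r G) :
    Subgroup.normalizer ((R : Subgroup G) : Set G) ≤
      (Subgroup.normalizer (((R.mapSurjective hf : Sylow r H) : Subgroup H) : Set H)).comap f := by
  intro g hg
  rw [Subgroup.mem_comap]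
  have h1 : f g ∈ (Subgroup.normalizer ((R : Subgroup G) : Set G)).map f :=
    Subgroup.mem_map_of_mem f hg
  have h2 := Subgroup.le_normalizer_map (H := (R : Subgroup G)) f h1
  rw [Sylow.coe_mapSurjective]
  exact h2

/-- LIFT.dvd: Sylow numbers of a quotient divide those of the group. -/
theorem LIFT.dvd {G H : Type*} [Group G] [Finite G] [Group H] (f : G →* H)
    (hf : Function.Surjective f) (r : ℕ) [Fact r.Prime] :
    Nat.card (Sylow r H) ∣ Nat.card (Sylow r G) := by
  haveI : Finite H := Finite.of_surjective f hf
  obtain ⟨R⟩ : Nonempty (Sylow r G) := inferInstance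
  rw [Sylow.card_eq_index_normalizer R, Sylow.card_eq_index_normalizer (R.mapSurjective hf),
    ← Subgroup.index_comap_of_surjective _ hf]
  exact Subgroup.index_dvd_of_le (LIFT.aux_le f hf r R)

/-- LIFT: if a quotient has as many Sylow `r`-subgroups as the group, the kernel normalises every
Sylow `r`-subgroup. -/
theorem LIFT {G H : Type*} [Group G] [Finite G] [Group H] (f : G →* H)
    (hf : Function.Surjective f) (r : ℕ) [Fact r.Prime]
    (h : Nat.card (Sylow r H) = Nat.card (Sylow r G)) (R : Sylow r G) :
    f.ker ≤ Subgroup.normalizer ((R : Subgroup G) : Set G) := by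
  haveI : Finite H := Finite.of_surjective f hf
  have hle := LIFT.aux_le f hf r R
  have hidx : ((Subgroup.normalizer (((R.mapSurjective hf : Sylow r H) : Subgroup H) : Set H)).comap f).index =
      (Subgroup.normalizer ((R : Subgroup G) : Set G)).index := by
    rw [Subgroup.index_comap_of_surjective _ hf]
    have e1 := Sylow.card_eq_index_normalizer (R.mapSurjective hf)
    have e2 := Sylow.card_eq_index_normalizer R
    exact e1.symm.trans (h.trans e2)
  have hrel := Subgroup.relIndex_mul_index hle
  rw [hidx] at hrel
  have hne : (Subgroup.normalizer ((R : Subgroup G) : Set G)).index ≠ 0 := Subgroup.index_ne_zero_of_finite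
  have h1 : (Subgroup.normalizer ((R : Subgroup G) : Set G)).relIndex
      ((Subgroup.normalizer (((R.mapSurjective hf : Sylow r H) : Subgroup H) : Set H)).comap f) = 1 := by
    have := Nat.eq_of_mul_eq_mul_right (Nat.pos_of_ne_zero hne) (hrel.trans (one_mul _).symm)
    exact this
  have hge := Subgroup.relIndex_eq_one.mp h1
  intro k hk
  apply hge
  rw [Subgroup.mem_comap, MonoidHom.mem_ker.mp hk]
  exact Subgroup.one_mem _

end Cfsg.Agent.S3641P
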