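import Mathlib
import Cfsg.Prelude.Def_Transfer
import Cfsg.Agent.Helper4.S4404Defs
import Cfsg.Agent.Helper17.S4404AUTW

/-! Board `s4404pieces`, row EXZ (`exists_central_on`). -/

set_option autoImplicit false
set_option linter.unusedVariables false
set_option linter.unusedSectionVars false

namespace Cfsg.Agent.S4404P

open Subgroup
open scoped commutatorElement

variable {S : Type*} [Group S] [Finite S]

/-- EXZ : an `r`-group acting nontrivially on `U` contains `z`, nontrivial on `U`, commuting with `G₀` on `U`,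
with `z ^ r` trivial on `U` (a central element of order `r` of the image of `G₀` in `Aut U`). -/
theorem exists_central_on (r : ℕ) [Fact r.Prime] (G₀ U : Subgroup S) (hG₀ : IsPGroup r ↥G₀)
    (hN : G₀ ≤ normalizer (U : Set S)) (hnt : ¬ G₀ ≤ centralizer (U : Set S)) :
    ∃ z ∈ G₀, z ∉ centralizer (U : Set S) ∧ z ^ r ∈ centralizer (U : Set S) ∧
      ∀ g ∈ G₀, ∀ u ∈ U, g * (z * u * z⁻¹) * g⁻¹ = z * (g * u * g⁻¹) * z⁻¹ := by
  classical
  set φ := AUTW_aux_hom G₀ U hN with hφ
  have hker := AUTW_aux_ker G₀ U hN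
  have hR : IsPGroup r ↥φ.range := hG₀.of_surjective φ.rangeRestrict φ.rangeRestrict_surjective
  -- the image is nontrivial
  have hnt' : Nontrivial ↥φ.range := by
    obtain ⟨g, hg, hgU⟩ := Set.not_subset.mp hnt
    refine ⟨⟨⟨φ ⟨g, hg⟩, ⟨_, rfl⟩⟩, 1, ?_⟩⟩
    intro h
    have h1 : φ ⟨g, hg⟩ = 1 := congrArg Subtype.val h
    have h2 : (⟨g, hg⟩ : ↥G₀) ∈ φ.ker := h1
    rw [hker, mem_subgroupOf] at h2
    exact hgU h2.2
  have hcn : Nontrivial ↥(center ↥φ.range) := hR.center_nontrivial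
  have hcp : IsPGroup r ↥(center ↥φ.range) := hR.to_subgroup _
  obtain ⟨k, hk⟩ := IsPGroup.iff_card.mp hcp
  have hdvd : r ∣ Nat.card ↥(center ↥φ.range) := by
    have h1 : 1 < Nat.card ↥(center ↥φ.range) := Finite.one_lt_card
    rw [hk] at h1 ⊢
    have hk0 : k ≠ 0 := by
      rintro rfl
      simp at h1
    exact dvd_pow_self r hk0
  obtain ⟨x, hx⟩ := exists_prime_orderOf_dvd_card' r hdvd
  obtain ⟨z', hz'⟩ : ∃ z' : ↥G₀, φ z' = x.1.1 := x.1.2
  have hr : r.Prime := Fact.out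
  refine ⟨z'.1, z'.2, ?_, ?_, ?_⟩
  · -- `z` does not centralise `U`
    intro hc
    have h1 : z' ∈ φ.ker := by
      rw [hker, mem_subgroupOf]
      exact ⟨z'.2, hc⟩
    have h2 : x.1.1 = 1 := by rw [← hz']; exact h1
    have h3 : x = 1 := by
      apply Subtype.ext; apply Subtype.ext; exact h2
    rw [h3, orderOf_one] at hx
    exact hr.one_lt.ne hx
  · -- `z ^ r` centralises `U`
    have h1 : x ^ r = 1 := by rw [← hx]; exact pow_orderOf_eq_one x
    have h2 : φ (z' ^ r) = 1 := by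
      rw [map_pow, hz']
      have := congrArg (fun y : ↥(center ↥φ.range) => y.1.1) h1
      simpa using this
    have h3 : z' ^ r ∈ φ.ker := h2
    rw [hker, mem_subgroupOf] at h3
    simpa using h3.2
  · -- commutation
    intro g hg u hu
    have hc := Subgroup.mem_center_iff.mp x.2 ⟨φ ⟨g, hg⟩, ⟨_, rfl⟩⟩
    have hc' : φ ⟨g, hg⟩ * φ z' = φ z' * φ ⟨g, hg⟩ := by
      have := congrArg Subtype.val hc
      rw [hz']
      simpa using this
    have h1 := congrArg (fun σ : Equiv.Perm ↥U => ((σ ⟨u, hu⟩ : ↥U) : S)) hc'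
    simpa [Equiv.Perm.mul_apply, AUTW_aux_hom_apply, hφ] using h1

end Cfsg.Agent.S4404P
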