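import Mathlib
import Cfsg.Prelude.Def_Transfer
import Cfsg.Agent.Helper4.S4404Defs
import Cfsg.Agent.Helper4.S4404W
import Cfsg.Agent.Helper4.S4404PWU
import Cfsg.Agent.Helper15.S4404CNT
import Cfsg.Agent.Helper9.S4404WLE
import Cfsg.Agent.Lead.Coprime3

/-! Board `s4404pieces`, row PWSPLIT (`pw_split`). -/

set_option autoImplicit false
set_option linter.unusedVariables false
set_option linter.unusedSectionVars false

namespace Cfsg.Agent.S4404P

open Subgroup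
open scoped commutatorElement

variable {S : Type*} [Group S] [Finite S]

/-- a power of two `≤ 2 ^ d` which is `≡ 1` mod `r` is `1` or `2 ^ d`. -/
theorem PWSPLIT_aux_num (r d : ℕ) (hrd : RD r d) (b : ℕ) (hb : b ≤ d) (hmod : 2 ^ b ≡ 1 [MOD r]) :
    b = 0 ∨ b = d := by
  rcases hrd with ⟨rfl, rfl⟩ | ⟨rfl, rfl⟩
  · interval_cases b
    · left; rfl
    · exfalso; revert hmod; decide
    · right; rfl
  · interval_cases b
    · left; rfl
    · exfalso; revert hmod; decide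
    · exfalso; revert hmod; decide
    · right; rfl

/-- dichotomy: an `r`-group `K` acting on `X ≤ M` of order `2 ^ d` has `[X, K] = 1` or `[X, K] = X`. -/
theorem PWSPLIT_aux_dich (M : Subgroup S) [M.Normal] (hM : Cfsg.IsElementaryAbelian 2 M) (r d : ℕ) [Fact r.Prime]
    (hrd : RD r d) (K X : Subgroup S) (hK : IsPGroup r ↥K) (hX : X ≤ M)
    (hN : K ≤ normalizer (X : Set S)) (hc : Nat.card ↥X = 2 ^ d) : ⁅X, K⁆ = ⊥ ∨ ⁅X, K⁆ = X := by
  have hYX : ⁅X, K⁆ ≤ X := Cfsg.Agent.Lead.commutator_le_of_le_normalizer hN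
  have hYN : K ≤ normalizer ((⁅X, K⁆ : Subgroup S) : Set S) := Cfsg.Agent.Lead.le_normalizer_commutator_right X K
  have hfix : ⁅X, K⁆ ⊓ centralizer (K : Set S) = ⊥ :=
    PWU_aux_fix M hM r hrd.ne_two K hK _ (hYX.trans hX) (commutator_mono hX le_rfl)
  have hmod := card_modEq_card_cent r K _ hK hYN
  rw [hfix, card_bot] at hmod
  have hdvd : Nat.card ↥(⁅X, K⁆ : Subgroup S) ∣ 2 ^ d := hc ▸ card_dvd_of_le hYX
  obtain ⟨b, hb, hcard⟩ := (Nat.dvd_prime_pow Nat.prime_two).mp hdvd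
  rw [hcard] at hmod
  rcases PWSPLIT_aux_num r d hrd b hb hmod with rfl | rfl
  · left
    rw [pow_zero] at hcard
    exact (Subgroup.card_eq_one).mp hcard
  · right
    exact eq_of_le_of_card_ge hYX (by rw [hc, hcard])

/-- PWSPLIT -/
theorem pw_split (M : Subgroup S) [M.Normal] (hM : Cfsg.IsElementaryAbelian 2 M) (r d : ℕ) [Fact r.Prime]
    (hrd : RD r d) (G₀ X₁ X₂ : Subgroup S) (hG₀ : IsPGroup r ↥G₀) (hX₁ : X₁ ≤ M) (hX₂ : X₂ ≤ M)
    (hN₁ : G₀ ≤ normalizer (X₁ : Set S)) (hN₂ : G₀ ≤ normalizer (X₂ : Set S)) (hdisj : X₁ ⊓ X₂ = ⊥)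
    (hc₁ : Nat.card ↥X₁ = 2 ^ d) (hc₂ : Nat.card ↥X₂ = 2 ^ d) (t : S) (ht : t ∈ G₀)
    (hct : Nat.card ↥(Wc M t) = 2 ^ d) (hle : Wc M t ≤ X₁ ⊔ X₂) :
    (Wc M t = X₁ ∧ t ∈ centralizer (X₂ : Set S)) ∨ (Wc M t = X₂ ∧ t ∈ centralizer (X₁ : Set S)) := by
  have hKG : zpowers t ≤ G₀ := (zpowers_le).mpr ht
  have hK : IsPGroup r ↥(zpowers t) := hG₀.to_le hKG
  have hodd : Odd (orderOf t) := by
    obtain ⟨k, hk⟩ := IsPGroup.iff_card.mp hK
    rw [Nat.card_zpowers] at hk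
    rw [hk]
    exact ((Fact.out : r.Prime).odd_of_ne_two hrd.ne_two).pow
  have hd : 1 < 2 ^ d := by
    rcases hrd with ⟨_, rfl⟩ | ⟨_, rfl⟩ <;> norm_num
  -- centralising from trivial commutator
  have hcen : ∀ X : Subgroup S, ⁅X, zpowers t⁆ = ⊥ → t ∈ centralizer (X : Set S) := by
    intro X h
    rw [commutator_comm, commutator_eq_bot_iff_le_centralizer] at h
    exact h (mem_zpowers t)
  -- `X = [X, t] ≤ [M, t]`
  have hfull : ∀ X : Subgroup S, X ≤ M → Nat.card ↥X = 2 ^ d → ⁅X, zpowers t⁆ = X → Wc M t = X := by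
    intro X hX hc h
    have h1 : X ≤ Wc M t := by
      calc X = ⁅X, zpowers t⁆ := h.symm
        _ ≤ Wc M t := commutator_mono hX le_rfl
    exact (eq_of_le_of_card_ge h1 (by rw [hc, hct])).symm
  rcases PWSPLIT_aux_dich M hM r d hrd _ X₁ hK hX₁ (hKG.trans hN₁) hc₁ with h1 | h1 <;>
    rcases PWSPLIT_aux_dich M hM r d hrd _ X₂ hK hX₂ (hKG.trans hN₂) hc₂ with h2 | h2
  · -- both trivial: `t` centralises `X₁ X₂ ≥ [M, t]`
    exfalso
    have e1 : X₁ ≤ centralizer (zpowers t : Set S) := commutator_eq_bot_iff_le_centralizer.mp h1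
    have e2 : X₂ ≤ centralizer (zpowers t : Set S) := commutator_eq_bot_iff_le_centralizer.mp h2
    have e3 : Wc M t ≤ centralizer (zpowers t : Set S) := hle.trans (sup_le e1 e2)
    have e4 := (Wc_coprime M hM t hodd).1
    rw [inf_of_le_left e3] at e4
    rw [e4, card_bot] at hct
    omega
  · right
    exact ⟨hfull X₂ hX₂ hc₂ h2, hcen X₁ h1⟩
  · left
    exact ⟨hfull X₁ hX₁ hc₁ h1, hcen X₂ h2⟩
  · exfalso
    have e1 := hfull X₁ hX₁ hc₁ h1
    have e2 := hfull X₂ hX₂ hc₂ h2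
    rw [← e1, ← e2, inf_idem] at hdisj
    rw [hdisj, card_bot] at hct
    omega

end Cfsg.Agent.S4404P
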