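import Mathlib
import Cfsg.Prelude.Def_Transfer
import Cfsg.Agent.Helper4.S4404Defs
import Cfsg.Agent.Helper4.S4404W

/-! Board `s4404pieces`, row TR : the trick. -/

set_option autoImplicit false
set_option linter.unusedVariables false
set_option linter.unusedSectionVars false

namespace Cfsg.Agent.S4404P

open Subgroup
open scoped commutatorElement

variable {S : Type*} [Group S] [Finite S]

theorem TR_aux_mem_normalizer_of_map_eq (W : Subgroup S) (g : S)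
    (h : W.map (MulAut.conj g).toMonoidHom = W) : g ∈ normalizer (W : Set S) := by
  rw [mem_normalizer_iff]
  intro y
  constructor
  · intro hy
    rw [← h]
    exact ⟨y, hy, by simp [MulAut.conj_apply]⟩
  · intro hy
    rw [← h] at hy
    obtain ⟨y', hy', he⟩ := hy
    have : y' = y := by
      have he' : g * y' * g⁻¹ = g * y * g⁻¹ := by simpa [MulAut.conj_apply] using he
      have := mul_right_cancel he'
      exact mul_left_cancel this
    rwa [← this]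

theorem TR_aux_odd_orderOf (r : ℕ) [Fact r.Prime] (hr2 : r ≠ 2) (P : Subgroup S) (hP : IsPGroup r ↥P)
    (y : S) (hy : y ∈ P) : Odd (orderOf y) := by
  obtain ⟨k, hk⟩ := (IsPGroup.iff_orderOf.mp hP) ⟨y, hy⟩
  have h1 : orderOf y = r ^ k := by rw [← hk, Subgroup.orderOf_mk]
  rw [h1]
  exact ((Fact.out : r.Prime).odd_of_ne_two hr2).pow

theorem TR_aux_mem_of_sq_mem (N : Subgroup S) (f : S) (hodd : Odd (orderOf f)) (h : f ^ 2 ∈ N) : f ∈ N := by
  obtain ⟨k, hk⟩ := hodd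
  have h1 : (f ^ 2) ^ (k + 1) ∈ N := N.pow_mem h (k + 1)
  have h2 : (f ^ 2) ^ (k + 1) = f := by
    rw [← pow_mul]
    have : 2 * (k + 1) = orderOf f + 1 := by omega
    rw [this, pow_succ, pow_orderOf_eq_one, one_mul]
  rwa [h2] at h1

/-- TR : `P` an `r`-group (`r` odd) in which reflections with different commutators cross-centralise (`hpw`), `B ⊴ P` abelian,
`t ∈ P` a reflection.  Then `B` normalises `[M,t]`. -/
theorem tr_of_pw (M : Subgroup S) [M.Normal] (hM : Cfsg.IsElementaryAbelian 2 M) (r d : ℕ) [Fact r.Prime] (hr2 : r ≠ 2)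
    (hd : 0 < d) (P : Subgroup S) (hP : IsPGroup r ↥P)
    (hpw : ∀ t₁ ∈ P, ∀ t₂ ∈ P, Nat.card ↥(Wc M t₁) = 2 ^ d → Nat.card ↥(Wc M t₂) = 2 ^ d → Wc M t₁ ≠ Wc M t₂ →
      t₂ ∈ centralizer ((Wc M t₁ : Subgroup S) : Set S))
    (B : Subgroup S) (hBP : B ≤ P) (hBn : P ≤ normalizer (B : Set S)) (hBc : IsMulCommutative ↥B)
    (t : S) (ht : t ∈ P) (hct : Nat.card ↥(Wc M t) = 2 ^ d) :
    B ≤ normalizer ((Wc M t : Subgroup S) : Set S) := by
  intro f hf
  by_contra hfN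
  have hfP : f ∈ P := hBP hf
  have hfodd : Odd (orderOf f) := TR_aux_odd_orderOf r hr2 P hP f hfP
  have htodd : Odd (orderOf t) := TR_aux_odd_orderOf r hr2 P hP t ht
  -- the two conjugates
  set t₁ := f⁻¹ * t * f with ht₁
  set t₂ := (f ^ 2)⁻¹ * t * f ^ 2 with ht₂
  have ht₁P : t₁ ∈ P := P.mul_mem (P.mul_mem (P.inv_mem hfP) ht) hfP
  have ht₂P : t₂ ∈ P := P.mul_mem (P.mul_mem (P.inv_mem (P.pow_mem hfP 2)) ht) (P.pow_mem hfP 2)
  have hW₁ : Wc M t₁ = (Wc M t).map (MulAut.conj f⁻¹).toMonoidHom := Wc_conj M t f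
  have hW₂ : Wc M t₂ = (Wc M t).map (MulAut.conj (f ^ 2)⁻¹).toMonoidHom := Wc_conj M t (f ^ 2)
  have hc₁ : Nat.card ↥(Wc M t₁) = 2 ^ d := by
    rw [hW₁, card_map_of_injective (MulAut.conj f⁻¹).injective, hct]
  have hc₂ : Nat.card ↥(Wc M t₂) = 2 ^ d := by
    rw [hW₂, card_map_of_injective (MulAut.conj (f ^ 2)⁻¹).injective, hct]
  have hne₁ : Wc M t ≠ Wc M t₁ := by
    intro he
    rw [hW₁] at he
    have h1 : f⁻¹ ∈ normalizer ((Wc M t : Subgroup S) : Set S) :=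
      TR_aux_mem_normalizer_of_map_eq _ _ he.symm
    exact hfN (by simpa using (normalizer ((Wc M t : Subgroup S) : Set S)).inv_mem h1)
  have hne₂ : Wc M t ≠ Wc M t₂ := by
    intro he
    rw [hW₂] at he
    have h1 : (f ^ 2)⁻¹ ∈ normalizer ((Wc M t : Subgroup S) : Set S) :=
      TR_aux_mem_normalizer_of_map_eq _ _ he.symm
    have h2 : f ^ 2 ∈ normalizer ((Wc M t : Subgroup S) : Set S) := by
      simpa using (normalizer ((Wc M t : Subgroup S) : Set S)).inv_mem h1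
    exact hfN (TR_aux_mem_of_sq_mem _ f hfodd h2)
  have hcen₁ := hpw t ht t₁ ht₁P hct hc₁ hne₁
  have hcen₂ := hpw t ht t₂ ht₂P hct hc₂ hne₂
  -- `c = t⁻¹ t₁ ∈ B`
  have hcB : t⁻¹ * t₁ ∈ B := by
    have h1 : t⁻¹ ∈ normalizer (B : Set S) := (normalizer (B : Set S)).inv_mem (hBn ht)
    have h2 : t⁻¹ * f⁻¹ * t⁻¹⁻¹ ∈ B := (mem_normalizer_iff.mp h1 f⁻¹).mp (B.inv_mem hf)
    have e : t⁻¹ * t₁ = t⁻¹ * f⁻¹ * t⁻¹⁻¹ * f := by rw [ht₁]; group
    rw [e]
    exact B.mul_mem h2 hf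
  have hcomm : f * (t⁻¹ * t₁) = (t⁻¹ * t₁) * f :=
    congrArg Subtype.val (mul_comm' (⟨f, hf⟩ : ↥B) ⟨t⁻¹ * t₁, hcB⟩)
  -- hence `t = t₁ t₂⁻¹ t₁`
  have hrel : t = t₁ * t₂⁻¹ * t₁ := by
    have h1 : f⁻¹ * (t⁻¹ * t₁) * f = t⁻¹ * t₁ := by
      rw [mul_assoc, ← hcomm]; group
    have h2 : f⁻¹ * (t⁻¹ * t₁) * f = t₁⁻¹ * t₂ := by
      rw [ht₁, ht₂, pow_two]; group
    rw [h2] at h1
    -- h1 : t₁⁻¹ * t₂ = t⁻¹ * t₁
    have h3 : t⁻¹ = t₁⁻¹ * t₂ * t₁⁻¹ := by rw [h1]; group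
    have h4 : t = (t₁⁻¹ * t₂ * t₁⁻¹)⁻¹ := by rw [← h3, inv_inv]
    rw [h4]; group
  have htcen : t ∈ centralizer ((Wc M t : Subgroup S) : Set S) := by
    have h5 : t₁ * t₂⁻¹ * t₁ ∈ centralizer ((Wc M t : Subgroup S) : Set S) :=
      Subgroup.mul_mem _ (Subgroup.mul_mem _ hcen₁ (Subgroup.inv_mem _ hcen₂)) hcen₁
    rw [← hrel] at h5
    exact h5
  -- contradiction with coprime action
  have hcop := (Wc_coprime M hM t htodd).1
  have hle : Wc M t ≤ Wc M t ⊓ centralizer (zpowers t : Set S) := by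
    refine le_inf le_rfl ?_
    intro w hw
    rw [mem_centralizer_iff]
    intro y hy
    obtain ⟨k, rfl⟩ := mem_zpowers_iff.mp hy
    have hcw : Commute t w := ((mem_centralizer_iff.mp htcen) w hw).symm
    exact (hcw.zpow_left k).eq
  rw [hcop, le_bot_iff] at hle
  rw [hle, card_bot] at hct
  have : 1 < 2 ^ d := Nat.one_lt_two_pow (by omega)
  omega

end Cfsg.Agent.S4404P
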