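import Mathlib
import Cfsg.Prelude.Def_Transfer
import Cfsg.Agent.Helper4.S4404Defs
import Cfsg.Agent.Helper4.S4404W
import Cfsg.Agent.Helper4.S4404TR
import Cfsg.Agent.Helper4.S4404PWU
import Cfsg.Agent.Helper4.S4404PWSPLIT
import Cfsg.Agent.Helper4.S4404EXFIX
import Cfsg.Agent.Helper4.S4404EXZ
import Cfsg.Agent.Helper15.S4404CNT
import Cfsg.Agent.Helper9.S4404WLE
import Cfsg.Agent.Helper9.S4404EAMAP
import Cfsg.Agent.Helper9.S4404EAMONO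
import Cfsg.Agent.Helper9.S4404EAP
import Cfsg.Agent.Helper9.S4404NCYC
import Cfsg.Agent.Helper9.S4404IIA
import Cfsg.Agent.Helper9.S4404IIB7
import Cfsg.Agent.Helper9.S4404PGMIN
import Cfsg.Agent.Helper9.S4404SYLX
import Cfsg.Agent.Helper9.S4404PGPHI
import Cfsg.Agent.Helper17.S4404AUTW
import Cfsg.Agent.Helper17.S4404NE3
import Cfsg.Agent.Helper17.S4404IIBU
import Cfsg.Agent.Helper17.S4404EXL32
import Cfsg.Agent.Helper18.S4404FROBJ
import Cfsg.Agent.Helper3.S4404GEN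
import Cfsg.Agent.Helper3.S4404HALL
import Cfsg.Agent.Helper16.S4404IIBCNT
import Cfsg.Agent.Helper8.S4404PG
import Cfsg.Agent.Helper11.S4404PGIDX
import Cfsg.Agent.Helper11.S4404IIB5
import Cfsg.Agent.Helper1.S4404PGOM
import Cfsg.Agent.Helper1.S4404PGLAST
import Cfsg.Agent.Helper19.S4404EXL73

/-! Board `s4404pieces`: the assemblies (ASM), on top of the 42 landed leaf rows. -/

set_option autoImplicit false
set_option linter.unusedVariables false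

namespace Cfsg.Agent.S4404P

open Subgroup
open scoped commutatorElement

variable {S : Type*} [Group S] [Finite S]

/-- ASM1 : an `r`-group acting on `U` (`|U| = 2^{2d}`) without fixed points has two invariant complementary subgroups. -/
theorem exists_split (M : Subgroup S) [M.Normal] (hM : Cfsg.IsElementaryAbelian 2 M) (r d : ℕ) [Fact r.Prime]
    (hrd : RD r d) (G₀ U : Subgroup S) (hG₀ : IsPGroup r ↥G₀) (hUM : U ≤ M)
    (hN : G₀ ≤ normalizer (U : Set S)) (hfix : U ⊓ centralizer (G₀ : Set S) = ⊥)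
    (hcard : Nat.card ↥U = 2 ^ (2 * d)) :
    ∃ X₁ X₂ : Subgroup S, X₁ ≤ U ∧ X₂ ≤ U ∧ G₀ ≤ normalizer (X₁ : Set S) ∧ G₀ ≤ normalizer (X₂ : Set S) ∧
      X₁ ⊓ X₂ = ⊥ ∧ Nat.card ↥X₁ = 2 ^ d ∧ Nat.card ↥X₂ = 2 ^ d := by
  have hdpos : 0 < d := by rcases hrd with ⟨_, rfl⟩ | ⟨_, rfl⟩ <;> norm_num
  have hnt : ¬ G₀ ≤ centralizer (U : Set S) := by
    intro hle
    have hUle : U ≤ U ⊓ centralizer (G₀ : Set S) := by
      refine le_inf le_rfl ?_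
      intro u hu
      rw [mem_centralizer_iff]
      intro g hg
      have := (mem_centralizer_iff.mp (hle hg)) u hu
      exact this.symm
    rw [hfix, le_bot_iff] at hUle
    rw [hUle, card_bot] at hcard
    have : 1 < 2 ^ (2 * d) := Nat.one_lt_two_pow (by omega)
    omega
  obtain ⟨z, hz, hzU, hzr, hcomm⟩ := exists_central_on r G₀ U hG₀ hN hnt
  by_cases hzfix : U ⊓ centralizer (zpowers z : Set S) = ⊥
  · rcases hrd with ⟨rfl, rfl⟩ | ⟨rfl, rfl⟩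
    · exact split_of_fpf_three M hM G₀ U hG₀ hUM hN (by rw [hcard]; norm_num) z hz hzr hcomm hzfix
    · exact split_of_fpf_seven M hM G₀ U hG₀ hUM hN (by rw [hcard]; norm_num) z hz hzr hcomm hzfix
  · exact split_of_fix M hM r d hrd G₀ U hG₀ hUM hN hfix hcard z hz hzU hcomm hzfix

/-- ASM2 = PW : in an `r`-group two reflections with different commutators cross-centralise. -/
theorem pw (M : Subgroup S) [M.Normal] (hM : Cfsg.IsElementaryAbelian 2 M) (r d : ℕ) [Fact r.Prime]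
    (hrd : RD r d) (G₀ : Subgroup S) (hG₀ : IsPGroup r ↥G₀) (t₁ t₂ : S) (h₁ : t₁ ∈ G₀) (h₂ : t₂ ∈ G₀)
    (hc₁ : Nat.card ↥(Wc M t₁) = 2 ^ d) (hc₂ : Nat.card ↥(Wc M t₂) = 2 ^ d) (hne : Wc M t₁ ≠ Wc M t₂) :
    t₂ ∈ centralizer ((Wc M t₁ : Subgroup S) : Set S) := by
  have hcl : closure ({t₁, t₂} : Set S) ≤ G₀ := by
    rw [closure_le]
    intro y hy
    rcases hy with rfl | rfl
    · exact h₁
    · exact h₂
  have hG : IsPGroup r ↥(closure ({t₁, t₂} : Set S)) := hG₀.to_le hcl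
  obtain ⟨hN, hfix, hcard⟩ := pw_setup M hM r d hrd t₁ t₂ hG hc₁ hc₂ hne
  have hUM : Wc M t₁ ⊔ Wc M t₂ ≤ M := sup_le (Wc_le M t₁) (Wc_le M t₂)
  obtain ⟨X₁, X₂, hX₁, hX₂, hN₁, hN₂, hdisj, hcX₁, hcX₂⟩ :=
    exists_split M hM r d hrd _ _ hG hUM hN hfix hcard
  have hsup : X₁ ⊔ X₂ = Wc M t₁ ⊔ Wc M t₂ := by
    apply sup_eq_of_card M hM X₁ X₂ _ hUM hX₁ hX₂ hdisj
    rw [hcX₁, hcX₂, hcard, ← pow_add, two_mul]
  have ht₁ : t₁ ∈ closure ({t₁, t₂} : Set S) := subset_closure (by simp)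
  have ht₂ : t₂ ∈ closure ({t₁, t₂} : Set S) := subset_closure (by simp)
  have hl₁ : Wc M t₁ ≤ X₁ ⊔ X₂ := hsup ▸ le_sup_left
  have hl₂ : Wc M t₂ ≤ X₁ ⊔ X₂ := hsup ▸ le_sup_right
  have s₁ := pw_split M hM r d hrd _ X₁ X₂ hG (hX₁.trans hUM) (hX₂.trans hUM) hN₁ hN₂ hdisj hcX₁ hcX₂ t₁ ht₁ hc₁ hl₁
  have s₂ := pw_split M hM r d hrd _ X₁ X₂ hG (hX₁.trans hUM) (hX₂.trans hUM) hN₁ hN₂ hdisj hcX₁ hcX₂ t₂ ht₂ hc₂ hl₂
  rcases s₁ with ⟨e₁, c₁⟩ | ⟨e₁, c₁⟩ <;> rcases s₂ with ⟨e₂, c₂⟩ | ⟨e₂, c₂⟩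
  · exact absurd (e₁.trans e₂.symm) hne
  · rw [e₁]; exact c₂
  · rw [e₁]; exact c₂
  · exact absurd (e₁.trans e₂.symm) hne

/-- TR with PW plugged in. -/
theorem tr (M : Subgroup S) [M.Normal] (hM : Cfsg.IsElementaryAbelian 2 M) (r d : ℕ) [Fact r.Prime]
    (hrd : RD r d) (P : Subgroup S) (hP : IsPGroup r ↥P)
    (B : Subgroup S) (hBP : B ≤ P) (hBn : P ≤ normalizer (B : Set S)) (hBc : IsMulCommutative ↥B)
    (t : S) (ht : t ∈ P) (hct : Nat.card ↥(Wc M t) = 2 ^ d) :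
    B ≤ normalizer ((Wc M t : Subgroup S) : Set S) := by
  have hdpos : 0 < d := by rcases hrd with ⟨_, rfl⟩ | ⟨_, rfl⟩ <;> norm_num
  exact tr_of_pw M hM r d hrd.ne_two hdpos P hP
    (fun t₁ h₁ t₂ h₂ hc₁ hc₂ hne => pw M hM r d hrd P hP t₁ t₂ h₁ h₂ hc₁ hc₂ hne)
    B hBP hBn hBc t ht hct

/-- ASM4 = Case I : `H` has an `E_27`. -/
theorem case_one (M : Subgroup S) [M.Normal] (hM : Cfsg.IsElementaryAbelian 2 M) (H : Subgroup S) (x : S)
    (hx : x ∈ H) (hx3 : ∃ k : ℕ, x ^ 3 ^ k = 1) (hW : Nat.card ↥(Wc M x) = 4) (h27 : HasE3 3 H) :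
    ∃ F : Subgroup S, F ≤ H ∧ Cfsg.IsElementaryAbelian 3 F ∧ Nat.card ↥F = 3 ^ 3 ∧
      3 ^ 2 ≤ Nat.card ↥(F ⊓ centralizer ((Wc M x : Subgroup S) : Set S)) := by
  have : Fact (Nat.Prime 3) := ⟨by norm_num⟩
  obtain ⟨T₀, hT₀H, hT₀, hxT₀, hE⟩ := exists_sylow_three H x hx hx3 h27
  obtain ⟨B, hBT, hBn, hBe, hBc⟩ := exists_normal_e3 3 (by norm_num) T₀ hT₀ hE
  have hnorm : B ≤ normalizer ((Wc M x : Subgroup S) : Set S) :=
    tr M hM 3 2 (Or.inl ⟨rfl, rfl⟩) T₀ hT₀ B hBT hBn hBe.1 x hxT₀ (by rw [hW]; norm_num)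
  have hBp : IsPGroup 3 ↥B := isPGroup_of_isElementaryAbelian 3 B hBe
  have hWe : Cfsg.IsElementaryAbelian 2 (Wc M x) := isElementaryAbelian_mono 2 M _ hM (Wc_le M x)
  have hidx := card_le_mul_card_cent 3 (by norm_num) B (Wc M x) hBp hWe hnorm (Or.inl hW)
  refine ⟨B, hBT.trans hT₀H, hBe, hBc, ?_⟩
  rw [hBc] at hidx
  omega

/-- ASM5 = PG. -/
theorem pg (T : Subgroup S) (hT : IsPGroup 3 ↥T) (a : S) (ha : a ∈ normalizer (T : Set S)) (q : ℕ) [Fact q.Prime]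
    (hq2 : q ≠ 2) (hq3 : q ≠ 3) (haq : ∃ k : ℕ, a ^ q ^ k = 1) (hne : a ∉ centralizer (T : Set S)) :
    HasE3 3 T := by
  obtain ⟨T₀, hT₀T, hmin⟩ := exists_minAct T a ha hne
  have hT₀ : IsPGroup 3 ↥T₀ := hT.to_le hT₀T
  have hΦ := minAct_fr_le_center T₀ hT₀ a q hq3 haq hmin
  obtain ⟨Ω, hΩ, hΩcard⟩ := exists_omega T₀ hT₀ hΦ
  have hidx := minAct_index_ge T₀ hT₀ a q hq2 hq3 haq hmin
  have hΩT₀ : Ω ≤ T₀ := fun t ht => ((hΩ t).mp ht).1
  have hFpos : 0 < Nat.card ↥(Fr T₀) := Nat.card_pos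
  have h27 : 27 ≤ Nat.card ↥Ω := by
    have h1 : 27 * Nat.card ↥(Fr T₀) ≤ Nat.card ↥Ω * Nat.card ↥(Fr T₀) := hidx.trans hΩcard
    exact Nat.le_of_mul_le_mul_right h1 hFpos
  have hexp : ∀ t ∈ Ω, t ^ 3 = 1 := fun t ht => ((hΩ t).mp ht).2
  have hcl : ⁅Ω, Ω⁆ ≤ centralizer (Ω : Set S) := by
    have h1 : ⁅Ω, Ω⁆ ≤ ⁅T₀, T₀⁆ := commutator_mono hΩT₀ hΩT₀
    have h2 : ⁅T₀, T₀⁆ ≤ Fr T₀ := (der_le_fr_three T₀ hT₀).1
    have h3 : Zc T₀ ≤ centralizer (T₀ : Set S) := inf_le_right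
    have h4 : centralizer (T₀ : Set S) ≤ centralizer (Ω : Set S) := centralizer_le hΩT₀
    exact h1.trans (h2.trans (hΦ.trans (h3.trans h4)))
  rcases e27_of_exp_three Ω hexp hcl h27 with h | ⟨hc, hna⟩
  · exact h.mono (hΩT₀.trans hT₀T)
  · exact (minAct_last T₀ hT₀ a q hq2 hq3 haq hmin Ω hΩ hc hna).elim

/-- ASM6 : in Case II (`H` has no `E_27`) the `3`-element `x` normalises a Sylow `p`-subgroup of `H`. -/
theorem normal_sylow (H : Subgroup S) (hsol : Group.IsSolvable ↥H) (p : ℕ) [Fact p.Prime] (hp2 : p ≠ 2) (hp3 : p ≠ 3)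
    (hno : ¬ HasE3 3 H) (x : S) (hx : x ∈ H) (hx3 : ∃ k : ℕ, x ^ 3 ^ k = 1) :
    ∃ P : Subgroup S, P ≤ H ∧ Nat.card ↥P = p ^ (Nat.card ↥H).factorization p ∧ x ∈ normalizer (P : Set S) := by
  obtain ⟨J, hJH, hxJ, hJcard⟩ := exists_hall H hsol p hp3 x hx hx3
  have hstar : ∀ T : Subgroup S, T ≤ J → IsPGroup 3 ↥T → ∀ g ∈ J, g ∈ normalizer (T : Set S) →
      (∃ k : ℕ, g ^ p ^ k = 1) → g ∈ centralizer (T : Set S) := by
    intro T hTJ hT g hgJ hgN hgp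
    by_contra hgc
    exact hno ((pg T hT g hgN p hp2 hp3 hgp hgc).mono (hTJ.trans hJH))
  obtain ⟨P, hPJ, hPcard, hPn⟩ := exists_normal_sylow J p _ _ hp3 hJcard hstar
  exact ⟨P, hPJ.trans hJH, hPcard, hPn hxJ⟩

/-- ASM7 = Case II : `H` has no `E_27`. -/
theorem case_two (M : Subgroup S) [M.Normal] (hM : Cfsg.IsElementaryAbelian 2 M) (H : Subgroup S)
    (hsol : Group.IsSolvable ↥H) (x : S) (hx : x ∈ H) (hxo : Odd (orderOf x)) (hx3 : ∃ k : ℕ, x ^ 3 ^ k = 1)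
    (hx3M : x ^ 3 ∈ centralizer (M : Set S))
    (hW : Nat.card ↥(Wc M x) = 4) (hno : ¬ HasE3 3 H) (p : ℕ) [Fact p.Prime] (hp2 : p ≠ 2) (hp3 : p ≠ 3)
    (A : Subgroup S) (hAH : A ≤ H) (hA : Cfsg.IsElementaryAbelian p A) (hAc : Nat.card ↥A = p ^ 3) :
    ∃ (r : ℕ) (F : Subgroup S), r.Prime ∧ r ≠ 2 ∧ F ≤ H ∧ Cfsg.IsElementaryAbelian r F ∧ Nat.card ↥F = r ^ 3 ∧
      r ^ 2 ≤ Nat.card ↥(F ⊓ centralizer ((Wc M x : Subgroup S) : Set S)) := by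
  have hp : p.Prime := Fact.out
  have hp5 : 5 ≤ p := by
    have h2 := hp.two_le
    by_contra hlt
    push Not at hlt
    interval_cases p
    · exact hp2 rfl
    · exact hp3 rfl
    · exact absurd hp (by norm_num)
  obtain ⟨P, hPH, hPcard, hxP⟩ := normal_sylow H hsol p hp2 hp3 hno x hx hx3
  have hPp : IsPGroup p ↥P := IsPGroup.of_card hPcard
  have hAp : IsPGroup p ↥A := isPGroup_of_isElementaryAbelian p A hA
  obtain ⟨h, hhH, hAP⟩ := exists_conj_le H P A p hPH hPcard hAH hAp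
  obtain ⟨hA', hA'c⟩ := isElementaryAbelian_map_conj p A hA h
  set A' := A.map (MulAut.conj h).toMonoidHom with hA'def
  by_cases hall : ∀ g ∈ P, x⁻¹ * (g⁻¹ * x * g) ∈ centralizer (M : Set S)
  · -- Case II a
    have hcen := two_a M x hW p hp5 P hPp hall
    refine ⟨p, A', hp, hp2, hAP.trans hPH, hA', hA'c.trans hAc, ?_⟩
    have : A' ⊓ centralizer ((Wc M x : Subgroup S) : Set S) = A' :=
      inf_eq_left.mpr (hAP.trans hcen)
    rw [this, hA'c, hAc]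
    exact Nat.pow_le_pow_right hp.pos (by norm_num)
  · -- Case II b
    push Not at hall
    obtain ⟨g, hgP, hgu⟩ := hall
    set u := x⁻¹ * (g⁻¹ * x * g) with hu
    set Γ := closure ({x, g⁻¹ * x * g} : Set S) with hΓ
    set U := Wc M x ⊔ Wc M (g⁻¹ * x * g) with hU
    obtain ⟨hΓodd, hU16, hΓU, hfix, huY, hYn, huU⟩ := two_b_setup M hM x hxo hW p hp2 P hPp hxP g hgP
    have hUM : U ≤ M := sup_le (Wc_le M x) (Wc_le M _)
    have hYp : IsPGroup p ↥(Γ ⊓ P) := hPp.to_le inf_le_right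
    have huP : u ∈ P := huY.2
    have huo : Odd (orderOf u) := by
      obtain ⟨k, hk⟩ := (IsPGroup.iff_orderOf.mp hPp) ⟨u, huP⟩
      have h1 : orderOf u = p ^ k := by rw [← hk, Subgroup.orderOf_mk]
      rw [h1]
      exact (hp.odd_of_ne_two hp2).pow
    have hunt : u ∉ centralizer (U : Set S) := by
      intro hc
      have h1 : ⁅U, zpowers u⁆ = Wc M u := comm_eq_Wc_of_le M hM u huo U hUM huU
      have h2 : ⁅U, zpowers u⁆ = ⊥ := by
        rw [commutator_eq_bot_iff_le_centralizer]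
        intro y hy
        rw [mem_centralizer_iff]
        intro w hw
        obtain ⟨k, rfl⟩ := mem_zpowers_iff.mp hw
        have hcy : Commute u y := ((mem_centralizer_iff.mp hc) y hy).symm
        exact (hcy.zpow_left k).eq
      rw [h2] at h1
      exact hgu ((Wc_eq_bot_iff M u).mp h1.symm)
    have hnt : ¬ (Γ ⊓ P) ≤ centralizer (U : Set S) := fun hle => hunt (hle huY)
    obtain ⟨hcases, hfixY⟩ := two_b_count M hM p hp5 Γ (Γ ⊓ P) U hΓodd hUM hU16 hΓU hfix inf_le_left hYn hYp hnt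
    have hxΓ : x ∈ Γ := subset_closure (by simp)
    rcases hcases with ⟨rfl, hU16'⟩ | ⟨rfl, hU8⟩
    · exact (two_b_five M hM x hxo hx3M hW (Γ ⊓ P) U hUM hU16' le_sup_left hYp (hYn hxΓ)
        (inf_le_left.trans hΓU) hnt).elim
    · have huM : u ∉ centralizer (M : Set S) := hgu
      have hu7 : ∃ k : ℕ, u ^ 7 ^ k = 1 := by
        obtain ⟨k, hk⟩ := (IsPGroup.iff_orderOf.mp hPp) ⟨u, huP⟩
        refine ⟨k, ?_⟩
        have h1 : orderOf u = 7 ^ k := by rw [← hk, Subgroup.orderOf_mk]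
        rw [← h1]; exact pow_orderOf_eq_one u
      have hWu : Wc M u = U := two_b_seven M hM u hu7 huM U hU8 huU
      have hE7 : HasE3 7 P := ⟨A', hAP, hA', hA'c.trans hAc⟩
      obtain ⟨B, hBP, hBn, hBe, hBc⟩ := exists_normal_e3 7 (by norm_num) P hPp hE7
      have hnorm : B ≤ normalizer ((Wc M u : Subgroup S) : Set S) :=
        tr M hM 7 3 (Or.inr ⟨rfl, rfl⟩) P hPp B hBP hBn hBe.1 u huP (by rw [hWu, hU8]; norm_num)
      have hBp : IsPGroup 7 ↥B := isPGroup_of_isElementaryAbelian 7 B hBe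
      have hUe : Cfsg.IsElementaryAbelian 2 U := isElementaryAbelian_mono 2 M _ hM hUM
      rw [hWu] at hnorm
      have hidx := card_le_mul_card_cent 7 (by norm_num) B U hBp hUe hnorm (Or.inr ⟨hU8, rfl⟩)
      refine ⟨7, B, by norm_num, by norm_num, hBP.trans hPH, hBe, hBc, ?_⟩
      have hle : B ⊓ centralizer (U : Set S) ≤ B ⊓ centralizer ((Wc M x : Subgroup S) : Set S) :=
        inf_le_inf_left B (centralizer_le (show ((Wc M x : Subgroup S) : Set S) ⊆ U from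
          (le_sup_left : Wc M x ≤ U)))
      have hcle := card_le_of_le hle
      rw [hBc] at hidx
      omega

/-- ASM8 = CORE. -/
theorem core (M : Subgroup S) [M.Normal] (hM : Cfsg.IsElementaryAbelian 2 M) (H : Subgroup S)
    (hsol : Group.IsSolvable ↥H) (hHodd : Odd (Nat.card ↥H)) (x : S) (hx : x ∈ H) (hx3 : ∃ k : ℕ, x ^ 3 ^ k = 1)
    (hx3M : x ^ 3 ∈ centralizer (M : Set S))
    (hW : Nat.card ↥(Wc M x) = 4) (p : ℕ) (hp : p.Prime) (hp2 : p ≠ 2)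
    (A : Subgroup S) (hAH : A ≤ H) (hA : Cfsg.IsElementaryAbelian p A) (hAc : Nat.card ↥A = p ^ 3) :
    ∃ (r : ℕ) (F : Subgroup S), r.Prime ∧ r ≠ 2 ∧ F ≤ H ∧ Cfsg.IsElementaryAbelian r F ∧ Nat.card ↥F = r ^ 3 ∧
      r ^ 2 ≤ Nat.card ↥(F ⊓ centralizer ((Wc M x : Subgroup S) : Set S)) := by
  have : Fact p.Prime := ⟨hp⟩
  by_cases h27 : HasE3 3 H
  · obtain ⟨F, hFH, hFe, hFc, hF⟩ := case_one M hM H x hx hx3 hW h27
    exact ⟨3, F, by norm_num, by norm_num, hFH, hFe, hFc, hF⟩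
  · have hp3 : p ≠ 3 := by
      rintro rfl
      exact h27 ⟨A, hAH, hA, hAc⟩
    have hxo : Odd (orderOf x) := by
      obtain ⟨k, hk⟩ := hx3
      have hd : orderOf x ∣ 3 ^ k := orderOf_dvd_of_pow_eq_one hk
      obtain ⟨j, _, hj⟩ := (Nat.dvd_prime_pow (by norm_num : Nat.Prime 3)).mp hd
      rw [hj]
      exact (by decide : Odd 3).pow
    exact case_two M hM H hsol x hx hxo hx3 hx3M hW h27 p hp2 hp3 A hAH hA hAc

end Cfsg.Agent.S4404P
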