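import Mathlib
import Cfsg.Agent.Helper6.S4414Defs

/-! Board `s4414pieces`, row DESC (hedge): fixed spaces keep their dimension under scalar extension (no coprimality). -/

set_option autoImplicit false
set_option linter.unusedSectionVars false
set_option linter.unusedVariables false

namespace Cfsg.Agent.S4414P

open Module TensorProduct Cfsg.Agent.Helper5.FrobMod Cfsg.Agent.S4414P

variable {K : Type*} [Field K] {W : Type*} [AddCommGroup W] [Module K W]
variable {G : Type*} [Group G] (σ : Representation K G W)

/-- the kernel of a base change has the same dimension (two different modules). -/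
theorem DESC_aux_ker {k : Type*} [Field k] {M N : Type*} [AddCommGroup M] [Module k M] [AddCommGroup N] [Module k N]
    (K : Type*) [Field K] [Algebra k K] (g : M →ₗ[k] N) :
    finrank K (LinearMap.ker (g.baseChange K)) = finrank k (LinearMap.ker g) := by
  have hex : Function.Exact (LinearMap.ker g).subtype g := LinearMap.exact_subtype_ker_map g
  have hex' := Module.Flat.lTensor_exact K hex
  have hinj : Function.Injective ((LinearMap.ker g).subtype.baseChange K) := by
    rw [LinearMap.baseChange_eq_ltensor]
    exact Module.Flat.lTensor_preserves_injective_linearMap _ (Submodule.subtype_injective _)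
  have hker : LinearMap.ker (g.baseChange K) = LinearMap.range ((LinearMap.ker g).subtype.baseChange K) := by
    ext y
    rw [LinearMap.mem_ker, LinearMap.mem_range]
    have := hex' y
    rw [← LinearMap.baseChange_eq_ltensor, ← LinearMap.baseChange_eq_ltensor] at this
    rw [this]
    rfl
  rw [hker, LinearMap.finrank_range_of_inj hinj, Module.finrank_baseChange]

/-- the map `v ↦ (τ d v - v)_{d ∈ D}`. -/
def DESC_aux_phi {F : Type*} [Field F] {V : Type*} [AddCommGroup V] [Module F V] (τ : Representation F G V)
    (D : Subgroup G) : V →ₗ[F] (↥D → V) :=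
  LinearMap.pi fun d => τ (d : G) - LinearMap.id

theorem DESC_aux_fix_eq_ker {F : Type*} [Field F] {V : Type*} [AddCommGroup V] [Module F V] (τ : Representation F G V)
    (D : Subgroup G) : fixOf τ D = LinearMap.ker (DESC_aux_phi τ D) := by
  ext v
  rw [LinearMap.mem_ker, mem_fixOf]
  constructor
  · intro h
    funext d
    show τ (d : G) v - v = 0
    rw [h d d.2, sub_self]
  · intro h b hb
    have := congrFun h ⟨b, hb⟩
    change τ b v - v = 0 at this
    exact sub_eq_zero.mp this

/-- DESC -/
theorem DESC {k : Type*} [Field k] {E : Type*} [AddCommGroup E] [Module k E] [FiniteDimensional k E] [Finite G]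
    (ρ : Representation k G E) (K : Type*) [Field K] [Algebra k K] (D : Subgroup G) :
    finrank K (fixOf (baseChangeRep ρ K) D) = finrank k (fixOf ρ D) := by
  classical
  have : Fintype ↥D := Fintype.ofFinite _
  rw [DESC_aux_fix_eq_ker ρ D, DESC_aux_fix_eq_ker (baseChangeRep ρ K) D, ← DESC_aux_ker K (DESC_aux_phi ρ D)]
  have hcomp : DESC_aux_phi (baseChangeRep ρ K) D =
      (TensorProduct.piRight k K K (fun _ : ↥D => E)).toLinearMap ∘ₗ (DESC_aux_phi ρ D).baseChange K := by
    apply TensorProduct.AlgebraTensorModule.curry_injective
    ext v d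
    simp [DESC_aux_phi, baseChangeRep, TensorProduct.tmul_sub]
  rw [hcomp, LinearEquiv.ker_comp]

end Cfsg.Agent.S4414P
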