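import Mathlib
import Cfsg.Agent.Helper6.S4414Defs

/-! Board `s4414pieces`, row EIG : joint eigenspaces of a finite commutative subgroup of order invertible in `K`
are independent and span. -/

set_option autoImplicit false
set_option linter.unusedSectionVars false
set_option linter.unusedVariables false

namespace Cfsg.Agent.S4414P

open Module TensorProduct Cfsg.Agent.Helper5.FrobMod Cfsg.Agent.S4414P

variable {K : Type*} [Field K] {W : Type*} [AddCommGroup W] [Module K W]
variable {G : Type*} [Group G] (σ : Representation K G W)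

/-- `σ a` is semisimple when `a ^ n = 1` with `n` invertible in `K`. -/
theorem EIG_aux_semisimple (a : G) (n : ℕ) (hn : (n : K) ≠ 0) (ha : a ^ n = 1) :
    Module.End.IsSemisimple (σ a : Module.End K W) := by
  have hsq : Squarefree (Polynomial.X ^ n - 1 : Polynomial K) :=
    (Polynomial.X_pow_sub_one_separable_iff.mpr hn).squarefree
  apply Module.End.isSemisimple_of_squarefree_aeval_eq_zero hsq
  rw [map_sub, map_pow, Polynomial.aeval_X, map_one, ← map_pow, ha, map_one, sub_self]

/-- the family of operators `σ a`, `a ∈ A`. -/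
def EIG_aux_fam (A : Subgroup G) : ↥A → Module.End K W := fun a => σ (a : G)

/-- the joint eigenspace is the intersection of the maximal generalised eigenspaces. -/
theorem EIG_aux_eq (A : Subgroup G) [Finite A] (hA : (Nat.card A : K) ≠ 0) (χ : ↥A → K) :
    eigS σ A χ = ⨅ a : ↥A, Module.End.maxGenEigenspace (EIG_aux_fam σ A a) (χ a) := by
  ext w
  rw [mem_eigS, Submodule.mem_iInf]
  refine forall_congr' fun a => ?_
  have hs : Module.End.IsSemisimple (EIG_aux_fam σ A a) := by
    apply EIG_aux_semisimple σ (a : G) (Nat.card A) hA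
    have := pow_card_eq_one' (G := ↥A) (x := a)
    exact_mod_cast congrArg Subtype.val this
  rw [hs.isFinitelySemisimple.maxGenEigenspace_eq_eigenspace, Module.End.mem_eigenspace_iff]
  rfl

/-- EIG -/
theorem EIG [IsAlgClosed K] [FiniteDimensional K W] (A : Subgroup G) [Finite A]
    (hcomm : ∀ a ∈ A, ∀ b ∈ A, a * b = b * a) (hA : (Nat.card A : K) ≠ 0) :
    iSupIndep (eigS σ A) ∧ ⨆ χ, eigS σ A χ = ⊤ := by
  have hfun : eigS σ A = fun χ : ↥A → K => ⨅ a : ↥A, Module.End.maxGenEigenspace (EIG_aux_fam σ A a) (χ a) := by
    funext χ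
    exact EIG_aux_eq σ A hA χ
  have hc : ∀ a b : ↥A, Commute (EIG_aux_fam σ A a) (EIG_aux_fam σ A b) := by
    intro a b
    show σ (a : G) * σ (b : G) = σ (b : G) * σ (a : G)
    rw [← map_mul, ← map_mul, hcomm a a.2 b b.2]
  constructor
  · rw [hfun]
    apply Module.End.independent_iInf_maxGenEigenspace_of_forall_mapsTo
    intro i j φ
    exact Module.End.mapsTo_maxGenEigenspace_of_comm (hc j i) φ
  · simp only [hfun]
    apply Module.End.iSup_iInf_maxGenEigenspace_eq_top_of_iSup_maxGenEigenspace_eq_top_of_commute
    · intro i j _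
      exact hc i j
    · intro i
      exact Module.End.iSup_maxGenEigenspace_eq_top _

end Cfsg.Agent.S4414P
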