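import Mathlib
import Cfsg.Agent.Helper6.S4414Defs
import Cfsg.Agent.Helper21.S4414FIX2
import Cfsg.Agent.Helper17.S4414LAT2
import Cfsg.Agent.Helper19.S4414LAT1

/-! Board `s4414pieces`, row FIXORB (hedge by helper4): FIX2 for `U = W_{orbS T i}`. -/

set_option autoImplicit false
set_option linter.unusedSectionVars false
set_option linter.unusedVariables false

namespace Cfsg.Agent.S4414P

open Module TensorProduct Cfsg.Agent.Helper5.FrobMod Cfsg.Agent.S4414P

variable {K : Type*} [Field K] {W : Type*} [AddCommGroup W] [Module K W]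
variable {G : Type*} [Group G] (σ : Representation K G W)

variable {I : Type*}

theorem FIXORB_aux_image [MulAction G I] (T : Subgroup G) (i : I) {t : G} (ht : t ∈ T) :
    (fun j => t • j) '' orbS T i = orbS T i := by
  ext j
  constructor
  · rintro ⟨j', ⟨s, hs, rfl⟩, rfl⟩
    exact ⟨t * s, T.mul_mem ht hs, mul_smul t s i⟩
  · rintro ⟨s, hs, rfl⟩
    refine ⟨t⁻¹ • s • i, ⟨t⁻¹ * s, T.mul_mem (T.inv_mem ht) hs, mul_smul _ _ _⟩, ?_⟩
    simp

/-- FIXORB (S/M): a nonzero `T`-fixed vector supported on the `T`-orbit of `i` (FIX2 for `U = W_{orbS T i}`, invariant by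
`WQ_map`). -/
theorem FIXORB [CharP K 2] [Finite G] [MulAction G I] {Wf : I → Submodule K W} (hG : Graded σ Wf) (T : Subgroup G)
    (hT : IsPGroup 2 ↥T) {i : I} (hi : Wf i ≠ ⊥) : ∃ f ∈ WQ Wf (orbS T i), f ≠ 0 ∧ f ∈ fixOf σ T := by
  have hmem : i ∈ orbS T i := ⟨1, T.one_mem, one_smul _ _⟩
  have hU : WQ Wf (orbS T i) ≠ ⊥ := by
    intro h
    apply hi
    have := le_WQ (Wf := Wf) hmem
    rw [h] at this
    exact le_bot_iff.mp this
  have hinv : Inv σ T (WQ Wf (orbS T i)) := by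
    intro t ht x hx
    have h1 : σ t x ∈ (WQ Wf (orbS T i)).map (σ t) := Submodule.mem_map_of_mem hx
    rw [WQ_map σ hG t, FIXORB_aux_image T i ht] at h1
    exact h1
  exact FIX2 σ T hT _ hU hinv

end Cfsg.Agent.S4414P
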