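import Mathlib
import Cfsg.Agent.Helper6.S4414Defs
import Cfsg.Agent.Helper19.S4414LAT1

/-! Board `s4414pieces`, row IND (hedge). -/

set_option autoImplicit false
set_option linter.unusedSectionVars false
set_option linter.unusedVariables false

namespace Cfsg.Agent.S4414P

open Module TensorProduct Cfsg.Agent.Helper5.FrobMod Cfsg.Agent.S4414P

variable {K : Type*} [Field K] {W : Type*} [AddCommGroup W] [Module K W]
variable {G : Type*} [Group G] (σ : Representation K G W)

variable {I : Type*}

/-- the `WQ` of pairwise disjoint sets are independent. -/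
theorem IND_aux_indep {Wf : I → Submodule K W} (h : iSupIndep Wf) {J : Type*} (Q : J → Set I)
    (hQ : ∀ a b, a ≠ b → Disjoint (Q a) (Q b)) : iSupIndep (fun a => WQ Wf (Q a)) := by
  intro a
  have hd : Disjoint (Q a) (⋃ b ∈ {b | b ≠ a}, Q b) := by
    rw [Set.disjoint_iUnion₂_right]
    intro b hb
    exact hQ a b (Ne.symm hb)
  refine (WQ_disjoint h hd).mono_right ?_
  refine iSup₂_le fun b hb => ?_
  apply WQ_mono
  intro i hi
  exact Set.mem_iUnion₂.mpr ⟨b, hb, hi⟩

/-- IND -/
theorem IND [FiniteDimensional K W] {Wf : I → Submodule K W} (h : iSupIndep Wf) {n : ℕ} (Q : Fin n → Set I)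
    (hQ : ∀ a b, a ≠ b → Disjoint (Q a) (Q b)) (f : Fin n → W) (hf : ∀ a, f a ∈ WQ Wf (Q a)) (hf0 : ∀ a, f a ≠ 0)
    (F : Submodule K W) (hF : ∀ a, f a ∈ F) : n ≤ finrank K F := by
  have hli : LinearIndependent K f := (IND_aux_indep h Q hQ).linearIndependent _ hf hf0
  have hli' : LinearIndependent K (fun a => (⟨f a, hF a⟩ : ↥F)) := by
    apply LinearIndependent.of_comp F.subtype
    exact hli
  have := hli'.fintype_card_le_finrank
  simpa using this

end Cfsg.Agent.S4414P
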