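import Mathlib
import Cfsg.Agent.Helper6.S4414Defs

/-! Board `s4414pieces`, row NOQ (hedge). -/

set_option autoImplicit false
set_option linter.unusedSectionVars false
set_option linter.unusedVariables false

namespace Cfsg.Agent.S4414P

open Module TensorProduct Cfsg.Agent.Helper5.FrobMod Cfsg.Agent.S4414P
open scoped commutatorElement

variable {K : Type*} [Field K] {W : Type*} [AddCommGroup W] [Module K W]
variable {G : Type*} [Group G] (σ : Representation K G W)

/-- the stabiliser of a vector. -/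
def NOQ_aux_stab (w : W) : Subgroup G where
  carrier := {a | σ a w = w}
  one_mem' := by simp
  mul_mem' := fun {a b} ha hb => by
    show σ (a * b) w = w
    rw [map_mul, Module.End.mul_apply, hb, ha]
  inv_mem' := fun {a} ha => by
    show σ a⁻¹ w = w
    have h : σ a w = w := ha
    calc σ a⁻¹ w = σ a⁻¹ (σ a w) := by rw [h]
      _ = w := rho_inv_apply σ a w

/-- a subgroup of order `q` is conjugate to a Sylow `q`-subgroup of order `q`, so it has the same commutator with `A`. -/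
theorem NOQ_aux_comm [Finite G] (A : Subgroup G) [A.Normal] {q : ℕ} [Fact q.Prime] (Sq : Sylow q G)
    (hSq : Nat.card ↥Sq = q) (hcomm : ⁅A, (Sq : Subgroup G)⁆ = A) (g : G) (hg : orderOf g = q) :
    ⁅A, Subgroup.zpowers g⁆ = A := by
  have hZq : IsPGroup q ↥(Subgroup.zpowers g) :=
    IsPGroup.of_card (n := 1) (by rw [Nat.card_zpowers, hg, pow_one])
  obtain ⟨S', hS'⟩ := hZq.exists_le_sylow
  have hcard : Nat.card ↥(S' : Subgroup G) = q := by
    rw [Sylow.card_eq_multiplicity, ← Sylow.card_eq_multiplicity Sq]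
    exact hSq
  have hZS : Subgroup.zpowers g = (S' : Subgroup G) :=
    Subgroup.eq_of_le_of_card_ge hS' (by rw [hcard, Nat.card_zpowers, hg])
  obtain ⟨x, hx⟩ := MulAction.exists_smul_eq G Sq S'
  have hx' : (S' : Subgroup G) = (Sq : Subgroup G).map (MulAut.conj x).toMonoidHom := by
    rw [← hx, Sylow.coe_subgroup_smul, Subgroup.pointwise_smul_def]
    rfl
  have hA : A.map (MulAut.conj x).toMonoidHom = A := by
    have := Subgroup.Normal.conj_smul_eq_self x A
    rwa [Subgroup.pointwise_smul_def] at this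
  rw [hZS, hx']
  calc ⁅A, (Sq : Subgroup G).map (MulAut.conj x).toMonoidHom⁆
      = ⁅A.map (MulAut.conj x).toMonoidHom, (Sq : Subgroup G).map (MulAut.conj x).toMonoidHom⁆ := by rw [hA]
    _ = (⁅A, (Sq : Subgroup G)⁆).map (MulAut.conj x).toMonoidHom := (Subgroup.map_commutator _ _ _).symm
    _ = A := by rw [hcomm, hA]

/-- NOQ -/
theorem NOQ [Finite G] (A : Subgroup G) [A.Normal] (hA0 : fixOf σ A = ⊥) {q : ℕ} [Fact q.Prime] (Sq : Sylow q G)
    (hSq : Nat.card ↥Sq = q) (hcomm : ⁅A, (Sq : Subgroup G)⁆ = A) (χ : ↥A → K) (hχ : eigS σ A χ ≠ ⊥) (g : G)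
    (hg : orderOf g = q) : wtSmul A g χ ≠ χ := by
  intro hfix
  obtain ⟨w, hw, hw0⟩ := Submodule.exists_mem_ne_zero_of_ne_bot hχ
  rw [mem_eigS] at hw
  -- invariance of `χ` under all of `zpowers g`
  let _ := wtAct (K := K) A
  have hstab : Subgroup.zpowers g ≤ MulAction.stabilizer G χ := by
    rw [Subgroup.zpowers_le, MulAction.mem_stabilizer_iff]
    exact hfix
  have hinv : ∀ y ∈ Subgroup.zpowers g, ∀ c : ↥A, χ (MulAut.conjNormal y c) = χ c := by
    intro y hy c
    have h1 : y⁻¹ • χ = χ := MulAction.mem_stabilizer_iff.mp (hstab (inv_mem hy))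
    have h2 := congrFun h1 c
    change χ (MulAut.conjNormal (y⁻¹)⁻¹ c) = χ c at h2
    rwa [inv_inv] at h2
  -- `w` is fixed by `⁅A, zpowers g⁆ = A`
  have hle : ⁅A, Subgroup.zpowers g⁆ ≤ NOQ_aux_stab σ w := by
    rw [Subgroup.commutator_le]
    intro a ha y hy
    show σ ⁅a, y⁆ w = w
    set a' : ↥A := ⟨a, ha⟩ with ha'
    set b' : ↥A := MulAut.conjNormal y a'⁻¹ with hb'
    have hb : ((b' : ↥A) : G) = y * a⁻¹ * y⁻¹ := by
      rw [hb', MulAut.conjNormal_apply]
      rfl
    have e : ⁅a, y⁆ = a * ((b' : ↥A) : G) := by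
      rw [hb, commutatorElement_def]; group
    have h1 : χ b' = χ a'⁻¹ := hinv y hy a'⁻¹
    have h2 : σ a w = χ a' • w := hw a'
    have h3 : σ a⁻¹ w = χ a'⁻¹ • w := hw a'⁻¹
    rw [e, map_mul, Module.End.mul_apply, hw b', h1, map_smul, h2, smul_comm, ← h3, ← map_smul, ← h2]
    exact rho_inv_apply σ a w
  rw [NOQ_aux_comm A Sq hSq hcomm g hg] at hle
  have hwfix : w ∈ fixOf σ A := fun b hb => hle hb
  rw [hA0, Submodule.mem_bot] at hwfix
  exact hw0 hwfix

end Cfsg.Agent.S4414P
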