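import Mathlib
import Cfsg.Agent.Helper4.S5033Defs
import Cfsg.Agent.Helper3.S5033L2
import Cfsg.Agent.Helper19.S5033NC
import Cfsg.Agent.Helper20.S5033L5B
import Cfsg.Agent.Helper25.RootBasic

set_option autoImplicit false

/-! # S5033 piece L5C: step (††) of L5 (degenerate case). -/

namespace Cfsg.Agent.S5033P

open Cfsg
open scoped commutatorElement

variable {G : Type*} [Group G] {S : Set (Subgroup G)}

private theorem l5c_exists_ne_one {P : Subgroup G} (h : P ≠ ⊥) : ∃ x ∈ P, x ≠ 1 := by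
  by_contra hcon
  push Not at hcon
  exact h ((Subgroup.eq_bot_iff_forall P).mpr hcon)

/-- L5 step 4 (††). -/
theorem L5C (H : Hyp S) (hdeg : IsDegenerateRootSet S) {K : Subgroup G} (hK : K ≤ commutator G)
    (hn : commutator G ≤ Subgroup.normalizer (K : Set G)) (hne : K ≠ commutator G)
    {A D : Subgroup G} (hA : A ∈ S) (hD : D ∈ S) (hAD : ⁅A, D⁆ = ⊥) {k : G} (hk : k ∈ K) :
    ⁅conjBy A k, D⁆ = ⊥ := by
  have hA₁S : conjBy A k ∈ S := H.hS.conj_mem A hA k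
  rcases H.hS.pair D hD _ hA₁S with hc | hr | hcc
  · rw [Subgroup.commutator_comm]; exact hc
  · exfalso
    obtain ⟨a, ⟨haA, haL⟩, ha1⟩ := l5c_exists_ne_one (L2.inf_ne_bot H hA)
    obtain ⟨d, ⟨hdD, hdL⟩, hd1⟩ := l5c_exists_ne_one (L2.inf_ne_bot H hD)
    have had : a * d = d * a := by
      have h1 : A ≤ Subgroup.centralizer (D : Set G) :=
        Subgroup.commutator_eq_bot_iff_le_centralizer.mp hAD
      exact (Subgroup.mem_centralizer_iff.mp (h1 haA) d hdD).symm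
    -- `a₁ = k a k⁻¹ ∈ A₁#`
    have ha₁ : k * a * k⁻¹ ∈ conjBy A k := ⟨a, haA, rfl⟩
    have ha₁1 : k * a * k⁻¹ ≠ 1 := by
      intro he
      apply ha1
      have : a = k⁻¹ * (k * a * k⁻¹) * k := by group
      rw [this, he]; group
    -- `r = k (a k⁻¹ a⁻¹) ∈ K`
    have hr1 : a * k⁻¹ * a⁻¹ ∈ K :=
      (Subgroup.mem_normalizer_iff.mp (hn haL) k⁻¹).mp (K.inv_mem hk)
    have hrK : k * (a * k⁻¹ * a⁻¹) ∈ K := K.mul_mem hk hr1
    -- `z = [d, a₁] = (d r d⁻¹) r⁻¹ ∈ K`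
    have hzeq : d * (k * a * k⁻¹) * d⁻¹ * (k * a * k⁻¹)⁻¹ =
        d * (k * (a * k⁻¹ * a⁻¹)) * d⁻¹ * (k * (a * k⁻¹ * a⁻¹))⁻¹ := by
      have h3 : a * d⁻¹ * a⁻¹ = d⁻¹ := by
        have : a * d⁻¹ = d⁻¹ * a := by
          have h4 : d⁻¹ * (a * d) * d⁻¹ = d⁻¹ * (d * a) * d⁻¹ := by rw [had]
          have h5 : d⁻¹ * (a * d) * d⁻¹ = d⁻¹ * a := by group
          have h6 : d⁻¹ * (d * a) * d⁻¹ = a * d⁻¹ := by group
          rw [h5, h6] at h4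
          exact h4.symm
        rw [this]; group
      calc d * (k * a * k⁻¹) * d⁻¹ * (k * a * k⁻¹)⁻¹
          = d * (k * (a * k⁻¹ * a⁻¹)) * (a * d⁻¹ * a⁻¹) * (k * (a * k⁻¹ * a⁻¹))⁻¹ := by group
        _ = _ := by rw [h3]
    have hzK : d * (k * a * k⁻¹) * d⁻¹ * (k * a * k⁻¹)⁻¹ ∈ K := by
      rw [hzeq]
      exact K.mul_mem ((Subgroup.mem_normalizer_iff.mp (hn hdL) _).mp hrK) (K.inv_mem hrK)
    have hzY : d * (k * a * k⁻¹) * d⁻¹ * (k * a * k⁻¹)⁻¹ ∈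
        ⁅D ⊔ conjBy A k, D ⊔ conjBy A k⁆ :=
      Subgroup.commutator_mem_commutator (Subgroup.mem_sup_left hdD) (Subgroup.mem_sup_right ha₁)
    have hzc := L5B H hdeg hK hn hne hD hA₁S hr ⟨hzK, hzY⟩
    have hzc' : (d * (k * a * k⁻¹) * d⁻¹ * (k * a * k⁻¹)⁻¹)⁻¹ ∈
        Subgroup.centralizer ((D ⊔ conjBy A k : Subgroup G) : Set G) := Subgroup.inv_mem _ hzc
    have hconj : (d * (k * a * k⁻¹) * d⁻¹ * (k * a * k⁻¹)⁻¹)⁻¹ * d =
        (k * a * k⁻¹) * d * (k * a * k⁻¹)⁻¹ := by group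
    have hroot : (d * (k * a * k⁻¹) * d⁻¹ * (k * a * k⁻¹)⁻¹)⁻¹ * d ∈ rootElements S := by
      rw [hconj]
      refine ⟨?_, conjBy D (k * a * k⁻¹), H.hS.conj_mem D hD _, ⟨d, hdD, rfl⟩⟩
      intro he
      apply hd1
      have : d = (k * a * k⁻¹)⁻¹ * ((k * a * k⁻¹) * d * (k * a * k⁻¹)⁻¹) * (k * a * k⁻¹) := by group
      rw [this, he]; group
    by_cases hz1 : (d * (k * a * k⁻¹) * d⁻¹ * (k * a * k⁻¹)⁻¹)⁻¹ = 1
    · apply NC.not_commute H.hS hD hA₁S hr hdD hd1 ha₁ ha₁1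
      have h7 : d * (k * a * k⁻¹) * d⁻¹ * (k * a * k⁻¹)⁻¹ = 1 := inv_eq_one.mp hz1
      have h8 : d * (k * a * k⁻¹) = (d * (k * a * k⁻¹) * d⁻¹ * (k * a * k⁻¹)⁻¹) * ((k * a * k⁻¹) * d) := by
        group
      rw [h8, h7, one_mul]
    · exact Cfsg.Agent.Helper25.root_central_mul_not_root H.hS hA₁S hr hzc' hz1 hdD hd1 hroot
  · exact (hdeg D hD _ hA₁S hcc).elim

end Cfsg.Agent.S5033P
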