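import Mathlib
import Cfsg.Agent.Helper4.S5033Defs
import Cfsg.Agent.Helper3.S5033L2
import Cfsg.Agent.Helper13.S5033CLAIM1
import Cfsg.Agent.Helper20.S5033L5A
import Cfsg.Agent.Helper21.S5033CLAIM3
import Cfsg.Agent.Helper22.S5033FIX
import Cfsg.Agent.Helper4.S5033L5C

set_option autoImplicit false

/-! # S5033 piece L5: proper normal subgroups of `G'` are central in `G'`. -/

namespace Cfsg.Agent.S5033P

open Cfsg
open scoped commutatorElement

variable {G : Type*} [Group G] {S : Set (Subgroup G)}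

/-- the subgroup generated by the `A ⊓ G'`, `A ∈ S`, is normal. -/
private theorem l5_normal (H : Hyp S) : (⨆ A ∈ S, (A ⊓ commutator G) : Subgroup G).Normal := by
  have key : ∀ g : G, (⨆ A ∈ S, (A ⊓ commutator G) : Subgroup G).map (MulAut.conj g).toMonoidHom ≤
      (⨆ A ∈ S, (A ⊓ commutator G) : Subgroup G) := by
    intro g
    rw [Subgroup.map_iSup]
    apply iSup_le
    intro A
    rw [Subgroup.map_iSup]
    apply iSup_le
    intro hA
    have h1 : (A ⊓ commutator G).map (MulAut.conj g).toMonoidHom ≤ conjBy A g ⊓ commutator G := by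
      rintro _ ⟨x, ⟨hxA, hxL⟩, rfl⟩
      refine ⟨⟨x, hxA, rfl⟩, ?_⟩
      simp only [MulEquiv.coe_toMonoidHom, MulAut.conj_apply]
      exact (inferInstance : (commutator G).Normal).conj_mem x hxL g
    exact h1.trans (le_iSup₂ (f := fun (A : Subgroup G) (_ : A ∈ S) => A ⊓ commutator G)
      (conjBy A g) (H.hS.conj_mem A hA g))
  constructor
  intro x hx g
  apply key g
  exact ⟨x, hx, rfl⟩

/-- L5 (steps 2, 5, 6). -/
theorem L5 (H : Hyp S) {K : Subgroup G} (hK : K ≤ commutator G)
    (hn : commutator G ≤ Subgroup.normalizer (K : Set G)) (hne : K ≠ commutator G) :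
    K ≤ Subgroup.centralizer ((commutator G : Subgroup G) : Set G) := by
  by_cases hdeg : IsDegenerateRootSet S
  · have hfix : ∀ A ∈ S, ∀ k ∈ K, conjBy A k = A :=
      FIX H (fun A hA D hD hAD k hk => L5C H hdeg hK hn hne hA hD hAD hk)
    have hcent : ∀ A ∈ S, ∀ a ∈ A ⊓ commutator G, ∀ k ∈ K, k * a = a * k := by
      rintro A hA a ⟨haA, haL⟩ k hk
      have h1 : k * a * k⁻¹ ∈ A := by
        have : k * a * k⁻¹ ∈ conjBy A k := ⟨a, haA, rfl⟩
        rwa [hfix A hA k hk] at this
      have h2 : k * a * k⁻¹ * a⁻¹ ∈ A := A.mul_mem h1 (A.inv_mem haA)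
      have h3 : k * a * k⁻¹ * a⁻¹ ∈ K := by
        have h4 : a * k⁻¹ * a⁻¹ ∈ K :=
          (Subgroup.mem_normalizer_iff.mp (hn haL) k⁻¹).mp (K.inv_mem hk)
        have : k * a * k⁻¹ * a⁻¹ = k * (a * k⁻¹ * a⁻¹) := by group
        rw [this]
        exact K.mul_mem hk h4
      have h5 : k * a * k⁻¹ * a⁻¹ ∈ A ⊓ K := ⟨h2, h3⟩
      rw [L5A H hK hn hne hA, Subgroup.mem_bot] at h5
      have : k * a = (k * a * k⁻¹ * a⁻¹) * (a * k) := by group
      rw [this, h5, one_mul]
    have hL₀n := l5_normal H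
    obtain ⟨A₀, hA₀, -⟩ := H.h2
    have hL₀ : commutator G ≤ (⨆ A ∈ S, (A ⊓ commutator G) : Subgroup G) := by
      apply CLAIM3 H hL₀n hA₀
      intro hb
      apply L2.inf_ne_bot H hA₀
      rw [eq_bot_iff, ← hb]
      refine le_inf ?_ inf_le_left
      exact le_iSup₂ (f := fun (A : Subgroup G) (_ : A ∈ S) => A ⊓ commutator G) A₀ hA₀
    intro k hk
    rw [Subgroup.mem_centralizer_iff]
    intro x hx
    have hle : (⨆ A ∈ S, (A ⊓ commutator G) : Subgroup G) ≤ Subgroup.centralizer {k} := by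
      apply iSup₂_le
      intro A hA a ha
      rw [Subgroup.mem_centralizer_iff]
      intro y hy
      rw [Set.mem_singleton_iff] at hy
      rw [hy]
      exact hcent A hA a ha k hk
    have := Subgroup.mem_centralizer_iff.mp (hle (hL₀ hx)) k (Set.mem_singleton k)
    exact this.symm
  · have htop : commutator G = ⊤ := L2.top_of_not_degenerate H hdeg
    have hKn : K.Normal := by
      rw [← Subgroup.normalizer_eq_top_iff, ← top_le_iff, ← htop]
      exact hn
    rcases STAR H hKn with h1 | h1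
    · exact h1.trans (Subgroup.center_le_centralizer _)
    · exact (hne (le_antisymm hK h1)).elim

end Cfsg.Agent.S5033P
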