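import Mathlib
import Cfsg.Prelude.Def_RootSubgroups

set_option autoImplicit false

/-! # S5039: interface of the triangle lemma (helper29) used by the twins lemma (helper4).

A *triangle* `(A ⊥ C; B)` in a set `S` of abstract root subgroups: `A, C, B ∈ S`, `A ≠ C` commute
elementwise, `B` is a rank one partner of both.  Conventions of the Prelude: `conjBy U g = g U g⁻¹`; the
partner relation of a rank one pair `(A, B)` is `conjBy A b⁻¹ = conjBy B a⁻¹`. -/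

namespace Cfsg.Agent.S5039P

open Cfsg

variable {G : Type*} [Group G]

/-- `(A ⊥ C; B)` is a triangle of `S`. -/
structure IsTriangle (S : Set (Subgroup G)) (A C B : Subgroup G) : Prop where
  memA : A ∈ S
  memC : C ∈ S
  memB : B ∈ S
  ne : A ≠ C
  comm : ⁅A, C⁆ = ⊥
  rankAB : IsRankOnePair A B
  rankCB : IsRankOnePair C B

/-- What the triangle lemma provides for a triangle `(A ⊥ C; B)`: the map `ψ : A → C`
(`δ(a) = a ψ(a)⁻¹`, `m(a) = β (δ⁻¹ β δ)⁻¹` for the partner `β` of `a`). -/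
structure TLData (A C B : Subgroup G) (ψ : G → G) : Prop where
  map_mem : ∀ x ∈ A, ψ x ∈ C
  map_mul : ∀ x ∈ A, ∀ y ∈ A, ψ (x * y) = ψ x * ψ y
  map_ne : ∀ x ∈ A, x ≠ 1 → ψ x ≠ 1
  perp : ∀ a ∈ A, a ≠ 1 →
    ⁅conjBy B (a * (ψ a)⁻¹)⁻¹, B⁆ = ⊥ ∧ conjBy B (a * (ψ a)⁻¹)⁻¹ ≠ B
  conj : ∀ a ∈ A, a ≠ 1 → ∀ β ∈ B, β ≠ 1 → conjBy A β⁻¹ = conjBy B a⁻¹ → ∀ x ∈ A,
    (β * ((a * (ψ a)⁻¹)⁻¹ * β * (a * (ψ a)⁻¹))⁻¹)⁻¹ * x *
      (β * ((a * (ψ a)⁻¹)⁻¹ * β * (a * (ψ a)⁻¹))⁻¹) = ψ x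

end Cfsg.Agent.S5039P
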