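import Mathlib

set_option autoImplicit false

/-! # S5039: the abstract form of Lemma M (departures/helper4_TIMM_S5039_twins.md).

Pure group theory: `A` an (abelian) subgroup, `D` a subgroup such that every `δ⁻¹ A δ` (`δ ∈ D`)
commutes elementwise with `A`.  If `m(a, d) := a (d⁻¹ a d)⁻¹` and `m(aᵢ, dᵢ) m(aⱼ, dⱼ)⁻¹` commutes
with `μ ∈ D`, then `aⱼ aᵢ⁻¹` is a product of elements of the conjugates `δ⁻¹ A δ`, `δ ∈ D`, `δ ≠ 1`
(provided `dᵢ, dⱼ, μ, dᵢ μ, dⱼ μ ≠ 1`). -/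

namespace Cfsg.Agent.Helper4.S5039M

variable {G : Type*} [Group G]

/-- the conjugates `δ⁻¹ y δ`, `δ ∈ D`, `y ∈ A`. -/
def conjSet (A D : Subgroup G) : Set G := {x | ∃ δ ∈ D, ∃ y ∈ A, x = δ⁻¹ * y * δ}

/-- the conjugates `δ⁻¹ y δ`, `δ ∈ D`, `δ ≠ 1`, `y ∈ A`. -/
def conjSet' (A D : Subgroup G) : Set G := {x | ∃ δ ∈ D, δ ≠ 1 ∧ ∃ y ∈ A, x = δ⁻¹ * y * δ}

theorem conjSet_comm (A D : Subgroup G)
    (hcomm : ∀ δ ∈ D, ∀ x ∈ A, ∀ y ∈ A, (δ⁻¹ * x * δ) * y = y * (δ⁻¹ * x * δ)) :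
    ∀ x ∈ conjSet A D, ∀ x' ∈ conjSet A D, x * x' = x' * x := by
  rintro x ⟨δ, hδ, y, hy, rfl⟩ x' ⟨δ', hδ', y', hy', rfl⟩
  have hε : δ' * δ⁻¹ ∈ D := D.mul_mem hδ' (D.inv_mem hδ)
  have h := hcomm _ hε y' hy' y hy
  have e1 : δ'⁻¹ * y' * δ' = δ⁻¹ * ((δ' * δ⁻¹)⁻¹ * y' * (δ' * δ⁻¹)) * δ := by group
  rw [e1]
  calc δ⁻¹ * y * δ * (δ⁻¹ * ((δ' * δ⁻¹)⁻¹ * y' * (δ' * δ⁻¹)) * δ)
      = δ⁻¹ * (y * ((δ' * δ⁻¹)⁻¹ * y' * (δ' * δ⁻¹))) * δ := by group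
    _ = δ⁻¹ * (((δ' * δ⁻¹)⁻¹ * y' * (δ' * δ⁻¹)) * y) * δ := by rw [h]
    _ = _ := by group

theorem comm_aux_add {U : Type*} [AddCommGroup U] (a a' r r' P P' : U)
    (h : P - P' = (a - r) - (a' - r')) : a' - a = (P' + r') - (P + r) := by
  have h1 : P = (a - r) - (a' - r') + P' := by rw [← h]; abel
  rw [h1]; abel

theorem comm_aux {U : Type*} [CommGroup U] (a a' r r' P P' : U)
    (h : P * P'⁻¹ = (a * r⁻¹) * (a' * r'⁻¹)⁻¹) : a' * a⁻¹ = (P' * r') * (P * r)⁻¹ := by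
  have := comm_aux_add (U := Additive U) (Additive.ofMul a) (Additive.ofMul a') (Additive.ofMul r)
    (Additive.ofMul r') (Additive.ofMul P) (Additive.ofMul P')
  simp only [sub_eq_add_neg, ← ofMul_inv, ← ofMul_mul] at this
  exact Additive.ofMul.injective (this (congrArg Additive.ofMul h))

theorem lemmaM (A D : Subgroup G)
    (hcomm : ∀ δ ∈ D, ∀ x ∈ A, ∀ y ∈ A, (δ⁻¹ * x * δ) * y = y * (δ⁻¹ * x * δ))
    {ai aj di dj μ : G} (hai : ai ∈ A) (haj : aj ∈ A) (hdi : di ∈ D) (hdj : dj ∈ D) (hμ : μ ∈ D)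
    (hdi1 : di ≠ 1) (hdj1 : dj ≠ 1) (hμ1 : μ ≠ 1) (hdiμ : di * μ ≠ 1) (hdjμ : dj * μ ≠ 1)
    (hg : (ai * (di⁻¹ * ai * di)⁻¹) * (aj * (dj⁻¹ * aj * dj)⁻¹)⁻¹ * μ =
      μ * ((ai * (di⁻¹ * ai * di)⁻¹) * (aj * (dj⁻¹ * aj * dj)⁻¹)⁻¹)) :
    aj * ai⁻¹ ∈ Subgroup.closure (conjSet' A D) := by
  -- the commutative subgroup `U`
  have hU : ∀ x ∈ Subgroup.closure (conjSet A D), ∀ y ∈ Subgroup.closure (conjSet A D),
      x * y = y * x := by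
    intro x hx y hy
    have := Subgroup.closure_le_centralizer_centralizer (conjSet A D)
    have hS : conjSet A D ⊆ Subgroup.centralizer (conjSet A D) := by
      intro z hz
      rw [SetLike.mem_coe, Subgroup.mem_centralizer_iff]
      intro w hw
      exact conjSet_comm A D hcomm w hw z hz
    have h1 : Subgroup.closure (conjSet A D) ≤ Subgroup.centralizer (conjSet A D) :=
      (Subgroup.closure_le _).mpr hS
    have h2 : Subgroup.closure (conjSet A D) ≤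
        Subgroup.centralizer (Subgroup.closure (conjSet A D) : Set G) := by
      rw [Subgroup.centralizer_closure]
      exact h1
    exact (Subgroup.mem_centralizer_iff.mp (h2 hy) x hx)
  -- the basic elements
  have mem : ∀ {δ y : G}, δ ∈ D → y ∈ A → δ⁻¹ * y * δ ∈ Subgroup.closure (conjSet A D) :=
    fun hδ hy => Subgroup.subset_closure ⟨_, hδ, _, hy, rfl⟩
  have mem' : ∀ {δ y : G}, δ ∈ D → δ ≠ 1 → y ∈ A → δ⁻¹ * y * δ ∈ Subgroup.closure (conjSet' A D) :=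
    fun hδ h1 hy => Subgroup.subset_closure ⟨_, hδ, h1, _, hy, rfl⟩
  have hdiμ' : di * μ ∈ D := D.mul_mem hdi hμ
  have hdjμ' : dj * μ ∈ D := D.mul_mem hdj hμ
  -- names
  set ri := di⁻¹ * ai * di with hri
  set rj := dj⁻¹ * aj * dj with hrj
  set pi' := μ⁻¹ * ai * μ with hpi
  set pj := μ⁻¹ * aj * μ with hpj
  set qi := (di * μ)⁻¹ * ai * (di * μ) with hqi
  set qj := (dj * μ)⁻¹ * aj * (dj * μ) with hqj
  have hai' : ai ∈ Subgroup.closure (conjSet A D) := by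
    have := mem (δ := 1) (y := ai) D.one_mem hai
    simpa using this
  have haj' : aj ∈ Subgroup.closure (conjSet A D) := by
    have := mem (δ := 1) (y := aj) D.one_mem haj
    simpa using this
  have hriU : ri ∈ Subgroup.closure (conjSet A D) := mem hdi hai
  have hrjU : rj ∈ Subgroup.closure (conjSet A D) := mem hdj haj
  have hpiU : pi' ∈ Subgroup.closure (conjSet A D) := mem hμ hai
  have hpjU : pj ∈ Subgroup.closure (conjSet A D) := mem hμ haj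
  have hqiU : qi ∈ Subgroup.closure (conjSet A D) := mem hdiμ' hai
  have hqjU : qj ∈ Subgroup.closure (conjSet A D) := mem hdjμ' haj
  -- conjugating the hypothesis
  have hconj : μ⁻¹ * ((ai * ri⁻¹) * (aj * rj⁻¹)⁻¹) * μ = (pi' * qi⁻¹) * (pj * qj⁻¹)⁻¹ := by
    rw [hri, hrj, hpi, hpj, hqi, hqj]; group
  have hg' : μ⁻¹ * ((ai * ri⁻¹) * (aj * rj⁻¹)⁻¹) * μ = (ai * ri⁻¹) * (aj * rj⁻¹)⁻¹ := by
    rw [mul_assoc, hg]; group
  have hkey : (pi' * qi⁻¹) * (pj * qj⁻¹)⁻¹ = (ai * ri⁻¹) * (aj * rj⁻¹)⁻¹ := by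
    rw [← hconj, hg']
  -- move to the commutative group `U`
  letI : CommGroup (Subgroup.closure (conjSet A D)) :=
    { (inferInstance : Group (Subgroup.closure (conjSet A D))) with
      mul_comm := fun x y => Subtype.ext (hU x x.2 y y.2) }
  have hkeyU : ((⟨pi', hpiU⟩ : Subgroup.closure (conjSet A D)) * ⟨qi, hqiU⟩⁻¹) * (⟨pj, hpjU⟩ * ⟨qj, hqjU⟩⁻¹)⁻¹ =
      (⟨ai, hai'⟩ * ⟨ri, hriU⟩⁻¹) * (⟨aj, haj'⟩ * ⟨rj, hrjU⟩⁻¹)⁻¹ := Subtype.ext hkey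
  have hfin : (⟨aj, haj'⟩ : Subgroup.closure (conjSet A D)) * ⟨ai, hai'⟩⁻¹ =
      (⟨pj, hpjU⟩ * ⟨qj, hqjU⟩⁻¹ * ⟨rj, hrjU⟩) * (⟨pi', hpiU⟩ * ⟨qi, hqiU⟩⁻¹ * ⟨ri, hriU⟩)⁻¹ :=
    comm_aux _ _ _ _ _ _ hkeyU
  have := congrArg Subtype.val hfin
  simp only [Subgroup.coe_mul, Subgroup.coe_inv] at this
  rw [this]
  exact Subgroup.mul_mem _
    (Subgroup.mul_mem _ (Subgroup.mul_mem _ (mem' hμ hμ1 haj) (Subgroup.inv_mem _ (mem' hdjμ' hdjμ haj)))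
      (mem' hdj hdj1 haj))
    (Subgroup.inv_mem _ (Subgroup.mul_mem _ (Subgroup.mul_mem _ (mem' hμ hμ1 hai)
      (Subgroup.inv_mem _ (mem' hdiμ' hdiμ hai))) (mem' hdi hdi1 hai)))

end Cfsg.Agent.Helper4.S5039M
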