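import Mathlib
import Cfsg.Agent.Helper4.S5039Defs
import Cfsg.Agent.Helper4.S5039M
import Cfsg.Agent.Helper25.RootBasic
import Cfsg.Agent.S5013

set_option autoImplicit false

/-! # S5039 piece GLUE: Lemma M for a triangle `(E ⊥ E'; A)` of abstract root subgroups
(departures/helper4_TIMM_S5039_twins.md). -/

namespace Cfsg.Agent.S5039P

open Cfsg Cfsg.Agent.Helper25 Cfsg.Agent.Helper4.S5039M
open scoped commutatorElement

variable {G : Type*} [Group G] {S : Set (Subgroup G)}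

private theorem comm_of_commutator_eq_bot {X Y : Subgroup G} (h : ⁅X, Y⁆ = ⊥) :
    ∀ x ∈ X, ∀ y ∈ Y, x * y = y * x := by
  intro x hx y hy
  have h1 : X ≤ Subgroup.centralizer (Y : Set G) :=
    Subgroup.commutator_eq_bot_iff_le_centralizer.mp h
  exact (Subgroup.mem_centralizer_iff.mp (h1 hx) y hy).symm

private theorem closure_conjSet_comm (A D : Subgroup G)
    (hcomm : ∀ δ ∈ D, ∀ x ∈ A, ∀ y ∈ A, (δ⁻¹ * x * δ) * y = y * (δ⁻¹ * x * δ)) :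
    ∀ x ∈ Subgroup.closure (conjSet A D), ∀ y ∈ Subgroup.closure (conjSet A D), x * y = y * x := by
  intro x hx y hy
  have hS : conjSet A D ⊆ Subgroup.centralizer (conjSet A D) := by
    intro z hz
    rw [SetLike.mem_coe, Subgroup.mem_centralizer_iff]
    intro w hw
    exact conjSet_comm A D hcomm w hw z hz
  have h1 : Subgroup.closure (conjSet A D) ≤ Subgroup.centralizer (conjSet A D) :=
    (Subgroup.closure_le _).mpr hS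
  have h2 : Subgroup.closure (conjSet A D) ≤
      Subgroup.centralizer (Subgroup.closure (conjSet A D) : Set G) := by
    rw [Subgroup.centralizer_closure]
    exact h1
  exact (Subgroup.mem_centralizer_iff.mp (h2 hy) x hx)

/-- GLUE: Lemma M. -/
theorem GLUE (hS : IsRootSubgroupSet S) {E E' A : Subgroup G} (h : IsTriangle S E E' A)
    {ψ : G → G} (hψ : TLData E E' A ψ)
    {e₀ e e' : G} (he₀ : e₀ ∈ E) (he₀1 : e₀ ≠ 1) (he : e ∈ E) (he' : e' ∈ E) (he1 : e ≠ 1)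
    (he'1 : e' ≠ 1) (hee' : e ≠ e') (h1 : e * e₀ ≠ 1) (h2 : e' * e₀ ≠ 1) :
    ∃ a ∈ A, a ≠ 1 ∧
      a ∈ Subgroup.closure {x | ∃ F ∈ S, F ≠ A ∧ ⁅A, F⁆ = ⊥ ∧ x ∈ F} := by
  have hcE : ∀ x ∈ E, ∀ y ∈ E, x * y = y * x := fun x hx y hy => root_comm_of_mem hS h.memA hx hy
  have hcE' : ∀ x ∈ E', ∀ y ∈ E', x * y = y * x := fun x hx y hy => root_comm_of_mem hS h.memC hx hy
  have hcA : ∀ x ∈ A, ∀ y ∈ A, x * y = y * x := fun x hx y hy => root_comm_of_mem hS h.memB hx hy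
  have hEE' : ∀ x ∈ E, ∀ y ∈ E', x * y = y * x := comm_of_commutator_eq_bot h.comm
  have hinf : E ⊓ E' = ⊥ := by
    rcases root_inf_eq_bot_or_eq hS h.memB h.rankAB h.memC with h3 | h3
    · exact h3
    · exact (h.ne h3).elim
  -- `ψ 1 = 1`, `ψ x⁻¹ = (ψ x)⁻¹`
  have hψ1 : ψ 1 = 1 := by
    have := hψ.map_mul 1 E.one_mem 1 E.one_mem
    rw [one_mul] at this
    exact (mul_eq_left.mp this.symm)
  have hψinv : ∀ x ∈ E, ψ x⁻¹ = (ψ x)⁻¹ := by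
    intro x hx
    have := hψ.map_mul x hx x⁻¹ (E.inv_mem hx)
    rw [mul_inv_cancel, hψ1] at this
    exact (eq_inv_of_mul_eq_one_right this.symm)
  -- the map `d` and its multiplicativity
  have hd_mul : ∀ x ∈ E, ∀ y ∈ E, (x * (ψ x)⁻¹) * (y * (ψ y)⁻¹) = (x * y) * (ψ (x * y))⁻¹ := by
    intro x hx y hy
    rw [hψ.map_mul x hx y hy]
    have c1 : (ψ x)⁻¹ * y = y * (ψ x)⁻¹ :=
      (hEE' y hy _ (E'.inv_mem (hψ.map_mem x hx))).symm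
    have c2 : (ψ x)⁻¹ * (ψ y)⁻¹ = (ψ y)⁻¹ * (ψ x)⁻¹ :=
      hcE' _ (E'.inv_mem (hψ.map_mem x hx)) _ (E'.inv_mem (hψ.map_mem y hy))
    calc x * (ψ x)⁻¹ * (y * (ψ y)⁻¹) = x * ((ψ x)⁻¹ * y) * (ψ y)⁻¹ := by group
      _ = x * (y * (ψ x)⁻¹) * (ψ y)⁻¹ := by rw [c1]
      _ = x * y * ((ψ x)⁻¹ * (ψ y)⁻¹) := by group
      _ = x * y * ((ψ y)⁻¹ * (ψ x)⁻¹) := by rw [c2]
      _ = _ := by group
  have hd_ne : ∀ x ∈ E, x ≠ 1 → x * (ψ x)⁻¹ ≠ 1 := by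
    intro x hx hx1 hd
    apply hx1
    have h3 : x = ψ x := by
      have := mul_inv_eq_one.mp hd
      exact this
    have h4 : x ∈ E ⊓ E' := ⟨hx, h3 ▸ hψ.map_mem x hx⟩
    rw [hinf] at h4
    exact h4
  -- the subgroup `D`
  let D : Subgroup G :=
    { carrier := {δ | ∃ x ∈ E, δ = x * (ψ x)⁻¹}
      one_mem' := ⟨1, E.one_mem, by rw [hψ1]; group⟩
      mul_mem' := by
        rintro _ _ ⟨x, hx, rfl⟩ ⟨y, hy, rfl⟩
        exact ⟨x * y, E.mul_mem hx hy, hd_mul x hx y hy⟩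
      inv_mem' := by
        rintro _ ⟨x, hx, rfl⟩
        refine ⟨x⁻¹, E.inv_mem hx, ?_⟩
        rw [hψinv x hx, inv_inv, mul_inv_rev, inv_inv]
        exact (hEE' _ (E.inv_mem hx) _ (hψ.map_mem x hx)).symm }
  have hDmem : ∀ x ∈ E, x * (ψ x)⁻¹ ∈ D := fun x hx => ⟨x, hx, rfl⟩
  -- conjugates of `A` under `D` commute with `A`
  have hperp : ∀ x ∈ E, x ≠ 1 → ∀ y ∈ A, ∀ z ∈ A,
      ((x * (ψ x)⁻¹)⁻¹ * y * (x * (ψ x)⁻¹)) * z = z * ((x * (ψ x)⁻¹)⁻¹ * y * (x * (ψ x)⁻¹)) := by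
    intro x hx hx1 y hy z hz
    have h3 := (hψ.perp x hx hx1).1
    apply comm_of_commutator_eq_bot h3 _ _ z hz
    rw [mem_conjBy_iff]
    simpa [mul_assoc] using hy
  have hcomm : ∀ δ ∈ D, ∀ y ∈ A, ∀ z ∈ A, (δ⁻¹ * y * δ) * z = z * (δ⁻¹ * y * δ) := by
    rintro _ ⟨x, hx, rfl⟩ y hy z hz
    by_cases hx1 : x = 1
    · subst hx1
      rw [hψ1]
      simpa using hcA y hy z hz
    · exact hperp x hx hx1 y hy z hz
  -- partners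
  obtain ⟨α, hα, hα1, hpart⟩ := h.rankAB.cond_left e he he1
  obtain ⟨α', hα', hα'1, hpart'⟩ := h.rankAB.cond_left e' he' he'1
  have hαne : α' * α⁻¹ ≠ 1 := by
    intro h3
    apply hee'
    have h4 : α' = α := mul_inv_eq_one.mp h3
    subst h4
    have huniq := (Cfsg.Agent.S5013.result h.rankAB).2.1 α' hα' hα'1
    exact huniq.unique ⟨he, he1, hpart⟩ ⟨he', he'1, hpart'⟩
  -- the elements `m`
  have hconj := hψ.conj e he he1 α hα hα1 hpart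
  have hconj' := hψ.conj e' he' he'1 α' hα' hα'1 hpart'
  set δe := e * (ψ e)⁻¹ with hδe
  set δe' := e' * (ψ e')⁻¹ with hδe'
  set μ := e₀ * (ψ e₀)⁻¹ with hμ
  set m := α * (δe⁻¹ * α * δe)⁻¹ with hm
  set m' := α' * (δe'⁻¹ * α' * δe')⁻¹ with hm'
  have hmU : m ∈ Subgroup.closure (conjSet A D) := by
    refine Subgroup.mul_mem _ (Subgroup.subset_closure ⟨1, D.one_mem, α, hα, by group⟩)
      (Subgroup.inv_mem _ (Subgroup.subset_closure ⟨δe, hDmem e he, α, hα, rfl⟩))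
  have hm'U : m' ∈ Subgroup.closure (conjSet A D) := by
    refine Subgroup.mul_mem _ (Subgroup.subset_closure ⟨1, D.one_mem, α', hα', by group⟩)
      (Subgroup.inv_mem _ (Subgroup.subset_closure ⟨δe', hDmem e' he', α', hα', rfl⟩))
  have hmm' : m * m' = m' * m := closure_conjSet_comm A D hcomm m hmU m' hm'U
  -- `g = m m'⁻¹` commutes with `μ`
  have hg_e₀ : (m * m'⁻¹) * e₀ = e₀ * (m * m'⁻¹) := by
    have a1 : m⁻¹ * e₀ * m = ψ e₀ := hconj e₀ he₀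
    have a2 : m'⁻¹ * e₀ * m' = ψ e₀ := hconj' e₀ he₀
    have a3 : e₀ * m = m * ψ e₀ := by rw [← a1]; group
    have a4 : e₀ * m' = m' * ψ e₀ := by rw [← a2]; group
    have a5 : m'⁻¹ * e₀ = ψ e₀ * m'⁻¹ := by
      have : m'⁻¹ * (e₀ * m') * m'⁻¹ = m'⁻¹ * (m' * ψ e₀) * m'⁻¹ := by rw [a4]
      have l : m'⁻¹ * (e₀ * m') * m'⁻¹ = m'⁻¹ * e₀ := by group
      have r : m'⁻¹ * (m' * ψ e₀) * m'⁻¹ = ψ e₀ * m'⁻¹ := by group
      rw [l, r] at this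
      exact this
    calc m * m'⁻¹ * e₀ = m * (m'⁻¹ * e₀) := by group
      _ = m * (ψ e₀ * m'⁻¹) := by rw [a5]
      _ = (m * ψ e₀) * m'⁻¹ := by group
      _ = (e₀ * m) * m'⁻¹ := by rw [a3]
      _ = _ := by group
  have hg_ψ : (m * m'⁻¹) * ψ e₀ = ψ e₀ * (m * m'⁻¹) := by
    have a1 : m⁻¹ * e₀ * m = ψ e₀ := hconj e₀ he₀
    have a2 : m'⁻¹ * e₀ * m' = ψ e₀ := hconj' e₀ he₀
    -- `m m'⁻¹ = m'⁻¹ m`
    have a3 : m * m'⁻¹ = m'⁻¹ * m := by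
      have : m'⁻¹ * (m * m') * m'⁻¹ = m'⁻¹ * (m' * m) * m'⁻¹ := by rw [hmm']
      have l : m'⁻¹ * (m * m') * m'⁻¹ = m'⁻¹ * m := by group
      have r : m'⁻¹ * (m' * m) * m'⁻¹ = m * m'⁻¹ := by group
      rw [l, r] at this
      exact this.symm
    rw [a3]
    calc m'⁻¹ * m * ψ e₀ = m'⁻¹ * m * (m⁻¹ * e₀ * m) := by rw [a1]
      _ = (m'⁻¹ * e₀ * m') * (m'⁻¹ * m) := by group
      _ = ψ e₀ * (m'⁻¹ * m) := by rw [a2]
  have hg : (m * m'⁻¹) * μ = μ * (m * m'⁻¹) := by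
    have hg_ψinv : (m * m'⁻¹) * (ψ e₀)⁻¹ = (ψ e₀)⁻¹ * (m * m'⁻¹) := by
      have : (ψ e₀)⁻¹ * ((m * m'⁻¹) * ψ e₀) * (ψ e₀)⁻¹ = (ψ e₀)⁻¹ * (ψ e₀ * (m * m'⁻¹)) * (ψ e₀)⁻¹ := by
        rw [hg_ψ]
      have l : (ψ e₀)⁻¹ * ((m * m'⁻¹) * ψ e₀) * (ψ e₀)⁻¹ = (ψ e₀)⁻¹ * (m * m'⁻¹) := by group
      have r : (ψ e₀)⁻¹ * (ψ e₀ * (m * m'⁻¹)) * (ψ e₀)⁻¹ = (m * m'⁻¹) * (ψ e₀)⁻¹ := by group
      rw [l, r] at this
      exact this.symm
    calc m * m'⁻¹ * μ = (m * m'⁻¹ * e₀) * (ψ e₀)⁻¹ := by rw [hμ]; group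
      _ = (e₀ * (m * m'⁻¹)) * (ψ e₀)⁻¹ := by rw [hg_e₀]
      _ = e₀ * ((m * m'⁻¹) * (ψ e₀)⁻¹) := by group
      _ = e₀ * ((ψ e₀)⁻¹ * (m * m'⁻¹)) := by rw [hg_ψinv]
      _ = _ := by rw [hμ]; group
  -- Lemma M
  have hM := lemmaM A D hcomm hα hα' (hDmem e he) (hDmem e' he') (hDmem e₀ he₀)
    (hd_ne e he he1) (hd_ne e' he' he'1) (hd_ne e₀ he₀ he₀1)
    (by rw [hd_mul e he e₀ he₀]; exact hd_ne _ (E.mul_mem he he₀) h1)
    (by rw [hd_mul e' he' e₀ he₀]; exact hd_ne _ (E.mul_mem he' he₀) h2) hg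
  refine ⟨α' * α⁻¹, A.mul_mem hα' (A.inv_mem hα), hαne, ?_⟩
  refine (Subgroup.closure_mono ?_) hM
  rintro _ ⟨δ, ⟨x, hx, rfl⟩, hδ1, y, hy, rfl⟩
  have hx1 : x ≠ 1 := by
    intro hx1
    apply hδ1
    rw [hx1, hψ1]; group
  obtain ⟨p1, p2⟩ := hψ.perp x hx hx1
  refine ⟨conjBy A (x * (ψ x)⁻¹)⁻¹, hS.conj_mem A h.memB _, p2, ?_, ?_⟩
  · rw [Subgroup.commutator_comm]; exact p1
  · rw [mem_conjBy_iff]
    simpa [mul_assoc] using hy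

end Cfsg.Agent.S5039P
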