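import Mathlib
import Cfsg.Prelude.Def_RootSubgroups
import Cfsg.Agent.Helper25.RootComm5
import Cfsg.Agent.Helper29.RootOrder

set_option autoImplicit false

/-! # S5039 piece PATH (departures/helper4_TIMM_S5039_twins.md, Corollary step (i)).

In a degenerate class with a rank one pair `(A, B)` and a member `C₀ ≠ A` commuting with `A`, there
are `C` commuting with `A` (`C ≠ A`) and `E` forming rank one pairs with both `A` and `C`. -/

namespace Cfsg.Agent.S5039P

open Cfsg Cfsg.Agent.Helper25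

variable {G : Type*} [Group G] {S : Set (Subgroup G)}

theorem PATH (hS : IsRootSubgroupClass S) (hdeg : IsDegenerateRootSet S)
    {A B : Subgroup G} (hA : A ∈ S) (hB : B ∈ S) (hAB : IsRankOnePair A B)
    (hSig : ∃ C₀ ∈ S, C₀ ≠ A ∧ ⁅A, C₀⁆ = ⊥) :
    ∃ C ∈ S, ∃ E ∈ S, C ≠ A ∧ ⁅A, C⁆ = ⊥ ∧ IsRankOnePair A E ∧ IsRankOnePair C E := by
  obtain ⟨C₀, hC₀, hC₀A, hC₀c⟩ := hSig
  have hnc : ∀ F : Subgroup G, IsRankOnePair A F → ⁅A, F⁆ = ⊥ → False := by
    intro F hF hc
    apply Cfsg.Agent.Helper29.RootOrder.rankOne_not_commute hF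
    intro x hx y hy
    have h1 : A ≤ Subgroup.centralizer (F : Set G) :=
      Subgroup.commutator_eq_bot_iff_le_centralizer.mp hc
    exact (Subgroup.mem_centralizer_iff.mp (h1 hx) y hy).symm
  have hconn : IsConnectedFamily (FAdj S) S := by
    rw [root_connected_iff hS.1 ⟨A, hA, B, hB, hAB.ne⟩]
    refine ⟨hS.2, A, hA, ?_⟩
    intro hiso
    exact (hiso.2 B).1 ⟨hA, hB, hAB⟩
  have hpath := hconn A hA C₀ hC₀
  -- invariant along the path
  have key : ∀ F : Subgroup G, Relation.ReflTransGen (FAdj S) A F →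
      (∃ C ∈ S, ∃ E ∈ S, C ≠ A ∧ ⁅A, C⁆ = ⊥ ∧ IsRankOnePair A E ∧ IsRankOnePair C E) ∨
        (F = A ∨ IsRankOnePair A F) := by
    intro F hF
    induction hF with
    | refl => exact Or.inr (Or.inl rfl)
    | @tail Fi Fj _ hstep ih =>
      rcases ih with hfound | hP
      · exact Or.inl hfound
      · obtain ⟨hFi, hFj, hij⟩ := hstep
        rcases hS.1.pair A hA Fj hFj with hc | hr | hcc
        · by_cases hFjA : Fj = A
          · exact Or.inr (Or.inl hFjA)
          · rcases hP with hFiA | hFiΩ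
            · exfalso
              rw [hFiA] at hij
              exact hnc Fj hij hc
            · exact Or.inl ⟨Fj, hFj, Fi, hFi, hFjA, hc, hFiΩ, RankOnePair_symm hij⟩
        · exact Or.inr (Or.inr hr)
        · exact (hdeg A hA Fj hFj hcc).elim
  rcases key C₀ hpath with hfound | hP
  · exact hfound
  · exfalso
    rcases hP with h1 | h1
    · exact hC₀A h1
    · exact hnc C₀ h1 hC₀c

end Cfsg.Agent.S5039P
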