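import Mathlib
import Cfsg.Agent.Helper4.S5039Defs
import Cfsg.Agent.Helper29.Triangle

set_option autoImplicit false

/-! # S5039 piece TL: adapter from helper29's triangle lemma (`Cfsg.Agent.Helper29.Triangle`) to the
interface `TLData` of `Cfsg.Agent.Helper4.S5039Defs`. -/

namespace Cfsg.Agent.S5039P

open Cfsg
open scoped commutatorElement

variable {G : Type*} [Group G] {S : Set (Subgroup G)} {A C B : Subgroup G}

theorem IsTriangle.toHT (h : IsTriangle S A C B) : Cfsg.Agent.Helper29.Triangle.IsTriangle S A C B := by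
  refine ⟨h.memA, h.memC, h.memB, h.ne, ?_, h.rankAB, h.rankCB⟩
  intro x hx y hy
  have h1 : A ≤ Subgroup.centralizer (C : Set G) :=
    Subgroup.commutator_eq_bot_iff_le_centralizer.mp h.comm
  exact (Subgroup.mem_centralizer_iff.mp (h1 hx) y hy).symm

theorem TL_special (hS : IsRootSubgroupSet S) (h : IsTriangle S A C B) : IsSpecialRankOnePair A B :=
  Cfsg.Agent.Helper29.Triangle.special_left hS h.toHT

open Classical in
/-- `ψ` as a function on `G` (`1` outside `A#`). -/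
noncomputable def psiFun (A C B : Subgroup G) (x : G) : G :=
  if h : ∃ c, Cfsg.Agent.Helper29.Triangle.Psi A C B x c then h.choose else 1

theorem psiFun_spec (h : IsTriangle S A C B) {x : G} (hx : x ∈ A) (hx1 : x ≠ 1) :
    Cfsg.Agent.Helper29.Triangle.Psi A C B x (psiFun A C B x) := by
  have hex := Cfsg.Agent.Helper29.Triangle.psi_exists h.toHT hx hx1
  unfold psiFun
  rw [dif_pos hex]
  exact hex.choose_spec

theorem psiFun_one : psiFun A C B (1 : G) = 1 := by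
  unfold psiFun
  rw [dif_neg]
  rintro ⟨c, β, hab, -⟩
  exact hab.2.1 rfl

theorem TL_data (hS : IsRootSubgroupSet S) (h : IsTriangle S A C B) :
    ∃ ψ : G → G, TLData A C B ψ := by
  have T := h.toHT
  refine ⟨psiFun A C B, ?_⟩
  -- base data
  obtain ⟨a₀, ha₀, ha₀1⟩ := Cfsg.Agent.Helper25.rankOne_exists_ne_one h.rankAB
  obtain ⟨β₀, hab₀, hcb₀⟩ := psiFun_spec h ha₀ ha₀1
  have hall : ∀ x ∈ A, psiFun A C B x =
      (β₀ * ((a₀ * (psiFun A C B a₀)⁻¹)⁻¹ * β₀ * (a₀ * (psiFun A C B a₀)⁻¹))⁻¹)⁻¹ * x *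
        (β₀ * ((a₀ * (psiFun A C B a₀)⁻¹)⁻¹ * β₀ * (a₀ * (psiFun A C B a₀)⁻¹))⁻¹) := by
    intro x hx
    by_cases hx1 : x = 1
    · rw [hx1, psiFun_one]; group
    · exact Cfsg.Agent.Helper29.Triangle.psi_unique T (psiFun_spec h hx hx1)
        (Cfsg.Agent.Helper29.Triangle.TL3_psi hS T hab₀ hcb₀ hx hx1)
  refine ⟨?_, ?_, ?_, ?_, ?_⟩
  · intro x hx
    rw [hall x hx]
    exact Cfsg.Agent.Helper29.Triangle.TL3_mem hS T hab₀ hcb₀ hx
  · intro x hx y hy
    rw [hall x hx, hall y hy, hall (x * y) (A.mul_mem hx hy)]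
    group
  · intro x hx hx1 h1
    apply hx1
    rw [hall x hx] at h1
    have := congrArg (fun z => (β₀ * ((a₀ * (psiFun A C B a₀)⁻¹)⁻¹ * β₀ * (a₀ * (psiFun A C B a₀)⁻¹))⁻¹) * z *
      (β₀ * ((a₀ * (psiFun A C B a₀)⁻¹)⁻¹ * β₀ * (a₀ * (psiFun A C B a₀)⁻¹))⁻¹)⁻¹) h1
    simpa [mul_assoc] using this
  · intro a ha ha1
    obtain ⟨β, hab, hcb⟩ := psiFun_spec h ha ha1
    refine ⟨?_, Cfsg.Agent.Helper29.Triangle.TL2_ne hS T hab hcb⟩
    rw [Subgroup.commutator_eq_bot_iff_le_centralizer]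
    intro u hu
    rw [Subgroup.mem_centralizer_iff]
    intro v hv
    exact (Cfsg.Agent.Helper29.Triangle.TL2_comm hS T hab hcb u hu v hv).symm
  · intro a ha ha1 β hβ hβ1 hpart x hx
    have hab : Cfsg.Agent.Helper29.Triangle.Partner A B a β := ⟨ha, ha1, hβ, hβ1, hpart⟩
    obtain ⟨β', hab', hcb'⟩ := psiFun_spec h ha ha1
    have hββ' : β = β' := Cfsg.Agent.Helper29.Triangle.partner_unique_right h.rankAB hab hab'
    rw [← hββ'] at hcb'
    by_cases hx1 : x = 1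
    · rw [hx1, psiFun_one]; group
    · exact Cfsg.Agent.Helper29.Triangle.psi_unique T
        (Cfsg.Agent.Helper29.Triangle.TL3_psi hS T hab hcb' hx hx1) (psiFun_spec h hx hx1)

end Cfsg.Agent.S5039P
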