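import Mathlib
import Cfsg.Agent.Helper4.S5039Defs
import Cfsg.Agent.Helper4.S5039GLUE
import Cfsg.Agent.Helper4.S5039PATH
import Cfsg.Agent.Helper19.S5033NC
import Cfsg.Agent.Helper25.RootComm2
import Cfsg.Agent.Helper4.S5039TL

set_option autoImplicit false

/-! # S5039 piece NOTWIN: in a degenerate class whose members have at least four elements every rank
one pair `(A, B)` lies under a triangle `(A ⊥ C; B)` (departures/helper4_TIMM_S5039_twins.md). -/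

namespace Cfsg.Agent.S5039P

open Cfsg Cfsg.Agent.Helper25
open scoped commutatorElement

variable {G : Type*} [Group G] {S : Set (Subgroup G)}

private theorem comm_of_bot {X Y : Subgroup G} (h : ⁅X, Y⁆ = ⊥) :
    ∀ x ∈ X, ∀ y ∈ Y, x * y = y * x := by
  intro x hx y hy
  have h1 : X ≤ Subgroup.centralizer (Y : Set G) :=
    Subgroup.commutator_eq_bot_iff_le_centralizer.mp h
  exact (Subgroup.mem_centralizer_iff.mp (h1 hx) y hy).symm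

theorem NOTWIN (hS : IsRootSubgroupClass S) (hdeg : IsDegenerateRootSet S)
    (hpick : ∀ E ∈ S, ∀ e₀ ∈ E, ∃ e e' : G, e ∈ E ∧ e' ∈ E ∧ e ≠ 1 ∧ e' ≠ 1 ∧ e ≠ e' ∧
      e * e₀ ≠ 1 ∧ e' * e₀ ≠ 1)
    {A B : Subgroup G} (hA : A ∈ S) (hB : B ∈ S) (hAB : IsRankOnePair A B)
    (hSig : ∃ C₀ ∈ S, C₀ ≠ A ∧ ⁅A, C₀⁆ = ⊥) :
    ∃ C ∈ S, C ≠ A ∧ ⁅A, C⁆ = ⊥ ∧ IsRankOnePair C B := by
  by_contra hno
  push Not at hno
  -- every member commuting with `A` commutes with `B`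
  have hcB : ∀ F ∈ S, F ≠ A → ⁅A, F⁆ = ⊥ → ⁅F, B⁆ = ⊥ := by
    intro F hF hFA hFc
    rcases hS.1.pair F hF B hB with h1 | h1 | h1
    · exact h1
    · exact (hno F hF hFA hFc h1).elim
    · exact (hdeg F hF B hB h1).elim
  obtain ⟨C, hC, E, hE, hCA, hCc, hAE, hCE⟩ := PATH hS hdeg hA hB hAB hSig
  -- first triangle `(A ⊥ C; E)`
  have T1 : IsTriangle S A C E := ⟨hA, hC, hE, fun h => hCA h.symm, hCc, hAE, hCE⟩
  obtain ⟨ψ, hψ⟩ := TL_data hS.1 T1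
  obtain ⟨a, ha, ha1⟩ := root_exists_ne_one hS.1 hA
  obtain ⟨p1, p2⟩ := hψ.perp a ha ha1
  -- `δ⁻¹` normalises `A`
  have hnorm : conjBy A (a * (ψ a)⁻¹)⁻¹ = A := by
    have e1 : (a * (ψ a)⁻¹)⁻¹ = ψ a * a⁻¹ := by group
    rw [e1, ← conjBy_conjBy, conjBy_eq_self_of_mem (A.inv_mem ha)]
    apply conjBy_eq_self_of_commute
    intro x hx
    exact (comm_of_bot hCc x hx _ (hψ.map_mem a ha)).symm
  -- second triangle `(E ⊥ E'; A)`
  have T2 : IsTriangle S E (conjBy E (a * (ψ a)⁻¹)⁻¹) A := by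
    refine ⟨hE, hS.1.conj_mem E hE _, hA, fun h => p2 h.symm, ?_, RankOnePair_symm hAE, ?_⟩
    · rw [Subgroup.commutator_comm]; exact p1
    · have := rankOnePair_conjBy (RankOnePair_symm hAE) (a * (ψ a)⁻¹)⁻¹
      rwa [hnorm] at this
  obtain ⟨ψ₂, hψ₂⟩ := TL_data hS.1 T2
  obtain ⟨e₀, he₀, he₀1⟩ := root_exists_ne_one hS.1 hE
  obtain ⟨e, e', he, he', he1, he'1, hee', h1, h2⟩ := hpick E hE e₀ he₀
  obtain ⟨a₁, ha₁, ha₁1, hcl⟩ := GLUE hS.1 T2 hψ₂ he₀ he₀1 he he' he1 he'1 hee' h1 h2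
  -- `a₁` centralises `B`
  have hle : Subgroup.closure {x | ∃ F ∈ S, F ≠ A ∧ ⁅A, F⁆ = ⊥ ∧ x ∈ F} ≤
      Subgroup.centralizer (B : Set G) := by
    rw [Subgroup.closure_le]
    rintro x ⟨F, hF, hFA, hFc, hxF⟩
    exact (Subgroup.commutator_eq_bot_iff_le_centralizer.mp (hcB F hF hFA hFc)) hxF
  obtain ⟨b, hb, hb1⟩ := root_exists_ne_one hS.1 hB
  have hcomm := Subgroup.mem_centralizer_iff.mp (hle hcl) b hb
  exact Cfsg.Agent.S5033P.NC.not_commute hS.1 hA hB hAB ha₁ ha₁1 hb hb1 hcomm.symm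

end Cfsg.Agent.S5039P
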