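import Cfsg.Agent.Helper22.S5981GRAM
import Cfsg.Agent.Helper8.S5981CONJQ
import Cfsg.Agent.Helper8.S5981SIMPOWM
import Cfsg.Agent.Helper22.S5981EVENRANK
import Cfsg.Agent.Helper22.S5981TRANSV
import Cfsg.Agent.Helper4.S5981ODIAGDER
import Cfsg.Agent.Helper22.S5981SEMIREG
import Cfsg.Agent.Helper21.S5981BASISFORM
import Cfsg.Agent.Helper21.S5981POSDIAG
import Cfsg.Agent.Helper21.S5981TWONONSQ
import Cfsg.Agent.Helper21.S5981POS
import Cfsg.Agent.Helper22.S5981INVFIX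
import Cfsg.Agent.Helper22.S5981IDX
import Cfsg.Agent.Helper21.S5981STDODD
import Cfsg.Agent.Helper4.S5981STDEVEN
import Cfsg.Agent.Helper21.S5981TRANSPORT
import Cfsg.Agent.Helper22.S5981SING
import Cfsg.Agent.Helper20.S5981NT
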