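import Mathlib
import Cfsg.Prelude.Def_GeometricClasses
import Cfsg.Prelude.Def_Classical
import Cfsg.Prelude.Def_LieClassical
import Cfsg.Agent.Helper3.S5949NTS
import Cfsg.Agent.Helper26.S5958NTGL
import Cfsg.Agent.Helper21.S5958MODEL2
import Cfsg.Agent.Helper20.S5965E23
import Cfsg.Agent.Helper24.S5965SYM
import Cfsg.Agent.Helper24.S5965DETKUM
import Cfsg.Agent.Helper15.S5965DIAG
import Cfsg.Agent.Helper6.S5965CENTDET
import Cfsg.Agent.Helper29.S5965ASMD
import Cfsg.Agent.Helper15.S5982GL2SL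
import Cfsg.Agent.Helper24.S5982DETDIAG
import Cfsg.Agent.Helper24.S5982SUMZERO
import Cfsg.Agent.Helper26.S5982PAIRINV
import Cfsg.Agent.Helper8.S5982NTROOT
import Cfsg.Agent.Helper7.S5982KUMEX
import Cfsg.Agent.Helper2.QuadPlus
import Cfsg.Agent.Helper2.QuadMinus
import Cfsg.Agent.Helper2.QuadOdd
import Cfsg.Agent.Helper4.S5981All

set_option autoImplicit false
open scoped MatrixGroups Matrix

/-! S5981: the assembly of the pieces (both directions). -/

namespace Cfsg.Agent.S5981P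

open Cfsg.Agent.S5949P Cfsg.Agent.S5958P Cfsg.Agent.S5965P

namespace ASM

/-- `x` is a similitude of no non-degenerate symmetric matrix -/
def NoForm {F : Type*} [Field F] {n : ℕ} (x : Matrix (Fin n) (Fin n) F) : Prop :=
  ∀ (G : Matrix (Fin n) (Fin n) F) (c : F), Gᵀ = G → G.det ≠ 0 → xᵀ * G * x = c • G → False

/-- there is a derangement -/
def HasDer {F : Type*} [Field F] {n : ℕ} (Q : (Fin n → F) → F) (r : ℕ) : Prop :=
  ∃ x : GL (Fin n) F, x ∈ Cfsg.Geo.specialLinear (Fin n) F ∧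
    (∃ z : F, ((x ^ r : GL (Fin n) F) : Matrix (Fin n) (Fin n) F) =
      z • (1 : Matrix (Fin n) (Fin n) F)) ∧
    (∀ z : F, (x : Matrix (Fin n) (Fin n) F) ≠ z • (1 : Matrix (Fin n) (Fin n) F)) ∧
    ∀ g : GL (Fin n) F, g⁻¹ * x * g ∉ Cfsg.Geo.quadSimilarityGroup Q

section

variable {F : Type*} [Field F]

theorem hasDer_of_noForm {n : ℕ} (Q : (Fin n → F) → F)
    (hQ : Cfsg.Geo.IsNondegenerateQuadraticForm Q) (r : ℕ) (x : GL (Fin n) F)
    (hx : x ∈ Cfsg.Geo.specialLinear (Fin n) F)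
    (hxr : ∃ z : F, ((x ^ r : GL (Fin n) F) : Matrix (Fin n) (Fin n) F) =
      z • (1 : Matrix (Fin n) (Fin n) F))
    (hns : ∀ z : F, (x : Matrix (Fin n) (Fin n) F) ≠ z • (1 : Matrix (Fin n) (Fin n) F))
    (hno : NoForm (x : Matrix (Fin n) (Fin n) F)) : HasDer Q r := by
  refine ⟨x, hx, hxr, hns, ?_⟩
  intro g hg
  obtain ⟨Q', hQ', ⟨c, hc⟩⟩ := quad_of_conj_mem Q hQ g x hg
  obtain ⟨G, hGs, hGd, -, hGx⟩ := exists_gram Q' hQ'
  exact hno G c hGs hGd (hGx _ _ hc)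

theorem two_ne_zero_of_odd [Fintype F] {p : ℕ} [Fact p.Prime] [CharP F p]
    (hodd : Odd (Fintype.card F)) : p ≠ 2 ∧ (2 : F) ≠ 0 := by
  have hp : p.Prime := Fact.out
  have hp2 : p ≠ 2 := by
    rintro rfl
    obtain ⟨k, -, hk⟩ := FiniteField.card F 2
    rw [hk] at hodd
    have : Even (2 ^ (k : ℕ)) := (Nat.even_pow.2 ⟨even_two, k.ne_zero⟩)
    exact (Nat.not_even_iff_odd.2 hodd) this
  refine ⟨hp2, ?_⟩
  intro h0
  have h1 : ((2 : ℕ) : F) = 0 := by exact_mod_cast h0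
  have hdvd : p ∣ 2 := (CharP.cast_eq_zero_iff F p 2).1 h1
  exact hp2 ((Nat.prime_dvd_prime_iff_eq hp Nat.prime_two).1 hdvd)

/-- a factor of order dividing `r` is trivial when `r ∤ q - 1` -/
theorem factor_eq_one [Fintype F] (r : ℕ) [Fact r.Prime] (hnd : ¬ r ∣ Fintype.card F - 1) (c : F)
    (hcr : c ^ r = 1) : c = 1 := by
  have hr : r.Prime := Fact.out
  have hc0 : c ≠ 0 := by
    rintro rfl
    rw [zero_pow hr.ne_zero] at hcr
    exact zero_ne_one hcr
  have h1 : c ^ (Fintype.card F - 1) = 1 := FiniteField.pow_card_sub_one_eq_one c hc0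
  have h3 := pow_gcd_eq_one.2 ⟨hcr, h1⟩
  have h4 : Nat.gcd r (Fintype.card F - 1) = 1 := (Nat.Prime.coprime_iff_not_dvd hr).2 hnd
  rw [h4, pow_one] at h3
  exact h3

theorem not_dvd_card_of_ne [Fintype F] {p : ℕ} [Fact p.Prime] [CharP F p] (r : ℕ) [Fact r.Prime]
    (hrp : r ≠ p) : ¬ r ∣ Fintype.card F := by
  have hr : r.Prime := Fact.out
  have hp : p.Prime := Fact.out
  intro hd
  obtain ⟨k, -, hk⟩ := FiniteField.card F p
  rw [hk] at hd
  exact hrp ((Nat.prime_dvd_prime_iff_eq hr hp).mp (hr.dvd_of_dvd_pow hd))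

theorem cast_ne_zero_of_ne {p : ℕ} [Fact p.Prime] [CharP F p] (r : ℕ) [Fact r.Prime]
    (hrp : r ≠ p) : (r : F) ≠ 0 := by
  have hr : r.Prime := Fact.out
  have hp : p.Prime := Fact.out
  intro h0
  have hdvd : p ∣ r := (CharP.cast_eq_zero_iff F p r).1 h0
  exact hrp ((Nat.prime_dvd_prime_iff_eq hp hr).1 hdvd).symm

/-- the transvection -/
theorem der_transv {p : ℕ} [Fact p.Prime] [CharP F p] (hp2 : p ≠ 2) (n : ℕ) (hn : 2 ≤ n)
    (Q : (Fin n → F) → F) (hQ : Cfsg.Geo.IsNondegenerateQuadraticForm Q) : HasDer Q p := by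
  obtain ⟨x, hx, hxp, hns, hno⟩ := transvection_noform (F := F) (p := p) hp2 n hn
  exact hasDer_of_noForm Q hQ p x hx ⟨1, by rw [hxp, one_smul]⟩ hns hno

/-- Kummer-type derangements -/
theorem der_kummer [Fintype F] (n : ℕ) (hn : 1 ≤ n) (Q : (Fin n → F) → F)
    (hQ : Cfsg.Geo.IsNondegenerateQuadraticForm Q) (r : ℕ) [Fact r.Prime] (hr2 : r ≠ 2)
    (hr : r ∣ Fintype.card F - 1)
    (hv : padicValNat r (Fintype.card F - 1) < padicValNat r n) : HasDer Q r := by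
  have hrpr : r.Prime := Fact.out
  obtain ⟨x, z, hx, hz, hxz⟩ :=
    Cfsg.Agent.S5982P.exists_kummer (F := F) r n hn hr (fun h => absurd h hr2) hv
  refine hasDer_of_noForm Q hQ r x hx ⟨z, hxz⟩ ?_ ?_
  · intro d hd
    rw [Units.val_pow_eq_pow_val, hd, smul_pow, one_pow] at hxz
    have h1 := congrFun (congrFun hxz ⟨0, by omega⟩) ⟨0, by omega⟩
    simp only [Matrix.smul_apply, Matrix.one_apply_eq, smul_eq_mul, mul_one] at h1
    exact hz d h1
  · intro G c _ hGd hc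
    rw [Units.val_pow_eq_pow_val] at hxz
    have hcr := factor_pow hn G _ c hGd hc r z hxz
    -- `z` is an `r`-th power
    have hz0 : z ≠ 0 := by
      rintro rfl
      exact hz 0 (zero_pow hrpr.ne_zero)
    obtain ⟨k, hk⟩ := hrpr.odd_of_ne_two hr2
    apply hz (c ^ (k + 1) * z⁻¹)
    rw [mul_pow, ← pow_mul, mul_comm (k + 1) r, pow_mul, hcr, ← pow_mul, inv_pow]
    have h2 : 2 * (k + 1) = r + 1 := by omega
    rw [h2, pow_succ]
    field_simp

theorem neg_one_ne_one (r : ℕ) [Fact r.Prime] (hr2 : r ≠ 2) : (-1 : ZMod r) ≠ 1 := by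
  intro h
  have h2 : (2 : ZMod r) = 0 := by
    have : (1 : ZMod r) + 1 = 0 := by
      nth_rewrite 1 [← h]
      ring
    rw [← this]; ring
  have h3 : ((2 : ℕ) : ZMod r) = 0 := by exact_mod_cast h2
  rw [ZMod.natCast_eq_zero_iff] at h3
  exact hr2 ((Nat.prime_dvd_prime_iff_eq (Fact.out : r.Prime) Nat.prime_two).1 h3)

/-- the diagonal derangement `μ * diag(ξ, 1, …, 1)` -/
theorem der_D1 [Fintype F] (n : ℕ) (hn : 3 ≤ n) (Q : (Fin n → F) → F)
    (hQ : Cfsg.Geo.IsNondegenerateQuadraticForm Q) (r : ℕ) [Fact r.Prime]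
    (hr2 : r ≠ 2) (hrq : r ∣ Fintype.card F - 1)
    (hv : padicValNat r n < padicValNat r (Fintype.card F - 1)) : HasDer Q r := by
  have hr : r.Prime := Fact.out
  have : Fact (1 < r) := ⟨hr.one_lt⟩
  obtain ⟨ξ, hξ⟩ := ASMD.exists_orderOf_eq (F := F) r hrq
  obtain ⟨μ, hμ⟩ := Cfsg.Agent.S5982P.exists_mu (F := F) r n (by omega) hv ξ hξ
  obtain ⟨eN, heN⟩ : ∃ eN : ℕ → ZMod r, eN = fun i => if i = 0 then 1 else 0 := ⟨_, rfl⟩
  have h0 : eN 0 = 1 := by rw [heN]; simp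
  have h1 : ∀ i, 1 ≤ i → eN i = 0 := by
    intro i hi
    rw [heN]
    have : i ≠ 0 := by omega
    simp [*]
  have hsum : ∑ j : Fin n, eN (j : ℕ) = 1 := by
    rw [ASMD.sum_fin_eq n 1 (by omega) eN h1, Finset.sum_range_one, h0]
  obtain ⟨x, hx, hxr, hns, hno⟩ := odiag_derangement (F := F) n (by omega) r hr2 ξ hξ μ
    (fun j => eN (j : ℕ))
    (by rw [ASMD.pow_sum_val r ξ hξ, hsum, ZMod.val_one, pow_one, hμ])
    ⟨⟨0, by omega⟩, ⟨1, by omega⟩, by
      change eN 0 ≠ eN 1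
      rw [h0, h1 1 le_rfl]; exact one_ne_zero⟩
    (star_E2 r hr2 n hn (-1) (neg_ne_zero.2 one_ne_zero) (neg_one_ne_one r hr2)
      (fun j => eN (j : ℕ)) h0 (fun j hj => h1 _ hj))
  exact hasDer_of_noForm Q hQ r x hx hxr hns hno

/-- the diagonal derangement `diag(ξ, ξ, ξ⁻², 1, …, 1)` -/
theorem der_D3 [Fintype F] (n : ℕ) (hn : 6 ≤ n) (Q : (Fin n → F) → F)
    (hQ : Cfsg.Geo.IsNondegenerateQuadraticForm Q) (r : ℕ) [Fact r.Prime]
    (hr2 : r ≠ 2) (hn3 : r = 3 → 7 ≤ n) (hrq : r ∣ Fintype.card F - 1) : HasDer Q r := by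
  have hr : r.Prime := Fact.out
  have : Fact (1 < r) := ⟨hr.one_lt⟩
  obtain ⟨ξ, hξ⟩ := ASMD.exists_orderOf_eq (F := F) r hrq
  obtain ⟨eN, heN⟩ : ∃ eN : ℕ → ZMod r,
      eN = fun i => if i = 0 then 1 else if i = 1 then 1 else if i = 2 then -2 else 0 := ⟨_, rfl⟩
  have h0 : eN 0 = 1 := by rw [heN]; simp
  have h1 : eN 1 = 1 := by rw [heN]; simp
  have h2 : eN 2 = -2 := by rw [heN]; simp
  have h3 : ∀ i, 3 ≤ i → eN i = 0 := by
    intro i hi
    rw [heN]
    have : i ≠ 0 := by omega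
    have : i ≠ 1 := by omega
    have : i ≠ 2 := by omega
    simp [*]
  have hsum : ∑ j : Fin n, eN (j : ℕ) = 0 := by
    rw [ASMD.sum_fin_eq n 3 (by omega) eN h3, Finset.sum_range_succ, Finset.sum_range_succ,
      Finset.sum_range_one, h0, h1, h2]
    ring
  obtain ⟨x, hx, hxr, hns, hno⟩ := odiag_derangement (F := F) n (by omega) r hr2 ξ hξ 1
    (fun j => eN (j : ℕ))
    (by rw [one_pow, one_mul, ASMD.pow_sum_val r ξ hξ, hsum, ZMod.val_zero, pow_zero])
    ⟨⟨0, by omega⟩, ⟨3, by omega⟩, by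
      change eN 0 ≠ eN 3
      rw [h0, h3 3 le_rfl]; exact one_ne_zero⟩
    (star_E3 r hr2 n hn hn3 (fun j => eN (j : ℕ)) h0 h1 h2 (fun j hj => h3 _ hj))
  exact hasDer_of_noForm Q hQ r x hx hxr hns hno

/-- conversion of the model element -/
theorem model_toGL [Fintype F] (n : ℕ) (xs : Matrix.SpecialLinearGroup (Fin n) F) :
    ∃ x : GL (Fin n) F, (x : Matrix (Fin n) (Fin n) F) = (xs : Matrix (Fin n) (Fin n) F) ∧
      x ∈ Cfsg.Geo.specialLinear (Fin n) F := by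
  refine ⟨Matrix.SpecialLinearGroup.toGL xs, rfl, ?_⟩
  show Matrix.GeneralLinearGroup.det (Matrix.SpecialLinearGroup.toGL xs) = 1
  apply Units.ext
  rw [Matrix.GeneralLinearGroup.val_det_apply]
  exact xs.2

/-- `i = ord_r(q)` odd: the element with a single block -/
theorem der_blockodd [Fintype F] {p : ℕ} [Fact p.Prime] [CharP F p] (h2 : (2 : F) ≠ 0) (n : ℕ)
    (hn : 1 ≤ n) (Q : (Fin n → F) → F) (hQ : Cfsg.Geo.IsNondegenerateQuadraticForm Q)
    (r : ℕ) [Fact r.Prime] (hr2 : r ≠ 2) (hrp : r ≠ p)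
    (hi2 : 2 ≤ orderOf ((Fintype.card F : ℕ) : ZMod r))
    (hin : orderOf ((Fintype.card F : ℕ) : ZMod r) ≤ n)
    (hiodd : Odd (orderOf ((Fintype.card F : ℕ) : ZMod r))) : HasDer Q r := by
  classical
  have hr : r.Prime := Fact.out
  obtain ⟨i, hi⟩ : ∃ i : ℕ, i = orderOf ((Fintype.card F : ℕ) : ZMod r) := ⟨_, rfl⟩
  rw [← hi] at hi2 hin hiodd
  have hnV : Module.finrank F (Fin n → F) = n := Module.finrank_fin_fun F
  have hnd : ¬ r ∣ Fintype.card F - 1 := by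
    intro h
    have := (orderOf_card_eq_one_iff (F := F) r).mpr h
    omega
  obtain ⟨xs, g, -, -, -, hx1, hxns, hker, -⟩ :=
    model_single (p := p) r hrp n 1 (hi ▸ hi2) le_rfl (by rw [mul_one, ← hi]; exact hin)
  rw [mul_one, ← hi] at hker
  obtain ⟨x, hxcoe, hx⟩ := model_toGL n xs
  have hxr1 : (x : Matrix (Fin n) (Fin n) F) ^ r = 1 := by rw [hxcoe]; exact hx1
  have hxr : ((x ^ r : GL (Fin n) F) : Matrix (Fin n) (Fin n) F) =
      (1 : F) • (1 : Matrix (Fin n) (Fin n) F) := by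
    rw [Units.val_pow_eq_pow_val, hxr1, one_smul]
  refine hasDer_of_noForm Q hQ r x hx ⟨1, hxr⟩ (by rw [hxcoe]; exact hxns) ?_
  intro G c hGs hGd hc
  have hcr := factor_pow hn G _ c hGd hc r 1 (by rw [hxr1, one_smul])
  rw [one_pow] at hcr
  have hc1 : c = 1 := factor_eq_one r hnd c hcr
  rw [hc1, one_smul] at hc
  have hev := even_rank_of_isometry h2 G _ hGs hGd hc r (hr.odd_of_ne_two hr2) hxr1
  have hrank : ((x : Matrix (Fin n) (Fin n) F) - 1).rank = i := by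
    have h1 := LinearMap.finrank_range_add_finrank_ker
      (Matrix.toLin' (x : Matrix (Fin n) (Fin n) F) - 1)
    rw [hxcoe, hker, hnV] at h1
    have h3 : ((x : Matrix (Fin n) (Fin n) F) - 1).rank = Module.finrank F (LinearMap.range
        (Matrix.toLin' (xs : Matrix (Fin n) (Fin n) F) - 1)) := by
      rw [Matrix.rank, hxcoe, ← Matrix.toLin'_apply', map_sub, Matrix.toLin'_one]
      rfl
    rw [h3]
    omega
  rw [hrank] at hev
  exact (Nat.not_even_iff_odd.2 hiodd) hev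

/-- the fixed-point-free element, when `r` does not divide the number of singular vectors -/
theorem der_fpf [Fintype F] {p : ℕ} [Fact p.Prime] [CharP F p] (n : ℕ)
    (hn : 1 ≤ n) (Q : (Fin n → F) → F) (hQ : Cfsg.Geo.IsNondegenerateQuadraticForm Q)
    (r : ℕ) [Fact r.Prime] (hrp : r ≠ p)
    (hi2 : 2 ≤ orderOf ((Fintype.card F : ℕ) : ZMod r))
    (hdiv : orderOf ((Fintype.card F : ℕ) : ZMod r) ∣ n)
    (hN : ¬ r ∣ Nat.card {v : Fin n → F // v ≠ 0 ∧ Q v = 0}) : HasDer Q r := by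
  classical
  have hr : r.Prime := Fact.out
  obtain ⟨i, hi⟩ : ∃ i : ℕ, i = orderOf ((Fintype.card F : ℕ) : ZMod r) := ⟨_, rfl⟩
  rw [← hi] at hi2 hdiv
  have hnV : Module.finrank F (Fin n → F) = n := Module.finrank_fin_fun F
  have hnd : ¬ r ∣ Fintype.card F - 1 := by
    intro h
    have := (orderOf_card_eq_one_iff (F := F) r).mpr h
    omega
  obtain ⟨t, ht⟩ := hdiv
  have ht1 : 1 ≤ t := by
    rcases Nat.eq_zero_or_pos t with h | h
    · rw [h, mul_zero] at ht; omega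
    · exact h
  obtain ⟨xs, g, -, -, -, hx1, hxns, hker, -⟩ :=
    model_single (p := p) r hrp n t (hi ▸ hi2) ht1 (by rw [← hi, ← ht])
  rw [← hi, ← ht, Nat.sub_self] at hker
  obtain ⟨x, hxcoe, hx⟩ := model_toGL n xs
  have hxr1 : (x : Matrix (Fin n) (Fin n) F) ^ r = 1 := by rw [hxcoe]; exact hx1
  have hxr : ((x ^ r : GL (Fin n) F) : Matrix (Fin n) (Fin n) F) =
      (1 : F) • (1 : Matrix (Fin n) (Fin n) F) := by
    rw [Units.val_pow_eq_pow_val, hxr1, one_smul]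
  have hxgr : x ^ r = 1 := by
    apply Units.ext
    rw [Units.val_pow_eq_pow_val, hxr1]; rfl
  have hxfix : ∀ w : Fin n → F, (x : Matrix (Fin n) (Fin n) F) *ᵥ w = w → w = 0 := by
    intro w hw
    have hmem : w ∈ LinearMap.ker (Matrix.toLin' (xs : Matrix (Fin n) (Fin n) F) - 1) := by
      rw [LinearMap.mem_ker, LinearMap.sub_apply, Matrix.toLin'_apply, ← hxcoe, hw]
      simp
    have hbot : LinearMap.ker (Matrix.toLin' (xs : Matrix (Fin n) (Fin n) F) - 1) = ⊥ :=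
      Submodule.finrank_eq_zero.1 hker
    rw [hbot, Submodule.mem_bot] at hmem
    exact hmem
  refine ⟨x, hx, ⟨1, hxr⟩, by rw [hxcoe]; exact hxns, ?_⟩
  rintro g ⟨c, hc⟩
  obtain ⟨y, hy⟩ : ∃ y : GL (Fin n) F, y = g⁻¹ * x * g := ⟨_, rfl⟩
  rw [← hy] at hc
  have hyr : y ^ r = 1 := by
    have h1 : y = g⁻¹ * x * (g⁻¹)⁻¹ := by rw [hy, inv_inv]
    rw [h1, conj_pow, hxgr, mul_one, mul_inv_cancel]
  have hyr1 : (y : Matrix (Fin n) (Fin n) F) ^ r = 1 := by
    rw [← Units.val_pow_eq_pow_val, hyr]; rfl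
  obtain ⟨G, hGs, hGd, -, hGx⟩ := exists_gram Q hQ
  have hyG := hGx _ _ hc
  have hcr := factor_pow hn G _ (c : F) hGd hyG r 1 (by rw [hyr1, one_smul])
  rw [one_pow] at hcr
  have hc1 : (c : F) = 1 := factor_eq_one r hnd _ hcr
  have hyQ : ∀ v, Q ((y : Matrix (Fin n) (Fin n) F) *ᵥ v) = Q v := by
    intro v
    rw [hc v, hc1, one_mul]
  have hyfix : ∀ v : Fin n → F, (y : Matrix (Fin n) (Fin n) F) *ᵥ v = v → v = 0 := by
    intro v hv
    have h1 : (x : Matrix (Fin n) (Fin n) F) *ᵥ ((g : Matrix (Fin n) (Fin n) F) *ᵥ v) =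
        (g : Matrix (Fin n) (Fin n) F) *ᵥ v := by
      have h2 : (g : Matrix (Fin n) (Fin n) F) * (y : Matrix (Fin n) (Fin n) F) =
          (x : Matrix (Fin n) (Fin n) F) * (g : Matrix (Fin n) (Fin n) F) := by
        rw [← Units.val_mul, ← Units.val_mul, hy]
        congr 1
        group
      rw [Matrix.mulVec_mulVec, ← h2, ← Matrix.mulVec_mulVec, hv]
    have h3 := hxfix _ h1
    have h4 : ((g⁻¹ : GL (Fin n) F) : Matrix (Fin n) (Fin n) F) *ᵥ
        ((g : Matrix (Fin n) (Fin n) F) *ᵥ v) = v := by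
      rw [Matrix.mulVec_mulVec, ← Units.val_mul, inv_mul_cancel, Units.val_one, Matrix.one_mulVec]
    rw [h3, Matrix.mulVec_zero] at h4
    exact h4.symm
  exact hN (dvd_card_singular_of_fpf Q _ hyQ r hyr1 hyfix)

/-- `i = ord_r(q)` even -/
theorem der_even [Fintype F] {p : ℕ} [Fact p.Prime] [CharP F p] (hodd : Odd (Fintype.card F))
    (n : ℕ) (hn : 3 ≤ n) (Q : (Fin n → F) → F) (hQ : Cfsg.Geo.IsNondegenerateQuadraticForm Q)
    (r : ℕ) [Fact r.Prime] (hr2 : r ≠ 2) (hrp : r ≠ p)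
    (hi2 : 2 ≤ orderOf ((Fintype.card F : ℕ) : ZMod r))
    (hev : Even (orderOf ((Fintype.card F : ℕ) : ZMod r)))
    (hΩ : r ∣ (Cfsg.Geo.quadSimilarityGroup Q).relIndex (Cfsg.Geo.specialLinear (Fin n) F)) :
    HasDer Q r := by
  classical
  have h2 : (2 : F) ≠ 0 := (two_ne_zero_of_odd (p := p) hodd).2
  have hrq : ¬ r ∣ Fintype.card F := not_dvd_card_of_ne (p := p) r hrp
  have hlt := val_lt_of_dvd_relIndex Q hQ r hr2 hΩ
  rcases Nat.even_or_odd' n with ⟨m, hm | hm⟩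
  · have hm2 : 2 ≤ m := by omega
    have hNT := val_SL_even (F := F) rfl r hr2 hrq hev n m hm hm2
    rcases exists_std_even h2 n m hm (by omega) Q hQ with ⟨φ, hφ⟩ | ⟨a, b, φ, hab, hφ⟩
    · obtain ⟨hcard, hsing⟩ := card_eq_of_equiv Q (Cfsg.quadFormPlus m F) 1 one_ne_zero φ
        (by intro v; rw [hφ v, one_mul])
      rw [← hcard, Cfsg.Agent.Helper2.Quad.card_GO_plus rfl m (by omega)] at hlt
      obtain ⟨hdiv, hnd⟩ := hNT.1 hlt
      apply der_fpf (p := p) n (by omega) Q hQ r hrp hi2 hdiv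
      rw [← hsing, card_singular_plus rfl m (by omega)]
      exact hnd
    · obtain ⟨hcard, hsing⟩ := card_eq_of_equiv Q (Cfsg.quadFormMinus (m - 1) F a b) 1
        one_ne_zero φ (by intro v; rw [hφ v, one_mul])
      rw [← hcard, Cfsg.Agent.Helper2.Quad.card_GO_minus rfl m (by omega) a b hab] at hlt
      obtain ⟨hdiv, hnd⟩ := hNT.2 hlt
      apply der_fpf (p := p) n (by omega) Q hQ r hrp hi2 hdiv
      rw [← hsing, card_singular_minus rfl m (by omega) a b hab]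
      exact hnd
  · exfalso
    obtain ⟨c, φ, hc, hφ⟩ := exists_std_odd h2 n m hm Q hQ
    obtain ⟨hcard, -⟩ := card_eq_of_equiv Q (Cfsg.quadFormOdd m F) c hc φ hφ
    rw [← hcard, Cfsg.Agent.Helper2.Quad.card_GO_odd rfl hodd m] at hlt
    exact absurd (val_SL_le_odd (F := F) rfl r hr2 hrq hev n m hm) (not_le.2 hlt)

/-- the direction `⇒` -/
theorem right_of_all [Fintype F] {p : ℕ} [Fact p.Prime] [CharP F p] (hodd : Odd (Fintype.card F))
    (n : ℕ) (hn : 3 ≤ n) (Q : (Fin n → F) → F) (hQ : Cfsg.Geo.IsNondegenerateQuadraticForm Q)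
    (r : ℕ) [Fact r.Prime] (hgap : ¬ (n = 6 ∧ r = 3))
    (hΩ : r ∣ (Cfsg.Geo.quadSimilarityGroup Q).relIndex (Cfsg.Geo.specialLinear (Fin n) F))
    (hall : ¬ HasDer Q r) :
    r = 2 ∨ ((r = 3 ∨ r = 5) ∧ n = r ∧ padicValNat r (Fintype.card F - 1) = 1) := by
  classical
  have hrpr : r.Prime := Fact.out
  have hp : p.Prime := Fact.out
  obtain ⟨hp2, h2⟩ := two_ne_zero_of_odd (p := p) hodd
  have hcard2 : 2 ≤ Fintype.card F := Fintype.one_lt_card
  by_contra hR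
  rw [not_or] at hR
  obtain ⟨hr2, hR2⟩ := hR
  by_cases hrp : r = p
  · subst hrp
    exact hall (der_transv hp2 n (by omega) Q hQ)
  obtain ⟨i, hi⟩ : ∃ i : ℕ, i = orderOf ((Fintype.card F : ℕ) : ZMod r) := ⟨_, rfl⟩
  have hipos : 0 < i := by rw [hi]; exact orderOf_card_pos (p := p) r hrp
  by_cases hi1 : r ∣ Fintype.card F - 1
  · rcases lt_trichotomy (padicValNat r n) (padicValNat r (Fintype.card F - 1)) with hlt | heq | hgt
    · exact hall (der_D1 n hn Q hQ r hr2 hi1 hlt)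
    · by_cases hn6 : 6 ≤ n
      · refine hall (der_D3 n hn6 Q hQ r hr2 ?_ hi1)
        intro h3
        by_contra h7
        exact hgap ⟨by omega, h3⟩
      · exfalso
        have hc0 : Fintype.card F - 1 ≠ 0 := by omega
        have hv1 : 1 ≤ padicValNat r (Fintype.card F - 1) :=
          one_le_padicValNat_of_dvd hc0 hi1
        have hrn : r ∣ n := by
          apply dvd_of_one_le_padicValNat
          omega
        have hn5 : n ≤ 5 := by omega
        interval_cases n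
        · have h3 : r = 3 := (Nat.prime_dvd_prime_iff_eq hrpr Nat.prime_three).1 hrn
          subst h3
          refine hR2 ⟨Or.inl rfl, rfl, ?_⟩
          rw [← heq]
          exact padicValNat_self
        · have h22 : r ∣ 2 ^ 2 := by norm_num; exact hrn
          exact hr2 ((Nat.prime_dvd_prime_iff_eq hrpr Nat.prime_two).1 (hrpr.dvd_of_dvd_pow h22))
        · have h5 : r = 5 := (Nat.prime_dvd_prime_iff_eq hrpr Nat.prime_five).1 hrn
          subst h5
          refine hR2 ⟨Or.inr rfl, rfl, ?_⟩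
          rw [← heq]
          exact padicValNat_self
    · exact hall (der_kummer n (by omega) Q hQ r hr2 hi1 hgt)
  · have hi2 : 2 ≤ i := by
      have : i ≠ 1 := fun h => hi1 ((orderOf_card_eq_one_iff (F := F) r).1 (by rw [← hi]; exact h))
      omega
    have hin : i ≤ n := by
      rw [hi]
      apply order_le_of_dvd_card_GL (p := p) r hrp n
      exact dvd_trans hΩ (dvd_trans (Subgroup.relIndex_dvd_card _ _)
        (Subgroup.card_subgroup_dvd_card _))
    rw [hi] at hi2 hin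
    rcases Nat.even_or_odd (orderOf ((Fintype.card F : ℕ) : ZMod r)) with hev | hio
    · exact hall (der_even (p := p) hodd n hn Q hQ r hr2 hrp hi2 hev hΩ)
    · exact hall (der_blockodd (p := p) h2 n (by omega) Q hQ r hr2 hrp hi2 hin hio)

/-- `x ^ r = z` as endomorphisms -/
theorem toLin_pow (n : ℕ) (x : GL (Fin n) F) (r : ℕ) (z : F)
    (hxz : ((x ^ r : GL (Fin n) F) : Matrix (Fin n) (Fin n) F) =
      z • (1 : Matrix (Fin n) (Fin n) F)) :
    (Matrix.toLin' (x : Matrix (Fin n) (Fin n) F)) ^ r = z • (1 : Module.End F (Fin n → F)) := by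
  rw [← Matrix.toLin'_pow, ← Units.val_pow_eq_pow_val, hxz, map_smul, Matrix.toLin'_one]; rfl

theorem scalar_ne_zero (n : ℕ) (hn : 1 ≤ n) (x : GL (Fin n) F) (r : ℕ) (z : F)
    (hxz : ((x ^ r : GL (Fin n) F) : Matrix (Fin n) (Fin n) F) =
      z • (1 : Matrix (Fin n) (Fin n) F)) : z ≠ 0 := by
  intro h0
  rw [h0, zero_smul] at hxz
  have h1 : ((x ^ r : GL (Fin n) F) : Matrix (Fin n) (Fin n) F) *
      (((x ^ r)⁻¹ : GL (Fin n) F) : Matrix (Fin n) (Fin n) F) = 1 := by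
    rw [← Units.val_mul, mul_inv_cancel]; rfl
  rw [hxz, zero_mul] at h1
  have h2 := congrFun (congrFun h1 ⟨0, by omega⟩) ⟨0, by omega⟩
  simp at h2

/-- conclusion of the positive direction from invariant forms of every discriminant -/
theorem pos_finish [Fintype F] (h2 : (2 : F) ≠ 0) (n : ℕ) (hn : 1 ≤ n) (Q : (Fin n → F) → F)
    (hQ : Cfsg.Geo.IsNondegenerateQuadraticForm Q) (x : GL (Fin n) F) (r : ℕ) (hrF : (r : F) ≠ 0)
    (z : F) (hxz : ((x ^ r : GL (Fin n) F) : Matrix (Fin n) (Fin n) F) =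
      z • (1 : Matrix (Fin n) (Fin n) F)) (τ : F) (hτ : τ ≠ 0)
    (hforms : ∀ δ : F, δ ≠ 0 → ∃ M : Matrix (Fin n) (Fin n) F, Mᵀ = M ∧ M.det ≠ 0 ∧
      IsSquare (M.det * δ) ∧
      (x : Matrix (Fin n) (Fin n) F)ᵀ * M * (x : Matrix (Fin n) (Fin n) F) = τ • M) :
    ∃ g ∈ Cfsg.Geo.specialLinear (Fin n) F, g⁻¹ * x * g ∈ Cfsg.Geo.quadSimilarityGroup Q := by
  obtain ⟨g, hg⟩ := exists_conj_of_forms h2 Q hQ x τ hτ hforms
  have hz0 : z ≠ 0 := scalar_ne_zero n hn x r z hxz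
  have hnV : Module.finrank F (Fin n → F) = n := Module.finrank_fin_fun F
  refine Cfsg.Agent.S5982P.exists_sl_conj n _ x g hg ?_
  intro δ _
  have hpos : 0 < Module.finrank F (Fin n → F) := by rw [hnV]; omega
  exact CENTDET.main r hrF z hz0 _ (toLin_pow n x r z hxz) hpos δ

/-- the semisimple case of the positive direction -/
theorem pos_diag [Fintype F] (h2 : (2 : F) ≠ 0) (n : ℕ) (hn : 1 ≤ n) (Q : (Fin n → F) → F)
    (hQ : Cfsg.Geo.IsNondegenerateQuadraticForm Q) (r : ℕ)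
    [Fact r.Prime] (hrF : (r : F) ≠ 0) (ξ : F) (hξ : orderOf ξ = r)
    (x : GL (Fin n) F) (μ : F)
    (hxz : ((x ^ r : GL (Fin n) F) : Matrix (Fin n) (Fin n) F) =
      (μ ^ r) • (1 : Matrix (Fin n) (Fin n) F))
    (hcen : ∀ e : Fin n → ZMod r,
      μ ^ n * ∏ j, ξ ^ (e j).val = (x : Matrix (Fin n) (Fin n) F).det →
      ∃ (π : Equiv.Perm (Fin n)) (c₀ : ZMod r) (j₀ : Fin n), (∀ j, π (π j) = j) ∧ π j₀ = j₀ ∧
        ∀ j, e (π j) = c₀ - e j) :
    ∃ g ∈ Cfsg.Geo.specialLinear (Fin n) F, g⁻¹ * x * g ∈ Cfsg.Geo.quadSimilarityGroup Q := by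
  classical
  have hr : r.Prime := Fact.out
  have : NeZero r := ⟨hr.ne_zero⟩
  have hz0 : μ ^ r ≠ 0 := scalar_ne_zero n hn x r _ hxz
  have hμ : μ ≠ 0 := fun h => hz0 (by rw [h, zero_pow hr.ne_zero])
  have hξr : ξ ^ r = 1 := by rw [← hξ]; exact pow_orderOf_eq_one ξ
  have hξ0 : ξ ≠ 0 := by
    intro h0
    rw [h0, zero_pow hr.ne_zero] at hξr
    exact zero_ne_one hξr
  obtain ⟨T, hT⟩ : ∃ T : Module.End F (Fin n → F),
      T = Matrix.toLin' (x : Matrix (Fin n) (Fin n) F) := ⟨_, rfl⟩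
  have hTr : T ^ r = (μ ^ r) • (1 : Module.End F (Fin n → F)) := by
    rw [hT]; exact toLin_pow n x r _ hxz
  have hy : (μ⁻¹ • T) ^ r = 1 := by
    rw [smul_pow, hTr, smul_smul, inv_pow, inv_mul_cancel₀ hz0, one_smul]
  have hnV : Module.finrank F (Fin n → F) = n := Module.finrank_fin_fun F
  obtain ⟨b, e, hbe⟩ := exists_eigenbasis r ξ hξ (μ⁻¹ • T) hy n hnV
  have hb : ∀ j, T (b j) = (μ * ξ ^ (e j).val) • b j := by
    intro j
    have h1 := hbe j
    rw [LinearMap.smul_apply] at h1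
    have h2 : T (b j) = μ • (μ⁻¹ • T (b j)) := by
      rw [smul_smul, mul_inv_cancel₀ hμ, one_smul]
    rw [h2, h1, smul_smul]
  have hdet : μ ^ n * ∏ j, ξ ^ (e j).val = (x : Matrix (Fin n) (Fin n) F).det := by
    have h1 := Cfsg.Agent.S5982P.det_of_eigenbasis b T (fun j => μ * ξ ^ (e j).val) hb
    rw [hT, LinearMap.det_toLin'] at h1
    rw [h1, Finset.prod_mul_distrib, Finset.prod_const, Finset.card_univ, Fintype.card_fin]
  obtain ⟨π, c₀, j₀, hπ2, hj₀, hπ⟩ := hcen e hdet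
  have hE_add : ∀ s t : ZMod r, ξ ^ (s + t).val = ξ ^ s.val * ξ ^ t.val := by
    intro s t
    rw [ZMod.val_add, ← pow_add]
    have := pow_mod_orderOf ξ (s.val + t.val)
    rwa [hξ] at this
  have hτ0 : μ * μ * ξ ^ c₀.val ≠ 0 := mul_ne_zero (mul_ne_zero hμ hμ) (pow_ne_zero _ hξ0)
  apply pos_finish h2 n hn Q hQ x r hrF (μ ^ r) hxz (μ * μ * ξ ^ c₀.val) hτ0
  apply forms_of_diag (x : Matrix (Fin n) (Fin n) F) b (fun j => μ * ξ ^ (e j).val) ?_ π hπ2
    (μ * μ * ξ ^ c₀.val) ?_ j₀ hj₀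
  · intro j
    rw [← Matrix.toLin'_apply, ← hT]
    exact hb j
  · intro j
    have h1 : c₀ = e j + e (π j) := by rw [hπ j]; ring
    rw [h1, hE_add]
    ring

/-- the direction `⇐` -/
theorem all_of_right [Fintype F] {p : ℕ} [Fact p.Prime] [CharP F p] (hodd : Odd (Fintype.card F))
    (n : ℕ) (hn : 3 ≤ n) (Q : (Fin n → F) → F) (hQ : Cfsg.Geo.IsNondegenerateQuadraticForm Q)
    (r : ℕ) [Fact r.Prime]
    (hR : r = 2 ∨ ((r = 3 ∨ r = 5) ∧ n = r ∧ padicValNat r (Fintype.card F - 1) = 1))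
    (x : GL (Fin n) F) (hx : x ∈ Cfsg.Geo.specialLinear (Fin n) F) (z : F)
    (hxz : ((x ^ r : GL (Fin n) F) : Matrix (Fin n) (Fin n) F) =
      z • (1 : Matrix (Fin n) (Fin n) F)) :
    ∃ g ∈ Cfsg.Geo.specialLinear (Fin n) F, g⁻¹ * x * g ∈ Cfsg.Geo.quadSimilarityGroup Q := by
  classical
  have hp : p.Prime := Fact.out
  obtain ⟨hp2, h2⟩ := two_ne_zero_of_odd (p := p) hodd
  have hnV : Module.finrank F (Fin n → F) = n := Module.finrank_fin_fun F
  have hdetx : (x : Matrix (Fin n) (Fin n) F).det = 1 := by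
    have h1 : Matrix.GeneralLinearGroup.det x = 1 := hx
    have h2 := congrArg Units.val h1
    rwa [Matrix.GeneralLinearGroup.val_det_apply] at h2
  have hz0 : z ≠ 0 := scalar_ne_zero n (by omega) x r z hxz
  obtain ⟨T, hT⟩ : ∃ T : Module.End F (Fin n → F),
      T = Matrix.toLin' (x : Matrix (Fin n) (Fin n) F) := ⟨_, rfl⟩
  have hTr : T ^ r = z • (1 : Module.End F (Fin n → F)) := by
    rw [hT]; exact toLin_pow n x r z hxz
  have hdetT : LinearMap.det T = 1 := by rw [hT, LinearMap.det_toLin']; exact hdetx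
  rcases hR with hr2 | ⟨hr35, hnr, hv⟩
  · subst hr2
    have h2F : ((2 : ℕ) : F) ≠ 0 := by exact_mod_cast h2
    by_cases hsq : IsSquare z
    · obtain ⟨μ, hμ⟩ := hsq
      have hneg : (-1 : F) ≠ 1 := by
        intro h
        apply h2
        have : (1 : F) + 1 = 0 := by
          nth_rewrite 1 [← h]
          ring
        rw [← this]; norm_num
      have hξ : orderOf (-1 : F) = 2 := orderOf_eq_prime (by norm_num) hneg
      rw [hμ, ← pow_two] at hxz
      apply pos_diag h2 n (by omega) Q hQ 2 h2F (-1) hξ x μ hxz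
      intro e _
      refine ⟨1, 0, ⟨0, by omega⟩, fun j => rfl, rfl, fun j => ?_⟩
      rw [Equiv.Perm.one_apply, zero_sub]
      exact (CharTwo.neg_eq (e j)).symm
    · apply pos_finish h2 n (by omega) Q hQ x 2 h2F z hxz z hz0
      apply forms_of_sq_nonsquare h2 (by omega) _ z hsq
      rw [← pow_two, ← Units.val_pow_eq_pow_val]
      exact hxz
  · -- `r ∈ {3, 5}`, `n = r`
    have hr : r.Prime := Fact.out
    have hr2 : r ≠ 2 := by rcases hr35 with h | h <;> omega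
    have hrq : r ∣ Fintype.card F - 1 := by
      apply dvd_of_one_le_padicValNat
      omega
    have hrp : r ≠ p := by
      intro hpr
      obtain ⟨k, -, hk⟩ := FiniteField.card F p
      have h1 : r ∣ Fintype.card F := by
        rw [hk, hpr]
        exact dvd_pow_self _ (by positivity)
      have h2 : r ∣ Fintype.card F - (Fintype.card F - 1) := Nat.dvd_sub h1 hrq
      have hc : 1 ≤ Fintype.card F := Fintype.card_pos
      have h3 : Fintype.card F - (Fintype.card F - 1) = 1 := by omega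
      rw [h3] at h2
      exact hr.one_lt.ne' (Nat.dvd_one.1 h2)
    have hrF : (r : F) ≠ 0 := cast_ne_zero_of_ne (p := p) r hrp
    obtain ⟨ξ, hξ⟩ := ASMD.exists_orderOf_eq (F := F) r hrq
    -- `z` is an `r`-th power
    have hzpow : ∃ μ : F, μ ^ r = z := by
      by_contra hne
      push Not at hne
      obtain ⟨s, hs, hdet⟩ := det_of_pow_eq_nonpower r hr2 T z hTr hne
      rw [hnV, hnr] at hs
      have hs1 : s = 1 := by
        have : r * s = r * 1 := by rw [mul_one]; exact hs.symm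
        exact Nat.eq_of_mul_eq_mul_left hr.pos this
      rw [hs1, pow_one, hdetT] at hdet
      exact hne 1 (by rw [one_pow, hdet])
    obtain ⟨μ, hμ⟩ := hzpow
    rw [← hμ] at hxz
    have hnodd : Odd n := by rw [hnr]; exact hr.odd_of_ne_two hr2
    apply pos_diag h2 n (by omega) Q hQ r hrF ξ hξ x μ hxz
    intro e hdet
    rw [hdetx] at hdet
    rcases hr35 with h3 | h5
    · subst h3
      subst hnr
      have hsum := Cfsg.Agent.S5982P.sum_eq_zero_of_det (F := F) 3 hv ξ hξ μ e hdet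
      obtain ⟨c, hc⟩ := exists_center_three e hsum
      obtain ⟨π, hπ2, hπ⟩ := Cfsg.Agent.S5982P.exists_pairing e c hc
      obtain ⟨j₀, hj₀⟩ := exists_fixed_of_involution hnodd π hπ2
      exact ⟨π, c + c, j₀, hπ2, hj₀, hπ⟩
    · subst h5
      subst hnr
      have hsum := Cfsg.Agent.S5982P.sum_eq_zero_of_det (F := F) 5 hv ξ hξ μ e hdet
      obtain ⟨c, hc⟩ := exists_center_five e hsum
      obtain ⟨π, hπ2, hπ⟩ := Cfsg.Agent.S5982P.exists_pairing e c hc
      obtain ⟨j₀, hj₀⟩ := exists_fixed_of_involution hnodd π hπ2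
      exact ⟨π, c + c, j₀, hπ2, hj₀, hπ⟩

end

end ASM

end Cfsg.Agent.S5981P
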