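import Mathlib

set_option autoImplicit false
set_option linter.style.haveILetI false
set_option linter.unusedSectionVars false
set_option linter.unusedVariables false

/-!
# Word identities for involutions: the `S₄` configuration and the affine plane of order three
-/

namespace Cfsg.Agent.Helper4.S5Trans

section Algebra

variable {G : Type*} [Group G]

/-- In the `S₄` configuration `p — q — s` (with `p`, `s` commuting), `q` commutes with its conjugate
under `p s`. -/
theorem s4_commute {p q s : G} (hp : p * p = 1) (hq : q * q = 1) (hs : s * s = 1)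
    (hpq : p * q * p = q * p * q) (hqs : q * s * q = s * q * s) (hps : p * s = s * p) :
    Commute q (p * s * q * s * p) := by
  have cp : ∀ w, p * (p * w) = w := fun w => by rw [← mul_assoc, hp, one_mul]
  have cq : ∀ w, q * (q * w) = w := fun w => by rw [← mul_assoc, hq, one_mul]
  have cs : ∀ w, s * (s * w) = w := fun w => by rw [← mul_assoc, hs, one_mul]
  have bpq : ∀ w, p * (q * (p * w)) = q * (p * (q * w)) := fun w => by
    rw [← mul_assoc, ← mul_assoc, hpq]; simp only [mul_assoc]
  have bqs : ∀ w, q * (s * (q * w)) = s * (q * (s * w)) := fun w => by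
    rw [← mul_assoc, ← mul_assoc, hqs]; simp only [mul_assoc]
  have cps : ∀ w, p * (s * w) = s * (p * w) := fun w => by
    rw [← mul_assoc, hps, mul_assoc]
  -- q p s q s p = p s q s p q
  change q * (p * s * q * s * p) = p * s * q * s * p * q
  have e1 : q * (p * s * q * s * p) = q * (p * (q * (s * (q * p)))) := by
    simp only [mul_assoc]; rw [bqs]
  have e2 : p * s * q * s * p * q = p * (q * (s * (q * (p * q)))) := by
    simp only [mul_assoc]; rw [← bqs]
  rw [e1, e2]
  -- q p q s q p  vs  p q s q p q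
  have e3 : q * (p * (q * (s * (q * p)))) = p * (q * (p * (s * (q * p)))) := by
    rw [← bpq]
  have e4 : p * (q * (s * (q * (p * q)))) = p * (q * (s * (p * (q * p)))) := by
    have : q * (p * q) = p * (q * p) := by
      have := bpq 1; simp only [mul_one] at this; exact this.symm
    rw [this]
  rw [e3, e4, cps]

/-- If `x` does not commute with the involutions `s` and `t` (braid relations) but commutes with
`s * t`, then `s = t`. -/
theorem eq_of_commute_mul {x s t : G} (hx : x * x = 1) (hs : s * s = 1) (ht : t * t = 1)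
    (hxs : x * s * x = s * x * s) (hxt : x * t * x = t * x * t) (hc : Commute x (s * t)) :
    s = t := by
  -- (x s x)(x t x) = x s t x = s t
  have h1 : (x * s * x) * (x * t * x) = s * t := by
    have : (x * s * x) * (x * t * x) = x * (s * t) * x * (x * x)⁻¹ * (x * x) := by
      rw [hx]; simp only [inv_one, mul_one]
      calc (x * s * x) * (x * t * x) = x * s * (x * x) * t * x := by group
        _ = x * (s * t) * x := by rw [hx]; group
    rw [this, hx]; simp only [inv_one, mul_one]
    rw [hc.eq, mul_assoc, hx, mul_one]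
  rw [hxs, hxt] at h1
  -- s x s t x t = s t  =>  x s t x = 1
  have h2 : x * (s * t) * x = 1 := by
    have : x * (s * t) * x = s * ((s * x * s) * (t * x * t)) * t := by
      calc x * (s * t) * x = (s * s) * x * (s * t) * x * (t * t) := by rw [hs, ht]; group
        _ = s * ((s * x * s) * (t * x * t)) * t := by group
    rw [this, h1]
    calc s * (s * t) * t = (s * s) * (t * t) := by group
      _ = 1 := by rw [hs, ht, one_mul]
  have h3 : s * t = 1 := by
    have : s * t = x * (x * (s * t) * x) * x := by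
      calc s * t = (x * x) * (s * t) * (x * x) := by rw [hx]; group
        _ = x * (x * (s * t) * x) * x := by group
    rw [this, h2, mul_one, hx]
  calc s = s * (t * t) := by rw [ht, mul_one]
    _ = (s * t) * t := by group
    _ = t := by rw [h3, one_mul]

/-- The Heisenberg relations: in a group generated by `r`, `s` of order three with `r s`, `r s⁻¹` of
order three, and an involution `d` inverting `r` and `s`, the commutator `r s⁻¹ r⁻¹ s` is central of
order dividing three. -/
theorem heisenberg {d r s : G} (hd : d * d = 1) (hdr : d * r * d = r⁻¹) (hds : d * s * d = s⁻¹)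
    (hr : r ^ 3 = 1) (hs : s ^ 3 = 1) (hrs : (r * s) ^ 3 = 1) (hrs' : (r * s⁻¹) ^ 3 = 1) :
    Commute (r * s⁻¹ * r⁻¹ * s) r ∧ Commute (r * s⁻¹ * r⁻¹ * s) s ∧
      Commute (r * s⁻¹ * r⁻¹ * s) d ∧ (r * s⁻¹ * r⁻¹ * s) ^ 3 = 1 := by
  have N1 : r * (s⁻¹ * (r * (s⁻¹ * (r * s⁻¹)))) = 1 := by
    have := hrs'
    simpa only [pow_succ, pow_zero, one_mul, mul_assoc] using this
  have N2 : r * (s * (r * (s * (r * s)))) = 1 := by
    have := hrs
    simpa only [pow_succ, pow_zero, one_mul, mul_assoc] using this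
  have hss : s * s = s⁻¹ := by
    have : s * s * s = 1 := by simpa only [pow_succ, pow_zero, one_mul] using hs
    exact eq_inv_of_mul_eq_one_left this
  have hrr : r * r = r⁻¹ := by
    have : r * r * r = 1 := by simpa only [pow_succ, pow_zero, one_mul] using hr
    exact eq_inv_of_mul_eq_one_left this
  have hss' : ∀ w, s * (s * w) = s⁻¹ * w := fun w => by rw [← mul_assoc, hss]
  have hsi : s⁻¹ * s⁻¹ = s := by
    rw [← mul_inv_rev, hss, inv_inv]
  have hri : r⁻¹ * r⁻¹ = r := by
    rw [← mul_inv_rev, hrr, inv_inv]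
  have hsi' : ∀ w, s⁻¹ * (s⁻¹ * w) = s * w := fun w => by rw [← mul_assoc, hsi]
  obtain ⟨r1, hr1⟩ : ∃ r1, r1 = s⁻¹ * r * s := ⟨_, rfl⟩
  obtain ⟨r2, hr2⟩ : ∃ r2, r2 = s * r * s⁻¹ := ⟨_, rfl⟩
  have h1 : r * r1 * r2 = 1 := by
    rw [hr1, hr2]
    simp only [mul_assoc]
    rw [hss']
    exact N1
  have h2 : r * r2 * r1 = 1 := by
    rw [hr1, hr2]
    simp only [mul_assoc]
    rw [hsi']
    exact N2
  have h3 : Commute r1 r2 := by
    have : r * (r1 * r2) = r * (r2 * r1) := by
      rw [← mul_assoc, ← mul_assoc r, h1, h2]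
    exact mul_left_cancel this
  have e1 : s * r1 * s⁻¹ = r := by
    rw [hr1]
    simp only [mul_assoc, mul_inv_cancel_left, mul_inv_cancel, mul_one]
  have e2 : s * r2 * s⁻¹ = r1 := by
    rw [hr1, hr2]
    simp only [mul_assoc]
    rw [hss', hsi]
  have e3 : s⁻¹ * r1 * s = r2 := by
    rw [hr1, hr2]
    simp only [mul_assoc]
    rw [hsi', hss]
  have h4 : Commute r r1 := by
    have := (Commute.conj_iff s).mpr h3
    rwa [e1, e2] at this
  have hr13 : r1 * r1 = r1⁻¹ := by
    rw [hr1]
    simp only [mul_assoc, mul_inv_rev, inv_inv, mul_inv_cancel_left]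
    rw [← mul_assoc r, hrr]
  have hz : r * s⁻¹ * r⁻¹ * s = r * r1⁻¹ := by
    rw [hr1]
    simp only [mul_assoc, mul_inv_rev, inv_inv]
  have hr2' : r2 = r1⁻¹ * r⁻¹ := by
    have : r * r1 * r2 = r * r1 * (r1⁻¹ * r⁻¹) := by
      rw [h1]; simp only [mul_assoc, mul_inv_cancel_left, mul_inv_cancel]
    exact mul_left_cancel this
  have h4' : Commute r r1⁻¹ := h4.inv_right
  have h4'' : Commute r⁻¹ r1⁻¹ := h4'.inv_left
  rw [hz]
  refine ⟨?_, ?_, ?_, ?_⟩
  · exact Commute.mul_left (Commute.refl r) h4'.symm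
  · -- s⁻¹ ζ s = ζ
    have hc : s⁻¹ * (r * r1⁻¹) * s = r * r1⁻¹ := by
      have : s⁻¹ * (r * r1⁻¹) * s = (s⁻¹ * r * s) * (s⁻¹ * r1 * s)⁻¹ := by
        simp only [mul_assoc, mul_inv_rev, inv_inv, mul_inv_cancel_left]
      rw [this, e3, ← hr1, hr2']
      simp only [mul_inv_rev, inv_inv]
      -- r1 * (r * r1) = r * r1⁻¹
      rw [← mul_assoc, ← h4.eq, mul_assoc, hr13]
    change r * r1⁻¹ * s = s * (r * r1⁻¹)
    calc r * r1⁻¹ * s = s * (s⁻¹ * (r * r1⁻¹) * s) := by
          simp only [mul_assoc, mul_inv_cancel_left]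
      _ = s * (r * r1⁻¹) := by rw [hc]
  · -- d ζ d = ζ
    have hdi : d⁻¹ = d := inv_eq_of_mul_eq_one_left hd
    have cd : ∀ w, d * (d * w) = w := fun w => by rw [← mul_assoc, hd, one_mul]
    have hdri : d * r⁻¹ * d = r := by
      have := congrArg (fun t => t⁻¹) hdr
      simpa only [mul_inv_rev, inv_inv, hdi, mul_assoc] using this
    have hdsi : d * s⁻¹ * d = s := by
      have := congrArg (fun t => t⁻¹) hds
      simpa only [mul_inv_rev, inv_inv, hdi, mul_assoc] using this
    have hc : d * (r * r1⁻¹) * d = r * r1⁻¹ := by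
      have : d * (r * r1⁻¹) * d = (d * r * d) * (d * s⁻¹ * d) * (d * r⁻¹ * d) * (d * s * d) := by
        rw [hr1]
        simp only [mul_assoc, mul_inv_rev, inv_inv, cd]
      rw [this, hdr, hds, hdri, hdsi]
      -- r⁻¹ s r s⁻¹ = r⁻¹ r2
      have : r⁻¹ * s * r * s⁻¹ = r⁻¹ * r2 := by rw [hr2]; simp only [mul_assoc]
      rw [this, hr2']
      -- r⁻¹ r1⁻¹ r⁻¹ = r r1⁻¹
      rw [← h4''.eq, ← mul_assoc, hri]
    change r * r1⁻¹ * d = d * (r * r1⁻¹)
    calc r * r1⁻¹ * d = d * (d * (r * r1⁻¹) * d) := by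
          simp only [mul_assoc, cd]
      _ = d * (r * r1⁻¹) := by rw [hc]
  · rw [h4'.mul_pow, hr]
    have : r1⁻¹ ^ 3 = 1 := by
      simp only [pow_succ, pow_zero, one_mul]
      rw [← mul_inv_rev, hr13, inv_inv, mul_inv_cancel]
    rw [this, mul_one]

end Algebra

end Cfsg.Agent.Helper4.S5Trans
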