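import Mathlib
import Cfsg.Prelude.Def_FischerSpaces
import Cfsg.Agent.Helper4.ThreeTransO3A
import Cfsg.Agent.Helper14.PCore

set_option autoImplicit false
set_option linter.style.haveILetI false
set_option linter.unusedSectionVars false
set_option linter.unusedVariables false

/-!
# Local structure: commuting sets that generate `S₃`
-/

namespace Cfsg.Agent.Helper4.S5Trans

open Equiv Cfsg.Agent.Helper4.ThreeTransO3

theorem perm3_facts1 : ∀ σ τ : Perm (Fin 3), σ * σ = 1 → τ * τ = 1 → σ ≠ 1 → τ ≠ 1 → σ ≠ τ →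
    σ * τ ≠ τ * σ := by
  decide

set_option synthInstance.maxHeartbeats 400000 in
set_option synthInstance.maxSize 1024 in
theorem perm3_facts2 : ∀ σ τ ρ : Perm (Fin 3), σ * σ = 1 → τ * τ = 1 → ρ * ρ = 1 → σ ≠ 1 → τ ≠ 1 →
    ρ ≠ 1 → σ ≠ τ → (ρ = σ ∨ ρ = τ ∨ ρ = σ * τ * σ) := by
  decide

theorem perm3_facts (σ τ ρ : Perm (Fin 3)) (h1 : σ * σ = 1) (h2 : τ * τ = 1) (h3 : ρ * ρ = 1)
    (h4 : σ ≠ 1) (h5 : τ ≠ 1) (h6 : ρ ≠ 1) (h7 : σ ≠ τ) :
    (σ * τ ≠ τ * σ ∧ (ρ = σ ∨ ρ = τ ∨ ρ = σ * τ * σ)) :=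
  ⟨perm3_facts1 σ τ h1 h2 h4 h5 h7, perm3_facts2 σ τ ρ h1 h2 h3 h4 h5 h6 h7⟩

theorem perm3_noncomm : (swap 0 1 : Perm (Fin 3)) * swap 1 2 ≠ swap 1 2 * swap 0 1 := by
  decide

section Local

variable {G : Type*} [Group G] {D : Set G}

/-- The local hypothesis in usable form. -/
structure Loc (D : Set G) : Prop where
  pair : ∀ d ∈ D, ∃ s t, s ∈ Dset D d ∧ t ∈ Dset D d ∧ s ≠ t
  three : ∀ d ∈ D, ∀ s ∈ Dset D d, ∀ t ∈ Dset D d, s ≠ t →
    ¬ Commute s t ∧ ∀ y ∈ Dset D d, y = s ∨ y = t ∨ y = s * t * s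

theorem exists_pair_of_iso {S : Set G} (e : ↥(Subgroup.closure S) ≃* Perm (Fin 3)) :
    ∃ s t, s ∈ S ∧ t ∈ S ∧ s ≠ t := by
  by_contra h
  push Not at h
  have hcomm : ∀ x ∈ S, ∀ y ∈ S, x * y = y * x := by
    intro x hx y hy
    rw [h x y hx hy]
  haveI := Subgroup.isMulCommutative_closure hcomm
  have h1 := mul_comm' (e.symm (swap 0 1)) (e.symm (swap 1 2))
  have h2 := congrArg e h1
  rw [map_mul, map_mul, e.apply_symm_apply, e.apply_symm_apply] at h2
  exact perm3_noncomm h2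

theorem three_of_iso {S : Set G} (hS : ∀ s ∈ S, s * s = 1 ∧ s ≠ 1)
    (e : ↥(Subgroup.closure S) ≃* Perm (Fin 3)) {s t : G} (hs : s ∈ S) (ht : t ∈ S) (hne : s ≠ t) :
    ¬ Commute s t ∧ ∀ y ∈ S, y = s ∨ y = t ∨ y = s * t * s := by
  have key : ∀ y ∈ S, (¬ Commute s t) ∧ (y = s ∨ y = t ∨ y = s * t * s) := by
    intro y hy
    set s' : ↥(Subgroup.closure S) := ⟨s, Subgroup.subset_closure hs⟩ with hs'
    set t' : ↥(Subgroup.closure S) := ⟨t, Subgroup.subset_closure ht⟩ with ht'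
    set y' : ↥(Subgroup.closure S) := ⟨y, Subgroup.subset_closure hy⟩ with hy'
    have sq : ∀ (z : G) (hz : z ∈ S), e ⟨z, Subgroup.subset_closure hz⟩ *
        e ⟨z, Subgroup.subset_closure hz⟩ = 1 := by
      intro z hz
      rw [← map_mul]
      have : (⟨z, Subgroup.subset_closure hz⟩ : ↥(Subgroup.closure S)) *
          ⟨z, Subgroup.subset_closure hz⟩ = 1 := by
        apply Subtype.ext
        exact (hS z hz).1
      rw [this, map_one]
    have ne1 : ∀ (z : G) (hz : z ∈ S), e ⟨z, Subgroup.subset_closure hz⟩ ≠ 1 := by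
      intro z hz h
      have : (⟨z, Subgroup.subset_closure hz⟩ : ↥(Subgroup.closure S)) = 1 := by
        apply e.injective; rw [h, map_one]
      exact (hS z hz).2 (congrArg Subtype.val this)
    have hne' : e s' ≠ e t' := by
      intro h
      exact hne (congrArg Subtype.val (e.injective h))
    obtain ⟨h1, h2⟩ := perm3_facts (e s') (e t') (e y') (sq s hs) (sq t ht) (sq y hy) (ne1 s hs)
      (ne1 t ht) (ne1 y hy) hne'
    constructor
    · intro hc
      apply h1
      rw [← map_mul, ← map_mul]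
      congr 1
      apply Subtype.ext
      exact hc.eq
    · rcases h2 with h | h | h
      · left; exact congrArg Subtype.val (e.injective h)
      · right; left; exact congrArg Subtype.val (e.injective h)
      · right; right
        rw [← map_mul, ← map_mul] at h
        exact congrArg Subtype.val (e.injective h)
  exact ⟨(key s hs).1, fun y hy => (key y hy).2⟩

/-- The local hypothesis of the statement gives `Loc`. -/
theorem loc_of_iso (hD : Cfsg.IsThreeTranspositionSet D)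
    (hloc : ∀ d ∈ D, Nonempty (↥(Subgroup.closure (Dset D d)) ≃* Perm (Fin 3))) : Loc D := by
  have hS : ∀ d : G, ∀ s ∈ Dset D d, s * s = 1 ∧ s ≠ 1 := by
    intro d s hs
    have h2 : orderOf s = 2 := hD.1 s hs.1
    constructor
    · have := pow_orderOf_eq_one s
      rw [h2, pow_two] at this
      exact this
    · intro h
      rw [h, orderOf_one] at h2
      exact absurd h2 (by norm_num)
  constructor
  · intro d hd
    obtain ⟨e⟩ := hloc d hd
    exact exists_pair_of_iso e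
  · intro d hd s hs t ht hne
    obtain ⟨e⟩ := hloc d hd
    exact three_of_iso (hS d) e hs ht hne

end Local

section O3

variable {G : Type*} [Group G] [Finite G]

/-- If `O₃(C_G(d))` has order three, then `O₃(G) ∩ C_G(d)` has at most three elements. -/
theorem o3_four_false {d : G}
    (h3 : Nat.card (Cfsg.pCore 3 ↥(Subgroup.centralizer ({d} : Set G))) = 3)
    {u v : G} (hu : u ∈ Cfsg.pCore 3 G) (hv : v ∈ Cfsg.pCore 3 G) (hud : Commute u d)
    (hvd : Commute v d) (hu1 : u ≠ 1) (huu : u ≠ u⁻¹) (hv1 : v ≠ 1) (hvu : v ≠ u) (hvu' : v ≠ u⁻¹) :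
    False := by
  haveI : Fact (Nat.Prime 3) := ⟨Nat.prime_three⟩
  set C := Subgroup.centralizer ({d} : Set G) with hC
  set M : Subgroup ↥C := (Cfsg.pCore 3 G).subgroupOf C with hM
  have hMn : M.Normal := by
    rw [hM]; infer_instance
  have hMp : IsPGroup 3 ↥M := by
    rw [hM]
    exact (Cfsg.Agent.Helper14.pCore_isPGroup (G := G) 3).comap_subtype
  have hle : M ≤ Cfsg.pCore 3 ↥C := Cfsg.Agent.Helper14.le_pCore 3 hMn hMp
  have hcard : Nat.card ↥M ≤ 3 := by
    rw [← h3]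
    exact Subgroup.card_le_of_le hle
  have memC : ∀ g : G, Commute g d → g ∈ C := by
    intro g hg
    rw [hC, Subgroup.mem_centralizer_iff]
    intro y hy
    rw [Set.mem_singleton_iff] at hy
    rw [hy]; exact hg.eq.symm
  have hui : u⁻¹ ∈ Cfsg.pCore 3 G := inv_mem hu
  have huid : Commute u⁻¹ d := hud.inv_left
  let f : Fin 4 → ↥M := ![⟨⟨1, one_mem _⟩, by rw [hM, Subgroup.mem_subgroupOf]; exact one_mem _⟩,
    ⟨⟨u, memC u hud⟩, by rw [hM, Subgroup.mem_subgroupOf]; exact hu⟩,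
    ⟨⟨u⁻¹, memC _ huid⟩, by rw [hM, Subgroup.mem_subgroupOf]; exact hui⟩,
    ⟨⟨v, memC v hvd⟩, by rw [hM, Subgroup.mem_subgroupOf]; exact hv⟩]
  have f0 : ((f 0 : ↥C) : G) = 1 := rfl
  have f1 : ((f 1 : ↥C) : G) = u := rfl
  have f2 : ((f 2 : ↥C) : G) = u⁻¹ := rfl
  have f3 : ((f 3 : ↥C) : G) = v := rfl
  have hf : Function.Injective f := by
    intro i j hij
    have h' : ((f i : ↥C) : G) = ((f j : ↥C) : G) := by rw [hij]
    have hui1 : u⁻¹ ≠ 1 := fun h => hu1 (inv_eq_one.mp h)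
    fin_cases i <;> fin_cases j <;> first | rfl | (exfalso; revert h')
    · change ((f 0 : ↥C) : G) = ((f 1 : ↥C) : G) → False
      rw [f0, f1]; exact fun h => hu1 h.symm
    · change ((f 0 : ↥C) : G) = ((f 2 : ↥C) : G) → False
      rw [f0, f2]; exact fun h => hui1 h.symm
    · change ((f 0 : ↥C) : G) = ((f 3 : ↥C) : G) → False
      rw [f0, f3]; exact fun h => hv1 h.symm
    · change ((f 1 : ↥C) : G) = ((f 0 : ↥C) : G) → False
      rw [f0, f1]; exact fun h => hu1 h
    · change ((f 1 : ↥C) : G) = ((f 2 : ↥C) : G) → False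
      rw [f1, f2]; exact fun h => huu h
    · change ((f 1 : ↥C) : G) = ((f 3 : ↥C) : G) → False
      rw [f1, f3]; exact fun h => hvu h.symm
    · change ((f 2 : ↥C) : G) = ((f 0 : ↥C) : G) → False
      rw [f0, f2]; exact fun h => hui1 h
    · change ((f 2 : ↥C) : G) = ((f 1 : ↥C) : G) → False
      rw [f1, f2]; exact fun h => huu h.symm
    · change ((f 2 : ↥C) : G) = ((f 3 : ↥C) : G) → False
      rw [f2, f3]; exact fun h => hvu' h.symm
    · change ((f 3 : ↥C) : G) = ((f 0 : ↥C) : G) → False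
      rw [f0, f3]; exact fun h => hv1 h
    · change ((f 3 : ↥C) : G) = ((f 1 : ↥C) : G) → False
      rw [f1, f3]; exact fun h => hvu h
    · change ((f 3 : ↥C) : G) = ((f 2 : ↥C) : G) → False
      rw [f2, f3]; exact fun h => hvu' h
  have := Nat.card_le_card_of_injective f hf
  rw [Nat.card_eq_fintype_card, Fintype.card_fin] at this
  omega

end O3

end Cfsg.Agent.Helper4.S5Trans
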