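import Mathlib
import Cfsg.Prelude.Def_FischerSpaces
import Cfsg.Agent.Helper4.ThreeTransO3C
import Cfsg.Agent.Helper4.S5TransA
import Cfsg.Agent.Helper4.S5TransB

set_option autoImplicit false
set_option linter.style.haveILetI false
set_option linter.unusedSectionVars false
set_option linter.unusedVariables false
set_option linter.unusedSimpArgs false

/-!
# Every member of `D` is at distance at most two from any other in the commuting graph
-/

namespace Cfsg.Agent.Helper4.S5Trans

open Equiv Cfsg.Agent.Helper4.ThreeTransO3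

section Main

variable {G : Type*} [Group G] [Finite G] {D : Set G}
variable (hD : Cfsg.IsThreeTranspositionSet D) (hconj : ∀ g : G, ∀ x ∈ D, g * x * g⁻¹ ∈ D)
variable (hL : Loc D)
variable (hO : ∀ d ∈ D, Nat.card (Cfsg.pCore 3 ↥(Subgroup.centralizer ({d} : Set G))) = 3)

include hD in
theorem sq_one {x : G} (hx : x ∈ D) : x * x = 1 := by
  have := pow_orderOf_eq_one x
  rw [hD.1 x hx, pow_two] at this
  exact this

include hD in
theorem inv_self {x : G} (hx : x ∈ D) : x⁻¹ = x :=
  inv_eq_of_mul_eq_one_left (sq_one hD hx)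

include hD in
theorem braid' {x y : G} (hx : x ∈ D) (hy : y ∈ D) (h : ¬ Commute x y) : x * y * x = y * x * y :=
  (Cfsg.Agent.S5344.braid_of_not_commute hD hx hy h).2.2

include hD hconj in
/-- The third point of the line through two members of `D`. -/
theorem third_mem {s t : G} (hs : s ∈ D) (ht : t ∈ D) : s * t * s ∈ D := by
  have := hconj s t ht
  rwa [inv_self hD hs] at this

include hD hconj in
theorem third_mem_dset {a s t : G} (hs : s ∈ Dset D a) (ht : t ∈ Dset D a) : s * t * s ∈ Dset D a := by
  refine ⟨third_mem hD hconj hs.1 ht.1, ?_, ?_⟩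
  · intro h
    -- s t s = a, so t = s a s = a
    have hs2 := sq_one hD hs.1
    have : t = a := by
      calc t = (s * s) * t * (s * s) := by rw [hs2, one_mul, mul_one]
        _ = s * (s * t * s) * s := by simp only [mul_assoc]
        _ = s * a * s := by rw [h]
        _ = a * s * s := by rw [hs.2.2.eq]
        _ = a := by rw [mul_assoc, hs2, mul_one]
    exact ht.2.1 this
  · exact (hs.2.2.mul_right ht.2.2).mul_right hs.2.2

include hD hconj hL in
/-- Two distinct members of `Dset D a` determine it. -/
theorem dset_eq_of_pair {a b s t : G} (ha : a ∈ D) (hb : b ∈ D) (hsa : s ∈ Dset D a)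
    (hta : t ∈ Dset D a) (hsb : s ∈ Dset D b) (htb : t ∈ Dset D b) (hne : s ≠ t) :
    Dset D a = Dset D b := by
  ext y
  constructor
  · intro hy
    rcases (hL.three a ha s hsa t hta hne).2 y hy with h | h | h
    · rw [h]; exact hsb
    · rw [h]; exact htb
    · rw [h]; exact third_mem_dset hD hconj hsb htb
  · intro hy
    rcases (hL.three b hb s hsb t htb hne).2 y hy with h | h | h
    · rw [h]; exact hsa
    · rw [h]; exact hta
    · rw [h]; exact third_mem_dset hD hconj hsa hta

include hD hconj hL hO in
/-- The key lemma: every member of `D` other than `a` commutes with `a` or with a member of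
`Dset D a`. -/
theorem dist_le_two {a x : G} (ha : a ∈ D) (hx : x ∈ D) :
    x = a ∨ Commute x a ∨ ∃ y ∈ Dset D a, Commute x y := by
  by_contra hcon
  push Not at hcon
  obtain ⟨hxa, hnxa, hny⟩ := hcon
  obtain ⟨d, e, hd, he, hde⟩ := hL.pair a ha
  obtain ⟨hnde, hall⟩ := hL.three a ha d hd e he hde
  have hf : d * e * d ∈ Dset D a := third_mem_dset hD hconj hd he
  have hnxd : ¬ Commute x d := hny d hd
  have hnxe : ¬ Commute x e := hny e he
  have hnxf : ¬ Commute x (d * e * d) := hny _ hf
  have hd2 := sq_one hD hd.1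
  have he2 := sq_one hD he.1
  have hx2 := sq_one hD hx
  have ha2 := sq_one hD ha
  have hdi := inv_self hD hd.1
  have hei := inv_self hD he.1
  have hxi := inv_self hD hx
  have hai := inv_self hD ha
  have bde := braid' hD hd.1 he.1 hnde
  have bxd := braid' hD hx hd.1 hnxd
  have bxe := braid' hD hx he.1 hnxe
  have bxa := braid' hD hx ha hnxa
  have cad : a * d = d * a := hd.2.2.eq
  have cae : a * e = e * a := he.2.2.eq
  have cd : ∀ w, d * (d * w) = w := fun w => by rw [← mul_assoc, hd2, one_mul]
  have ce : ∀ w, e * (e * w) = w := fun w => by rw [← mul_assoc, he2, one_mul]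
  have cx : ∀ w, x * (x * w) = w := fun w => by rw [← mul_assoc, hx2, one_mul]
  have ca : ∀ w, a * (a * w) = w := fun w => by rw [← mul_assoc, ha2, one_mul]
  -- the Heisenberg element
  obtain ⟨ζ, hζ⟩ : ∃ ζ, ζ = d * e * x * d * e * x := ⟨_, rfl⟩
  have hheis := heisenberg (d := d) (r := d * e) (s := d * x) hd2
    (by simp only [mul_assoc, mul_inv_rev, hdi, hei, cd])
    (by simp only [mul_assoc, mul_inv_rev, hdi, hxi, cd])
    (cube_of_not_commute hD hd.1 he.1 hnde)
    (cube_of_not_commute hD hd.1 hx (fun h => hnxd h.symm))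
    (by
      have := cube_of_not_commute hD hf.1 hx (fun h => hnxf h.symm)
      simpa only [mul_assoc] using this)
    (by
      have h1 := cube_of_not_commute hD he.1 hx (fun h => hnxe h.symm)
      have h2 : d * e * (d * x)⁻¹ = d * (e * x) * d⁻¹ := by
        simp only [mul_assoc, mul_inv_rev, hdi, hxi]
      rw [h2, conj_pow, h1, mul_one, mul_inv_cancel])
  have hz0 : d * e * (d * x)⁻¹ * (d * e)⁻¹ * (d * x) = ζ := by
    rw [hζ]
    simp only [mul_assoc, mul_inv_rev, hdi, hei, hxi, cd]
  rw [hz0] at hheis
  obtain ⟨hzr, hzs, hzd, hz3⟩ := hheis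
  have hze : Commute ζ e := by
    have : e = d * (d * e) := by rw [cd]
    rw [this]
    exact hzd.mul_right hzr
  have hzx : Commute ζ x := by
    have : x = d * (d * x) := by rw [cd]
    rw [this]
    exact hzd.mul_right hzs
  -- the two `S₄` configurations
  have hu1 : Commute x (a * d * x * d * a) :=
    s4_commute ha2 hx2 hd2 bxa.symm bxd cad
  have hu2 : Commute x (a * e * x * e * a) :=
    s4_commute ha2 hx2 he2 bxa.symm bxe cae
  have hP : (a * d * x * d * a) * (a * e * x * e * a) = (d * e * d * e) * (a * ζ * a) := by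
    -- x d e x = e d ζ
    have h1 : x * (d * (e * x)) = e * (d * ζ) := by
      rw [hζ]; simp only [mul_assoc, cd, ce]
    have h2 : ζ * e = e * ζ := hze.eq
    calc (a * d * x * d * a) * (a * e * x * e * a)
        = a * (d * (x * (d * (e * x))) * (e * a)) := by simp only [mul_assoc, ca]
      _ = a * (d * (e * (d * ζ)) * (e * a)) := by rw [h1]
      _ = a * (d * (e * (d * (ζ * e))) * a) := by simp only [mul_assoc]
      _ = a * (d * (e * (d * (e * ζ))) * a) := by rw [h2]
      _ = (d * e * d * e) * (a * ζ * a) := by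
        have c1 : ∀ w, a * (d * w) = d * (a * w) := fun w => by rw [← mul_assoc, cad, mul_assoc]
        have c2 : ∀ w, a * (e * w) = e * (a * w) := fun w => by rw [← mul_assoc, cae, mul_assoc]
        simp only [mul_assoc, c1, c2]
  have hcP : Commute x ((d * e * d * e) * (a * ζ * a)) := by
    rw [← hP]; exact hu1.mul_right hu2
  -- consequence of `x` commuting with `(d e)²`
  have hkill : Commute x (d * e * d * e) → False := by
    intro h
    have h4 : (d * e * d * e) * (d * e * d * e) = d * e := by
      have h3 := cube_of_not_commute hD hd.1 he.1 hnde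
      have : (d * e * d * e) * (d * e * d * e) = (d * e) ^ 3 * (d * e) := by
        simp only [pow_succ, pow_zero, one_mul, mul_assoc]
      rw [this, h3, one_mul]
    have h5 : Commute x (d * e) := by
      rw [← h4]; exact h.mul_right h
    exact hde (eq_of_commute_mul hx2 hd2 he2 bxd bxe h5)
  -- the two cases
  by_cases hth : Th D d e
  · -- the case where `d`, `e` have the same commuting sets: use `O₃(G)`
    have hr : d * e ∈ Cfsg.pCore 3 G := mul_mem_pCore_three hD hconj hd.1 he.1 hth hde
    have hζm : ζ ∈ Cfsg.pCore 3 G := by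
      have h1 : ζ = (d * e) * (x * (d * e) * x⁻¹) := by
        rw [hζ, hxi]; simp only [mul_assoc]
      rw [h1]
      exact mul_mem hr ((Cfsg.Agent.Helper14.pCore_normal 3).conj_mem _ hr x)
    -- a second member of `Dset D d`
    have had : a ∈ Dset D d := ⟨ha, fun h => hd.2.1 h.symm, hd.2.2.symm⟩
    obtain ⟨a', ha', hne'⟩ : ∃ a', a' ∈ Dset D d ∧ a' ≠ a := by
      obtain ⟨s, t, hs, ht, hst⟩ := hL.pair d hd.1
      by_cases h : s = a
      · exact ⟨t, ht, fun h' => hst (h.trans h'.symm)⟩
      · exact ⟨s, hs, h⟩
    have ha'e : a' ∈ Dset D e := by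
      have : Dset D d = Dset D e := hth
      rw [← this]; exact ha'
    have hda' : d ∈ Dset D a' := ⟨hd.1, fun h => ha'.2.1 h.symm, ha'.2.2.symm⟩
    have hea' : e ∈ Dset D a' := ⟨he.1, fun h => ha'e.2.1 h.symm, ha'e.2.2.symm⟩
    have hthA : Th D a a' := dset_eq_of_pair hD hconj hL ha ha'.1 hd he hda' hea' hde
    have hr2 : a * a' ∈ Cfsg.pCore 3 G :=
      mul_mem_pCore_three hD hconj ha ha'.1 hthA (Ne.symm hne')
    have ha'2 := sq_one hD ha'.1
    have ha'i := inv_self hD ha'.1
    have hnaa' : ¬ Commute a a' := (hL.three d hd.1 a had a' ha' (Ne.symm hne')).1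
    have hnxa' : ¬ Commute x a' := by
      intro h
      have hxa' : x ∈ Dset D a' := by
        refine ⟨hx, ?_, h.symm⟩
        intro h'
        apply hnxd
        rw [h']; exact ha'.2.2.symm
      have : Dset D a = Dset D a' := hthA
      rw [← this] at hxa'
      exact hnxa hxa'.2.2.symm
    have bxa' := braid' hD hx ha'.1 hnxa'
    refine o3_four_false (hO d hd.1) hr2 hζm ?_ hzd ?_ ?_ ?_ ?_ ?_
    · exact (hd.2.2).mul_left (ha'.2.2.symm)
    · intro h
      apply hne'
      calc a' = (a * a) * a' := by rw [ha2, one_mul]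
        _ = a * (a * a') := by rw [mul_assoc]
        _ = a := by rw [h, mul_one]
    · intro h
      apply hnaa'
      rw [mul_inv_rev, hai, ha'i] at h
      exact h
    · intro h
      apply hkill
      rw [h, mul_one, ha2, mul_one] at hcP
      exact hcP
    · intro h
      apply hne'
      have : Commute x (a * a') := by rw [← h]; exact hzx.symm
      exact (eq_of_commute_mul hx2 ha2 ha'2 bxa bxa' this).symm
    · intro h
      rw [mul_inv_rev, hai, ha'i] at h
      have : Commute x (a' * a) := by rw [← h]; exact hzx.symm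
      exact hne' (eq_of_commute_mul hx2 ha'2 ha2 bxa' bxa this)
  · -- the other case: `ζ` centralizes `a`
    have hza : ζ⁻¹ * a * ζ = a := by
      by_contra hne
      apply hth
      have m1 : ζ⁻¹ * a * ζ ∈ D := by
        have := hconj ζ⁻¹ a ha
        rwa [inv_inv] at this
      have mk : ∀ t : G, t ∈ Dset D a → Commute ζ t → ζ⁻¹ * a * ζ ∈ Dset D t := by
        intro t ht hzt
        refine ⟨m1, ?_, ?_⟩
        · intro h
          apply ht.2.1
          have : a = ζ * t * ζ⁻¹ := by
            rw [← h]; simp only [mul_assoc, mul_inv_cancel_left, mul_inv_cancel, mul_one]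
          rw [this, hzt.eq]
          simp only [mul_assoc, mul_inv_cancel, mul_one]
        · have h1 : t = ζ⁻¹ * t * ζ := by
            rw [mul_assoc, ← hzt.eq, inv_mul_cancel_left]
          have h2 : Commute (ζ⁻¹ * t * ζ) (ζ⁻¹ * a * ζ) := by
            have := (Commute.conj_iff ζ⁻¹).mpr ht.2.2.symm
            rwa [inv_inv] at this
          rw [← h1] at h2
          exact h2
      have had : a ∈ Dset D d := ⟨ha, fun h => hd.2.1 h.symm, hd.2.2.symm⟩
      have hae : a ∈ Dset D e := ⟨ha, fun h => he.2.1 h.symm, he.2.2.symm⟩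
      exact dset_eq_of_pair hD hconj hL hd.1 he.1 had (mk d hd hzd) hae (mk e he hze)
        (Ne.symm hne)
    have haz : a * ζ * a = ζ := by
      have : a * ζ = ζ * a := by
        calc a * ζ = ζ * (ζ⁻¹ * a * ζ) := by simp only [mul_assoc, mul_inv_cancel_left]
          _ = ζ * a := by rw [hza]
      rw [this, mul_assoc, ha2, mul_one]
    rw [haz] at hcP
    apply hkill
    have : d * e * d * e = (d * e * d * e) * ζ * ζ⁻¹ := by
      simp only [mul_assoc, mul_inv_cancel, mul_one]
    rw [this]
    exact hcP.mul_right (hzx.symm.inv_right)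

end Main

end Cfsg.Agent.Helper4.S5Trans
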