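import Mathlib
import Cfsg.Prelude.Def_FischerSpaces
import Cfsg.Agent.Helper4.S5TransC
import Cfsg.Agent.S2530

set_option autoImplicit false
set_option linter.style.haveILetI false
set_option linter.unusedSectionVars false
set_option linter.unusedVariables false
set_option linter.unusedSimpArgs false

/-!
# The two end cases: `S₃ × S₃` and `S₅`
-/

namespace Cfsg.Agent.Helper4.S5Trans

open Equiv Cfsg.Agent.Helper4.ThreeTransO3

theorem center3 : ∀ g : Perm (Fin 3), g * swap 0 1 = swap 0 1 * g → g * swap 1 2 = swap 1 2 * g →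
    g = 1 := by
  decide

set_option maxRecDepth 100000 in
theorem center5 : ∀ g : Perm (Fin 5), g * swap 0 1 = swap 0 1 * g → g * swap 1 2 = swap 1 2 * g →
    g * swap 2 3 = swap 2 3 * g → g * swap 3 4 = swap 3 4 * g → g = 1 := by
  decide +kernel

theorem sign_dt : Perm.sign (swap (0 : Fin 5) 1 * swap 2 3) = 1 := by decide

/-- A homomorphism from `S₅` not killing a double transposition is injective. -/
theorem injective_of_S5 {G : Type*} [Group G] (φ : Perm (Fin 5) →* G)
    (h : φ (swap 0 1 * swap 2 3) ≠ 1) : Function.Injective φ := by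
  rw [← MonoidHom.ker_eq_bot_iff]
  by_contra hne
  obtain ⟨g, hg, hg1⟩ : ∃ g ∈ φ.ker, g ≠ 1 := by
    by_contra h'
    push Not at h'
    apply hne
    rw [Subgroup.eq_bot_iff_forall]
    exact h'
  have hn : (φ.ker.subgroupOf (alternatingGroup (Fin 5))).Normal := inferInstance
  rcases hn.eq_bot_or_eq_top with hb | ht
  · have hcomm : ∀ k : Perm (Fin 5), g * k = k * g := by
      intro k
      have hc : g * (k * g⁻¹ * k⁻¹) ∈ φ.ker :=
        mul_mem hg ((inferInstance : φ.ker.Normal).conj_mem _ (inv_mem hg) k)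
      have hA : g * (k * g⁻¹ * k⁻¹) ∈ alternatingGroup (Fin 5) := by
        rw [Equiv.Perm.mem_alternatingGroup]
        simp only [map_mul, map_inv]
        rw [mul_comm (Perm.sign k), mul_assoc, mul_inv_cancel, mul_one, mul_inv_cancel]
      have hm : (⟨g * (k * g⁻¹ * k⁻¹), hA⟩ : alternatingGroup (Fin 5)) ∈
          φ.ker.subgroupOf (alternatingGroup (Fin 5)) := by
        rw [Subgroup.mem_subgroupOf]; exact hc
      rw [hb, Subgroup.mem_bot] at hm
      have h1 : g * (k * g⁻¹ * k⁻¹) = 1 := congrArg Subtype.val hm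
      calc g * k = g * (k * g⁻¹ * k⁻¹) * (k * g) := by
            simp only [mul_assoc, inv_mul_cancel_left, inv_mul_cancel, mul_one]
        _ = k * g := by rw [h1, one_mul]
    exact hg1 (center5 g (hcomm _) (hcomm _) (hcomm _) (hcomm _))
  · apply h
    have hA : swap (0 : Fin 5) 1 * swap 2 3 ∈ alternatingGroup (Fin 5) := by
      rw [Equiv.Perm.mem_alternatingGroup]; exact sign_dt
    have hm : (⟨_, hA⟩ : alternatingGroup (Fin 5)) ∈
        φ.ker.subgroupOf (alternatingGroup (Fin 5)) := by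
      rw [ht]; trivial
    rw [Subgroup.mem_subgroupOf] at hm
    exact hm

section Main

variable {G : Type*} [Group G] [Finite G] {D : Set G}
variable (hD : Cfsg.IsThreeTranspositionSet D) (hconj : ∀ g : G, ∀ x ∈ D, g * x * g⁻¹ ∈ D)
variable (hL : Loc D)
variable (hO : ∀ d ∈ D, Nat.card (Cfsg.pCore 3 ↥(Subgroup.centralizer ({d} : Set G))) = 3)

include hD hconj hL hO in
/-- The case of two lines: `S₃ × S₃`. -/
theorem case_K {a₀ d e : G} (ha : a₀ ∈ D) (hd : d ∈ Dset D a₀) (he : e ∈ Dset D a₀) (hde : d ≠ e)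
    (hth : Th D d e) (e₁ : ↥(Subgroup.closure (Dset D a₀)) ≃* Perm (Fin 3))
    (e₂ : ↥(Subgroup.closure (Dset D d)) ≃* Perm (Fin 3)) :
    Nonempty (↥(Subgroup.closure D) ≃* Perm (Fin 3) × Perm (Fin 3)) := by
  obtain ⟨hnde, hall⟩ := hL.three a₀ ha d hd e he hde
  have hdi := inv_self hD hd.1
  have had : a₀ ∈ Dset D d := ⟨ha, fun h => hd.2.1 h.symm, hd.2.2.symm⟩
  have hthf : Dset D (d * e * d) = Dset D d := by
    have h1 := th_conj_self hconj hth.symm
    rw [hdi] at h1
    exact h1.trans hth.symm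
  have hthe : Dset D e = Dset D d := hth.symm
  have hsub : ∀ x ∈ D, x ∈ Dset D a₀ ∨ x ∈ Dset D d := by
    intro x hx
    rcases dist_le_two hD hconj hL hO ha hx with h | hc | ⟨y, hy, hc⟩
    · right; rw [h]; exact had
    · by_cases h : x = a₀
      · right; rw [h]; exact had
      · left; exact ⟨hx, h, hc.symm⟩
    · by_cases hxy : x = y
      · left; rw [hxy]; exact hy
      · right
        have hxy' : x ∈ Dset D y := ⟨hx, hxy, hc.symm⟩
        rcases hall y hy with h | h | h
        · rw [h] at hxy'; exact hxy'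
        · rw [h, hthe] at hxy'; exact hxy'
        · rw [h, hthf] at hxy'; exact hxy'
  set H₁ := Subgroup.closure (Dset D a₀) with hH₁
  set H₂ := Subgroup.closure (Dset D d) with hH₂
  have hcl : Subgroup.closure D = H₁ ⊔ H₂ := by
    apply le_antisymm
    · rw [Subgroup.closure_le]
      intro x hx
      rcases hsub x hx with h | h
      · exact (le_sup_left : H₁ ≤ H₁ ⊔ H₂) (Subgroup.subset_closure h)
      · exact (le_sup_right : H₂ ≤ H₁ ⊔ H₂) (Subgroup.subset_closure h)
    · apply sup_le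
      · exact Subgroup.closure_mono (fun y hy => hy.1)
      · exact Subgroup.closure_mono (fun y hy => hy.1)
  -- the two factors commute
  have hH₂c : H₂ ≤ Subgroup.centralizer (H₁ : Set G) := by
    rw [hH₁, Subgroup.centralizer_closure, hH₂, Subgroup.closure_le]
    intro t ht
    rw [SetLike.mem_coe, Subgroup.mem_centralizer_iff]
    intro s hs
    have hte : t ∈ Dset D e := by rw [hthe]; exact ht
    have c1 : Commute d t := ht.2.2
    have c2 : Commute e t := hte.2.2
    rcases hall s hs with h | h | h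
    · rw [h]; exact c1.eq
    · rw [h]; exact c2.eq
    · rw [h]; exact ((c1.mul_left c2).mul_left c1).eq
  have comm : ∀ (g : ↥H₁) (k : ↥H₂), Commute (H₁.subtype g) (H₂.subtype k) := by
    intro g k
    have := hH₂c k.2
    rw [Subgroup.mem_centralizer_iff] at this
    exact this g.1 g.2
  -- the intersection is trivial
  have hdisj : H₁ ⊓ H₂ = ⊥ := by
    rw [Subgroup.eq_bot_iff_forall]
    intro g hg
    obtain ⟨hg1, hg2⟩ := Subgroup.mem_inf.mp hg
    have hc : ∀ k : ↥H₁, (⟨g, hg1⟩ : ↥H₁) * k = k * ⟨g, hg1⟩ := by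
      intro k
      apply Subtype.ext
      have := hH₂c hg2
      rw [Subgroup.mem_centralizer_iff] at this
      exact (this k.1 k.2).symm
    have hc' : ∀ σ : Perm (Fin 3), e₁ ⟨g, hg1⟩ * σ = σ * e₁ ⟨g, hg1⟩ := by
      intro σ
      have := congrArg e₁ (hc (e₁.symm σ))
      rwa [map_mul, map_mul, e₁.apply_symm_apply] at this
    have h1 := center3 _ (hc' _) (hc' _)
    have h2 : (⟨g, hg1⟩ : ↥H₁) = 1 := by
      apply e₁.injective; rw [h1, map_one]
    exact congrArg Subtype.val h2
  let ψ : ↥H₁ × ↥H₂ →* G := MonoidHom.noncommCoprod H₁.subtype H₂.subtype comm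
  have hinj : Function.Injective ψ := by
    rw [MonoidHom.noncommCoprod_injective]
    refine ⟨Subgroup.subtype_injective _, Subgroup.subtype_injective _, ?_⟩
    rw [Subgroup.range_subtype, Subgroup.range_subtype, disjoint_iff]
    exact hdisj
  have hrange : ψ.range = Subgroup.closure D := by
    rw [hcl, MonoidHom.noncommCoprod_range, Subgroup.range_subtype, Subgroup.range_subtype]
  exact ⟨((MulEquiv.subgroupCongr hrange).symm.trans (MonoidHom.ofInjective hinj).symm).trans
    (MulEquiv.prodCongr e₁ e₂)⟩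

include hD hconj hL hO in
/-- The case of the Petersen graph: `S₅`. -/
theorem case_S5 {a₀ d e : G} (ha : a₀ ∈ D) (hd : d ∈ Dset D a₀) (he : e ∈ Dset D a₀) (hde : d ≠ e)
    (hth : ¬ Th D d e) : Nonempty (↥(Subgroup.closure D) ≃* Perm (Fin 5)) := by
  obtain ⟨hnde, hall⟩ := hL.three a₀ ha d hd e he hde
  have hdi := inv_self hD hd.1
  have hei := inv_self hD he.1
  have hd2 := sq_one hD hd.1
  have he2 := sq_one hD he.1
  have ha2 := sq_one hD ha
  have had : a₀ ∈ Dset D d := ⟨ha, fun h => hd.2.1 h.symm, hd.2.2.symm⟩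
  have hae : a₀ ∈ Dset D e := ⟨ha, fun h => he.2.1 h.symm, he.2.2.symm⟩
  obtain ⟨t, ht, hne⟩ : ∃ t, t ∈ Dset D e ∧ t ≠ a₀ := by
    obtain ⟨s, t, hs, ht, hst⟩ := hL.pair e he.1
    by_cases h : s = a₀
    · exact ⟨t, ht, fun h' => hst (h.trans h'.symm)⟩
    · exact ⟨s, hs, h⟩
  have ht2 := sq_one hD ht.1
  obtain ⟨hnat, hall_e⟩ := hL.three e he.1 a₀ hae t ht (Ne.symm hne)
  have hntd : ¬ Commute t d := by
    intro hc
    apply hth
    have htd : t ∈ Dset D d := by
      refine ⟨ht.1, ?_, hc.symm⟩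
      intro h
      apply hnde
      rw [← h]; exact ht.2.2.symm
    exact dset_eq_of_pair hD hconj hL hd.1 he.1 had htd hae ht (Ne.symm hne)
  -- the Coxeter generators
  let f : Fin 4 → G := ![a₀, t, d, e]
  have sq2 : ∀ {u v : G}, u * u = 1 → v * v = 1 → Commute u v → (u * v) ^ 2 = 1 := by
    intro u v hu hv hc
    rw [hc.mul_pow, pow_two, pow_two, hu, hv, one_mul]
  have c3 := @cube_of_not_commute G _ _ D hD
  have hf : (CoxeterMatrix.A 4).IsLiftable f := by
    intro i j
    rw [Cfsg.Agent.S2530.A_apply]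
    fin_cases i <;> fin_cases j
    · change (a₀ * a₀) ^ 1 = 1; rw [ha2, one_pow]
    · change (a₀ * t) ^ 3 = 1; exact c3 ha ht.1 hnat
    · change (a₀ * d) ^ 2 = 1; exact sq2 ha2 hd2 hd.2.2
    · change (a₀ * e) ^ 2 = 1; exact sq2 ha2 he2 he.2.2
    · change (t * a₀) ^ 3 = 1; exact c3 ht.1 ha (fun h => hnat h.symm)
    · change (t * t) ^ 1 = 1; rw [ht2, one_pow]
    · change (t * d) ^ 3 = 1; exact c3 ht.1 hd.1 hntd
    · change (t * e) ^ 2 = 1; exact sq2 ht2 he2 ht.2.2.symm
    · change (d * a₀) ^ 2 = 1; exact sq2 hd2 ha2 hd.2.2.symm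
    · change (d * t) ^ 3 = 1; exact c3 hd.1 ht.1 (fun h => hntd h.symm)
    · change (d * d) ^ 1 = 1; rw [hd2, one_pow]
    · change (d * e) ^ 3 = 1; exact c3 hd.1 he.1 hnde
    · change (e * a₀) ^ 2 = 1; exact sq2 he2 ha2 he.2.2.symm
    · change (e * t) ^ 2 = 1; exact sq2 he2 ht2 ht.2.2
    · change (e * d) ^ 3 = 1; exact c3 he.1 hd.1 (fun h => hnde h.symm)
    · change (e * e) ^ 1 = 1; rw [he2, one_pow]
  obtain ⟨cs, hcs⟩ := Cfsg.Agent.S2530.result 4
  let φ : Perm (Fin 5) →* G := cs.lift ⟨f, hf⟩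
  have hφ : ∀ i : Fin 4, φ (cs.simple i) = f i := fun i => cs.lift_apply_simple hf i
  have hφ0 : φ (swap 0 1) = a₀ := by
    have := hφ 0; rw [hcs] at this; exact this
  have hφ1 : φ (swap 1 2) = t := by
    have := hφ 1; rw [hcs] at this; exact this
  have hφ2 : φ (swap 2 3) = d := by
    have := hφ 2; rw [hcs] at this; exact this
  have hφ3 : φ (swap 3 4) = e := by
    have := hφ 3; rw [hcs] at this; exact this
  have hinj : Function.Injective φ := by
    apply injective_of_S5
    rw [map_mul, hφ0, hφ2]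
    intro h
    apply hd.2.1
    calc d = (a₀ * a₀) * d := by rw [ha2, one_mul]
      _ = a₀ * (a₀ * d) := by rw [mul_assoc]
      _ = a₀ := by rw [h, mul_one]
  -- the range contains `D`
  have m0 : a₀ ∈ φ.range := ⟨_, hφ0⟩
  have m1 : t ∈ φ.range := ⟨_, hφ1⟩
  have m2 : d ∈ φ.range := ⟨_, hφ2⟩
  have m3 : e ∈ φ.range := ⟨_, hφ3⟩
  have mf : d * e * d ∈ φ.range := mul_mem (mul_mem m2 m3) m2
  have s0 : ∀ y ∈ Dset D a₀, y ∈ φ.range := by
    intro y hy
    rcases hall y hy with h | h | h
    · rw [h]; exact m2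
    · rw [h]; exact m3
    · rw [h]; exact mf
  have se : ∀ y ∈ Dset D e, y ∈ φ.range := by
    intro y hy
    rcases hall_e y hy with h | h | h
    · rw [h]; exact m0
    · rw [h]; exact m1
    · rw [h]; exact mul_mem (mul_mem m0 m1) m0
  have bde := braid' hD hd.1 he.1 hnde
  have sd : ∀ y ∈ Dset D d, y ∈ φ.range := by
    intro y hy
    -- e = g d g⁻¹ with g = d e d
    have hg : (d * e * d) * d * (d * e * d)⁻¹ = e := by
      have cd : ∀ w, d * (d * w) = w := fun w => by rw [← mul_assoc, hd2, one_mul]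
      have ce : ∀ w, e * (e * w) = w := fun w => by rw [← mul_assoc, he2, one_mul]
      have b : ∀ w, d * (e * (d * w)) = e * (d * (e * w)) := fun w => by
        rw [← mul_assoc, ← mul_assoc, bde]; simp only [mul_assoc]
      simp only [mul_inv_rev, hdi, hei, mul_assoc, cd]
      rw [b, ce, hd2, mul_one]
    have h1 : (d * e * d) * y * (d * e * d)⁻¹ ∈ Dset D e := by
      have key := mem_dset_conj_iff hconj (d * e * d) d ((d * e * d) * y * (d * e * d)⁻¹)
      rw [hg] at key
      rw [key]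
      have : (d * e * d)⁻¹ * ((d * e * d) * y * (d * e * d)⁻¹) * (d * e * d) = y := by
        group
      rw [this]; exact hy
    have h2 := se _ h1
    have : y = (d * e * d)⁻¹ * ((d * e * d) * y * (d * e * d)⁻¹) * (d * e * d) := by
      group
    rw [this]
    exact mul_mem (mul_mem (inv_mem mf) h2) mf
  have sf : ∀ y ∈ Dset D (d * e * d), y ∈ φ.range := by
    intro y hy
    have hy' : y ∈ Dset D (d * e * d⁻¹) := by rw [hdi]; exact hy
    rw [mem_dset_conj_iff hconj] at hy'
    have h2 := se _ hy'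
    have : y = d * (d⁻¹ * y * d) * d⁻¹ := by
      simp only [mul_assoc, mul_inv_cancel_left, mul_inv_cancel, mul_one]
    rw [this]
    exact mul_mem (mul_mem m2 h2) (inv_mem m2)
  have hsubD : ∀ x ∈ D, x ∈ φ.range := by
    intro x hx
    rcases dist_le_two hD hconj hL hO ha hx with h | hc | ⟨y, hy, hc⟩
    · rw [h]; exact m0
    · by_cases h : x = a₀
      · rw [h]; exact m0
      · exact s0 x ⟨hx, h, hc.symm⟩
    · by_cases hxy : x = y
      · rw [hxy]; exact s0 y hy
      · have hxy' : x ∈ Dset D y := ⟨hx, hxy, hc.symm⟩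
        rcases hall y hy with h | h | h
        · rw [h] at hxy'; exact sd x hxy'
        · rw [h] at hxy'; exact se x hxy'
        · rw [h] at hxy'; exact sf x hxy'
  have hrange : φ.range = Subgroup.closure D := by
    apply le_antisymm
    · rw [MonoidHom.range_eq_map, ← cs.subgroup_closure_range_simple, MonoidHom.map_closure,
        Subgroup.closure_le]
      rintro _ ⟨_, ⟨i, rfl⟩, rfl⟩
      rw [hφ i]
      apply Subgroup.subset_closure
      fin_cases i
      · exact ha
      · exact ht.1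
      · exact hd.1
      · exact he.1
    · rw [Subgroup.closure_le]
      exact hsubD
  exact ⟨(MulEquiv.subgroupCongr hrange).symm.trans (MonoidHom.ofInjective hinj).symm⟩

end Main

end Cfsg.Agent.Helper4.S5Trans
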