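import Mathlib
import Cfsg.Prelude.Def_GeometricClasses
import Cfsg.Prelude.Def_Classical
import Cfsg.Prelude.Def_LieClassical
import Cfsg.Agent.Helper20.S6000Defs
import Cfsg.Agent.Helper28.S6001Defs
import Cfsg.Agent.Helper20.S6000SYL5
import Cfsg.Agent.Helper21.S6001CYC5U

set_option autoImplicit false
open scoped MatrixGroups Matrix

/-! S6001 piece SYL5U (driver helper28): for `ord_5(p) = 4` the elements of order 5 of `SU_4(p)`
generate conjugate subgroups (the Sylow 5-subgroups are cyclic). -/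

namespace Cfsg.Agent.S6001P

open Cfsg.Agent.S6000P

namespace SYL5U

/-- the generic statement: in a finite group whose Sylow 5-subgroups are cyclic, two elements of order 5
are conjugate up to a power -/
theorem conj_of_cyclic {G : Type*} [Group G] [Finite G]
    (hcyc : ∀ Q : Sylow 5 G, IsCyclic (Q : Subgroup G))
    (x y : G) (hx5 : x ^ 5 = 1) (hx1 : x ≠ 1) (hy5 : y ^ 5 = 1) (hy1 : y ≠ 1) :
    ∃ g : G, ∃ k : ℕ, g⁻¹ * x * g = y ^ k := by
  classical
  haveI : Fact (Nat.Prime 5) := ⟨by norm_num⟩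
  have hPx : IsPGroup 5 (Subgroup.zpowers x) :=
    IsPGroup.of_card (n := 1) (by rw [Nat.card_zpowers, orderOf_eq_prime hx5 hx1, pow_one])
  have hPy : IsPGroup 5 (Subgroup.zpowers y) :=
    IsPGroup.of_card (n := 1) (by rw [Nat.card_zpowers, orderOf_eq_prime hy5 hy1, pow_one])
  obtain ⟨P, hP⟩ := hPx.exists_le_sylow
  obtain ⟨Q, hQ⟩ := hPy.exists_le_sylow
  obtain ⟨h, hh⟩ := MulAction.exists_smul_eq G P Q
  have hxP : x ∈ P := hP (Subgroup.mem_zpowers x)
  have hyQ : y ∈ Q := hQ (Subgroup.mem_zpowers y)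
  have hxQ : h * x * h⁻¹ ∈ Q := by
    rw [← hh]
    show h * x * h⁻¹ ∈ ((h • P : Sylow 5 G) : Subgroup G)
    rw [Sylow.coe_subgroup_smul, Subgroup.mem_pointwise_smul_iff_inv_smul_mem]
    have : (MulAut.conj h)⁻¹ • (h * x * h⁻¹) = x := by
      rw [← map_inv, MulAut.smul_def, MulAut.conj_apply]
      group
    rw [this]
    exact hxP
  haveI := hcyc Q
  have hmem := Cfsg.Agent.S6000P.SYL5.mem_zpowers_of_cyclic (Q := (Q : Subgroup G)) 5 (by norm_num)
    ⟨h * x * h⁻¹, hxQ⟩ ⟨y, hyQ⟩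
    (by
      apply Subtype.ext
      show (h * x * h⁻¹) ^ 5 = 1
      rw [conj_pow, hx5, mul_one, mul_inv_cancel])
    (by
      apply orderOf_eq_prime
      · apply Subtype.ext
        exact hy5
      · intro h1
        exact hy1 (congrArg Subtype.val h1))
  have hfin : IsOfFinOrder (⟨y, hyQ⟩ : (Q : Subgroup G)) := isOfFinOrder_of_finite _
  rw [← hfin.mem_powers_iff_mem_zpowers, Submonoid.mem_powers_iff] at hmem
  obtain ⟨k, hk⟩ := hmem
  refine ⟨h⁻¹, k, ?_⟩
  have h5 := congrArg (fun t : (Q : Subgroup G) => (t : G)) hk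
  simp only [SubmonoidClass.coe_pow] at h5
  rw [inv_inv]
  exact h5.symm

end SYL5U

/-- SYL5U -/
theorem conj_pow_of_five_u {F : Type*} [Field F] [Fintype F] {p : ℕ} [Fact p.Prime] [CharP F p]
    (hF : Fintype.card F = p ^ 2) (hp4 : p % 4 = 3) (hord : orderOf (p : ZMod 5) = 4)
    (x y : GL (Fin 4) F) (hx : x ∈ Cfsg.GU 4 F p ⊓ Cfsg.Geo.specialLinear (Fin 4) F)
    (hy : y ∈ Cfsg.GU 4 F p ⊓ Cfsg.Geo.specialLinear (Fin 4) F) (hx5 : x ^ 5 = 1) (hx1 : x ≠ 1)
    (hy5 : y ^ 5 = 1) (hy1 : y ≠ 1) :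
    ∃ g ∈ Cfsg.GU 4 F p ⊓ Cfsg.Geo.specialLinear (Fin 4) F, ∃ k : ℕ, g⁻¹ * x * g = y ^ k := by
  classical
  set G : Subgroup (GL (Fin 4) F) := Cfsg.GU 4 F p ⊓ Cfsg.Geo.specialLinear (Fin 4) F with hG
  haveI : Finite (GL (Fin 4) F) := inferInstance
  have hcyc : ∀ Q : Sylow 5 ↥G, IsCyclic (Q : Subgroup ↥G) := by
    intro Q
    set P : Subgroup (GL (Fin 4) F) := (Q : Subgroup ↥G).map G.subtype with hP
    have hPU : P ≤ Cfsg.GU 4 F p := by
      rintro _ ⟨a, -, rfl⟩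
      exact (Subgroup.mem_inf.mp a.2).1
    have hPp : IsPGroup 5 P := Q.isPGroup'.map G.subtype
    haveI := isCyclic_of_five_group_u hF hp4 hord P hPU hPp
    let e : (Q : Subgroup ↥G) ≃* P :=
      (Q : Subgroup ↥G).equivMapOfInjective G.subtype G.subtype_injective
    exact isCyclic_of_surjective e.symm e.symm.surjective
  obtain ⟨g, k, hgk⟩ := SYL5U.conj_of_cyclic hcyc ⟨x, hx⟩ ⟨y, hy⟩
    (Subtype.ext (by simpa using hx5)) (fun h => hx1 (congrArg Subtype.val h))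
    (Subtype.ext (by simpa using hy5)) (fun h => hy1 (congrArg Subtype.val h))
  refine ⟨g.1, g.2, k, ?_⟩
  have := congrArg (fun t : ↥G => (t : GL (Fin 4) F)) hgk
  simpa using this

end Cfsg.Agent.S6001P
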