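import Mathlib
import Cfsg.Prelude.Def_GeometricClasses
import Cfsg.Prelude.Def_ClassicalGeometry
import Cfsg.Agent.Helper4.S6002Defs
import Cfsg.Agent.Helper24.S5976ZPM

set_option autoImplicit false
open scoped MatrixGroups Matrix

/-! S6002 piece CAUCHY. -/

namespace Cfsg.Agent.S6002P

/-- CAUCHY -/
theorem exists_elt_of_dvd {F : Type*} [Field F] [Fintype F] (R : Subgroup (GL I4 F)) (r : ℕ)
    [Fact r.Prime] (hr2 : r ≠ 2)
    (hΩ : r ∣ (Cfsg.Geo.subgroupNormalizer R).relIndex (Cfsg.spGL 2 F)) :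
    ∃ x ∈ Cfsg.spGL 2 F, ((x ^ r : GL I4 F) : M4 F) = 1 ∧
      ∀ z : F, (x : M4 F) ≠ z • (1 : M4 F) := by
  classical
  have hrP : r.Prime := Fact.out
  haveI : Finite (GL I4 F) := inferInstance
  have hdvd : r ∣ Nat.card ↥(Cfsg.spGL 2 F) :=
    dvd_trans hΩ (Subgroup.relIndex_dvd_card _ _)
  obtain ⟨x, hx⟩ := exists_prime_orderOf_dvd_card' r hdvd
  refine ⟨x.1, x.2, ?_, ?_⟩
  · have h1 : x ^ r = 1 := by rw [← hx]; exact pow_orderOf_eq_one x
    have h2 : x.1 ^ r = 1 := by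
      have := congrArg Subtype.val h1
      simpa using this
    rw [h2, Units.val_one]
  · intro z hz
    have hzz : z * z = 1 := by
      apply Cfsg.Agent.S5976P.scalar_sq_eq_one 2 (by norm_num) 1 x.1 x.2 z
      rw [pow_one]
      exact hz
    have h1 : x.1 ^ 2 = 1 := by
      apply Units.ext
      rw [pow_two, Units.val_mul, hz, Matrix.smul_mul, Matrix.mul_smul, Matrix.one_mul, smul_smul, hzz,
        one_smul, Units.val_one]
    have h2 : x ^ 2 = 1 := Subtype.ext (by simpa using h1)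
    have h3 : orderOf x ∣ 2 := orderOf_dvd_of_pow_eq_one h2
    rw [hx] at h3
    exact hr2 ((Nat.prime_dvd_prime_iff_eq hrP Nat.prime_two).mp h3)

end Cfsg.Agent.S6002P
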