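import Mathlib
import Cfsg.Prelude.Def_GeometricClasses
import Cfsg.Prelude.Def_ClassicalGeometry
import Cfsg.Agent.Helper4.S6002Defs
import Cfsg.Agent.Helper4.S6002FIX

set_option autoImplicit false
open scoped MatrixGroups Matrix

/-! S6002 piece CENTCARD: the order of `C_R(y)` for `y` in the normalizer of `R`. -/

namespace Cfsg.Agent.S6002P

/-- the centralizer of `y` in `R` -/
def centR {F : Type*} [Field F] (R : Subgroup (GL I4 F)) (y : GL I4 F) : Subgroup (GL I4 F) :=
  R ⊓ Subgroup.centralizer ({y} : Set (GL I4 F))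

theorem mem_centR {F : Type*} [Field F] (R : Subgroup (GL I4 F)) (y a : GL I4 F) :
    a ∈ centR R y ↔ a ∈ R ∧ y * a * y⁻¹ = a := by
  unfold centR
  rw [Subgroup.mem_inf, Subgroup.mem_centralizer_iff]
  constructor
  · rintro ⟨ha, hc⟩
    refine ⟨ha, ?_⟩
    rw [hc y rfl, mul_assoc, mul_inv_cancel, mul_one]
  · rintro ⟨ha, hc⟩
    refine ⟨ha, ?_⟩
    intro g hg
    rw [Set.mem_singleton_iff] at hg
    subst hg
    calc g * a = (g * a * g⁻¹) * g := by group
      _ = a * g := by rw [hc]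

theorem card_centR {F : Type*} [Field F] (R : Subgroup (GL I4 F)) (y : GL I4 F) :
    Nat.card {a : GL I4 F // a ∈ R ∧ y * a * y⁻¹ = a} = Nat.card (centR R y) :=
  Nat.card_congr (Equiv.subtypeEquivRight (fun a => (mem_centR R y a).symm))

/-- CENTCARD -/
theorem card_cent {F : Type*} [Field F] {R : Subgroup (GL I4 F)} (h : HypR0 R) (y : GL I4 F)
    (hy : y ∈ Cfsg.Geo.subgroupNormalizer R) (r : ℕ) [Fact r.Prime]
    (hyr : ∃ z : F, ((y ^ r : GL I4 F) : M4 F) = z • (1 : M4 F))
    (hns : ∀ z : F, (y : M4 F) ≠ z • (1 : M4 F)) :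
    ∃ k : ℕ, 1 ≤ k ∧ k ≤ 4 ∧
      Nat.card {a : GL I4 F // a ∈ R ∧ y * a * y⁻¹ = a} = 2 ^ k ∧ 32 ≡ 2 ^ k [MOD r] := by
  classical
  obtain ⟨z, hz⟩ := hyr
  have hN := (mem_normalizer_iff' R y).mp hy
  haveI : Finite ↥R := Nat.finite_of_card_ne_zero (by rw [h.card]; norm_num)
  have hle : centR R y ≤ R := inf_le_left
  haveI : Finite ↥(centR R y) := Finite.of_injective (fun a => (⟨a.1, hle a.2⟩ : ↥R))
    (fun a b e => Subtype.ext (congrArg (fun u : ↥R => u.1) e))
  have hdvd : Nat.card (centR R y) ∣ 2 ^ 5 := by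
    have := Subgroup.card_dvd_of_le hle
    rw [h.card] at this
    exact this
  obtain ⟨k, hk5, hk⟩ := (Nat.dvd_prime_pow Nat.prime_two).mp hdvd
  have hfix := card_modEq_card_fixed (R : Set (GL I4 F)) (Set.toFinite _) y r
    (fun a ha => (hN a).mp ha) (fun a _ => conj_eq_of_scalar hz a)
  have hRc : Nat.card (R : Set (GL I4 F)) = 32 := h.card
  rw [hRc] at hfix
  have hcard : Nat.card {a : GL I4 F // a ∈ R ∧ y * a * y⁻¹ = a} = 2 ^ k := by
    rw [card_centR, hk]
  refine ⟨k, ?_, ?_, hcard, ?_⟩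
  · by_contra hk0
    have hk0' : k = 0 := by omega
    rw [hk0', pow_zero] at hk
    haveI : Subsingleton ↥(centR R y) := (Nat.card_eq_one_iff_unique.mp hk).1
    have h1 : (1 : GL I4 F) ∈ centR R y := Subgroup.one_mem _
    have h2 : (-1 : GL I4 F) ∈ centR R y := by
      rw [mem_centR]
      refine ⟨h.neg_mem, ?_⟩
      rw [mul_neg, neg_mul, mul_one, mul_inv_cancel]
    have := Subsingleton.elim (⟨1, h1⟩ : ↥(centR R y)) ⟨-1, h2⟩
    exact neg_one_ne_one h.two_ne (congrArg Subtype.val this).symm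
  · by_contra hk4
    have hk5' : k = 5 := by omega
    rw [hk5'] at hk
    have heq : centR R y = R := by
      apply Subgroup.eq_of_le_of_card_ge hle
      rw [hk, h.card]
      norm_num
    obtain ⟨c, hc⟩ := h.scalar_of_commute (y : M4 F) (by
      intro a ha
      rw [← heq, mem_centR] at ha
      have : y * a = a * y := by
        calc y * a = (y * a * y⁻¹) * y := by group
          _ = a * y := by rw [ha.2]
      rw [← Units.val_mul, ← Units.val_mul, this])
    exact hns c hc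
  · have : (fun a : GL I4 F => a ∈ (R : Set (GL I4 F)) ∧ y * a * y⁻¹ = a) =
        (fun a : GL I4 F => a ∈ R ∧ y * a * y⁻¹ = a) := rfl
    rw [← hcard]
    exact hfix

end Cfsg.Agent.S6002P
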