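import Mathlib
import Cfsg.Prelude.Def_GeometricClasses
import Cfsg.Prelude.Def_ClassicalGeometry
import Cfsg.Agent.Helper4.S6002Defs
import Cfsg.Agent.Helper3.ES2

set_option autoImplicit false
open scoped MatrixGroups Matrix

/-! S6002 piece ES2INST. -/

namespace Cfsg.Agent.S6002P

/-- ES2INST -/
theorem es2_of_hypR {F : Type*} [Field F] {R : Subgroup (GL I4 F)} (h : HypR0 R) :
    Cfsg.Agent.Helper3.ES2 ↥R ⟨-1, h.neg_mem⟩ := by
  refine ⟨?_, ?_, ?_, ?_, ?_, ?_⟩
  · intro e
    exact neg_one_ne_one h.two_ne (congrArg Subtype.val e)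
  · intro g
    apply Subtype.ext
    show g.1 * (-1) = (-1) * g.1
    rw [mul_neg, neg_mul, mul_one, one_mul]
  · intro g hg
    have := h.center g.1 g.2 (fun b hb => congrArg Subtype.val (hg ⟨b, hb⟩))
    rcases this with e | e
    · left; exact Subtype.ext e
    · right; exact Subtype.ext e
  · intro x
    rcases h.sq x.1 x.2 with e | e
    · left
      apply Subtype.ext
      show (x ^ 2).1 = 1
      rw [pow_two]
      exact e
    · right
      apply Subtype.ext
      show (x ^ 2).1 = -1
      rw [pow_two]
      exact e
  · intro x y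
    rcases h.comm x.1 x.2 y.1 y.2 with e | e
    · left; exact Subtype.ext e
    · right
      apply Subtype.ext
      show x.1 * y.1 = y.1 * x.1 * (-1)
      rw [e, mul_neg, mul_one]
  · by_contra hcon
    push Not at hcon
    -- every element is central, hence `±1`
    have hall : ∀ a : ↥R, a = 1 ∨ a = ⟨-1, h.neg_mem⟩ := by
      intro a
      rcases h.center a.1 a.2 (fun b hb => congrArg Subtype.val (hcon a ⟨b, hb⟩)) with e | e
      · left; exact Subtype.ext e
      · right; exact Subtype.ext e
    haveI : Finite ↥R := Nat.finite_of_card_ne_zero (by rw [h.card]; norm_num)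
    have hle : Nat.card ↥R ≤ 2 := by
      classical
      haveI := Fintype.ofFinite ↥R
      rw [Nat.card_eq_fintype_card]
      have : (Finset.univ : Finset ↥R) ⊆ {1, ⟨-1, h.neg_mem⟩} := by
        intro a _
        rcases hall a with e | e
        · rw [e]; exact Finset.mem_insert_self _ _
        · rw [e]; exact Finset.mem_insert_of_mem (Finset.mem_singleton_self _)
      calc Fintype.card ↥R = (Finset.univ : Finset ↥R).card := rfl
        _ ≤ ({1, ⟨-1, h.neg_mem⟩} : Finset ↥R).card := Finset.card_le_card this
        _ ≤ 2 := Finset.card_le_two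
    rw [h.card] at hle
    omega

end Cfsg.Agent.S6002P
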