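import Mathlib
import Cfsg.Prelude.Def_GeometricClasses
import Cfsg.Prelude.Def_ClassicalGeometry
import Cfsg.Agent.Helper4.S6002Defs
import Cfsg.Agent.Helper4.S6002ES2INST
import Cfsg.Agent.Helper3.ES2DC

set_option autoImplicit false
open scoped MatrixGroups Matrix

/-! S6002 piece GEN: five pairwise anticommuting involutions generate `R`. -/

namespace Cfsg.Agent.S6002P

namespace GEN

variable {F : Type*} [Field F] {R : Subgroup (GL I4 F)} {t : Fin 5 → GL I4 F}

/-- `t i` commutes with `t j * t k` when `i ∉ {j, k}` -/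
theorem comm_pair (hanti : ∀ i j, i ≠ j → t i * t j = -(t j * t i)) {i j k : Fin 5}
    (hij : i ≠ j) (hik : i ≠ k) : t i * (t j * t k) = (t j * t k) * t i := by
  calc t i * (t j * t k) = (t i * t j) * t k := by rw [mul_assoc]
    _ = (-(t j * t i)) * t k := by rw [hanti i j hij]
    _ = -(t j * (t i * t k)) := by rw [neg_mul, mul_assoc]
    _ = -(t j * (-(t k * t i))) := by rw [hanti i k hik]
    _ = (t j * t k) * t i := by rw [mul_neg, neg_neg, mul_assoc]

theorem sq_pair (ht2 : ∀ i, t i * t i = 1) (hanti : ∀ i j, i ≠ j → t i * t j = -(t j * t i))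
    {i j : Fin 5} (hij : i ≠ j) : (t i * t j) * (t i * t j) = -1 := by
  calc (t i * t j) * (t i * t j) = t i * (t j * t i) * t j := by simp only [mul_assoc]
    _ = t i * (-(t i * t j)) * t j := by rw [hanti j i hij.symm]
    _ = -((t i * t i) * (t j * t j)) := by
        rw [mul_neg, neg_mul]; simp only [mul_assoc]
    _ = -1 := by rw [ht2, ht2, one_mul]

/-- an element of `R` commuting with all `t i` is central -/
theorem central_of_commute (h : HypR R) (ht : ∀ i, t i ∈ R) (ht2 : ∀ i, t i * t i = 1)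
    (hanti : ∀ i j, i ≠ j → t i * t j = -(t j * t i)) (a : GL I4 F) (ha : a ∈ R)
    (hat : ∀ i, a * t i = t i * a) : a = 1 ∨ a = -1 := by
  have h0 : HypR0 R := h.toHypR0
  have h2 := h0.two_ne
  by_contra hcon
  push Not at hcon
  obtain ⟨ha1, ham⟩ := hcon
  have hne : ∀ i j : Fin 5, i ≠ j → t i ≠ t j ∧ t i ≠ -(t j) := by
    intro i j hij
    constructor
    · intro e
      have := hanti i j hij
      rw [e] at this
      exact neg_ne_self h2 _ this.symm
    · intro e
      have := hanti i j hij
      rw [e, neg_mul, mul_neg, neg_neg] at this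
      exact neg_ne_self h2 _ this
  have ht1 : ∀ i, t i ≠ 1 := by
    intro i e
    obtain ⟨j, hj⟩ : ∃ j : Fin 5, i ≠ j := ⟨i + 1, by
      intro e'
      have := congrArg Fin.val e'
      revert this
      fin_cases i <;> decide⟩
    have := hanti i j hj
    rw [e, one_mul, mul_one] at this
    exact neg_ne_self h2 _ this.symm
  have htm : ∀ i, t i ≠ -1 := by
    intro i e
    obtain ⟨j, hj⟩ : ∃ j : Fin 5, i ≠ j := ⟨i + 1, by
      intro e'
      have := congrArg Fin.val e'
      revert this
      fin_cases i <;> decide⟩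
    have := hanti i j hj
    rw [e, neg_mul, mul_neg, one_mul, mul_one, neg_neg] at this
    exact neg_ne_self h2 _ this
  rcases h0.sq a ha with haa | haa
  · -- `a` is a non-central involution commuting with `t 0` and `t 1`
    have e0 := h.minus a ha (t 0) (ht 0) haa (ht2 0) (hat 0) ha1 ham (ht1 0) (htm 0)
    have e1 := h.minus a ha (t 1) (ht 1) haa (ht2 1) (hat 1) ha1 ham (ht1 1) (htm 1)
    have h01 := hne 0 1 (by decide)
    rcases e0 with e0 | e0 <;> rcases e1 with e1 | e1
    · exact h01.1 (e0.symm.trans e1)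
    · exact h01.2 (e0.symm.trans e1)
    · apply h01.2
      rw [← neg_inj, ← e0, e1, neg_neg]
    · apply h01.1
      rw [← neg_inj, ← e0, e1]
  · -- `b = a * (t 0 * t 1)` is a non-central involution commuting with `t 2` and `t 3`
    set b : GL I4 F := a * (t 0 * t 1) with hb
    have hbR : b ∈ R := R.mul_mem ha (R.mul_mem (ht 0) (ht 1))
    have ha01 : a * (t 0 * t 1) = (t 0 * t 1) * a := by
      rw [← mul_assoc, hat 0, mul_assoc, hat 1, mul_assoc]
    have hbb : b * b = 1 := by
      calc b * b = a * ((t 0 * t 1) * a) * (t 0 * t 1) := by rw [hb]; simp only [mul_assoc]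
        _ = a * (a * (t 0 * t 1)) * (t 0 * t 1) := by rw [ha01]
        _ = (a * a) * ((t 0 * t 1) * (t 0 * t 1)) := by simp only [mul_assoc]
        _ = 1 := by rw [haa, sq_pair ht2 hanti (by decide), neg_mul_neg, one_mul]
    have hbt : ∀ k : Fin 5, k ≠ 0 → k ≠ 1 → b * t k = t k * b := by
      intro k hk0 hk1
      rw [hb, mul_assoc, ← comm_pair hanti hk0 hk1, ← mul_assoc, hat k, mul_assoc]
    -- `b` does not commute with `t 0`
    have hb0 : b * t 0 = -(t 0 * b) := by
      have e1 : (t 0 * t 1) * t 0 = -(t 0 * (t 0 * t 1)) := by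
        rw [mul_assoc, hanti 1 0 (by decide), mul_neg]
      rw [hb, mul_assoc, e1, mul_neg, ← mul_assoc, hat 0, mul_assoc]
    have hb1 : b ≠ 1 := by
      intro e
      rw [e, one_mul, mul_one] at hb0
      exact neg_ne_self h2 _ hb0.symm
    have hbm : b ≠ -1 := by
      intro e
      rw [e, neg_mul, mul_neg, one_mul, mul_one, neg_neg] at hb0
      exact neg_ne_self h2 _ hb0
    have e2 := h.minus b hbR (t 2) (ht 2) hbb (ht2 2) (hbt 2 (by decide) (by decide)) hb1 hbm
      (ht1 2) (htm 2)
    have e3 := h.minus b hbR (t 3) (ht 3) hbb (ht2 3) (hbt 3 (by decide) (by decide)) hb1 hbm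
      (ht1 3) (htm 3)
    have h23 := hne 2 3 (by decide)
    rcases e2 with e2 | e2 <;> rcases e3 with e3 | e3
    · exact h23.1 (e2.symm.trans e3)
    · exact h23.2 (e2.symm.trans e3)
    · apply h23.2
      rw [← neg_inj, ← e2, e3, neg_neg]
    · apply h23.1
      rw [← neg_inj, ← e2, e3]

end GEN

open GEN Cfsg.Agent.Helper3 in
/-- GEN -/
theorem closure_five {F : Type*} [Field F] {R : Subgroup (GL I4 F)} (h : HypR R)
    (t : Fin 5 → GL I4 F) (ht : ∀ i, t i ∈ R) (ht2 : ∀ i, t i * t i = 1)
    (hanti : ∀ i j, i ≠ j → t i * t j = -(t j * t i)) :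
    Subgroup.closure (Set.range t) = R := by
  classical
  have h0 : HypR0 R := h.toHypR0
  have es := es2_of_hypR h0
  haveI : Finite ↥R := Nat.finite_of_card_ne_zero (by rw [h0.card]; norm_num)
  have hle : Subgroup.closure (Set.range t) ≤ R := by
    rw [Subgroup.closure_le]
    rintro _ ⟨i, rfl⟩
    exact ht i
  apply le_antisymm hle
  -- the subgroup of `↥R`
  let U : Subgroup ↥R := (Subgroup.closure (Set.range t)).subgroupOf R
  have hmemU : ∀ g : ↥R, g ∈ U ↔ g.1 ∈ Subgroup.closure (Set.range t) := fun g => Iff.rfl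
  have hzU : (⟨-1, h0.neg_mem⟩ : ↥R) ∈ U := by
    rw [hmemU]
    have e : (-1 : GL I4 F) = (t 0 * t 1) * (t 0 * t 1) := (sq_pair ht2 hanti (by decide)).symm
    show (-1 : GL I4 F) ∈ _
    rw [e]
    have h0m : t 0 ∈ Subgroup.closure (Set.range t) := Subgroup.subset_closure ⟨0, rfl⟩
    have h1m : t 1 ∈ Subgroup.closure (Set.range t) := Subgroup.subset_closure ⟨1, rfl⟩
    exact Subgroup.mul_mem _ (Subgroup.mul_mem _ h0m h1m) (Subgroup.mul_mem _ h0m h1m)
  intro x hx
  have key := ES2.double_centralizer es U hzU ⟨x, hx⟩ (by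
    intro c hc
    -- `c` commutes with `U`, hence with all `t i`, hence is central
    have hct : ∀ i, c.1 * t i = t i * c.1 := by
      intro i
      have := hc ⟨t i, ht i⟩ ((hmemU _).mpr (Subgroup.subset_closure ⟨i, rfl⟩))
      exact congrArg Subtype.val this
    rcases central_of_commute h ht ht2 hanti c.1 c.2 hct with e | e
    · apply Subtype.ext
      show c.1 * x = x * c.1
      rw [e, one_mul, mul_one]
    · apply Subtype.ext
      show c.1 * x = x * c.1
      rw [e, neg_mul, mul_neg, one_mul, mul_one])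
  exact (hmemU _).mp key

end Cfsg.Agent.S6002P
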