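import Mathlib
import Cfsg.Prelude.Def_GeometricClasses
import Cfsg.Prelude.Def_ClassicalGeometry
import Cfsg.Agent.Helper4.S6002Defs
import Cfsg.Agent.Helper4.S6002ES2INST
import Cfsg.Agent.Helper3.ES2Rank

set_option autoImplicit false
open scoped MatrixGroups Matrix

/-! S6002 piece JJ12: `R` has exactly 12 solutions of `x² = 1`. -/

namespace Cfsg.Agent.S6002P

open Cfsg.Agent.Helper3 in
/-- JJ12 -/
theorem jj_eq_twelve {F : Type*} [Field F] {R : Subgroup (GL I4 F)} (h : HypR R) :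
    Cfsg.Agent.Helper3.ES2.jj ↥R = 12 := by
  classical
  have h0 : HypR0 R := h.toHypR0
  have es := es2_of_hypR h0
  haveI : Finite ↥R := Nat.finite_of_card_ne_zero (by rw [h0.card]; norm_num)
  have hg := ES2.gauss es
  rw [h0.card] at hg
  have hcases : (ES2.jj ↥R : ℤ) = 12 ∨ (ES2.jj ↥R : ℤ) = 20 := by
    have h1 : (2 * (ES2.jj ↥R : ℤ) - 32 - 8) * (2 * (ES2.jj ↥R : ℤ) - 32 + 8) = 0 := by
      push_cast at hg
      linear_combination hg
    rcases mul_eq_zero.mp h1 with e | e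
    · right; omega
    · left; omega
  rcases hcases with e | e
  · exact_mod_cast e
  · exfalso
    have e' : ES2.jj ↥R = 2 ^ (2 * 2) + 2 ^ 2 := by
      have : ES2.jj ↥R = 20 := by exact_mod_cast e
      rw [this]; norm_num
    obtain ⟨B, hzB, hEA, hcard⟩ :=
      (ES2.exists_ea_aux 2 ↥R ⟨-1, h0.neg_mem⟩ es (by rw [h0.card]; norm_num)).2 e'
    haveI : Fintype ↥B := Fintype.ofFinite _
    have hcardB : Fintype.card ↥B = 8 := by
      rw [← Nat.card_eq_fintype_card, hcard]; norm_num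
    -- pick `a ∈ B` outside `{1, z}`
    let z : ↥B := ⟨⟨-1, h0.neg_mem⟩, hzB⟩
    obtain ⟨a, -, ha⟩ := Finset.exists_mem_notMem_of_card_lt_card
      (s := ({1, z} : Finset ↥B)) (t := Finset.univ) (by
        calc ({1, z} : Finset ↥B).card ≤ 2 := Finset.card_le_two
          _ < Finset.univ.card := by rw [Finset.card_univ, hcardB]; norm_num)
    obtain ⟨b, -, hb⟩ := Finset.exists_mem_notMem_of_card_lt_card
      (s := ({1, z, a, z * a} : Finset ↥B)) (t := Finset.univ) (by
        calc ({1, z, a, z * a} : Finset ↥B).card ≤ 4 := Finset.card_le_four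
          _ < Finset.univ.card := by rw [Finset.card_univ, hcardB]; norm_num)
    simp only [Finset.mem_insert, Finset.mem_singleton, not_or] at ha hb
    obtain ⟨ha1, haz⟩ := ha
    obtain ⟨hb1, hbz, hba, hbza⟩ := hb
    -- translate to `GL`
    have va1 : (a : ↥R).1 ≠ 1 := fun e => ha1 (Subtype.ext (Subtype.ext e))
    have vaz : (a : ↥R).1 ≠ -1 := fun e => haz (Subtype.ext (Subtype.ext e))
    have vb1 : (b : ↥R).1 ≠ 1 := fun e => hb1 (Subtype.ext (Subtype.ext e))
    have vbz : (b : ↥R).1 ≠ -1 := fun e => hbz (Subtype.ext (Subtype.ext e))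
    have vaa : (a : ↥R).1 * (a : ↥R).1 = 1 :=
      congrArg Subtype.val (hEA.2 a.1 a.2)
    have vbb : (b : ↥R).1 * (b : ↥R).1 = 1 :=
      congrArg Subtype.val (hEA.2 b.1 b.2)
    have vab : (a : ↥R).1 * (b : ↥R).1 = (b : ↥R).1 * (a : ↥R).1 :=
      congrArg Subtype.val (hEA.1 a.1 a.2 b.1 b.2)
    rcases h.minus _ (a : ↥R).2 _ (b : ↥R).2 vaa vbb vab va1 vaz vb1 vbz with e | e
    · exact hba (Subtype.ext (Subtype.ext e.symm))
    · apply hbza
      apply Subtype.ext
      apply Subtype.ext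
      show (b : ↥R).1 = (-1) * (a : ↥R).1
      rw [neg_one_mul, e, neg_neg]

end Cfsg.Agent.S6002P
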