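import Mathlib
import Cfsg.Prelude.Def_GeometricClasses
import Cfsg.Prelude.Def_ClassicalGeometry
import Cfsg.Agent.Helper4.S6002Defs
import Cfsg.Agent.Helper4.S6002JJ12

set_option autoImplicit false
open scoped MatrixGroups Matrix

/-! S6002 pieces INVOL and ORD4. -/

namespace Cfsg.Agent.S6002P

open Cfsg.Agent.Helper3 in
/-- INVOL -/
theorem card_invol {F : Type*} [Field F] {R : Subgroup (GL I4 F)} (h : HypR R) :
    Nat.card {a : GL I4 F // a ∈ R ∧ a * a = 1 ∧ a ≠ 1 ∧ a ≠ -1} = 10 := by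
  classical
  have h0 : HypR0 R := h.toHypR0
  haveI : Finite ↥R := Nat.finite_of_card_ne_zero (by rw [h0.card]; norm_num)
  haveI : Fintype ↥R := Fintype.ofFinite _
  have hjj := jj_eq_twelve h
  unfold ES2.jj at hjj
  rw [Nat.card_eq_fintype_card, Fintype.card_subtype] at hjj
  let z : ↥R := ⟨-1, h0.neg_mem⟩
  have hz1 : z ≠ 1 := fun e => neg_one_ne_one h0.two_ne (congrArg Subtype.val e)
  have e : {a : GL I4 F // a ∈ R ∧ a * a = 1 ∧ a ≠ 1 ∧ a ≠ -1} ≃
      {u : ↥R // u ∈ ((Finset.univ.filter (fun u : ↥R => u ^ 2 = 1)).erase 1).erase z} :=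
    { toFun := fun a => ⟨⟨a.1, a.2.1⟩, by
        rw [Finset.mem_erase, Finset.mem_erase, Finset.mem_filter]
        refine ⟨fun e => a.2.2.2.2 (congrArg Subtype.val e),
          fun e => a.2.2.2.1 (congrArg Subtype.val e), Finset.mem_univ _, ?_⟩
        apply Subtype.ext
        show (a.1 ^ 2) = 1
        rw [pow_two]
        exact a.2.2.1⟩
      invFun := fun u => ⟨u.1.1, u.1.2, by
        have := u.2
        rw [Finset.mem_erase, Finset.mem_erase, Finset.mem_filter] at this
        obtain ⟨hz, h1, -, hsq⟩ := this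
        refine ⟨?_, fun e => h1 (Subtype.ext e), fun e => hz (Subtype.ext e)⟩
        have := congrArg Subtype.val hsq
        rw [← pow_two]
        exact this⟩
      left_inv := fun a => rfl
      right_inv := fun u => rfl }
  rw [Nat.card_congr e, Nat.card_eq_fintype_card, Fintype.card_coe, Finset.card_erase_of_mem,
    Finset.card_erase_of_mem, hjj]
  · rw [Finset.mem_filter]
    exact ⟨Finset.mem_univ _, one_pow 2⟩
  · rw [Finset.mem_erase, Finset.mem_filter]
    refine ⟨hz1, Finset.mem_univ _, ?_⟩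
    apply Subtype.ext
    show ((-1 : GL I4 F) ^ 2) = 1
    rw [neg_one_sq]

open Cfsg.Agent.Helper3 in
/-- ORD4 -/
theorem exists_order_four {F : Type*} [Field F] {R : Subgroup (GL I4 F)} (h : HypR R) :
    ∃ s ∈ R, s * s = -1 := by
  classical
  have h0 : HypR0 R := h.toHypR0
  haveI : Finite ↥R := Nat.finite_of_card_ne_zero (by rw [h0.card]; norm_num)
  have hjj := jj_eq_twelve h
  have hadd := ES2.jj_add_compl ↥R
  rw [hjj, h0.card] at hadd
  have hpos : 0 < Nat.card {u : ↥R // ¬ u ^ 2 = 1} := by omega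
  haveI : Nonempty {u : ↥R // ¬ u ^ 2 = 1} := (Nat.card_pos_iff.mp hpos).1
  obtain ⟨u, hu⟩ := (inferInstance : Nonempty {u : ↥R // ¬ u ^ 2 = 1})
  refine ⟨u.1, u.2, ?_⟩
  rcases h0.sq u.1 u.2 with e | e
  · exfalso
    apply hu
    apply Subtype.ext
    show u.1 ^ 2 = 1
    rw [pow_two]
    exact e
  · exact e

end Cfsg.Agent.S6002P
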