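import Mathlib
import Cfsg.Prelude.Def_GeometricClasses
import Cfsg.Prelude.Def_ClassicalGeometry
import Cfsg.Agent.Helper4.S6002Defs
import Cfsg.Agent.Helper4.S6002FIX
import Cfsg.Agent.Helper4.S6002CENTCARD

set_option autoImplicit false
open scoped MatrixGroups Matrix

/-! S6002 piece NOSEVEN. -/

namespace Cfsg.Agent.S6002P

/-- the centralizer in `R` of a non-central element has order 16 -/
theorem card_centR_of_noncentral {F : Type*} [Field F] {R : Subgroup (GL I4 F)} (h : HypR0 R)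
    (c : GL I4 F) (hc : c ∈ R) (hc1 : c ≠ 1) (hcm : c ≠ -1) :
    Nat.card {a : GL I4 F // a ∈ R ∧ c * a = a * c} = 16 := by
  classical
  haveI : Finite ↥R := Nat.finite_of_card_ne_zero (by rw [h.card]; norm_num)
  -- an element anticommuting with `c`
  obtain ⟨a, ha, hac⟩ : ∃ a ∈ R, c * a = -(a * c) := by
    by_contra hcon
    push Not at hcon
    rcases h.center c hc (fun b hb => by
      rcases h.comm c hc b hb with e | e
      · exact e
      · exact absurd e (hcon b hb)) with e | e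
    · exact hc1 e
    · exact hcm e
  let D : Subgroup ↥R := (Subgroup.centralizer ({c} : Set (GL I4 F))).subgroupOf R
  have hmemD : ∀ b : ↥R, b ∈ D ↔ c * b.1 = b.1 * c := by
    intro b
    show b.1 ∈ Subgroup.centralizer ({c} : Set (GL I4 F)) ↔ _
    rw [Subgroup.mem_centralizer_iff]
    constructor
    · intro hb; exact hb c rfl
    · intro hb g hg
      rw [Set.mem_singleton_iff] at hg
      rw [hg]; exact hb
  have hidx : D.index = 2 := by
    rw [Subgroup.index_eq_two_iff]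
    refine ⟨⟨a, ha⟩, fun b => ?_⟩
    rw [hmemD, hmemD]
    show Xor' (c * (b.1 * a) = b.1 * a * c) (c * b.1 = b.1 * c)
    rcases h.comm c hc b.1 b.2 with e | e
    · right
      refine ⟨e, ?_⟩
      intro e2
      rw [← mul_assoc, e, mul_assoc, hac, mul_neg, ← mul_assoc] at e2
      exact neg_ne_self h.two_ne _ e2
    · left
      refine ⟨?_, ?_⟩
      · rw [← mul_assoc, e, neg_mul, mul_assoc, hac, mul_neg, neg_neg, ← mul_assoc]
      · intro e2
        rw [e2] at e
        exact neg_ne_self h.two_ne _ e.symm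
  have hmul := Subgroup.card_mul_index D
  rw [hidx, h.card] at hmul
  have hD : Nat.card D = 16 := by omega
  rw [← hD]
  apply Nat.card_congr
  exact
    { toFun := fun a => ⟨⟨a.1, a.2.1⟩, (hmemD _).mpr a.2.2⟩
      invFun := fun b => ⟨b.1.1, b.1.2, (hmemD _).mp b.2⟩
      left_inv := fun a => rfl
      right_inv := fun b => rfl }

/-- NOSEVEN -/
theorem not_card_cent_four {F : Type*} [Field F] {R : Subgroup (GL I4 F)} (h : HypR0 R)
    (y : GL I4 F) (hy : y ∈ Cfsg.Geo.subgroupNormalizer R)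
    (hyr : ∃ z : F, ((y ^ 7 : GL I4 F) : M4 F) = z • (1 : M4 F))
    (hc : Nat.card {a : GL I4 F // a ∈ R ∧ y * a * y⁻¹ = a} = 4) : False := by
  classical
  haveI : Fact (Nat.Prime 7) := ⟨by norm_num⟩
  obtain ⟨z, hz⟩ := hyr
  have hN := (mem_normalizer_iff' R y).mp hy
  haveI : Finite ↥R := Nat.finite_of_card_ne_zero (by rw [h.card]; norm_num)
  rw [card_centR] at hc
  have hle : centR R y ≤ R := inf_le_left
  haveI : Finite ↥(centR R y) := Finite.of_injective (fun a => (⟨a.1, hle a.2⟩ : ↥R))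
    (fun a b e => Subtype.ext (congrArg (fun u : ↥R => u.1) e))
  haveI : Fintype ↥(centR R y) := Fintype.ofFinite _
  have h1C : (1 : GL I4 F) ∈ centR R y := Subgroup.one_mem _
  have hmC : (-1 : GL I4 F) ∈ centR R y := by
    rw [mem_centR]
    refine ⟨h.neg_mem, ?_⟩
    rw [mul_neg, neg_mul, mul_one, mul_inv_cancel]
  -- a third element of `C_R(y)`
  obtain ⟨c, -, hcn⟩ := Finset.exists_mem_notMem_of_card_lt_card
    (s := ({⟨1, h1C⟩, ⟨-1, hmC⟩} : Finset ↥(centR R y))) (t := Finset.univ) (by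
      calc ({⟨1, h1C⟩, ⟨-1, hmC⟩} : Finset ↥(centR R y)).card ≤ 2 := Finset.card_le_two
        _ < Finset.univ.card := by
          rw [Finset.card_univ, ← Nat.card_eq_fintype_card, hc]; norm_num)
  simp only [Finset.mem_insert, Finset.mem_singleton, not_or] at hcn
  have hc1 : c.1 ≠ 1 := fun e => hcn.1 (Subtype.ext e)
  have hcm : c.1 ≠ -1 := fun e => hcn.2 (Subtype.ext e)
  obtain ⟨hcR, hcy⟩ := (mem_centR R y c.1).mp c.2
  have hcy' : y⁻¹ * c.1 * y = c.1 := by
    calc y⁻¹ * c.1 * y = y⁻¹ * (y * c.1 * y⁻¹) * y := by rw [hcy]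
      _ = c.1 := by group
  -- the centralizer of `c`
  let S : Set (GL I4 F) := {a | a ∈ R ∧ c.1 * a = a * c.1}
  have hSfin : S.Finite := Set.Finite.subset (Set.toFinite (R : Set (GL I4 F))) (fun a ha => ha.1)
  have hScard : Nat.card S = 16 := card_centR_of_noncentral h c.1 hcR hc1 hcm
  have hconjS : ∀ a ∈ S, y * a * y⁻¹ ∈ S := by
    rintro a ⟨haR, hac⟩
    refine ⟨(hN a).mp haR, ?_⟩
    calc c.1 * (y * a * y⁻¹) = y * ((y⁻¹ * c.1 * y) * a) * y⁻¹ := by group
      _ = y * (a * (y⁻¹ * c.1 * y)) * y⁻¹ := by rw [hcy', hac]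
      _ = y * a * y⁻¹ * c.1 := by group
  have hfix := card_modEq_card_fixed S hSfin y 7 hconjS (fun a _ => conj_eq_of_scalar hz a)
  rw [hScard] at hfix
  -- the fixed points form the subgroup `C_R(y) ⊓ C_R(c)` of `C_R(y)`
  let E : Subgroup (GL I4 F) := centR R y ⊓ Subgroup.centralizer ({c.1} : Set (GL I4 F))
  have hmemE : ∀ a : GL I4 F, a ∈ E ↔ a ∈ S ∧ y * a * y⁻¹ = a := by
    intro a
    show a ∈ centR R y ∧ a ∈ Subgroup.centralizer ({c.1} : Set (GL I4 F)) ↔ _
    rw [mem_centR, Subgroup.mem_centralizer_iff]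
    constructor
    · rintro ⟨⟨haR, hay⟩, hac⟩
      exact ⟨⟨haR, hac c.1 rfl⟩, hay⟩
    · rintro ⟨⟨haR, hac⟩, hay⟩
      refine ⟨⟨haR, hay⟩, ?_⟩
      intro g hg
      rw [Set.mem_singleton_iff] at hg
      rw [hg]; exact hac
  have hEcard : Nat.card {a : GL I4 F // a ∈ S ∧ y * a * y⁻¹ = a} = Nat.card E :=
    Nat.card_congr (Equiv.subtypeEquivRight (fun a => (hmemE a).symm))
  rw [hEcard] at hfix
  have hEle : E ≤ centR R y := inf_le_left
  have hEdvd : Nat.card E ∣ 4 := by
    have := Subgroup.card_dvd_of_le hEle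
    rwa [hc] at this
  haveI : Finite ↥E := Finite.of_injective (fun a => (⟨a.1, hEle a.2⟩ : ↥(centR R y)))
    (fun a b e => Subtype.ext (congrArg (fun u : ↥(centR R y) => u.1) e))
  haveI : Fintype ↥E := Fintype.ofFinite _
  -- three distinct elements of `E`
  have h1E : (1 : GL I4 F) ∈ E := Subgroup.one_mem _
  have hmE : (-1 : GL I4 F) ∈ E := by
    rw [hmemE]
    refine ⟨⟨h.neg_mem, ?_⟩, ((mem_centR R y _).mp hmC).2⟩
    rw [mul_neg, neg_mul, mul_one, one_mul]
  have hcE : c.1 ∈ E := by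
    rw [hmemE]
    exact ⟨⟨hcR, rfl⟩, hcy⟩
  have h3 : 3 ≤ Nat.card E := by
    rw [Nat.card_eq_fintype_card]
    have hsub : ({⟨1, h1E⟩, ⟨-1, hmE⟩, ⟨c.1, hcE⟩} : Finset ↥E) ⊆ Finset.univ :=
      Finset.subset_univ _
    have hcard3 : ({⟨1, h1E⟩, ⟨-1, hmE⟩, ⟨c.1, hcE⟩} : Finset ↥E).card = 3 := by
      rw [Finset.card_insert_of_notMem, Finset.card_insert_of_notMem, Finset.card_singleton]
      · rw [Finset.mem_singleton]
        intro e
        exact hcm (congrArg Subtype.val e).symm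
      · rw [Finset.mem_insert, Finset.mem_singleton, not_or]
        refine ⟨?_, ?_⟩
        · intro e
          exact neg_one_ne_one h.two_ne (congrArg Subtype.val e).symm
        · intro e
          exact hc1 (congrArg Subtype.val e).symm
    calc 3 = ({⟨1, h1E⟩, ⟨-1, hmE⟩, ⟨c.1, hcE⟩} : Finset ↥E).card := hcard3.symm
      _ ≤ Finset.univ.card := Finset.card_le_card hsub
      _ = Fintype.card ↥E := Finset.card_univ
  have hle4 : Nat.card E ≤ 4 := Nat.le_of_dvd (by norm_num) hEdvd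
  have h4 : Nat.card E = 3 ∨ Nat.card E = 4 := by omega
  rcases h4 with e | e
  · rw [e] at hEdvd
    exact absurd hEdvd (by decide)
  · rw [e] at hfix
    exact absurd hfix (by decide)

end Cfsg.Agent.S6002P
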