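import Mathlib
import Cfsg.Prelude.Def_GeometricClasses
import Cfsg.Prelude.Def_ClassicalGeometry
import Cfsg.Agent.Helper4.S6002Defs
import Cfsg.Agent.Helper4.S6002INVOL
import Cfsg.Agent.Helper4.S6002FIX

set_option autoImplicit false
open scoped MatrixGroups Matrix

/-! S6002 piece P3: an element of the normalizer of `R` whose cube is scalar commutes with two
anticommuting involutions of `R`. -/

namespace Cfsg.Agent.S6002P

/-- P3 -/
theorem exists_anticomm_of_three {F : Type*} [Field F] {R : Subgroup (GL I4 F)} (h : HypR R)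
    (y : GL I4 F) (hy : y ∈ Cfsg.Geo.subgroupNormalizer R)
    (hy3 : ∃ z : F, ((y ^ 3 : GL I4 F) : M4 F) = z • (1 : M4 F)) :
    ∃ q1 ∈ R, ∃ q2 ∈ R, y * q1 = q1 * y ∧ y * q2 = q2 * y ∧ q1 * q2 = -(q2 * q1) := by
  classical
  have h0 : HypR0 R := h.toHypR0
  haveI : Fact (Nat.Prime 3) := ⟨Nat.prime_three⟩
  obtain ⟨z, hz⟩ := hy3
  have hpow : ∀ a : GL I4 F, y ^ 3 * a * (y ^ 3)⁻¹ = a := fun a => conj_eq_of_scalar hz a
  have hN := (mem_normalizer_iff' R y).mp hy
  haveI : Finite ↥R := Nat.finite_of_card_ne_zero (by rw [h0.card]; norm_num)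
  let S : Set (GL I4 F) := {a | a ∈ R ∧ a * a = 1 ∧ a ≠ 1 ∧ a ≠ -1}
  have hSfin : S.Finite := Set.Finite.subset (Set.toFinite (R : Set (GL I4 F))) (fun a ha => ha.1)
  have hScard : Nat.card S = 10 := card_invol h
  have hconjS : ∀ a ∈ S, y * a * y⁻¹ ∈ S := by
    rintro a ⟨haR, haa, ha1, ham⟩
    refine ⟨(hN a).mp haR, ?_, ?_, ?_⟩
    · calc y * a * y⁻¹ * (y * a * y⁻¹) = y * (a * a) * y⁻¹ := by group
        _ = 1 := by rw [haa, mul_one, mul_inv_cancel]
    · intro e
      apply ha1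
      have : a = y⁻¹ * (y * a * y⁻¹) * y := by group
      rw [this, e, mul_one, inv_mul_cancel]
    · intro e
      apply ham
      have : a = y⁻¹ * (y * a * y⁻¹) * y := by group
      rw [this, e, mul_neg, neg_mul, mul_one, inv_mul_cancel]
  have hfix1 := card_modEq_card_fixed S hSfin y 3 hconjS (fun a _ => hpow a)
  rw [hScard] at hfix1
  have hne1 : Nat.card {a : GL I4 F // a ∈ S ∧ y * a * y⁻¹ = a} ≠ 0 := by
    intro e
    rw [e] at hfix1
    exact absurd hfix1 (by decide)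
  haveI : Finite {a : GL I4 F // a ∈ S ∧ y * a * y⁻¹ = a} :=
    Finite.of_injective (fun a => (⟨a.1, a.2.1⟩ : S)) (fun a b e => Subtype.ext (by
      have := congrArg Subtype.val e; exact this))
  obtain ⟨⟨t, htS, hty⟩⟩ := (Nat.card_pos_iff.mp (Nat.pos_of_ne_zero hne1)).1
  obtain ⟨htR, htt, ht1, htm⟩ := htS
  have hntS : -t ∈ S := by
    refine ⟨?_, ?_, ?_, ?_⟩
    · have : -t = (-1 : GL I4 F) * t := by rw [neg_one_mul]
      rw [this]; exact R.mul_mem h0.neg_mem htR
    · rw [neg_mul_neg]; exact htt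
    · intro e; exact htm (neg_eq_iff_eq_neg.mp e)
    · intro e; exact ht1 (neg_injective e)
  have hnty : y * (-t) * y⁻¹ = -t := by rw [mul_neg, neg_mul, hty]
  -- the remaining eight involutions
  let S' : Set (GL I4 F) := S \ {t, -t}
  have hS'fin : S'.Finite := hSfin.subset Set.diff_subset
  have hS'card : Nat.card S' = 8 := by
    rw [Nat.card_coe_set_eq, Set.ncard_diff (by
      intro a ha
      rcases ha with rfl | rfl
      · exact ⟨htR, htt, ht1, htm⟩
      · exact hntS) (Set.toFinite _), ← Nat.card_coe_set_eq S, hScard,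
      Set.ncard_pair (fun e => neg_ne_self h0.two_ne t e.symm)]
  have hconjS' : ∀ a ∈ S', y * a * y⁻¹ ∈ S' := by
    rintro a ⟨haS, hat⟩
    refine ⟨hconjS a haS, ?_⟩
    intro hmem
    apply hat
    have ha' : a = y⁻¹ * (y * a * y⁻¹) * y := by group
    rcases hmem with e | e
    · left
      rw [ha', e]
      calc y⁻¹ * t * y = y⁻¹ * (y * t * y⁻¹) * y := by rw [hty]
        _ = t := by group
    · right
      rw [Set.mem_singleton_iff] at e ⊢
      rw [ha', e]
      calc y⁻¹ * (-t) * y = y⁻¹ * (y * (-t) * y⁻¹) * y := by rw [hnty]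
        _ = -t := by group
  have hfix2 := card_modEq_card_fixed S' hS'fin y 3 hconjS' (fun a _ => hpow a)
  rw [hS'card] at hfix2
  have hne2 : Nat.card {a : GL I4 F // a ∈ S' ∧ y * a * y⁻¹ = a} ≠ 0 := by
    intro e
    rw [e] at hfix2
    exact absurd hfix2 (by decide)
  haveI : Finite {a : GL I4 F // a ∈ S' ∧ y * a * y⁻¹ = a} :=
    Finite.of_injective (fun a => (⟨a.1, a.2.1.1⟩ : S)) (fun a b e => Subtype.ext (by
      have := congrArg Subtype.val e; exact this))
  obtain ⟨⟨s, hsS', hsy⟩⟩ := (Nat.card_pos_iff.mp (Nat.pos_of_ne_zero hne2)).1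
  obtain ⟨⟨hsR, hss, hs1, hsm⟩, hst⟩ := hsS'
  have hst1 : s ≠ t := fun e => hst (Or.inl e)
  have hst2 : s ≠ -t := fun e => hst (Or.inr e)
  refine ⟨t, htR, s, hsR, ?_, ?_, ?_⟩
  · calc y * t = (y * t * y⁻¹) * y := by group
      _ = t * y := by rw [hty]
  · calc y * s = (y * s * y⁻¹) * y := by group
      _ = s * y := by rw [hsy]
  · exact h.anticomm htR hsR htt hss ht1 htm hs1 hsm (fun e => hst1 e.symm)
      (fun e => hst2 (by rw [e, neg_neg]))

end Cfsg.Agent.S6002P
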