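import Mathlib
import Cfsg.Prelude.Def_GeometricClasses
import Cfsg.Prelude.Def_ClassicalGeometry
import Cfsg.Agent.Helper4.S6002Defs
import Cfsg.Agent.Helper10.S6002SPAN
import Cfsg.Agent.Helper24.S6002ORB5

set_option autoImplicit false
open scoped MatrixGroups Matrix

/-! S6002 piece P5: an element `y` of the normalizer of `R` with `y ^ 5` scalar and `C_R(y) = {±1}` has a
centralizer of dimension at most `4` in the matrix algebra. -/

namespace Cfsg.Agent.S6002P

namespace P5

variable {F : Type*} [Field F]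

/-- the functional `M ↦ tr (B * M)` -/
noncomputable def trL (B : M4 F) : M4 F →ₗ[F] F :=
  (Matrix.traceLinearMap I4 F F).comp (LinearMap.mulLeft F B)

theorem trL_apply (B M : M4 F) : trL B M = Matrix.trace (B * M) := rfl

/-- a matrix whose trace against everything vanishes is zero -/
theorem eq_zero_of_trace (M : M4 F) (hM : ∀ N : M4 F, Matrix.trace (N * M) = 0) : M = 0 := by
  ext i j
  have := hM (Matrix.single j i 1)
  rw [Matrix.trace_mul_comm, Matrix.trace_mul_single] at this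
  simpa using this

theorem coe_inv_mul (a : GL I4 F) : ((a⁻¹ : GL I4 F) : M4 F) * (a : M4 F) = 1 := by
  rw [← Units.val_mul, inv_mul_cancel, Units.val_one]

theorem coe_mul_inv (a : GL I4 F) : (a : M4 F) * ((a⁻¹ : GL I4 F) : M4 F) = 1 := by
  rw [← Units.val_mul, mul_inv_cancel, Units.val_one]

/-- trace of a conjugate against a matrix commuting with the conjugating element -/
theorem trace_conj (g b : GL I4 F) (M : M4 F) (hM : M * (g : M4 F) = (g : M4 F) * M) :
    Matrix.trace (((g * b * g⁻¹ : GL I4 F) : M4 F) * M) = Matrix.trace ((b : M4 F) * M) := by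
  have h1 : ((g⁻¹ : GL I4 F) : M4 F) * M = M * ((g⁻¹ : GL I4 F) : M4 F) := by
    calc ((g⁻¹ : GL I4 F) : M4 F) * M
        = ((g⁻¹ : GL I4 F) : M4 F) * M * ((g : M4 F) * ((g⁻¹ : GL I4 F) : M4 F)) := by
          rw [coe_mul_inv, Matrix.mul_one]
      _ = ((g⁻¹ : GL I4 F) : M4 F) * (M * (g : M4 F)) * ((g⁻¹ : GL I4 F) : M4 F) := by
          simp only [Matrix.mul_assoc]
      _ = (((g⁻¹ : GL I4 F) : M4 F) * (g : M4 F)) * M * ((g⁻¹ : GL I4 F) : M4 F) := by
          rw [hM]; simp only [Matrix.mul_assoc]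
      _ = M * ((g⁻¹ : GL I4 F) : M4 F) := by rw [coe_inv_mul, Matrix.one_mul]
  rw [Units.val_mul, Units.val_mul]
  calc Matrix.trace ((g : M4 F) * (b : M4 F) * ((g⁻¹ : GL I4 F) : M4 F) * M)
      = Matrix.trace ((g : M4 F) * ((b : M4 F) * M * ((g⁻¹ : GL I4 F) : M4 F))) := by
        rw [Matrix.mul_assoc ((g : M4 F) * (b : M4 F)), h1]; simp only [Matrix.mul_assoc]
    _ = Matrix.trace ((b : M4 F) * M * ((g⁻¹ : GL I4 F) : M4 F) * (g : M4 F)) := by
        rw [Matrix.trace_mul_comm]
    _ = Matrix.trace ((b : M4 F) * M) := by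
        rw [Matrix.mul_assoc ((b : M4 F) * M), coe_inv_mul, Matrix.mul_one]

theorem commute_pow (y : GL I4 F) (M : M4 F) (hM : M * (y : M4 F) = (y : M4 F) * M) (k : ℕ) :
    M * ((y ^ k : GL I4 F) : M4 F) = ((y ^ k : GL I4 F) : M4 F) * M := by
  induction k with
  | zero => simp
  | succ k ih =>
    rw [pow_succ, Units.val_mul, ← Matrix.mul_assoc, ih, Matrix.mul_assoc, hM, Matrix.mul_assoc]

end P5

open P5 in
/-- P5 -/
theorem not_li_of_five {F : Type*} [Field F] {R : Subgroup (GL I4 F)} (h : HypR0 R)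
    (y : GL I4 F) (hy : y ∈ Cfsg.Geo.subgroupNormalizer R)
    (hy5 : ∃ z : F, ((y ^ 5 : GL I4 F) : M4 F) = z • (1 : M4 F))
    (hcent : ∀ a ∈ R, y * a = a * y → a = 1 ∨ a = -1)
    (m : Fin 5 → M4 F) (hm : ∀ i, m i * (y : M4 F) = (y : M4 F) * m i) :
    ¬ LinearIndependent F m := by
  classical
  intro hli
  obtain ⟨b, hb, hrep⟩ := exists_orbit_reps h y hy hy5 hcent
  have hspan := span_eq_top h
  -- the four functionals
  let Λ : M4 F →ₗ[F] (Fin 4 → F) :=
    LinearMap.pi ![trL (1 : M4 F), trL (((b 0)⁻¹ : GL I4 F) : M4 F),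
      trL (((b 1)⁻¹ : GL I4 F) : M4 F), trL (((b 2)⁻¹ : GL I4 F) : M4 F)]
  let Φ : (Fin 5 → F) →ₗ[F] (Fin 4 → F) := Λ.comp (Fintype.linearCombination F m)
  have hker : LinearMap.ker Φ ≠ ⊥ := by
    apply LinearMap.ker_ne_bot_of_finrank_lt
    rw [Module.finrank_fin_fun, Module.finrank_fin_fun]
    norm_num
  obtain ⟨c, hcker, hc0⟩ := (Submodule.ne_bot_iff _).mp hker
  rw [LinearMap.mem_ker] at hcker
  set M : M4 F := Fintype.linearCombination F m c with hMdef
  have hM0 : M ≠ 0 := by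
    intro e
    apply hc0
    rw [Fintype.linearIndependent_iff] at hli
    funext i
    apply hli c
    rw [hMdef, Fintype.linearCombination_apply] at e
    exact e
  have hMy : M * (y : M4 F) = (y : M4 F) * M := by
    rw [hMdef, Fintype.linearCombination_apply, Finset.sum_mul, Finset.mul_sum]
    apply Finset.sum_congr rfl
    intro i _
    rw [Matrix.smul_mul, Matrix.mul_smul, hm i]
  have hΛ : Λ M = 0 := hcker
  have hΛ0 : Matrix.trace M = 0 := by
    have := congrFun hΛ 0
    simpa [Λ, trL_apply] using this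
  have hΛb : ∀ j : Fin 3, Matrix.trace ((((b j)⁻¹ : GL I4 F) : M4 F) * M) = 0 := by
    intro j
    fin_cases j
    · have := congrFun hΛ 1
      simpa [Λ, trL_apply] using this
    · have := congrFun hΛ 2
      simpa [Λ, trL_apply] using this
    · have := congrFun hΛ 3
      simpa [Λ, trL_apply] using this
  -- all traces against inverses of elements of `R` vanish
  have htr : ∀ a ∈ R, Matrix.trace (((a⁻¹ : GL I4 F) : M4 F) * M) = 0 := by
    intro a ha
    rcases hrep a ha with rfl | rfl | ⟨j, k, e | e⟩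
    · rw [inv_one, Units.val_one, Matrix.one_mul]
      exact hΛ0
    · have : ((-1 : GL I4 F)⁻¹ : GL I4 F) = -1 := by
        rw [inv_eq_iff_eq_inv, inv_neg, inv_one]
      rw [this, coe_neg_one, Matrix.neg_mul, Matrix.one_mul, Matrix.trace_neg, hΛ0, neg_zero]
    · have e' : a⁻¹ = y ^ k * (b j)⁻¹ * (y ^ k)⁻¹ := by rw [e]; group
      rw [e', trace_conj (y ^ k) (b j)⁻¹ M (commute_pow y M hMy k)]
      exact hΛb j
    · have e' : a⁻¹ = -(y ^ k * (b j)⁻¹ * (y ^ k)⁻¹) := by
        rw [e, inv_neg]; congr 1; group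
      rw [e', coe_neg, Matrix.neg_mul, Matrix.trace_neg,
        trace_conj (y ^ k) (b j)⁻¹ M (commute_pow y M hMy k), hΛb j, neg_zero]
  have htr' : ∀ a ∈ R, Matrix.trace ((a : M4 F) * M) = 0 := by
    intro a ha
    have := htr a⁻¹ (R.inv_mem ha)
    rwa [inv_inv] at this
  -- hence against everything
  apply hM0
  apply eq_zero_of_trace
  intro N
  have hN : N ∈ Submodule.span F (Cfsg.Geo.matrixSet R) := by rw [hspan]; trivial
  induction hN using Submodule.span_induction with
  | mem x hx =>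
    obtain ⟨a, ha, rfl⟩ := hx
    exact htr' a ha
  | zero => rw [Matrix.zero_mul, Matrix.trace_zero]
  | add x z _ _ hx hz => rw [Matrix.add_mul, Matrix.trace_add, hx, hz, add_zero]
  | smul r x _ hx => rw [Matrix.smul_mul, Matrix.trace_smul, hx, smul_zero]

end Cfsg.Agent.S6002P
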