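import Mathlib
import Cfsg.Prelude.Def_GeometricClasses
import Cfsg.Prelude.Def_ClassicalGeometry
import Cfsg.Agent.Helper4.S6002Defs
import Cfsg.Agent.Helper4.S6002INVOL
import Cfsg.Agent.Helper24.S5976ZPM
import Cfsg.Agent.Helper8.S5976EVEN
import Cfsg.Agent.Helper28.S5976SPCONJ1
import Cfsg.Agent.Helper13.S5976SPCONJM1

set_option autoImplicit false
open scoped MatrixGroups Matrix

/-! S6002 piece R2: elements of `Sp_4(F)` with scalar square are conjugate into `R`. -/

namespace Cfsg.Agent.S6002P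

/-- a non-central involution of `R` -/
theorem exists_invol {F : Type*} [Field F] {R : Subgroup (GL I4 F)} (h : HypR R) :
    ∃ t ∈ R, t * t = 1 ∧ t ≠ 1 ∧ t ≠ -1 := by
  have hc := card_invol h
  have hpos : 0 < Nat.card {a : GL I4 F // a ∈ R ∧ a * a = 1 ∧ a ≠ 1 ∧ a ≠ -1} := by
    rw [hc]; norm_num
  obtain ⟨t⟩ := (Nat.card_pos_iff.mp hpos).1
  exact ⟨t.1, t.2.1, t.2.2.1, t.2.2.2.1, t.2.2.2.2⟩

/-- R2 -/
theorem conj_into_R_of_two {F : Type*} [Field F] [Fintype F] {R : Subgroup (GL I4 F)}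
    (h : HypR R) (x : GL I4 F) (hx : x ∈ Cfsg.spGL 2 F)
    (hx2 : ∃ z : F, ((x ^ 2 : GL I4 F) : M4 F) = z • (1 : M4 F))
    (hns : ∀ z : F, (x : M4 F) ≠ z • (1 : M4 F)) :
    ∃ g ∈ Cfsg.spGL 2 F, g⁻¹ * x * g ∈ R := by
  have h0 : HypR0 R := h.toHypR0
  have h2 : (2 : F) ≠ 0 := h0.two_ne
  obtain ⟨z, hz⟩ := hx2
  have hzz : z * z = 1 := Cfsg.Agent.S5976P.scalar_sq_eq_one 2 (by norm_num) 2 x hx z hz
  have hz' : z = 1 ∨ z = -1 := by
    have : (z - 1) * (z + 1) = 0 := by linear_combination hzz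
    rcases mul_eq_zero.mp this with e | e
    · left; linear_combination e
    · right; linear_combination e
  rw [pow_two, Units.val_mul] at hz
  rcases hz' with rfl | rfl
  · rw [one_smul] at hz
    obtain ⟨t, htR, htt, ht1, htm⟩ := exists_invol h
    have htSp : t ∈ Cfsg.spGL 2 F := h0.sp htR
    have htt' : (t : M4 F) * (t : M4 F) = 1 := by
      rw [← Units.val_mul, htt, Units.val_one]
    have htns : ∀ c : F, (t : M4 F) ≠ c • (1 : M4 F) := by
      intro c hc
      have hcc : c * c = 1 := by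
        apply Cfsg.Agent.S5976P.scalar_sq_eq_one 2 (by norm_num) 1 t htSp c
        rw [pow_one]; exact hc
      have hc' : c = 1 ∨ c = -1 := by
        have : (c - 1) * (c + 1) = 0 := by linear_combination hcc
        rcases mul_eq_zero.mp this with e | e
        · left; linear_combination e
        · right; linear_combination e
      rcases hc' with rfl | rfl
      · apply ht1
        apply Units.ext
        rw [hc, one_smul, Units.val_one]
      · apply htm
        apply Units.ext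
        rw [hc, coe_neg_one, neg_one_smul]
    obtain ⟨a, ha1, ha2, hax⟩ := Cfsg.Agent.S5976P.exists_dim_of_sq_eq_one h2 2 x hx hz hns
    obtain ⟨b, hb1, hb2, hbt⟩ := Cfsg.Agent.S5976P.exists_dim_of_sq_eq_one h2 2 t htSp htt' htns
    have hab : a = b := by omega
    obtain ⟨g, hg, hgx⟩ := Cfsg.Agent.S5976P.conj_of_sq_eq_one h2 2 x t hx htSp hz htt'
      (by rw [hax, hbt, hab])
    exact ⟨g, hg, hgx ▸ htR⟩
  · obtain ⟨s, hsR, hss⟩ := exists_order_four h
    have hsSp : s ∈ Cfsg.spGL 2 F := h0.sp hsR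
    have hss' : (s : M4 F) * (s : M4 F) = (-1 : F) • (1 : M4 F) := by
      rw [← Units.val_mul, hss, coe_neg_one, neg_one_smul]
    obtain ⟨g, hg, hgx⟩ := Cfsg.Agent.S5976P.conj_of_sq_eq_neg_one h2 2 x s hx hsSp hz hss'
    exact ⟨g, hg, hgx ▸ hsR⟩

end Cfsg.Agent.S6002P
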