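import Mathlib
import Cfsg.Prelude.Def_GeometricClasses
import Cfsg.Prelude.Def_ClassicalGeometry
import Cfsg.Agent.Helper4.S6002Defs
import Cfsg.Agent.Helper3.ES2Rank

set_option autoImplicit false
open scoped MatrixGroups Matrix

/-! S6002 piece STRUCT2: the minus-type hypothesis in element form. -/

namespace Cfsg.Agent.S6002P

open Cfsg.Agent.Helper3 in
/-- STRUCT2 -/
theorem minus_of_hyps {F : Type*} [Field F] (R : Subgroup (GL I4 F)) (h : HypR0 R)
    (hRm : Cfsg.Geo.IsOfMinusType 2 R) :
    ∀ a ∈ R, ∀ b ∈ R, a * a = 1 → b * b = 1 → a * b = b * a →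
      a ≠ 1 → a ≠ -1 → b ≠ 1 → b ≠ -1 → a = b ∨ a = -b := by
  classical
  intro a ha b hb haa hbb hab ha1 ham hb1 hbm
  by_contra hcon
  push Not at hcon
  obtain ⟨hne1, hne2⟩ := hcon
  haveI : Finite ↥R := Nat.finite_of_card_ne_zero (by rw [h.card]; norm_num)
  let z : ↥R := ⟨-1, h.neg_mem⟩
  let a' : ↥R := ⟨a, ha⟩
  let b' : ↥R := ⟨b, hb⟩
  have hzz : z * z = 1 := Subtype.ext (by show (-1 : GL I4 F) * (-1) = 1; rw [neg_mul_neg, one_mul])
  have hz1 : z ≠ 1 := fun e => neg_one_ne_one h.two_ne (congrArg Subtype.val e)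
  have hzc : ∀ g : ↥R, g * z = z * g := by
    intro g
    apply Subtype.ext
    show g.1 * (-1) = (-1) * g.1
    rw [mul_neg, neg_mul, mul_one, one_mul]
  have ha'a' : a' * a' = 1 := Subtype.ext haa
  have hb'b' : b' * b' = 1 := Subtype.ext hbb
  -- first step: adjoin `a'` to `⟨z⟩`
  have hB0 := ES2.EA_zpowers hzz
  have hB0card := ES2.card_zpowers_invol hzz hz1
  have haB0 : a' ∉ Subgroup.zpowers z := by
    rw [ES2.mem_zpowers_invol hzz]
    rintro (e | e)
    · exact ha1 (congrArg Subtype.val e)
    · exact ham (congrArg Subtype.val e)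
  obtain ⟨B1, hB01, haB1, hEA1, hcard1⟩ := ES2.exists_adjoin (Subgroup.zpowers z) hB0 a' ha'a' haB0
    (by
      intro g hg
      rcases (ES2.mem_zpowers_invol hzz).mp hg with rfl | rfl
      · simp
      · exact hzc a')
  rw [hB0card] at hcard1
  have hzB1 : z ∈ B1 := hB01 (Subgroup.mem_zpowers z)
  -- the elements of `B1`
  haveI : Fintype ↥B1 := Fintype.ofFinite _
  have hB1elts : ∀ g ∈ B1, g = 1 ∨ g = z ∨ g = a' ∨ g = z * a' := by
    let S : Finset ↥B1 := {1, ⟨z, hzB1⟩, ⟨a', haB1⟩, ⟨z * a', B1.mul_mem hzB1 haB1⟩}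
    have hScard : S.card = 4 := by
      have hza1 : z * a' ≠ 1 := by
        intro e
        apply ham
        have : (-1 : GL I4 F) * a = 1 := congrArg Subtype.val e
        rw [neg_one_mul, neg_eq_iff_eq_neg] at this
        exact this
      have hzaz : z * a' ≠ z := by
        intro e
        apply ha1
        have : (-1 : GL I4 F) * a = -1 := congrArg Subtype.val e
        rw [neg_one_mul, neg_inj] at this
        exact this
      have hzaa : z * a' ≠ a' := by
        intro e
        have : (-1 : GL I4 F) * a = a := congrArg Subtype.val e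
        rw [neg_one_mul] at this
        exact neg_ne_self h.two_ne a this
      rw [Finset.card_insert_of_notMem, Finset.card_insert_of_notMem, Finset.card_insert_of_notMem,
        Finset.card_singleton]
      · rw [Finset.mem_singleton]
        intro e
        exact hzaa (congrArg Subtype.val e).symm
      · rw [Finset.mem_insert, Finset.mem_singleton, not_or]
        refine ⟨fun e => ham ?_, fun e => hzaz (congrArg Subtype.val e).symm⟩
        exact (congrArg (fun u : ↥B1 => u.1.1) e).symm
      · rw [Finset.mem_insert, Finset.mem_insert, Finset.mem_singleton, not_or, not_or]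
        refine ⟨fun e => hz1 (congrArg Subtype.val e).symm, fun e => ha1 ?_,
          fun e => hza1 (congrArg Subtype.val e).symm⟩
        exact (congrArg (fun u : ↥B1 => u.1.1) e).symm
    have hSuniv : S = Finset.univ := by
      apply Finset.eq_univ_of_card
      rw [hScard, ← Nat.card_eq_fintype_card, hcard1]
    intro g hg
    have : (⟨g, hg⟩ : ↥B1) ∈ S := by rw [hSuniv]; exact Finset.mem_univ _
    simp only [S, Finset.mem_insert, Finset.mem_singleton] at this
    rcases this with e | e | e | e
    · left; exact congrArg Subtype.val e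
    · right; left; exact congrArg Subtype.val e
    · right; right; left; exact congrArg Subtype.val e
    · right; right; right; exact congrArg Subtype.val e
  -- second step: adjoin `b'`
  have hbB1 : b' ∉ B1 := by
    intro hmem
    rcases hB1elts b' hmem with e | e | e | e
    · exact hb1 (congrArg Subtype.val e)
    · exact hbm (congrArg Subtype.val e)
    · exact hne1 (congrArg Subtype.val e).symm
    · apply hne2
      have : b = (-1 : GL I4 F) * a := congrArg Subtype.val e
      rw [this, neg_one_mul, neg_neg]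
  obtain ⟨B2, -, -, hEA2, hcard2⟩ := ES2.exists_adjoin B1 hEA1 b' hb'b' hbB1 (by
    intro g hg
    rcases hB1elts g hg with rfl | rfl | rfl | rfl
    · simp
    · exact hzc b'
    · exact Subtype.ext hab.symm
    · apply Subtype.ext
      show b * ((-1) * a) = (-1) * a * b
      rw [neg_one_mul, mul_neg, neg_mul, hab])
  rw [hcard1] at hcard2
  have hlt := hRm B2 ⟨⟨fun x y => Subtype.ext (hEA2.1 x.1 x.2 y.1 y.2)⟩⟩ (fun x hx => hEA2.2 x hx)
  rw [hcard2] at hlt
  norm_num at hlt

end Cfsg.Agent.S6002P
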