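import Mathlib
import Cfsg.Prelude.Def_GeometricClasses
import Cfsg.Prelude.Def_ClassicalGeometry
import Cfsg.Agent.Helper4.S6002Defs
import Cfsg.Agent.Helper4.S6002INVOL

set_option autoImplicit false
open scoped MatrixGroups Matrix

/-! S6002 piece T5: five pairwise anticommuting involutions in `R`. -/

namespace Cfsg.Agent.S6002P

namespace T5

variable {F : Type*} [Field F]

/-- the non-central involutions of `R` -/
abbrev Inv (R : Subgroup (GL I4 F)) : Type _ :=
  {a : GL I4 F // a ∈ R ∧ a * a = 1 ∧ a ≠ 1 ∧ a ≠ -1}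

/-- negation on the non-central involutions -/
def ng {R : Subgroup (GL I4 F)} (h : HypR0 R) (a : Inv R) : Inv R :=
  ⟨-a.1, by
    have : -a.1 = (-1 : GL I4 F) * a.1 := by rw [neg_one_mul]
    rw [this]; exact R.mul_mem h.neg_mem a.2.1,
    by rw [neg_mul_neg]; exact a.2.2.1,
    fun e => a.2.2.2.2 (neg_eq_iff_eq_neg.mp e),
    fun e => a.2.2.2.1 (neg_injective e)⟩

theorem greedy {R : Subgroup (GL I4 F)} (h : HypR R) :
    ∀ k : ℕ, k ≤ 5 → ∃ t : Fin k → Inv R,
      ∀ i j, i ≠ j → (t i).1 ≠ (t j).1 ∧ (t i).1 ≠ -(t j).1 := by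
  classical
  have h0 : HypR0 R := h.toHypR0
  haveI : Finite (Inv R) := Nat.finite_of_card_ne_zero (by rw [card_invol h]; norm_num)
  haveI : Fintype (Inv R) := Fintype.ofFinite _
  have hcard : Fintype.card (Inv R) = 10 := by
    rw [← Nat.card_eq_fintype_card]; exact card_invol h
  intro k
  induction k with
  | zero =>
    intro _
    exact ⟨Fin.elim0, fun i => i.elim0⟩
  | succ k ih =>
    intro hk
    obtain ⟨t, ht⟩ := ih (by omega)
    let S : Finset (Inv R) := Finset.univ.image t ∪ Finset.univ.image (fun i => ng h0 (t i))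
    have hS : S.card < (Finset.univ : Finset (Inv R)).card := by
      rw [Finset.card_univ, hcard]
      calc S.card ≤ (Finset.univ.image t).card + (Finset.univ.image (fun i => ng h0 (t i))).card :=
            Finset.card_union_le _ _
        _ ≤ k + k := by
            apply Nat.add_le_add
            · exact le_trans Finset.card_image_le (by simp)
            · exact le_trans Finset.card_image_le (by simp)
        _ < 10 := by omega
    obtain ⟨n, -, hn⟩ := Finset.exists_mem_notMem_of_card_lt_card hS
    have hn1 : ∀ i, n ≠ t i := by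
      intro i e
      apply hn
      rw [Finset.mem_union]
      left
      rw [Finset.mem_image]
      exact ⟨i, Finset.mem_univ _, e.symm⟩
    have hn2 : ∀ i, n ≠ ng h0 (t i) := by
      intro i e
      apply hn
      rw [Finset.mem_union]
      right
      rw [Finset.mem_image]
      exact ⟨i, Finset.mem_univ _, e.symm⟩
    refine ⟨Fin.cons n t, ?_⟩
    intro i j hij
    have hval : ∀ a b : Inv R, a ≠ b → a.1 ≠ b.1 := fun a b hab e => hab (Subtype.ext e)
    have hng : ∀ a : Inv R, (ng h0 a).1 = -a.1 := fun a => rfl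
    induction i using Fin.cases with
    | zero =>
      induction j using Fin.cases with
      | zero => exact absurd rfl hij
      | succ j' =>
        rw [Fin.cons_zero, Fin.cons_succ]
        refine ⟨hval _ _ (hn1 j'), ?_⟩
        rw [← hng]
        exact hval _ _ (hn2 j')
    | succ i' =>
      induction j using Fin.cases with
      | zero =>
        rw [Fin.cons_zero, Fin.cons_succ]
        refine ⟨hval _ _ (hn1 i').symm, ?_⟩
        intro e
        apply hval _ _ (hn2 i')
        rw [hng, e, neg_neg]
      | succ j' =>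
        rw [Fin.cons_succ, Fin.cons_succ]
        exact ht i' j' (fun e => hij (by rw [e]))

end T5

open T5 in
/-- T5 -/
theorem exists_five {F : Type*} [Field F] {R : Subgroup (GL I4 F)} (h : HypR R) :
    ∃ t : Fin 5 → GL I4 F, (∀ i, t i ∈ R) ∧ (∀ i, t i * t i = 1) ∧
      (∀ i j, i ≠ j → t i * t j = -(t j * t i)) := by
  obtain ⟨t, ht⟩ := greedy h 5 le_rfl
  refine ⟨fun i => (t i).1, fun i => (t i).2.1, fun i => (t i).2.2.1, ?_⟩
  intro i j hij
  exact h.anticomm (t i).2.1 (t j).2.1 (t i).2.2.1 (t j).2.2.1 (t i).2.2.2.1 (t i).2.2.2.2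
    (t j).2.2.2.1 (t j).2.2.2.2 (ht i j hij).1 (ht i j hij).2

end Cfsg.Agent.S6002P
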