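import Mathlib
import Cfsg.Prelude.Def_GeometricClasses
import Cfsg.Prelude.Def_ClassicalGeometry
import Cfsg.Agent.Helper4.S6002Defs

set_option autoImplicit false
open scoped MatrixGroups Matrix

/-! S6002 piece USP: for `s ∈ R` with `s² = -1` the matrix `1 + s` is invertible, normalizes `R` and is a
similitude of the symplectic form with multiplier `2`. -/

namespace Cfsg.Agent.S6002P

/-- USP -/
theorem one_add_props {F : Type*} [Field F] {R : Subgroup (GL I4 F)} (h : HypR0 R)
    (s : GL I4 F) (hs : s ∈ R) (hs2 : s * s = -1) :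
    ∃ u : GL I4 F, (u : M4 F) = 1 + (s : M4 F) ∧ u ∈ Cfsg.Geo.subgroupNormalizer R ∧
      (u : M4 F)ᵀ * Matrix.J (Fin 2) F * (u : M4 F) = (2 : F) • Matrix.J (Fin 2) F ∧
      (∀ a ∈ R, a * s = s * a → u * a * u⁻¹ = a) ∧
      (∀ a ∈ R, a * s = -(s * a) → u * a * u⁻¹ = s * a) := by
  classical
  have h2 : (2 : F) ≠ 0 := h.two_ne
  have hss : (s : M4 F) * (s : M4 F) = -1 := by
    rw [← Units.val_mul, hs2, coe_neg_one]
  have e1 : (1 + (s : M4 F)) * ((2 : F)⁻¹ • (1 - (s : M4 F))) = 1 := by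
    rw [Matrix.mul_smul]
    have : (1 + (s : M4 F)) * (1 - (s : M4 F)) = (2 : F) • (1 : M4 F) := by
      rw [mul_sub, mul_one, add_mul, one_mul, hss, two_smul]
      abel
    rw [this, smul_smul, inv_mul_cancel₀ h2, one_smul]
  have e2 : ((2 : F)⁻¹ • (1 - (s : M4 F))) * (1 + (s : M4 F)) = 1 := by
    rw [Matrix.smul_mul]
    have : (1 - (s : M4 F)) * (1 + (s : M4 F)) = (2 : F) • (1 : M4 F) := by
      rw [mul_add, mul_one, sub_mul, one_mul, hss, two_smul]
      abel
    rw [this, smul_smul, inv_mul_cancel₀ h2, one_smul]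
  let u : GL I4 F := ⟨1 + (s : M4 F), (2 : F)⁻¹ • (1 - (s : M4 F)), e1, e2⟩
  have hu : (u : M4 F) = 1 + (s : M4 F) := rfl
  -- conjugation formulas
  have hcomm : ∀ a : GL I4 F, a * s = s * a → u * a * u⁻¹ = a := by
    intro a ha
    have : u * a = a * u := by
      apply Units.ext
      rw [Units.val_mul, Units.val_mul, hu, add_mul, mul_add, one_mul, mul_one, ← Units.val_mul,
        ← Units.val_mul, ha]
    rw [this, mul_assoc, mul_inv_cancel, mul_one]
  have hanti : ∀ a : GL I4 F, a * s = -(s * a) → u * a * u⁻¹ = s * a := by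
    intro a ha
    have hsas : s * a * s = a := by
      rw [mul_assoc, ha, mul_neg, ← mul_assoc, hs2, neg_mul, neg_neg, one_mul]
    have : u * a = s * a * u := by
      apply Units.ext
      rw [Units.val_mul, Units.val_mul, hu, add_mul, mul_add, one_mul, mul_one, ← Units.val_mul,
        ← Units.val_mul, hsas, add_comm]
    rw [this, mul_assoc, mul_inv_cancel, mul_one]
  have hmaps : ∀ a ∈ R, u * a * u⁻¹ ∈ R := by
    intro a ha
    rcases h.comm a ha s hs with hc | hc
    · rw [hcomm a hc]; exact ha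
    · rw [hanti a hc]; exact R.mul_mem hs ha
  refine ⟨u, hu, ?_, ?_, fun a _ ha => hcomm a ha, fun a _ ha => hanti a ha⟩
  · rw [mem_normalizer_iff']
    intro a
    refine ⟨hmaps a, ?_⟩
    intro hb
    haveI : Finite ↥R := Nat.finite_of_card_ne_zero (by rw [h.card]; norm_num)
    let f : ↥R → ↥R := fun a => ⟨u * a.1 * u⁻¹, hmaps a.1 a.2⟩
    have hinj : Function.Injective f := by
      intro x z hxz
      have := congrArg Subtype.val hxz
      apply Subtype.ext
      have h1 : u * x.1 * u⁻¹ = u * z.1 * u⁻¹ := this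
      exact mul_left_cancel (mul_right_cancel h1)
    obtain ⟨a', ha'⟩ := (Finite.injective_iff_surjective.mp hinj) ⟨u * a * u⁻¹, hb⟩
    have h1 : u * a'.1 * u⁻¹ = u * a * u⁻¹ := congrArg Subtype.val ha'
    have h2' : a'.1 = a := mul_left_cancel (mul_right_cancel h1)
    rw [← h2']
    exact a'.2
  · have hsp := (mem_spGL_iff_transpose 2 s).mp (h.sp hs)
    have hsinv : (s : M4 F) * (-(s : M4 F)) = 1 := by
      rw [mul_neg, hss, neg_neg]
    have h3 : (s : M4 F)ᵀ * Matrix.J (Fin 2) F = -(Matrix.J (Fin 2) F * (s : M4 F)) := by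
      calc (s : M4 F)ᵀ * Matrix.J (Fin 2) F
          = (s : M4 F)ᵀ * Matrix.J (Fin 2) F * ((s : M4 F) * (-(s : M4 F))) := by
            rw [hsinv, Matrix.mul_one]
        _ = ((s : M4 F)ᵀ * Matrix.J (Fin 2) F * (s : M4 F)) * (-(s : M4 F)) := by
            simp only [Matrix.mul_assoc]
        _ = -(Matrix.J (Fin 2) F * (s : M4 F)) := by rw [hsp, Matrix.mul_neg]
    rw [hu, Matrix.transpose_add, Matrix.transpose_one, add_mul, add_mul, mul_add, mul_add,
      one_mul, mul_one, mul_one, hsp, h3, two_smul]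
    abel

end Cfsg.Agent.S6002P
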