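import Mathlib
import Cfsg.Prelude.Def_GeometricClasses
import Cfsg.Prelude.Def_ClassicalGeometry
import Cfsg.Agent.Helper4.S6002Defs

set_option autoImplicit false
open scoped MatrixGroups Matrix

/-! S6002 piece X3: an explicit element of order 3 of `Sp_4(F)` commuting with no anticommuting pair of
invertible matrices. -/

namespace Cfsg.Agent.S6002P

namespace X3

variable {F : Type*} [Field F]

/-- `a ⊕ 1` with `a = [[0,-1],[1,-1]]` on the hyperbolic plane `⟨e_{inl 0}, e_{inr 0}⟩` -/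
def X (F : Type*) [Field F] : M4 F :=
  Matrix.fromBlocks !![0,0;0,1] !![-1,0;0,0] !![1,0;0,0] !![-1,0;0,1]

theorem X_cube : X F * X F * X F = 1 := by
  unfold X
  rw [Matrix.fromBlocks_multiply, Matrix.fromBlocks_multiply, ← Matrix.fromBlocks_one]
  congr 1 <;> (ext i j; fin_cases i <;> fin_cases j <;> simp [Matrix.mul_apply, Fin.sum_univ_two])

theorem X_symp : (X F)ᵀ * Matrix.J (Fin 2) F * X F = Matrix.J (Fin 2) F := by
  unfold X Matrix.J
  rw [Matrix.fromBlocks_transpose, Matrix.fromBlocks_multiply, Matrix.fromBlocks_multiply]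
  congr 1 <;> (ext i j; fin_cases i <;> fin_cases j <;> simp [Matrix.mul_apply, Fin.sum_univ_two])

/-- the element of `GL` -/
def x (F : Type*) [Field F] : GL I4 F :=
  ⟨X F, X F * X F, by rw [← Matrix.mul_assoc]; exact X_cube, X_cube⟩

theorem x_val : ((x F : GL I4 F) : M4 F) = X F := rfl

/-- the vector `w = (x - 1) e_{inl 0}` -/
def w (F : Type*) [Field F] : I4 → F := Sum.elim ![-1, 0] ![1, 0]

/-- the vector `x w = (x - 1) e_{inr 0}` -/
def w' (F : Type*) [Field F] : I4 → F := Sum.elim ![-1, 0] ![-2, 0]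

theorem X_w : X F *ᵥ w F = w' F := by
  unfold X w w'
  funext i
  rcases i with i | i <;> fin_cases i <;>
    simp [Matrix.fromBlocks_mulVec, Matrix.mulVec, dotProduct, Fin.sum_univ_two] <;> ring

theorem X_w' : X F *ᵥ w' F = -(w F) - w' F := by
  unfold X w w'
  funext i
  rcases i with i | i <;> fin_cases i <;>
    simp [Matrix.fromBlocks_mulVec, Matrix.mulVec, dotProduct, Fin.sum_univ_two] <;> ring

/-- the image of `x - 1` -/
theorem sub_one_mulVec (v : I4 → F) :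
    (X F - 1) *ᵥ v = v (Sum.inl 0) • w F + v (Sum.inr 0) • w' F := by
  unfold X w w'
  rw [Matrix.sub_mulVec, Matrix.one_mulVec]
  funext i
  rcases i with i | i <;> fin_cases i <;>
    simp [Matrix.fromBlocks_mulVec, Matrix.mulVec, dotProduct, Fin.sum_univ_two] <;> ring

theorem w_eq : w F = (X F - 1) *ᵥ (Pi.single (Sum.inl 0) 1) := by
  rw [sub_one_mulVec]
  simp

theorem w_ne_zero : w F ≠ 0 := by
  intro h
  have := congrFun h (Sum.inr 0)
  simp [w] at this

/-- a matrix commuting with `x` maps `w` into the span of `w` and `x w` -/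
theorem exists_coeff (Q : M4 F) (hQ : X F * Q = Q * X F) :
    ∃ α β : F, Q *ᵥ w F = α • w F + β • w' F := by
  have h1 : (X F - 1) * Q = Q * (X F - 1) := by
    rw [sub_mul, mul_sub, hQ, one_mul, mul_one]
  refine ⟨(Q *ᵥ Pi.single (Sum.inl 0) 1) (Sum.inl 0), (Q *ᵥ Pi.single (Sum.inl 0) 1) (Sum.inr 0), ?_⟩
  rw [← sub_one_mulVec, Matrix.mulVec_mulVec, h1, ← Matrix.mulVec_mulVec, ← w_eq]

theorem Q_w' (Q : M4 F) (hQ : X F * Q = Q * X F) : Q *ᵥ w' F = X F *ᵥ (Q *ᵥ w F) := by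
  rw [← X_w, Matrix.mulVec_mulVec, Matrix.mulVec_mulVec, hQ]

/-- two matrices commuting with `x` commute on `w` -/
theorem comm_on_w (Q1 Q2 : M4 F) (h1 : X F * Q1 = Q1 * X F) (h2 : X F * Q2 = Q2 * X F) :
    Q1 *ᵥ (Q2 *ᵥ w F) = Q2 *ᵥ (Q1 *ᵥ w F) := by
  obtain ⟨α1, β1, e1⟩ := exists_coeff Q1 h1
  obtain ⟨α2, β2, e2⟩ := exists_coeff Q2 h2
  have f1 : Q1 *ᵥ w' F = α1 • w' F + β1 • (-(w F) - w' F) := by
    rw [Q_w' Q1 h1, e1, Matrix.mulVec_add, Matrix.mulVec_smul, Matrix.mulVec_smul, X_w, X_w']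
  have f2 : Q2 *ᵥ w' F = α2 • w' F + β2 • (-(w F) - w' F) := by
    rw [Q_w' Q2 h2, e2, Matrix.mulVec_add, Matrix.mulVec_smul, Matrix.mulVec_smul, X_w, X_w']
  rw [e2, e1, Matrix.mulVec_add, Matrix.mulVec_add, Matrix.mulVec_smul, Matrix.mulVec_smul,
    Matrix.mulVec_smul, Matrix.mulVec_smul, e1, e2, f1, f2]
  module

end X3

open X3 in
/-- X3 -/
theorem exists_x3 {F : Type*} [Field F] (h2 : (2 : F) ≠ 0) :
    ∃ x ∈ Cfsg.spGL 2 F, ((x ^ 3 : GL I4 F) : M4 F) = 1 ∧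
      (∀ z : F, (x : M4 F) ≠ z • (1 : M4 F)) ∧
      ∀ q1 q2 : GL I4 F, x * q1 = q1 * x → x * q2 = q2 * x → q1 * q2 ≠ -(q2 * q1) := by
  refine ⟨X3.x F, ?_, ?_, ?_, ?_⟩
  · rw [mem_spGL_iff_transpose, x_val]
    exact X_symp
  · rw [pow_succ, pow_two, Units.val_mul, Units.val_mul, x_val]
    exact X_cube
  · intro z hz
    rw [x_val] at hz
    have := congrFun (congrFun hz (Sum.inr 0)) (Sum.inl 0)
    simp [X] at this
  · intro q1 q2 hq1 hq2 hanti
    have hc1 : X F * (q1 : M4 F) = (q1 : M4 F) * X F := by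
      rw [← x_val, ← Units.val_mul, ← Units.val_mul, hq1]
    have hc2 : X F * (q2 : M4 F) = (q2 : M4 F) * X F := by
      rw [← x_val, ← Units.val_mul, ← Units.val_mul, hq2]
    have h3 := comm_on_w (q1 : M4 F) (q2 : M4 F) hc1 hc2
    have h4 : (q1 : M4 F) * (q2 : M4 F) = -((q2 : M4 F) * (q1 : M4 F)) := by
      rw [← Units.val_mul, ← Units.val_mul, hanti, coe_neg]
    rw [Matrix.mulVec_mulVec, Matrix.mulVec_mulVec, h4, Matrix.neg_mulVec] at h3
    have h5 : (2 : F) • (((q2 : M4 F) * (q1 : M4 F)) *ᵥ w F) = 0 := by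
      rw [two_smul]
      nth_rw 1 [← h3]
      exact neg_add_cancel _
    have h6 : ((q2 : M4 F) * (q1 : M4 F)) *ᵥ w F = 0 := by
      rcases smul_eq_zero.mp h5 with e | e
      · exact absurd e h2
      · exact e
    apply w_ne_zero (F := F)
    have h7 : (((q2 * q1)⁻¹ : GL I4 F) : M4 F) *ᵥ (((q2 : M4 F) * (q1 : M4 F)) *ᵥ w F) = w F := by
      rw [Matrix.mulVec_mulVec, ← Units.val_mul, ← Units.val_mul, inv_mul_cancel, Units.val_one,
        Matrix.one_mulVec]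
    rw [← h7, h6, Matrix.mulVec_zero]

end Cfsg.Agent.S6002P
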