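import Mathlib
import Cfsg.Prelude.Def_GeometricClasses
import Cfsg.Prelude.Def_ClassicalGeometry
import Cfsg.Agent.Helper4.S6002Defs

set_option autoImplicit false
open scoped MatrixGroups Matrix

/-! S6002 piece X5: an explicit element of order 5 of `Sp_4(F)` with a centralizer of dimension at least 5. -/

namespace Cfsg.Agent.S6002P

namespace X5

variable {F : Type*} [Field F]

/-- `a ⊕ 1` with `a = [[0,-1],[1,t]]` on the hyperbolic plane `⟨e_{inl 0}, e_{inr 0}⟩` -/
def X (t : F) : M4 F :=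
  Matrix.fromBlocks !![0,0;0,1] !![-1,0;0,0] !![1,0;0,0] !![t,0;0,1]

/-- its inverse -/
def Xi (t : F) : M4 F :=
  Matrix.fromBlocks !![t,0;0,1] !![1,0;0,0] !![-1,0;0,0] !![0,0;0,1]

/-- its square -/
def X2 (t : F) : M4 F :=
  Matrix.fromBlocks !![-1,0;0,1] !![-t,0;0,0] !![t,0;0,0] !![t*t-1,0;0,1]

theorem X_mul_Xi (t : F) : X t * Xi t = 1 := by
  unfold X Xi
  rw [Matrix.fromBlocks_multiply, ← Matrix.fromBlocks_one]
  congr 1 <;> (ext i j; fin_cases i <;> fin_cases j <;> simp [Matrix.mul_apply, Fin.sum_univ_two])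

theorem Xi_mul_X (t : F) : Xi t * X t = 1 := by
  unfold X Xi
  rw [Matrix.fromBlocks_multiply, ← Matrix.fromBlocks_one]
  congr 1 <;> (ext i j; fin_cases i <;> fin_cases j <;> simp [Matrix.mul_apply, Fin.sum_univ_two])

theorem X_sq (t : F) : X t * X t = X2 t := by
  unfold X X2
  rw [Matrix.fromBlocks_multiply]
  congr 1 <;> (ext i j; fin_cases i <;> fin_cases j <;>
    simp [Matrix.mul_apply, Fin.sum_univ_two]) <;> ring

theorem X2_sq (t : F) (ht : t * t + t - 1 = 0) : X2 t * X2 t = Xi t := by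
  unfold X2 Xi
  rw [Matrix.fromBlocks_multiply]
  congr 1 <;> (ext i j; fin_cases i <;> fin_cases j <;>
    simp [Matrix.mul_apply, Fin.sum_univ_two])
  · linear_combination (-1 : F) * ht
  · linear_combination (-(t - 1)) * ht
  · linear_combination (t - 1) * ht
  · linear_combination (t * t - t - 1) * ht

theorem X_symp (t : F) : (X t)ᵀ * Matrix.J (Fin 2) F * X t = Matrix.J (Fin 2) F := by
  unfold X Matrix.J
  rw [Matrix.fromBlocks_transpose, Matrix.fromBlocks_multiply, Matrix.fromBlocks_multiply]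
  congr 1 <;> (ext i j; fin_cases i <;> fin_cases j <;> simp [Matrix.mul_apply, Fin.sum_univ_two])

/-- the element of `GL` -/
def x (t : F) : GL I4 F := ⟨X t, Xi t, X_mul_Xi t, Xi_mul_X t⟩

theorem x_val (t : F) : ((x t : GL I4 F) : M4 F) = X t := rfl

/-- five matrices commuting with `x` -/
def mm (F : Type*) [Field F] : Fin 5 → M4 F :=
  ![1, Matrix.single (Sum.inl 1) (Sum.inl 1) 1, Matrix.single (Sum.inl 1) (Sum.inr 1) 1,
    Matrix.single (Sum.inr 1) (Sum.inl 1) 1, Matrix.single (Sum.inr 1) (Sum.inr 1) 1]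

theorem single_comm (t : F) (a b : Fin 2 ⊕ Fin 2)
    (ha : a = Sum.inl 1 ∨ a = Sum.inr 1) (hb : b = Sum.inl 1 ∨ b = Sum.inr 1) :
    Matrix.single a b (1 : F) * X t = X t * Matrix.single a b (1 : F) := by
  have hrow : ∀ c, X t b c = if b = c then 1 else 0 := by
    intro c
    rcases hb with rfl | rfl <;> rcases c with c | c <;> fin_cases c <;> simp [X]
  have hcol : ∀ c, X t c a = if c = a then 1 else 0 := by
    intro c
    rcases ha with rfl | rfl <;> rcases c with c | c <;> fin_cases c <;> simp [X]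
  ext i j
  by_cases hi : i = a
  · subst hi
    rw [Matrix.single_mul_apply_same, hrow, one_mul]
    by_cases hj : j = b
    · subst hj
      rw [Matrix.mul_single_apply_same, hcol, if_pos rfl, if_pos rfl, mul_one]
    · rw [Matrix.mul_single_apply_of_ne _ _ _ _ _ hj, if_neg (Ne.symm hj)]
  · rw [Matrix.single_mul_apply_of_ne _ _ _ _ _ hi]
    by_cases hj : j = b
    · subst hj
      rw [Matrix.mul_single_apply_same, hcol, if_neg hi, zero_mul]
    · rw [Matrix.mul_single_apply_of_ne _ _ _ _ _ hj]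

theorem mm_comm (t : F) (i : Fin 5) : mm F i * X t = X t * mm F i := by
  fin_cases i
  · show (1 : M4 F) * X t = X t * 1
    rw [one_mul, mul_one]
  · exact single_comm t _ _ (Or.inl rfl) (Or.inl rfl)
  · exact single_comm t _ _ (Or.inl rfl) (Or.inr rfl)
  · exact single_comm t _ _ (Or.inr rfl) (Or.inl rfl)
  · exact single_comm t _ _ (Or.inr rfl) (Or.inr rfl)

theorem mm_li : LinearIndependent F (mm F) := by
  rw [Fintype.linearIndependent_iff]
  intro g hg
  rw [Fin.sum_univ_five] at hg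
  have e0 := congrFun (congrFun hg (Sum.inl 0)) (Sum.inl 0)
  have e1 := congrFun (congrFun hg (Sum.inl 1)) (Sum.inl 1)
  have e2 := congrFun (congrFun hg (Sum.inl 1)) (Sum.inr 1)
  have e3 := congrFun (congrFun hg (Sum.inr 1)) (Sum.inl 1)
  have e4 := congrFun (congrFun hg (Sum.inr 1)) (Sum.inr 1)
  simp [mm, Matrix.single, Matrix.one_apply] at e0 e1 e2 e3 e4
  intro i
  fin_cases i
  · exact e0
  · show g 1 = 0
    rw [e0] at e1
    simpa using e1
  · exact e2
  · exact e3
  · show g 4 = 0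
    rw [e0] at e4
    simpa using e4

end X5

open X5 in
/-- X5 -/
theorem exists_x5 {F : Type*} [Field F] (_h2 : (2 : F) ≠ 0) (t : F) (ht : t * t + t - 1 = 0) :
    ∃ x ∈ Cfsg.spGL 2 F, ((x ^ 5 : GL I4 F) : M4 F) = 1 ∧
      (∀ z : F, (x : M4 F) ≠ z • (1 : M4 F)) ∧
      ∃ m : Fin 5 → M4 F, LinearIndependent F m ∧ ∀ i, m i * (x : M4 F) = (x : M4 F) * m i := by
  refine ⟨X5.x t, ?_, ?_, ?_, mm F, mm_li, fun i => ?_⟩
  · rw [mem_spGL_iff_transpose, x_val]
    exact X_symp t
  · have e : (X5.x t) ^ 5 = (X5.x t * X5.x t) * (X5.x t * X5.x t) * X5.x t := by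
      rw [pow_succ, pow_succ, pow_succ, pow_succ, pow_one]; simp only [mul_assoc]
    rw [e, Units.val_mul, Units.val_mul, Units.val_mul, x_val, X_sq, X2_sq t ht, Xi_mul_X]
  · intro z hz
    rw [x_val] at hz
    have := congrFun (congrFun hz (Sum.inr 0)) (Sum.inl 0)
    simp [X] at this
  · rw [x_val]
    exact mm_comm t i

end Cfsg.Agent.S6002P
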