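import Mathlib
import Cfsg.Prelude.Def_GeometricClasses
import Cfsg.Prelude.Def_ClassicalGeometry
import Cfsg.Agent.Helper4.S6002Defs
import Cfsg.Agent.Helper4.S6002T5
import Cfsg.Agent.Helper4.S6002GEN
import Cfsg.Agent.Helper4.S6002USP
import Cfsg.Agent.Helper24.S5976ZPM

set_option autoImplicit false
open scoped MatrixGroups Matrix

/-! S6002 piece Y5: an element of order 5 of `Sp_4(F) ∩ N(R)`. -/

namespace Cfsg.Agent.S6002P

namespace Y5

variable {F : Type*} [Field F]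

/-- similitudes of the symplectic form, with multiplier -/
def IsSim (g : M4 F) (τ : F) : Prop := gᵀ * Matrix.J (Fin 2) F * g = τ • Matrix.J (Fin 2) F

theorem IsSim.mul {g g' : M4 F} {τ τ' : F} (h : IsSim g τ) (h' : IsSim g' τ') :
    IsSim (g * g') (τ * τ') := by
  unfold IsSim at *
  calc (g * g')ᵀ * Matrix.J (Fin 2) F * (g * g')
      = g'ᵀ * (gᵀ * Matrix.J (Fin 2) F * g) * g' := by
        rw [Matrix.transpose_mul]; simp only [Matrix.mul_assoc]
    _ = (τ * τ') • Matrix.J (Fin 2) F := by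
        rw [h, Matrix.mul_smul, Matrix.smul_mul, h', smul_smul]

theorem IsSim.smul {g : M4 F} {τ : F} (h : IsSim g τ) (c : F) : IsSim (c • g) (c * c * τ) := by
  unfold IsSim at *
  rw [Matrix.transpose_smul, Matrix.smul_mul, Matrix.smul_mul, Matrix.mul_smul, h, smul_smul,
    smul_smul]

/-- scalar units -/
def scal (c : F) (hc : c ≠ 0) : GL I4 F :=
  ⟨c • (1 : M4 F), c⁻¹ • (1 : M4 F),
    by rw [Matrix.smul_mul, Matrix.mul_smul, Matrix.one_mul, smul_smul, mul_inv_cancel₀ hc, one_smul],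
    by rw [Matrix.smul_mul, Matrix.mul_smul, Matrix.one_mul, smul_smul, inv_mul_cancel₀ hc, one_smul]⟩

theorem scal_val (c : F) (hc : c ≠ 0) : ((scal c hc : GL I4 F) : M4 F) = c • (1 : M4 F) := rfl

theorem scal_mul_val (c : F) (hc : c ≠ 0) (w : GL I4 F) :
    ((scal c hc * w : GL I4 F) : M4 F) = c • (w : M4 F) := by
  rw [Units.val_mul, scal_val, Matrix.smul_mul, Matrix.one_mul]

/-- conjugation by a product -/
theorem conj_mul {G : Type*} [Group G] (u v a : G) :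
    (u * v) * a * (u * v)⁻¹ = u * (v * a * v⁻¹) * u⁻¹ := by group

theorem conj_neg (u a : GL I4 F) : u * (-a) * u⁻¹ = -(u * a * u⁻¹) := by
  rw [mul_neg, neg_mul]

section cliff

variable {t : Fin 5 → GL I4 F} (ht2 : ∀ i, t i * t i = 1)
  (hanti : ∀ i j, i ≠ j → t i * t j = -(t j * t i))

include ht2 hanti

theorem sq_pair {i j : Fin 5} (hij : i ≠ j) : (t i * t j) * (t i * t j) = -1 := by
  calc (t i * t j) * (t i * t j) = t i * (t j * t i) * t j := by simp only [mul_assoc]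
    _ = t i * (-(t i * t j)) * t j := by rw [hanti j i hij.symm]
    _ = -((t i * t i) * (t j * t j)) := by
        rw [mul_neg, neg_mul]; simp only [mul_assoc]
    _ = -1 := by rw [ht2, ht2, one_mul]

theorem comm_pair {i j k : Fin 5} (hki : k ≠ i) (hkj : k ≠ j) :
    t k * (t i * t j) = (t i * t j) * t k := by
  calc t k * (t i * t j) = (t k * t i) * t j := by rw [mul_assoc]
    _ = (-(t i * t k)) * t j := by rw [hanti k i hki]
    _ = -(t i * (t k * t j)) := by rw [neg_mul, mul_assoc]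
    _ = -(t i * (-(t j * t k))) := by rw [hanti k j hkj]
    _ = (t i * t j) * t k := by rw [mul_neg, neg_neg, mul_assoc]

theorem pair_mul_left {i j : Fin 5} (hij : i ≠ j) : (t i * t j) * t i = -(t j) := by
  calc (t i * t j) * t i = t i * (t j * t i) := by rw [mul_assoc]
    _ = t i * (-(t i * t j)) := by rw [hanti j i hij.symm]
    _ = -((t i * t i) * t j) := by rw [mul_neg, mul_assoc]
    _ = -(t j) := by rw [ht2, one_mul]

theorem pair_mul_right {i j : Fin 5} : (t i * t j) * t j = t i := by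
  rw [mul_assoc, ht2, mul_one]

theorem anti_left {i j : Fin 5} (hij : i ≠ j) : t i * (t i * t j) = -((t i * t j) * t i) := by
  rw [pair_mul_left ht2 hanti hij, neg_neg, ← mul_assoc, ht2, one_mul]

theorem anti_right {i j : Fin 5} (hij : i ≠ j) : t j * (t i * t j) = -((t i * t j) * t j) := by
  rw [pair_mul_right ht2 hanti, ← mul_assoc, hanti j i hij.symm, neg_mul, mul_assoc, ht2, mul_one]

end cliff

/-- the Spin-type element attached to the pair `(i, j)` -/
theorem exists_u {R : Subgroup (GL I4 F)} (h : HypR0 R) {t : Fin 5 → GL I4 F} (ht : ∀ i, t i ∈ R)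
    (ht2 : ∀ i, t i * t i = 1) (hanti : ∀ i j, i ≠ j → t i * t j = -(t j * t i))
    {i j : Fin 5} (hij : i ≠ j) :
    ∃ u : GL I4 F, u ∈ Cfsg.Geo.subgroupNormalizer R ∧ IsSim (u : M4 F) 2 ∧
      (∀ k, k ≠ i → k ≠ j → u * t k * u⁻¹ = t k) ∧ u * t i * u⁻¹ = -(t j) ∧
      u * t j * u⁻¹ = t i := by
  obtain ⟨u, -, huN, huJ, huc, hua⟩ := one_add_props h (t i * t j) (R.mul_mem (ht i) (ht j))
    (sq_pair ht2 hanti hij)
  refine ⟨u, huN, huJ, ?_, ?_, ?_⟩
  · intro k hki hkj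
    exact huc (t k) (ht k) (comm_pair ht2 hanti hki hkj)
  · rw [hua (t i) (ht i) (anti_left ht2 hanti hij), pair_mul_left ht2 hanti hij]
  · rw [hua (t j) (ht j) (anti_right ht2 hanti hij), pair_mul_right ht2 hanti]

theorem normalizer_scal (R : Subgroup (GL I4 F)) (c : F) (hc : c ≠ 0) :
    scal c hc ∈ Cfsg.Geo.subgroupNormalizer R := by
  rw [mem_normalizer_iff']
  intro a
  rw [conj_eq_of_scalar (scal_val c hc) a]

theorem pow5_conj {G : Type*} [Group G] (w a : G) :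
    w ^ 5 * a * (w ^ 5)⁻¹ = w * (w * (w * (w * (w * a * w⁻¹) * w⁻¹) * w⁻¹) * w⁻¹) * w⁻¹ := by
  have e5 : w ^ 5 = w * (w * (w * (w * w))) := by
    rw [pow_succ, pow_succ, pow_succ, pow_succ, pow_one]; simp only [mul_assoc]
  rw [e5]
  simp only [mul_inv_rev, mul_assoc]

end Y5

open Y5 in
/-- Y5 -/
theorem exists_y5 {F : Type*} [Field F] {R : Subgroup (GL I4 F)} (h : HypR R) :
    ∃ y ∈ Cfsg.spGL 2 F, y ∈ Cfsg.Geo.subgroupNormalizer R ∧ y ^ 5 = 1 ∧ y ≠ 1 := by
  have h0 : HypR0 R := h.toHypR0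
  have h2 : (2 : F) ≠ 0 := h0.two_ne
  obtain ⟨t, ht, ht2, hanti⟩ := exists_five h
  have hcl := closure_five h t ht ht2 hanti
  obtain ⟨u0, hu0N, hu0J, hu0f, hu0i, hu0j⟩ :=
    exists_u h0 ht ht2 hanti (i := 0) (j := 1) (by decide)
  obtain ⟨u1, hu1N, hu1J, hu1f, hu1i, hu1j⟩ :=
    exists_u h0 ht ht2 hanti (i := 1) (j := 2) (by decide)
  obtain ⟨u2, hu2N, hu2J, hu2f, hu2i, hu2j⟩ :=
    exists_u h0 ht ht2 hanti (i := 2) (j := 3) (by decide)
  obtain ⟨u3, hu3N, hu3J, hu3f, hu3i, hu3j⟩ :=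
    exists_u h0 ht ht2 hanti (i := 3) (j := 4) (by decide)
  set w : GL I4 F := u0 * (u1 * (u2 * u3)) with hw
  have hwN : w ∈ Cfsg.Geo.subgroupNormalizer R :=
    Subgroup.mul_mem _ hu0N (Subgroup.mul_mem _ hu1N (Subgroup.mul_mem _ hu2N hu3N))
  have hwJ : IsSim (w : M4 F) 16 := by
    have := hu0J.mul (hu1J.mul (hu2J.mul hu3J))
    have e : (2 : F) * (2 * (2 * 2)) = 16 := by norm_num
    rw [e] at this
    rw [hw, Units.val_mul, Units.val_mul, Units.val_mul]
    exact this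
  have hconj : ∀ a : GL I4 F, w * a * w⁻¹ =
      u0 * (u1 * (u2 * (u3 * a * u3⁻¹) * u2⁻¹) * u1⁻¹) * u0⁻¹ := by
    intro a
    rw [hw]
    group
  have c4 : w * t 4 * w⁻¹ = t 0 := by
    rw [hconj, hu3j, hu2j, hu1j, hu0j]
  have c0 : w * t 0 * w⁻¹ = -(t 1) := by
    rw [hconj, hu3f 0 (by decide) (by decide), hu2f 0 (by decide) (by decide),
      hu1f 0 (by decide) (by decide), hu0i]
  have c1 : w * t 1 * w⁻¹ = -(t 2) := by
    rw [hconj, hu3f 1 (by decide) (by decide), hu2f 1 (by decide) (by decide), hu1i, conj_neg,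
      hu0f 2 (by decide) (by decide)]
  have c2 : w * t 2 * w⁻¹ = -(t 3) := by
    rw [hconj, hu3f 2 (by decide) (by decide), hu2i, conj_neg, hu1f 3 (by decide) (by decide),
      conj_neg, hu0f 3 (by decide) (by decide)]
  have c3 : w * t 3 * w⁻¹ = -(t 4) := by
    rw [hconj, hu3i, conj_neg, hu2f 4 (by decide) (by decide), conj_neg,
      hu1f 4 (by decide) (by decide), conj_neg, hu0f 4 (by decide) (by decide)]
  have hfix : ∀ i, w ^ 5 * t i * (w ^ 5)⁻¹ = t i := by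
    intro i
    rw [pow5_conj]
    fin_cases i
    · show w * (w * (w * (w * (w * t 0 * w⁻¹) * w⁻¹) * w⁻¹) * w⁻¹) * w⁻¹ = t 0
      rw [c0, conj_neg, c1, neg_neg, c2, conj_neg, c3, neg_neg, c4]
    · show w * (w * (w * (w * (w * t 1 * w⁻¹) * w⁻¹) * w⁻¹) * w⁻¹) * w⁻¹ = t 1
      rw [c1, conj_neg, c2, neg_neg, c3, conj_neg, c4, conj_neg, c0, neg_neg]
    · show w * (w * (w * (w * (w * t 2 * w⁻¹) * w⁻¹) * w⁻¹) * w⁻¹) * w⁻¹ = t 2
      rw [c2, conj_neg, c3, neg_neg, c4, c0, conj_neg, c1, neg_neg]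
    · show w * (w * (w * (w * (w * t 3 * w⁻¹) * w⁻¹) * w⁻¹) * w⁻¹) * w⁻¹ = t 3
      rw [c3, conj_neg, c4, conj_neg, c0, neg_neg, c1, conj_neg, c2, neg_neg]
    · show w * (w * (w * (w * (w * t 4 * w⁻¹) * w⁻¹) * w⁻¹) * w⁻¹) * w⁻¹ = t 4
      rw [c4, c0, conj_neg, c1, neg_neg, c2, conj_neg, c3, neg_neg]
  -- `w ^ 5` centralizes `R`
  have hcent : ∀ a ∈ R, w ^ 5 * a = a * w ^ 5 := by
    intro a ha
    rw [← hcl] at ha
    have hle : Subgroup.closure (Set.range t) ≤ Subgroup.centralizer ({w ^ 5} : Set (GL I4 F)) := by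
      rw [Subgroup.closure_le]
      rintro _ ⟨i, rfl⟩
      rw [SetLike.mem_coe, Subgroup.mem_centralizer_iff]
      intro g hg
      rw [Set.mem_singleton_iff] at hg
      subst hg
      have := hfix i
      calc w ^ 5 * t i = (w ^ 5 * t i * (w ^ 5)⁻¹) * w ^ 5 := by group
        _ = t i * w ^ 5 := by rw [this]
    have := hle ha
    rw [Subgroup.mem_centralizer_iff] at this
    exact this (w ^ 5) rfl
  obtain ⟨c, hc⟩ := h0.scalar_of_commute ((w ^ 5 : GL I4 F) : M4 F) (by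
    intro a ha
    rw [← Units.val_mul, ← Units.val_mul, hcent a ha])
  -- normalise
  have h4 : (4 : F) ≠ 0 := by
    have : (4 : F) = 2 * 2 := by norm_num
    rw [this]
    exact mul_ne_zero h2 h2
  have h4i : (4 : F)⁻¹ ≠ 0 := inv_ne_zero h4
  set y1 : GL I4 F := scal (4 : F)⁻¹ h4i * w with hy1
  have hy1N : y1 ∈ Cfsg.Geo.subgroupNormalizer R :=
    Subgroup.mul_mem _ (normalizer_scal R _ h4i) hwN
  have hy1Sp : y1 ∈ Cfsg.spGL 2 F := by
    rw [mem_spGL_iff_transpose, hy1, scal_mul_val]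
    have := hwJ.smul (4 : F)⁻¹
    unfold IsSim at this
    rw [this]
    have e : (4 : F)⁻¹ * (4 : F)⁻¹ * 16 = 1 := by
      field_simp
      norm_num
    rw [e, one_smul]
  have hy1conj : ∀ a : GL I4 F, y1 * a * y1⁻¹ = w * a * w⁻¹ := by
    intro a
    rw [hy1, Y5.conj_mul, conj_eq_of_scalar (scal_val _ h4i)]
  have hscal_comm : ∀ g : GL I4 F, scal (4 : F)⁻¹ h4i * g = g * scal (4 : F)⁻¹ h4i :=
    fun g => gl_comm_of_scalar (scal_val _ h4i) g
  have hy1pow : ((y1 ^ 5 : GL I4 F) : M4 F) = ((4 : F)⁻¹ ^ 5 * c) • (1 : M4 F) := by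
    have e1 : y1 ^ 5 = scal (4 : F)⁻¹ h4i ^ 5 * w ^ 5 := by
      rw [hy1, (show Commute (scal (4 : F)⁻¹ h4i) w from hscal_comm w).mul_pow]
    rw [e1, Units.val_mul, hc, Units.val_pow_eq_pow_val, scal_val, smul_pow, one_pow,
      Matrix.smul_mul, Matrix.one_mul, smul_smul]
  set c' : F := (4 : F)⁻¹ ^ 5 * c with hc'
  have hcc : c' * c' = 1 :=
    Cfsg.Agent.S5976P.scalar_sq_eq_one 2 (by norm_num) 5 y1 hy1Sp c' hy1pow
  have hc'0 : c' ≠ 0 := by
    intro e
    rw [e, mul_zero] at hcc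
    exact zero_ne_one hcc
  set y : GL I4 F := scal c' hc'0 * y1 with hy
  have hyconj : ∀ a : GL I4 F, y * a * y⁻¹ = w * a * w⁻¹ := by
    intro a
    rw [hy, Y5.conj_mul, conj_eq_of_scalar (scal_val _ hc'0), hy1conj]
  refine ⟨y, ?_, ?_, ?_, ?_⟩
  · rw [mem_spGL_iff_transpose, hy, scal_mul_val]
    have hS : IsSim (y1 : M4 F) 1 := by
      unfold IsSim
      rw [one_smul]
      exact (mem_spGL_iff_transpose 2 y1).mp hy1Sp
    have := hS.smul c'
    unfold IsSim at this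
    rw [this, mul_one, hcc, one_smul]
  · exact Subgroup.mul_mem _ (normalizer_scal R _ hc'0) hy1N
  · have hcomm : Commute (scal c' hc'0) y1 := gl_comm_of_scalar (scal_val _ hc'0) y1
    apply Units.ext
    rw [hy, hcomm.mul_pow, Units.val_mul, hy1pow, Units.val_pow_eq_pow_val, scal_val, smul_pow,
      one_pow, Matrix.smul_mul, Matrix.one_mul, smul_smul, Units.val_one]
    have e : c' ^ 5 * c' = 1 := by
      calc c' ^ 5 * c' = (c' * c') ^ 3 := by ring
        _ = 1 := by rw [hcc, one_pow]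
    rw [e, one_smul]
  · intro hy1'
    have e1 : y * t 4 * y⁻¹ = t 4 := by rw [hy1']; group
    rw [hyconj, c4] at e1
    have e2 := hanti 0 4 (by decide)
    rw [e1, ht2] at e2
    exact neg_one_ne_one h2 e2.symm

end Cfsg.Agent.S6002P
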