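import Cfsg.Agent.Helper26.S6002STRUCT1
import Cfsg.Agent.Helper4.S6002STRUCT2
import Cfsg.Agent.Helper4.S6002ES2INST
import Cfsg.Agent.Helper4.S6002JJ12
import Cfsg.Agent.Helper4.S6002INVOL
import Cfsg.Agent.Helper4.S6002T5
import Cfsg.Agent.Helper4.S6002GEN
import Cfsg.Agent.Helper10.S6002LI
import Cfsg.Agent.Helper10.S6002SPAN
import Cfsg.Agent.Helper4.S6002FIX
import Cfsg.Agent.Helper4.S6002CENTCARD
import Cfsg.Agent.Helper4.S6002NOSEVEN
import Cfsg.Agent.Helper4.S6002CENT5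
import Cfsg.Agent.Helper4.S6002P3
import Cfsg.Agent.Helper4.S6002X3
import Cfsg.Agent.Helper15.S6002NT5
import Cfsg.Agent.Helper4.S6002X5
import Cfsg.Agent.Helper24.S6002ORB5
import Cfsg.Agent.Helper4.S6002P5
import Cfsg.Agent.Helper4.S6002USP
import Cfsg.Agent.Helper4.S6002Y5
import Cfsg.Agent.Helper24.S6002SYL5
import Cfsg.Agent.Helper4.S6002R2
import Cfsg.Agent.Helper4.S6002CAUCHY
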