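import Mathlib
import Cfsg.Prelude.Def_GeometricClasses
import Cfsg.Prelude.Def_ClassicalGeometry
import Cfsg.Agent.Helper4.S6002Defs
import Cfsg.Agent.Helper4.S6002All
import Cfsg.Agent.Helper24.S5976ZPM

set_option autoImplicit false
open scoped MatrixGroups Matrix

/-! Assembly of S6002 from the pieces. -/

namespace Cfsg.Agent.S6002P

theorem prime_cases_of_dvd {r n : ℕ} (hr : r.Prime) (hn : 0 < n) (hd : r ∣ n) (hle : n ≤ 30) :
    r ≤ 30 := le_trans (Nat.le_of_dvd hn hd) hle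

/-- conjugation of a power -/
theorem conj_pow' {G : Type*} [Group G] (g x : G) (n : ℕ) :
    (g⁻¹ * x * g) ^ n = g⁻¹ * x ^ n * g := by
  induction n with
  | zero => simp
  | succ n ih => rw [pow_succ, ih, pow_succ]; group

/-- the conjugate of an element whose `n`-th power is the identity matrix -/
theorem coe_conj_pow_eq_one {F : Type*} [Field F] (g x : GL I4 F) (n : ℕ)
    (hx : ((x ^ n : GL I4 F) : M4 F) = 1) :
    (((g⁻¹ * x * g) ^ n : GL I4 F) : M4 F) = (1 : F) • (1 : M4 F) := by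
  have h1 : x ^ n = 1 := Units.ext hx
  rw [conj_pow', h1, one_smul]
  simp

/-- the conjugate of a non-scalar matrix is non-scalar -/
theorem conj_nonscalar {F : Type*} [Field F] (g x : GL I4 F)
    (hns : ∀ z : F, (x : M4 F) ≠ z • (1 : M4 F)) :
    ∀ z : F, ((g⁻¹ * x * g : GL I4 F) : M4 F) ≠ z • (1 : M4 F) := by
  intro z hz
  apply hns z
  have h1 : x = g * (g⁻¹ * x * g) * g⁻¹ := by group
  have h2 : g * (g⁻¹ * x * g) * g⁻¹ = g⁻¹ * x * g := by
    rw [← gl_comm_of_scalar hz g, mul_assoc, mul_inv_cancel, mul_one]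
  rw [h1, h2]
  exact hz


/-- conjugating a linearly independent family of matrices -/
theorem li_conj {F : Type*} [Field F] (g : GL I4 F) (m : Fin 5 → M4 F)
    (hm : LinearIndependent F m) :
    LinearIndependent F (fun i => ((g⁻¹ : GL I4 F) : M4 F) * m i * (g : M4 F)) := by
  let f : M4 F →ₗ[F] M4 F :=
    (LinearMap.mulLeft F ((g⁻¹ : GL I4 F) : M4 F)).comp (LinearMap.mulRight F (g : M4 F))
  have hf : ∀ M, f M = ((g⁻¹ : GL I4 F) : M4 F) * M * (g : M4 F) := by
    intro M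
    simp [f, Matrix.mul_assoc]
  have hker : LinearMap.ker f = ⊥ := by
    rw [LinearMap.ker_eq_bot']
    intro M hM
    rw [hf] at hM
    have h1 : (g : M4 F) * (((g⁻¹ : GL I4 F) : M4 F) * M * (g : M4 F)) *
        ((g⁻¹ : GL I4 F) : M4 F) = M := by
      have e1 : (g : M4 F) * ((g⁻¹ : GL I4 F) : M4 F) = 1 := by
        rw [← Units.val_mul, mul_inv_cancel, Units.val_one]
      calc (g : M4 F) * (((g⁻¹ : GL I4 F) : M4 F) * M * (g : M4 F)) * ((g⁻¹ : GL I4 F) : M4 F)
          = ((g : M4 F) * ((g⁻¹ : GL I4 F) : M4 F)) * M *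
              ((g : M4 F) * ((g⁻¹ : GL I4 F) : M4 F)) := by
            simp only [Matrix.mul_assoc]
        _ = M := by rw [e1, Matrix.one_mul, Matrix.mul_one]
    rw [← h1, hM, Matrix.mul_zero, Matrix.zero_mul]
  have h3 := hm.map' f hker
  have h4 : (f ∘ m) = (fun i => ((g⁻¹ : GL I4 F) : M4 F) * m i * (g : M4 F)) := by
    funext i
    exact hf (m i)
  rw [h4] at h3
  exact h3


theorem prime_le_cases {r : ℕ} (hr : r.Prime) (hle : r ≤ 30) (h2 : r ≠ 2) (h3 : r ≠ 3) (h5 : r ≠ 5) :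
    r = 7 ∨ r = 11 ∨ r = 13 ∨ r = 17 ∨ r = 19 ∨ r = 23 ∨ r = 29 := by
  interval_cases r <;> first | omega | (exfalso; revert hr; decide)

theorem main {F : Type*} [Field F] [Fintype F] {p : ℕ} [Fact p.Prime] [CharP F p]
    (hF : Fintype.card F = p) (hodd : Odd p)
    (R : Subgroup (GL (Fin 2 ⊕ Fin 2) F)) (hRs : Cfsg.Geo.IsSymplecticTypeGroup 2 R)
    (hRi : Cfsg.Geo.ActsAbsolutelyIrreducibly (Cfsg.Geo.matrixSet R))
    (hRf : R ≤ Cfsg.spGL 2 F) (hR5 : Nat.card R = 2 ^ 5)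
    (hRZ : Nat.card (Subgroup.center R) = 2) (hRm : Cfsg.Geo.IsOfMinusType 2 R)
    (r : ℕ) [Fact r.Prime]
    (hΩ : r ∣ (Cfsg.Geo.subgroupNormalizer R).relIndex (Cfsg.spGL 2 F)) :
    (∀ x ∈ Cfsg.spGL 2 F, (∃ z : F, ((x ^ r : GL (Fin 2 ⊕ Fin 2) F) :
        Matrix (Fin 2 ⊕ Fin 2) (Fin 2 ⊕ Fin 2) F) =
          z • (1 : Matrix (Fin 2 ⊕ Fin 2) (Fin 2 ⊕ Fin 2) F)) →
      (∀ z : F, (x : Matrix (Fin 2 ⊕ Fin 2) (Fin 2 ⊕ Fin 2) F) ≠
        z • (1 : Matrix (Fin 2 ⊕ Fin 2) (Fin 2 ⊕ Fin 2) F)) →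
      ∃ g ∈ Cfsg.spGL 2 F, g⁻¹ * x * g ∈ Cfsg.Geo.subgroupNormalizer R) ↔
      (r = 2 ∨ (r = 5 ∧ orderOf (p : ZMod 5) = 4)) := by
  have hrP : r.Prime := Fact.out
  have h0 : HypR0 R := hypR0_of_hyps hodd R hRs hRi hRf hR5 hRZ
  have h : HypR R := { toHypR0 := h0, minus := minus_of_hyps R h0 hRm }
  have h2 : (2 : F) ≠ 0 := h0.two_ne
  constructor
  · intro hL
    by_contra hcon
    push Not at hcon
    obtain ⟨hr2, hr5⟩ := hcon
    by_cases hr3 : r = 3
    · subst hr3
      obtain ⟨x, hxSp, hx3, hxns, hxbad⟩ := exists_x3 h2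
      obtain ⟨g, hg, hN⟩ := hL x hxSp ⟨1, by rw [hx3, one_smul]⟩ hxns
      obtain ⟨q1, hq1, q2, hq2, hc1, hc2, hanti⟩ :=
        exists_anticomm_of_three h (g⁻¹ * x * g) hN ⟨1, coe_conj_pow_eq_one g x 3 hx3⟩
      apply hxbad (g * q1 * g⁻¹) (g * q2 * g⁻¹)
      · have e1 : x * (g * q1 * g⁻¹) = g * ((g⁻¹ * x * g) * q1) * g⁻¹ := by group
        have e2 : g * q1 * g⁻¹ * x = g * (q1 * (g⁻¹ * x * g)) * g⁻¹ := by group
        rw [e1, e2, hc1]
      · have e1 : x * (g * q2 * g⁻¹) = g * ((g⁻¹ * x * g) * q2) * g⁻¹ := by group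
        have e2 : g * q2 * g⁻¹ * x = g * (q2 * (g⁻¹ * x * g)) * g⁻¹ := by group
        rw [e1, e2, hc2]
      · have e1 : g * q1 * g⁻¹ * (g * q2 * g⁻¹) = g * (q1 * q2) * g⁻¹ := by group
        have e2 : g * q2 * g⁻¹ * (g * q1 * g⁻¹) = g * (q2 * q1) * g⁻¹ := by group
        rw [e1, e2, hanti, mul_neg, neg_mul]
    by_cases hr5' : r = 5
    · subst hr5'
      have hord := hr5 rfl
      obtain ⟨t, ht⟩ := exists_root_of_ord_ne_four hF hodd hord
      obtain ⟨x, hxSp, hx5, hxns, m, hmLI, hmc⟩ := exists_x5 h2 t ht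
      obtain ⟨g, hg, hN⟩ := hL x hxSp ⟨1, by rw [hx5, one_smul]⟩ hxns
      have hy5 := coe_conj_pow_eq_one g x 5 hx5
      have hyns := conj_nonscalar g x hxns
      obtain ⟨k, hk1, hk4, hcard, hmod⟩ := card_cent h0 (g⁻¹ * x * g) hN 5 ⟨1, hy5⟩ hyns
      have hk : k = 1 := by
        interval_cases k
        · rfl
        · exact absurd hmod (by decide)
        · exact absurd hmod (by decide)
        · exact absurd hmod (by decide)
      rw [hk, pow_one] at hcard
      have hcent := cent_of_card_two h0 (g⁻¹ * x * g) hcard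
      apply not_li_of_five h0 (g⁻¹ * x * g) hN ⟨1, hy5⟩ hcent
        (fun i => ((g⁻¹ : GL I4 F) : M4 F) * m i * (g : M4 F)) ?_ (li_conj g m hmLI)
      intro i
      have e1 : (g : M4 F) * ((g⁻¹ : GL I4 F) : M4 F) = 1 := by
        rw [← Units.val_mul, mul_inv_cancel, Units.val_one]
      rw [Units.val_mul, Units.val_mul]
      calc ((g⁻¹ : GL I4 F) : M4 F) * m i * (g : M4 F) *
            (((g⁻¹ : GL I4 F) : M4 F) * (x : M4 F) * (g : M4 F))
          = ((g⁻¹ : GL I4 F) : M4 F) * m i * ((g : M4 F) * ((g⁻¹ : GL I4 F) : M4 F)) *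
              (x : M4 F) * (g : M4 F) := by simp only [Matrix.mul_assoc]
        _ = ((g⁻¹ : GL I4 F) : M4 F) * (m i * (x : M4 F)) * (g : M4 F) := by
            rw [e1, Matrix.mul_one]; simp only [Matrix.mul_assoc]
        _ = ((g⁻¹ : GL I4 F) : M4 F) * ((x : M4 F) * m i) * (g : M4 F) := by rw [hmc i]
        _ = ((g⁻¹ : GL I4 F) : M4 F) * (x : M4 F) * ((g : M4 F) * ((g⁻¹ : GL I4 F) : M4 F)) *
              m i * (g : M4 F) := by rw [e1, Matrix.mul_one]; simp only [Matrix.mul_assoc]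
        _ = ((g⁻¹ : GL I4 F) : M4 F) * (x : M4 F) * (g : M4 F) *
              (((g⁻¹ : GL I4 F) : M4 F) * m i * (g : M4 F)) := by simp only [Matrix.mul_assoc]
    · obtain ⟨x, hxSp, hxr, hxns⟩ := exists_elt_of_dvd R r hr2 hΩ
      obtain ⟨g, hg, hN⟩ := hL x hxSp ⟨1, by rw [hxr, one_smul]⟩ hxns
      have hyr := coe_conj_pow_eq_one g x r hxr
      have hyns := conj_nonscalar g x hxns
      obtain ⟨k, hk1, hk4, hcard, hmod⟩ := card_cent h0 (g⁻¹ * x * g) hN r ⟨1, hyr⟩ hyns
      have hdvd : r ∣ 32 - 2 ^ k := by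
        have hle : 2 ^ k ≤ 32 := by
          calc 2 ^ k ≤ 2 ^ 4 := Nat.pow_le_pow_right (by norm_num) hk4
            _ ≤ 32 := by norm_num
        exact (Nat.modEq_iff_dvd' hle).mp hmod.symm
      have hpos : 0 < 32 - 2 ^ k := by
        have : 2 ^ k ≤ 2 ^ 4 := Nat.pow_le_pow_right (by norm_num) hk4
        omega
      have hr30 : r ≤ 30 := by
        have h1 := Nat.le_of_dvd hpos hdvd
        have : 2 ≤ 2 ^ k := by
          calc 2 = 2 ^ 1 := by norm_num
            _ ≤ 2 ^ k := Nat.pow_le_pow_right (by norm_num) hk1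
        omega
      rcases prime_le_cases hrP hr30 hr2 hr3 hr5' with e | e | e | e | e | e | e
      · subst e
        interval_cases k
        · exact absurd hdvd (by decide)
        · exact not_card_cent_four h0 (g⁻¹ * x * g) hN ⟨1, hyr⟩ hcard
        · exact absurd hdvd (by decide)
        · exact absurd hdvd (by decide)
      all_goals
        subst e
        interval_cases k <;> exact absurd hdvd (by decide)
  · rintro (rfl | ⟨rfl, hord⟩)
    · intro x hx hx2 hns
      obtain ⟨g, hg, hgR⟩ := conj_into_R_of_two h x hx hx2 hns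
      exact ⟨g, hg, le_normalizer' R hgR⟩
    · intro x hx hz hns
      obtain ⟨z, hz⟩ := hz
      obtain ⟨y, hySp, hyN, hy5, hy1⟩ := exists_y5 h
      have hzz : z * z = 1 := Cfsg.Agent.S5976P.scalar_sq_eq_one 2 (by norm_num) 5 x hx z hz
      have hz' : z = 1 ∨ z = -1 := by
        have : (z - 1) * (z + 1) = 0 := by linear_combination hzz
        rcases mul_eq_zero.mp this with e | e
        · left; linear_combination e
        · right; linear_combination e
      rcases hz' with rfl | rfl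
      · have hx5 : x ^ 5 = 1 := by
          apply Units.ext
          rw [hz, one_smul]
          rfl
        have hx1 : x ≠ 1 := by
          intro e
          apply hns 1
          rw [e, one_smul]
          rfl
        obtain ⟨g, hg, k, hk⟩ := conj_pow_of_five hF hord x y hx hySp hx5 hx1 hy5 hy1
        exact ⟨g, hg, hk ▸ Subgroup.pow_mem _ hyN k⟩
      · have hnegSp : (-1 : GL I4 F) ∈ Cfsg.spGL 2 F := h0.sp h0.neg_mem
        have hxSp' : -x ∈ Cfsg.spGL 2 F := by
          have : -x = (-1 : GL I4 F) * x := by rw [neg_one_mul]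
          rw [this]
          exact Subgroup.mul_mem _ hnegSp hx
        have hx5 : (-x) ^ 5 = 1 := by
          have e1 : (-x) ^ 5 = -(x ^ 5) := Odd.neg_pow (by decide) x
          rw [e1]
          apply Units.ext
          rw [coe_neg, hz]
          simp
        have hx1 : -x ≠ 1 := by
          intro e
          apply hns (-1)
          have : x = -1 := by rw [← e, neg_neg]
          rw [this]
          simp [coe_neg_one]
        obtain ⟨g, hg, k, hk⟩ := conj_pow_of_five hF hord (-x) y hxSp' hySp hx5 hx1 hy5 hy1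
        refine ⟨g, hg, ?_⟩
        have e1 : g⁻¹ * x * g = (-1 : GL I4 F) * y ^ k := by
          rw [← hk]
          simp [mul_neg, neg_mul]
        rw [e1]
        exact Subgroup.mul_mem _ (le_normalizer' R h0.neg_mem) (Subgroup.pow_mem _ hyN k)

end Cfsg.Agent.S6002P
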