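import Mathlib
import Cfsg.Prelude.Def_GeometricClasses
import Cfsg.Prelude.Def_ClassicalGeometry
import Cfsg.Agent.Helper4.S6002Defs

set_option autoImplicit false
open scoped MatrixGroups Matrix

/-! S6002 piece CENT5. -/

namespace Cfsg.Agent.S6002P

/-- CENT5 -/
theorem cent_of_card_two {F : Type*} [Field F] {R : Subgroup (GL I4 F)} (h : HypR0 R)
    (y : GL I4 F) (hc : Nat.card {a : GL I4 F // a ∈ R ∧ y * a * y⁻¹ = a} = 2) :
    ∀ a ∈ R, y * a = a * y → a = 1 ∨ a = -1 := by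
  intro a ha hya
  have hneg : y * (-1) * y⁻¹ = -1 := by
    rw [mul_neg, neg_mul, mul_one, mul_inv_cancel]
  let e1 : {a : GL I4 F // a ∈ R ∧ y * a * y⁻¹ = a} := ⟨1, R.one_mem, by group⟩
  let e2 : {a : GL I4 F // a ∈ R ∧ y * a * y⁻¹ = a} := ⟨-1, h.neg_mem, hneg⟩
  let ea : {a : GL I4 F // a ∈ R ∧ y * a * y⁻¹ = a} :=
    ⟨a, ha, by rw [hya, mul_assoc, mul_inv_cancel, mul_one]⟩
  obtain ⟨z, -, hz⟩ := (Nat.card_eq_two_iff' e1).mp hc
  have h21 : e2 ≠ e1 := by
    intro e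
    exact neg_one_ne_one h.two_ne (congrArg Subtype.val e)
  by_cases ha1 : ea = e1
  · left
    exact congrArg Subtype.val ha1
  · right
    have e3 : ea = e2 := (hz ea ha1).trans (hz e2 h21).symm
    exact congrArg Subtype.val e3

end Cfsg.Agent.S6002P
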