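import Mathlib
import Cfsg.Prelude.Def_Classical
import Cfsg.Agent.S0827
import Cfsg.Agent.Helper2.UnitaryCenter

set_option autoImplicit false
set_option linter.style.haveILetI false
set_option linter.unusedSectionVars false
set_option linter.unusedVariables false

/-!
# Commuting involutions of `SU₃(2)` coincide
-/

namespace Cfsg.Agent.Helper4.SU32Inv

open Subgroup

theorem quaternion_involution : ∀ q : QuaternionGroup 2, q * q = 1 →
    q = 1 ∨ q = QuaternionGroup.a 2 := by decide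

theorem a_two_mul : (QuaternionGroup.a 2 : QuaternionGroup 2) * QuaternionGroup.a 2 = 1 := by
  decide

/-- Two commuting involutions of `SU₃(2)` are equal. -/
theorem commuting_involutions_eq {F : Type*} [Field F] [Fintype F] (hF : Fintype.card F = 4)
    (x y : Cfsg.SU 3 F 2) (hx : x * x = 1) (hy : y * y = 1) (hx1 : x ≠ 1) (hy1 : y ≠ 1)
    (hxy : x * y = y * x) : x = y := by
  have hF' : Fintype.card F = 2 ^ 2 := by rw [hF]; norm_num
  have hcen : Nat.card (center (Cfsg.SU 3 F 2)) = 3 := by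
    rw [Cfsg.Agent.Helper2.Herm.card_center_SU hF' 3 (by norm_num)]
    decide
  obtain ⟨N, hNn, hN9, hN3, ⟨e⟩⟩ := Cfsg.Agent.S0827.result hF
  haveI := hNn
  let ψ : Cfsg.SU 3 F 2 →* QuaternionGroup 2 :=
    e.toMonoidHom.comp ((QuotientGroup.mk' N).comp (QuotientGroup.mk' (center (Cfsg.SU 3 F 2))))
  have hψ : ∀ k, ψ k = e (QuotientGroup.mk' N (QuotientGroup.mk' (center (Cfsg.SU 3 F 2)) k)) :=
    fun k => rfl
  have hker : ∀ k : Cfsg.SU 3 F 2, ψ k = 1 → k * k = 1 → k = 1 := by
    intro k hk hk2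
    rw [hψ, MulEquiv.map_eq_one_iff, ← MonoidHom.mem_ker, QuotientGroup.ker_mk'] at hk
    have h3 := hN3 _ hk
    rw [← map_pow, ← MonoidHom.mem_ker, QuotientGroup.ker_mk'] at h3
    have hk3 : k ^ 3 = k := by rw [pow_succ, pow_two, hk2, one_mul]
    rw [hk3] at h3
    have h4 : orderOf (⟨k, h3⟩ : center (Cfsg.SU 3 F 2)) ∣ 3 := by
      have := orderOf_dvd_natCard (⟨k, h3⟩ : center (Cfsg.SU 3 F 2))
      rwa [hcen] at this
    have h5 : orderOf (⟨k, h3⟩ : center (Cfsg.SU 3 F 2)) ∣ 2 := by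
      apply orderOf_dvd_of_pow_eq_one
      apply Subtype.ext
      rw [pow_two]
      exact hk2
    have h6 : orderOf (⟨k, h3⟩ : center (Cfsg.SU 3 F 2)) ∣ Nat.gcd 3 2 := Nat.dvd_gcd h4 h5
    norm_num at h6
    exact h6
  have hinv : ∀ k : Cfsg.SU 3 F 2, k * k = 1 → k ≠ 1 → ψ k = QuaternionGroup.a 2 := by
    intro k hk2 hk1
    rcases quaternion_involution (ψ k) (by rw [← map_mul, hk2, map_one]) with h | h
    · exact absurd (hker k h hk2) hk1
    · exact h
  have h1 : ψ (x * y) = 1 := by rw [map_mul, hinv x hx hx1, hinv y hy hy1, a_two_mul]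
  have h2 : (x * y) * (x * y) = 1 := by
    calc x * y * (x * y) = x * (y * x) * y := by simp only [mul_assoc]
      _ = x * (x * y) * y := by rw [hxy]
      _ = (x * x) * (y * y) := by simp only [mul_assoc]
      _ = 1 := by rw [hx, hy, one_mul]
  have h3 := hker _ h1 h2
  have hyi : y⁻¹ = y := inv_eq_of_mul_eq_one_left hy
  rw [← hyi]
  exact eq_inv_of_mul_eq_one_left h3

end Cfsg.Agent.Helper4.SU32Inv
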