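import Mathlib
import Cfsg.Agent.Helper4.SU3Defs

set_option autoImplicit false

/-! S2283, piece CFG1: the generic configuration `v = Y 1 d`, `u = X α β`, `S = v u v`. -/

namespace Cfsg.Agent.Helper4.SU3G

open Matrix Cfsg.Agent.S2644 Cfsg.Agent.Helper2.SUGen

variable {K : Type*} [Field K] {q : ℕ}

local notation "h" => Cfsg.hermForm 3 K q

theorem cfg1 (D : Frob K q) (B : Frame K q) {d α β lam : K} (hd : d + D.σ d + 1 = 0)
    (hlam : lam = d / D.σ d) (hα : α = (d * D.σ d)⁻¹) (hβ : β = (lam - 1 + α) / d) :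
    β + D.σ β + α * D.σ α = 0 ∧ α ≠ 0 ∧ D.σ α = α ∧
    (B.Y 1 d * B.X α β * B.Y 1 d) *ᵥ B.e1 = lam • B.e1 ∧
    h ((B.Y 1 d * B.X α β * B.Y 1 d) *ᵥ B.e2) B.e2 = (D.σ d / d) ^ 2 ∧
    D.σ lam = D.σ d / d := by
  obtain ⟨e, he⟩ : ∃ e, e = D.σ d := ⟨_, rfl⟩
  have hσe : D.σ e = d := by rw [he, D.invol]
  have hde : d + e + 1 = 0 := by rw [he]; exact hd
  have hd0 : d ≠ 0 := by
    intro h0
    rw [h0, map_zero] at he
    rw [h0, he] at hde
    simp at hde
  have he0 : e ≠ 0 := by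
    intro h0
    rw [h0, map_zero] at hσe
    exact hd0 hσe.symm
  rw [← he] at hlam hα ⊢
  have hσlam : D.σ lam = e / d := by rw [hlam, map_div₀, hσe, he]
  have hσα : D.σ α = α := by
    rw [hα, map_inv₀, map_mul, hσe, ← he, mul_comm]
  have hσβ : D.σ β = (e / d - 1 + α) / e := by
    rw [hβ, map_div₀, map_add, map_sub, map_one, hσlam, hσα, ← he]
  have hα0 : α ≠ 0 := by rw [hα]; exact inv_ne_zero (mul_ne_zero hd0 he0)
  have e_eq : e = -1 - d := by linear_combination hde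
  refine ⟨?_, hα0, hσα, ?_, ?_, hσlam⟩
  · rw [hσβ, hσα, hβ, hlam, hα]
    field_simp
    rw [e_eq]
    ring
  · rw [← B.vec_e1, ← mulVec_mulVec, ← mulVec_mulVec, B.Y_vec D, B.X_vec D, B.Y_vec D]
    have : lam • B.vec (1 : K) 0 0 = B.vec lam 0 0 := by
      simp only [Frame.vec]; module
    rw [this, hσα, map_one]
    have h1 : 1 - α * (0 + 1 * 1) + β * (0 - 1 * 0 + d * 1) = lam := by
      rw [hβ, hlam, hα]; field_simp; ring
    have h2 : 0 + 1 * 1 + α * (0 - 1 * 0 + d * 1) = -lam := by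
      rw [hlam, hα]; field_simp; rw [e_eq]; ring
    rw [h1, h2]
    congr 1
    · ring
    · rw [hlam]; field_simp; rw [e_eq]; ring
  · rw [← B.vec_e2, ← mulVec_mulVec, ← mulVec_mulVec, B.Y_vec D, B.X_vec D, B.Y_vec D,
      B.h_vec D]
    simp only [map_zero, map_one, hσα]
    rw [hβ, hlam, hα]
    field_simp
    rw [e_eq]
    ring

end Cfsg.Agent.Helper4.SU3G
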