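import Mathlib
import Cfsg.Agent.Helper4.SU3Defs

set_option autoImplicit false

/-! S2283, piece CRITA: if a subgroup `H` of `SU_3(q)` contains a root element `X α β`, `α ≠ 0`,
and an element `S` fixing the line `⟨e1⟩` whose character `σ λ * ν` generates `K` as a ring, then
`H` contains all root elements `X a b`. -/

namespace Cfsg.Agent.Helper4.SU3G

open Matrix Cfsg.Agent.S2644 Cfsg.Agent.Helper2.SUGen

variable {K : Type*} [Field K] {q : ℕ}

local notation "h" => Cfsg.hermForm 3 K q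

theorem Sg_e1_vec (D : Frob K q) (B : Frame K q) (t a c : K) :
    Sg (q := q) B.e1 (B.vec t a 0) c = B.X a (c + t - D.σ t) := by
  apply B.mat_ext_vec D
  intro x y z
  rw [B.X_vec D, Sg_mulVec, B.h_vec_e1 D, B.h_vec D]
  simp only [Frame.vec]
  rw [map_zero]
  module

theorem cond_of_pres (D : Frob K q) (B : Frame K q) {a b : K} (hP : Pres (q := q) (B.X a b)) :
    b + D.σ b + a * D.σ a = 0 := by
  have h1 := hP B.e3 B.e3
  rw [B.h33, ← B.vec_e3, B.X_vec D, B.h_vec D] at h1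
  simp only [mul_one, mul_zero, sub_zero, zero_add, map_one] at h1
  linear_combination h1

theorem X_inv_mul' (D : Frob K q) (B : Frame K q) {α β : K} (hX : β + D.σ β + α * D.σ α = 0) :
    B.X α β * B.X (-α) (D.σ β) = 1 := by
  rw [B.X_mul D, add_neg_cancel, show β + D.σ β - -α * D.σ α = 0 by linear_combination hX,
    B.X_zero D]

/-- The set of `a` such that some `X a b` lies in `H`. -/
def AX (D : Frob K q) (B : Frame K q) (H : Subgroup ↥(Cfsg.SU 3 K q)) : AddSubgroup K where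
  carrier := {a | ∃ b, b + D.σ b + a * D.σ a = 0 ∧ InH H (B.X a b)}
  zero_mem' := ⟨0, by simp, by rw [B.X_zero D]; exact InH_one H⟩
  add_mem' := by
    rintro a a' ⟨b, hb, hab⟩ ⟨b', hb', hab'⟩
    refine ⟨b + b' - a' * D.σ a, ?_, ?_⟩
    · simp only [map_add, map_sub, map_mul, D.invol]
      linear_combination hb + hb'
    · rw [← B.X_mul D]; exact InH_mul hab hab'
  neg_mem' := by
    rintro a ⟨b, hb, hab⟩
    refine ⟨D.σ b, ?_, InH_inv hab (X_inv_mul' D B hb)⟩
    rw [D.invol, map_neg]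
    linear_combination hb

theorem mem_AX (D : Frob K q) (B : Frame K q) (H : Subgroup ↥(Cfsg.SU 3 K q)) (a : K) :
    a ∈ AX D B H ↔ ∃ b, b + D.σ b + a * D.σ a = 0 ∧ InH H (B.X a b) := Iff.rfl

/-- Conjugation by `S` multiplies `AX` by `σ λ * ν`. -/
theorem AX_smul (D : Frob K q) (B : Frame K q) (H : Subgroup ↥(Cfsg.SU 3 K q))
    {S : Matrix (Fin 3) (Fin 3) K} (hS : InH H S) {lam ν : K} (hS1 : S *ᵥ B.e1 = lam • B.e1)
    (hS2 : h (S *ᵥ B.e2) B.e2 = ν) {a : K} (ha : a ∈ AX D B H) :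
    D.σ lam * ν * a ∈ AX D B H := by
  obtain ⟨b, hb, hab⟩ := ha
  obtain ⟨g, hg, rfl⟩ := hS
  have hP : Pres (q := q) (toM K 3 q g) := toM_pres g
  have h1 : toM K 3 q g * toM K 3 q g⁻¹ = 1 := by
    rw [← map_mul, mul_inv_cancel, map_one]
  -- `lam ≠ 0`
  have hlam : lam ≠ 0 := by
    intro h0
    have := hP B.e1 B.e3
    rw [hS1, h0, zero_smul, h_zero_left, B.h13] at this
    exact zero_ne_one this
  -- third coordinate of `S e2` vanishes
  have h3 : h (toM K 3 q g *ᵥ B.e2) B.e1 = 0 := by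
    have := hP B.e2 B.e1
    rw [hS1, h_smul_right D, B.h21] at this
    rcases mul_eq_zero.mp this with h0 | h0
    · exact absurd h0 (σ_ne_zero D hlam)
    · exact h0
  have hSe2 : toM K 3 q g *ᵥ B.e2 = B.vec (h (toM K 3 q g *ᵥ B.e2) B.e3) ν 0 := by
    have := B.eq_vec D (toM K 3 q g *ᵥ B.e2)
    rw [hS2, h3] at this
    exact this
  set x := h (toM K 3 q g *ᵥ B.e2) B.e3 with hx
  -- the conjugate
  have hconj : toM K 3 q g * B.X a b * toM K 3 q g⁻¹ =
      B.X (D.σ lam * ν * a) (lam * D.σ lam * b + D.σ lam * a * x - D.σ (D.σ lam * a * x)) := by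
    have e1 : toM K 3 q g * B.X a b = Sg (q := q) (lam • B.e1) (a • B.vec x ν 0) b * toM K 3 q g := by
      unfold Frame.X
      rw [Sg_conj D _ hP, hS1, mulVec_smul, hSe2]
    have e2 : Sg (q := q) (lam • B.e1) (a • B.vec x ν 0) b =
        B.X (D.σ lam * ν * a) (lam * D.σ lam * b + D.σ lam * a * x - D.σ (D.σ lam * a * x)) := by
      rw [Cfsg.Agent.Helper28.UM.Sg_smul_gen D, ← Sg_e1_vec D B]
      congr 1
      simp only [Frame.vec]
      module
    rw [e1, e2, Matrix.mul_assoc, h1, Matrix.mul_one]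
  have hmem : InH H (toM K 3 q g * B.X a b * toM K 3 q g⁻¹) :=
    InH_mul (InH_mul ⟨g, hg, rfl⟩ hab) ⟨g⁻¹, H.inv_mem hg, rfl⟩
  rw [hconj] at hmem
  refine ⟨_, ?_, hmem⟩
  obtain ⟨g', -, hg'⟩ := hmem
  exact cond_of_pres D B (hg' ▸ toM_pres g')

theorem crit_all (D : Frob K q) (B : Frame K q) (H : Subgroup ↥(Cfsg.SU 3 K q))
    {α β : K} (hα : α ≠ 0) (hc : β + D.σ β + α * D.σ α = 0) (hu : InH H (B.X α β))
    {S : Matrix (Fin 3) (Fin 3) K} (hS : InH H S) {lam ν : K} (hS1 : S *ᵥ B.e1 = lam • B.e1)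
    (hS2 : h (S *ᵥ B.e2) B.e2 = ν) (hgen : Subring.closure {D.σ lam * ν} = ⊤) :
    ∀ a b : K, b + D.σ b + a * D.σ a = 0 → InH H (B.X a b) := by
  -- the ring of multipliers of `AX`
  let R : Subring K :=
    { carrier := {r | ∀ a ∈ AX D B H, r * a ∈ AX D B H}
      mul_mem' := fun {r s} hr hs a ha => by rw [mul_assoc]; exact hr _ (hs _ ha)
      one_mem' := fun a ha => by rw [one_mul]; exact ha
      add_mem' := fun {r s} hr hs a ha => by
        rw [add_mul]; exact (AX D B H).add_mem (hr _ ha) (hs _ ha)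
      zero_mem' := fun a _ => by rw [zero_mul]; exact (AX D B H).zero_mem
      neg_mem' := fun {r} hr a ha => by rw [neg_mul]; exact (AX D B H).neg_mem (hr _ ha) }
  have hR : R = ⊤ := by
    rw [eq_top_iff, ← hgen, Subring.closure_le]
    intro r hr
    rw [Set.mem_singleton_iff] at hr
    subst hr
    intro a ha
    exact AX_smul D B H hS hS1 hS2 ha
  have hαA : α ∈ AX D B H := ⟨β, hc, hu⟩
  have hall : ∀ a : K, a ∈ AX D B H := by
    intro a
    have hmem : a / α ∈ R := by rw [hR]; exact Subring.mem_top _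
    have := hmem α hαA
    rwa [div_mul_cancel₀ _ hα] at this
  -- the centre
  have hcentre : ∀ c : K, D.σ c = -c → InH H (B.X 0 c) := by
    intro c hcs
    obtain ⟨s, hs0, hs⟩ := exists_skew D
    have hfix : D.σ (c / s) = c / s := by
      rw [map_div₀, hcs, hs, neg_div_neg_eq]
    obtain ⟨t, ht⟩ := exists_trace D (c / s) hfix
    set a := s * t with ha
    have hac : a - D.σ a = c := by
      rw [ha, map_mul, hs]
      have : s * t - -s * D.σ t = s * (t + D.σ t) := by ring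
      rw [this, ht, mul_div_cancel₀ _ hs0]
    obtain ⟨b, hb, hab⟩ := hall a
    obtain ⟨b1, hb1, hab1⟩ := hall 1
    -- `X a b * X 1 b1 = X 0 c * (X 1 b1 * X a b)`
    have e : B.X a b * B.X 1 b1 = B.X 0 c * (B.X 1 b1 * B.X a b) := by
      rw [B.X_mul D, B.X_mul D, B.X_mul D]
      congr 1
      · ring
      · rw [map_zero, map_one, ← hac]; ring
    have hinv : (B.X 1 b1 * B.X a b) * (B.X (-a) (D.σ b) * B.X (-1) (D.σ b1)) = 1 := by
      rw [Matrix.mul_assoc, ← Matrix.mul_assoc (B.X a b), X_inv_mul' D B hb, Matrix.one_mul,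
        X_inv_mul' D B hb1]
    have h2 : InH H (B.X (-a) (D.σ b) * B.X (-1) (D.σ b1)) :=
      InH_inv (InH_mul hab1 hab) hinv
    have h3 : InH H (B.X a b * B.X 1 b1 * (B.X (-a) (D.σ b) * B.X (-1) (D.σ b1))) :=
      InH_mul (InH_mul hab hab1) h2
    rwa [e, Matrix.mul_assoc, hinv, Matrix.mul_one] at h3
  intro a b hab
  obtain ⟨b0, hb0, hab0⟩ := hall a
  have hskew : D.σ (b - b0) = -(b - b0) := by
    rw [map_sub]
    linear_combination hab - hb0
  have := InH_mul (hcentre _ hskew) hab0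
  rw [B.X_mul D] at this
  have e : B.X (0 + a) (b - b0 + b0 - a * D.σ 0) = B.X a b := by
    congr 1
    · ring
    · rw [map_zero]; ring
  rwa [e] at this

end Cfsg.Agent.Helper4.SU3G
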