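import Mathlib
import Cfsg.Agent.Helper4.SU3Defs
import Cfsg.Agent.Helper4.SU3CritA

set_option autoImplicit false

/-! S2283, piece CRITB: a subgroup of `SU_3(q)` containing all root elements `X a b` and an element
moving `e1` to a vector not orthogonal to `e1` is everything. -/

namespace Cfsg.Agent.Helper4.SU3G

open Matrix Cfsg.Agent.S2644 Cfsg.Agent.Helper2.SUGen Cfsg.Agent.Helper28.UM

variable {K : Type*} [Field K] {q : ℕ}

local notation "h" => Cfsg.hermForm 3 K q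

/-- `SU_3 → GL_3`. -/
noncomputable def toGL3 (K : Type*) [Field K] (q : ℕ) :
    ↥(Cfsg.SU 3 K q) →* Matrix.GeneralLinearGroup (Fin 3) K :=
  (Matrix.SpecialLinearGroup.toGL).comp (Subgroup.subtype _)

theorem toGL3_val (g : ↥(Cfsg.SU 3 K q)) :
    ((toGL3 K q g : Matrix.GeneralLinearGroup (Fin 3) K) : Matrix (Fin 3) (Fin 3) K) =
      toM K 3 q g := rfl

theorem mem_map_of_InH {H : Subgroup ↥(Cfsg.SU 3 K q)}
    {ĝ : Matrix.GeneralLinearGroup (Fin 3) K}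
    (hM : InH H (ĝ : Matrix (Fin 3) (Fin 3) K)) : ĝ ∈ H.map (toGL3 K q) := by
  obtain ⟨g, hg, hgM⟩ := hM
  refine ⟨g, hg, ?_⟩
  apply Units.ext
  rw [toGL3_val, hgM]

theorem crit_top [Fintype K] (D : Frob K q) (hK : Fintype.card K = q ^ 2) (hq : q ≠ 2)
    (B : Frame K q) (H : Subgroup ↥(Cfsg.SU 3 K q))
    (hX : ∀ a b : K, b + D.σ b + a * D.σ a = 0 → InH H (B.X a b))
    {V : Matrix (Fin 3) (Fin 3) K} (hV : InH H V) (hV1 : h (V *ᵥ B.e1) B.e1 ≠ 0) : H = ⊤ := by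
  set Hh := H.map (toGL3 K q) with hHh
  -- `e1 ∈ S1`
  have he1 : B.e1 ∈ S1 D Hh := by
    refine ⟨B.h11, fun w c hwx hc => ?_⟩
    apply mem_map_of_InH
    rw [SgG_val]
    have hw := B.eq_vec D w
    rw [hwx] at hw
    have hww : h w w = h w B.e2 * D.σ (h w B.e2) := by
      conv_lhs => rw [hw]
      rw [B.h_vec D, map_zero]; ring
    rw [hw, Sg_e1_vec D B]
    apply hX
    rw [hww] at hc
    simp only [map_add, map_sub, D.invol]
    linear_combination hc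
  -- `V e1 ∈ S1`
  obtain ⟨gV, hgV, hgVM⟩ := hV
  have hVe1 : V *ᵥ B.e1 ∈ S1 D Hh := by
    have := S1_map D Hh he1 (g := toGL3 K q gV) ⟨gV, hgV, rfl⟩ (by
      rw [toGL3_val]; exact toM_pres gV)
    rwa [toGL3_val, hgVM] at this
  -- all isotropic vectors
  have hall : ∀ y : Fin 3 → K, h y y = 0 → y ∈ S1 D Hh :=
    fun y hyy => S1_all D Hh he1 hVe1 hV1 hyy
  -- all products of transvections
  have hTT : ∀ M ∈ TT D (⊤ : Submodule K (Fin 3 → K)),
      ∃ ĝ ∈ Hh, ((ĝ : Matrix.GeneralLinearGroup (Fin 3) K) : Matrix (Fin 3) (Fin 3) K) = M := by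
    intro M hM
    induction hM using Submonoid.closure_induction with
    | mem M hM =>
      obtain ⟨x, c, -, hxx, hc, rfl⟩ := hM
      obtain ⟨hxx', hx⟩ := hall x hxx
      have hc' : c + D.σ c + h (0 : Fin 3 → K) 0 = 0 := by
        rw [h_zero_left, hc]; ring
      refine ⟨_, hx 0 c (h_zero_left x) hc', ?_⟩
      rw [SgG_val, Sg_zero D]
    | one => exact ⟨1, Hh.one_mem, rfl⟩
    | mul M M' _ _ ih ih' =>
      obtain ⟨ĝ, hĝ, rfl⟩ := ih
      obtain ⟨ĝ', hĝ', rfl⟩ := ih'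
      exact ⟨ĝ * ĝ', Hh.mul_mem hĝ hĝ', rfl⟩
  rw [eq_top_iff]
  intro g _
  have hgTT : toM K 3 q g ∈ TT D (⊤ : Submodule K (Fin 3 → K)) :=
    SU_le_TT D hK (le_refl 3) (fun hh => hq hh.2) (toM_pres g) g.1.2
  obtain ⟨ĝ, ⟨g', hg', rfl⟩, hĝM⟩ := hTT _ hgTT
  rw [toGL3_val] at hĝM
  have : g' = g := toM_injective hĝM
  rwa [← this]

end Cfsg.Agent.Helper4.SU3G
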