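import Mathlib
import Cfsg.Agent.Helper4.SU3Defs

set_option autoImplicit false

/-! S2283, piece NTB: existence of `d` with `d + σ d + 1 = 0` such that `(σ d / d)^3` generates
`K` as a ring, for `q ∉ {2, 5, 8}`. -/

namespace Cfsg.Agent.Helper4.SU3G

open Matrix Cfsg.Agent.S2644 Cfsg.Agent.Helper2.SUGen

variable {K : Type*} [Field K] {q : ℕ}

/-- The arithmetic core. -/
theorem arith_core {q r k m : ℕ} (hq3 : 3 ≤ q) (hq5 : q ≠ 5) (hq8 : q ≠ 8) (hrk : r ^ k = q ^ 2)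
    (hk : 2 ≤ k) (hm : m * Nat.gcd (q + 1) 3 = q + 1) (hdvd : m ∣ r - 1) : False := by
  have hr2 : 2 ≤ r := by
    rcases Nat.lt_or_ge r 2 with h | h
    · interval_cases r
      · rw [zero_pow (by omega)] at hrk
        have : 0 < q ^ 2 := by positivity
        omega
      · rw [one_pow] at hrk
        have : 3 ^ 2 ≤ q ^ 2 := Nat.pow_le_pow_left hq3 2
        omega
    · exact h
  have hg : Nat.gcd (q + 1) 3 = 1 ∨ Nat.gcd (q + 1) 3 = 3 := by
    have := Nat.gcd_dvd_right (q + 1) 3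
    have h3 : Nat.Prime 3 := by norm_num
    exact (Nat.dvd_prime h3).mp this
  have hm0 : 0 < m := by
    rcases Nat.eq_zero_or_pos m with h | h
    · rw [h, zero_mul] at hm; omega
    · exact h
  have hmle : m ≤ r - 1 := Nat.le_of_dvd (by omega) hdvd
  have hq3m : q + 1 ≤ 3 * m := by
    rcases hg with h | h <;> rw [h] at hm <;> omega
  rcases Nat.lt_or_ge k 3 with hk3 | hk3
  · -- k = 2
    have hk2 : k = 2 := by omega
    subst hk2
    have hrq : r = q := Nat.pow_left_injective (by norm_num : (2 : ℕ) ≠ 0) hrk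
    subst hrq
    -- m ∣ r - 1 and m ∣ r + 1
    have hd2 : m ∣ r + 1 := ⟨_, hm.symm⟩
    have hd3 : m ∣ 2 := by
      have : r + 1 - (r - 1) = 2 := by omega
      rw [← this]
      exact Nat.dvd_sub hd2 hdvd
    have hm2 : m ≤ 2 := Nat.le_of_dvd (by norm_num) hd3
    have hr5 : r ≤ 5 := by omega
    interval_cases r
    · -- r = 3 : gcd 4 3 = 1
      have : Nat.gcd (3 + 1) 3 = 1 := by decide
      rw [this] at hm; omega
    · have : Nat.gcd (4 + 1) 3 = 1 := by decide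
      rw [this] at hm; omega
    · exact hq5 rfl
  · -- k ≥ 3
    have h1 : r ^ 3 ≤ q ^ 2 := by
      rw [← hrk]
      exact Nat.pow_le_pow_right (by omega) hk3
    have h2 : q + 4 ≤ 3 * r := by omega
    have h3 : (q + 4) ^ 3 ≤ 27 * q ^ 2 := by
      calc (q + 4) ^ 3 ≤ (3 * r) ^ 3 := Nat.pow_le_pow_left h2 3
        _ = 27 * r ^ 3 := by ring
        _ ≤ 27 * q ^ 2 := by omega
    have h4 : ((q : ℤ) - 8) ^ 2 * ((q : ℤ) + 1) ≤ 0 := by
      have : ((q : ℤ) + 4) ^ 3 ≤ 27 * (q : ℤ) ^ 2 := by exact_mod_cast h3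
      nlinarith
    have h5 : ((q : ℤ) - 8) ^ 2 = 0 := by
      have hpos : (0 : ℤ) < (q : ℤ) + 1 := by positivity
      have hsq : 0 ≤ ((q : ℤ) - 8) ^ 2 := sq_nonneg _
      nlinarith
    have h6 : (q : ℤ) - 8 = 0 := by
      rcases pow_eq_zero_iff (n := 2) (by norm_num) |>.mp h5 with h
      exact h
    exact hq8 (by omega)

theorem exists_d_of [Fintype K] (D : Frob K q) (hK : Fintype.card K = q ^ 2) (hq3 : 3 ≤ q)
    (hq5 : q ≠ 5) (hq8 : q ≠ 8)
    (hNTA : ∀ x : K, (∀ r k : ℕ, r ^ k = Fintype.card K → 2 ≤ k → x ^ r ≠ x) →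
      Subring.closure {x} = ⊤) :
    ∃ d : K, d + D.σ d + 1 = 0 ∧ Subring.closure {(D.σ d / d) ^ 3} = ⊤ := by
  classical
  obtain ⟨g0, hg0⟩ := IsCyclic.exists_generator (α := Kˣ)
  have hord0 : orderOf g0 = q ^ 2 - 1 := by
    rw [orderOf_eq_card_of_forall_mem_zpowers hg0, Nat.card_units, Nat.card_eq_fintype_card, hK]
  have hq1 : 0 < q - 1 := by omega
  set ρu : Kˣ := g0 ^ (q - 1) with hρu
  have hfac : q ^ 2 - 1 = (q - 1) * (q + 1) := by
    have : 1 ≤ q := by omega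
    zify [this, Nat.one_le_pow 2 q (by omega)]
    ring
  have hordρ : orderOf ρu = q + 1 := by
    rw [hρu, orderOf_pow' _ (by omega : q - 1 ≠ 0), hord0, hfac,
      Nat.gcd_mul_right_left, Nat.mul_div_cancel_left _ hq1]
  set ρ : K := (ρu : K) with hρ
  have hρ0 : ρ ≠ 0 := ρu.ne_zero
  have hρq : ρ ^ (q + 1) = 1 := by
    rw [hρ, ← Units.val_pow_eq_pow_val, ← hordρ, pow_orderOf_eq_one, Units.val_one]
  have hσρ : D.σ ρ = ρ⁻¹ := by
    rw [D.pow]
    have : ρ ^ q * ρ = 1 := by rw [← pow_succ]; exact hρq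
    exact eq_inv_of_mul_eq_one_left this
  have hρne : 1 + ρ ≠ 0 := by
    intro h1
    have hneg : ρ = -1 := by linear_combination h1
    have hsq : ρu ^ 2 = 1 := by
      apply Units.ext
      rw [Units.val_pow_eq_pow_val, Units.val_one, ← hρ, hneg]; ring
    have := orderOf_dvd_of_pow_eq_one hsq
    rw [hordρ] at this
    have := Nat.le_of_dvd (by norm_num) this
    omega
  have hinv : (1 + ρ⁻¹)⁻¹ = ρ / (1 + ρ) := by
    apply inv_eq_of_mul_eq_one_right
    field_simp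
    ring
  have hσd : D.σ (-(1 + ρ)⁻¹) = -(ρ / (1 + ρ)) := by
    rw [map_neg, map_inv₀, map_add, map_one, hσρ, hinv]
  refine ⟨-(1 + ρ)⁻¹, ?_, ?_⟩
  · rw [hσd]
    field_simp
    ring
  · have hratio : D.σ (-(1 + ρ)⁻¹) / (-(1 + ρ)⁻¹) = ρ := by
      rw [hσd]
      field_simp
    rw [hratio]
    apply hNTA
    intro r k hrk hk hx
    rw [hK] at hrk
    -- order of ρ^3
    set m := orderOf (ρu ^ 3) with hm
    have hm' : m * Nat.gcd (q + 1) 3 = q + 1 := by
      rw [hm, orderOf_pow' _ (by norm_num : 3 ≠ 0), hordρ]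
      exact Nat.div_mul_cancel (Nat.gcd_dvd_left _ _)
    have hr1 : 1 ≤ r := by
      rcases Nat.eq_zero_or_pos r with h | h
      · rw [h, zero_pow (by omega)] at hrk
        have : 0 < q ^ 2 := by positivity
        omega
      · exact h
    have hpow : (ρu ^ 3) ^ (r - 1) = 1 := by
      apply Units.ext
      rw [Units.val_pow_eq_pow_val, Units.val_pow_eq_pow_val, Units.val_one, ← hρ]
      have h3 : ρ ^ 3 ≠ 0 := pow_ne_zero _ hρ0
      have : (ρ ^ 3) ^ (r - 1) * ρ ^ 3 = 1 * ρ ^ 3 := by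
        rw [← pow_succ, Nat.sub_add_cancel hr1, one_mul]; exact hx
      exact mul_right_cancel₀ h3 this
    have hdvd : m ∣ r - 1 := orderOf_dvd_of_pow_eq_one hpow
    exact arith_core hq3 hq5 hq8 hrk hk hm' hdvd

end Cfsg.Agent.Helper4.SU3G
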