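import Mathlib
import Cfsg.Agent.Helper4.SU3Defs

set_option autoImplicit false

/-! S2283, piece Q8: the explicit configuration for `q = 8`. -/

namespace Cfsg.Agent.Helper4.SU3G

open Matrix Cfsg.Agent.S2644 Cfsg.Agent.Helper2.SUGen

variable {K : Type*} [Field K]

theorem exists_omega_r [Fintype K] (hK : Fintype.card K = 64) :
    ∃ ω r : K, (2 : K) = 0 ∧ ω ^ 2 + ω + 1 = 0 ∧ r ^ 3 + r + 1 = 0 := by
  classical
  have h64 : (64 : K) = 0 := by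
    have := Nat.cast_card_eq_zero K
    rw [hK] at this
    exact_mod_cast this
  have h2 : (2 : K) = 0 := by
    have : (2 : K) ^ 6 = 0 := by rw [← h64]; norm_num
    exact pow_eq_zero_iff (by norm_num) |>.mp this
  obtain ⟨g0, hg0⟩ := IsCyclic.exists_generator (α := Kˣ)
  have hord0 : orderOf g0 = 63 := by
    rw [orderOf_eq_card_of_forall_mem_zpowers hg0, Nat.card_units, Nat.card_eq_fintype_card, hK]
  -- ω
  have hg63 : g0 ^ 63 = 1 := by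
    have := pow_orderOf_eq_one g0
    rwa [hord0] at this
  have hω3 : ((g0 ^ 21 : Kˣ) : K) ^ 3 = 1 := by
    rw [← Units.val_pow_eq_pow_val, ← pow_mul]
    show ((g0 ^ 63 : Kˣ) : K) = 1
    rw [hg63, Units.val_one]
  have hω1 : ((g0 ^ 21 : Kˣ) : K) ≠ 1 := by
    intro h1
    have : g0 ^ 21 = 1 := Units.ext (by rw [h1, Units.val_one])
    have := orderOf_dvd_of_pow_eq_one this
    rw [hord0] at this
    omega
  -- x of order 7
  have hx7 : ((g0 ^ 9 : Kˣ) : K) ^ 7 = 1 := by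
    rw [← Units.val_pow_eq_pow_val, ← pow_mul]
    show ((g0 ^ 63 : Kˣ) : K) = 1
    rw [hg63, Units.val_one]
  have hx1 : ((g0 ^ 9 : Kˣ) : K) ≠ 1 := by
    intro h1
    have : g0 ^ 9 = 1 := Units.ext (by rw [h1, Units.val_one])
    have := orderOf_dvd_of_pow_eq_one this
    rw [hord0] at this
    omega
  set ω : K := ((g0 ^ 21 : Kˣ) : K) with hω
  set x : K := ((g0 ^ 9 : Kˣ) : K) with hx
  have hωeq : ω ^ 2 + ω + 1 = 0 := by
    have : (ω - 1) * (ω ^ 2 + ω + 1) = 0 := by linear_combination hω3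
    rcases mul_eq_zero.mp this with h | h
    · exact absurd (sub_eq_zero.mp h) hω1
    · exact h
  have hS6 : x ^ 6 + x ^ 5 + x ^ 4 + x ^ 3 + x ^ 2 + x + 1 = 0 := by
    have : (x - 1) * (x ^ 6 + x ^ 5 + x ^ 4 + x ^ 3 + x ^ 2 + x + 1) = 0 := by
      linear_combination hx7
    rcases mul_eq_zero.mp this with h | h
    · exact absurd (sub_eq_zero.mp h) hx1
    · exact h
  have hprod : (x ^ 3 + x + 1) * (x ^ 3 + x ^ 2 + 1) = 0 := by
    linear_combination hS6 + x ^ 3 * h2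
  rcases mul_eq_zero.mp hprod with h | h
  · exact ⟨ω, x, h2, hωeq, h⟩
  · refine ⟨ω, x ^ 6, h2, hωeq, ?_⟩
    linear_combination (x ^ 4) * h + (x ^ 11 + x ^ 4 - 1) * hx7

theorem q8_data_of [Fintype K] (D : Frob K 8) (hK : Fintype.card K = 64) (B : Frame K 8)
    (hNTA : ∀ x : K, (∀ r k : ℕ, r ^ k = Fintype.card K → 2 ≤ k → x ^ r ≠ x) →
      Subring.closure {x} = ⊤) :
    ∃ δ α β μ lam ν : K, δ + D.σ δ + 1 = 0 ∧ β + D.σ β + α * D.σ α = 0 ∧ α ≠ 0 ∧ μ ≠ 0 ∧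
      α * μ = -(D.σ μ) ^ 2 ∧
      (B.Y 1 δ * B.X α β * B.X α β * B.Y (-1) (D.σ δ) * B.X (-α) (D.σ β) * B.Y (-1) (D.σ δ)) *ᵥ B.e1
        = lam • B.e1 ∧
      Cfsg.hermForm 3 K 8 ((B.Y 1 δ * B.X α β * B.X α β * B.Y (-1) (D.σ δ) * B.X (-α) (D.σ β) *
        B.Y (-1) (D.σ δ)) *ᵥ B.e2) B.e2 = ν ∧
      Subring.closure {D.σ lam * ν} = ⊤ := by
  obtain ⟨ω, r, h2, hω, hr⟩ := exists_omega_r hK
  have hσr : D.σ r = r := by
    rw [D.pow]
    linear_combination ((2) + r + (-1)*r^2 + (-1)*r^3 + r^5) * hr + ((-1) + (-2)*r) * h2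
  have hσω : D.σ ω = ω + 1 := by
    rw [D.pow]
    linear_combination ((1) + (-1)*ω^2 + ω^3 + (-1)*ω^5 + ω^6) * hω + ((-1) + (-1)*ω) * h2
  have hr0 : r ≠ 0 := by
    intro h0
    rw [h0] at hr
    simp at hr
  have hσδ : D.σ (1 + r + r ^ 2 + ω) = 2 + r + r ^ 2 + ω := by
    simp only [map_add, map_pow, map_one, hσr, hσω]; ring
  have hσβ : D.σ (r + r ^ 2 * ω) = r + r ^ 2 * (ω + 1) := by
    simp only [map_add, map_mul, map_pow, hσr, hσω]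
  have hσlam : D.σ (1 + r + (1 + r ^ 2) * ω) = 1 + r + (1 + r ^ 2) * (ω + 1) := by
    simp only [map_add, map_mul, map_pow, map_one, hσr, hσω]
  refine ⟨1 + r + r ^ 2 + ω, r, r + r ^ 2 * ω, r, 1 + r + (1 + r ^ 2) * ω, r ^ 2 + r * ω,
    ?_, ?_, hr0, hr0, ?_, ?_, ?_, ?_⟩
  · rw [hσδ]
    linear_combination ((2) + ω + r + r^2) * h2
  · rw [hσβ, hσr]
    linear_combination (r + r^2 + r^2*ω) * h2
  · rw [hσr]
    linear_combination (r^2) * h2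
  · rw [← B.vec_e1, ← mulVec_mulVec, ← mulVec_mulVec, ← mulVec_mulVec, ← mulVec_mulVec,
      ← mulVec_mulVec, B.Y_vec D, B.X_vec D, B.Y_vec D, B.X_vec D, B.X_vec D, B.Y_vec D]
    have e : (1 + r + (1 + r ^ 2) * ω) • B.vec (1 : K) 0 0 = B.vec (1 + r + (1 + r ^ 2) * ω) 0 0 := by
      simp only [Frame.vec]; module
    rw [e]
    simp only [map_neg, map_one, hσr, hσδ, hσβ]
    congr 1
    · linear_combination ((13) + (4)*ω + (-7)*ω^2 + (-4)*ω^3 + (14)*r + (9)*r*ω + (5)*r*ω^2 + (5)*r*ω^3 + (2)*r*ω^4 + (11)*r^2 + (15)*r^2*ω + (12)*r^2*ω^2 + (4)*r^2*ω^3 + (10)*r^3*ω + (10)*r^3*ω^2 + (4)*r^3*ω^3 + (-1)*r^4 + (6)*r^4*ω + (4)*r^4*ω^2 + (-1)*r^5 + r^5*ω + (2)*r^5*ω^2) * hr + ((3) + (4)*ω + (3)*r + r*ω + (-2)*r*ω^2 + (-1)*r^2 + (-7)*r^2*ω + (-2)*r^2*ω^2) * hω + ((-8) + (-6)*ω + (-10)*r + (-6)*r*ω + (-7)*r^2 + (-1)*r^2*ω) * h2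
    · linear_combination ((8) + (7)*ω + (-1)*ω^2 + (-2)*ω^3 + (19)*r + (18)*r*ω + (9)*r*ω^2 + (5)*r*ω^3 + (2)*r*ω^4 + (23)*r^2 + (27)*r^2*ω + (16)*r^2*ω^2 + (4)*r^2*ω^3 + (6)*r^3 + (14)*r^3*ω + (10)*r^3*ω^2 + (4)*r^3*ω^3 + r^4 + (8)*r^4*ω + (4)*r^4*ω^2 + (-1)*r^5 + r^5*ω + (2)*r^5*ω^2) * hr + ((-1) + (2)*ω + (-5)*r + (-1)*r*ω + (-2)*r*ω^2 + (-8)*r^2 + (-7)*r^2*ω + (-2)*r^2*ω^2) * hω + ((-4) + (-4)*ω + (-4)*r + (-6)*r*ω + (-12)*r^2 + (-7)*r^2*ω) * h2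
    · linear_combination ((-10) + (2)*ω + (-15)*ω^2 + (-23)*ω^3 + (-8)*ω^4 + (13)*r + (15)*r*ω + (-5)*r*ω^2 + (-3)*r*ω^3 + (5)*r*ω^4 + (2)*r*ω^5 + (29)*r^2 + (29)*r^2*ω + (21)*r^2*ω^2 + (17)*r^2*ω^3 + (6)*r^2*ω^4 + (20)*r^3 + (31)*r^3*ω + (37)*r^3*ω^2 + (23)*r^3*ω^3 + (6)*r^3*ω^4 + (8)*r^4 + (28)*r^4*ω + (32)*r^4*ω^2 + (12)*r^4*ω^3 + (-2)*r^5 + (16)*r^5*ω + (17)*r^5*ω^2 + (6)*r^5*ω^3 + (-2)*r^6 + (7)*r^6*ω + (6)*r^6*ω^2 + (-1)*r^7 + r^7*ω + (2)*r^7*ω^2) * hr + ((-8) + (15)*ω + (8)*ω^2 + (-2)*r + (23)*r*ω + (5)*r*ω^2 + (-2)*r*ω^3 + (14)*r^2 + (5)*r^2*ω + (-9)*r^2*ω^2 + (-2)*r^2*ω^3) * hω + ((12) + (-3)*ω + (5)*r + (-11)*r*ω + (-13)*r^2 + (-12)*r^2*ω) * h2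
  · rw [← B.vec_e2, ← mulVec_mulVec, ← mulVec_mulVec, ← mulVec_mulVec, ← mulVec_mulVec,
      ← mulVec_mulVec, B.Y_vec D, B.X_vec D, B.Y_vec D, B.X_vec D, B.X_vec D, B.Y_vec D,
      B.h_vec D]
    simp only [map_neg, map_one, map_zero, hσr, hσδ, hσβ]
    linear_combination ((15) + (8)*ω + (4)*ω^2 + (9)*r + (8)*r*ω + (3)*r*ω^2 + (2)*r*ω^3 + r^2 + (9)*r^2*ω + (2)*r^2*ω^2 + (-1)*r^3 + r^3*ω + (2)*r^3*ω^2) * hr + ((-4) + (-5)*r + (-2)*r*ω + (-3)*r^2 + (-2)*r^2*ω) * hω + ((-5) + (-2)*ω + (-7)*r + (-5)*r*ω + (4)*r^2) * h2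
  · rw [hσlam]
    have hχ : (1 + r + (1 + r ^ 2) * (ω + 1)) * (r ^ 2 + r * ω) = r ^ 2 + r ^ 2 * ω := by
      linear_combination ((1) + ω + ω^2 + r + r*ω) * hr + ((-1)) * hω + ((-1)*r) * h2
    rw [hχ]
    set χ := r ^ 2 + r ^ 2 * ω with hχdef
    have hχ2 : χ ^ 2 = (r ^ 2 + r) * ω := by
      rw [hχdef]
      linear_combination (r + (2)*r*ω + r*ω^2) * hr + ((-1)*r + (-1)*r^2) * hω + ((-1)*r*ω + (-1)*r^2*ω) * h2
    have hχ4 : χ ^ 4 = r * (ω + 1) := by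
      have : χ ^ 4 = (χ ^ 2) ^ 2 := by ring
      rw [this, hχ2]
      linear_combination ((2)*ω^2 + r*ω^2) * hr + ((-2) + (-3)*r) * hω + ((1) + ω + r + r*ω) * h2
    have hχ8 : χ ^ 8 = r ^ 2 * ω := by
      have : χ ^ 8 = (χ ^ 4) ^ 2 := by ring
      rw [this, hχ4]
      linear_combination (r^2) * hω
    apply hNTA
    intro r0 k hrk hk hx
    rw [hK] at hrk
    have hr0' : 2 ≤ r0 := by
      rcases Nat.lt_or_ge r0 2 with h | h
      · interval_cases r0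
        · rw [zero_pow (by omega)] at hrk; omega
        · rw [one_pow] at hrk; omega
      · exact h
    have hk6 : k ≤ 6 := by
      by_contra hk7
      have : 2 ^ 7 ≤ r0 ^ k :=
        le_trans (Nat.pow_le_pow_left hr0' 7) (Nat.pow_le_pow_right (by omega) (by omega))
      omega
    have hr8 : r0 ≤ 8 := by
      by_contra h9
      have : 9 ^ 2 ≤ r0 ^ k :=
        le_trans (Nat.pow_le_pow_left (by omega : 9 ≤ r0) 2) (Nat.pow_le_pow_right (by omega) hk)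
      omega
    have hcases : r0 = 2 ∨ r0 = 4 ∨ r0 = 8 := by
      interval_cases r0 <;> interval_cases k <;> simp at hrk ⊢
    rcases hcases with rfl | rfl | rfl
    · -- χ^2 = χ
      rw [hχ2, hχdef] at hx
      have h1 : r * (ω - r) = 0 := by linear_combination hx
      rcases mul_eq_zero.mp h1 with h | h
      · exact hr0 h
      · have hωr : ω = r := sub_eq_zero.mp h
        rw [hωr] at hω
        have : r = 0 := by linear_combination hr - (r - 1) * hω - h2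
        exact hr0 this
    · -- χ^4 = χ
      rw [hχ4, hχdef] at hx
      have h1 : r * (1 - r) = 0 := by
        linear_combination ω * hx + ((-1)*r + r^2) * hω + (r + (-1)*r^2) * h2
      rcases mul_eq_zero.mp h1 with h | h
      · exact hr0 h
      · have hr1 : r = 1 := by linear_combination -h
        rw [hr1] at hr
        have : (1 : K) = 0 := by linear_combination hr - h2
        exact one_ne_zero this
    · -- χ^8 = χ
      rw [hχ8, hχdef] at hx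
      have h1 : r ^ 2 = 0 := by linear_combination -hx
      exact hr0 (pow_eq_zero_iff (by norm_num) |>.mp h1)

end Cfsg.Agent.Helper4.SU3G
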