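import Mathlib
import Cfsg.Agent.Helper4.SU3Defs
import Cfsg.Agent.Helper4.SU3CritA
import Cfsg.Agent.Helper4.SU3CritB
import Cfsg.Agent.Helper4.SU3Cfg1
import Cfsg.Agent.Helper4.SU3NTB
import Cfsg.Agent.Helper4.SU3Q8
import Cfsg.Agent.Helper7.SU3REG
import Cfsg.Agent.Helper7.SU3CONJ
import Cfsg.Agent.Helper13.SU3FRAME
import Cfsg.Agent.Helper14.SU3Q5
import Cfsg.Agent.Helper23.SU3NTA

set_option autoImplicit false

/-! Assembly of S2283: `SU_3(q)`, `q ≥ 3`, is generated by two conjugate regular unipotents. -/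

namespace Cfsg.Agent.Helper4.SU3G

open Matrix Cfsg.Agent.S2644 Cfsg.Agent.Helper2.SUGen

variable {K : Type*} [Field K] {q : ℕ}

local notation "h" => Cfsg.hermForm 3 K q

theorem toM_inv_eq (g : ↥(Cfsg.SU 3 K q)) {M ginv : Matrix (Fin 3) (Fin 3) K}
    (hg : toM K 3 q g = M) (h1 : M * ginv = 1) : toM K 3 q g⁻¹ = ginv := by
  have h2 : toM K 3 q g⁻¹ * toM K 3 q g = 1 := by
    rw [← map_mul, inv_mul_cancel, map_one]
  calc toM K 3 q g⁻¹ = toM K 3 q g⁻¹ * (M * ginv) := by rw [h1, Matrix.mul_one]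
    _ = ginv := by rw [← Matrix.mul_assoc, ← hg, h2, Matrix.one_mul]

theorem main_of_config [Fintype K] (D : Frob K q) (hK : Fintype.card K = q ^ 2) (hq : q ≠ 2)
    (B : Frame K q) {γ δ α β μ : K} (hY : δ + D.σ δ + γ * D.σ γ = 0)
    (hX : β + D.σ β + α * D.σ α = 0) (hγ : γ ≠ 0) (hα : α ≠ 0) (hμ : μ ≠ 0)
    (hαγ : α * μ = -(D.σ μ) ^ 2 * γ)
    (S : Matrix (Fin 3) (Fin 3) K)
    (hS : ∀ H : Subgroup ↥(Cfsg.SU 3 K q), InH H (B.Y γ δ) → InH H (B.X α β) → InH H S)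
    {lam ν : K} (hS1 : S *ᵥ B.e1 = lam • B.e1) (hS2 : h (S *ᵥ B.e2) B.e2 = ν)
    (hgen : Subring.closure {D.σ lam * ν} = ⊤) :
    ∃ u g : ↥(Cfsg.SU 3 K q),
      (IsNilpotent (((u : Matrix.SpecialLinearGroup (Fin 3) K) : Matrix (Fin 3) (Fin 3) K) - 1) ∧
        (((u : Matrix.SpecialLinearGroup (Fin 3) K) : Matrix (Fin 3) (Fin 3) K) - 1) ^ (3 - 1) ≠ 0) ∧
      Subgroup.closure ({u, g * u * g⁻¹} : Set ↥(Cfsg.SU 3 K q)) = ⊤ := by
  haveI : Finite K := Finite.of_fintype K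
  obtain ⟨g, ginv, hgdet, hgP, hg1, hg2, hconj⟩ := Cfsg.Agent.Helper7.SU3G.conj_XY D B hY hX hμ hα hαγ
  set u : ↥(Cfsg.SU 3 K q) := mkSU (B.Y γ δ) (B.Y_det D γ δ) (B.Y_pres D hY) with hu
  set gS : ↥(Cfsg.SU 3 K q) := mkSU g hgdet hgP with hgS
  refine ⟨u, gS, ?_, ?_⟩
  · exact Cfsg.Agent.Helper7.SU3G.Y_regular D B hγ δ
  · set H := Subgroup.closure ({u, gS * u * gS⁻¹} : Set ↥(Cfsg.SU 3 K q)) with hH
    have huH : InH H (B.Y γ δ) := ⟨u, Subgroup.subset_closure (by simp), rfl⟩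
    have hvH : InH H (B.X α β) := by
      refine ⟨gS * u * gS⁻¹, Subgroup.subset_closure (by simp), ?_⟩
      rw [map_mul, map_mul, toM_inv_eq gS (toM_mkSU g hgdet hgP) hg1]
      exact hconj
    have hSH := hS H huH hvH
    have hδ : δ ≠ 0 := by
      intro hδ0
      have hY' := hY
      rw [hδ0, map_zero, add_zero, zero_add] at hY'
      rcases mul_eq_zero.mp hY' with h0 | h0
      · exact hγ h0
      · exact σ_ne_zero D hγ h0
    have hall := crit_all D B H hα hX hvH hSH hS1 hS2 hgen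
    refine crit_top D hK hq B H hall huH ?_
    rw [← B.vec_e1, B.Y_vec D, B.h_vec D]
    simpa using hδ

theorem Y_inv_mul (D : Frob K q) (B : Frame K q) {γ δ : K} (hY : δ + D.σ δ + γ * D.σ γ = 0) :
    B.Y γ δ * B.Y (-γ) (D.σ δ) = 1 := by
  rw [B.Y_mul D, add_neg_cancel, show δ + D.σ δ - -γ * D.σ γ = 0 by linear_combination hY,
    B.Y_zero D]

theorem X_inv_mul (D : Frob K q) (B : Frame K q) {α β : K} (hX : β + D.σ β + α * D.σ α = 0) :
    B.X α β * B.X (-α) (D.σ β) = 1 := by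
  rw [B.X_mul D, add_neg_cancel, show β + D.σ β - -α * D.σ α = 0 by linear_combination hX,
    B.X_zero D]

theorem su3_two_conj {F : Type*} [Field F] [Fintype F] (q : ℕ) (hq : 3 ≤ q)
    (hF : Fintype.card F = q ^ 2) :
    ∃ u g : ↥(Cfsg.SU 3 F q),
      (IsNilpotent (((u : Matrix.SpecialLinearGroup (Fin 3) F) : Matrix (Fin 3) (Fin 3) F) - 1) ∧
        (((u : Matrix.SpecialLinearGroup (Fin 3) F) : Matrix (Fin 3) (Fin 3) F) - 1) ^ (3 - 1) ≠ 0) ∧
      Subgroup.closure ({u, g * u * g⁻¹} : Set ↥(Cfsg.SU 3 F q)) = ⊤ := by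
  classical
  obtain ⟨σ, hσ, hσ2⟩ := Cfsg.Agent.Helper28.exists_frob hF
  have hσid := Cfsg.Agent.S0837.frob_ne_id hF σ hσ
  let D : Frob F q := ⟨σ, hσ, hσ2, hσid⟩
  haveI : Finite F := Finite.of_fintype F
  obtain ⟨B⟩ := Cfsg.Agent.Helper13.SU3G.exists_frame D
  have hq2 : q ≠ 2 := by omega
  by_cases h5 : q = 5
  · subst h5
    obtain ⟨δ, α, β, μ, lam, ν, hY, hX, hα, hμ, hαμ, hS1, hS2, hgen⟩ :=
      Cfsg.Agent.Helper14.SU3G.q5_data_of D (by rw [hF]; norm_num) B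
        (fun x hx => Cfsg.Agent.Helper23.SU3G.closure_singleton_eq_top x hx)
    have hY' : δ + D.σ δ + 1 * D.σ 1 = 0 := by rw [map_one, mul_one]; exact hY
    refine main_of_config D hF hq2 B (γ := 1) hY' hX one_ne_zero
      hα hμ (by rw [mul_one]; exact hαμ) _ ?_ hS1 hS2 hgen
    intro H hv hu
    exact InH_mul (InH_mul (InH_mul hv hv) hu) hv
  by_cases h8 : q = 8
  · subst h8
    obtain ⟨δ, α, β, μ, lam, ν, hY, hX, hα, hμ, hαμ, hS1, hS2, hgen⟩ :=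
      q8_data_of D (by rw [hF]; norm_num) B
        (fun x hx => Cfsg.Agent.Helper23.SU3G.closure_singleton_eq_top x hx)
    have hY' : δ + D.σ δ + 1 * D.σ 1 = 0 := by rw [map_one, mul_one]; exact hY
    refine main_of_config D hF hq2 B (γ := 1) hY' hX one_ne_zero
      hα hμ (by rw [mul_one]; exact hαμ) _ ?_ hS1 hS2 hgen
    intro H hv hu
    have hvi : InH H (B.Y (-1) (D.σ δ)) := InH_inv hv (Y_inv_mul D B hY')
    have hui : InH H (B.X (-α) (D.σ β)) := InH_inv hu (X_inv_mul D B hX)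
    exact InH_mul (InH_mul (InH_mul (InH_mul (InH_mul hv hu) hu) hvi) hui) hvi
  · obtain ⟨d, hd, hgen⟩ := exists_d_of D hF hq h5 h8
      (fun x hx => Cfsg.Agent.Helper23.SU3G.closure_singleton_eq_top x hx)
    obtain ⟨hX, hα, hσα, hS1, hS2, hσlam⟩ :=
      cfg1 D B (d := d) (α := (d * D.σ d)⁻¹) (β := (d / D.σ d - 1 + (d * D.σ d)⁻¹) / d)
        (lam := d / D.σ d) hd rfl rfl rfl
    have hY' : d + D.σ d + 1 * D.σ 1 = 0 := by rw [map_one, mul_one]; exact hd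
    refine main_of_config D hF hq2 B (γ := 1) (μ := -(d * D.σ d)⁻¹) hY' hX one_ne_zero
      hα (neg_ne_zero.mpr hα) ?_ _ ?_ hS1 hS2 ?_
    · rw [map_neg, hσα]; ring
    · intro H hv hu
      exact InH_mul (InH_mul hv hu) hv
    · rw [hσlam]
      have e : D.σ d / d * (D.σ d / d) ^ 2 = (D.σ d / d) ^ 3 := by ring
      rw [e]; exact hgen

end Cfsg.Agent.Helper4.SU3G
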