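import Mathlib
import Cfsg.Agent.Helper2.SU.Main
import Cfsg.Agent.Helper28.UnitMax

set_option autoImplicit false

/-! Shared definitions for S2282 (`SU_n(q)`, `n` odd, is generated by three conjugate regular
unipotent elements): membership of a matrix in a subgroup of `SU_n`, and the final criterion: a
subgroup containing all Siegel elements with centre `e1` and an element moving `e1` off its
perpendicular space is everything. -/

namespace Cfsg.Agent.Helper4.SUn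

open Matrix Cfsg.Agent.S2644 Cfsg.Agent.Helper2.SUGen Cfsg.Agent.Helper28.UM

variable {K : Type*} [Field K] {q n : ℕ}

local notation "h" => Cfsg.hermForm n K q

/-- Membership of a matrix in a subgroup of `SU_n`. -/
def InH (H : Subgroup ↥(Cfsg.SU n K q)) (M : Matrix (Fin n) (Fin n) K) : Prop :=
  ∃ g ∈ H, toM K n q g = M

theorem InH_mul {H : Subgroup ↥(Cfsg.SU n K q)} {M M' : Matrix (Fin n) (Fin n) K}
    (hM : InH H M) (hM' : InH H M') : InH H (M * M') := by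
  obtain ⟨g, hg, rfl⟩ := hM
  obtain ⟨g', hg', rfl⟩ := hM'
  exact ⟨g * g', H.mul_mem hg hg', map_mul _ _ _⟩

theorem InH_one (H : Subgroup ↥(Cfsg.SU n K q)) : InH H (1 : Matrix (Fin n) (Fin n) K) :=
  ⟨1, H.one_mem, map_one _⟩

/-- If `M * M' = 1` and `M ∈ H` then `M' ∈ H`. -/
theorem InH_inv {H : Subgroup ↥(Cfsg.SU n K q)} {M M' : Matrix (Fin n) (Fin n) K}
    (hM : InH H M) (hinv : M * M' = 1) : InH H M' := by
  obtain ⟨g, hg, rfl⟩ := hM
  refine ⟨g⁻¹, H.inv_mem hg, ?_⟩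
  have h2 : toM K n q g⁻¹ * toM K n q g = 1 := by
    rw [← map_mul, inv_mul_cancel, map_one]
  calc toM K n q g⁻¹ = toM K n q g⁻¹ * (toM K n q g * M') := by rw [hinv, Matrix.mul_one]
    _ = M' := by rw [← Matrix.mul_assoc, h2, Matrix.one_mul]

theorem InH_pres {H : Subgroup ↥(Cfsg.SU n K q)} {M : Matrix (Fin n) (Fin n) K}
    (hM : InH H M) : Pres (q := q) M := by
  obtain ⟨g, -, rfl⟩ := hM
  exact toM_pres g

theorem InH_mk (H : Subgroup ↥(Cfsg.SU n K q)) (M : Matrix (Fin n) (Fin n) K) (hdet : M.det = 1)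
    (hP : Pres (q := q) M) : InH H M ↔ mkSU M hdet hP ∈ H := by
  constructor
  · rintro ⟨g, hg, hgM⟩
    have : g = mkSU M hdet hP := toM_injective (by rw [hgM, toM_mkSU])
    rwa [← this]
  · intro hm
    exact ⟨_, hm, toM_mkSU M hdet hP⟩

/-- `SU_n → GL_n`. -/
noncomputable def toGLn (K : Type*) [Field K] (n q : ℕ) :
    ↥(Cfsg.SU n K q) →* Matrix.GeneralLinearGroup (Fin n) K :=
  (Matrix.SpecialLinearGroup.toGL).comp (Subgroup.subtype _)

theorem toGLn_val (g : ↥(Cfsg.SU n K q)) :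
    ((toGLn K n q g : Matrix.GeneralLinearGroup (Fin n) K) : Matrix (Fin n) (Fin n) K) =
      toM K n q g := rfl

theorem mem_map_of_InH {H : Subgroup ↥(Cfsg.SU n K q)}
    {ĝ : Matrix.GeneralLinearGroup (Fin n) K}
    (hM : InH H (ĝ : Matrix (Fin n) (Fin n) K)) : ĝ ∈ H.map (toGLn K n q) := by
  obtain ⟨g, hg, hgM⟩ := hM
  refine ⟨g, hg, ?_⟩
  apply Units.ext
  rw [toGLn_val, hgM]

/-- A subgroup of `SU_n(q)` containing all Siegel elements with centre `e1` and an element `V`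
with `h (V e1) e1 ≠ 0` is everything. -/
theorem crit_top_n [Fintype K] (D : Frob K q) (hK : Fintype.card K = q ^ 2) (hn : 3 ≤ n)
    (h32 : ¬ (n = 3 ∧ q = 2)) (H : Subgroup ↥(Cfsg.SU n K q)) {e1 : Fin n → K}
    (h11 : h e1 e1 = 0)
    (hQ : ∀ (w : Fin n → K) (c : K), h w e1 = 0 → c + D.σ c + h w w = 0 →
      InH H (Sg (q := q) e1 w c))
    {V : Matrix (Fin n) (Fin n) K} (hV : InH H V) (hV1 : h (V *ᵥ e1) e1 ≠ 0) : H = ⊤ := by
  set Hh := H.map (toGLn K n q) with hHh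
  have he1 : e1 ∈ S1 D Hh := by
    refine ⟨h11, fun w c hwx hc => ?_⟩
    apply mem_map_of_InH
    rw [SgG_val]
    exact hQ w c hwx hc
  obtain ⟨gV, hgV, hgVM⟩ := hV
  have hVe1 : V *ᵥ e1 ∈ S1 D Hh := by
    have := S1_map D Hh he1 (g := toGLn K n q gV) ⟨gV, hgV, rfl⟩ (by
      rw [toGLn_val]; exact toM_pres gV)
    rwa [toGLn_val, hgVM] at this
  have hall : ∀ y : Fin n → K, h y y = 0 → y ∈ S1 D Hh :=
    fun y hyy => S1_all D Hh he1 hVe1 hV1 hyy
  have hTT : ∀ M ∈ TT D (⊤ : Submodule K (Fin n → K)),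
      ∃ ĝ ∈ Hh, ((ĝ : Matrix.GeneralLinearGroup (Fin n) K) : Matrix (Fin n) (Fin n) K) = M := by
    intro M hM
    induction hM using Submonoid.closure_induction with
    | mem M hM =>
      obtain ⟨x, c, -, hxx, hc, rfl⟩ := hM
      obtain ⟨hxx', hx⟩ := hall x hxx
      have hc' : c + D.σ c + h (0 : Fin n → K) 0 = 0 := by
        rw [h_zero_left, hc]; ring
      refine ⟨_, hx 0 c (h_zero_left x) hc', ?_⟩
      rw [SgG_val, Sg_zero D]
    | one => exact ⟨1, Hh.one_mem, rfl⟩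
    | mul M M' _ _ ih ih' =>
      obtain ⟨ĝ, hĝ, rfl⟩ := ih
      obtain ⟨ĝ', hĝ', rfl⟩ := ih'
      exact ⟨ĝ * ĝ', Hh.mul_mem hĝ hĝ', rfl⟩
  rw [eq_top_iff]
  intro g _
  have hgTT : toM K n q g ∈ TT D (⊤ : Submodule K (Fin n → K)) :=
    SU_le_TT D hK hn h32 (toM_pres g) g.1.2
  obtain ⟨ĝ, ⟨g', hg', rfl⟩, hĝM⟩ := hTT _ hgTT
  rw [toGLn_val] at hĝM
  have : g' = g := toM_injective hĝM
  rwa [← this]

end Cfsg.Agent.Helper4.SUn
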