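import Mathlib
import Cfsg.Agent.Helper4.SUnDefs

set_option autoImplicit false

/-! S2282, the module argument, part A: the additive group `MQ` of vectors `w ⊥ e1` such that some
Siegel element `Sg e1 w c` lies in `H`, and its stability properties. -/

namespace Cfsg.Agent.Helper4.SUn

open Matrix Cfsg.Agent.S2644 Cfsg.Agent.Helper2.SUGen

variable {K : Type*} [Field K] {q n : ℕ}

local notation "h" => Cfsg.hermForm n K q

/-- The vectors `w ⊥ e1` such that some `Sg e1 w c` lies in `H`. -/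
def MQ (D : Frob K q) (H : Subgroup ↥(Cfsg.SU n K q)) (e1 : Fin n → K) (h11 : h e1 e1 = 0) :
    AddSubgroup (Fin n → K) where
  carrier := {w | h w e1 = 0 ∧ ∃ c, c + D.σ c + h w w = 0 ∧ InH H (Sg (q := q) e1 w c)}
  zero_mem' := by
    refine ⟨h_zero_left _, 0, ?_, ?_⟩
    · rw [h_zero_left, map_zero]; ring
    · rw [Sg_zero D, Cfsg.Agent.S0781.T_zero_coeff]; exact InH_one H
  add_mem' := by
    rintro w1 w2 ⟨h1, c1, hc1, hm1⟩ ⟨h2, c2, hc2, hm2⟩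
    refine ⟨by rw [h_add_left, h1, h2, add_zero], c1 + c2 - h w2 w1, ?_, ?_⟩
    · have e : D.σ (h w2 w1) = h w1 w2 := h_conj D w1 w2
      simp only [map_add, map_sub, e, h_add_left, h_add_right D]
      linear_combination hc1 + hc2
    · rw [← Sg_mul D e1 w1 w2 c1 c2 h11 h1 h2]; exact InH_mul hm1 hm2
  neg_mem' := by
    rintro w ⟨h1, c, hc, hm⟩
    refine ⟨by rw [h_neg_left, h1, neg_zero], D.σ c, cond_inv D w c hc, ?_⟩
    exact InH_inv hm (Sg_inv D e1 w c h11 h1 hc).1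

theorem mem_MQ (D : Frob K q) (H : Subgroup ↥(Cfsg.SU n K q)) (e1 : Fin n → K)
    (h11 : h e1 e1 = 0) (w : Fin n → K) :
    w ∈ MQ D H e1 h11 ↔
      h w e1 = 0 ∧ ∃ c, c + D.σ c + h w w = 0 ∧ InH H (Sg (q := q) e1 w c) := Iff.rfl

theorem MQ_perp (D : Frob K q) (H : Subgroup ↥(Cfsg.SU n K q)) {e1 : Fin n → K}
    (h11 : h e1 e1 = 0) {w : Fin n → K} (hw : w ∈ MQ D H e1 h11) : h w e1 = 0 := hw.1

theorem MQ_e1 (D : Frob K q) (H : Subgroup ↥(Cfsg.SU n K q)) {e1 : Fin n → K}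
    (h11 : h e1 e1 = 0) (ζ : K) : ζ • e1 ∈ MQ D H e1 h11 := by
  refine ⟨by rw [h_smul_left, h11, mul_zero], D.σ ζ - ζ, ?_, ?_⟩
  · rw [h_smul_left, h_smul_right D, h11, map_sub, D.invol]; ring
  · rw [Sg_self D, show ζ - D.σ ζ + (D.σ ζ - ζ) = 0 by ring, Cfsg.Agent.S0781.T_zero_coeff]
    exact InH_one H

/-- Elements of `H` fixing `e1` stabilise `MQ`. -/
theorem MQ_stab (D : Frob K q) (H : Subgroup ↥(Cfsg.SU n K q)) {e1 : Fin n → K}
    (h11 : h e1 e1 = 0) {S : Matrix (Fin n) (Fin n) K} (hS : InH H S) (hS1 : S *ᵥ e1 = e1)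
    {w : Fin n → K} (hw : w ∈ MQ D H e1 h11) : S *ᵥ w ∈ MQ D H e1 h11 := by
  obtain ⟨h1, c, hc, hm⟩ := hw
  obtain ⟨g, hg, rfl⟩ := hS
  have hP : Pres (q := q) (toM K n q g) := toM_pres g
  have hinv : toM K n q g * toM K n q g⁻¹ = 1 := by
    rw [← map_mul, mul_inv_cancel, map_one]
  refine ⟨?_, c, ?_, ?_⟩
  · have := hP w e1
    rw [hS1] at this
    rw [this, h1]
  · rw [hP]; exact hc
  · have e1' : toM K n q g * Sg (q := q) e1 w c =
        Sg (q := q) e1 (toM K n q g *ᵥ w) c * toM K n q g := by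
      rw [Sg_conj D _ hP, hS1]
    have e2 : Sg (q := q) e1 (toM K n q g *ᵥ w) c =
        toM K n q g * Sg (q := q) e1 w c * toM K n q g⁻¹ := by
      rw [e1', Matrix.mul_assoc, hinv, Matrix.mul_one]
    rw [e2]
    exact InH_mul (InH_mul ⟨g, hg, rfl⟩ hm) ⟨g⁻¹, H.inv_mem hg, rfl⟩

theorem MQ_sub_one (D : Frob K q) (H : Subgroup ↥(Cfsg.SU n K q)) {e1 : Fin n → K}
    (h11 : h e1 e1 = 0) {U : Matrix (Fin n) (Fin n) K} (hU : InH H U) (hU1 : U *ᵥ e1 = e1)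
    {w : Fin n → K} (hw : w ∈ MQ D H e1 h11) : (U - 1) *ᵥ w ∈ MQ D H e1 h11 := by
  rw [Matrix.sub_mulVec, Matrix.one_mulVec]
  exact (MQ D H e1 h11).sub_mem (MQ_stab D H h11 hU hU1 hw) hw

theorem MQ_pow (D : Frob K q) (H : Subgroup ↥(Cfsg.SU n K q)) {e1 : Fin n → K}
    (h11 : h e1 e1 = 0) {U : Matrix (Fin n) (Fin n) K} (hU : InH H U) (hU1 : U *ᵥ e1 = e1)
    (k : ℕ) {w : Fin n → K} (hw : w ∈ MQ D H e1 h11) :
    ((U - 1) ^ k) *ᵥ w ∈ MQ D H e1 h11 := by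
  induction k generalizing w with
  | zero => rw [pow_zero, Matrix.one_mulVec]; exact hw
  | succ k ih =>
    rw [pow_succ, ← Matrix.mulVec_mulVec]
    exact ih (MQ_sub_one D H h11 hU hU1 hw)

/-- The largest `K`-subspace inside `MQ`. -/
def MK (D : Frob K q) (H : Subgroup ↥(Cfsg.SU n K q)) (e1 : Fin n → K) (h11 : h e1 e1 = 0) :
    Submodule K (Fin n → K) where
  carrier := {v | ∀ r : K, r • v ∈ MQ D H e1 h11}
  zero_mem' := fun r => by rw [smul_zero]; exact (MQ D H e1 h11).zero_mem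
  add_mem' := fun {v v'} hv hv' r => by
    rw [smul_add]; exact (MQ D H e1 h11).add_mem (hv r) (hv' r)
  smul_mem' := fun s v hv r => by rw [smul_smul]; exact hv _

theorem mem_MK (D : Frob K q) (H : Subgroup ↥(Cfsg.SU n K q)) (e1 : Fin n → K)
    (h11 : h e1 e1 = 0) (v : Fin n → K) :
    v ∈ MK D H e1 h11 ↔ ∀ r : K, r • v ∈ MQ D H e1 h11 := Iff.rfl

theorem MK_le (D : Frob K q) (H : Subgroup ↥(Cfsg.SU n K q)) {e1 : Fin n → K}
    (h11 : h e1 e1 = 0) {v : Fin n → K} (hv : v ∈ MK D H e1 h11) : v ∈ MQ D H e1 h11 := by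
  have := hv 1
  rwa [one_smul] at this

theorem MK_e1 (D : Frob K q) (H : Subgroup ↥(Cfsg.SU n K q)) {e1 : Fin n → K}
    (h11 : h e1 e1 = 0) : e1 ∈ MK D H e1 h11 := fun r => MQ_e1 D H h11 r

theorem MK_stab (D : Frob K q) (H : Subgroup ↥(Cfsg.SU n K q)) {e1 : Fin n → K}
    (h11 : h e1 e1 = 0) {S : Matrix (Fin n) (Fin n) K} (hS : InH H S) (hS1 : S *ᵥ e1 = e1)
    {v : Fin n → K} (hv : v ∈ MK D H e1 h11) : S *ᵥ v ∈ MK D H e1 h11 := by
  intro r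
  rw [← Matrix.mulVec_smul]
  exact MQ_stab D H h11 hS hS1 (hv r)

theorem MK_pow (D : Frob K q) (H : Subgroup ↥(Cfsg.SU n K q)) {e1 : Fin n → K}
    (h11 : h e1 e1 = 0) {U : Matrix (Fin n) (Fin n) K} (hU : InH H U) (hU1 : U *ᵥ e1 = e1)
    (k : ℕ) {v : Fin n → K} (hv : v ∈ MK D H e1 h11) :
    ((U - 1) ^ k) *ᵥ v ∈ MK D H e1 h11 := by
  intro r
  rw [← Matrix.mulVec_smul]
  exact MQ_pow D H h11 hU hU1 k (hv r)

end Cfsg.Agent.Helper4.SUn
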