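import Mathlib
import Cfsg.Agent.Helper4.SUnCritA

set_option autoImplicit false

/-! S2282, the module argument, part B: the abstract criterion `main_crit`. -/

namespace Cfsg.Agent.Helper4.SUn

open Matrix Cfsg.Agent.S2644 Cfsg.Agent.Helper2.SUGen

variable {K : Type*} [Field K] {q n : ℕ}

local notation "h" => Cfsg.hermForm n K q

/-- `U - 1` preserves `e1^⊥` when `U` is an isometry fixing `e1`. -/
theorem sub_one_perp {U : Matrix (Fin n) (Fin n) K} (hP : Pres (q := q) U) {e1 : Fin n → K}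
    (hU1 : U *ᵥ e1 = e1) {v : Fin n → K} (hv : h v e1 = 0) : h ((U - 1) *ᵥ v) e1 = 0 := by
  rw [Matrix.sub_mulVec, Matrix.one_mulVec, h_sub_left, hv, sub_zero]
  have := hP v e1
  rw [hU1] at this
  rw [this, hv]

theorem sub_one_pow_perp {U : Matrix (Fin n) (Fin n) K} (hP : Pres (q := q) U) {e1 : Fin n → K}
    (hU1 : U *ᵥ e1 = e1) (j : ℕ) {v : Fin n → K} (hv : h v e1 = 0) :
    h (((U - 1) ^ j) *ᵥ v) e1 = 0 := by
  induction j generalizing v with
  | zero => rw [pow_zero, Matrix.one_mulVec]; exact hv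
  | succ j ih =>
    rw [pow_succ, ← Matrix.mulVec_mulVec]
    exact ih (sub_one_perp hP hU1 hv)

/-- The abstract criterion. -/
theorem main_crit [Fintype K] (D : Frob K q) (hK : Fintype.card K = q ^ 2) (hn : 3 ≤ n)
    (h32 : ¬ (n = 3 ∧ q = 2)) (H : Subgroup ↥(Cfsg.SU n K q))
    {e1 e2 : Fin n → K} (h11 : h e1 e1 = 0) (h21 : h e2 e1 = 0)
    {U : Matrix (Fin n) (Fin n) K} (hU : InH H U) (hU1 : U *ᵥ e1 = e1) {a : K}
    (hU2 : U *ᵥ e2 = e2 + a • e1) {κ₂ : K}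
    (hReg : ∀ v : Fin n → K, h v e1 = 0 →
      ∃ ζ : K, ((U - 1) ^ (n - 3)) *ᵥ v = (κ₂ * h v e2) • e2 + ζ • e1)
    (hKer : ∀ v : Fin n → K, h v e1 = 0 → (∃ ζ : K, (U - 1) *ᵥ v = ζ • e1) →
      ∃ x ζ' : K, v = x • e2 + ζ' • e1)
    {w0 : Fin n → K} {c0 : K} (hw01 : h w0 e1 = 0) (hw02 : h w0 e2 = 0)
    (hw0c : c0 + D.σ c0 + h w0 w0 = 0) (hw0 : ¬ ∃ ζ : K, w0 = ζ • e1)
    (ht0 : InH H (Sg (q := q) e1 w0 c0))
    {Z Zinv : Matrix (Fin n) (Fin n) K} (hZ : InH H Z) (hZZ : Z * Zinv = 1) {ν1 : K}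
    (hZ1 : Zinv *ᵥ e1 = ν1 • e2)
    {η ω : K} (hη : h e1 (Zinv *ᵥ e2) = η) (hω : h w0 (Zinv *ᵥ e2) = ω)
    (hκ : κ₂ * (D.σ η * ω - D.σ ω * η + c0 * D.σ η * η) ≠ 0)
    (hν1 : ν1 ≠ 0)
    (hgen : Subring.closure {κ₂ * (D.σ η * ω - D.σ ω * η + c0 * D.σ η * η)} = ⊤) : H = ⊤ := by
  classical
  set κ0 := D.σ η * ω - D.σ ω * η + c0 * D.σ η * η with hκ0def
  have hκ0 : κ0 ≠ 0 := fun h0 => hκ (by rw [h0, mul_zero])
  have hη0 : η ≠ 0 := by
    intro h0
    apply hκ0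
    rw [hκ0def, h0, map_zero]; ring
  set T := U - 1 with hT
  have hUP : Pres (q := q) U := InH_pres hU
  have h12 : h e1 e2 = 0 := h_symm_zero D h21
  have hT1 : T *ᵥ e1 = 0 := by
    rw [hT, Matrix.sub_mulVec, Matrix.one_mulVec, hU1, sub_self]
  have hT2 : T *ᵥ e2 = a • e1 := by
    rw [hT, Matrix.sub_mulVec, Matrix.one_mulVec, hU2, add_sub_cancel_left]
  -- nilpotency on `e1^⊥`
  have hn2 : n - 2 = (n - 3) + 1 := by omega
  have hTn2 : ∀ v : Fin n → K, h v e1 = 0 → ∃ ζ : K, (T ^ (n - 2)) *ᵥ v = ζ • e1 := by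
    intro v hv
    obtain ⟨ζ, hζ⟩ := hReg v hv
    refine ⟨κ₂ * h v e2 * a, ?_⟩
    rw [hn2, pow_succ', ← Matrix.mulVec_mulVec, hζ, Matrix.mulVec_add, Matrix.mulVec_smul,
      Matrix.mulVec_smul, hT1, hT2, smul_zero, add_zero, smul_smul]
  -- the element `Z`
  have hZP : Pres (q := q) Z := InH_pres hZ
  have hZinv : InH H Zinv := InH_inv hZ hZZ
  have hZZ' : Zinv * Z = 1 := mul_eq_one_comm.mp hZZ
  have hZadj : ∀ x y : Fin n → K, h (Z *ᵥ x) y = h x (Zinv *ᵥ y) := by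
    intro x y
    have : Z *ᵥ (Zinv *ᵥ y) = y := by rw [Matrix.mulVec_mulVec, hZZ, Matrix.one_mulVec]
    conv_lhs => rw [← this]
    exact hZP _ _
  set y := Z *ᵥ e1 with hy
  set w' := Z *ᵥ w0 with hw'
  have hy1 : h y e1 = 0 := by
    rw [hy, hZadj, hZ1, h_smul_right D, h12, mul_zero]
  have h1y : h e1 y = 0 := h_symm_zero D hy1
  have hw'1 : h w' e1 = 0 := by
    rw [hw', hZadj, hZ1, h_smul_right D, hw02, mul_zero]
  have h1w' : h e1 w' = 0 := h_symm_zero D hw'1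
  have hy2 : h y e2 = η := by rw [hy, hZadj, hη]
  have hw'2 : h w' e2 = ω := by rw [hw', hZadj, hω]
  have h2y : h e2 y = D.σ η := by rw [← hy2]; exact (h_conj D e2 y).symm
  have h2w' : h e2 w' = D.σ ω := by rw [← hw'2]; exact (h_conj D e2 w').symm
  -- `t' = Z t0 Z⁻¹`
  have ht' : InH H (Sg (q := q) y w' c0) := by
    have e : Sg (q := q) y w' c0 = Z * Sg (q := q) e1 w0 c0 * Zinv := by
      rw [Sg_conj D Z hZP, Matrix.mul_assoc, hZZ, Matrix.mul_one]
    rw [e]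
    exact InH_mul (InH_mul hZ ht0) hZinv
  have ht'1 : Sg (q := q) y w' c0 *ᵥ e1 = e1 := by
    rw [Sg_mulVec, h1y, h1w']
    simp
  -- the vector `X`
  set X := h e2 y • w' - h e2 w' • y + (c0 * h e2 y) • y with hX
  have hX1 : h X e1 = 0 := by
    rw [hX, h_add_left, h_sub_left, h_smul_left, h_smul_left, h_smul_left, hw'1, hy1]
    ring
  have hX2 : h X e2 = κ0 := by
    rw [hX, h_add_left, h_sub_left, h_smul_left, h_smul_left, h_smul_left, hw'2, hy2, h2y, h2w',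
      hκ0def]
  have ht'2 : ∀ r : K, Sg (q := q) y w' c0 *ᵥ (r • e2) = r • e2 + r • X := by
    intro r
    rw [Sg_mulVec, h_smul_left, h_smul_left, hX]
    module
  -- the additive group `A`
  let A : AddSubgroup K :=
    { carrier := {r | r • e2 ∈ MQ D H e1 h11}
      zero_mem' := by
        show (0 : K) • e2 ∈ MQ D H e1 h11
        rw [zero_smul]; exact (MQ D H e1 h11).zero_mem
      add_mem' := fun {r s} hr hs => by
        show (r + s) • e2 ∈ MQ D H e1 h11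
        rw [add_smul]; exact (MQ D H e1 h11).add_mem hr hs
      neg_mem' := fun {r} hr => by
        show (-r) • e2 ∈ MQ D H e1 h11
        rw [neg_smul]; exact (MQ D H e1 h11).neg_mem hr }
  have hAmem : ∀ r : K, r ∈ A ↔ r • e2 ∈ MQ D H e1 h11 := fun r => Iff.rfl
  -- multiplier
  have hAmul : ∀ r ∈ A, (κ₂ * κ0) * r ∈ A := by
    intro r hr
    rw [hAmem] at hr ⊢
    have h1 : r • X ∈ MQ D H e1 h11 := by
      have := MQ_stab D H h11 ht' ht'1 hr
      rw [ht'2] at this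
      have := (MQ D H e1 h11).sub_mem this hr
      rwa [add_sub_cancel_left] at this
    have h2 := MQ_pow D H h11 hU hU1 (n - 3) h1
    have hrX1 : h (r • X) e1 = 0 := by rw [h_smul_left, hX1, mul_zero]
    obtain ⟨ζ, hζ⟩ := hReg (r • X) hrX1
    rw [hζ, h_smul_left, hX2] at h2
    have h3 := (MQ D H e1 h11).sub_mem h2 (MQ_e1 D H h11 ζ)
    rw [add_sub_cancel_right] at h3
    have e : κ₂ * (r * κ0) = κ₂ * κ0 * r := by ring
    rwa [e] at h3
  -- descent of the seed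
  have hw0M : w0 ∈ MQ D H e1 h11 := ⟨hw01, c0, hw0c, ht0⟩
  have hA0 : ∃ a0 : K, a0 ≠ 0 ∧ a0 ∈ A := by
    have hex : ∃ j : ℕ, ∃ ζ : K, (T ^ j) *ᵥ w0 = ζ • e1 := ⟨n - 2, hTn2 w0 hw01⟩
    have hmin : ∀ {m : ℕ}, m < Nat.find hex → ¬ ∃ ζ : K, (T ^ m) *ᵥ w0 = ζ • e1 :=
      fun {m} hm => Nat.find_min hex hm
    have hspec := Nat.find_spec hex
    set j0 := Nat.find hex with hj0
    have hj0ne : j0 ≠ 0 := by
      intro h0
      rw [h0, pow_zero, Matrix.one_mulVec] at hspec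
      exact hw0 hspec
    obtain ⟨j, hj⟩ := Nat.exists_eq_succ_of_ne_zero hj0ne
    have hnot : ¬ ∃ ζ : K, (T ^ j) *ᵥ w0 = ζ • e1 := hmin (by rw [hj]; exact Nat.lt_succ_self j)
    set v := (T ^ j) *ᵥ w0 with hv
    have hvM : v ∈ MQ D H e1 h11 := MQ_pow D H h11 hU hU1 j hw0M
    have hv1 : h v e1 = 0 := MQ_perp D H h11 hvM
    have hTv : ∃ ζ : K, T *ᵥ v = ζ • e1 := by
      obtain ⟨ζ, hζ⟩ := hspec
      refine ⟨ζ, ?_⟩
      rw [hv, Matrix.mulVec_mulVec, ← pow_succ']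
      rw [hj] at hζ
      exact hζ
    obtain ⟨x, ζ', hxv⟩ := hKer v hv1 hTv
    refine ⟨x, ?_, ?_⟩
    · rintro rfl
      apply hnot
      refine ⟨ζ', ?_⟩
      rw [hxv, zero_smul, zero_add]
    · rw [hAmem]
      have := (MQ D H e1 h11).sub_mem hvM (MQ_e1 D H h11 ζ')
      rwa [hxv, add_sub_cancel_right] at this
  -- `A = K`
  have hAall : ∀ r : K, r ∈ A := by
    let R : Subring K :=
      { carrier := {r | ∀ s ∈ A, r * s ∈ A}
        mul_mem' := fun {r s} hr hs t ht => by rw [mul_assoc]; exact hr _ (hs _ ht)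
        one_mem' := fun t ht => by rw [one_mul]; exact ht
        add_mem' := fun {r s} hr hs t ht => by
          rw [add_mul]; exact A.add_mem (hr _ ht) (hs _ ht)
        zero_mem' := fun t _ => by rw [zero_mul]; exact A.zero_mem
        neg_mem' := fun {r} hr t ht => by rw [neg_mul]; exact A.neg_mem (hr _ ht) }
    have hR : R = ⊤ := by
      rw [eq_top_iff, ← hgen, Subring.closure_le]
      intro r hr
      rw [Set.mem_singleton_iff] at hr
      subst hr
      exact hAmul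
    obtain ⟨a0, ha0, ha0A⟩ := hA0
    intro r
    have hmem : r / a0 ∈ R := by rw [hR]; exact Subring.mem_top _
    have := hmem a0 ha0A
    rwa [div_mul_cancel₀ _ ha0] at this
  -- `X ∈ MK`
  have hXK : X ∈ MK D H e1 h11 := by
    intro r
    have hr : r • e2 ∈ MQ D H e1 h11 := (hAmem r).mp (hAall r)
    have := MQ_stab D H h11 ht' ht'1 hr
    rw [ht'2] at this
    have := (MQ D H e1 h11).sub_mem this hr
    rwa [add_sub_cancel_left] at this
  -- spanning
  have hspan : ∀ j : ℕ, j ≤ n - 2 → ∀ v : Fin n → K, h v e1 = 0 →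
      (∃ ζ : K, (T ^ j) *ᵥ v = ζ • e1) → v ∈ MK D H e1 h11 := by
    intro j
    induction j with
    | zero =>
      intro _ v _ hv
      obtain ⟨ζ, hζ⟩ := hv
      rw [pow_zero, Matrix.one_mulVec] at hζ
      rw [hζ]
      exact (MK D H e1 h11).smul_mem ζ (MK_e1 D H h11)
    | succ j ih =>
      intro hj v hv1 hv
      obtain ⟨ζ, hζ⟩ := hv
      set v1 := (T ^ j) *ᵥ v with hv1def
      have hv1p : h v1 e1 = 0 := sub_one_pow_perp hUP hU1 j hv1
      have hTv1 : ∃ ζ : K, T *ᵥ v1 = ζ • e1 := by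
        refine ⟨ζ, ?_⟩
        rw [hv1def, Matrix.mulVec_mulVec, ← pow_succ']
        exact hζ
      obtain ⟨x, ζ', hxv⟩ := hKer v1 hv1p hTv1
      -- the comparison vector
      set Y := (T ^ (n - 3 - j)) *ᵥ X with hY
      have hYK : Y ∈ MK D H e1 h11 := MK_pow D H h11 hU hU1 _ hXK
      have hY1 : h Y e1 = 0 := MQ_perp D H h11 (MK_le D H h11 hYK)
      obtain ⟨ζ'', hζ''⟩ := hReg X hX1
      have hTY : (T ^ j) *ᵥ Y = (κ₂ * κ0) • e2 + ζ'' • e1 := by
        rw [hY, Matrix.mulVec_mulVec, ← pow_add, show j + (n - 3 - j) = n - 3 by omega, hζ'', hX2]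
      set v' := v - (x / (κ₂ * κ0)) • Y with hv'
      have hv'1 : h v' e1 = 0 := by
        rw [hv', h_sub_left, h_smul_left, hv1, hY1]; ring
      have hv'T : ∃ ζ : K, (T ^ j) *ᵥ v' = ζ • e1 := by
        refine ⟨ζ' - x / (κ₂ * κ0) * ζ'', ?_⟩
        rw [hv', Matrix.mulVec_sub, Matrix.mulVec_smul, hTY, ← hv1def, hxv, smul_add, smul_smul,
          smul_smul, div_mul_cancel₀ _ hκ, sub_smul]
        abel
      have hv'K := ih (by omega) v' hv'1 hv'T
      have : v = v' + (x / (κ₂ * κ0)) • Y := by rw [hv']; abel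
      rw [this]
      exact (MK D H e1 h11).add_mem hv'K ((MK D H e1 h11).smul_mem _ hYK)
  have hMall : ∀ v : Fin n → K, h v e1 = 0 → v ∈ MQ D H e1 h11 := fun v hv =>
    MK_le D H h11 (hspan (n - 2) le_rfl v hv (hTn2 v hv))
  -- the centre
  have hcentre : ∀ c : K, D.σ c = -c → InH H (Sg (q := q) e1 0 c) := by
    intro c hcs
    obtain ⟨s, hs0, hs⟩ := exists_skew D
    have hfix : D.σ (c / s) = c / s := by
      rw [map_div₀, hcs, hs, neg_div_neg_eq]
    obtain ⟨t, ht⟩ := exists_trace D (c / s) hfix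
    set a' := s * t with ha'
    have hac : a' - D.σ a' = c := by
      rw [ha', map_mul, hs]
      have : s * t - -s * D.σ t = s * (t + D.σ t) := by ring
      rw [this, ht, mul_div_cancel₀ _ hs0]
    set r := a' / κ0 with hr
    have hrκ : r * κ0 = a' := div_mul_cancel₀ _ hκ0
    obtain ⟨hw11, c1, hc1, hm1⟩ := hMall (r • X) (by rw [h_smul_left, hX1, mul_zero])
    obtain ⟨-, c2, hc2, hm2⟩ := hMall e2 h21
    have e12 : Sg (q := q) e1 (r • X) c1 * Sg (q := q) e1 e2 c2 =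
        Sg (q := q) e1 (r • X + e2) (c1 + c2 - h e2 (r • X)) :=
      Sg_mul D e1 _ _ c1 c2 h11 hw11 h21
    have e21 : Sg (q := q) e1 e2 c2 * Sg (q := q) e1 (r • X) c1 =
        Sg (q := q) e1 (r • X + e2) (c2 + c1 - h (r • X) e2) := by
      rw [Sg_mul D e1 _ _ c2 c1 h11 h21 hw11, add_comm e2]
    have hsum1 : h (r • X + e2) e1 = 0 := by rw [h_add_left, hw11, h21, add_zero]
    have e0 : Sg (q := q) e1 0 c * (Sg (q := q) e1 e2 c2 * Sg (q := q) e1 (r • X) c1) =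
        Sg (q := q) e1 (r • X) c1 * Sg (q := q) e1 e2 c2 := by
      rw [e12, e21, Sg_mul D e1 _ _ _ _ h11 (h_zero_left _) hsum1, zero_add, h_zero_right D]
      congr 1
      have e3 : h e2 (r • X) = D.σ (r * κ0) := by
        rw [← h_conj D e2 (r • X), h_smul_left, hX2]
      rw [h_smul_left, hX2, e3, hrκ, ← hac]
      ring
    -- the inverse of `g2 g1`
    have hprod : InH H (Sg (q := q) e1 e2 c2 * Sg (q := q) e1 (r • X) c1) := InH_mul hm2 hm1
    obtain ⟨g, hg, hgM⟩ := hprod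
    have hginv : toM K n q g * toM K n q g⁻¹ = 1 := by
      rw [← map_mul, mul_inv_cancel, map_one]
    have : Sg (q := q) e1 0 c =
        (Sg (q := q) e1 (r • X) c1 * Sg (q := q) e1 e2 c2) * toM K n q g⁻¹ := by
      rw [← e0, ← hgM, Matrix.mul_assoc, hginv, Matrix.mul_one]
    rw [this]
    exact InH_mul (InH_mul hm1 hm2) ⟨g⁻¹, H.inv_mem hg, rfl⟩
  -- all Siegel elements with centre `e1`
  have hQ : ∀ (w : Fin n → K) (c : K), h w e1 = 0 → c + D.σ c + h w w = 0 →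
      InH H (Sg (q := q) e1 w c) := by
    intro w c hw1 hc
    obtain ⟨-, c', hc', hm'⟩ := hMall w hw1
    have hskew : D.σ (c - c') = -(c - c') := by
      rw [map_sub]
      linear_combination hc - hc'
    have := InH_mul (hcentre _ hskew) hm'
    rw [Sg_mul D e1 _ _ _ _ h11 (h_zero_left _) hw1, zero_add, h_zero_right D] at this
    have e : c - c' + c' - 0 = c := by ring
    rwa [e] at this
  -- the final step
  have hV : InH H (Z * Z) := InH_mul hZ hZ
  have hV1 : h ((Z * Z) *ᵥ e1) e1 ≠ 0 := by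
    rw [← Matrix.mulVec_mulVec, hZadj, hZ1, h_smul_right D, ← hy, hy2]
    exact mul_ne_zero (σ_ne_zero D hν1) hη0
  exact crit_top_n D hK hn h32 H h11 hQ hV hV1

end Cfsg.Agent.Helper4.SUn
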