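import Mathlib
import Cfsg.Agent.Helper4.SUnCritB

set_option autoImplicit false

/-! S2282: the element `U` of the abstract criterion is a regular unipotent element. -/

namespace Cfsg.Agent.Helper4.SUn

open Matrix Cfsg.Agent.S2644 Cfsg.Agent.Helper2.SUGen

variable {K : Type*} [Field K] {q n : ℕ}

local notation "h" => Cfsg.hermForm n K q

theorem reg_of_data (D : Frob K q) (hn : 3 ≤ n) {e1 e2 : Fin n → K} (he1 : e1 ≠ 0)
    {U : Matrix (Fin n) (Fin n) K} (hUP : Pres (q := q) U) (hU1 : U *ᵥ e1 = e1) {a : K}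
    (ha : a ≠ 0) (hU2 : U *ᵥ e2 = e2 + a • e1) {κ₂ : K} (hκ₂ : κ₂ ≠ 0)
    (hReg : ∀ v : Fin n → K, h v e1 = 0 →
      ∃ ζ : K, ((U - 1) ^ (n - 3)) *ᵥ v = (κ₂ * h v e2) • e2 + ζ • e1) :
    IsNilpotent (U - 1) ∧ (U - 1) ^ (n - 1) ≠ 0 := by
  set T := U - 1 with hT
  have hT1 : T *ᵥ e1 = 0 := by
    rw [hT, Matrix.sub_mulVec, Matrix.one_mulVec, hU1, sub_self]
  have hT2 : T *ᵥ e2 = a • e1 := by
    rw [hT, Matrix.sub_mulVec, Matrix.one_mulVec, hU2, add_sub_cancel_left]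
  have hn2 : n - 2 = (n - 3) + 1 := by omega
  have hTn2 : ∀ v : Fin n → K, h v e1 = 0 →
      (T ^ (n - 2)) *ᵥ v = (κ₂ * h v e2 * a) • e1 := by
    intro v hv
    obtain ⟨ζ, hζ⟩ := hReg v hv
    rw [hn2, pow_succ', ← Matrix.mulVec_mulVec, hζ, Matrix.mulVec_add, Matrix.mulVec_smul,
      Matrix.mulVec_smul, hT1, hT2, smul_zero, add_zero, smul_smul]
  have hTperp : ∀ v : Fin n → K, h (T *ᵥ v) e1 = 0 := by
    intro v
    rw [hT, Matrix.sub_mulVec, Matrix.one_mulVec, h_sub_left]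
    have := hUP v e1
    rw [hU1] at this
    rw [this, sub_self]
  have hn1 : n - 1 = (n - 2) + 1 := by omega
  have hTn1 : ∀ v : Fin n → K, (T ^ (n - 1)) *ᵥ v = (κ₂ * h (T *ᵥ v) e2 * a) • e1 := by
    intro v
    rw [hn1, pow_succ, ← Matrix.mulVec_mulVec, hTn2 _ (hTperp v)]
  constructor
  · refine ⟨(n - 1) + 1, ?_⟩
    apply mat_ext
    intro v
    rw [pow_succ', ← Matrix.mulVec_mulVec, hTn1, Matrix.mulVec_smul, hT1, smul_zero,
      Matrix.zero_mulVec]
  · intro h0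
    -- a vector not orthogonal to `e1`
    have hex : ∃ f : Fin n → K, h f e1 ≠ 0 := by
      by_contra hcon
      push Not at hcon
      apply he1
      apply h_nondeg D
      intro y
      exact h_symm_zero D (hcon y)
    obtain ⟨f, hf⟩ := hex
    have e2' : U *ᵥ (e2 - a • e1) = e2 := by
      rw [Matrix.mulVec_sub, Matrix.mulVec_smul, hU1, hU2, add_sub_cancel_right]
    have hTf : h (T *ᵥ f) e2 = -(D.σ a * h f e1) := by
      rw [hT, Matrix.sub_mulVec, Matrix.one_mulVec, h_sub_left]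
      have := hUP f (e2 - a • e1)
      rw [e2'] at this
      rw [this, h_sub_right D, h_smul_right D]
      ring
    have := hTn1 f
    rw [h0, Matrix.zero_mulVec, hTf] at this
    have hne : κ₂ * -(D.σ a * h f e1) * a ≠ 0 :=
      mul_ne_zero (mul_ne_zero hκ₂ (neg_ne_zero.mpr (mul_ne_zero (σ_ne_zero D ha) hf))) ha
    rcases smul_eq_zero.mp this.symm with h1 | h1
    · exact hne h1
    · exact he1 h1

end Cfsg.Agent.Helper4.SUn
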