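import Mathlib
import Cfsg.Agent.Helper4.SUnModel
import Cfsg.Agent.Helper4.SUnCritC

set_option autoImplicit false

/-! S2282: transport from the coordinate model (form `hJ`) to the standard Hermitian space along
an isometry `P`. -/

namespace Cfsg.Agent.Helper4.SUn

open Matrix Cfsg.Agent.S2644 Cfsg.Agent.Helper2.SUGen

variable {K : Type*} [Field K] {q : ℕ} {k : ℕ}

/-- transport of a model matrix -/
def tc (P : Matrix.GeneralLinearGroup (Fin (2 * k + 5)) K)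
    (M : Matrix (Fin (2 * k + 5)) (Fin (2 * k + 5)) K) :
    Matrix (Fin (2 * k + 5)) (Fin (2 * k + 5)) K :=
  ((P⁻¹ : Matrix.GeneralLinearGroup (Fin (2 * k + 5)) K) :
    Matrix (Fin (2 * k + 5)) (Fin (2 * k + 5)) K) * M *
    (P : Matrix (Fin (2 * k + 5)) (Fin (2 * k + 5)) K)

/-- transport of a model vector -/
def tv (P : Matrix.GeneralLinearGroup (Fin (2 * k + 5)) K) (v : Fin (2 * k + 5) → K) :
    Fin (2 * k + 5) → K :=
  ((P⁻¹ : Matrix.GeneralLinearGroup (Fin (2 * k + 5)) K) :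
    Matrix (Fin (2 * k + 5)) (Fin (2 * k + 5)) K) *ᵥ v

variable (P : Matrix.GeneralLinearGroup (Fin (2 * k + 5)) K)

theorem P_mul_inv : (P : Matrix (Fin (2 * k + 5)) (Fin (2 * k + 5)) K) *
    ((P⁻¹ : Matrix.GeneralLinearGroup (Fin (2 * k + 5)) K) :
      Matrix (Fin (2 * k + 5)) (Fin (2 * k + 5)) K) = 1 := by
  rw [← Units.val_mul, mul_inv_cancel, Units.val_one]

theorem P_inv_mul : ((P⁻¹ : Matrix.GeneralLinearGroup (Fin (2 * k + 5)) K) :
      Matrix (Fin (2 * k + 5)) (Fin (2 * k + 5)) K) *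
    (P : Matrix (Fin (2 * k + 5)) (Fin (2 * k + 5)) K) = 1 := by
  rw [← Units.val_mul, inv_mul_cancel, Units.val_one]

theorem tc_mul (M M' : Matrix (Fin (2 * k + 5)) (Fin (2 * k + 5)) K) :
    tc P (M * M') = tc P M * tc P M' := by
  unfold tc
  calc _ = (↑P⁻¹ : Matrix (Fin (2 * k + 5)) (Fin (2 * k + 5)) K) * M * (1 * M') * ↑P := by
          rw [Matrix.one_mul]; simp only [Matrix.mul_assoc]
    _ = _ := by rw [← P_mul_inv P]; simp only [Matrix.mul_assoc]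

theorem tc_one : tc P (1 : Matrix (Fin (2 * k + 5)) (Fin (2 * k + 5)) K) = 1 := by
  unfold tc
  rw [Matrix.mul_one, P_inv_mul]

theorem tc_sub (M M' : Matrix (Fin (2 * k + 5)) (Fin (2 * k + 5)) K) :
    tc P (M - M') = tc P M - tc P M' := by
  unfold tc
  rw [Matrix.mul_sub, Matrix.sub_mul]

theorem tc_pow (M : Matrix (Fin (2 * k + 5)) (Fin (2 * k + 5)) K) (j : ℕ) :
    tc P (M ^ j) = tc P M ^ j := by
  induction j with
  | zero => rw [pow_zero, pow_zero, tc_one]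
  | succ j ih => rw [pow_succ, pow_succ, tc_mul, ih]

theorem tc_mulVec_tv (M : Matrix (Fin (2 * k + 5)) (Fin (2 * k + 5)) K)
    (v : Fin (2 * k + 5) → K) : tc P M *ᵥ tv P v = tv P (M *ᵥ v) := by
  unfold tc tv
  rw [Matrix.mulVec_mulVec, Matrix.mulVec_mulVec, Matrix.mul_assoc, Matrix.mul_assoc, P_mul_inv,
    Matrix.mul_one]

theorem tv_add (v w : Fin (2 * k + 5) → K) : tv P (v + w) = tv P v + tv P w :=
  Matrix.mulVec_add _ _ _

theorem tv_sub (v w : Fin (2 * k + 5) → K) : tv P (v - w) = tv P v - tv P w :=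
  Matrix.mulVec_sub _ _ _

theorem tv_smul (c : K) (v : Fin (2 * k + 5) → K) : tv P (c • v) = c • tv P v :=
  Matrix.mulVec_smul _ _ _

theorem tv_neg (v : Fin (2 * k + 5) → K) : tv P (-v) = -tv P v :=
  Matrix.mulVec_neg _ _

theorem tv_P (v : Fin (2 * k + 5) → K) :
    tv P ((P : Matrix (Fin (2 * k + 5)) (Fin (2 * k + 5)) K) *ᵥ v) = v := by
  unfold tv
  rw [Matrix.mulVec_mulVec, P_inv_mul, Matrix.one_mulVec]

theorem P_tv (v : Fin (2 * k + 5) → K) :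
    (P : Matrix (Fin (2 * k + 5)) (Fin (2 * k + 5)) K) *ᵥ tv P v = v := by
  unfold tv
  rw [Matrix.mulVec_mulVec, P_mul_inv, Matrix.one_mulVec]

theorem tc_det (M : Matrix (Fin (2 * k + 5)) (Fin (2 * k + 5)) K) : (tc P M).det = M.det :=
  Matrix.det_units_conj' P M

variable {σ : K →+* K}

theorem herm_tv
    (hP : ∀ x y : Fin (2 * k + 5) → K,
      hJ σ k ((P : Matrix (Fin (2 * k + 5)) (Fin (2 * k + 5)) K) *ᵥ x)
        ((P : Matrix (Fin (2 * k + 5)) (Fin (2 * k + 5)) K) *ᵥ y) =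
      Cfsg.hermForm (2 * k + 5) K q x y) (x y : Fin (2 * k + 5) → K) :
    Cfsg.hermForm (2 * k + 5) K q (tv P x) (tv P y) = hJ σ k x y := by
  rw [← hP, P_tv, P_tv]

theorem herm_eq_hJ
    (hP : ∀ x y : Fin (2 * k + 5) → K,
      hJ σ k ((P : Matrix (Fin (2 * k + 5)) (Fin (2 * k + 5)) K) *ᵥ x)
        ((P : Matrix (Fin (2 * k + 5)) (Fin (2 * k + 5)) K) *ᵥ y) =
      Cfsg.hermForm (2 * k + 5) K q x y) (x y : Fin (2 * k + 5) → K) :
    Cfsg.hermForm (2 * k + 5) K q x y =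
      hJ σ k ((P : Matrix (Fin (2 * k + 5)) (Fin (2 * k + 5)) K) *ᵥ x)
        ((P : Matrix (Fin (2 * k + 5)) (Fin (2 * k + 5)) K) *ᵥ y) := (hP x y).symm

theorem tc_pres
    (hP : ∀ x y : Fin (2 * k + 5) → K,
      hJ σ k ((P : Matrix (Fin (2 * k + 5)) (Fin (2 * k + 5)) K) *ᵥ x)
        ((P : Matrix (Fin (2 * k + 5)) (Fin (2 * k + 5)) K) *ᵥ y) =
      Cfsg.hermForm (2 * k + 5) K q x y)
    {M : Matrix (Fin (2 * k + 5)) (Fin (2 * k + 5)) K} (hM : PresJ σ k M) :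
    Pres (q := q) (tc P M) := by
  intro x y
  have hx : x = tv P ((P : Matrix (Fin (2 * k + 5)) (Fin (2 * k + 5)) K) *ᵥ x) := (tv_P P x).symm
  have hy : y = tv P ((P : Matrix (Fin (2 * k + 5)) (Fin (2 * k + 5)) K) *ᵥ y) := (tv_P P y).symm
  conv_lhs => rw [hx, hy]
  rw [tc_mulVec_tv, tc_mulVec_tv, herm_tv P hP, hM, hP]

end Cfsg.Agent.Helper4.SUn
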