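import Mathlib
import Cfsg.Agent.Helper4.SUnTrans
import Cfsg.Agent.Helper13.SUnZINV
import Cfsg.Agent.Helper7.SUnP1
import Cfsg.Agent.Helper7.SUnP6
import Cfsg.Agent.Helper12.SUnP5
import Cfsg.Agent.Helper25.SUnUUVEC

set_option autoImplicit false

/-! S2282: from the coordinate model to three conjugate regular unipotents generating
`SU_(2k+5)(q)`. -/

namespace Cfsg.Agent.Helper4.SUn

open Matrix Cfsg.Agent.S2644 Cfsg.Agent.Helper2.SUGen Cfsg.Agent.Helper13.SUn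
  Cfsg.Agent.Helper7.SUn Cfsg.Agent.Helper12.SUn Cfsg.Agent.Helper25.SUn

variable {K : Type*} [Field K] {q : ℕ}

theorem toM_inv_eq {n : ℕ} (g : ↥(Cfsg.SU n K q)) {M ginv : Matrix (Fin n) (Fin n) K}
    (hg : toM K n q g = M) (h1 : M * ginv = 1) : toM K n q g⁻¹ = ginv := by
  have h2 : toM K n q g⁻¹ * toM K n q g = 1 := by
    rw [← map_mul, inv_mul_cancel, map_one]
  calc toM K n q g⁻¹ = toM K n q g⁻¹ * (M * ginv) := by rw [h1, Matrix.mul_one]
    _ = ginv := by rw [← Matrix.mul_assoc, ← hg, h2, Matrix.one_mul]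

theorem eps_apply (k : ℕ) (i j : Fin (2 * k + 5)) :
    (ε k i : Fin (2 * k + 5) → K) j = if j = i then 1 else 0 := by
  unfold ε
  rw [Pi.single_apply]

theorem rev_i0 (k : ℕ) : (i0 k).rev = iL k := by
  apply Fin.ext; simp [Fin.rev]

theorem rev_i1 (k : ℕ) : (i1 k).rev = iB k := by
  apply Fin.ext; simp [Fin.rev]

theorem rev_iM (k : ℕ) : (iM k).rev = iM k := by
  apply Fin.ext; simp [Fin.rev]; omega

theorem model_main [Fintype K] (D : Frob K q) (hK : Fintype.card K = q ^ 2) (k : ℕ)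
    (P : Matrix.GeneralLinearGroup (Fin (2 * k + 5)) K)
    (hP : ∀ x y : Fin (2 * k + 5) → K,
      hJ D.σ k ((P : Matrix (Fin (2 * k + 5)) (Fin (2 * k + 5)) K) *ᵥ x)
        ((P : Matrix (Fin (2 * k + 5)) (Fin (2 * k + 5)) K) *ᵥ y) =
      Cfsg.hermForm (2 * k + 5) K q x y)
    {μ a β : K} (hμ : μ + D.σ μ = 1) (ha : a ≠ 0) (hβ : β ≠ 0)
    {η ω c0 : K} (hη : η = -(a * (D.σ μ) ^ (2 * k + 1))) (hω : ω = a * β * (D.σ μ) ^ k)
    (hc0 : c0 = -(β * D.σ β * μ * (-1) ^ (k + 2)))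
    (hκ : -1 * (D.σ η * ω - D.σ ω * η + c0 * D.σ η * η) ≠ 0)
    (hgen : Subring.closure {-1 * (D.σ η * ω - D.σ ω * η + c0 * D.σ η * η)} = ⊤) :
    ∃ u g h' : ↥(Cfsg.SU (2 * k + 5) K q),
      (IsNilpotent (toM K (2 * k + 5) q u - 1) ∧
        (toM K (2 * k + 5) q u - 1) ^ (2 * k + 5 - 1) ≠ 0) ∧
      Subgroup.closure ({u, g * u * g⁻¹, h' * u * h'⁻¹} : Set ↥(Cfsg.SU (2 * k + 5) K q)) = ⊤ := by
  classical
  set σ := D.σ with hσ
  have hσ2 : ∀ x, σ (σ x) = x := D.invol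
  -- standard objects
  set e1 := tv P (ε k (i0 k) : Fin (2 * k + 5) → K) with he1
  set e2 := tv P (ε k (i1 k) : Fin (2 * k + 5) → K) with he2
  set U := tc P (UU σ k μ a) with hU
  set Kks := tc P (Kk σ k a) with hKks
  set Kkis := tc P (Kkinv σ k a) with hKkis
  set w0 := tv P (β • (ε k (iM k) : Fin (2 * k + 5) → K)) with hw0
  set wgs := tv P (wg σ k μ β) with hwgs
  -- coordinates of the form
  have hJe0 : ∀ v : Fin (2 * k + 5) → K, hJ σ k v (ε k (i0 k)) = v (iL k) := by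
    intro v
    rw [hJ_eps_right, rev_i0, iL_val, Even.neg_one_pow ⟨k + 2, by ring⟩, one_mul]
  have hJe1 : ∀ v : Fin (2 * k + 5) → K, hJ σ k v (ε k (i1 k)) = -v (iB k) := by
    intro v
    rw [hJ_eps_right, rev_i1, iB_val, Odd.neg_one_pow ⟨k + 1, by ring⟩, neg_one_mul]
  have hherm : ∀ x y : Fin (2 * k + 5) → K,
      Cfsg.hermForm (2 * k + 5) K q (tv P x) (tv P y) = hJ σ k x y := herm_tv P hP
  have h11 : Cfsg.hermForm (2 * k + 5) K q e1 e1 = 0 := by
    rw [he1, hherm, hJe0, eps_apply, if_neg]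
    intro h; have := congrArg Fin.val h; simp at this
  have h21 : Cfsg.hermForm (2 * k + 5) K q e2 e1 = 0 := by
    rw [he1, he2, hherm, hJe0, eps_apply, if_neg]
    intro h; have := congrArg Fin.val h; simp at this
  -- the matrices are isometries of determinant one
  have hUUP : PresJ σ k (UU σ k μ a) := by
    intro x y
    unfold UU
    rw [← Matrix.mulVec_mulVec, ← Matrix.mulVec_mulVec, X1_presJ σ k hσ2 a, Up_presJ σ k hσ2 hμ]
  have hUP : Pres (q := q) U := tc_pres P hP hUUP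
  have hUdet : U.det = 1 := by
    rw [hU, tc_det]
    unfold UU
    rw [Matrix.det_mul, X1_det, Up_det, mul_one]
  have hσa : (σ a)⁻¹ = σ a⁻¹ := (map_inv₀ σ a).symm
  have hKkP : PresJ σ k (Kk σ k a) := by
    unfold Kk
    rw [hσa]
    exact KkG_presJ σ k hσ2 a⁻¹
  have hKksP : Pres (q := q) Kks := tc_pres P hP hKkP
  have hKksdet : Kks.det = 1 := by
    rw [hKks, tc_det]
    exact KkG_det k _ _
  have hKK : Kks * Kkis = 1 := by
    rw [hKks, hKkis, ← tc_mul]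
    unfold Kk Kkinv
    rw [KkG_mul, tc_one]
  -- the seed
  have hwg1 : Cfsg.hermForm (2 * k + 5) K q wgs e1 = 0 := by
    rw [hwgs, he1, hherm, hJe0]
    unfold wg
    simp only [Pi.smul_apply, Pi.sub_apply, eps_apply, smul_eq_mul]
    rw [if_neg, if_neg]
    · ring
    · intro h; have := congrArg Fin.val h; simp at this; omega
    · intro h; have := congrArg Fin.val h; simp at this; omega
  set cg := -(μ * Cfsg.hermForm (2 * k + 5) K q wgs wgs) with hcg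
  have hcgc : cg + σ cg + Cfsg.hermForm (2 * k + 5) K q wgs wgs = 0 := by
    rw [hcg, map_neg, map_mul, h_self_fix D]
    linear_combination (-(Cfsg.hermForm (2 * k + 5) K q wgs wgs)) * hμ
  set G := Sg (q := q) e1 wgs cg with hG
  have hGP : Pres (q := q) G := Sg_pres D _ _ _ h11 hwg1 hcgc
  have hGdet : G.det = 1 := Sg_det D _ _ _ h11 hwg1
  have hGinv := Sg_inv D e1 wgs cg h11 hwg1 hcgc
  -- the group elements
  set u : ↥(Cfsg.SU (2 * k + 5) K q) := mkSU U hUdet hUP with hu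
  set g : ↥(Cfsg.SU (2 * k + 5) K q) := mkSU G hGdet hGP with hg
  set kk : ↥(Cfsg.SU (2 * k + 5) K q) := mkSU Kks hKksdet hKksP with hkk
  have hUe1 : U *ᵥ e1 = e1 := by rw [hU, he1, tc_mulVec_tv, UU_eps_i0]
  have hUe2 : U *ᵥ e2 = e2 + a • e1 := by
    rw [hU, he2, he1, tc_mulVec_tv, UU_eps_i1, tv_add, tv_smul]
  have hn3 : 2 * k + 5 - 3 = 2 * k + 2 := by omega
  have hReg : ∀ v : Fin (2 * k + 5) → K, Cfsg.hermForm (2 * k + 5) K q v e1 = 0 →
      ∃ ζ : K, ((U - 1) ^ (2 * k + 5 - 3)) *ᵥ v =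
        (-1 * Cfsg.hermForm (2 * k + 5) K q v e2) • e2 + ζ • e1 := by
    intro v hv
    set v' := (P : Matrix (Fin (2 * k + 5)) (Fin (2 * k + 5)) K) *ᵥ v with hv'
    have hvv : v = tv P v' := (tv_P P v).symm
    have hvL : v' (iL k) = 0 := by
      rw [hvv, he1, hherm, hJe0] at hv
      exact hv
    obtain ⟨ζ, hζ⟩ := UU_reg σ k hμ a v' hvL
    refine ⟨ζ, ?_⟩
    have e : (U - 1) ^ (2 * k + 5 - 3) = tc P ((UU σ k μ a - 1) ^ (2 * k + 2)) := by
      rw [hn3, tc_pow, tc_sub, tc_one]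
    rw [e]
    conv_lhs => rw [hvv]
    rw [tc_mulVec_tv, hζ, tv_add, tv_smul, tv_smul]
    conv_rhs => rw [hvv]
    rw [he2, hherm, hJe1]
    congr 2
    ring
  have hKer : ∀ v : Fin (2 * k + 5) → K, Cfsg.hermForm (2 * k + 5) K q v e1 = 0 →
      (∃ ζ : K, (U - 1) *ᵥ v = ζ • e1) → ∃ x ζ' : K, v = x • e2 + ζ' • e1 := by
    intro v hv hker
    set v' := (P : Matrix (Fin (2 * k + 5)) (Fin (2 * k + 5)) K) *ᵥ v with hv'
    have hvv : v = tv P v' := (tv_P P v).symm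
    have hvL : v' (iL k) = 0 := by
      rw [hvv, he1, hherm, hJe0] at hv
      exact hv
    obtain ⟨ζ, hζ⟩ := hker
    have hker' : ∃ ζ : K, (UU σ k μ a - 1) *ᵥ v' = ζ • ε k (i0 k) := by
      refine ⟨ζ, ?_⟩
      have e : U - 1 = tc P (UU σ k μ a - 1) := by rw [tc_sub, tc_one]
      rw [e, hvv, tc_mulVec_tv, he1, ← tv_smul] at hζ
      have := congrArg (fun z => (P : Matrix (Fin (2 * k + 5)) (Fin (2 * k + 5)) K) *ᵥ z) hζ
      simp only [P_tv] at this
      exact this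
    obtain ⟨x, ζ', hx⟩ := UU_ker σ k hμ a v' hvL hker'
    refine ⟨x, ζ', ?_⟩
    rw [hvv, hx, tv_add, tv_smul, tv_smul]
  -- the seed element
  have hUwg : U *ᵥ wgs = wgs - w0 := by
    rw [hU, hwgs, hw0, tc_mulVec_tv, UU_seed σ k hμ, tv_sub]
  have hw01 : Cfsg.hermForm (2 * k + 5) K q w0 e1 = 0 := by
    rw [hw0, he1, hherm, hJe0]
    simp only [Pi.smul_apply, eps_apply, smul_eq_mul]
    rw [if_neg, mul_zero]
    intro h; have := congrArg Fin.val h; simp at this; omega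
  have hw02 : Cfsg.hermForm (2 * k + 5) K q w0 e2 = 0 := by
    rw [hw0, he2, hherm, hJe1]
    simp only [Pi.smul_apply, eps_apply, smul_eq_mul]
    rw [if_neg, mul_zero, neg_zero]
    intro h; have := congrArg Fin.val h; simp at this; omega
  have hθ : hJ σ k (ε k (iM k)) (ε k (iM k)) = (-1 : K) ^ (k + 2) := by
    rw [hJ_eps_right, rev_iM, iM_val, eps_apply, if_pos rfl, mul_one]
  have hMM1 : hJ σ k (ε k (iM k)) (ε k (iM1 k)) = (0 : K) := by
    rw [hJ_eps_left, iM_val, rev_iM, eps_apply, if_neg, map_zero, mul_zero]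
    intro h; have := congrArg Fin.val h; simp at this
  have hθσ : σ ((-1 : K) ^ (k + 2)) = (-1) ^ (k + 2) := by
    rw [map_pow, map_neg, map_one]
  have hJ_sub_right : ∀ x y y' : Fin (2 * k + 5) → K,
      hJ σ k x (y - y') = hJ σ k x y - hJ σ k x y' := by
    intro x y y'
    have : y - y' = y + (-1 : K) • y' := by rw [neg_one_smul, sub_eq_add_neg]
    rw [this, hJ_add_right, hJ_smul_right, map_neg, map_one]
    ring
  have hw0wg : Cfsg.hermForm (2 * k + 5) K q w0 wgs = β * σ β * μ * (-1) ^ (k + 2) := by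
    rw [hw0, hwgs, hherm]
    unfold wg
    rw [hJ_smul_left, hJ_smul_right, hJ_sub_right, hJ_smul_right, hMM1, hθ, map_neg, hσ2]
    ring
  have hw0w0 : Cfsg.hermForm (2 * k + 5) K q w0 w0 = β * σ β * (-1) ^ (k + 2) := by
    rw [hw0, hherm, hJ_smul_left, hJ_smul_right, hθ]
    ring
  have hw0c : c0 + σ c0 + Cfsg.hermForm (2 * k + 5) K q w0 w0 = 0 := by
    rw [hw0w0, hc0, map_neg, map_mul, map_mul, map_mul, hσ2, hθσ]
    linear_combination (-(β * σ β * (-1) ^ (k + 2))) * hμ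
  have hPe1 : (P : Matrix (Fin (2 * k + 5)) (Fin (2 * k + 5)) K) *ᵥ e1 = ε k (i0 k) := by
    rw [he1, P_tv]
  have hw0ne : ¬ ∃ ζ : K, w0 = ζ • e1 := by
    rintro ⟨ζ, hζ⟩
    have h1 := congrArg (fun z => (P : Matrix (Fin (2 * k + 5)) (Fin (2 * k + 5)) K) *ᵥ z) hζ
    simp only [Matrix.mulVec_smul, hPe1] at h1
    rw [hw0, P_tv] at h1
    have h2 := congrFun h1 (iM k)
    simp only [Pi.smul_apply, eps_apply, smul_eq_mul, if_true] at h2
    rw [if_neg, mul_one, mul_zero] at h2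
    · exact hβ h2
    · intro h; have := congrArg Fin.val h; simp at this
  have he1ne : e1 ≠ 0 := by
    intro h0
    have h1 := hPe1
    rw [h0, Matrix.mulVec_zero] at h1
    have h2 := congrFun h1 (i0 k)
    rw [eps_apply, if_pos rfl] at h2
    exact zero_ne_one h2
  -- the subgroup
  set H := Subgroup.closure
    ({u, g * u * g⁻¹, kk * u * kk⁻¹} : Set ↥(Cfsg.SU (2 * k + 5) K q)) with hH
  have huH : u ∈ H := Subgroup.subset_closure (by simp)
  have hguH : g * u * g⁻¹ ∈ H := Subgroup.subset_closure (by simp)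
  have hkuH : kk * u * kk⁻¹ ∈ H := Subgroup.subset_closure (by simp)
  have hUH : InH H U := ⟨u, huH, toM_mkSU U hUdet hUP⟩
  have hgM : toM K (2 * k + 5) q g = G := toM_mkSU G hGdet hGP
  have huM : toM K (2 * k + 5) q u = U := toM_mkSU U hUdet hUP
  have hkM : toM K (2 * k + 5) q kk = Kks := toM_mkSU Kks hKksdet hKksP
  have hginvM : toM K (2 * k + 5) q g⁻¹ = Sg (q := q) e1 (-wgs) (σ cg) :=
    toM_inv_eq g hgM hGinv.1
  have hkinvM : toM K (2 * k + 5) q kk⁻¹ = Kkis := toM_inv_eq kk hkM hKK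
  have huu : U * toM K (2 * k + 5) q u⁻¹ = 1 := by
    rw [← huM, ← map_mul, mul_inv_cancel, map_one]
  have ht0 : InH H (Sg (q := q) e1 w0 c0) := by
    refine ⟨g * u * g⁻¹ * u⁻¹, H.mul_mem hguH (H.inv_mem huH), ?_⟩
    rw [map_mul, map_mul, map_mul, hgM, huM, hginvM]
    have e1' : U * Sg (q := q) e1 (-wgs) (σ cg) =
        Sg (q := q) e1 (w0 - wgs) (σ cg) * U := by
      rw [Sg_conj D U hUP, hUe1, Matrix.mulVec_neg, hUwg, neg_sub]
    have hperp : Cfsg.hermForm (2 * k + 5) K q (w0 - wgs) e1 = 0 := by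
      rw [h_sub_left, hw01, hwg1, sub_zero]
    calc G * U * Sg (q := q) e1 (-wgs) (σ cg) * toM K (2 * k + 5) q u⁻¹
        = G * (U * Sg (q := q) e1 (-wgs) (σ cg)) * toM K (2 * k + 5) q u⁻¹ := by
          simp only [Matrix.mul_assoc]
      _ = G * Sg (q := q) e1 (w0 - wgs) (σ cg) * (U * toM K (2 * k + 5) q u⁻¹) := by
          rw [e1']; simp only [Matrix.mul_assoc]
      _ = G * Sg (q := q) e1 (w0 - wgs) (σ cg) := by rw [huu, Matrix.mul_one]
      _ = Sg (q := q) e1 w0 c0 := by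
          rw [hG, Sg_mul D e1 _ _ _ _ h11 hwg1 hperp]
          congr 1
          · abel
          · rw [h_sub_left, hw0wg, hc0]
            linear_combination hcgc
  set Z := tc P (ZZ σ k μ a) with hZdef
  set Zi := tc P (Zinv σ k μ a) with hZidef
  have hZH : InH H Z := by
    refine ⟨kk * u * kk⁻¹, hkuH, ?_⟩
    rw [map_mul, map_mul, hkM, huM, hkinvM, hZdef]
    unfold ZZ
    rw [tc_mul, tc_mul]
  have hZZ : Z * Zi = 1 := by
    rw [hZdef, hZidef, ← tc_mul, ZZ_mul_Zinv σ k μ ha, tc_one]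
  have hZ1 : Zi *ᵥ e1 = (-(σ a)⁻¹) • e2 := by
    rw [hZidef, he1, tc_mulVec_tv, Zinv_eps_i0 σ k μ ha, tv_smul]
  have hηh : Cfsg.hermForm (2 * k + 5) K q e1 (Zi *ᵥ e2) = η := by
    rw [hZidef, he2, tc_mulVec_tv, he1, hherm, Zinv_eta σ k hσ2 hμ ha, hη]
  have hωh : Cfsg.hermForm (2 * k + 5) K q w0 (Zi *ᵥ e2) = ω := by
    rw [hZidef, he2, tc_mulVec_tv, hw0, hherm, Zinv_omega σ k hσ2 hμ ha, hω]
  have hν1 : -(σ a)⁻¹ ≠ 0 := neg_ne_zero.mpr (inv_ne_zero (σ_ne_zero D ha))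
  have h32 : ¬ (2 * k + 5 = 3 ∧ q = 2) := by omega
  have htop : H = ⊤ :=
    main_crit D hK (by omega) h32 H h11 h21 hUH hUe1 hUe2 hReg hKer hw01 hw02 hw0c hw0ne ht0
      hZH hZZ hZ1 hηh hωh hκ hν1 hgen
  refine ⟨u, g, kk, ?_, htop⟩
  rw [huM]
  exact reg_of_data D (by omega) he1ne hUP hUe1 ha hUe2 (by norm_num) hReg

end Cfsg.Agent.Helper4.SUn
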