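import Mathlib
import Cfsg.Agent.Helper4.SUnMain
import Cfsg.Agent.Helper4.SU3Asm
import Cfsg.Agent.Helper12.RUNB
import Cfsg.Agent.Helper28.HermStd

set_option autoImplicit false

/-! S2282: `SU_n(q)`, `n ≥ 3` odd, `(n, q) ≠ (3, 2)`, is generated by three conjugate regular
unipotent elements. -/

namespace Cfsg.Agent.Helper4.SUn

open Matrix Cfsg.Agent.S2644 Cfsg.Agent.Helper2.SUGen Cfsg.Agent.Helper13.SUn
  Cfsg.Agent.Helper7.SUn Cfsg.Agent.Helper12.SUn Cfsg.Agent.Helper25.SUn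

variable {K : Type*} [Field K] {q : ℕ}

/-- a ring generator with non-zero trace -/
theorem exists_gen_trace [Fintype K] (D : Frob K q) :
    ∃ γ : K, γ ≠ 0 ∧ γ + D.σ γ ≠ 0 ∧ Subring.closure {γ} = ⊤ := by
  obtain ⟨c, hc0, hc⟩ := Cfsg.Agent.Helper12.RUN.exists_ring_gen K
  by_cases htr : c + D.σ c ≠ 0
  · exact ⟨c, hc0, htr, hc⟩
  push Not at htr
  have hσc : D.σ c = -c := by linear_combination htr
  by_cases h2 : (2 : K) = 0
  · exfalso
    have hfix : D.σ c = c := by
      rw [hσc]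
      linear_combination (-c) * h2
    apply D.ne_id
    -- the fixed subring contains `c`, hence everything
    let R : Subring K :=
      { carrier := {x | D.σ x = x}
        mul_mem' := fun {x y} hx hy => by
          show D.σ (x * y) = x * y
          rw [map_mul, hx, hy]
        one_mem' := map_one _
        add_mem' := fun {x y} hx hy => by
          show D.σ (x + y) = x + y
          rw [map_add, hx, hy]
        zero_mem' := map_zero _
        neg_mem' := fun {x} hx => by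
          show D.σ (-x) = -x
          rw [map_neg, hx] }
    have hR : R = ⊤ := by
      rw [eq_top_iff, ← hc, Subring.closure_le]
      intro x hx
      rw [Set.mem_singleton_iff] at hx
      subst hx
      exact hfix
    ext x
    have : x ∈ R := by rw [hR]; exact Subring.mem_top x
    exact this
  · refine ⟨c + 1, ?_, ?_, ?_⟩
    · intro h0
      have hc1 : c = -1 := by linear_combination h0
      rw [hc1, map_neg, map_one] at hσc
      apply h2
      linear_combination -hσc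
    · rw [map_add, map_one, hσc]
      intro h0
      apply h2
      linear_combination h0
    · rw [eq_top_iff, ← hc, Subring.closure_le]
      intro x hx
      rw [Set.mem_singleton_iff] at hx
      subst hx
      have h1 : x + 1 ∈ Subring.closure ({x + 1} : Set K) :=
        Subring.subset_closure (Set.mem_singleton _)
      have := Subring.sub_mem _ h1 (Subring.one_mem _)
      rwa [add_sub_cancel_right] at this

/-- the isometry from the standard Hermitian space to the coordinate model -/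
theorem exists_P [Fintype K] (D : Frob K q) (k : ℕ) :
    ∃ P : Matrix.GeneralLinearGroup (Fin (2 * k + 5)) K, ∀ x y : Fin (2 * k + 5) → K,
      hJ D.σ k ((P : Matrix (Fin (2 * k + 5)) (Fin (2 * k + 5)) K) *ᵥ x)
        ((P : Matrix (Fin (2 * k + 5)) (Fin (2 * k + 5)) K) *ᵥ y) =
      Cfsg.hermForm (2 * k + 5) K q x y := by
  classical
  let σ' : K ≃+* K := RingEquiv.ofRingHom D.σ D.σ
    (by ext x; exact D.invol x) (by ext x; exact D.invol x)
  have hσ' : ∀ x, σ' x = D.σ x := fun x => rfl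
  have hne : ∃ x, D.σ x ≠ x := by
    by_contra hcon
    push Not at hcon
    apply D.ne_id
    ext x
    exact hcon x
  have hf := hJ_isUnitaryForm D.σ k σ' hσ' hne D.invol
  obtain ⟨q', D', P, hP⟩ := Cfsg.Agent.Helper28.HermStd.exists_std σ' (hJ D.σ k) hf
  refine ⟨P, fun x y => ?_⟩
  rw [hP]
  -- `c ^ q' = σ c`
  have hpow : ∀ c : K, c ^ q' = D.σ c := by
    set x0 : Fin (2 * k + 5) → K := Pi.single (i0 k) 1 with hx0
    have h1 : ∀ c : K, Cfsg.hermForm (2 * k + 5) K q' x0 (c • x0) = c ^ q' := by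
      intro c
      unfold Cfsg.hermForm
      rw [Finset.sum_eq_single (i0 k)]
      · simp [hx0]
      · intro b _ hb
        simp [hx0, Pi.single_apply, hb]
      · intro h; exact absurd (Finset.mem_univ _) h
    have h2 : Cfsg.hermForm (2 * k + 5) K q' x0 x0 = 1 := by
      have := h1 1
      rwa [one_smul, one_pow] at this
    intro c
    rw [← h1 c, ← hP, Matrix.mulVec_smul, hJ_smul_right, hP, h2, mul_one]
  unfold Cfsg.hermForm
  apply Finset.sum_congr rfl
  intro i _
  rw [hpow, D.pow]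

/-- the case `n = 2k + 5` -/
theorem sun_five [Fintype K] (D : Frob K q) (hK : Fintype.card K = q ^ 2) (k : ℕ) :
    ∃ u g h' : ↥(Cfsg.SU (2 * k + 5) K q),
      (IsNilpotent (toM K (2 * k + 5) q u - 1) ∧
        (toM K (2 * k + 5) q u - 1) ^ (2 * k + 5 - 1) ≠ 0) ∧
      Subgroup.closure ({u, g * u * g⁻¹, h' * u * h'⁻¹} : Set ↥(Cfsg.SU (2 * k + 5) K q)) = ⊤ := by
  classical
  haveI : Finite K := Finite.of_fintype K
  obtain ⟨P, hP⟩ := exists_P D k
  obtain ⟨γ, hγ0, htr, hγ⟩ := exists_gen_trace D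
  set t := γ + D.σ γ with ht
  have htfix : D.σ t = t := by rw [ht, map_add, D.invol]; ring
  set μ := γ / t with hμdef
  have hμt : μ * t = γ := div_mul_cancel₀ _ htr
  have hμ : μ + D.σ μ = 1 := by
    rw [hμdef, map_div₀, htfix, ← add_div, ← ht, div_self htr]
  have hμ0 : μ ≠ 0 := div_ne_zero hγ0 htr
  have hsm0 : D.σ μ ≠ 0 := σ_ne_zero D hμ0
  set θ : K := (-1) ^ (k + 2) with hθ
  have hθ2 : θ * θ = 1 := by
    rw [hθ, ← pow_add, ← two_mul, pow_mul]; norm_num
  have hθfix : D.σ θ = θ := by rw [hθ, map_pow, map_neg, map_one]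
  have hθ0 : θ ≠ 0 := by
    intro h0; rw [h0, mul_zero] at hθ2; exact zero_ne_one hθ2
  set Pp := (D.σ μ) ^ (2 * k + 1) with hPp
  set R := (D.σ μ) ^ k with hR
  have hPp0 : Pp ≠ 0 := pow_ne_zero _ hsm0
  have hR0 : R ≠ 0 := pow_ne_zero _ hsm0
  have hσR0 : D.σ R ≠ 0 := σ_ne_zero D hR0
  have hσPp0 : D.σ Pp ≠ 0 := σ_ne_zero D hPp0
  -- the norm of `a`
  have hcfix : D.σ (R * D.σ R * t * θ) = R * D.σ R * t * θ := by
    rw [map_mul, map_mul, map_mul, D.invol, htfix, hθfix]; ring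
  have hc0 : R * D.σ R * t * θ ≠ 0 := mul_ne_zero (mul_ne_zero (mul_ne_zero hR0 hσR0) htr) hθ0
  obtain ⟨a, haN⟩ := exists_norm D _ hc0 hcfix
  have ha : a ≠ 0 := by
    rintro rfl
    rw [zero_mul] at haN
    exact hc0 haN.symm
  set β := (D.σ Pp * R)⁻¹ with hβdef
  have hβ : β ≠ 0 := inv_ne_zero (mul_ne_zero hσPp0 hR0)
  have hβ1 : β * D.σ Pp * R = 1 := by
    rw [hβdef, mul_assoc, inv_mul_cancel₀ (mul_ne_zero hσPp0 hR0)]
  have hβ2 : D.σ β * Pp * D.σ R = 1 := by
    have := congrArg D.σ hβ1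
    rw [map_mul, map_mul, D.invol, map_one] at this
    exact this
  -- the multiplier equals `γ`
  have hkey : -1 * (D.σ (-(a * Pp)) * (a * β * R) - D.σ (a * β * R) * (-(a * Pp)) +
      (-(β * D.σ β * μ * θ)) * D.σ (-(a * Pp)) * (-(a * Pp))) = γ := by
    simp only [map_neg, map_mul]
    linear_combination (a * D.σ a) * hβ1 - (a * D.σ a) * hβ2 +
      (β * D.σ β * μ * θ * D.σ Pp * Pp) * haN +
      (D.σ β * Pp * D.σ R * μ * t * θ * θ) * hβ1 + (μ * t * θ * θ) * hβ2 + (μ * t) * hθ2 + hμt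
  refine model_main D hK k P hP hμ ha hβ (η := -(a * Pp)) (ω := a * β * R)
    (c0 := -(β * D.σ β * μ * θ)) rfl rfl rfl ?_ ?_
  · rw [hkey]; exact hγ0
  · rw [hkey]; exact hγ

/-- `SU_n(q)`, `n ≥ 3` odd, `(n, q) ≠ (3, 2)`, is generated by three conjugate regular
unipotent elements. -/
theorem sun_three_conj {F : Type*} [Field F] [Fintype F] (q : ℕ) (hF : Fintype.card F = q ^ 2)
    (n : ℕ) (hn : 3 ≤ n) (hodd : Odd n) (h32 : ¬ (n = 3 ∧ q = 2)) :
    ∃ u g h : ↥(Cfsg.SU n F q),
      (IsNilpotent (((u : Matrix.SpecialLinearGroup (Fin n) F) : Matrix (Fin n) (Fin n) F) - 1) ∧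
        (((u : Matrix.SpecialLinearGroup (Fin n) F) : Matrix (Fin n) (Fin n) F) - 1) ^ (n - 1) ≠ 0) ∧
      Subgroup.closure ({u, g * u * g⁻¹, h * u * h⁻¹} : Set ↥(Cfsg.SU n F q)) = ⊤ := by
  classical
  by_cases h3 : n = 3
  · subst h3
    have hq : 3 ≤ q := by
      have h1 : 1 < Fintype.card F := Fintype.one_lt_card
      rw [hF] at h1
      by_contra hlt
      push Not at hlt
      have hq2 : q ≠ 2 := fun h => h32 ⟨rfl, h⟩
      interval_cases q <;> simp_all
    obtain ⟨u, g, hreg, hcl⟩ := Cfsg.Agent.Helper4.SU3G.su3_two_conj q hq hF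
    refine ⟨u, g, 1, hreg, ?_⟩
    have : ({u, g * u * g⁻¹, 1 * u * 1⁻¹} : Set ↥(Cfsg.SU 3 F q)) = {u, g * u * g⁻¹} := by
      rw [one_mul, inv_one, mul_one]
      ext x
      simp only [Set.mem_insert_iff, Set.mem_singleton_iff]
      tauto
    rw [this]
    exact hcl
  · obtain ⟨j, hj⟩ := hodd
    obtain ⟨k, rfl⟩ : ∃ k, n = 2 * k + 5 := ⟨j - 2, by omega⟩
    obtain ⟨σ, hσ, hσ2⟩ := Cfsg.Agent.Helper28.exists_frob hF
    have hσid := Cfsg.Agent.S0837.frob_ne_id hF σ hσ
    let D : Frob F q := ⟨σ, hσ, hσ2, hσid⟩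
    exact sun_five D hF k

end Cfsg.Agent.Helper4.SUn
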