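import Mathlib
import Cfsg.Agent.Helper4.Sharp3Even

/-!
# Sharply triply transitive groups of odd degree are `SL(2, 2^a)`
-/

set_option autoImplicit false
set_option linter.unusedSectionVars false
set_option linter.style.haveILetI false

namespace Cfsg.Agent.Helper4.Sharp3Odd

open scoped MatrixGroups
open Matrix Equiv MulAction Cfsg.Agent.Helper4.Sharp3Even

section PGL

variable {F : Type*} [Field F] [Fintype F] [CharP F 2]

theorem exists_sq (r : Fˣ) : ∃ k : Fˣ, k ^ 2 = r := by
  have hinj : Function.Injective (fun k : Fˣ => k ^ 2) := by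
    intro a b h
    have h' : (a : F) ^ 2 = (b : F) ^ 2 := by
      have := congrArg Units.val h
      simpa using this
    have h2 : ((a : F) - b) ^ 2 = 0 := by
      rw [sub_sq, h']
      have h2 : (2 : F) = 0 := CharP.cast_eq_zero F 2
      linear_combination (-(a : F) * b + (b : F) ^ 2) * h2
    have h3 : (a : F) - b = 0 := by simpa using h2
    exact Units.ext (sub_eq_zero.mp h3)
  exact (Finite.injective_iff_surjective.mp hinj) r

theorem center_SL_eq_bot : Subgroup.center (SpecialLinearGroup (Fin 2) F) = ⊥ := by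
  rw [Subgroup.eq_bot_iff_forall]
  intro A hA
  rw [Matrix.SpecialLinearGroup.mem_center_iff] at hA
  obtain ⟨r, hr, hA⟩ := hA
  rw [Fintype.card_fin] at hr
  have h2 : (r - 1) ^ 2 = 0 := by
    rw [sub_sq, hr]
    have h2 : (2 : F) = 0 := CharP.cast_eq_zero F 2
    linear_combination (1 - r) * h2
  have h3 : r = 1 := by
    have : r - 1 = 0 := by simpa using h2
    exact sub_eq_zero.mp this
  subst h3
  apply Subtype.ext
  rw [← hA]
  simp

/-- In characteristic two, `SL(2, F)` is the projective general linear group. -/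
theorem nonempty_sl_pgl : Nonempty (SpecialLinearGroup (Fin 2) F ≃* Matrix.ProjGenLinGroup (Fin 2) F) := by
  have hinj : Function.Injective (SpecialLinearGroup.toPGL (n := Fin 2) (R := F)) := by
    rw [← MonoidHom.ker_eq_bot_iff, SpecialLinearGroup.toPGL_ker, center_SL_eq_bot]
  have hsurj : Function.Surjective (SpecialLinearGroup.toPGL (n := Fin 2) (R := F)) := by
    intro g
    obtain ⟨x, hx⟩ := ProjectiveSpecialLinearGroup.toPGL_surj_of_roots (n := Fin 2) (R := F)
      (fun r => by
        obtain ⟨k, hk⟩ := exists_sq r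
        exact ⟨k, by rw [Fintype.card_fin]; exact hk⟩) g
    induction x using QuotientGroup.induction_on with | H X =>
    exact ⟨X, hx⟩
  exact ⟨MulEquiv.ofBijective _ ⟨hinj, hsurj⟩⟩

end PGL

section Main

variable {α : Type*} [Fintype α] [DecidableEq α]

theorem main (hm : 3 ≤ Fintype.card α) (hodd : Odd (Fintype.card α)) (G : Subgroup (Equiv.Perm α))
    (h3 : MulAction.IsMultiplyPretransitive G α 3)
    (hfix : ∀ g : G, 3 ≤ Nat.card (MulAction.fixedBy α g) → g = 1) :
    ∃ a : ℕ, 1 ≤ a ∧ Fintype.card α = 2 ^ a + 1 ∧ ∃ (F : Type) (_ : Field F) (_ : Fintype F),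
      Fintype.card F = 2 ^ a ∧ Nonempty (G ≃* Matrix.SpecialLinearGroup (Fin 2) F) := by
  classical
  have hsharp : ∀ x : Fin 3 ↪ α, stabilizer G x = ⊥ := by
    intro x
    rw [Subgroup.eq_bot_iff_forall]
    intro g hg
    apply hfix
    have hgx : ∀ i, g • x i = x i := fun i => congrArg (fun e : Fin 3 ↪ α => e i) hg
    have hinj : Function.Injective (fun i : Fin 3 => (⟨x i, hgx i⟩ : MulAction.fixedBy α g)) := by
      intro i j hij
      exact x.injective (congrArg Subtype.val hij)
    have := Nat.card_le_card_of_injective _ hinj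
    rw [Nat.card_fin] at this
    exact this
  have hpos : 0 < Fintype.card α := by omega
  obtain ⟨p⟩ : Nonempty α := Fintype.card_pos_iff.mp hpos
  have hcardβ : Fintype.card {x : α // x ≠ p} = Fintype.card α - 1 := by
    have h1 := Fintype.card_subtype_compl (fun x : α => x = p)
    rw [Fintype.card_subtype_eq] at h1
    simp at h1 ⊢
  have hn : 2 ≤ Fintype.card {x : α // x ≠ p} := by rw [hcardβ]; omega
  obtain ⟨nf, -⟩ := sharp2_nearfield (Hres G p) (Hres_two G h3 p) (Hres_sharp G hsharp p) hn
  obtain ⟨q, j, hq, hj, hcard, -, -⟩ := Cfsg.Agent.Helper4.nf_finite_structure (F := {x : α // x ≠ p})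
  rw [Nat.card_eq_fintype_card, hcardβ] at hcard
  have hq2 : q = 2 := by
    have heven : Even (q ^ j) := by
      rw [← hcard]
      obtain ⟨k, hk⟩ := hodd
      exact ⟨k, by omega⟩
    have := (Nat.Prime.even_iff hq).mp ((Nat.even_pow.mp heven).1)
    exact this
  subst hq2
  have hα : Fintype.card α = 2 ^ j + 1 := by omega
  obtain ⟨F, iF, iFt, hF, ⟨e⟩⟩ := Cfsg.Agent.Helper4.Sharp3Even.main G hj hα h3 hsharp
  refine ⟨j, hj, hα, F, iF, iFt, hF, ?_⟩
  haveI : CharP F 2 := by
    have hp : Nat.Prime 2 := Nat.prime_two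
    haveI : Fact (Nat.Prime 2) := ⟨hp⟩
    obtain ⟨r, hr⟩ := CharP.exists F
    haveI := hr
    have hrp : r.Prime := by
      haveI : Fact r.Prime := ⟨CharP.char_is_prime F r⟩
      exact Fact.out
    have hdvd : r ∣ Fintype.card F := by
      haveI : Fact r.Prime := ⟨hrp⟩
      obtain ⟨n, hn⟩ := FiniteField.card F r
      rw [hn.2]
      exact dvd_pow_self _ n.ne_zero
    rw [hF] at hdvd
    have := (Nat.prime_dvd_prime_iff_eq hrp hp).mp (hrp.dvd_of_dvd_pow hdvd)
    rw [← this]
    exact hr
  obtain ⟨e'⟩ := nonempty_sl_pgl (F := F)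
  exact ⟨e.trans e'.symm⟩

end Main

end Cfsg.Agent.Helper4.Sharp3Odd
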