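import Mathlib

set_option autoImplicit false

/-! S2513 piece A: an element of prime power order `ℓ^e` (`ℓ ≠ char F`) of `GL_n(F)`, `|F| = q`,
forces `ℓ^e ∣ q^d - 1` for some `1 ≤ d ≤ n`.

Proof: `w = z^(ℓ^(e-1))` has order `ℓ`; `U = ker (1 + w + ⋯ + w^(ℓ-1))` is a nonzero `z`-invariant
subspace on which `w` has no nonzero fixed vector; hence `⟨z⟩` acts freely on `U ∖ {0}`. -/

namespace Cfsg.Agent.Helper4.SpecStab

open Matrix

/-- a free action of a finite group on a finite set: `|G| ∣ |X|` -/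
theorem card_dvd_of_free {G X : Type*} [Group G] [MulAction G X]
    (h : ∀ (x : X) (g : G), g • x = x → g = 1) : Nat.card G ∣ Nat.card X := by
  have hst : ∀ b : X, MulAction.stabilizer G b = ⊥ := by
    intro b
    rw [eq_bot_iff]
    intro g hg
    rw [MulAction.mem_stabilizer_iff] at hg
    rw [Subgroup.mem_bot]
    exact h b g hg
  have e := MulAction.selfEquivOrbitsQuotientProd hst
  rw [Nat.card_congr e, Nat.card_prod]
  exact Dvd.intro_left _ rfl

section main

variable {F : Type*} [Field F] {n : ℕ}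

/-- the norm matrix `1 + w + ⋯ + w^(l-1)` -/
def normMat (w : Matrix (Fin n) (Fin n) F) (l : ℕ) : Matrix (Fin n) (Fin n) F :=
  ∑ i ∈ Finset.range l, w ^ i

theorem normMat_mul_sub (w : Matrix (Fin n) (Fin n) F) (l : ℕ) :
    normMat w l * (w - 1) = w ^ l - 1 := by
  unfold normMat
  exact geom_sum_mul w l

theorem commute_normMat (w g : Matrix (Fin n) (Fin n) F) (l : ℕ) (h : Commute g w) :
    Commute g (normMat w l) := by
  unfold normMat
  exact Commute.sum_right _ _ _ (fun i _ => h.pow_right i)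

theorem normMat_mulVec_of_fixed (w : Matrix (Fin n) (Fin n) F) (l : ℕ) (u : Fin n → F)
    (hu : w *ᵥ u = u) : normMat w l *ᵥ u = (l : F) • u := by
  unfold normMat
  rw [Matrix.sum_mulVec]
  have : ∀ i, (w ^ i) *ᵥ u = u := by
    intro i
    induction i with
    | zero => simp
    | succ i ih => rw [pow_succ, ← Matrix.mulVec_mulVec, hu, ih]
  simp only [this, Finset.sum_const, Finset.card_range]
  rw [← Nat.cast_smul_eq_nsmul F]

end main

/-- the action of `⟨z⟩` on the nonzero vectors killed by a matrix `N` commuting with `z` -/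
@[reducible]
def actX {F : Type*} [Field F] {n : ℕ} (z : GL (Fin n) F) (N : Matrix (Fin n) (Fin n) F)
    (hN : Commute (z : Matrix (Fin n) (Fin n) F) N) :
    MulAction (Subgroup.zpowers z) {u : Fin n → F // N *ᵥ u = 0 ∧ u ≠ 0} where
  smul g u := ⟨((g : GL (Fin n) F) : Matrix (Fin n) (Fin n) F) *ᵥ u.1, by
    obtain ⟨g, hg⟩ := g
    obtain ⟨u, hu1, hu2⟩ := u
    have hcomm : Commute ((g : GL (Fin n) F) : Matrix (Fin n) (Fin n) F) N := by
      obtain ⟨k, rfl⟩ := Subgroup.mem_zpowers_iff.mp hg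
      exact Commute.units_zpow_left (u := z) (a := N) hN k
    refine ⟨?_, ?_⟩
    · show N *ᵥ (((g : GL (Fin n) F) : Matrix (Fin n) (Fin n) F) *ᵥ u) = 0
      rw [Matrix.mulVec_mulVec, ← hcomm.eq, ← Matrix.mulVec_mulVec, hu1, Matrix.mulVec_zero]
    · show ((g : GL (Fin n) F) : Matrix (Fin n) (Fin n) F) *ᵥ u ≠ 0
      intro h0
      apply hu2
      have := congrArg (fun x => ((g⁻¹ : GL (Fin n) F) : Matrix (Fin n) (Fin n) F) *ᵥ x) h0
      simpa [Matrix.mulVec_mulVec] using this⟩
  one_smul u := by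
    apply Subtype.ext
    show ((1 : GL (Fin n) F) : Matrix (Fin n) (Fin n) F) *ᵥ u.1 = u.1
    simp
  mul_smul g h u := by
    apply Subtype.ext
    show (((g : GL (Fin n) F) * (h : GL (Fin n) F) : GL (Fin n) F) : Matrix (Fin n) (Fin n) F) *ᵥ u.1
      = ((g : GL (Fin n) F) : Matrix (Fin n) (Fin n) F) *ᵥ
        (((h : GL (Fin n) F) : Matrix (Fin n) (Fin n) F) *ᵥ u.1)
    rw [Units.val_mul, Matrix.mulVec_mulVec]


/-- in a cyclic group of order `l^(e'+1)` the element `z^(l^e')` lies in every subgroup of order `l` -/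
theorem pow_mem_zpowers_of_orderOf_eq {G : Type*} [Group G] (z : G) (l e' : ℕ) (hl : l.Prime)
    (hz : orderOf z = l ^ (e' + 1)) (s : G) (hs : s ∈ Subgroup.zpowers z) (hso : orderOf s = l) :
    z ^ (l ^ e') ∈ Subgroup.zpowers s := by
  have hlpos : 0 < l := hl.pos
  have hfin : IsOfFinOrder z := by
    rw [← orderOf_pos_iff, hz]; exact pow_pos hlpos _
  obtain ⟨c, hc⟩ : ∃ c : ℕ, z ^ c = s := by
    have := (hfin.mem_powers_iff_mem_zpowers).mpr hs
    exact (Submonoid.mem_powers_iff _ _).mp this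
  have h1 : z ^ (c * l) = 1 := by
    rw [pow_mul, hc, ← hso, pow_orderOf_eq_one]
  have h2 : l ^ (e' + 1) ∣ c * l := by
    rw [← hz]; exact orderOf_dvd_of_pow_eq_one h1
  have h3 : l ^ e' ∣ c := by
    rw [pow_succ] at h2
    exact Nat.dvd_of_mul_dvd_mul_right hlpos h2
  obtain ⟨c', rfl⟩ := h3
  set w := z ^ (l ^ e') with hw
  have hwo : orderOf w = l := by
    rw [hw, orderOf_pow_of_dvd (pow_pos hlpos e').ne' (by rw [hz]; exact pow_dvd_pow l (by omega)),
      hz, pow_succ, Nat.mul_div_cancel_left _ (pow_pos hlpos e')]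
  have hsw : s = w ^ c' := by rw [← hc, pow_mul]
  have hndvd : ¬ l ∣ c' := by
    rintro ⟨c'', rfl⟩
    have : s = 1 := by
      rw [hsw, pow_mul, ← hwo, pow_orderOf_eq_one, one_pow]
    rw [this, orderOf_one] at hso
    exact hl.one_lt.ne hso
  have hcop : Nat.Coprime c' l := (Nat.Coprime.symm ((Nat.Prime.coprime_iff_not_dvd hl).mpr hndvd))
  obtain ⟨t, -, ht⟩ := Nat.exists_mul_mod_eq_one_of_coprime hcop hl.one_lt
  have hwt : w = s ^ t := by
    rw [hsw, ← pow_mul]
    have : w ^ 1 = w ^ (c' * t) := by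
      rw [pow_eq_pow_iff_modEq, hwo]
      unfold Nat.ModEq
      rw [ht, Nat.mod_eq_of_lt hl.one_lt]
    rw [← this, pow_one]
  rw [hwt]
  exact Subgroup.pow_mem _ (Subgroup.mem_zpowers s) _

theorem actX_smul_val {F : Type*} [Field F] {n : ℕ} (z : GL (Fin n) F)
    (N : Matrix (Fin n) (Fin n) F) (hN : Commute (z : Matrix (Fin n) (Fin n) F) N)
    (g : Subgroup.zpowers z) (u : {u : Fin n → F // N *ᵥ u = 0 ∧ u ≠ 0}) :
    (letI := actX z N hN; (g • u).1) = ((g : GL (Fin n) F) : Matrix (Fin n) (Fin n) F) *ᵥ u.1 :=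
  rfl

/-- an element of prime power order `l^e` (`l ≠ char`) of `GL_n(F)` forces `l^e ∣ q^d - 1`, `d ≤ n` -/
theorem exists_dvd_pow_sub_one {F : Type*} [Field F] [Fintype F] (n : ℕ) (z : GL (Fin n) F)
    (l e : ℕ) (hl : l.Prime) (he : 1 ≤ e) (hz : orderOf z = l ^ e) (hchar : (l : F) ≠ 0) :
    ∃ d, 1 ≤ d ∧ d ≤ n ∧ l ^ e ∣ Fintype.card F ^ d - 1 := by
  classical
  obtain ⟨e', rfl⟩ : ∃ e', e = e' + 1 := ⟨e - 1, by omega⟩
  -- `w = z^(l^e')` of order `l`
  set w : GL (Fin n) F := z ^ (l ^ e') with hw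
  have hlpos : 0 < l := hl.pos
  have hwo : orderOf w = l := by
    rw [hw, orderOf_pow_of_dvd (pow_pos hlpos e').ne' (by rw [hz]; exact pow_dvd_pow l (by omega)),
      hz, pow_succ, Nat.mul_div_cancel_left _ (pow_pos hlpos e')]
  have hw1 : w ≠ 1 := by
    intro h
    rw [h, orderOf_one] at hwo
    exact hl.one_lt.ne hwo
  have hwl : (w : Matrix (Fin n) (Fin n) F) ^ l = 1 := by
    rw [← Units.val_pow_eq_pow_val, ← hwo, pow_orderOf_eq_one, Units.val_one]
  set N : Matrix (Fin n) (Fin n) F := normMat (w : Matrix (Fin n) (Fin n) F) l with hN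
  have hzw : Commute (z : Matrix (Fin n) (Fin n) F) (w : Matrix (Fin n) (Fin n) F) := by
    have h1 : Commute z w := by rw [hw]; exact (Commute.refl z).pow_right _
    have := congrArg (fun x : GL (Fin n) F => (x : Matrix (Fin n) (Fin n) F)) h1.eq
    exact this
  have hzN : Commute (z : Matrix (Fin n) (Fin n) F) N := commute_normMat _ _ l hzw
  -- the subspace `U = ker N`
  set U : Submodule F (Fin n → F) := LinearMap.ker (Matrix.mulVecLin N) with hU
  have hmemU : ∀ u, u ∈ U ↔ N *ᵥ u = 0 := by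
    intro u
    rw [hU, LinearMap.mem_ker, Matrix.mulVecLin_apply]
  -- `U ≠ ⊥`
  have hUne : U ≠ ⊥ := by
    intro hbot
    apply hw1
    apply Units.ext
    rw [Units.val_one]
    have hall : ∀ v : Fin n → F, ((w : Matrix (Fin n) (Fin n) F) - 1) *ᵥ v = 0 := by
      intro v
      have : ((w : Matrix (Fin n) (Fin n) F) - 1) *ᵥ v ∈ U := by
        rw [hmemU, Matrix.mulVec_mulVec, hN, normMat_mul_sub, hwl, sub_self, Matrix.zero_mulVec]
      rw [hbot, Submodule.mem_bot] at this
      exact this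
    have h0 : (w : Matrix (Fin n) (Fin n) F) - 1 = 0 := by
      apply Matrix.toLin'.injective
      apply LinearMap.ext
      intro v
      rw [Matrix.toLin'_apply, hall v]
      simp
    exact sub_eq_zero.mp h0
  -- cardinalities
  set d := Module.finrank F U with hd
  have hd1 : 1 ≤ d := by
    rw [hd]
    by_contra hcon
    push Not at hcon
    have h0 : Module.finrank F U = 0 := by omega
    exact hUne (Submodule.finrank_eq_zero.mp h0)
  have hdn : d ≤ n := by
    have := Submodule.finrank_le U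
    rwa [Module.finrank_fin_fun] at this
  have hcardU : Nat.card U = Fintype.card F ^ d := by
    rw [Nat.card_eq_fintype_card, hd]
    exact Module.card_eq_pow_finrank (K := F) (V := U)
  refine ⟨d, hd1, hdn, ?_⟩
  -- the action
  let _ := actX z N hzN
  have hfree : ∀ (x : {u : Fin n → F // N *ᵥ u = 0 ∧ u ≠ 0}) (g : Subgroup.zpowers z),
      g • x = x → g = 1 := by
    rintro ⟨u, hu1, hu2⟩ ⟨g, hg⟩ hgx
    have hgu : (g : Matrix (Fin n) (Fin n) F) *ᵥ u = u := congrArg Subtype.val hgx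
    by_contra hne
    have hg1 : g ≠ 1 := fun h => hne (Subtype.ext h)
    -- order of g
    obtain ⟨a, rfl⟩ := Subgroup.mem_zpowers_iff.mp hg
    have hgdvd : orderOf (z ^ a) ∣ l ^ (e' + 1) := by
      rw [← hz]; exact orderOf_dvd_of_pow_eq_one (by
        rw [← zpow_natCast, ← _root_.zpow_mul, mul_comm, _root_.zpow_mul, zpow_natCast,
          pow_orderOf_eq_one, _root_.one_zpow])
    obtain ⟨j, hj, hoj⟩ := (Nat.dvd_prime_pow hl).mp hgdvd
    have hj1 : 1 ≤ j := by
      by_contra hcon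
      push Not at hcon
      have : j = 0 := by omega
      rw [this, pow_zero, orderOf_eq_one_iff] at hoj
      exact hg1 hoj
    -- `s = g^(l^(j-1))` has order `l` and fixes `u`
    set g := z ^ a with hgdef
    set s : GL (Fin n) F := g ^ (l ^ (j - 1)) with hs
    have hso : orderOf s = l := by
      rw [hs, orderOf_pow_of_dvd (pow_pos hlpos _).ne' (by rw [hoj]; exact pow_dvd_pow l (by omega)),
        hoj]
      have : l ^ j = l ^ (j - 1) * l := by rw [← pow_succ]; congr 1; omega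
      rw [this, Nat.mul_div_cancel_left _ (pow_pos hlpos _)]
    have hpowfix : ∀ (x : GL (Fin n) F), (x : Matrix (Fin n) (Fin n) F) *ᵥ u = u →
        ∀ k : ℕ, ((x ^ k : GL (Fin n) F) : Matrix (Fin n) (Fin n) F) *ᵥ u = u := by
      intro x hx k
      induction k with
      | zero => simp
      | succ k ih => rw [pow_succ, Units.val_mul, ← Matrix.mulVec_mulVec, hx, ih]
    have hsu : (s : Matrix (Fin n) (Fin n) F) *ᵥ u = u := hpowfix g hgu _
    -- `s = z^b` with `s^l = 1`: so `s ∈ ⟨w⟩`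
    have hsz : s ∈ Subgroup.zpowers z := by
      rw [hs]; exact Subgroup.pow_mem _ (Subgroup.zpow_mem_zpowers z a) _
    have hws : w ∈ Subgroup.zpowers s := pow_mem_zpowers_of_orderOf_eq z l e' hl hz s hsz hso
    obtain ⟨b, hb⟩ := Subgroup.mem_zpowers_iff.mp hws
    have hzpowfix : ∀ (x : GL (Fin n) F), (x : Matrix (Fin n) (Fin n) F) *ᵥ u = u →
        ∀ k : ℤ, ((x ^ k : GL (Fin n) F) : Matrix (Fin n) (Fin n) F) *ᵥ u = u := by
      intro x hx k
      have hinv : ((x⁻¹ : GL (Fin n) F) : Matrix (Fin n) (Fin n) F) *ᵥ u = u := by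
        have := congrArg (fun y => ((x⁻¹ : GL (Fin n) F) : Matrix (Fin n) (Fin n) F) *ᵥ y) hx
        simp only [Matrix.mulVec_mulVec, ← Units.val_mul, inv_mul_cancel, Units.val_one,
          Matrix.one_mulVec] at this
        exact this.symm
      rcases Int.eq_nat_or_neg k with ⟨m, rfl | rfl⟩
      · rw [zpow_natCast]; exact hpowfix x hx m
      · rw [_root_.zpow_neg, zpow_natCast, ← inv_pow]; exact hpowfix x⁻¹ hinv m
    have hwu : (w : Matrix (Fin n) (Fin n) F) *ᵥ u = u := by
      rw [← hb]; exact hzpowfix s hsu b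
    have h1 := normMat_mulVec_of_fixed (w : Matrix (Fin n) (Fin n) F) l u hwu
    rw [← hN, hu1] at h1
    rcases smul_eq_zero.mp h1.symm with h2 | h2
    · exact hchar h2
    · exact hu2 h2
  have hdvd := card_dvd_of_free hfree
  rw [Nat.card_zpowers, hz] at hdvd
  -- card of X
  have hcardX : Nat.card {u : Fin n → F // N *ᵥ u = 0 ∧ u ≠ 0} = Fintype.card F ^ d - 1 := by
    rw [← hcardU]
    have e : {u : Fin n → F // N *ᵥ u = 0 ∧ u ≠ 0} ≃ {x : U // x ≠ 0} :=
      { toFun := fun x => ⟨⟨x.1, (hmemU _).2 x.2.1⟩, fun h => x.2.2 (congrArg Subtype.val h)⟩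
        invFun := fun x => ⟨x.1.1, (hmemU _).1 x.1.2, fun h => x.2 (Subtype.ext h)⟩
        left_inv := fun x => rfl
        right_inv := fun x => rfl }
    rw [Nat.card_congr e, Nat.card_eq_fintype_card, Nat.card_eq_fintype_card,
      Fintype.card_subtype_compl (fun x : U => x = 0), Fintype.card_subtype_eq]
  rwa [hcardX] at hdvd

end Cfsg.Agent.Helper4.SpecStab
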