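import Mathlib
import Cfsg.Agent.Helper12.PslGraphG
import Cfsg.Agent.Helper4.SpecStabA
import Cfsg.Agent.Helper8.SpecStabB

set_option autoImplicit false

/-! S2513: element orders of `PSL_n(F)`, `|F| = 2`. -/

namespace Cfsg.Agent.Helper4.SpecStab

open Cfsg.Agent.Helper12.PslGraph

universe u

variable {F : Type u} [Field F] [Fintype F]

/-- the set of element orders of a group is closed under divisors -/
theorem orderOf_range_dvd_closed {G : Type*} [Group G] (a : ℕ) (ha : a ∈ Set.range (orderOf : G → ℕ))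
    (ha0 : 0 < a) (b : ℕ) (hb : b ∣ a) : b ∈ Set.range (orderOf : G → ℕ) := by
  obtain ⟨x, rfl⟩ := ha
  obtain ⟨c, hc⟩ := hb
  have hc0 : c ≠ 0 := by
    rintro rfl
    rw [mul_zero] at hc
    omega
  refine ⟨x ^ c, ?_⟩
  rw [orderOf_pow_of_dvd hc0 ⟨b, by rw [hc, mul_comm]⟩, hc, Nat.mul_div_cancel _ (Nat.pos_of_ne_zero hc0)]

/-- Singer divisors are element orders of `PSL_n(F)` when `|F| = 2` -/
theorem singer_mem (hF : Fintype.card F = 2) (n d : ℕ) (hd1 : 1 ≤ d) (hdn : d ≤ n) (c : ℕ)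
    (hc : c ∣ 2 ^ d - 1) :
    c ∈ Set.range (orderOf : Matrix.ProjectiveSpecialLinearGroup (Fin n) F → ℕ) := by
  have hc' : c ∣ Fintype.card F ^ d - 1 := by rw [hF]; exact hc
  obtain ⟨g, hg⟩ := exists_gl_orderOf (K := F) d c hd1 hc'
  obtain ⟨b, rfl⟩ : ∃ b, n = d + b := ⟨n - d, by omega⟩
  have hz : orderOf (blkGL d b (g, (1 : GL (Fin b) F))) = c := by
    rw [orderOf_injective _ (blkGL_injective _ _), Prod.orderOf, hg, orderOf_one,
      Nat.lcm_one_right]
  have hcop : c.Coprime (Fintype.card F - 1) := by rw [hF]; exact Nat.coprime_one_right c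
  exact exists_psl_of_gl (d + b) c hcop _ hz

/-- `PSL_n(F) → ` lifting: every element order of `PSL_n(F)`, `|F| = 2`, is the order of an element
of `GL_n(F)` -/
theorem exists_gl_of_psl (hF : Fintype.card F = 2) (n : ℕ)
    (y : Matrix.ProjectiveSpecialLinearGroup (Fin n) F) :
    ∃ z : GL (Fin n) F, orderOf z = orderOf y := by
  obtain ⟨x, rfl⟩ := QuotientGroup.mk_surjective y
  refine ⟨Matrix.SpecialLinearGroup.toGL x, ?_⟩
  rw [orderOf_injective _ Matrix.SpecialLinearGroup.toGL_injective]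
  have hbot : Subgroup.center (Matrix.SpecialLinearGroup (Fin n) F) = ⊥ := by
    rw [eq_bot_iff]
    intro w hw
    have := center_pow_gcd n w hw
    rw [hF] at this
    simpa using this
  have hinj : Function.Injective
      (QuotientGroup.mk' (Subgroup.center (Matrix.SpecialLinearGroup (Fin n) F))) := by
    rw [← MonoidHom.ker_eq_bot_iff, QuotientGroup.ker_mk', hbot]
  exact (orderOf_injective _ hinj x).symm

theorem pp_bound (hF : Fintype.card F = 2) (n : ℕ) (l e : ℕ) (hl : l.Prime) (hl2 : l ≠ 2)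
    (he : 1 ≤ e)
    (h : l ^ e ∈ Set.range (orderOf : Matrix.ProjectiveSpecialLinearGroup (Fin n) F → ℕ)) :
    ∃ d, 1 ≤ d ∧ d ≤ n ∧ l ^ e ∣ 2 ^ d - 1 := by
  obtain ⟨y, hy⟩ := h
  obtain ⟨z, hz⟩ := exists_gl_of_psl hF n y
  rw [hy] at hz
  have hchar : (l : F) ≠ 0 := by
    have h2 : ((2 : ℕ) : F) = 0 := by
      rw [← hF]; exact Nat.cast_card_eq_zero F
    obtain ⟨k, hk⟩ := hl.odd_of_ne_two hl2
    rw [hk, Nat.cast_add, Nat.cast_mul, h2, zero_mul, zero_add, Nat.cast_one]
    exact one_ne_zero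
  have := exists_dvd_pow_sub_one n z l e hl he hz hchar
  rwa [hF] at this

end Cfsg.Agent.Helper4.SpecStab
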