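import Mathlib
import Cfsg.Agent.Helper6.Isolated

/-!
# Subgroups containing the centralisers of their involutions
-/

set_option autoImplicit false

namespace Cfsg.Agent.Helper4.StronglyEmb

open Cfsg.Agent.Helper6

section Dihedral

variable {G : Type*} [Group G]

theorem mul_self_of_orderOf_two {x : G} (hx : orderOf x = 2) : x * x = 1 := by
  rw [← pow_two, ← hx, pow_orderOf_eq_one]

theorem orderOf_two_of_mul_self {x : G} (hx : x * x = 1) (h1 : x ≠ 1) : orderOf x = 2 := by
  rw [← pow_two] at hx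
  exact orderOf_eq_prime hx h1

/-- Two involutions of a finite group either centralise a common involution or are conjugate
under an element `w` with `w * w = 1`. -/
theorem invol_dichotomy [Finite G] {x y : G} (hx : orderOf x = 2) (hy : orderOf y = 2) :
    (∃ z, orderOf z = 2 ∧ Commute z x ∧ Commute z y) ∨ (∃ w, w * w = 1 ∧ w * x * w = y) := by
  have hx2 := mul_self_of_orderOf_two hx
  have hy2 := mul_self_of_orderOf_two hy
  have hxi := inv_eq_self_of_mul_self hx2
  have hyi := inv_eq_self_of_mul_self hy2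
  have hpos : 0 < orderOf (x * y) := orderOf_pos _
  rcases Nat.even_or_odd' (orderOf (x * y)) with ⟨k, hk | hk⟩
  · -- even order
    left
    have hk0 : 0 < k := by omega
    refine ⟨(x * y) ^ k, ?_, ?_, ?_⟩
    · apply orderOf_eq_prime
      · rw [← pow_mul, mul_comm, ← hk, pow_orderOf_eq_one]
      · intro h
        have := orderOf_dvd_of_pow_eq_one h
        have := Nat.le_of_dvd hk0 this
        omega
    · -- commutes with `x`
      have h1 := invol_mul_pow hx2 hy2 k
      have h2 : ((x * y)⁻¹) ^ k = (x * y) ^ k := by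
        rw [inv_pow, inv_eq_iff_mul_eq_one, ← pow_add, ← two_mul, ← hk, pow_orderOf_eq_one]
      rw [h2] at h1
      exact h1.symm
    · -- commutes with `y`
      have h1 := invol_mul_pow hy2 hx2 k
      have h3 : (y * x) = (x * y)⁻¹ := by rw [mul_inv_rev, hxi, hyi]
      rw [h3, inv_inv] at h1
      have h2 : ((x * y)⁻¹) ^ k = (x * y) ^ k := by
        rw [inv_pow, inv_eq_iff_mul_eq_one, ← pow_add, ← two_mul, ← hk, pow_orderOf_eq_one]
      rw [h2] at h1
      exact h1.symm
  · -- odd order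
    right
    have h := invol_conj_of_odd hx2 hy2 k (by rw [← hk, pow_orderOf_eq_one])
    -- `g⁻¹ y g = x` with `g = (x y)^k`
    set g := (x * y) ^ k with hg
    have hgx : x * g = g⁻¹ * x := by
      have := invol_mul_pow hx2 hy2 k
      rw [inv_pow] at this
      exact this
    refine ⟨g * x, ?_, ?_⟩
    · calc g * x * (g * x) = g * (x * g) * x := by group
        _ = g * (g⁻¹ * x) * x := by rw [hgx]
        _ = x * x := by group
        _ = 1 := hx2
    · have hy' : y = g * x * g⁻¹ := by rw [← h]; group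
      have hgx' : g * x = x * g⁻¹ := by
        have : x * g * x = g⁻¹ := by rw [hgx, mul_assoc, hx2, mul_one]
        calc g * x = x * (x * g * x) := by rw [← mul_assoc, ← mul_assoc, hx2, one_mul]
          _ = x * g⁻¹ := by rw [this]
      calc g * x * x * (g * x) = g * (x * x) * (g * x) := by group
        _ = g * (g * x) := by rw [hx2, mul_one]
        _ = g * (x * g⁻¹) := by rw [hgx']
        _ = y := by rw [hy']; group

end Dihedral

section Main

variable {S : Type*} [Group S] [Finite S] (M : Subgroup S)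
  (hC : ∀ i ∈ M, orderOf i = 2 → Subgroup.centralizer ({i} : Set S) ≤ M)

include hC

/-- An involution of `S` lies in `M` or is conjugate to any given involution of `M`. -/
theorem mem_or_conj {i t : S} (hi : i ∈ M) (hi2 : orderOf i = 2) (ht2 : orderOf t = 2) :
    t ∈ M ∨ ∃ w, w * w = 1 ∧ w * i * w = t := by
  rcases invol_dichotomy hi2 ht2 with ⟨z, hz2, hzi, hzt⟩ | h
  · left
    have hzM : z ∈ M := hC i hi hi2 (by
      rw [Subgroup.mem_centralizer_singleton_iff]; exact hzi.eq)
    exact hC z hzM hz2 (by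
      rw [Subgroup.mem_centralizer_singleton_iff]; exact hzt.symm.eq)
  · exact Or.inr h

omit hC [Finite S] in
theorem isConj_of_w {i t w : S} (hw : w * w = 1) (h : w * i * w = t) : IsConj i t := by
  rw [isConj_iff]
  refine ⟨w, ?_⟩
  rw [inv_eq_self_of_mul_self hw]; exact h

omit hC in
theorem exists_invol_mem (hM : Even (Nat.card M)) : ∃ i : S, i ∈ M ∧ orderOf i = 2 := by
  have : Fact (Nat.Prime 2) := ⟨Nat.prime_two⟩
  obtain ⟨g, hg⟩ := exists_prime_orderOf_dvd_card' (G := M) 2 hM.two_dvd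
  exact ⟨g, g.2, by rw [Subgroup.orderOf_coe]; exact hg⟩

omit hC in
/-- Some involution lies outside `M`, when `M` has even order and its core has odd order. -/
theorem exists_invol_not_mem (hM : Even (Nat.card M)) (hcore : Odd (Nat.card M.normalCore)) :
    ∃ w : S, orderOf w = 2 ∧ w ∉ M := by
  by_contra hcon
  push Not at hcon
  obtain ⟨i₀, hi₀M, hi₀⟩ := exists_invol_mem M hM
  -- the normal subgroup generated by the involutions
  let N : Subgroup S := Subgroup.normalClosure {x : S | orderOf x = 2}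
  have hNM : N ≤ M := by
    show Subgroup.closure (Group.conjugatesOfSet {x : S | orderOf x = 2}) ≤ M
    rw [Subgroup.closure_le]
    intro x hx
    rw [Group.mem_conjugatesOfSet_iff] at hx
    obtain ⟨b, hb, hbx⟩ := hx
    apply hcon
    rw [isConj_iff] at hbx
    obtain ⟨c, rfl⟩ := hbx
    rw [orderOf_conj_eq]; exact hb
  have hNc : N ≤ M.normalCore := (Subgroup.normal_le_normalCore).mpr hNM
  have hi₀N : i₀ ∈ N := Subgroup.subset_normalClosure hi₀
  have h2N : 2 ∣ Nat.card N := by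
    have := Subgroup.orderOf_dvd_natCard N hi₀N
    rwa [hi₀] at this
  have h2c : 2 ∣ Nat.card M.normalCore := h2N.trans (Subgroup.card_dvd_of_le hNc)
  exact (Nat.not_even_iff_odd.mpr hcore) (even_iff_two_dvd.mpr h2c)

/-- All involutions of `S` are conjugate. -/
theorem isConj_invol (hM : Even (Nat.card M)) (hcore : Odd (Nat.card M.normalCore)) {x y : S}
    (hx : orderOf x = 2) (hy : orderOf y = 2) : IsConj x y := by
  obtain ⟨i₀, hi₀M, hi₀⟩ := exists_invol_mem M hM
  obtain ⟨w₀, hw₀, hw₀M⟩ := exists_invol_not_mem M hM hcore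
  -- every involution of `M` is conjugate to `w₀`, every involution outside is conjugate to `i₀`
  have h1 : ∀ t, t ∈ M → orderOf t = 2 → IsConj t w₀ := by
    intro t ht ht2
    rcases mem_or_conj M hC ht ht2 hw₀ with h | ⟨w, hw, hwt⟩
    · exact absurd h hw₀M
    · exact isConj_of_w hw hwt
  have h2 : ∀ t, t ∉ M → orderOf t = 2 → IsConj i₀ t := by
    intro t ht ht2
    rcases mem_or_conj M hC hi₀M hi₀ ht2 with h | ⟨w, hw, hwt⟩
    · exact absurd h ht
    · exact isConj_of_w hw hwt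
  have h3 : ∀ t, orderOf t = 2 → IsConj i₀ t := by
    intro t ht2
    by_cases ht : t ∈ M
    · exact (h1 i₀ hi₀M hi₀).trans (h1 t ht ht2).symm
    · exact h2 t ht ht2
  exact (h3 x hx).symm.trans (h3 y hy)

end Main

section Normalizer

variable {G : Type*} [Group G]

/-- In a finite subgroup, an element conjugating the subgroup into itself normalises it. -/
theorem mem_normalizer_of_forall_conj_mem (H : Subgroup G) [Finite H] (n : G)
    (h : ∀ y ∈ H, n * y * n⁻¹ ∈ H) : n ∈ Subgroup.normalizer (H : Set G) := by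
  have hle : H.map (MulAut.conj n).toMonoidHom ≤ H := by
    rintro _ ⟨y, hy, rfl⟩
    exact h y hy
  have hcard : Nat.card (H.map (MulAut.conj n).toMonoidHom) = Nat.card H :=
    Subgroup.card_map_of_injective (MulAut.conj n).injective
  have heq : H.map (MulAut.conj n).toMonoidHom = H :=
    Subgroup.eq_of_le_of_card_ge hle (by rw [hcard])
  rw [Subgroup.mem_normalizer_iff]
  intro y
  refine ⟨h y, fun hy => ?_⟩
  rw [← heq] at hy
  obtain ⟨y', hy', hyy'⟩ := hy
  have : y' = y := by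
    have h1 : n * y' * n⁻¹ = n * y * n⁻¹ := hyy'
    have h2 : y' = n⁻¹ * (n * y' * n⁻¹) * n := by group
    rw [h2, h1]; group
  rw [← this]; exact hy'

end Normalizer

section Strong

variable {S : Type*} [Group S] [Finite S] (M : Subgroup S)
  (hC : ∀ i ∈ M, orderOf i = 2 → Subgroup.centralizer ({i} : Set S) ≤ M)
  (X : Sylow 2 M)
  (hN : Subgroup.normalizer (((X : Subgroup M).map M.subtype : Subgroup S) : Set S) ≤ M)

/-- A 2-subgroup of `M` is conjugate under `M` into the image of the Sylow subgroup `X`. -/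
theorem exists_conj_mem_X (Y : Subgroup S) (hY2 : IsPGroup 2 Y) (hYM : Y ≤ M) :
    ∃ m ∈ M, ∀ y ∈ Y, m⁻¹ * y * m ∈ (X : Subgroup M).map M.subtype := by
  have h2 : IsPGroup 2 (Y.subgroupOf M) := hY2.comap_subtype
  obtain ⟨Q, hQ⟩ := h2.exists_le_sylow
  obtain ⟨m, hm⟩ := MulAction.exists_smul_eq M X Q
  refine ⟨m, m.2, fun y hy => ?_⟩
  have h1 : (⟨y, hYM hy⟩ : M) ∈ (Q : Subgroup M) := hQ (by
    rw [Subgroup.mem_subgroupOf]; exact hy)
  rw [← hm, Sylow.coe_subgroup_smul, Subgroup.mem_pointwise_smul_iff_inv_smul_mem,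
    MulAut.smul_def, ← map_inv, MulAut.conj_apply, inv_inv] at h1
  exact ⟨_, h1, rfl⟩

include hC hN

/-- `M` is strongly embedded: an element conjugating an involution of `M` into `M` lies in `M`. -/
theorem mem_of_conj_invol_mem {g i : S} (hi : i ∈ M) (hi2 : orderOf i = 2)
    (hgi : g * i * g⁻¹ ∈ M) : g ∈ M := by
  classical
  set XS : Subgroup S := (X : Subgroup M).map M.subtype with hXS
  have hXS2 : IsPGroup 2 XS := X.2.map _
  have hXSM : XS ≤ M := by
    rintro _ ⟨y, -, rfl⟩; exact y.2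
  set i' := g * i * g⁻¹ with hi'
  have hi'2 : orderOf i' = 2 := by rw [hi', orderOf_conj_eq]; exact hi2
  -- `i'` lies in a conjugate `m XS m⁻¹`
  obtain ⟨m, hm, hmY⟩ := exists_conj_mem_X M X (Subgroup.zpowers i')
    (IsPGroup.of_card (n := 1) (by rw [Nat.card_zpowers, hi'2, pow_one]))
    (by rw [Subgroup.zpowers_le]; exact hgi)
  have hi'X : m⁻¹ * i' * m ∈ XS := hmY i' (Subgroup.mem_zpowers i')
  -- `XS` is nontrivial, take a central involution `z₀`
  have hXSnt : Nontrivial XS := by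
    refine ⟨⟨⟨m⁻¹ * i' * m, hi'X⟩, 1, fun h => ?_⟩⟩
    have h1 : m⁻¹ * i' * m = 1 := congrArg Subtype.val h
    have h2 : i' = 1 := by
      have : i' = m * (m⁻¹ * i' * m) * m⁻¹ := by group
      rw [this, h1]; group
    rw [h2, orderOf_one] at hi'2; omega
  have : Fact (Nat.Prime 2) := ⟨Nat.prime_two⟩
  have hcnt : Nontrivial (Subgroup.center XS) := hXS2.center_nontrivial
  have h2c : 2 ∣ Nat.card (Subgroup.center XS) := by
    obtain ⟨k, hk⟩ := (hXS2.to_subgroup (Subgroup.center XS)).exists_card_eq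
    rcases Nat.eq_zero_or_pos k with rfl | hkpos
    · rw [pow_zero] at hk
      have := (Nat.card_eq_one_iff_unique.mp hk).1
      exact absurd hcnt (not_nontrivial _)
    · rw [hk]; exact dvd_pow_self 2 (by omega)
  obtain ⟨z₀, hz₀⟩ := exists_prime_orderOf_dvd_card' (G := Subgroup.center XS) 2 h2c
  set zX : S := ((z₀ : XS) : S) with hzX
  have hzX2 : orderOf zX = 2 := by
    rw [hzX, Subgroup.orderOf_coe, Subgroup.orderOf_coe]; exact hz₀
  have hzXmem : zX ∈ XS := (z₀ : XS).2
  have hzXc : ∀ y ∈ XS, zX * y = y * zX := by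
    intro y hy
    have h1 := Subgroup.mem_center_iff.mp z₀.2 ⟨y, hy⟩
    have h2 := congrArg Subtype.val h1
    exact h2.symm
  -- the central involution of `m XS m⁻¹`
  set z : S := m * zX * m⁻¹ with hz
  have hz2 : orderOf z = 2 := by rw [hz, orderOf_conj_eq]; exact hzX2
  have hzc : ∀ y ∈ XS, z * (m * y * m⁻¹) = (m * y * m⁻¹) * z := by
    intro y hy
    calc z * (m * y * m⁻¹) = m * (zX * y) * m⁻¹ := by rw [hz]; group
      _ = m * (y * zX) * m⁻¹ := by rw [hzXc y hy]
      _ = (m * y * m⁻¹) * z := by rw [hz]; group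
  have hzi' : z * i' = i' * z := by
    have := hzc _ hi'X
    have e : m * (m⁻¹ * i' * m) * m⁻¹ = i' := by group
    rwa [e] at this
  -- `g⁻¹ z g` is an involution of `M`
  have hzg : g⁻¹ * z * g ∈ M := by
    apply hC i hi hi2
    rw [Subgroup.mem_centralizer_singleton_iff]
    calc g⁻¹ * z * g * i = g⁻¹ * (z * i') * g := by rw [hi']; group
      _ = g⁻¹ * (i' * z) * g := by rw [hzi']
      _ = i * (g⁻¹ * z * g) := by rw [hi']; group
  have hzg2 : orderOf (g⁻¹ * z * g) = 2 := by
    have := orderOf_conj_eq g⁻¹ z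
    rw [inv_inv] at this
    rw [this]; exact hz2
  -- `g⁻¹ m XS m⁻¹ g ≤ M`
  have hYM : ∀ y ∈ XS, g⁻¹ * m * y * (g⁻¹ * m)⁻¹ ∈ M := by
    intro y hy
    apply hC _ hzg hzg2
    rw [Subgroup.mem_centralizer_singleton_iff]
    calc g⁻¹ * m * y * (g⁻¹ * m)⁻¹ * (g⁻¹ * z * g)
        = g⁻¹ * ((m * y * m⁻¹) * z) * g := by group
      _ = g⁻¹ * (z * (m * y * m⁻¹)) * g := by rw [hzc y hy]
      _ = g⁻¹ * z * g * (g⁻¹ * m * y * (g⁻¹ * m)⁻¹) := by group
  obtain ⟨a, ha, haY⟩ := exists_conj_mem_X M X (XS.map (MulAut.conj (g⁻¹ * m)).toMonoidHom)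
    (hXS2.map _) (by
      rintro _ ⟨y, hy, rfl⟩
      exact hYM y hy)
  have hn : a⁻¹ * g⁻¹ * m ∈ Subgroup.normalizer (XS : Set S) := by
    apply mem_normalizer_of_forall_conj_mem
    intro y hy
    have := haY (g⁻¹ * m * y * (g⁻¹ * m)⁻¹) ⟨y, hy, rfl⟩
    have e : a⁻¹ * g⁻¹ * m * y * (a⁻¹ * g⁻¹ * m)⁻¹ = a⁻¹ * (g⁻¹ * m * y * (g⁻¹ * m)⁻¹) * a := by
      group
    rw [e]; exact this
  have hnM : a⁻¹ * g⁻¹ * m ∈ M := hN hn
  have hg' : g⁻¹ ∈ M := by
    have e : g⁻¹ = a * (a⁻¹ * g⁻¹ * m) * m⁻¹ := by group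
    rw [e]
    exact M.mul_mem (M.mul_mem ha hnM) (M.inv_mem hm)
  exact (M.inv_mem_iff).mp hg'

end Strong

section Final

variable {S : Type*} [Group S] [Finite S] (M : Subgroup S)
  (hC : ∀ i ∈ M, orderOf i = 2 → Subgroup.centralizer ({i} : Set S) ≤ M)
  (X : Sylow 2 M)
  (hN : Subgroup.normalizer (((X : Subgroup M).map M.subtype : Subgroup S) : Set S) ≤ M)

include hC hN

/-- The subgroup `M ∩ w M w⁻¹` is transitive on the involutions of `M`. -/
theorem exists_conj_in_inter {w : S} (hw2 : orderOf w = 2) (hwM : w ∉ M) {t t' : S} (ht : t ∈ M)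
    (ht2 : orderOf t = 2) (ht' : t' ∈ M) (ht'2 : orderOf t' = 2) :
    ∃ x, x ∈ M ∧ w⁻¹ * x * w ∈ M ∧ x * t * x⁻¹ = t' := by
  have hww := mul_self_of_orderOf_two hw2
  have hwi := inv_eq_self_of_mul_self hww
  set v := w * t' * w⁻¹ with hv
  have hv2 : orderOf v = 2 := by rw [hv, orderOf_conj_eq]; exact ht'2
  have hvM : v ∉ M := fun h => hwM (mem_of_conj_invol_mem M hC X hN ht' ht'2 h)
  rcases mem_or_conj M hC ht ht2 hv2 with h | ⟨w', hw', hw't⟩
  · exact absurd h hvM
  · have hw'i := inv_eq_self_of_mul_self hw'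
    have hxt : (w * w') * t * (w * w')⁻¹ = t' := by
      calc (w * w') * t * (w * w')⁻¹ = w * (w' * t * w') * w := by
            rw [mul_inv_rev, hw'i, hwi]; group
        _ = w * v * w := by rw [hw't]
        _ = t' := by rw [hv, hwi]; calc w * (w * t' * w) * w = (w * w) * t' * (w * w) := by group
                      _ = t' := by rw [hww]; group
    have hxM : w * w' ∈ M := by
      refine mem_of_conj_invol_mem M hC X hN ht ht2 ?_
      rw [hxt]; exact ht'
    refine ⟨w * w', hxM, ?_, hxt⟩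
    have e : w⁻¹ * (w * w') * w = (w * w')⁻¹ := by
      rw [mul_inv_rev, hw'i, hwi, ← mul_assoc, hww, one_mul]
    rw [e]; exact M.inv_mem hxM

/-- `M ∩ w M w⁻¹` has odd order. -/
theorem odd_card_inter {w : S} (hwM : w ∉ M) :
    Odd (Nat.card (M ⊓ M.map (MulAut.conj w).toMonoidHom : Subgroup S)) := by
  rw [← Nat.not_even_iff_odd]
  intro heven
  have : Fact (Nat.Prime 2) := ⟨Nat.prime_two⟩
  obtain ⟨i, hi⟩ := exists_prime_orderOf_dvd_card'
    (G := (M ⊓ M.map (MulAut.conj w).toMonoidHom : Subgroup S)) 2 heven.two_dvd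
  have hi2 : orderOf (i : S) = 2 := by rw [Subgroup.orderOf_coe]; exact hi
  obtain ⟨hiM, j, hj, hji⟩ := i.2
  -- `i = w j w⁻¹` with `j ∈ M`
  have hj2 : orderOf j = 2 := by
    have h1 : w * j * w⁻¹ = (i : S) := hji
    rw [← h1, orderOf_conj_eq] at hi2; exact hi2
  apply hwM
  refine mem_of_conj_invol_mem M hC X hN hj hj2 ?_
  have h1 : w * j * w⁻¹ = (i : S) := hji
  rw [h1]; exact hiM

end Final

section Result

theorem main {S : Type*} [Group S] [Finite S] (M : Subgroup S) (hM : Even (Nat.card M))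
    (hC : ∀ i ∈ M, orderOf i = 2 → Subgroup.centralizer ({i} : Set S) ≤ M)
    (hcore : Odd (Nat.card M.normalCore)) :
    (∀ x y : S, orderOf x = 2 → orderOf y = 2 → IsConj x y) ∧
      ∀ (X : Sylow 2 M) (I : M),
        I ∈ (Subgroup.center ↥(X : Subgroup ↥M)).map (X : Subgroup ↥M).subtype → orderOf I = 2 →
        Subgroup.normalizer (((X : Subgroup M).map M.subtype : Subgroup S) : Set S) ≤ M →
        (∀ x y : M, orderOf x = 2 → orderOf y = 2 → IsConj x y) ∧
          ∃ M₀ : Subgroup M, Odd (Nat.card M₀) ∧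
            ∀ m : M, ∃ a ∈ M₀, ∃ c ∈ Subgroup.centralizer ({I} : Set M), m = a * c := by
  refine ⟨fun x y hx hy => isConj_invol M hC hM hcore hx hy, ?_⟩
  intro X I _ hI2 hN
  obtain ⟨w, hw2, hwM⟩ := exists_invol_not_mem M hM hcore
  set D : Subgroup S := M ⊓ M.map (MulAut.conj w).toMonoidHom with hD
  have hDodd : Odd (Nat.card D) := odd_card_inter M hC X hN hwM
  have hDM : D ≤ M := inf_le_left
  -- transitivity
  have htrans : ∀ t t' : M, orderOf t = 2 → orderOf t' = 2 →
      ∃ d : M, (d : S) ∈ D ∧ d * t * d⁻¹ = t' := by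
    intro t t' ht2 ht'2
    obtain ⟨x, hxM, hxw, hxt⟩ := exists_conj_in_inter M hC X hN hw2 hwM t.2
      (by rw [Subgroup.orderOf_coe]; exact ht2) t'.2 (by rw [Subgroup.orderOf_coe]; exact ht'2)
    refine ⟨⟨x, hxM⟩, ⟨hxM, ⟨w⁻¹ * x * w, hxw, ?_⟩⟩, Subtype.ext hxt⟩
    show w * (w⁻¹ * x * w) * w⁻¹ = x
    group
  refine ⟨fun x y hx hy => ?_, D.subgroupOf M, ?_, fun m => ?_⟩
  · obtain ⟨d, -, hd⟩ := htrans x y hx hy
    rw [isConj_iff]; exact ⟨d, hd⟩
  · rw [Nat.card_congr (Subgroup.subgroupOfEquivOfLe hDM).toEquiv]; exact hDodd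
  · have hmI2 : orderOf (m * I * m⁻¹) = 2 := by rw [orderOf_conj_eq]; exact hI2
    obtain ⟨d, hdD, hd⟩ := htrans I (m * I * m⁻¹) hI2 hmI2
    refine ⟨d, by rw [Subgroup.mem_subgroupOf]; exact hdD, d⁻¹ * m, ?_, by group⟩
    rw [Subgroup.mem_centralizer_singleton_iff]
    calc d⁻¹ * m * I = d⁻¹ * (m * I * m⁻¹) * m := by group
      _ = d⁻¹ * (d * I * d⁻¹) * m := by rw [hd]
      _ = I * (d⁻¹ * m) := by group

end Result

end Cfsg.Agent.Helper4.StronglyEmb
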