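import Mathlib
import Cfsg.Prelude.Def_FischerSpaces
import Cfsg.Agent.Helper4.InvSylowD
import Cfsg.Agent.Helper7.Layer

set_option autoImplicit false
set_option linter.style.haveILetI false
set_option linter.unusedSectionVars false
set_option linter.unusedVariables false

/-!
# 3-transposition groups whose quotient by `O₂` has no Klein four-subgroup: `O₂` has a complement
-/

namespace Cfsg.Agent.Helper4.InvSylow

open Subgroup
open scoped Pointwise

section

variable {G : Type*} [Group G] [Finite G] {D : Set G}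
variable (hD : Cfsg.IsThreeTranspositionSet D) (hconj : ∀ g : G, ∀ x ∈ D, g * x * g⁻¹ ∈ D)
  (hgen : Subgroup.closure D = ⊤) (hconjd : ∀ d ∈ D, ∀ e ∈ D, ∃ g : G, g * d * g⁻¹ = e)

include hD hconj hgen hconjd in
theorem exists_complement {Q : Type*} [Group Q] (e : G ⧸ Cfsg.pCore 2 G ≃* Q)
    (hQ : ∀ x y : Q, x * x = 1 → y * y = 1 → x ≠ 1 → y ≠ 1 → x * y = y * x → x = y)
    {d : G} (hd : d ∈ D) : ∃ K : Subgroup G, (Cfsg.pCore 2 G).IsComplement' K := by
  classical
  haveI : Fact (Nat.Prime 3) := ⟨Nat.prime_three⟩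
  haveI hTn : (Cfsg.pCore 2 G).Normal := Cfsg.Agent.Helper14.pCore_normal 2
  have hT : IsPGroup 2 (Cfsg.pCore 2 G) := Cfsg.Agent.Helper14.pCore_isPGroup 2
  have hd2 : d * d = 1 := ThreeTransO2.sq_eq_one hD hd
  by_cases hdT : d ∈ Cfsg.pCore 2 G
  · have hDT : D ⊆ (Cfsg.pCore 2 G : Set G) := by
      intro a ha
      obtain ⟨g, rfl⟩ := hconjd d hd a ha
      exact hTn.conj_mem d hdT g
    have hTtop : Cfsg.pCore 2 G = ⊤ := by
      rw [eq_top_iff, ← hgen]
      exact (closure_le _).mpr hDT
    rw [hTtop]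
    exact ⟨⊥, isComplement'_top_bot⟩
  · have hker : ∀ z : G, (QuotientGroup.mk' (Cfsg.pCore 2 G)) z = 1 ↔ z ∈ Cfsg.pCore 2 G := by
      intro z
      rw [← MonoidHom.mem_ker, QuotientGroup.ker_mk']
    have hnotT : ∀ a ∈ D, a ∉ Cfsg.pCore 2 G := by
      intro a ha haT
      obtain ⟨g, hg⟩ := hconjd a ha d hd
      exact hdT (hg ▸ hTn.conj_mem a haT g)
    have hwidth : ∀ a ∈ D, ∀ b ∈ D, Commute a b → a⁻¹ * b ∈ Cfsg.pCore 2 G := by
      intro a ha b hb hab
      have ha2 := ThreeTransO2.sq_eq_one hD ha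
      have hb2 := ThreeTransO2.sq_eq_one hD hb
      have h1 : e (QuotientGroup.mk' _ a) = e (QuotientGroup.mk' _ b) := by
        apply hQ
        · rw [← map_mul, ← map_mul, ha2, map_one, map_one]
        · rw [← map_mul, ← map_mul, hb2, map_one, map_one]
        · rw [Ne, MulEquiv.map_eq_one_iff, hker]
          exact hnotT a ha
        · rw [Ne, MulEquiv.map_eq_one_iff, hker]
          exact hnotT b hb
        · rw [← map_mul, ← map_mul, ← map_mul, ← map_mul, hab.eq]
      have h2 := e.injective h1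
      rw [← hker, map_mul, map_inv, h2, inv_mul_cancel]
    obtain ⟨P, hdP, htop⟩ := exists_invariant_sylow hD hconj hgen hconjd hwidth hd
    refine ⟨zpowers d ⊔ (P : Subgroup G), ?_⟩
    apply isComplement'_of_disjoint_and_mul_eq_univ
    · rw [disjoint_iff, eq_bot_iff]
      intro x hx
      obtain ⟨hxT, hxK⟩ := mem_inf.mp hx
      have hle : zpowers d ≤ normalizer ((P : Subgroup G) : Set G) := by
        rw [zpowers_le]; exact hdP
      rw [sup_comm, Cfsg.Agent.Helper7.mem_sup_of_le_normalizer hle] at hxK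
      obtain ⟨p, hp, z, hz, rfl⟩ := hxK
      obtain ⟨i, rfl⟩ := mem_zpowers_iff.mp hz
      -- `d ^ i` is `1` or `d`
      have hcase : d ^ i = 1 ∨ d ^ i = d := by
        rcases Int.emod_two_eq_zero_or_one i with h | h
        · left
          have h2 : i = 2 * (i / 2) := by omega
          rw [h2, zpow_mul, zpow_ofNat, pow_two, hd2, one_zpow]
        · right
          have h2 : i = 2 * (i / 2) + 1 := by omega
          rw [h2, zpow_add, zpow_mul, zpow_ofNat, pow_two, hd2, one_zpow, one_mul, zpow_one]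
      rw [mem_bot]
      rcases hcase with h | h
      · rw [h, mul_one] at hxT ⊢
        obtain ⟨j, h2⟩ := exists_pow_of_isPGroup hT hxT
        obtain ⟨k, h3⟩ := exists_pow_of_isPGroup P.2 hp
        exact eq_one_of_two_three h2 h3
      · exfalso
        rw [h] at hxT
        -- `p ∈ d T`, so `p ^ 2 ∈ T`, so `p ∈ T`
        have hpd : p * p ∈ Cfsg.pCore 2 G := by
          have e1 : p * p = (p * d) * (d⁻¹ * (p * d) * d) * (d⁻¹ * d⁻¹) := by group
          rw [e1]
          have hdi : d⁻¹ = d := inv_eq_of_mul_eq_one_left hd2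
          refine mul_mem (mul_mem hxT ?_) ?_
          · have := hTn.conj_mem _ hxT d⁻¹
            rwa [inv_inv] at this
          · rw [hdi, hd2]; exact one_mem _
        obtain ⟨k, h3⟩ := exists_pow_of_isPGroup P.2 hp
        have hodd : Odd (3 ^ k) := Odd.pow (by decide)
        obtain ⟨j, hj⟩ := hodd
        have e2 : (p * p) ^ (j + 1) = p := by
          rw [← pow_two, ← pow_mul, show 2 * (j + 1) = (2 * j + 1) + 1 by ring, pow_succ, ← hj, h3,
            one_mul]
        have hpT : p ∈ Cfsg.pCore 2 G := by rw [← e2]; exact pow_mem hpd _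
        have hdT' : d ∈ Cfsg.pCore 2 G := by
          have e3 : d = p⁻¹ * (p * d) := by group
          rw [e3]
          exact mul_mem (inv_mem hpT) hxT
        exact hdT hdT'
    · rw [← normal_mul]
      have h1 : Cfsg.pCore 2 G ⊔ (zpowers d ⊔ (P : Subgroup G)) = ⊤ := by
        rw [sup_comm]; exact htop
      rw [h1]
      rfl

end

end Cfsg.Agent.Helper4.InvSylow
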