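import Mathlib
import Cfsg.Prelude.Def_FischerSpaces
import Cfsg.Agent.Helper4.ThreeTransS4
import Cfsg.Agent.Helper4.FischerSpace

set_option autoImplicit false
set_option linter.style.haveILetI false
set_option linter.unusedSectionVars false
set_option linter.unusedVariables false

/-!
# The line system of a set of 3-transpositions
-/

namespace Cfsg.Agent.Helper4.TTLines

open Cfsg Cfsg.LineSystem Cfsg.Agent.Helper4.FischerSpace

section Basic

variable {G : Type*} [Group G] {D : Set G}

theorem sq_eq_one (hD : Cfsg.IsThreeTranspositionSet D) {x : G} (hx : x ∈ D) : x * x = 1 := by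
  have := pow_orderOf_eq_one x
  rw [hD.1 x hx, pow_two] at this
  exact this

theorem inv_eq (hD : Cfsg.IsThreeTranspositionSet D) {x : G} (hx : x ∈ D) : x⁻¹ = x :=
  inv_eq_of_mul_eq_one_left (sq_eq_one hD hx)

/-- Non-commuting 3-transpositions satisfy the braid relation. -/
theorem braid (hD : Cfsg.IsThreeTranspositionSet D) {x y : G} (hx : x ∈ D) (hy : y ∈ D)
    (hnc : ¬ Commute x y) : x * y * x = y * x * y := by
  have hx2 := sq_eq_one hD hx
  have hy2 := sq_eq_one hD hy
  rcases hD.2 x hx y hy with h | h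
  · exfalso
    apply hnc
    rw [pow_two] at h
    show x * y = y * x
    calc x * y = x * y * (x * y * (x * y))⁻¹ := by rw [h]; simp
      _ = (x * y) * (x * y)⁻¹ * (x * y)⁻¹ := by group
      _ = y⁻¹ * x⁻¹ := by group
      _ = y * x := by rw [inv_eq hD hx, inv_eq hD hy]
  · have h3 : x * y * (x * y) * (x * y) = 1 := by rw [← h, pow_succ, pow_two]
    calc x * y * x = x * y * x * (y * x * y) * (y * x * y)⁻¹ := by group
      _ = (x * y * (x * y) * (x * y)) * (y * x * y)⁻¹ := by group
      _ = (y * x * y)⁻¹ := by rw [h3, one_mul]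
      _ = y⁻¹ * x⁻¹ * y⁻¹ := by group
      _ = y * x * y := by rw [inv_eq hD hx, inv_eq hD hy]

/-- Conjugation. -/
def cj (x y : G) : G := x * y * x⁻¹

theorem cj_mem (hconj : ∀ g : G, ∀ d ∈ D, g * d * g⁻¹ ∈ D) (x : G) {y : G} (hy : y ∈ D) :
    cj x y ∈ D := hconj x y hy

theorem cj_cj (hD : Cfsg.IsThreeTranspositionSet D) {x : G} (hx : x ∈ D) (y : G) :
    cj x (cj x y) = y := by
  unfold cj
  have := sq_eq_one hD hx
  rw [inv_eq hD hx]
  calc x * (x * y * x) * x = (x * x) * y * (x * x) := by group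
    _ = y := by rw [this]; simp

theorem cj_mul (x y z : G) : cj x (y * z) = cj x y * cj x z := by
  unfold cj; group

theorem cj_inv (x y : G) : cj x y⁻¹ = (cj x y)⁻¹ := by
  unfold cj; group

/-- Conjugation distributes over conjugation. -/
theorem cj_dist (x y z : G) : cj x (cj y z) = cj (cj x y) (cj x z) := by
  unfold cj; group

theorem commute_cj_iff (x y z : G) : Commute (cj x y) (cj x z) ↔ Commute y z := by
  unfold cj
  exact Commute.conj_iff x

theorem cj_symm (hD : Cfsg.IsThreeTranspositionSet D) {x y : G} (hx : x ∈ D) (hy : y ∈ D)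
    (hnc : ¬ Commute x y) : cj x y = cj y x := by
  unfold cj
  rw [inv_eq hD hx, inv_eq hD hy]
  exact braid hD hx hy hnc

theorem cj_eq_self_iff (x y : G) : cj x y = y ↔ Commute x y := by
  unfold cj
  rw [mul_inv_eq_iff_eq_mul]
  exact Iff.rfl

theorem cj_self (x : G) : cj x x = x := by unfold cj; group

theorem cj_injective (x : G) : Function.Injective (cj x) := by
  intro y z h
  unfold cj at h
  simpa using h

theorem not_commute_cj_right (hD : Cfsg.IsThreeTranspositionSet D) {x y : G} (hx : x ∈ D)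
    (hy : y ∈ D) (hnc : ¬ Commute x y) : ¬ Commute x (cj y x) := by
  intro h
  apply hnc
  rw [← cj_symm hD hx hy hnc] at h
  have h2 : Commute (cj x x) (cj x y) := by rw [cj_self]; exact h
  exact (commute_cj_iff x x y).mp h2

theorem cj_cj_right (hD : Cfsg.IsThreeTranspositionSet D) {x y : G} (hx : x ∈ D)
    (hy : y ∈ D) (hnc : ¬ Commute x y) : cj (cj y x) x = y := by
  rw [← cj_symm hD hx hy hnc]
  -- cj (cj x y) x = cj x (cj y (cj x x))... use distributivity
  have h1 : cj (cj x y) x = cj (cj x y) (cj x x) := by rw [cj_self]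
  rw [h1, ← cj_dist, cj_symm hD hy hx (fun h => hnc h.symm), cj_cj hD hx]

end Basic

section Lines

variable {G : Type*} [Group G] {D : Set G} (hD : Cfsg.IsThreeTranspositionSet D)
  (hconj : ∀ g : G, ∀ d ∈ D, g * d * g⁻¹ ∈ D)

/-- Conjugation inside the subtype of `D`. -/
def cjD (x y : D) : D := ⟨cj x.1 y.1, cj_mem hconj x.1 y.2⟩

theorem cjD_val (x y : D) : (cjD hconj x y : G) = cj x.1 y.1 := rfl

theorem lineSet_eq (x y : D) :
    {z : D | (z : G) = x ∨ (z : G) = y ∨ (z : G) = (y : G) * x * (y : G)⁻¹} =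
      {x, y, cjD hconj y x} := by
  ext z
  simp only [Set.mem_ofPred_eq, Set.mem_insert_iff, Set.mem_singleton_iff, Subtype.ext_iff, cjD_val,
    cj]

include hD hconj

theorem tri_of_nc (x y : D) (hnc : ¬ Commute x.1 y.1) :
    Tri (threeTranspositionLines D) x y (cjD hconj y x) := by
  refine ⟨?_, ?_, ?_, ⟨x, y, hnc, (lineSet_eq hconj x y).symm⟩⟩
  · intro h
    have h1 : cj y.1 x.1 = x.1 := congrArg Subtype.val h
    rw [cj_eq_self_iff] at h1
    exact hnc h1.symm
  · intro h
    have h1 : cj y.1 x.1 = y.1 := congrArg Subtype.val h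
    have h2 : cj y.1 x.1 = cj y.1 y.1 := by rw [h1, cj_self]
    have h3 := cj_injective _ h2
    apply hnc
    rw [h3]
  · intro h
    apply hnc
    rw [h]

theorem line_ncard (l : Set D) (hl : l ∈ threeTranspositionLines D) : l.ncard = 3 := by
  obtain ⟨x, y, hnc, rfl⟩ := hl
  rw [lineSet_eq hconj]
  obtain ⟨h1, h2, h3, -⟩ := tri_of_nc hD hconj x y hnc
  exact Set.ncard_eq_three.mpr ⟨x, y, _, h3, h1.symm, h2.symm, rfl⟩

/-- Any two distinct points of a line determine the third point by conjugation. -/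
theorem third_of_mem {x0 y0 : D} (hnc : ¬ Commute x0.1 y0.1) {u v w : D}
    (hu : u ∈ ({x0, y0, cjD hconj y0 x0} : Set D)) (hv : v ∈ ({x0, y0, cjD hconj y0 x0} : Set D))
    (hw : w ∈ ({x0, y0, cjD hconj y0 x0} : Set D)) (huv : u ≠ v) (hwu : w ≠ u) (hwv : w ≠ v) :
    ¬ Commute u.1 v.1 ∧ w.1 = cj v.1 u.1 := by
  have hx := x0.2
  have hy := y0.2
  have hnc' : ¬ Commute y0.1 x0.1 := fun h => hnc h.symm
  have hxz : ¬ Commute x0.1 (cj y0.1 x0.1) := not_commute_cj_right hD hx hy hnc
  have hyz : ¬ Commute y0.1 (cj y0.1 x0.1) := by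
    intro h
    have h2 : Commute (cj y0.1 y0.1) (cj y0.1 x0.1) := by rw [cj_self]; exact h
    exact hnc' ((commute_cj_iff _ _ _).mp h2)
  simp only [Set.mem_insert_iff, Set.mem_singleton_iff] at hu hv hw
  rcases hu with rfl | rfl | rfl <;> rcases hv with rfl | rfl | rfl <;>
    rcases hw with rfl | rfl | rfl <;>
    first
    | exact absurd rfl huv
    | exact absurd rfl hwu
    | exact absurd rfl hwv
    | skip
  · exact ⟨hnc, rfl⟩
  · refine ⟨hxz, ?_⟩
    rw [cjD_val]
    exact (cj_cj_right hD hx hy hnc).symm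
  · refine ⟨hnc', ?_⟩
    rw [cjD_val]
    exact cj_symm hD hy hx hnc'
  · refine ⟨hyz, ?_⟩
    rw [cjD_val, cj_symm hD hy hx hnc']
    exact (cj_cj_right hD hy hx hnc').symm
  · refine ⟨fun h => hxz h.symm, ?_⟩
    rw [cjD_val, cj_symm hD hy hx hnc']
    exact (cj_cj hD hx _).symm
  · refine ⟨fun h => hyz h.symm, ?_⟩
    rw [cjD_val]
    exact (cj_cj hD hy _).symm

theorem tri_iff (x y z : D) :
    Tri (threeTranspositionLines D) x y z ↔ ¬ Commute x.1 y.1 ∧ z.1 = cj y.1 x.1 := by
  constructor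
  · rintro ⟨hzx, hzy, hxy, x0, y0, hnc, hl⟩
    rw [lineSet_eq hconj] at hl
    have hx : x ∈ ({x0, y0, cjD hconj y0 x0} : Set D) := by rw [← hl]; simp
    have hy : y ∈ ({x0, y0, cjD hconj y0 x0} : Set D) := by rw [← hl]; simp
    have hz : z ∈ ({x0, y0, cjD hconj y0 x0} : Set D) := by rw [← hl]; simp
    exact third_of_mem hD hconj hnc hx hy hz hxy hzx hzy
  · rintro ⟨hnc, hz⟩
    have : z = cjD hconj y x := Subtype.ext hz
    rw [this]
    exact tri_of_nc hD hconj x y hnc

theorem isPartialLinear : IsPartialLinear (threeTranspositionLines D) := by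
  intro l hl m hm x y hxy hxl hyl hxm hym
  obtain ⟨z, hz, rfl⟩ := exists_tri_of_mem_mem (line_ncard hD hconj) hl hxl hyl hxy
  obtain ⟨z', hz', rfl⟩ := exists_tri_of_mem_mem (line_ncard hD hconj) hm hxm hym hxy
  have h1 := ((tri_iff hD hconj x y z).mp hz).2
  have h2 := ((tri_iff hD hconj x y z').mp hz').2
  have : z = z' := Subtype.ext (h1.trans h2.symm)
  rw [this]

end Lines

section Recognition

variable {X Y : Type*} {L : Set (Set X)} {N : Set (Set Y)}

/-- Recognition of the plane generated by two lines: an injective map from a model plane which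
preserves collinear triples and non-collinear pairs, whose range contains the two lines and is
contained in the subspace they generate. -/
theorem isomorphic_of_map (hPL : IsPartialLinear L) (h3 : ∀ l ∈ L, l.ncard = 3)
    (hN3 : ∀ l ∈ N, ∃ a b c, Tri N a b c ∧ l = {a, b, c})
    (f : Y → X) (hf : Function.Injective f)
    (hF1 : ∀ a b c, Tri N a b c → Tri L (f a) (f b) (f c))
    (hF2 : ∀ a b, a ≠ b → (¬ ∃ c, Tri N a b c) → ¬ ∃ z, Tri L (f a) (f b) z)
    (S : Set X) (hS1 : S ⊆ Set.range f) (hS2 : Set.range f ⊆ span L S) :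
    Isomorphic (restrict L (span L S)) N := by
  -- the range of `f` is a subspace
  have hkey : ∀ a b : Y, ∀ z : X, Tri L (f a) (f b) z → ∃ c, Tri N a b c ∧ z = f c := by
    intro a b z hz
    have hab : a ≠ b := fun h => hz.2.2.1 (by rw [h])
    have hex : ∃ c, Tri N a b c := by
      by_contra hcon
      exact hF2 a b hab hcon ⟨z, hz⟩
    obtain ⟨c, hc⟩ := hex
    exact ⟨c, hc, tri_unique hPL hz (hF1 a b c hc)⟩
  have hsub : IsSubspace L (Set.range f) := by
    rintro l hl x ⟨a, rfl⟩ y ⟨b, rfl⟩ hxy hxl hyl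
    obtain ⟨z, hz, rfl⟩ := exists_tri_of_mem_mem h3 hl hxl hyl hxy
    obtain ⟨c, -, rfl⟩ := hkey a b z hz
    rintro w (rfl | rfl | rfl)
    · exact ⟨a, rfl⟩
    · exact ⟨b, rfl⟩
    · exact ⟨c, rfl⟩
  have hspan : span L S = Set.range f := by
    apply Set.Subset.antisymm
    · intro x hx
      rw [span, Set.mem_sInter] at hx
      exact hx _ ⟨hS1, hsub⟩
    · exact hS2
  have hmem : ∀ y : Y, f y ∈ span L S := fun y => hS2 ⟨y, rfl⟩
  let g : Y → ↥(span L S) := fun y => ⟨f y, hmem y⟩
  have hg : Function.Bijective g := by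
    constructor
    · intro y y' h
      exact hf (congrArg Subtype.val h)
    · rintro ⟨x, hx⟩
      rw [hspan] at hx
      obtain ⟨y, rfl⟩ := hx
      exact ⟨y, rfl⟩
  let e' : Y ≃ ↥(span L S) := Equiv.ofBijective g hg
  have he' : ∀ y, ((e' y : ↥(span L S)) : X) = f y := fun y => rfl
  refine ⟨e'.symm, ?_⟩
  intro s
  constructor
  · rintro ⟨l, hl, hlS, rfl⟩
    have hne : l.Nonempty := by
      rw [← Set.ncard_pos (Set.finite_of_ncard_ne_zero (by rw [h3 l hl]; norm_num)), h3 l hl]
      norm_num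
    obtain ⟨x, hx⟩ := hne
    obtain ⟨y, z, ht, rfl⟩ := exists_tri_of_mem h3 hl hx
    have hxS : x ∈ Set.range f := by rw [← hspan]; exact hlS (by simp)
    have hyS : y ∈ Set.range f := by rw [← hspan]; exact hlS (by simp)
    obtain ⟨a, rfl⟩ := hxS
    obtain ⟨b, rfl⟩ := hyS
    obtain ⟨c, hc, rfl⟩ := hkey a b z ht
    have : e'.symm '' {x : ↥(span L S) | (x : X) ∈ ({f a, f b, f c} : Set X)} = {a, b, c} := by
      ext y
      simp only [Set.mem_image, Set.mem_ofPred_eq, Set.mem_insert_iff, Set.mem_singleton_iff]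
      constructor
      · rintro ⟨x, hx, rfl⟩
        obtain ⟨y, rfl⟩ := e'.surjective x
        rw [Equiv.symm_apply_apply]
        rw [he'] at hx
        rcases hx with h | h | h
        · exact Or.inl (hf h)
        · exact Or.inr (Or.inl (hf h))
        · exact Or.inr (Or.inr (hf h))
      · intro hy
        refine ⟨e' y, ?_, Equiv.symm_apply_apply _ _⟩
        rw [he']
        rcases hy with rfl | rfl | rfl
        · exact Or.inl rfl
        · exact Or.inr (Or.inl rfl)
        · exact Or.inr (Or.inr rfl)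
    rw [this]
    exact hc.2.2.2
  · intro hs
    obtain ⟨a, b, c, ht, hs'⟩ := hN3 _ hs
    have htL := hF1 a b c ht
    refine ⟨{f a, f b, f c}, htL.2.2.2, ?_, ?_⟩
    · rintro w (rfl | rfl | rfl)
      · exact hmem _
      · exact hmem _
      · exact hmem _
    · ext x
      obtain ⟨y, rfl⟩ := e'.surjective x
      have h1 : e' y ∈ s ↔ y ∈ e'.symm '' s := by
        constructor
        · intro h
          exact ⟨e' y, h, Equiv.symm_apply_apply _ _⟩
        · rintro ⟨x, hx, hxy⟩
          have : x = e' y := by rw [← hxy, Equiv.apply_symm_apply]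
          rw [← this]
          exact hx
      rw [h1, hs']
      simp only [Set.mem_ofPred_eq, Set.mem_insert_iff, Set.mem_singleton_iff, he']
      constructor
      · rintro (rfl | rfl | rfl)
        · exact Or.inl rfl
        · exact Or.inr (Or.inl rfl)
        · exact Or.inr (Or.inr rfl)
      · rintro (h | h | h)
        · exact Or.inl (hf h)
        · exact Or.inr (Or.inl (hf h))
        · exact Or.inr (Or.inr (hf h))

end Recognition

section Models

theorem ag3_lines : ∀ l ∈ affinePlaneThree, ∃ a b c, Tri affinePlaneThree a b c ∧ l = {a, b, c} := by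
  rintro l ⟨v, w, hw, rfl⟩
  have h3 := three_zmod
  have hab : v ≠ v + w := by
    intro h
    apply hw
    have : v + w = v + 0 := by rw [add_zero]; exact h.symm
    exact add_left_cancel this
  refine ⟨v, v + w, -v - (v + w), ag3_tri hab, ?_⟩
  ext x
  simp only [Set.mem_insert_iff, Set.mem_singleton_iff, Set.mem_ofPred_eq]
  constructor
  · rintro ⟨c, rfl⟩
    have hc : c = 0 ∨ c = 1 ∨ c = 2 := by revert c; decide
    rcases hc with rfl | rfl | rfl
    · left; simp
    · right; left; simp
    · right; right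
      ext i
      simp only [Pi.sub_apply, Pi.neg_apply, Pi.add_apply, Pi.smul_apply, smul_eq_mul]
      linear_combination (v i + w i) * h3
  · rintro (rfl | rfl | rfl)
    · exact ⟨0, by simp⟩
    · exact ⟨1, by simp⟩
    · refine ⟨2, ?_⟩
      ext i
      simp only [Pi.sub_apply, Pi.neg_apply, Pi.add_apply, Pi.smul_apply, smul_eq_mul]
      linear_combination (-(v i) - w i) * h3

theorem da_lines_aux : ∀ i : Fin 4, ∃ a b c : DualAffinePoint, TriD a b c ∧
    ∀ s : DualAffinePoint, i ∉ s.val ↔ (s = a ∨ s = b ∨ s = c) := by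
  decide +kernel

theorem da_lines : ∀ l ∈ dualAffinePlaneTwo, ∃ a b c, Tri dualAffinePlaneTwo a b c ∧
    l = {a, b, c} := by
  rintro l ⟨i, rfl⟩
  obtain ⟨a, b, c, ht, h⟩ := da_lines_aux i
  refine ⟨a, b, c, (tri_da_iff a b c).mpr ht, ?_⟩
  ext s
  simp only [Set.mem_ofPred_eq, Set.mem_insert_iff, Set.mem_singleton_iff]
  exact h s

end Models

section CaseA

open Equiv

/-- The transposition attached to a two-element subset of `Fin 4`. -/
def sw (s : DualAffinePoint) : Perm (Fin 4) :=
  if 0 ∈ s.val ∧ 1 ∈ s.val then swap 0 1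
  else if 0 ∈ s.val ∧ 2 ∈ s.val then swap 0 2
  else if 0 ∈ s.val ∧ 3 ∈ s.val then swap 0 3
  else if 1 ∈ s.val ∧ 2 ∈ s.val then swap 1 2
  else if 1 ∈ s.val ∧ 3 ∈ s.val then swap 1 3
  else swap 2 3

theorem sw_injective : ∀ s t : DualAffinePoint, sw s = sw t → s = t := by decide +kernel

theorem sw_isSwap : ∀ s : DualAffinePoint, ∃ i j : Fin 4, i ≠ j ∧ sw s = swap i j := by
  decide +kernel

theorem sw_tri : ∀ s t u : DualAffinePoint, TriD s t u →
    sw s * sw t ≠ sw t * sw s ∧ sw u = sw t * sw s * (sw t)⁻¹ := by decide +kernel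

theorem sw_comm : ∀ s t : DualAffinePoint, s ≠ t → (¬ ∃ u, TriD s t u) →
    sw s * sw t = sw t * sw s := by decide +kernel

theorem sw_cases : ∀ s : DualAffinePoint, sw s = swap 0 1 ∨ sw s = swap 1 2 ∨ sw s = swap 0 2 ∨
    sw s = swap 2 3 ∨ sw s = swap 1 3 ∨ sw s = swap 0 3 := by decide +kernel

theorem sw_surj : ∀ i j : Fin 4, i ≠ j → ∃ s : DualAffinePoint, sw s = swap i j := by
  decide +kernel

theorem S4_facts : (swap 0 1 : Perm (Fin 4)) * swap 1 2 * (swap 0 1)⁻¹ = swap 0 2 ∧
    (swap 2 3 : Perm (Fin 4)) * swap 1 2 * (swap 2 3)⁻¹ = swap 1 3 ∧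
    (swap 2 3 : Perm (Fin 4)) * swap 0 2 * (swap 2 3)⁻¹ = swap 0 3 ∧
    (swap 0 2 : Perm (Fin 4)) * swap 2 3 ≠ swap 2 3 * swap 0 2 := by decide +kernel

end CaseA

section CaseAMain

open Equiv

variable {G : Type*} [Group G] {D : Set G} (hD : Cfsg.IsThreeTranspositionSet D)
  (hconj : ∀ g : G, ∀ d ∈ D, g * d * g⁻¹ ∈ D)

include hD hconj

/-- Two lines through `a` containing commuting points `b`, `c` generate a dual affine plane. -/
theorem caseA (a b b' c c' : D) (hl : Tri (threeTranspositionLines D) a b b')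
    (hm : Tri (threeTranspositionLines D) a c c') (hbc : Commute b.1 c.1) (hne : b ≠ c) :
    Isomorphic (restrict (threeTranspositionLines D)
      (span (threeTranspositionLines D) (({a, b, b'} : Set D) ∪ {a, c, c'}))) dualAffinePlaneTwo := by
  set L := threeTranspositionLines D with hL
  obtain ⟨hab, hb'⟩ := (tri_iff hD hconj a b b').mp hl
  obtain ⟨hac, hc'⟩ := (tri_iff hD hconj a c c').mp hm
  obtain ⟨φ, hinj, e01, e12, e23, hmem⟩ :=
    Cfsg.Agent.Helper4.ThreeTransS4.string_hom hD hconj b.2 a.2 c.2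
      (fun h => hne (Subtype.ext h)) hbc (fun h => hab h.symm) hac
  obtain ⟨F1, F2, F3, F4⟩ := S4_facts
  have e02 : φ (swap 0 2) = b'.1 := by
    rw [hb', ← F1, map_mul, map_mul, map_inv, e01, e12]
    rfl
  have e13 : φ (swap 1 3) = c'.1 := by
    rw [hc', ← F2, map_mul, map_mul, map_inv, e23, e12]
    rfl
  have hfmem : ∀ s : DualAffinePoint, φ (sw s) ∈ D := by
    intro s
    obtain ⟨i, j, hij, hs⟩ := sw_isSwap s
    rw [hs]
    exact hmem i j hij
  let f : DualAffinePoint → D := fun s => ⟨φ (sw s), hfmem s⟩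
  have hfval : ∀ s, (f s : G) = φ (sw s) := fun s => rfl
  have hf : Function.Injective f := by
    intro s t h
    exact sw_injective s t (hinj (congrArg Subtype.val h))
  apply isomorphic_of_map (isPartialLinear hD hconj) (line_ncard hD hconj) da_lines f hf
  · -- collinear triples
    intro s t u ht
    rw [tri_da_iff] at ht
    obtain ⟨h1, h2⟩ := sw_tri s t u ht
    rw [tri_iff hD hconj]
    refine ⟨?_, ?_⟩
    · intro hcomm
      apply h1
      apply hinj
      rw [map_mul, map_mul]
      exact hcomm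
    · rw [hfval, hfval, hfval, h2, map_mul, map_mul, map_inv]
      rfl
  · -- non-collinear pairs
    intro s t hst hno
    have hno' : ¬ ∃ u, TriD s t u := by
      rintro ⟨u, hu⟩
      exact hno ⟨u, (tri_da_iff s t u).mpr hu⟩
    have h1 := sw_comm s t hst hno'
    rintro ⟨z, hz⟩
    apply ((tri_iff hD hconj _ _ _).mp hz).1
    show φ (sw s) * φ (sw t) = φ (sw t) * φ (sw s)
    rw [← map_mul, ← map_mul, h1]
  · -- the two lines lie in the range
    have hr : ∀ i j : Fin 4, ∀ hij : i ≠ j, ∀ x : D, x.1 = φ (swap i j) → x ∈ Set.range f := by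
      intro i j hij x hx
      obtain ⟨s, hs⟩ := sw_surj i j hij
      refine ⟨s, Subtype.ext ?_⟩
      rw [hfval, hs, hx]
    rintro x (hx | hx)
    · rcases hx with rfl | rfl | rfl
      · exact hr 1 2 (by decide) _ e12.symm
      · exact hr 0 1 (by decide) _ e01.symm
      · exact hr 0 2 (by decide) _ e02.symm
    · rcases hx with rfl | rfl | rfl
      · exact hr 1 2 (by decide) _ e12.symm
      · exact hr 2 3 (by decide) _ e23.symm
      · exact hr 1 3 (by decide) _ e13.symm
  · -- the range lies in the span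
    set S : Set D := ({a, b, b'} : Set D) ∪ {a, c, c'} with hS
    have hsub := subset_span (L := L) S
    have haS : a ∈ span L S := hsub (Or.inl (by simp))
    have hbS : b ∈ span L S := hsub (Or.inl (by simp))
    have hb'S : b' ∈ span L S := hsub (Or.inl (by simp))
    have hcS : c ∈ span L S := hsub (Or.inr (by simp))
    have hc'S : c' ∈ span L S := hsub (Or.inr (by simp))
    -- the sixth point
    have h03 : ∀ x : D, x.1 = φ (swap 0 3) → x ∈ span L S := by
      intro x hx
      have ht : Tri L b' c x := by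
        rw [tri_iff hD hconj]
        refine ⟨?_, ?_⟩
        · intro hcomm
          apply F4
          apply hinj
          rw [map_mul, map_mul, e02, e23]
          exact hcomm
        · rw [hx, ← F3, map_mul, map_mul, map_inv, e23, e02]
          rfl
      have hline := span_isSubspace (L := L) S _ ht.2.2.2 b' hb'S c hcS ht.2.2.1 (by simp) (by simp)
      exact hline (by simp)
    rintro x ⟨s, rfl⟩
    rcases sw_cases s with h | h | h | h | h | h
    · have : f s = b := Subtype.ext (by rw [hfval, h, e01])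
      rw [this]; exact hbS
    · have : f s = a := Subtype.ext (by rw [hfval, h, e12])
      rw [this]; exact haS
    · have : f s = b' := Subtype.ext (by rw [hfval, h, e02])
      rw [this]; exact hb'S
    · have : f s = c := Subtype.ext (by rw [hfval, h, e23])
      rw [this]; exact hcS
    · have : f s = c' := Subtype.ext (by rw [hfval, h, e13])
      rw [this]; exact hc'S
    · exact h03 _ (by rw [hfval, h])

end CaseAMain

section CaseB

variable {G : Type*} [Group G] {D : Set G} (hD : Cfsg.IsThreeTranspositionSet D)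
  (hconj : ∀ g : G, ∀ d ∈ D, g * d * g⁻¹ ∈ D)

theorem cj_comp (x y z : G) : cj x (cj y z) = cj (x * y) z := by
  unfold cj; group

include hD in
theorem mul_cj_eq {a c : G} (ha : a ∈ D) (hc : c ∈ D) (hnc : ¬ Commute a c) :
    c * cj a c = a * c := by
  unfold cj
  rw [inv_eq hD ha]
  have hb := braid hD ha hc hnc
  have ha2 := sq_eq_one hD ha
  calc c * (a * c * a) = (c * a * c) * a := by group
    _ = (a * c * a) * a := by rw [hb]
    _ = a * c * (a * a) := by group
    _ = a * c := by rw [ha2, mul_one]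

include hD hconj

/-- Conjugation by a member of `D` is an automorphism of the line system. -/
theorem tri_cj (x : D) {u v w : D} (h : Tri (threeTranspositionLines D) u v w) :
    Tri (threeTranspositionLines D) (cjD hconj x u) (cjD hconj x v) (cjD hconj x w) := by
  rw [tri_iff hD hconj] at h ⊢
  obtain ⟨h1, h2⟩ := h
  refine ⟨?_, ?_⟩
  · rw [cjD_val, cjD_val, commute_cj_iff]
    exact h1
  · rw [cjD_val, cjD_val, cjD_val, h2, cj_dist]

theorem cjD_cjD (x y : D) : cjD hconj x (cjD hconj x y) = y :=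
  Subtype.ext (cj_cj hD x.2 y.1)

theorem cjD_symm (x y : D) (hnc : ¬ Commute x.1 y.1) : cjD hconj x y = cjD hconj y x :=
  Subtype.ext (cj_symm hD x.2 y.2 hnc)

end CaseB

section CaseBLines

variable {G : Type*} [Group G] {D : Set G} (hD : Cfsg.IsThreeTranspositionSet D)
  (hconj : ∀ g : G, ∀ d ∈ D, g * d * g⁻¹ ∈ D)

include hD hconj

/-- The twelve lines of the affine plane generated by `a, b, c`. -/
theorem twelve_lines (a b c : D) (hab : ¬ Commute a.1 b.1) (hac : ¬ Commute a.1 c.1)
    (h1 : ¬ Commute b.1 c.1) (h2 : ¬ Commute b.1 (cjD hconj a c).1)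
    (h3 : ¬ Commute (cjD hconj a b).1 c.1)
    (h4 : ¬ Commute (cjD hconj a b).1 (cjD hconj a c).1) :
    let L := threeTranspositionLines D
    let b' := cjD hconj a b
    let c' := cjD hconj a c
    let e := cjD hconj c b
    let f := cjD hconj c' b
    let e1 := cjD hconj a e
    let f1 := cjD hconj a f
    Tri L a b b' ∧ Tri L a c c' ∧ Tri L b c e ∧ Tri L b c' f ∧ Tri L a e e1 ∧ Tri L a f f1 ∧
      Tri L b' c' e1 ∧ Tri L b' c f1 ∧ Tri L c f e1 ∧ Tri L c' f1 e ∧ Tri L b f1 e1 ∧
      Tri L b' f e := by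
  intro L b' c' e f e1 f1
  have hb'v : b'.1 = cj a.1 b.1 := rfl
  have hc'v : c'.1 = cj a.1 c.1 := rfl
  have hev : e.1 = cj c.1 b.1 := rfl
  have hfv : f.1 = cj c'.1 b.1 := rfl
  have he1v : e1.1 = cj a.1 e.1 := rfl
  have hf1v : f1.1 = cj a.1 f.1 := rfl
  have hba : ¬ Commute b.1 a.1 := fun h => hab h.symm
  have hca : ¬ Commute c.1 a.1 := fun h => hac h.symm
  have hcb : ¬ Commute c.1 b.1 := fun h => h1 h.symm
  have T1 : Tri L a b b' := by
    have := tri_of_nc hD hconj a b hab
    rwa [← cjD_symm hD hconj a b hab] at this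
  have T2 : Tri L a c c' := by
    have := tri_of_nc hD hconj a c hac
    rwa [← cjD_symm hD hconj a c hac] at this
  have T3 : Tri L b c e := tri_of_nc hD hconj b c h1
  have T4 : Tri L b c' f := tri_of_nc hD hconj b c' h2
  -- a and e do not commute
  have hae : ¬ Commute a.1 e.1 := by
    intro h
    -- conjugate by c
    have h5 : Commute (cj c.1 a.1) (cj c.1 e.1) := (commute_cj_iff _ _ _).mpr h
    rw [hev, cj_cj hD c.2, ← cj_symm hD a.2 c.2 hac] at h5
    exact h2 h5.symm
  have T5 : Tri L a e e1 := by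
    have := tri_of_nc hD hconj a e hae
    rwa [← cjD_symm hD hconj a e hae] at this
  have haf : ¬ Commute a.1 f.1 := by
    intro h
    have h5 : Commute (cj c'.1 a.1) (cj c'.1 f.1) := (commute_cj_iff _ _ _).mpr h
    rw [hfv, cj_cj hD c'.2] at h5
    -- cj c' a = c
    have h6 : cj c'.1 a.1 = c.1 := by
      rw [hc'v, cj_symm hD a.2 c.2 hac]
      exact cj_cj_right hD a.2 c.2 hac
    rw [h6] at h5
    exact h1 h5.symm
  have T6 : Tri L a f f1 := by
    have := tri_of_nc hD hconj a f haf
    rwa [← cjD_symm hD hconj a f haf] at this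
  have T7 : Tri L b' c' e1 := tri_cj hD hconj a T3
  have T8 : Tri L b' c f1 := by
    have := tri_cj hD hconj a T4
    rwa [cjD_cjD hD hconj a c] at this
  -- the key identity
  have key9 : cj c.1 f.1 = e1.1 := by
    rw [hfv, cj_comp, hc'v, mul_cj_eq hD a.2 c.2 hac, ← cj_comp, he1v, hev]
  have hcf : ¬ Commute c.1 f.1 := by
    intro h
    have h5 : cj c.1 f.1 = f.1 := (cj_eq_self_iff _ _).mpr h
    rw [key9, he1v, hev, cj_dist, hfv, ← hc'v] at h5
    -- cj c' (cj a b) = cj c' b
    have h6 := cj_injective _ h5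
    exact hab ((cj_eq_self_iff _ _).mp h6)
  have T9 : Tri L c f e1 := by
    rw [tri_iff hD hconj]
    refine ⟨hcf, ?_⟩
    rw [← cj_symm hD c.2 f.2 hcf]
    exact key9.symm
  have T10 : Tri L c' f1 e := by
    have := tri_cj hD hconj a T9
    rwa [cjD_cjD hD hconj a e] at this
  -- f1 = cj c b'
  have hf1' : f1.1 = cj c.1 b'.1 := by
    rw [hf1v, hfv, cj_dist, hc'v, cj_cj hD a.2, ← hb'v]
  have hb'c : ¬ Commute b'.1 c.1 := h3
  have key11 : cj b.1 f1.1 = e1.1 := by
    rw [hf1', ← cj_symm hD b'.2 c.2 hb'c, cj_comp, hb'v, mul_cj_eq hD a.2 b.2 hab, ← cj_comp,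
      cj_symm hD b.2 c.2 h1, he1v, hev]
  have hbf1 : ¬ Commute b.1 f1.1 := by
    intro h
    have h5 : cj b.1 f1.1 = f1.1 := (cj_eq_self_iff _ _).mpr h
    rw [key11, hf1', he1v, hev, cj_dist, ← hc'v, ← hb'v] at h5
    -- cj c' b' = cj c b'
    have hb'c' : ¬ Commute b'.1 c'.1 := h4
    rw [← cj_symm hD b'.2 c'.2 hb'c', ← cj_symm hD b'.2 c.2 hb'c] at h5
    have h6 := cj_injective _ h5
    rw [hc'v] at h6
    exact hac ((cj_eq_self_iff _ _).mp h6)
  have T11 : Tri L b f1 e1 := by
    rw [tri_iff hD hconj]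
    refine ⟨hbf1, ?_⟩
    rw [← cj_symm hD b.2 f1.2 hbf1]
    exact key11.symm
  have T12 : Tri L b' f e := by
    have := tri_cj hD hconj a T11
    rwa [cjD_cjD hD hconj a f, cjD_cjD hD hconj a e] at this
  exact ⟨T1, T2, T3, T4, T5, T6, T7, T8, T9, T10, T11, T12⟩

end CaseBLines

section AG3Model

abbrev P9 : Type := ZMod 3 × ZMod 3

/-- The six orderings of a triple. -/
def perms6 (t : P9 × P9 × P9) : List (P9 × P9 × P9) :=
  [(t.1, t.2.1, t.2.2), (t.2.1, t.1, t.2.2), (t.1, t.2.2, t.2.1), (t.2.2, t.1, t.2.1),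
    (t.2.1, t.2.2, t.1), (t.2.2, t.2.1, t.1)]

/-- The twelve lines of the affine plane of order three, in the order of `twelve_lines`. -/
def lines12 : List (P9 × P9 × P9) :=
  [((0,0),(1,0),(2,0)), ((0,0),(0,1),(0,2)), ((1,0),(0,1),(2,2)), ((1,0),(0,2),(2,1)),
   ((0,0),(2,2),(1,1)), ((0,0),(2,1),(1,2)), ((2,0),(0,2),(1,1)), ((2,0),(0,1),(1,2)),
   ((0,1),(2,1),(1,1)), ((0,2),(1,2),(2,2)), ((1,0),(1,2),(1,1)), ((2,0),(2,1),(2,2))]

set_option synthInstance.maxSize 2000 in
set_option synthInstance.maxHeartbeats 200000 in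
theorem lines12_cover : ∀ x y : P9, x ≠ y → ∃ t ∈ lines12, (x, y, -x - y) ∈ perms6 t := by
  decide +kernel

theorem zmod3_cases : ∀ i : ZMod 3, i = 0 ∨ i = 1 ∨ i = 2 := by decide

variable {X : Type*} {L : Set (Set X)}

/-- A configuration of nine points carrying the twelve lines of the affine plane. -/
theorem ag3_model (p : P9 → X)
    (h : ∀ t ∈ lines12, Tri L (p t.1) (p t.2.1) (p t.2.2)) :
    ∀ x y : P9, x ≠ y → Tri L (p x) (p y) (p (-x - y)) := by
  intro x y hxy
  obtain ⟨t, ht, hmem⟩ := lines12_cover x y hxy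
  have T := h t ht
  simp only [perms6, List.mem_cons, List.not_mem_nil, or_false, Prod.mk.injEq] at hmem
  rcases hmem with ⟨h1, h2, h3⟩ | ⟨h1, h2, h3⟩ | ⟨h1, h2, h3⟩ | ⟨h1, h2, h3⟩ | ⟨h1, h2, h3⟩ |
    ⟨h1, h2, h3⟩
  · rw [h3, h1, h2]; exact T
  · rw [h3, h1, h2]; exact tri_comm T
  · rw [h3, h1, h2]; exact tri_swap T
  · rw [h3, h1, h2]; exact tri_comm (tri_swap T)
  · rw [h3, h1, h2]; exact tri_swap (tri_comm T)
  · rw [h3, h1, h2]; exact tri_comm (tri_swap (tri_comm T))

end AG3Model

section CaseBMain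

theorem tri_mem_of_subspace {X : Type*} {L : Set (Set X)} {T : Set X} (hT : IsSubspace L T)
    {x y z : X} (h : Tri L x y z) (hx : x ∈ T) (hy : y ∈ T) : z ∈ T :=
  hT _ h.2.2.2 x hx y hy h.2.2.1 (by simp) (by simp) (by simp)

variable {G : Type*} [Group G] {D : Set G} (hD : Cfsg.IsThreeTranspositionSet D)
  (hconj : ∀ g : G, ∀ d ∈ D, g * d * g⁻¹ ∈ D)

include hD hconj

/-- Two lines through `a` with no commuting pair of points off `a` generate an affine plane. -/
theorem caseB (a b c : D) (hab : ¬ Commute a.1 b.1) (hac : ¬ Commute a.1 c.1)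
    (h1 : ¬ Commute b.1 c.1) (h2 : ¬ Commute b.1 (cjD hconj a c).1)
    (h3 : ¬ Commute (cjD hconj a b).1 c.1)
    (h4 : ¬ Commute (cjD hconj a b).1 (cjD hconj a c).1) :
    Isomorphic (restrict (threeTranspositionLines D)
      (span (threeTranspositionLines D)
        (({a, b, cjD hconj a b} : Set D) ∪ {a, c, cjD hconj a c}))) affinePlaneThree := by
  obtain ⟨T1, T2, T3, T4, T5, T6, T7, T8, T9, T10, T11, T12⟩ :=
    twelve_lines hD hconj a b c hab hac h1 h2 h3 h4
  set L := threeTranspositionLines D with hL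
  set b' := cjD hconj a b with hb'
  set c' := cjD hconj a c with hc'
  set e := cjD hconj c b with he
  set f := cjD hconj c' b with hf
  set e1 := cjD hconj a e with he1
  set f1 := cjD hconj a f with hf1
  let tbl : Fin 3 → Fin 3 → D := ![![a, c, c'], ![b, e1, f1], ![b', f, e]]
  let p : P9 → D := fun x => tbl x.1 x.2
  have hp : ∀ t ∈ lines12, Tri L (p t.1) (p t.2.1) (p t.2.2) := by
    intro t ht
    simp only [lines12, List.mem_cons, List.not_mem_nil, or_false] at ht
    rcases ht with rfl | rfl | rfl | rfl | rfl | rfl | rfl | rfl | rfl | rfl | rfl | rfl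
    exacts [T1, T2, T3, T4, T5, T6, T7, T8, T9, T10, T11, T12]
  have hall := ag3_model p hp
  have hPL : IsPartialLinear L := isPartialLinear hD hconj
  have hn3 : ∀ l ∈ L, l.ncard = 3 := line_ncard hD hconj
  let F : (Fin 2 → ZMod 3) → D := fun v => p (v 0, v 1)
  have hFall : ∀ u v : Fin 2 → ZMod 3, u ≠ v → Tri L (F u) (F v) (F (-u - v)) := by
    intro u v huv
    have hne : ((u 0, u 1) : P9) ≠ (v 0, v 1) := by
      intro hh
      apply huv
      ext i
      fin_cases i
      · exact congrArg Prod.fst hh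
      · exact congrArg Prod.snd hh
    exact hall _ _ hne
  have hFinj : Function.Injective F := by
    intro u v huv
    by_contra hne
    exact (hFall u v hne).2.2.1 huv
  set S : Set D := ({a, b, b'} : Set D) ∪ {a, c, c'} with hS
  have hsub : IsSubspace L (span L S) := span_isSubspace S
  have ha : a ∈ span L S := subset_span S (by simp [hS])
  have hb : b ∈ span L S := subset_span S (by simp [hS])
  have hb'm : b' ∈ span L S := subset_span S (by simp [hS])
  have hc : c ∈ span L S := subset_span S (by simp [hS])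
  have hc'm : c' ∈ span L S := subset_span S (by simp [hS])
  have hem : e ∈ span L S := tri_mem_of_subspace hsub T3 hb hc
  have hfm : f ∈ span L S := tri_mem_of_subspace hsub T4 hb hc'm
  have he1m : e1 ∈ span L S := tri_mem_of_subspace hsub T7 hb'm hc'm
  have hf1m : f1 ∈ span L S := tri_mem_of_subspace hsub T8 hb'm hc
  refine isomorphic_of_map hPL hn3 ag3_lines F hFinj ?_ ?_ S ?_ ?_
  · intro u v w h
    have hs := ag3_sum h
    have hw : w = -u - v := by linear_combination hs
    rw [hw]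
    exact hFall u v h.2.2.1
  · intro u v huv hno
    exact absurd ⟨_, ag3_tri huv⟩ hno
  · intro x hx
    simp only [hS, Set.mem_union, Set.mem_insert_iff, Set.mem_singleton_iff] at hx
    rcases hx with (rfl | rfl | rfl) | (rfl | rfl | rfl)
    · exact ⟨![0, 0], rfl⟩
    · exact ⟨![1, 0], rfl⟩
    · exact ⟨![2, 0], rfl⟩
    · exact ⟨![0, 0], rfl⟩
    · exact ⟨![0, 1], rfl⟩
    · exact ⟨![0, 2], rfl⟩
  · rintro x ⟨v, rfl⟩
    show tbl (v 0) (v 1) ∈ span L S
    rcases zmod3_cases (v 0) with h0 | h0 | h0 <;> rcases zmod3_cases (v 1) with h1' | h1' | h1' <;>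
      rw [h0, h1']
    exacts [ha, hc, hc'm, hb, he1m, hf1m, hb'm, hfm, hem]

end CaseBMain

section Main

variable {G : Type*} [Group G] {D : Set G} (hD : Cfsg.IsThreeTranspositionSet D)
  (hconj : ∀ g : G, ∀ d ∈ D, g * d * g⁻¹ ∈ D)

include hD hconj

/-- The line system of a conjugation-invariant set of 3-transpositions is a Fischer space. -/
theorem isFischerSpace : IsFischerSpace (threeTranspositionLines D) := by
  have hPL : IsPartialLinear (threeTranspositionLines D) := isPartialLinear hD hconj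
  have hn3 := line_ncard hD hconj
  refine ⟨hPL, hn3, ?_⟩
  rintro l hl m hm hne ⟨a, hal, ham⟩
  obtain ⟨b, b', hlT, rfl⟩ := exists_tri_of_mem hn3 hl hal
  obtain ⟨c, c', hmT, rfl⟩ := exists_tri_of_mem hn3 hm ham
  -- points off `a` on the two lines are different
  have hdiff : ∀ x ∈ ({a, b, b'} : Set D), ∀ y ∈ ({a, c, c'} : Set D), x ≠ a → x ≠ y := by
    intro x hx y hy hxa hxy
    subst hxy
    exact hne (hPL _ hl _ hm a x (Ne.symm hxa) hal hx ham hy)
  have hba : b ≠ a := fun h => hlT.2.2.1 h.symm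
  have hb'a : b' ≠ a := hlT.1
  have hbc : b ≠ c := hdiff b (by simp) c (by simp) hba
  have hbc' : b ≠ c' := hdiff b (by simp) c' (by simp) hba
  have hb'c : b' ≠ c := hdiff b' (by simp) c (by simp) hb'a
  have hb'c' : b' ≠ c' := hdiff b' (by simp) c' (by simp) hb'a
  have eb : ({a, b', b} : Set D) = {a, b, b'} := by
    ext w; simp only [Set.mem_insert_iff, Set.mem_singleton_iff]; tauto
  have ec : ({a, c', c} : Set D) = {a, c, c'} := by
    ext w; simp only [Set.mem_insert_iff, Set.mem_singleton_iff]; tauto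
  by_cases k1 : Commute b.1 c.1
  · exact Or.inl (caseA hD hconj a b b' c c' hlT hmT k1 hbc)
  by_cases k2 : Commute b.1 c'.1
  · have := caseA hD hconj a b b' c' c hlT (tri_swap hmT) k2 hbc'
    rw [ec] at this
    exact Or.inl this
  by_cases k3 : Commute b'.1 c.1
  · have := caseA hD hconj a b' b c c' (tri_swap hlT) hmT k3 hb'c
    rw [eb] at this
    exact Or.inl this
  by_cases k4 : Commute b'.1 c'.1
  · have := caseA hD hconj a b' b c' c (tri_swap hlT) (tri_swap hmT) k4 hb'c'
    rw [eb, ec] at this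
    exact Or.inl this
  -- no commuting pair: the affine plane
  obtain ⟨hab, hb'v⟩ := (tri_iff hD hconj a b b').mp hlT
  obtain ⟨hac, hc'v⟩ := (tri_iff hD hconj a c c').mp hmT
  have eb' : b' = cjD hconj a b := by
    apply Subtype.ext
    rw [hb'v, cjD_val, cj_symm hD a.2 b.2 hab]
  have ec' : c' = cjD hconj a c := by
    apply Subtype.ext
    rw [hc'v, cjD_val, cj_symm hD a.2 c.2 hac]
  subst eb' ec'
  exact Or.inr (caseB hD hconj a b c hab hac k1 k2 k3 k4)

end Main

end Cfsg.Agent.Helper4.TTLines
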