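import Mathlib
import Cfsg.Agent.Helper4.JordanNormal

set_option autoImplicit false
set_option linter.style.haveILetI false
set_option linter.unusedSectionVars false

/-!
# Wagner's theorem on normal subgroups of triply transitive groups of odd degree
-/

namespace Cfsg.Agent.Helper4.Wagner

open MulAction

section Fixed

/-- A `p`-group acting on a set fixes a point of every invariant finite subset whose cardinality
is prime to `p`. -/
theorem exists_fixed_of_invariant {G α : Type*} [Group G] [MulAction G α] {p : ℕ} [Fact p.Prime]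
    (S : Subgroup G) (hS : IsPGroup p S) (T : Set α) (hinv : ∀ s ∈ S, ∀ x ∈ T, s • x ∈ T)
    (hcard : ¬ p ∣ Nat.card T) : ∃ x ∈ T, ∀ s ∈ S, s • x = x := by
  let A : SubMulAction S α :=
    { carrier := T
      smul_mem' := fun s x hx => hinv s.1 s.2 x hx }
  have hne := hS.nonempty_fixed_point_of_prime_not_dvd_card A hcard
  obtain ⟨⟨x, hxT⟩, hx⟩ := hne
  refine ⟨x, hxT, fun s hs => ?_⟩
  have := hx ⟨s, hs⟩
  exact congrArg Subtype.val this

theorem two_mul_sylow_not_dvd {H : Type*} [Group H] [Finite H] (S : Sylow 2 H) :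
    ¬ 2 * Nat.card S ∣ Nat.card H := by
  haveI : Fact (Nat.Prime 2) := ⟨Nat.prime_two⟩
  rw [Sylow.card_eq_multiplicity, ← pow_succ']
  exact Nat.pow_succ_factorization_not_dvd Nat.card_pos.ne' Nat.prime_two

end Fixed

section Stabs
variable {G : Type*} [Group G] {α : Type*} [MulAction G α] (N : Subgroup G)

/-- The setwise stabiliser in `N` of the pair `{a, b}`. -/
def pairStab (a b : α) : Subgroup G where
  carrier := {x | x ∈ N ∧ ((x • a = a ∧ x • b = b) ∨ (x • a = b ∧ x • b = a))}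
  one_mem' := ⟨N.one_mem, Or.inl ⟨one_smul _ _, one_smul _ _⟩⟩
  mul_mem' := by
    rintro x y ⟨hxN, hx⟩ ⟨hyN, hy⟩
    refine ⟨N.mul_mem hxN hyN, ?_⟩
    rcases hx with ⟨hxa, hxb⟩ | ⟨hxa, hxb⟩ <;> rcases hy with ⟨hya, hyb⟩ | ⟨hya, hyb⟩
    · left; rw [mul_smul, mul_smul, hya, hyb, hxa, hxb]; exact ⟨rfl, rfl⟩
    · right; rw [mul_smul, mul_smul, hya, hyb, hxa, hxb]; exact ⟨rfl, rfl⟩
    · right; rw [mul_smul, mul_smul, hya, hyb, hxa, hxb]; exact ⟨rfl, rfl⟩
    · left; rw [mul_smul, mul_smul, hya, hyb, hxa, hxb]; exact ⟨rfl, rfl⟩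
  inv_mem' := by
    rintro x ⟨hxN, hx⟩
    refine ⟨N.inv_mem hxN, ?_⟩
    rcases hx with ⟨hxa, hxb⟩ | ⟨hxa, hxb⟩
    · left
      rw [inv_smul_eq_iff, inv_smul_eq_iff, hxa, hxb]
      exact ⟨rfl, rfl⟩
    · right
      rw [inv_smul_eq_iff, inv_smul_eq_iff, hxa, hxb]
      exact ⟨rfl, rfl⟩

theorem mem_pairStab {a b : α} {x : G} : x ∈ pairStab N a b ↔
    x ∈ N ∧ ((x • a = a ∧ x • b = b) ∨ (x • a = b ∧ x • b = a)) := Iff.rfl

/-- The pointwise stabiliser in `N` of `a` and `b`. -/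
def ptStab (a b : α) : Subgroup G where
  carrier := {x | x ∈ N ∧ x • a = a ∧ x • b = b}
  one_mem' := ⟨N.one_mem, one_smul _ _, one_smul _ _⟩
  mul_mem' := by
    rintro x y ⟨hxN, hxa, hxb⟩ ⟨hyN, hya, hyb⟩
    refine ⟨N.mul_mem hxN hyN, ?_, ?_⟩
    · rw [mul_smul, hya, hxa]
    · rw [mul_smul, hyb, hxb]
  inv_mem' := by
    rintro x ⟨hxN, hxa, hxb⟩
    refine ⟨N.inv_mem hxN, ?_, ?_⟩
    · rw [inv_smul_eq_iff, hxa]
    · rw [inv_smul_eq_iff, hxb]

theorem mem_ptStab {a b : α} {x : G} : x ∈ ptStab N a b ↔ x ∈ N ∧ x • a = a ∧ x • b = b :=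
  Iff.rfl

theorem ptStab_le_pairStab (a b : α) : ptStab N a b ≤ pairStab N a b :=
  fun _ hx => ⟨hx.1, Or.inl hx.2⟩

/-- The pointwise stabiliser has index two in the setwise stabiliser as soon as some element
swaps the two points. -/
theorem card_pairStab {a b : α} (hab : a ≠ b) (t : G) (htN : t ∈ N) (hta : t • a = b)
    (htb : t • b = a) : Nat.card (pairStab N a b) = Nat.card (ptStab N a b) * 2 := by
  have hrel : (ptStab N a b).relIndex (pairStab N a b) = 2 := by
    rw [Subgroup.relIndex_eq_two_iff]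
    refine ⟨t, ⟨htN, Or.inr ⟨hta, htb⟩⟩, ?_⟩
    rintro x ⟨hxN, hx⟩
    rcases hx with ⟨hxa, hxb⟩ | ⟨hxa, hxb⟩
    · refine Or.inr ⟨⟨hxN, hxa, hxb⟩, ?_⟩
      rintro ⟨_, h1, _⟩
      rw [mul_smul, hta, hxb] at h1
      exact hab h1.symm
    · refine Or.inl ⟨⟨N.mul_mem hxN htN, ?_, ?_⟩, ?_⟩
      · rw [mul_smul, hta, hxb]
      · rw [mul_smul, htb, hxa]
      · rintro ⟨_, h1, _⟩
        rw [hxa] at h1
        exact hab h1.symm
  have h1 := Subgroup.relIndex_mul_relIndex (H := ⊥) (K := ptStab N a b) (L := pairStab N a b)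
    bot_le (ptStab_le_pairStab N a b)
  rw [Subgroup.relIndex_bot_left, Subgroup.relIndex_bot_left, hrel] at h1
  exact h1.symm

/-- Conjugate pointwise stabilisers have the same order. -/
theorem card_ptStab_conj (a b : α) (n : G) (hn : n ∈ N) :
    Nat.card (ptStab N (n • a) (n • b)) = Nat.card (ptStab N a b) := by
  have h : ptStab N (n • a) (n • b) = (ptStab N a b).map (MulAut.conj n).toMonoidHom := by
    ext x
    rw [Subgroup.mem_map]
    constructor
    · rintro ⟨hxN, hxa, hxb⟩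
      refine ⟨n⁻¹ * x * n, ⟨N.mul_mem (N.mul_mem (N.inv_mem hn) hxN) hn, ?_, ?_⟩, ?_⟩
      · rw [mul_smul, mul_smul, hxa, inv_smul_smul]
      · rw [mul_smul, mul_smul, hxb, inv_smul_smul]
      · change n * (n⁻¹ * x * n) * n⁻¹ = x
        group
    · rintro ⟨y, ⟨hyN, hya, hyb⟩, rfl⟩
      change n * y * n⁻¹ ∈ ptStab N (n • a) (n • b)
      refine ⟨N.mul_mem (N.mul_mem hn hyN) (N.inv_mem hn), ?_, ?_⟩
      · rw [mul_smul, mul_smul, inv_smul_smul, hya]
      · rw [mul_smul, mul_smul, inv_smul_smul, hyb]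
  rw [h]
  exact Subgroup.card_map_of_injective (MulAut.conj n).injective

end Stabs

section Core
variable {G : Type*} [Group G] [Finite G] {α : Type*} [MulAction G α] [Finite α]
  (N : Subgroup G) [N.Normal]

/-- The core of Wagner's theorem: a doubly transitive normal subgroup `N` of a group `G` acting
on a set of odd cardinality such that two-point stabilisers in `G` are transitive on the remaining
points has the same property. -/
theorem wagner_core (hodd : Odd (Nat.card α))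
    (hN2 : ∀ a b c d : α, a ≠ b → c ≠ d → ∃ n ∈ N, n • a = c ∧ n • b = d)
    (hG3 : ∀ a b γ δ : α, a ≠ b → γ ≠ a → γ ≠ b → δ ≠ a → δ ≠ b →
      ∃ g : G, g • a = a ∧ g • b = b ∧ g • γ = δ) :
    ∀ a b γ δ : α, a ≠ b → γ ≠ a → γ ≠ b → δ ≠ a → δ ≠ b →
      ∃ n ∈ N, n • a = a ∧ n • b = b ∧ n • γ = δ := by
  classical
  haveI : Fact (Nat.Prime 2) := ⟨Nat.prime_two⟩
  intro a b γ δ hab hγa hγb hδa hδb
  obtain ⟨t, htN, hta, htb⟩ := hN2 a b b a hab hab.symm
  have hcardH := card_pairStab N hab t htN hta htb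
  obtain ⟨S⟩ : Nonempty (Sylow 2 (pairStab N a b)) := inferInstance
  have hSp : IsPGroup 2 (S : Subgroup (pairStab N a b)) := S.isPGroup'
  have hSnd := two_mul_sylow_not_dvd S
  -- `S` cannot fix two distinct points
  have L3 : ∀ γ δ : α, γ ≠ δ →
      (∀ s ∈ (S : Subgroup (pairStab N a b)), ((s : pairStab N a b) : G) • γ = γ) →
      (∀ s ∈ (S : Subgroup (pairStab N a b)), ((s : pairStab N a b) : G) • δ = δ) → False := by
    intro γ δ hγδ hfγ hfδ
    obtain ⟨n, hnN, hna, hnb⟩ := hN2 a b γ δ hab hγδ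
    have hle : (S : Subgroup (pairStab N a b)).map (pairStab N a b).subtype ≤ ptStab N γ δ := by
      rintro _ ⟨s, hs, rfl⟩
      exact ⟨s.2.1, hfγ s hs, hfδ s hs⟩
    have h1 := Subgroup.card_dvd_of_le hle
    rw [Subgroup.card_map_of_injective (Subgroup.subtype_injective _), ← hna, ← hnb,
      card_ptStab_conj N a b n hnN] at h1
    apply hSnd
    rw [hcardH, mul_comm]
    exact Nat.mul_dvd_mul_right h1 2
  -- an element of `S` swapping `a` and `b`
  have L4 : ∃ x ∈ (S : Subgroup (pairStab N a b)), ((x : pairStab N a b) : G) • a = b ∧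
      ((x : pairStab N a b) : G) • b = a := by
    by_contra hcon
    push Not at hcon
    have hfix : ∀ s ∈ (S : Subgroup (pairStab N a b)),
        ((s : pairStab N a b) : G) • a = a ∧ ((s : pairStab N a b) : G) • b = b := by
      intro s hs
      rcases s.2.2 with h | h
      · exact h
      · exact absurd h.2 (hcon s hs h.1)
    exact L3 a b hab (fun s hs => (hfix s hs).1) (fun s hs => (hfix s hs).2)
  obtain ⟨x, hxS, hxa, hxb⟩ := L4
  -- a fixed point of `S`
  obtain ⟨γ₀, -, hγ₀⟩ := exists_fixed_of_invariant (S : Subgroup (pairStab N a b)) hSp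
    (Set.univ : Set α) (fun _ _ _ _ => Set.mem_univ _) (by
      rw [Nat.card_coe_set_eq, Set.ncard_univ]
      intro h2
      exact (Nat.not_even_iff_odd.mpr hodd) (even_iff_two_dvd.mpr h2))
  have hγ₀' : ∀ s ∈ (S : Subgroup (pairStab N a b)), ((s : pairStab N a b) : G) • γ₀ = γ₀ :=
    fun s hs => hγ₀ s hs
  have hγ₀a : γ₀ ≠ a := by
    rintro rfl
    have := hγ₀' x hxS
    rw [hxa] at this
    exact hab this.symm
  have hγ₀b : γ₀ ≠ b := by
    rintro rfl
    have := hγ₀' x hxS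
    rw [hxb] at this
    exact hab this
  -- the orbit of `γ₀` has odd length
  have L5 : ¬ 2 ∣ (orbit (pairStab N a b) γ₀).ncard := by
    intro h2
    have h1 := Subgroup.card_mul_index (stabilizer (pairStab N a b) γ₀)
    rw [index_stabilizer] at h1
    have hle : (S : Subgroup (pairStab N a b)) ≤ stabilizer (pairStab N a b) γ₀ := by
      intro s hs
      rw [mem_stabilizer_iff]
      exact hγ₀' s hs
    have h3 := Subgroup.card_dvd_of_le hle
    apply hSnd
    rw [← h1, mul_comm]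
    exact Nat.mul_dvd_mul h3 h2
  -- all orbits outside `{a, b}` have the same length
  have L6 : ∀ γ : α, γ ≠ a → γ ≠ b →
      (orbit (pairStab N a b) γ).ncard = (orbit (pairStab N a b) γ₀).ncard := by
    intro γ hγa hγb
    obtain ⟨g, hga, hgb, hgγ⟩ := hG3 a b γ₀ γ hab hγ₀a hγ₀b hγa hγb
    have hga' : g⁻¹ • a = a := by rw [inv_smul_eq_iff, hga]
    have hgb' : g⁻¹ • b = b := by rw [inv_smul_eq_iff, hgb]
    have himg : orbit (pairStab N a b) γ = (fun y => g • y) '' orbit (pairStab N a b) γ₀ := by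
      ext y
      rw [Set.mem_image]
      constructor
      · rintro ⟨h, rfl⟩
        have hmem : g⁻¹ * (h : G) * g ∈ pairStab N a b := by
          refine ⟨?_, ?_⟩
          · have := ‹N.Normal›.conj_mem (h : G) h.2.1 g⁻¹
            rwa [inv_inv] at this
          · rcases h.2.2 with ⟨h1, h2⟩ | ⟨h1, h2⟩
            · left
              rw [mul_smul, mul_smul, mul_smul, mul_smul, hga, hgb, h1, h2]
              exact ⟨hga', hgb'⟩
            · right
              rw [mul_smul, mul_smul, mul_smul, mul_smul, hga, hgb, h1, h2]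
              exact ⟨hgb', hga'⟩
        refine ⟨(⟨g⁻¹ * (h : G) * g, hmem⟩ : pairStab N a b) • γ₀, ⟨_, rfl⟩, ?_⟩
        change g • ((g⁻¹ * (h : G) * g) • γ₀) = (h : G) • γ
        rw [mul_smul, mul_smul, hgγ, smul_inv_smul]
      · rintro ⟨z, ⟨h, rfl⟩, rfl⟩
        have hmem : g * (h : G) * g⁻¹ ∈ pairStab N a b := by
          refine ⟨‹N.Normal›.conj_mem (h : G) h.2.1 g, ?_⟩
          rcases h.2.2 with ⟨h1, h2⟩ | ⟨h1, h2⟩
          · left
            rw [mul_smul, mul_smul, mul_smul, mul_smul, hga', hgb', h1, h2]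
            exact ⟨hga, hgb⟩
          · right
            rw [mul_smul, mul_smul, mul_smul, mul_smul, hga', hgb', h1, h2]
            exact ⟨hgb, hga⟩
        refine ⟨(⟨g * (h : G) * g⁻¹, hmem⟩ : pairStab N a b), ?_⟩
        change (g * (h : G) * g⁻¹) • γ = g • ((h : G) • γ₀)
        rw [mul_smul, mul_smul, ← hgγ, inv_smul_smul]
    rw [himg]
    exact Set.ncard_image_of_injective _ (MulAction.injective g)
  -- the setwise stabiliser is transitive outside `{a, b}`
  have L7 : ∀ γ : α, γ ≠ a → γ ≠ b → ∃ h ∈ pairStab N a b, h • γ = γ₀ := by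
    intro γ hγa hγb
    obtain ⟨δ, hδorb, hδfix⟩ := exists_fixed_of_invariant (S : Subgroup (pairStab N a b)) hSp
      (orbit (pairStab N a b) γ) (by
        rintro s _ _ ⟨h, rfl⟩
        exact ⟨s * h, mul_smul _ _ _⟩) (by
        rw [Nat.card_coe_set_eq, L6 γ hγa hγb]
        exact L5)
    have hδγ₀ : δ = γ₀ := by
      by_contra hne
      exact L3 δ γ₀ hne (fun s hs => hδfix s hs) hγ₀'
    rw [hδγ₀] at hδorb
    obtain ⟨h, hh⟩ := hδorb
    exact ⟨(h : G), h.2, hh⟩
  -- the pointwise stabiliser is transitive outside `{a, b}`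
  have L8 : ∀ γ : α, γ ≠ a → γ ≠ b → ∃ k ∈ ptStab N a b, k • γ = γ₀ := by
    intro γ hγa hγb
    obtain ⟨h, ⟨hhN, hh⟩, hhγ⟩ := L7 γ hγa hγb
    rcases hh with ⟨h1, h2⟩ | ⟨h1, h2⟩
    · exact ⟨h, ⟨hhN, h1, h2⟩, hhγ⟩
    · refine ⟨((x : pairStab N a b) : G) * h, ⟨N.mul_mem (x : pairStab N a b).2.1 hhN, ?_, ?_⟩, ?_⟩
      · rw [mul_smul, h1, hxb]
      · rw [mul_smul, h2, hxa]
      · rw [mul_smul, hhγ]
        exact hγ₀' x hxS
  obtain ⟨k₁, hk₁, hk₁γ⟩ := L8 γ hγa hγb
  obtain ⟨k₂, hk₂, hk₂δ⟩ := L8 δ hδa hδb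
  have hk := (ptStab N a b).mul_mem ((ptStab N a b).inv_mem hk₂) hk₁
  refine ⟨k₂⁻¹ * k₁, hk.1, hk.2.1, hk.2.2, ?_⟩
  rw [mul_smul, hk₁γ, inv_smul_eq_iff, hk₂δ]

end Core

end Cfsg.Agent.Helper4.Wagner
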