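import Mathlib

/-!
# Witt's lemma on transitive extensions
-/

set_option autoImplicit false

namespace Cfsg.Agent.Helper4.WittLemma

open Equiv MulAction

variable {α : Type*}

/-- One step of Witt's lemma: adjoining `s` to `K` does not enlarge the stabiliser of the new
point `z`. -/
theorem step_stabilizer (K : Subgroup (Perm α)) (y z : α) (u s : Perm α) (hu : u ∈ K)
    (hfix : ∀ k ∈ K, k z = z) (hyz : y ≠ z) (hsz : s z = y)
    (htrans : ∀ k ∈ K, k y ≠ y → ∃ a ∈ K, a y = y ∧ a (u y) = k y)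
    (hnorm : ∀ k ∈ K, k y = y → s * k * s⁻¹ ∈ K ∧ (s * k * s⁻¹) y = y)
    (hs2 : s ^ 2 ∈ K) (hs2y : (s ^ 2) y = y)
    (hbraid : (u * s) ^ 3 ∈ K) :
    ∀ g ∈ Subgroup.closure ((K : Set (Perm α)) ∪ {s}), g z = z → g ∈ K := by
  classical
  -- inverse of `s`
  have hsinv : s⁻¹ = (s ^ 2)⁻¹ * s := by group
  have hs2i : (s ^ 2)⁻¹ ∈ K := K.inv_mem hs2
  have hs2iy : ((s ^ 2)⁻¹) y = y := by
    rw [Perm.inv_eq_iff_eq]; exact hs2y.symm
  -- conjugation by `s⁻¹`
  have hnorm' : ∀ k ∈ K, k y = y → s⁻¹ * k * s ∈ K := by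
    intro k hk hky
    have h1 := hnorm k hk hky
    have : s⁻¹ * k * s = (s ^ 2)⁻¹ * (s * k * s⁻¹) * s ^ 2 := by group
    rw [this]
    exact K.mul_mem (K.mul_mem hs2i h1.1) hs2
  -- the set `K ∪ K s K`
  let P : Perm α → Prop := fun g => g ∈ K ∨ ∃ k ∈ K, ∃ k' ∈ K, g = k * s * k'
  have hPK : ∀ g, g ∈ K → P g := fun g hg => Or.inl hg
  have hPl : ∀ k ∈ K, ∀ g, P g → P (k * g) := by
    rintro k hk g (hg | ⟨k1, hk1, k2, hk2, rfl⟩)
    · exact Or.inl (K.mul_mem hk hg)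
    · exact Or.inr ⟨k * k1, K.mul_mem hk hk1, k2, hk2, by group⟩
  have hPr : ∀ k ∈ K, ∀ g, P g → P (g * k) := by
    rintro k hk g (hg | ⟨k1, hk1, k2, hk2, rfl⟩)
    · exact Or.inl (K.mul_mem hg hk)
    · exact Or.inr ⟨k1, hk1, k2 * k, K.mul_mem hk2 hk, by group⟩
  -- `s u s`
  have hsus : P (s * u * s) := by
    have e : s * u * s = u⁻¹ * ((u * s) ^ 3 * (s ^ 2)⁻¹) * s * u⁻¹ := by
      have e3 : (u * s) ^ 3 = u * s * (u * s) * (u * s) := by rw [pow_succ, pow_two]
      rw [e3]; group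
    rw [e]
    exact Or.inr ⟨u⁻¹ * ((u * s) ^ 3 * (s ^ 2)⁻¹),
      K.mul_mem (K.inv_mem hu) (K.mul_mem hbraid hs2i), u⁻¹, K.inv_mem hu, rfl⟩
  -- `s k s`
  have hsks : ∀ k ∈ K, P (s * k * s) := by
    intro k hk
    by_cases hky : k y = y
    · have h1 := (hnorm k hk hky).1
      have e : s * k * s = (s * k * s⁻¹) * s ^ 2 := by group
      rw [e]
      exact Or.inl (K.mul_mem h1 hs2)
    · obtain ⟨a, ha, hay, hau⟩ := htrans k hk hky
      -- `b = (a u)⁻¹ k` fixes `y`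
      have hb : (a * u)⁻¹ * k ∈ K := K.mul_mem (K.inv_mem (K.mul_mem ha hu)) hk
      have hby : ((a * u)⁻¹ * k) y = y := by
        rw [Perm.mul_apply, Perm.inv_eq_iff_eq, Perm.mul_apply]; exact hau.symm
      have e : s * k * s = (s * a * s⁻¹) * (s * u * s) * (s⁻¹ * ((a * u)⁻¹ * k) * s) := by group
      rw [e]
      exact hPr _ (hnorm' _ hb hby) _ (hPl _ (hnorm a ha hay).1 _ hsus)
  have hPmul : ∀ g h, P g → P h → P (g * h) := by
    rintro g h (hg | ⟨k1, hk1, k2, hk2, rfl⟩) hh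
    · exact hPl g hg h hh
    · rcases hh with hh | ⟨k3, hk3, k4, hk4, rfl⟩
      · exact hPr h hh _ (Or.inr ⟨k1, hk1, k2, hk2, rfl⟩)
      · have e : k1 * s * k2 * (k3 * s * k4) = k1 * (s * (k2 * k3) * s) * k4 := by group
        rw [e]
        exact hPr k4 hk4 _ (hPl k1 hk1 _ (hsks _ (K.mul_mem hk2 hk3)))
  have hPinv : ∀ g, P g → P g⁻¹ := by
    rintro g (hg | ⟨k1, hk1, k2, hk2, rfl⟩)
    · exact Or.inl (K.inv_mem hg)
    · have e : (k1 * s * k2)⁻¹ = (k2⁻¹ * (s ^ 2)⁻¹) * s * k1⁻¹ := by group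
      rw [e]
      exact Or.inr ⟨_, K.mul_mem (K.inv_mem hk2) hs2i, _, K.inv_mem hk1, rfl⟩
  let M : Subgroup (Perm α) :=
    { carrier := {g | P g}
      mul_mem' := fun {a b} ha hb => hPmul a b ha hb
      one_mem' := Or.inl K.one_mem
      inv_mem' := fun {a} ha => hPinv a ha }
  have hle : Subgroup.closure ((K : Set (Perm α)) ∪ {s}) ≤ M := by
    rw [Subgroup.closure_le]
    rintro g (hg | hg)
    · exact Or.inl hg
    · rw [Set.mem_singleton_iff] at hg
      subst hg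
      exact Or.inr ⟨1, K.one_mem, 1, K.one_mem, by group⟩
  intro g hg hgz
  rcases hle hg with h | ⟨k1, hk1, k2, hk2, rfl⟩
  · exact h
  · exfalso
    rw [Perm.mul_apply, Perm.mul_apply, hfix k2 hk2, hsz] at hgz
    -- `k1 y = z` is impossible
    have : k1 z = z := hfix k1 hk1
    exact hyz (k1.injective (hgz.trans this.symm))

theorem injective_pair {β : Type*} {a b : β} (h : a ≠ b) : Function.Injective ![a, b] := by
  intro i j hij
  fin_cases i <;> fin_cases j
  · rfl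
  · exact absurd hij h
  · exact absurd hij.symm h
  · rfl

theorem forall_pair {β : Type*} {P : β → Prop} {a b : β} (ha : P a) (hb : P b) :
    ∀ l, P (![a, b] l) := by
  intro l
  fin_cases l
  · exact ha
  · exact hb

section Main

theorem witt (t : ℕ) (ht : 2 ≤ t) (q : ℕ → α)
    (hq : ∀ i j : ℕ, 1 ≤ i → i ≤ t → 1 ≤ j → j ≤ t → q i = q j → i = j)
    (G : Subgroup (Equiv.Perm α))
    (hfix : ∀ g ∈ G, ∀ i : ℕ, 3 ≤ i → i ≤ t → g (q i) = q i)
    (h2 : ∀ a b c d : α, (∀ i, 3 ≤ i → i ≤ t → a ≠ q i ∧ b ≠ q i ∧ c ≠ q i ∧ d ≠ q i) →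
      a ≠ b → c ≠ d → ∃ g ∈ G, g a = c ∧ g b = d)
    (s : ℕ → Equiv.Perm α) (hs1 : s 1 ∈ G) (hs1q : s 1 (q 1) = q 2 ∧ s 1 (q 2) = q 1)
    (hsq : ∀ i : ℕ, 2 ≤ i → i + 1 ≤ t → s i (q i) = q (i + 1) ∧ s i (q (i + 1)) = q i ∧
      ∀ j : ℕ, 1 ≤ j → j ≤ t → j ≠ i → j ≠ i + 1 → s i (q j) = q j)
    (H : Subgroup (Equiv.Perm α))
    (hH : H = G ⊓ MulAction.stabilizer (Equiv.Perm α) (q 1) ⊓
      MulAction.stabilizer (Equiv.Perm α) (q 2))
    (hsq2 : ∀ i : ℕ, 1 ≤ i → i + 1 ≤ t → s i ^ 2 ∈ H)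
    (hbraid : ∀ i : ℕ, 1 ≤ i → i + 2 ≤ t → (s i * s (i + 1)) ^ 3 ∈ H)
    (hcomm : ∀ i j : ℕ, 1 ≤ i → i + 2 ≤ j → j + 1 ≤ t →
      (s i * s j) ^ 2 ∈ H ∧ (s j * s i) ^ 2 ∈ H)
    (hnorm : ∀ i : ℕ, 2 ≤ i → i + 1 ≤ t →
      ∀ g ∈ G ⊓ MulAction.stabilizer (Equiv.Perm α) (q 2),
        s i * g * (s i)⁻¹ ∈ G ⊓ MulAction.stabilizer (Equiv.Perm α) (q 2)) :
    MulAction.IsMultiplyPretransitive
      ↥(Subgroup.closure ((G : Set (Equiv.Perm α)) ∪
        {x | ∃ i : ℕ, 2 ≤ i ∧ i + 1 ≤ t ∧ x = s i})) α t ∧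
    Subgroup.closure ((G : Set (Equiv.Perm α)) ∪ {x | ∃ i : ℕ, 2 ≤ i ∧ i + 1 ≤ t ∧ x = s i}) ⊓
      fixingSubgroup (Equiv.Perm α) {x | ∃ i : ℕ, 1 ≤ i ∧ i ≤ t ∧ x = q i} = H := by
  -- the chain of groups
  let KK : ℕ → Subgroup (Perm α) := fun j =>
    Subgroup.closure ((G : Set (Perm α)) ∪ {x | ∃ i : ℕ, 2 ≤ i ∧ i + 1 ≤ j ∧ x = s i})
  have hKK : ∀ j, KK j =
    Subgroup.closure ((G : Set (Perm α)) ∪ {x | ∃ i : ℕ, 2 ≤ i ∧ i + 1 ≤ j ∧ x = s i}) :=
    fun j => rfl
  have hG_le : ∀ j, G ≤ KK j := fun j g hg =>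
    Subgroup.subset_closure (Or.inl hg)
  have hs_mem : ∀ i j, 2 ≤ i → i + 1 ≤ j → s i ∈ KK j := fun i j h1 h2 =>
    Subgroup.subset_closure (Or.inr ⟨i, h1, h2, rfl⟩)
  have hmono : ∀ j j', j ≤ j' → KK j ≤ KK j' := by
    intro j j' hjj'
    apply Subgroup.closure_mono
    rintro x (hx | ⟨i, h1, h2, rfl⟩)
    · exact Or.inl hx
    · exact Or.inr ⟨i, h1, by omega, rfl⟩
  have hKK2 : KK 2 = G := by
    apply le_antisymm
    · rw [hKK, Subgroup.closure_le]
      rintro x (hx | ⟨i, h1, h2, rfl⟩)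
      · exact hx
      · omega
    · exact hG_le 2
  have hsucc : ∀ j, KK (j + 1) ≤ Subgroup.closure ((KK j : Set (Perm α)) ∪ {s j}) := by
    intro j
    rw [hKK (j + 1), Subgroup.closure_le]
    rintro x (hx | ⟨i, h1, h2, rfl⟩)
    · exact Subgroup.subset_closure (Or.inl (hG_le j hx))
    · by_cases hij : i = j
      · subst hij; exact Subgroup.subset_closure (Or.inr rfl)
      · exact Subgroup.subset_closure (Or.inl (hs_mem i j h1 (by omega)))
  -- fixed points
  have hKfix : ∀ j, ∀ k ∈ KK j, ∀ i, 3 ≤ i → j + 1 ≤ i → i ≤ t → k (q i) = q i := by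
    intro j k hk i hi3 hji hit
    induction hk using Subgroup.closure_induction with
    | mem x hx =>
      rcases hx with hx | ⟨i', h1, h2, rfl⟩
      · exact hfix x hx i hi3 hit
      · by_cases hi't : i' + 1 ≤ t
        · exact (hsq i' h1 hi't).2.2 i (by omega) hit (by omega) (by omega)
        · omega
    | one => rfl
    | mul x y _ _ hx hy => rw [Perm.mul_apply, hy, hx]
    | inv x _ hx => rw [Perm.inv_eq_iff_eq]; exact hx.symm
  -- H
  have hH_le : H ≤ G := by rw [hH]; exact inf_le_left.trans inf_le_left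
  have hHq1 : ∀ h ∈ H, h (q 1) = q 1 := by
    intro h hh; rw [hH] at hh; exact hh.1.2
  have hHq2 : ∀ h ∈ H, h (q 2) = q 2 := by
    intro h hh; rw [hH] at hh; exact hh.2
  have hHq : ∀ h ∈ H, ∀ i, 1 ≤ i → i ≤ t → h (q i) = q i := by
    intro h hh i h1 hit
    rcases (by omega : i = 1 ∨ i = 2 ∨ 3 ≤ i) with rfl | rfl | h3
    · exact hHq1 h hh
    · exact hHq2 h hh
    · exact hfix h (hH_le hh) i h3 hit
  -- conjugation formula
  have hconjf : ∀ a b : Perm α, b * a * b⁻¹ = a⁻¹ * (a * b) ^ 2 * (b ^ 2)⁻¹ := by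
    intro a b
    rw [pow_two, pow_two]; group
  -- `s j` normalises `G` for `j ≥ 3`
  have hNG : ∀ j, 3 ≤ j → j + 1 ≤ t → ∀ g ∈ G, s j * g * (s j)⁻¹ ∈ G := by
    intro j hj3 hjt g hg
    have hs1j : s j * s 1 * (s j)⁻¹ ∈ G := by
      rw [hconjf]
      exact G.mul_mem (G.mul_mem (G.inv_mem hs1) (hH_le (hcomm 1 j le_rfl (by omega) hjt).1))
        (G.inv_mem (hH_le (hsq2 j (by omega) hjt)))
    by_cases hg2 : g (q 2) = q 2
    · exact (hnorm j (by omega) hjt g ⟨hg, hg2⟩).1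
    · -- `g = a s₁ b`
      have hOm : ∀ i, 3 ≤ i → i ≤ t → q 2 ≠ q i ∧ q 1 ≠ q i ∧ q 2 ≠ q i ∧ g (q 2) ≠ q i := by
        intro i hi3 hit
        refine ⟨fun h => ?_, fun h => ?_, fun h => ?_, fun h => ?_⟩
        · have := hq 2 i (by omega) (by omega) (by omega) hit h; omega
        · have := hq 1 i (by omega) (by omega) (by omega) hit h; omega
        · have := hq 2 i (by omega) (by omega) (by omega) hit h; omega
        · have h' : g (q 2) = g (q i) := by rw [hfix g hg i hi3 hit]; exact h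
          have := hq 2 i (by omega) (by omega) (by omega) hit (g.injective h'); omega
      have h21 : q 2 ≠ q 1 := fun h => by
        have := hq 2 1 (by omega) (by omega) (by omega) (by omega) h; omega
      obtain ⟨a, ha, ha2, ha1⟩ := h2 (q 2) (q 1) (q 2) (g (q 2)) hOm h21 (Ne.symm hg2)
      have hb : (a * s 1)⁻¹ * g ∈ G := G.mul_mem (G.inv_mem (G.mul_mem ha hs1)) hg
      have hb2 : ((a * s 1)⁻¹ * g) (q 2) = q 2 := by
        rw [Perm.mul_apply, Perm.inv_eq_iff_eq, Perm.mul_apply, hs1q.2]; exact ha1.symm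
      have e : s j * g * (s j)⁻¹ = (s j * a * (s j)⁻¹) * (s j * s 1 * (s j)⁻¹) *
          (s j * ((a * s 1)⁻¹ * g) * (s j)⁻¹) := by group
      rw [e]
      exact G.mul_mem (G.mul_mem (hnorm j (by omega) hjt a ⟨ha, ha2⟩).1 hs1j)
        (hnorm j (by omega) hjt _ ⟨hb, hb2⟩).1
  -- `s j` normalises `KK (j - 1)` for `j ≥ 3`
  have hNK : ∀ j, 3 ≤ j → j + 1 ≤ t → ∀ g ∈ KK (j - 1), s j * g * (s j)⁻¹ ∈ KK (j - 1) := by
    intro j hj3 hjt g hg
    induction hg using Subgroup.closure_induction with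
    | mem x hx =>
      rcases hx with hx | ⟨i, h1, h2, rfl⟩
      · exact hG_le _ (hNG j hj3 hjt x hx)
      · rw [hconjf]
        have hsi : s i ∈ KK (j - 1) := hs_mem i (j - 1) h1 h2
        exact (KK (j - 1)).mul_mem ((KK (j - 1)).mul_mem ((KK (j - 1)).inv_mem hsi)
          (hG_le _ (hH_le (hcomm i j (by omega) (by omega) hjt).1)))
          ((KK (j - 1)).inv_mem (hG_le _ (hH_le (hsq2 j (by omega) hjt))))
    | one => simp
    | mul x y _ _ hx hy =>
      have e : s j * (x * y) * (s j)⁻¹ = (s j * x * (s j)⁻¹) * (s j * y * (s j)⁻¹) := by group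
      rw [e]; exact (KK (j - 1)).mul_mem hx hy
    | inv x _ hx =>
      have e : s j * x⁻¹ * (s j)⁻¹ = (s j * x * (s j)⁻¹)⁻¹ := by group
      rw [e]; exact (KK (j - 1)).inv_mem hx
  -- multiple transitivity
  let Om : ℕ → α → Prop := fun j z => ∀ i, j + 1 ≤ i → i ≤ t → z ≠ q i
  let MT : ℕ → ℕ → Prop := fun j m => ∀ x y : Fin m → α, Function.Injective x →
    Function.Injective y → (∀ l, Om j (x l)) → (∀ l, Om j (y l)) →
    ∃ k ∈ KK j, ∀ l, k (x l) = y l
  have hOmq : ∀ j i, 1 ≤ i → i ≤ j → j ≤ t → Om j (q i) := by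
    intro j i h1 hij hjt i' hi' hi't h
    have := hq i i' h1 (by omega) (by omega) hi't h
    omega
  -- the groups preserve `Om`
  have hOmK : ∀ j, 2 ≤ j → ∀ k ∈ KK j, ∀ z, Om j z → Om j (k z) := by
    intro j hj k hk z hz i hi hit h
    have h' : k z = k (q i) := by rw [hKfix j k hk i (by omega) hi hit]; exact h
    exact hz i hi hit (k.injective h')
  have hbase : ∀ m, m ≤ 2 → MT 2 m := by
    intro m hm x y hx hy hxO hyO
    rw [hKK2]
    rcases (by omega : m = 0 ∨ m = 1 ∨ m = 2) with rfl | rfl | rfl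
    · exact ⟨1, G.one_mem, fun l => l.elim0⟩
    · -- auxiliary second points
      have h12 : q 1 ≠ q 2 := fun h => by
        have := hq 1 2 (by omega) (by omega) (by omega) (by omega) h; omega
      obtain ⟨b, hb, hbO⟩ : ∃ b, x 0 ≠ b ∧ Om 2 b := by
        by_cases h : x 0 = q 1
        · exact ⟨q 2, by rw [h]; exact h12, hOmq 2 2 (by omega) le_rfl ht⟩
        · exact ⟨q 1, h, hOmq 2 1 le_rfl (by omega) ht⟩
      obtain ⟨d, hd, hdO⟩ : ∃ d, y 0 ≠ d ∧ Om 2 d := by
        by_cases h : y 0 = q 1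
        · exact ⟨q 2, by rw [h]; exact h12, hOmq 2 2 (by omega) le_rfl ht⟩
        · exact ⟨q 1, h, hOmq 2 1 le_rfl (by omega) ht⟩
      obtain ⟨g, hg, hg1, -⟩ := h2 (x 0) b (y 0) d
        (fun i hi hit => ⟨hxO 0 i hi hit, hbO i hi hit, hyO 0 i hi hit, hdO i hi hit⟩) hb hd
      refine ⟨g, hg, fun l => ?_⟩
      rw [Subsingleton.elim l 0]; exact hg1
    · obtain ⟨g, hg, hg1, hg2⟩ := h2 (x 0) (x 1) (y 0) (y 1)
        (fun i hi hit => ⟨hxO 0 i hi hit, hxO 1 i hi hit, hyO 0 i hi hit, hyO 1 i hi hit⟩)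
        (fun h => by have := hx h; simp at this) (fun h => by have := hy h; simp at this)
      refine ⟨g, hg, fun l => ?_⟩
      fin_cases l
      · exact hg1
      · exact hg2
  have hstepT : ∀ j, 2 ≤ j → j + 1 ≤ t → (∀ m, m ≤ j → MT j m) → ∀ m, m ≤ j + 1 → MT (j + 1) m := by
    intro j hj hjt IH m hm
    rcases Nat.eq_zero_or_pos m with rfl | hmpos
    · intro x y _ _ _ _
      exact ⟨1, (KK (j + 1)).one_mem, fun l => l.elim0⟩
    obtain ⟨m, rfl⟩ : ∃ m', m = m' + 1 := ⟨m - 1, by omega⟩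
    intro x y hx hy hxO hyO
    have hsj : s j ∈ KK (j + 1) := hs_mem j (j + 1) hj le_rfl
    -- move a point to `q (j+1)`
    have hmove : ∀ z, Om (j + 1) z → ∃ g ∈ KK (j + 1), g z = q (j + 1) := by
      intro z hz
      by_cases hzq : z = q (j + 1)
      · exact ⟨1, (KK (j + 1)).one_mem, hzq⟩
      · have hzO : Om j z := by
          intro i hi hit
          by_cases hij : i = j + 1
          · subst hij; exact hzq
          · exact hz i (by omega) hit
        obtain ⟨k, hk, hk1⟩ := IH 1 (by omega) (fun _ => z) (fun _ => q j)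
          (fun a b _ => Subsingleton.elim a b) (fun a b _ => Subsingleton.elim a b)
          (fun _ => hzO) (fun _ => hOmq j j (by omega) le_rfl (by omega))
        refine ⟨s j * k, (KK (j + 1)).mul_mem hsj (hmono j (j + 1) (by omega) hk), ?_⟩
        rw [Perm.mul_apply, hk1 0]
        exact (hsq j hj hjt).1
    obtain ⟨g1, hg1, hg1x⟩ := hmove (x (Fin.last m)) (hxO _)
    obtain ⟨g2, hg2, hg2y⟩ := hmove (y (Fin.last m)) (hyO _)
    -- the first `m` entries
    have hO' : ∀ (g : Perm α), g ∈ KK (j + 1) → ∀ (w : Fin (m + 1) → α), Function.Injective w →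
        (∀ l, Om (j + 1) (w l)) → g (w (Fin.last m)) = q (j + 1) →
        ∀ l : Fin m, Om j (g (w l.castSucc)) := by
      intro g hg w hw hwO hgl l i hi hit
      by_cases hij : i = j + 1
      · subst hij
        intro h
        have h3 : w l.castSucc = w (Fin.last m) := g.injective (h.trans hgl.symm)
        exact (Fin.castSucc_lt_last l).ne (hw h3)
      · exact hOmK (j + 1) (by omega) g hg _ (hwO _) i (by omega) hit
    obtain ⟨k, hk, hkxy⟩ := IH m (by omega) (fun l => g1 (x l.castSucc)) (fun l => g2 (y l.castSucc))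
      (fun a b h => Fin.castSucc_injective _ (hx (g1.injective h)))
      (fun a b h => Fin.castSucc_injective _ (hy (g2.injective h)))
      (hO' g1 hg1 x hx hxO hg1x) (hO' g2 hg2 y hy hyO hg2y)
    have hkq : k (q (j + 1)) = q (j + 1) := hKfix j k hk (j + 1) (by omega) le_rfl hjt
    refine ⟨g2⁻¹ * k * g1, (KK (j + 1)).mul_mem ((KK (j + 1)).mul_mem ((KK (j + 1)).inv_mem hg2)
      (hmono j (j + 1) (by omega) hk)) hg1, fun l => ?_⟩
    rw [Perm.mul_apply, Perm.mul_apply, Perm.inv_eq_iff_eq]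
    refine Fin.lastCases ?_ (fun l' => ?_) l
    · rw [hg1x, hg2y, hkq]
    · exact hkxy l'
  have hMT : ∀ j, 2 ≤ j → j ≤ t → ∀ m, m ≤ j → MT j m := by
    intro j hj
    induction j, hj using Nat.le_induction with
    | base => intro _; exact hbase
    | succ j hj IH =>
      intro hjt
      exact hstepT j hj hjt (IH (by omega))
  -- one step of the stabiliser chain, given the normalising property
  have hW : ∀ i, 1 ≤ i → i + 2 ≤ t →
      (∀ k ∈ KK (i + 1), k (q (i + 1)) = q (i + 1) →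
        s (i + 1) * k * (s (i + 1))⁻¹ ∈ KK (i + 1) ∧
          (s (i + 1) * k * (s (i + 1))⁻¹) (q (i + 1)) = q (i + 1)) →
      ∀ g ∈ KK (i + 2), g (q (i + 2)) = q (i + 2) → g ∈ KK (i + 1) := by
    intro i hi hit hN g hg hgq
    have hu : s i ∈ KK (i + 1) := by
      rcases (by omega : i = 1 ∨ 2 ≤ i) with rfl | h2i
      · exact hG_le _ hs1
      · exact hs_mem i (i + 1) h2i le_rfl
    have huy : s i (q (i + 1)) = q i := by
      rcases (by omega : i = 1 ∨ 2 ≤ i) with rfl | h2i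
      · exact hs1q.2
      · exact (hsq i h2i (by omega)).2.1
    have hyz : q (i + 1) ≠ q (i + 2) := fun h => by
      have := hq (i + 1) (i + 2) (by omega) (by omega) (by omega) hit h; omega
    have hqi : q i ≠ q (i + 1) := fun h => by
      have := hq i (i + 1) hi (by omega) (by omega) (by omega) h; omega
    have hs2H : s (i + 1) ^ 2 ∈ H := hsq2 (i + 1) (by omega) hit
    refine step_stabilizer (KK (i + 1)) (q (i + 1)) (q (i + 2)) (s i) (s (i + 1)) hu
      (fun k hk => hKfix (i + 1) k hk (i + 2) (by omega) le_rfl hit) hyz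
      (hsq (i + 1) (by omega) hit).2.1 ?_ hN (hG_le _ (hH_le hs2H))
      (hHq _ hs2H (i + 1) (by omega) (by omega))
      (hG_le _ (hH_le (hbraid i hi hit))) g (hsucc (i + 1) hg) hgq
    -- transitivity of the stabiliser
    intro k hk hky
    have hOy : Om (i + 1) (q (i + 1)) := hOmq (i + 1) (i + 1) (by omega) le_rfl (by omega)
    have hOk : Om (i + 1) (k (q (i + 1))) := hOmK (i + 1) (by omega) k hk _ hOy
    have hOi : Om (i + 1) (q i) := hOmq (i + 1) i hi (by omega) (by omega)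
    obtain ⟨a, ha, hax⟩ := hMT (i + 1) (by omega) (by omega) 2 (by omega)
      ![q (i + 1), q i] ![q (i + 1), k (q (i + 1))]
      (injective_pair (Ne.symm hqi)) (injective_pair (Ne.symm hky))
      (forall_pair (P := Om (i + 1)) hOy hOi) (forall_pair (P := Om (i + 1)) hOy hOk)
    refine ⟨a, ha, hax 0, ?_⟩
    rw [huy]; exact hax 1
  -- the stabiliser chain
  have hStab : ∀ i, 1 ≤ i → i + 2 ≤ t → ∀ g ∈ KK (i + 2), g (q (i + 2)) = q (i + 2) →
      g ∈ KK (i + 1) := by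
    intro i hi
    induction i, hi using Nat.le_induction with
    | base =>
      intro hit
      refine hW 1 le_rfl hit (fun k hk hkq => ?_)
      have hk' : k ∈ G := by rw [← hKK2]; exact hk
      have := hnorm 2 le_rfl hit k ⟨hk', hkq⟩
      exact ⟨hG_le _ this.1, this.2⟩
    | succ i hi IH =>
      intro hit
      refine hW (i + 1) (by omega) hit (fun k hk hkq => ?_)
      have hk' : k ∈ KK (i + 1) := IH (by omega) k hk hkq
      have h1 := hNK (i + 2) (by omega) hit k hk'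
      exact ⟨hmono (i + 1) (i + 1 + 1) (by omega) h1,
        hKfix (i + 1) _ h1 (i + 2) (by omega) le_rfl (by omega)⟩
  refine ⟨?_, ?_⟩
  · -- multiple transitivity
    have hT := hMT t ht le_rfl t le_rfl
    rw [MulAction.IsMultiplyPretransitive]
    refine ⟨fun x y => ?_⟩
    obtain ⟨k, hk, hkxy⟩ := hT x y x.injective y.injective
      (fun l i hi hit => by omega) (fun l i hi hit => by omega)
    refine ⟨⟨k, hk⟩, ?_⟩
    ext l
    exact hkxy l
  · apply le_antisymm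
    · rintro g ⟨hgK, hgF⟩
      have hgq : ∀ i, 1 ≤ i → i ≤ t → g (q i) = q i := by
        intro i hi hit
        have hgF' : g ∈ fixingSubgroup (Perm α) {x | ∃ i : ℕ, 1 ≤ i ∧ i ≤ t ∧ x = q i} := hgF
        rw [mem_fixingSubgroup_iff] at hgF'
        exact hgF' (q i) ⟨i, hi, hit, rfl⟩
      have hdown : ∀ n i, 1 ≤ i → i + 1 + n = t → g ∈ KK (i + 1) := by
        intro n
        induction n with
        | zero =>
          intro i hi hit
          have : i + 1 = t := by omega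
          rw [this]; exact hgK
        | succ n IH =>
          intro i hi hit
          have h1 : g ∈ KK (i + 1 + 1) := IH (i + 1) (by omega) (by omega)
          exact hStab i hi (by omega) g h1 (hgq (i + 2) (by omega) (by omega))
      have hgG : g ∈ G := by
        rw [← hKK2]
        exact hdown (t - 2) 1 le_rfl (by omega)
      rw [hH]
      exact ⟨⟨hgG, hgq 1 le_rfl (by omega)⟩, hgq 2 (by omega) ht⟩
    · intro h hh
      refine ⟨hG_le t (hH_le hh), ?_⟩
      show h ∈ fixingSubgroup (Perm α) {x | ∃ i : ℕ, 1 ≤ i ∧ i ≤ t ∧ x = q i}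
      rw [mem_fixingSubgroup_iff]
      rintro y ⟨i, hi, hit, rfl⟩
      exact hHq h hh i hi hit

end Main

end Cfsg.Agent.Helper4.WittLemma
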