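import Mathlib
import Cfsg.Prelude.Def_FischerSpaces
import Cfsg.Agent.Helper14.PCore
import Cfsg.Agent.Helper4.ZStarCorB

set_option autoImplicit false
set_option linter.style.haveILetI false

/-!
# Width one 3-transposition groups (conditional on the Z*-theorem)
-/

namespace Cfsg.Agent.Helper4.ZStarCor

variable {G : Type*} [Group G] [Finite G]

/-- Characterisation of width one. -/
theorem commutingWidth_eq_one_iff {D : Set G} {d : G} (hd : d ∈ D) :
    Cfsg.commutingWidth D = 1 ↔ ∀ a ∈ D, ∀ b ∈ D, Commute a b → a = b := by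
  classical
  set W : Set ℕ := {n : ℕ | ∃ E : Set G, E ⊆ D ∧ E.Finite ∧ (∀ a ∈ E, ∀ b ∈ E, Commute a b) ∧
    E.ncard = n} with hW
  have hcw : Cfsg.commutingWidth D = sSup W := rfl
  have hbdd : BddAbove W := by
    refine ⟨Nat.card G, ?_⟩
    rintro n ⟨E, -, -, -, rfl⟩
    rw [← Set.ncard_univ]
    exact Set.ncard_le_ncard (Set.subset_univ _) Set.finite_univ
  have h1W : 1 ∈ W := by
    refine ⟨{d}, by simpa using hd, Set.finite_singleton _, ?_, Set.ncard_singleton _⟩
    intro a ha b hb
    rw [Set.mem_singleton_iff] at ha hb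
    rw [ha, hb]
  constructor
  · intro h a ha b hb hab
    by_contra hne
    have h2W : 2 ∈ W := by
      refine ⟨{a, b}, ?_, Set.toFinite _, ?_, Set.ncard_pair hne⟩
      · intro x hx
        rcases hx with rfl | rfl
        · exact ha
        · exact hb
      · intro x hx y hy
        rcases hx with rfl | rfl <;> rcases hy with rfl | rfl
        · exact Commute.refl _
        · exact hab
        · exact hab.symm
        · exact Commute.refl _
    have := le_csSup hbdd h2W
    rw [← hcw, h] at this
    omega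
  · intro h
    rw [hcw]
    apply le_antisymm
    · apply csSup_le ⟨1, h1W⟩
      rintro n ⟨E, hED, hEf, hEc, rfl⟩
      rw [Set.ncard_le_one_iff hEf]
      intro a b ha hb
      exact h a (hED ha) b (hED hb) (hEc a ha b hb)
    · exact le_csSup hbdd h1W

theorem width_one_iff (hZ : ZStarFor G) {D : Set G} (hD : Cfsg.IsThreeTranspositionGroup D)
    {d : G} (hd : d ∈ D) :
    Cfsg.commutingWidth D = 1 ↔ Subgroup.zpowers d ⊔ Cfsg.pCore 3 G = ⊤ := by
  classical
  obtain ⟨⟨hord, h23⟩, hconjD, hgen⟩ := hD
  rw [commutingWidth_eq_one_iff hd]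
  have hsq : ∀ a ∈ D, a * a = 1 := by
    intro a ha
    rw [← sq, ← hord a ha, pow_orderOf_eq_one]
  have hinv : ∀ a ∈ D, a⁻¹ = a := fun a ha => inv_eq_of_mul_eq_one_right (hsq a ha)
  constructor
  · intro hw
    -- all products cube to one
    have hcube : ∀ a ∈ D, ∀ b ∈ D, (a * b) ^ 3 = 1 := by
      intro a ha b hb
      rcases h23 a ha b hb with h | h
      · have hab : Commute a b := by
          change a * b = b * a
          have h1 : a * b * (a * b) = 1 := by rw [← sq]; exact h
          calc a * b = a * b * (a * b) * (b⁻¹ * a⁻¹) := by group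
            _ = b * a := by rw [h1, hinv a ha, hinv b hb, one_mul]
        rw [hw a ha b hb hab, hsq b hb, one_pow]
      · exact h
    have hconjd : ∀ a ∈ conjugatesOf d, a ∈ D := by
      intro a ha
      have ha' : IsConj d a := ha
      rw [isConj_iff] at ha'
      obtain ⟨g, rfl⟩ := ha'
      exact hconjD g d hd
    have hprod : ∀ a ∈ conjugatesOf d, ∀ b ∈ conjugatesOf d, ∃ k : ℕ, orderOf (a * b) = 3 ^ k := by
      intro a ha b hb
      have h1 : orderOf (a * b) ∣ 3 ^ 1 := by
        rw [pow_one]; exact orderOf_dvd_of_pow_eq_one (hcube a (hconjd a ha) b (hconjd b hb))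
      obtain ⟨k, -, hk⟩ := (Nat.dvd_prime_pow Nat.prime_three).mp h1
      exact ⟨k, hk⟩
    have hmain := main hZ Nat.prime_three (by norm_num) d (hord d hd) hprod
    -- every member of D is conjugate to d
    have hDconj : ∀ e ∈ D, e ∈ conjugatesOf d := by
      intro e he
      change IsConj d e
      rw [isConj_iff]
      refine ⟨d * e, ?_⟩
      have h1 := hcube d hd e he
      rw [mul_inv_rev, hinv d hd, hinv e he]
      have h2 : d * e * (d * e) * (d * e) = 1 := by rw [← h1, pow_succ, pow_succ, pow_one]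
      calc d * e * d * (e * d) = (d * e * (d * e) * (d * e)) * e⁻¹ := by group
        _ = e := by rw [h2, hinv e he, one_mul]
    rw [eq_top_iff, ← hgen, Subgroup.closure_le]
    intro e he
    have h1 : d * e ∈ Cfsg.pCore 3 G := hmain d mem_conjugatesOf_self e (hDconj e he)
    have h2 : e = d * (d * e) := by
      calc e = (d * d) * e := by rw [hsq d hd, one_mul]
        _ = d * (d * e) := by group
    rw [h2]
    exact Subgroup.mul_mem _ (Subgroup.mem_sup_left (Subgroup.mem_zpowers d)) (Subgroup.mem_sup_right h1)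
  · intro htop a ha b hb hab
    have hOp : IsPGroup 3 (Cfsg.pCore 3 G) := Cfsg.Agent.Helper14.pCore_isPGroup 3
    haveI : (Cfsg.pCore 3 G).Normal := Cfsg.Agent.Helper14.pCore_normal 3
    -- every element lies in O or dO
    have hdec : ∀ g : G, g ∈ Cfsg.pCore 3 G ∨ d * g ∈ Cfsg.pCore 3 G := by
      intro g
      have hg : g ∈ Subgroup.zpowers d ⊔ Cfsg.pCore 3 G := by rw [htop]; trivial
      have hg' : g ∈ ((Subgroup.zpowers d ⊔ Cfsg.pCore 3 G : Subgroup G) : Set G) := hg
      rw [Subgroup.mul_normal] at hg'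
      obtain ⟨h, hh, x, hx, rfl⟩ := Set.mem_mul.mp hg'
      obtain ⟨k, rfl⟩ := Subgroup.mem_zpowers_iff.mp hh
      have hd2 : d ^ (2 : ℤ) = 1 := by
        rw [zpow_ofNat, sq]; exact hsq d hd
      rcases Int.emod_two_eq_zero_or_one k with h0 | h0
      · left
        have : d ^ k = 1 := by
          conv_lhs => rw [← Int.emod_add_mul_ediv k 2, h0, zero_add, zpow_mul, hd2, one_zpow]
        rw [this, one_mul]; exact hx
      · right
        have : d ^ k = d := by
          conv_lhs => rw [← Int.emod_add_mul_ediv k 2, h0, zpow_add, zpow_one, zpow_mul, hd2, one_zpow,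
            mul_one]
        rw [this, ← mul_assoc, hsq d hd, one_mul]; exact hx
    have hnot : ∀ a ∈ D, a ∉ Cfsg.pCore 3 G := by
      intro a ha haO
      obtain ⟨k, hk⟩ := hOp ⟨a, haO⟩
      have h1 : a ^ (3 ^ k) = 1 := by
        have := congrArg (fun u : Cfsg.pCore 3 G => (u : G)) hk
        simpa using this
      have h2 : orderOf a ∣ 3 ^ k := orderOf_dvd_of_pow_eq_one h1
      rw [hord a ha] at h2
      have h3 : (2 : ℕ) ∣ 3 := Nat.prime_two.dvd_of_dvd_pow h2
      omega
    have hda : d * a ∈ Cfsg.pCore 3 G := (hdec a).resolve_left (hnot a ha)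
    have hdb : d * b ∈ Cfsg.pCore 3 G := (hdec b).resolve_left (hnot b hb)
    have hab' : a * b ∈ Cfsg.pCore 3 G := by
      have e : a * b = (d * a)⁻¹ * (d * b) := by
        rw [mul_inv_rev, hinv a ha, hinv d hd]
        calc a * b = a * (d * d) * b := by rw [hsq d hd, mul_one]
          _ = a * d * (d * b) := by group
      rw [e]
      exact Subgroup.mul_mem _ (Subgroup.inv_mem _ hda) hdb
    obtain ⟨k, hk⟩ := hOp ⟨a * b, hab'⟩
    have h1 : (a * b) ^ (3 ^ k) = 1 := by
      have := congrArg (fun u : Cfsg.pCore 3 G => (u : G)) hk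
      simpa using this
    have h2 : (a * b) ^ 2 = 1 := by
      rw [hab.mul_pow, sq, sq, hsq a ha, hsq b hb, one_mul]
    have h3 : orderOf (a * b) ∣ Nat.gcd (3 ^ k) 2 :=
      Nat.dvd_gcd (orderOf_dvd_of_pow_eq_one h1) (orderOf_dvd_of_pow_eq_one h2)
    have h4 : Nat.gcd (3 ^ k) 2 = 1 := by
      apply Nat.Coprime.pow_left; norm_num
    rw [h4, Nat.dvd_one, orderOf_eq_one_iff] at h3
    calc a = a * (a * b) := by rw [h3, mul_one]
      _ = (a * a) * b := by group
      _ = b := by rw [hsq a ha, one_mul]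

end Cfsg.Agent.Helper4.ZStarCor
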