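import Mathlib
import Cfsg.Agent.Helper5.ZasLattice
import Cfsg.Agent.Helper5.ZasIndex
import Cfsg.Agent.Helper6.FrobSemidirect
import Cfsg.Agent.Helper16.NearField2

/-!
# Regular linear groups (complements of sharply doubly transitive groups) and the Zassenhaus setup

* `Lin.exists_setup_of_regular`: a nontrivial linear group over the prime field that is regular on
  the nonzero vectors carries a split linear setup `Zas.Setup` (for another prime).
* `Lin.structure_of_closure`: if the order-three elements of such a group `H` generate a normal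
  binary icosahedral subgroup, then `|V| = 11², 29², 59²` and `H ≅ SL(2,5) × C_m`, `m = 1, 7, 29`.
-/

set_option autoImplicit false

namespace Cfsg.Agent.Helper5.Zas

namespace Lin

open Cfsg.Agent.Helper16.NearField

section Bridge

variable {p : ℕ} [hp : Fact p.Prime] {V : Type*} [AddCommGroup V] [Module (ZMod p) V] [Finite V]
  (H : Subgroup (V ≃ₗ[ZMod p] V))
  (hreg : ∀ v w : V, v ≠ 0 → w ≠ 0 → ∃! h : H, (h : V ≃ₗ[ZMod p] V) v = w)

include hreg in
/-- A nontrivial regular linear group has a split linear setup. -/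
theorem exists_setup_of_regular [Nontrivial V] [Nontrivial H] :
    ∃ (q : ℕ) (_ : Fact q.Prime) (W : Type) (_ : AddCommGroup W) (_ : Module (ZMod q) W)
      (_ : Finite W) (_ : Nontrivial W), Nonempty (Setup q H W) := by
  haveI := finite_of_regular H hreg
  have hfpf : ∀ s : H, s ≠ 1 → ∀ v : V, s • v = v → v = 0 := by
    intro s hs v hv
    by_contra hv0
    exact hs (eq_one_of_fix H hreg hv0 hv)
  obtain ⟨L, iG, iF, H₀, hH₀, ⟨e⟩⟩ := Cfsg.Agent.Helper6.exists_frobenius_of_fpf' hfpf
  obtain ⟨q, hq, W, i1, i2, i3, i4, ⟨S⟩⟩ := exists_setup_of_fc H₀ hH₀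
  exact ⟨q, hq, W, i1, i2, i3, i4, ⟨S.ofEquiv e⟩⟩

end Bridge

/-! ### A quaternion pair in `SL(2,5)` -/

/-- the diagonal element of order four -/
def qa : Matrix.SpecialLinearGroup (Fin 2) (ZMod 5) := ⟨!![2,0;0,3], by decide⟩

/-- the Weyl element of order four -/
def qb : Matrix.SpecialLinearGroup (Fin 2) (ZMod 5) := ⟨!![0,1;4,0], by decide⟩

theorem sl25_quat : ∃ a b : Matrix.SpecialLinearGroup (Fin 2) (ZMod 5),
    a * a ≠ 1 ∧ (a * a) * (a * a) = 1 ∧ b * b = a * a ∧ a * b = (a * a) * (b * a) := by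
  refine ⟨qa, qb, ?_, ?_, ?_, ?_⟩ <;> decide

/-! ### Arithmetic -/

theorem not_isPrimePow_119 : ¬ IsPrimePow (119 * 119) := by
  intro h
  rw [isPrimePow_iff_unique_prime_dvd] at h
  have := h.unique (y₁ := 7) (y₂ := 17) ⟨by norm_num, by norm_num⟩ ⟨by norm_num, by norm_num⟩
  omega

theorem arith_sl25 {u d ι : ℕ} (hι : ι = 1 ∨ ι = 2) (h1 : u * u - 1 = ι * (60 * d))
    (h2 : d ∣ u - 1) (h3 : 2 ∣ d) (h4 : ¬ 3 ∣ d) (hu : 2 ≤ u) (hpp : IsPrimePow (u * u)) :
    (u = 11 ∧ ι = 1 ∧ d = 2) ∨ (u = 29 ∧ ι = 1 ∧ d = 14) ∨ (u = 59 ∧ ι = 1 ∧ d = 58) := by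
  obtain ⟨t, ht⟩ := h2
  have hd0 : d ≠ 0 := by
    rintro rfl
    simp at ht
    omega
  have hle : d ≤ u - 1 := Nat.le_of_dvd (by omega) ⟨t, ht⟩
  have h5 : u * u - 1 = (u - 1) * (u + 1) := by
    obtain ⟨k, rfl⟩ : ∃ k, u = k + 1 := ⟨u - 1, by omega⟩
    have : (k + 1) * (k + 1) = k * (k + 1 + 1) + 1 := by ring
    rw [this]
    simp
  have h6 : d * (t * (u + 1)) = d * (60 * ι) := by
    rw [← mul_assoc, ← ht, ← h5, h1]; ring
  have h7 : t * (u + 1) = 60 * ι := Nat.eq_of_mul_eq_mul_left (Nat.pos_of_ne_zero hd0) h6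
  have h8 : u + 1 ∣ 120 := by
    rcases hι with rfl | rfl
    · exact Dvd.dvd.trans ⟨t, by rw [mul_comm]; omega⟩ (by norm_num : 60 ∣ 120)
    · exact ⟨t, by rw [mul_comm]; omega⟩
  have h9 : u + 1 ≤ 120 := Nat.le_of_dvd (by norm_num) h8
  have h119 : u ≠ 119 := by
    rintro rfl
    exact not_isPrimePow_119 hpp
  have h10 : u ≤ 118 := by omega
  clear h5 h6 h9 hpp ht h7
  interval_cases u <;> rcases hι with rfl | rfl <;> omega

/-! ### A direct factor -/

/-- If `|G| = |N|·m` for an odd prime `m`, `|C_G(N)| = 2m` and `|N ∩ C_G(N)| = 2`, then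
`G ≅ N × C_m`. -/
theorem prod_iso_of_central {G : Type*} [Group G] [Finite G] {m : ℕ} [hm : Fact m.Prime]
    (hm2 : m ≠ 2) (N : Subgroup G)
    (hinf : Nat.card (N ⊓ Subgroup.centralizer (N : Set G) : Subgroup G) = 2)
    (hD : Nat.card (Subgroup.centralizer (N : Set G)) = 2 * m)
    (hG : Nat.card G = Nat.card N * m) {K : Type*} [Group K] (e : N ≃* K) :
    Nonempty (G ≃* K × Multiplicative (ZMod m)) := by
  set D := Subgroup.centralizer (N : Set G) with hDdef
  obtain ⟨g, hg⟩ := exists_prime_orderOf_dvd_card' (G := D) m (by rw [hD]; exact dvd_mul_left m 2)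
  set M : Subgroup G := Subgroup.zpowers (g : G) with hMdef
  have hgo : orderOf (g : G) = m := by rw [Subgroup.orderOf_coe, hg]
  have hMcard : Nat.card M = m := by rw [hMdef, Nat.card_zpowers, hgo]
  have hMD : M ≤ D := by
    rw [hMdef, Subgroup.zpowers_le]
    exact g.2
  have hNM : N ⊓ M = ⊥ := by
    have h1 : Nat.card (N ⊓ M : Subgroup G) ∣ 2 := by
      rw [← hinf]
      exact Subgroup.card_dvd_of_le (inf_le_inf_left N hMD)
    have h2 : Nat.card (N ⊓ M : Subgroup G) ∣ m := by
      rw [← hMcard]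
      exact Subgroup.card_dvd_of_le inf_le_right
    have h3 : Nat.card (N ⊓ M : Subgroup G) ∣ Nat.gcd 2 m := Nat.dvd_gcd h1 h2
    have h4 : Nat.gcd 2 m = 1 := by
      rw [Nat.coprime_primes Nat.prime_two hm.out |>.mpr (Ne.symm hm2)]
    rw [h4, Nat.dvd_one] at h3
    exact Subgroup.card_eq_one.mp h3
  have hcomm : ∀ (n : N) (c : M), Commute (N.subtype n) (M.subtype c) := by
    intro n c
    have hc : (c : G) ∈ D := hMD c.2
    exact (hc n n.2)
  let φ : N × M →* G := MonoidHom.noncommCoprod N.subtype M.subtype hcomm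
  have hφ : ∀ x : N × M, φ x = (x.1 : G) * (x.2 : G) := fun x => rfl
  have hinj : Function.Injective φ := by
    intro x y hxy
    rw [hφ, hφ] at hxy
    have h1 : ((y.1 : G))⁻¹ * (x.1 : G) = (y.2 : G) * ((x.2 : G))⁻¹ := by
      have : (x.1 : G) = (y.1 : G) * (y.2 : G) * ((x.2 : G))⁻¹ := by
        rw [← hxy]; group
      rw [this]; group
    have h2 : ((y.1 : G))⁻¹ * (x.1 : G) ∈ N ⊓ M := by
      refine ⟨N.mul_mem (N.inv_mem y.1.2) x.1.2, ?_⟩
      rw [h1]
      exact M.mul_mem y.2.2 (M.inv_mem x.2.2)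
    rw [hNM, Subgroup.mem_bot] at h2
    have h3 : (x.1 : G) = (y.1 : G) := by
      have := inv_mul_eq_one.mp h2
      exact this.symm
    have h4 : (x.2 : G) = (y.2 : G) := by
      rw [h3] at hxy
      exact mul_left_cancel hxy
    exact Prod.ext (Subtype.ext h3) (Subtype.ext h4)
  have hbij : Function.Bijective φ := by
    rw [Nat.bijective_iff_injective_and_card]
    refine ⟨hinj, ?_⟩
    rw [Nat.card_prod, hMcard, hG]
  have eM : M ≃* Multiplicative (ZMod m) := by
    apply mulEquivOfPrimeCardEq (p := m) hMcard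
    rw [Nat.card_congr Multiplicative.toAdd, Nat.card_zmod]
  exact ⟨(MulEquiv.ofBijective φ hbij).symm.trans (MulEquiv.prodCongr e eM)⟩


section Structure

variable {p : ℕ} [hp : Fact p.Prime] {V : Type*} [AddCommGroup V] [Module (ZMod p) V] [Finite V]
  (H : Subgroup (V ≃ₗ[ZMod p] V))
  (hreg : ∀ v w : V, v ≠ 0 → w ≠ 0 → ∃! h : H, (h : V ≃ₗ[ZMod p] V) v = w)

include hreg in
/-- **Zassenhaus.** If the elements of order three of a regular linear group `H` generate a normal
binary icosahedral subgroup, then `|V| = 11², 29², 59²` and `H ≅ SL(2,5) × C_m`, `m = 1, 7, 29`. -/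
theorem structure_of_closure (N : Subgroup H)
    (hN : N = Subgroup.closure {g : H | orderOf g = 3}) (hNn : N.Normal)
    (π : N →* alternatingGroup (Fin 5)) (hπ : Function.Surjective π)
    (hker : Nat.card π.ker = 2) (e : N ≃* Matrix.SpecialLinearGroup (Fin 2) (ZMod 5)) :
    (Nat.card V = 121 ∧ Nonempty (H ≃* Matrix.SpecialLinearGroup (Fin 2) (ZMod 5))) ∨
    (Nat.card V = 841 ∧ Nonempty (H ≃* Matrix.SpecialLinearGroup (Fin 2) (ZMod 5) ×
      Multiplicative (ZMod 7))) ∨
    (Nat.card V = 3481 ∧ Nonempty (H ≃* Matrix.SpecialLinearGroup (Fin 2) (ZMod 5) ×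
      Multiplicative (ZMod 29))) := by
  have hπidx : π.ker.index = 60 := by
    have h5 := Subgroup.index_ker π
    rw [MonoidHom.range_eq_top.mpr hπ, Subgroup.card_top] at h5
    have h6 : Nat.card (alternatingGroup (Fin 5)) = 60 := by
      rw [Nat.card_eq_fintype_card]; rfl
    rw [h5, h6]
  have hNcard : Nat.card N = 120 := by
    have h3 := Subgroup.card_mul_index π.ker
    rw [hπidx, hker] at h3
    omega
  have hntV : Nontrivial V := by
    by_contra h
    rw [not_nontrivial_iff_subsingleton] at h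
    have h1 : Subsingleton (V ≃ₗ[ZMod p] V) :=
      ⟨fun a b => LinearEquiv.ext fun v => Subsingleton.elim _ _⟩
    have h2 : Subsingleton N :=
      ⟨fun a b => Subtype.ext (Subtype.ext (Subsingleton.elim _ _))⟩
    have h3 : Nat.card N ≤ 1 := Finite.card_le_one_iff_subsingleton.mpr h2
    omega
  have hfin : Finite H := finite_of_regular H hreg
  have hHcard : Nat.card H = Nat.card V - 1 := card_regular H hreg
  -- the quaternion pair
  obtain ⟨a, b, ha1, ha4, hb, hab⟩ := sl25_quat
  set i' : N := e.symm a with hi'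
  set j' : N := e.symm b with hj'
  have hi1 : ((i' : H)) * (i' : H) ≠ 1 := by
    intro h
    have h1 : i' * i' = 1 := Subtype.ext h
    apply ha1
    have := congrArg e h1
    simpa [hi'] using this
  have hi4 : ((i' : H) * (i' : H)) * ((i' : H) * (i' : H)) = 1 := by
    have h1 : (i' * i') * (i' * i') = 1 := by
      rw [hi', ← map_mul, ← map_mul, ha4, map_one]
    exact congrArg Subtype.val h1
  have hjj : (j' : H) * (j' : H) = (i' : H) * (i' : H) := by
    have h1 : j' * j' = i' * i' := by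
      rw [hi', hj', ← map_mul, ← map_mul, hb]
    exact congrArg Subtype.val h1
  have hij : (i' : H) * (j' : H) = ((i' : H) * (i' : H)) * ((j' : H) * (i' : H)) := by
    have h1 : i' * j' = (i' * i') * (j' * i') := by
      rw [hi', hj', ← map_mul, ← map_mul, ← map_mul, ← map_mul, hab]
    exact congrArg Subtype.val h1
  set D : Subgroup H := Subgroup.centralizer (N : Set H) with hD
  have hDi : ∀ d ∈ D, d * (i' : H) = (i' : H) * d := fun d hd => (hd _ i'.2).symm
  have hDj : ∀ d ∈ D, d * (j' : H) = (j' : H) * d := fun d hd => (hd _ j'.2).symm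
  obtain ⟨u, hu, hDu⟩ := quat_count H hreg hi1 hi4 hjj hij D hDi hDj
  -- the index
  haveI := hNn
  have hidx := index_sup_centralizer N hN π hπ hker
  rw [← hD] at hidx
  have hDn : D.Normal := Subgroup.normal_centralizer
  have hsub : D.subgroupOf N = Subgroup.center N := by
    ext s
    rw [Subgroup.mem_subgroupOf, hD, Subgroup.mem_centralizer_iff, Subgroup.mem_center_iff]
    constructor
    · intro h t
      apply Subtype.ext
      exact h t t.2
    · intro h t ht
      exact congrArg Subtype.val (h ⟨t, ht⟩)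
  have hcen : Subgroup.center N = π.ker := (Y4.ker_eq_center N π hπ hker).symm
  have hrel : D.relIndex N = 60 := by
    rw [Subgroup.relIndex, hsub, hcen, hπidx]
  have hinf : Nat.card (N ⊓ D : Subgroup H) = 2 := by
    rw [← hker, ← hcen, ← hsub, ← Subgroup.inf_subgroupOf_left D N]
    exact (Nat.card_congr (Subgroup.subgroupOfEquivOfLe (inf_le_left : N ⊓ D ≤ N)).toEquiv).symm
  have hDidx : D.index = 60 * (N ⊔ D).index := by
    have h3 : D.relIndex (N ⊔ D) * (N ⊔ D).index = D.index :=
      Subgroup.relIndex_mul_index le_sup_right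
    rw [Subgroup.relIndex_sup_right, hrel] at h3
    exact h3.symm
  have hHD : Nat.card H = (N ⊔ D).index * (60 * Nat.card D) := by
    rw [← Subgroup.card_mul_index D, hDidx]
    ring
  have h2D : 2 ∣ Nat.card D := by
    rw [← hinf]
    exact Subgroup.card_dvd_of_le inf_le_right
  have h3D : ¬ 3 ∣ Nat.card D := by
    intro h
    obtain ⟨g, hg⟩ := exists_prime_orderOf_dvd_card' (G := D) 3 h
    have hgo : orderOf (g : H) = 3 := by rw [Subgroup.orderOf_coe, hg]
    have hgN : (g : H) ∈ N := by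
      rw [hN]
      exact Subgroup.subset_closure hgo
    have h1 : orderOf (g : H) ∣ Nat.card (N ⊓ D : Subgroup H) :=
      Subgroup.orderOf_dvd_natCard _ ⟨hgN, g.2⟩
    rw [hgo, hinf] at h1
    omega
  have hVpp : IsPrimePow (u * u) := by
    rw [← hu, Module.natCard_eq_pow_finrank (K := ZMod p) (V := V), Nat.card_zmod]
    have hpos : Module.finrank (ZMod p) V ≠ 0 := by
      intro h0
      have : Nat.card V = 1 := by
        rw [Module.natCard_eq_pow_finrank (K := ZMod p) (V := V), h0, pow_zero]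
      have := Finite.one_lt_card (α := V)
      omega
    exact hp.out.isPrimePow.pow hpos
  have hu2 : 2 ≤ u := by
    by_contra h
    have : u = 0 ∨ u = 1 := by omega
    have hc : 1 < Nat.card V := Finite.one_lt_card
    rcases this with rfl | rfl <;> omega
  have harith := arith_sl25 hidx (by rw [← hu, ← hHcard, hHD]) hDu h2D h3D hu2 hVpp
  rcases harith with ⟨rfl, hι, hd⟩ | ⟨rfl, hι, hd⟩ | ⟨rfl, hι, hd⟩
  · refine Or.inl ⟨hu, ?_⟩
    have hDN : N ⊓ D = D := by
      apply Subgroup.eq_of_le_of_card_ge inf_le_right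
      rw [hinf, hd]
    have hsup : N ⊔ D = ⊤ := Subgroup.index_eq_one.mp hι
    have hNtop : N = ⊤ := by
      rw [← hsup]
      exact (sup_eq_left.mpr (hDN ▸ inf_le_left)).symm
    exact ⟨(Subgroup.topEquiv.symm.trans (MulEquiv.subgroupCongr hNtop.symm)).trans e⟩
  · refine Or.inr (Or.inl ⟨hu, ?_⟩)
    haveI : Fact (Nat.Prime 7) := ⟨by norm_num⟩
    apply prod_iso_of_central (m := 7) (by norm_num) N hinf (by rw [← hD, hd]) _ e
    rw [hHD, hι, hd, hNcard]
  · refine Or.inr (Or.inr ⟨hu, ?_⟩)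
    haveI : Fact (Nat.Prime 29) := ⟨by norm_num⟩
    apply prod_iso_of_central (m := 29) (by norm_num) N hinf (by rw [← hD, hd]) _ e
    rw [hHD, hι, hd, hNcard]

end Structure

end Lin

end Cfsg.Agent.Helper5.Zas
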